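import Groth.Statements.S6815
import Mathlib.CategoryTheory.Limits.FunctorCategory.Basic
import Mathlib.CategoryTheory.Limits.Preserves.Shapes.Products

set_option autoImplicit false
open CategoryTheory CategoryTheory.Limits
universe w v u
open CategoryTheory CategoryTheory.SimplicialObject

namespace Groth.Agent.S6815

/-- Homotopies between the factors of two product morphisms of simplicial objects assemble to a homotopy
between the products. -/
theorem result {C : Type u} [Category.{v} C] {T : Type w} [HasLimitsOfShape (Discrete T) C] {X Y : T → SimplicialObject C} (a b : ∀ t, X t ⟶ Y t) (h : ∀ t, Nonempty (SimplicialObject.Homotopy (a t) (b t))) : Nonempty (SimplicialObject.Homotopy (Limits.Pi.map a) (Limits.Pi.map b)) := by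
  have : HasLimitsOfShape (Discrete T) (SimplicialObject C) :=
    inferInstanceAs (HasLimitsOfShape (Discrete T) (SimplexCategoryᵒᵖ ⥤ C))
  let H := fun t => (h t).some
  let hl := fun n : SimplexCategoryᵒᵖ =>
    isLimitFanMkObjOfIsLimit ((evaluation _ C).obj n) Y (fun t => Pi.π Y t) (productIsProduct Y)
  have hext : ∀ {W : C} (n : SimplexCategoryᵒᵖ) {u v : W ⟶ (∏ᶜ Y).obj n},
      (∀ t, u ≫ (Pi.π Y t).app n = v ≫ (Pi.π Y t).app n) → u = v :=
    fun n _ _ huv => Fan.IsLimit.hom_ext (hl n) _ _ huv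
  let hh : ∀ {n : ℕ}, Fin (n + 1) →
      ((∏ᶜ X).obj (Opposite.op (SimplexCategory.mk n)) ⟶
        (∏ᶜ Y).obj (Opposite.op (SimplexCategory.mk (n + 1)))) :=
    fun {n} i => Fan.IsLimit.lift (hl _) fun t => (Pi.π X t).app _ ≫ (H t).h i
  have hπ : ∀ {n : ℕ} (i : Fin (n + 1)) (t : T),
      hh i ≫ (Pi.π Y t).app _ = (Pi.π X t).app _ ≫ (H t).h i :=
    fun {n} i t => (hl _).fac _ ⟨t⟩
  have hmap : ∀ (c : ∀ t, X t ⟶ Y t) (t : T) (n : SimplexCategoryᵒᵖ),
      (Limits.Pi.map c).app n ≫ (Pi.π Y t).app n = (Pi.π X t).app n ≫ (c t).app n := fun c t n => by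
    rw [← NatTrans.comp_app, Pi.map_π]; rfl
  have nδ : ∀ (Z : T → SimplicialObject C) (t : T) {n : ℕ} (j : Fin (n + 2)),
      (∏ᶜ Z).δ j ≫ (Pi.π Z t).app _ = (Pi.π Z t).app _ ≫ (Z t).δ j := fun Z t n j =>
    (Pi.π Z t).naturality _
  have nσ : ∀ (Z : T → SimplicialObject C) (t : T) {n : ℕ} (j : Fin (n + 1)),
      (∏ᶜ Z).σ j ≫ (Pi.π Z t).app _ = (Pi.π Z t).app _ ≫ (Z t).σ j := fun Z t n j =>
    (Pi.π Z t).naturality _
  refine ⟨{ h := hh, h_zero_comp_δ_zero := ?_, h_last_comp_δ_last := ?_,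
            h_succ_comp_δ_castSucc_of_lt := ?_, h_succ_comp_δ_castSucc_succ := ?_,
            h_castSucc_comp_δ_succ_of_lt := ?_, h_comp_σ_castSucc_of_le := ?_,
            h_comp_σ_succ_of_lt := ?_ }⟩
  all_goals intros
  all_goals refine hext _ fun t => ?_
  all_goals simp only [Category.assoc, nδ, nσ, hmap, reassoc_of% hπ, hπ]
  all_goals try simp only [SimplicialObject.Homotopy.h_zero_comp_δ_zero,
    SimplicialObject.Homotopy.h_last_comp_δ_last, SimplicialObject.Homotopy.h_succ_comp_δ_castSucc_succ]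
  all_goals first
    | rfl
    | (rw [SimplicialObject.Homotopy.h_succ_comp_δ_castSucc_of_lt _ _ _ (by assumption), reassoc_of% nδ])
    | (rw [SimplicialObject.Homotopy.h_castSucc_comp_δ_succ_of_lt _ _ _ (by assumption), reassoc_of% nδ])
    | (rw [SimplicialObject.Homotopy.h_comp_σ_castSucc_of_le _ _ _ (by assumption), reassoc_of% nσ])
    | (rw [SimplicialObject.Homotopy.h_comp_σ_succ_of_lt _ _ _ (by assumption), reassoc_of% nσ])

end Groth.Agent.S6815
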