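import Groth.Statements.S6816


set_option autoImplicit false
open CategoryTheory CategoryTheory.Limits
universe v u
open CochainComplex

namespace Groth.Agent.S6816
open CategoryTheory CategoryTheory.Category CategoryTheory.Preadditive
/-- Change of splitting in one step of a degreewise split sequence. -/
lemma key {C : Type u} [Category.{v} C] [Preadditive C] {A B D A' B' D' : C}
    {f : A ⟶ B} {g : B ⟶ D} {f' : A' ⟶ B'} {g' : B' ⟶ D'}
    (dA : A ⟶ A') (dB : B ⟶ B') (dD : D ⟶ D')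
    (hf : f ≫ dB = dA ≫ f') (hg : g ≫ dD = dB ≫ g') (w : f ≫ g = 0) (w' : f' ≫ g' = 0)
    (s t : D ⟶ B) (r : B ⟶ A) (r' q' : B' ⟶ A') (s' t' : D' ⟶ B')
    (id1 : r ≫ f + g ≫ s = 𝟙 B) (id2 : r' ≫ f' + g' ≫ s' = 𝟙 B')
    (sg : s ≫ g = 𝟙 D) (tg : t ≫ g = 𝟙 D) (tg' : t' ≫ g' = 𝟙 D') (fr' : f' ≫ r' = 𝟙 A')
    (fq' : f' ≫ q' = 𝟙 A') (tq' : t' ≫ q' = 0) :
    s ≫ dB ≫ r' - t ≫ dB ≫ q' = dD ≫ (t' ≫ r') - (t ≫ r) ≫ dA := by
  have hs : t = (t ≫ r) ≫ f + s := by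
    have h := t ≫= id1
    rw [comp_id, comp_add, reassoc_of% tg] at h
    rw [assoc]; exact h.symm
  have hs' : t' = (t' ≫ r') ≫ f' + s' := by
    have h := t' ≫= id2
    rw [comp_id, comp_add, reassoc_of% tg'] at h
    rw [assoc]; exact h.symm
  have hq : q' = r' - g' ≫ (t' ≫ r') := by
    have h1 := id2 =≫ q'
    rw [id_comp, add_comp, assoc, fq', comp_id, assoc] at h1
    have h2 := hs' =≫ q'
    rw [tq', add_comp, assoc, fq', comp_id] at h2
    have h3 : s' ≫ q' = -(t' ≫ r') := eq_neg_of_add_eq_zero_right h2.symm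
    rw [h3, comp_neg] at h1
    rw [← h1]; abel
  generalize ha : t ≫ r = a at hs ⊢
  generalize hb : t' ≫ r' = b at hq ⊢
  subst hs hq
  simp only [add_comp, comp_sub, assoc, reassoc_of% hf, reassoc_of% w, reassoc_of% w', fr', comp_id, zero_comp,
    comp_zero, ← reassoc_of% hg, reassoc_of% sg]
  abel

theorem result {C : Type u} [Category.{v} C] [Preadditive C] [HasBinaryBiproducts C] (S : ShortComplex (CochainComplex C ℤ)) (σ σ' : ∀ n : ℤ, (S.map (HomologicalComplex.eval C (ComplexShape.up ℤ) n)).Splitting) : Nonempty (Homotopy (CochainComplex.homOfDegreewiseSplit S σ) (CochainComplex.homOfDegreewiseSplit S σ')) := by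
  let a : ∀ n : ℤ, S.X₃.X n ⟶ S.X₁.X n := fun n => (σ' n).s ≫ (σ n).r
  refine ⟨{
    hom := fun i j => if h : j + 1 = i then
      (S.X₃.XIsoOfEq h.symm).hom ≫ a (j + 1) else 0
    zero := fun i j h => dif_neg h
    comm := fun i => ?_ }⟩
  obtain ⟨j, rfl⟩ : ∃ j, i = j + 1 := ⟨i - 1, (sub_add_cancel i 1).symm⟩
  rw [dNext_eq _ (show (ComplexShape.up ℤ).Rel (j + 1) (j + 1 + 1) from rfl),
    prevD_eq _ (show (ComplexShape.up ℤ).Rel j (j + 1) from rfl)]
  have h := key (S.X₁.d (j + 1) (j + 1 + 1)) (S.X₂.d (j + 1) (j + 1 + 1))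
    (S.X₃.d (j + 1) (j + 1 + 1)) (S.f.comm _ _) (S.g.comm _ _)
    (by rw [← HomologicalComplex.comp_f, S.zero, HomologicalComplex.zero_f])
    (by rw [← HomologicalComplex.comp_f, S.zero, HomologicalComplex.zero_f])
    (σ (j + 1)).s (σ' (j + 1)).s (σ (j + 1)).r (σ (j + 1 + 1)).r (σ' (j + 1 + 1)).r
    (σ (j + 1 + 1)).s (σ' (j + 1 + 1)).s (σ (j + 1)).id (σ (j + 1 + 1)).id (σ (j + 1)).s_g
    (σ' (j + 1)).s_g (σ' (j + 1 + 1)).s_g (σ (j + 1 + 1)).f_r (σ' (j + 1 + 1)).f_r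
    (σ' (j + 1 + 1)).s_r
  rw [sub_eq_iff_eq_add] at h
  simp only [CochainComplex.homOfDegreewiseSplit_f, CochainComplex.cocycleOfDegreewiseSplit,
    CochainComplex.HomComplex.Cocycle.mk_coe, CochainComplex.HomComplex.Cochain.mk_v, dif_pos, HomologicalComplex.XIsoOfEq_rfl, Iso.refl_hom,
    id_comp, CochainComplex.shiftFunctor_obj_d', Int.negOnePow_one, Units.neg_smul, one_smul,
    comp_neg]
  exact h.trans (congrArg (· + _) ((sub_eq_add_neg _ _).trans (congrArg (_ + ·) (comp_neg _ _).symm)))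

end Groth.Agent.S6816
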