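import Groth.Statements.S6817
import Groth.Agent.SSetLib.Normalized
import Mathlib.AlgebraicTopology.SimplicialObject.ChainHomotopy
import Mathlib.AlgebraicTopology.SimplicialSet.Homotopy
import Mathlib.Algebra.Category.Grp.Adjunctions

set_option autoImplicit false
open CategoryTheory
universe u
open SSet

namespace Groth.Agent.S6817

open Groth.Agent.SSetLib Simplicial Opposite AlgebraicTopology AlgebraicTopology.DoldKan

/-- Free simplicial abelian group on a simplicial set. -/
noncomputable abbrev L (S : SSet.{u}) : SimplicialObject AddCommGrpCat.{u} :=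
  S ⋙ AddCommGrpCat.free

/-- Linearization of a map. -/
noncomputable abbrev Lmap {S T : SSet.{u}} (g : S ⟶ T) : Alt (L S) ⟶ Alt (L T) :=
  (alternatingFaceMapComplex AddCommGrpCat.{u}).map (Functor.whiskerRight g AddCommGrpCat.free)

lemma homologyMap_eq_of {S T : SSet.{u}} {a b : S ⟶ T}
    (h : Nonempty (SSet.Homotopy a b) ∨ Nonempty (SSet.Homotopy b a)) (n : ℕ) :
    HomologicalComplex.homologyMap (Lmap a) n = HomologicalComplex.homologyMap (Lmap b) n := by
  rcases h with h | h <;> obtain ⟨H⟩ := h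
  · exact ((H.toSimplicialObjectHomotopy.whiskerRight AddCommGrpCat.free).toChainHomotopy).homologyMap_eq n
  · exact (((H.toSimplicialObjectHomotopy.whiskerRight AddCommGrpCat.free).toChainHomotopy).homologyMap_eq n).symm

variable (X : SimplicialObject AddCommGrpCat.{u})

/-- Evaluation of formal sums. -/
noncomputable def ev : L (X ⋙ forget AddCommGrpCat.{u}) ⟶ X :=
  Functor.whiskerLeft X AddCommGrpCat.adj.counit

/-- The formal difference of a simplex and zero. -/
noncomputable def lift {n : ℕ} (z : (Alt X).X n) : (Alt (L (X ⋙ forget AddCommGrpCat.{u}))).X n :=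
  (FreeAbelianGroup.of (α := ↥(X _⦋n⦌)) z - FreeAbelianGroup.of (0 : X _⦋n⦌) : FreeAbelianGroup (X _⦋n⦌))

lemma ev_lift {n : ℕ} (z : (Alt X).X n) :
    ((alternatingFaceMapComplex AddCommGrpCat.{u}).map (ev X)).f n (lift X z) = z := by
  show (AddCommGrpCat.adj.counit.app (X.obj (op ⦋n⦌))) (lift X z) = z
  show (AddCommGrpCat.adj.counit.app (X.obj (op ⦋n⦌))).hom (lift X z) = z
  refine (map_sub (AddCommGrpCat.adj.counit.app (X.obj (op ⦋n⦌))).hom _ _).trans ?_
  erw [FreeAbelianGroup.lift_apply_of, FreeAbelianGroup.lift_apply_of]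
  exact sub_zero _

lemma δ_lift {n : ℕ} (j : Fin (n + 2)) (z : (Alt X).X (n + 1)) :
    (L (X ⋙ forget AddCommGrpCat.{u})).δ j (lift X z) = lift X (X.δ j z) := by
  refine (map_sub ((L (X ⋙ forget AddCommGrpCat.{u})).δ j).hom _ _).trans ?_
  show FreeAbelianGroup.map _ (FreeAbelianGroup.of z) - FreeAbelianGroup.map _ (FreeAbelianGroup.of 0) =
    FreeAbelianGroup.of (X.δ j z) - FreeAbelianGroup.of (0 : X _⦋n⦌)
  rw [FreeAbelianGroup.map_of_apply, FreeAbelianGroup.map_of_apply]
  congr 2
  exact map_zero (X.δ j).hom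

lemma lift_zero (n : ℕ) : lift X (0 : (Alt X).X n) = 0 := sub_self _

lemma isNorm_lift {n : ℕ} {z : (Alt X).X n} (hz : IsNorm z) : IsNorm (lift X z) := by
  cases n with
  | zero => trivial
  | succ n => exact fun j => (δ_lift X j.succ z).trans ((congrArg (lift X) (hz j)).trans (lift_zero X n))

lemma d_lift {n : ℕ} {z : (Alt X).X (n + 1)} (hz : IsNorm z) :
    (Alt (L (X ⋙ forget AddCommGrpCat.{u}))).d (n + 1) n (lift X z) = lift X ((Alt X).d (n + 1) n z) := by
  rw [d_apply_of_isNorm (isNorm_lift X hz), d_apply_of_isNorm hz]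
  exact δ_lift X 0 z

lemma isCyc_lift {n : ℕ} {z : (Alt X).X n} (hz : IsNorm z) (hc : AbCx.IsCyc z) :
    AbCx.IsCyc (lift X z) := by
  cases n with
  | zero => exact AbCx.isCyc_zero _
  | succ n =>
    rw [AbCx.isCyc_succ] at hc ⊢
    rw [d_lift X hz, hc, lift_zero]

lemma isBd_map {K M : ChainComplex AddCommGrpCat.{u} ℕ} (φ : K ⟶ M) {n : ℕ} {z : K.X n}
    (h : AbCx.IsBd z) : AbCx.IsBd (φ.f n z) := by
  obtain ⟨c, rfl⟩ := h
  exact ⟨φ.f (n + 1) c, ConcreteCategory.congr_hom (φ.comm (n + 1) n) c⟩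

lemma isCyc_PInfty {n : ℕ} {z : (Alt X).X n} (hz : AbCx.IsCyc z) :
    AbCx.IsCyc (K := Alt X) ((PInfty : Alt X ⟶ Alt X).f n z) := by
  cases n with
  | zero => exact AbCx.isCyc_zero _
  | succ n =>
    rw [AbCx.isCyc_succ] at hz ⊢
    exact (ConcreteCategory.congr_hom ((PInfty : Alt X ⟶ Alt X).comm (n + 1) n) z).trans
      ((congrArg _ hz).trans (map_zero ((PInfty : Alt X ⟶ Alt X).f n).hom))

/-- A homomorphism of simplicial abelian groups whose underlying map of simplicial sets is a homotopy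
equivalence induces a quasi-isomorphism of associated chain complexes. (The published statement
allows the composites with a homotopy inverse to be joined to the identities by chains of
homotopies; this row assumes single homotopies, in either direction.) -/
theorem result {X Y : SimplicialObject AddCommGrpCat.{u}} (f : X ⟶ Y) (g : (Y ⋙ forget AddCommGrpCat.{u} : SSet.{u}) ⟶ (X ⋙ forget AddCommGrpCat.{u} : SSet.{u})) (hX : Nonempty (SSet.Homotopy (Functor.whiskerRight f (forget AddCommGrpCat.{u}) ≫ g) (𝟙 _)) ∨ Nonempty (SSet.Homotopy (𝟙 _) (Functor.whiskerRight f (forget AddCommGrpCat.{u}) ≫ g))) (hY : Nonempty (SSet.Homotopy (g ≫ Functor.whiskerRight f (forget AddCommGrpCat.{u})) (𝟙 _)) ∨ Nonempty (SSet.Homotopy (𝟙 _) (g ≫ Functor.whiskerRight f (forget AddCommGrpCat.{u})))) : QuasiIso ((AlgebraicTopology.alternatingFaceMapComplex AddCommGrpCat.{u}).map f) := by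
  let φ := Lmap (Functor.whiskerRight f (forget AddCommGrpCat.{u}))
  let γ := Lmap g
  let Φ : Alt X ⟶ Alt Y := (alternatingFaceMapComplex AddCommGrpCat.{u}).map f
  let EX := (alternatingFaceMapComplex AddCommGrpCat.{u}).map (ev X)
  let EY := (alternatingFaceMapComplex AddCommGrpCat.{u}).map (ev Y)
  have hφ : ∀ n, QuasiIsoAt φ n := by
    intro n
    rw [quasiIsoAt_iff_isIso_homologyMap]
    refine ⟨HomologicalComplex.homologyMap γ n, ?_, ?_⟩
    · rw [← HomologicalComplex.homologyMap_comp, ← HomologicalComplex.homologyMap_id]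
      refine Eq.trans ?_ ((homologyMap_eq_of hX n).trans ?_)
      · congr 1
        simp only [φ, γ, Lmap, ← Functor.map_comp, Functor.whiskerRight_comp]
      · simp only [Lmap, Functor.whiskerRight_id', CategoryTheory.Functor.map_id]
    · rw [← HomologicalComplex.homologyMap_comp, ← HomologicalComplex.homologyMap_id]
      refine Eq.trans ?_ ((homologyMap_eq_of hY n).trans ?_)
      · congr 1
        simp only [φ, γ, Lmap, ← Functor.map_comp, Functor.whiskerRight_comp]
      · simp only [Lmap, Functor.whiskerRight_id', CategoryTheory.Functor.map_id]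
  have hEφ : φ ≫ EY = EX ≫ Φ := by
    simp only [φ, EX, EY, Φ, Lmap, ← Functor.map_comp]
    congr 1
    apply NatTrans.ext
    funext k
    exact AddCommGrpCat.adj.counit.naturality (f.app k)
  refine ⟨fun n => AbCx.quasiIsoAt_of Φ (fun z hz hb => ?_) (fun w hw => ?_)⟩
  · have := hφ n
    let z₁ : (Alt X).X n := (PInfty : Alt X ⟶ Alt X).f n z
    have h₁ : AbCx.IsBd (z - z₁) := isBd_self_sub_PInfty hz
    have hn : IsNorm z₁ := isNorm_PInfty z
    have hb₁ : AbCx.IsBd (Φ.f n z₁) := by
      obtain ⟨a, ha⟩ := hb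
      obtain ⟨b, hb'⟩ := isBd_map Φ h₁
      refine ⟨a - b, ?_⟩
      rw [map_sub, ha, hb', map_sub, sub_sub_cancel]
    have hn' : IsNorm (Φ.f n z₁) := by
      cases n with
      | zero => trivial
      | succ m =>
        intro j
        refine (ConcreteCategory.congr_hom (f.naturality (SimplexCategory.δ j.succ).op).symm z₁).trans ?_
        exact (congrArg (f.app _) (hn j)).trans (map_zero (f.app (op ⦋m⦌)).hom)
    obtain ⟨c, hc, hc0⟩ := exists_norm_bd hn' hb₁
    have hl : AbCx.IsBd (φ.f n (lift X z₁)) := by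
      refine ⟨lift Y c, ?_⟩
      rw [d_lift Y hc, d_apply_of_isNorm hc, hc0]
      show lift Y _ = FreeAbelianGroup.map _ (FreeAbelianGroup.of (α := ↥(X _⦋n⦌)) z₁ - FreeAbelianGroup.of (0 : X _⦋n⦌))
      rw [map_sub, FreeAbelianGroup.map_of_apply, FreeAbelianGroup.map_of_apply]
      show FreeAbelianGroup.of _ - FreeAbelianGroup.of _ = _
      congr 2
      exact (map_zero (f.app (op ⦋n⦌)).hom).symm
    have h₂ := isBd_map EX (AbCx.isBd_of_quasiIsoAt φ (isCyc_lift X hn (isCyc_PInfty X hz)) hl)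
    rw [ev_lift X z₁] at h₂
    obtain ⟨a, ha⟩ := h₁
    obtain ⟨b, hb'⟩ := h₂
    exact ⟨a + b, by rw [map_add, ha, hb', sub_add_cancel]⟩
  · have := hφ n
    let w₁ : (Alt Y).X n := (PInfty : Alt Y ⟶ Alt Y).f n w
    have h₁ : AbCx.IsBd (w - w₁) := isBd_self_sub_PInfty hw
    obtain ⟨z', hz', hb⟩ := AbCx.exists_cyc_of_quasiIsoAt φ
      (isCyc_lift Y (isNorm_PInfty w) (isCyc_PInfty Y hw))
    refine ⟨EX.f n z', ?_, ?_⟩
    · cases n with
      | zero => exact AbCx.isCyc_zero _
      | succ m =>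
        rw [AbCx.isCyc_succ] at hz' ⊢
        exact (ConcreteCategory.congr_hom (EX.comm (m + 1) m) z').trans
          ((congrArg _ hz').trans (map_zero (EX.f m).hom))
    · have h₂ := isBd_map EY hb
      rw [map_sub, ev_lift Y w₁,
        show EY.f n (φ.f n z') = Φ.f n (EX.f n z') from
          ConcreteCategory.congr_hom (HomologicalComplex.congr_hom hEφ n) z'] at h₂
      obtain ⟨a, ha⟩ := h₁
      obtain ⟨b, hb'⟩ := h₂
      exact ⟨a + b, by rw [map_add, ha, hb', sub_add_sub_cancel]⟩

end Groth.Agent.S6817
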