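import Groth.Statements.S6820
import Mathlib.RingTheory.Noetherian.Basic
import Mathlib.Algebra.Module.LocalizedModule.Basic
-- import your own Groth.Agent.* helpers here

set_option autoImplicit false
universe u
open Smoothing

namespace Groth.Agent.S6820

/-- Let A be a Noetherian ring, M a finite A-module, S a multiplicative subset of A and π an element of
A such that on the localised module S⁻¹M the kernels of multiplication by π and by π² agree. Then
there is an element s of S such that for every n > 0 the kernels of multiplication by sⁿπ and by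
(sⁿπ)² on M agree. (Kernel equalities are written as implications, the reverse inclusions being
automatic.) -/
theorem result {A : Type u} [CommRing A] [IsNoetherianRing A]
    (M : Type u) [AddCommGroup M] [Module A M] [Module.Finite A M] (S : Submonoid A) (π : A)
    (h : ∀ m : LocalizedModule S M, π ^ 2 • m = 0 → π • m = 0) :
    ∃ s ∈ S, ∀ n : ℕ, 0 < n → ∀ m : M, (s ^ n * π) ^ 2 • m = 0 → (s ^ n * π) • m = 0 := by
  classical
  obtain ⟨G, hG⟩ := (IsNoetherian.noetherian (LinearMap.ker (LinearMap.lsmul A M (π ^ 2))) :
    (LinearMap.ker (LinearMap.lsmul A M (π ^ 2))).FG)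
  have hloc : ∀ m : M, π ^ 2 • m = 0 → ∃ s ∈ S, s • π • m = 0 := by
    intro m hm
    have h1 : π ^ 2 • LocalizedModule.mkLinearMap S M m = 0 := by rw [← map_smul, hm, map_zero]
    have h2 := h _ h1
    rw [← map_smul, ← LinearMap.mem_ker, LocalizedModule.mem_ker_mkLinearMap_iff] at h2
    exact h2
  choose! sf hsS hsm using hloc
  have hGk : ∀ g ∈ G, π ^ 2 • g = 0 := fun g hg => by
    have : g ∈ LinearMap.ker (LinearMap.lsmul A M (π ^ 2)) := hG ▸ Submodule.subset_span hg
    exact this
  let s := ∏ g ∈ G, sf g
  have hs : s ∈ S := Submonoid.prod_mem S fun g hg => hsS g (hGk g hg)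
  have hkill : ∀ m : M, π ^ 2 • m = 0 → s • π • m = 0 := by
    intro m hm
    have hle : LinearMap.ker (LinearMap.lsmul A M (π ^ 2)) ≤
        LinearMap.ker (LinearMap.lsmul A M (s * π)) := by
      rw [← hG, Submodule.span_le]
      intro g hg
      show (s * π) • g = 0
      have e : s = (∏ g' ∈ G.erase g, sf g') * sf g := (Finset.prod_erase_mul _ _ hg).symm
      rw [e, mul_assoc, mul_smul, mul_smul, hsm g (hGk g hg), smul_zero]
    have := hle hm
    rw [← mul_smul]; exact this
  let chain : ℕ →o Submodule A M :=
    ⟨fun k => LinearMap.ker (LinearMap.lsmul A M (s ^ k)), fun i j hij m hm => by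
      show s ^ j • m = 0
      rw [← Nat.sub_add_cancel hij, pow_add, mul_smul, show s ^ i • m = 0 from hm, smul_zero]⟩
  obtain ⟨N, hN⟩ := monotone_stabilizes_iff_noetherian.2 (inferInstance : IsNoetherian A M) chain
  refine ⟨s ^ (N + 1), pow_mem hs _, fun n hn m hm => ?_⟩
  set j := (N + 1) * n
  have hj : N + 1 ≤ j := Nat.le_mul_of_pos_right _ hn
  rw [← pow_mul] at hm ⊢
  have h1 : s • π • (s ^ (2 * j)) • m = 0 := by
    apply hkill
    rw [← hm, smul_smul]
    congr 1
    ring
  have h2 : s ^ (2 * j + 1) • (π • m) = 0 := by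
    rw [← h1, smul_smul, smul_smul, smul_smul]
    congr 1
    ring
  have h3 : π • m ∈ chain (2 * j + 1) := h2
  rw [← hN (2 * j + 1) (by omega), hN j (by omega)] at h3
  rw [mul_smul]
  exact h3

end Groth.Agent.S6820
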