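import Groth.Statements.S6821
import Groth.Agent.SmoothingLib.IndNilp

set_option autoImplicit false
universe u
open Smoothing

namespace Groth.Agent.S6821

open MvPolynomial Groth.Agent.SmoothingLib.IndNilp

/-- Let R → Λ be a flat ring map and I ⊆ R an ideal with I² = 0 such that Λ/IΛ is ind-smooth over R/I
(every map from a finitely presented algebra factors through a smooth one). Let B be a smooth
R-algebra, φ : B → Λ an R-algebra map and J ⊆ IB a finitely generated ideal with φ(J) = 0. Then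
there are a smooth R-algebra B' and R-algebra maps α : B → B' and β : B' → Λ with α(J) = 0 and
β(α(b)) − φ(b) ∈ IΛ for all b. -/
theorem result {R Λ B : Type u} [CommRing R] [CommRing Λ] [Algebra R Λ] [Module.Flat R Λ]
    (I : Ideal R) (hI : I ^ 2 = ⊥) (h : Smoothing.IndSmooth (R ⧸ I) (Λ ⧸ I.map (algebraMap R Λ)))
    [CommRing B] [Algebra R B] [Algebra.Smooth R B] (φ : B →ₐ[R] Λ) (J : Ideal B)
    (hJ : J ≤ I.map (algebraMap R B)) (hJfg : J.FG) (hφJ : ∀ x ∈ J, φ x = 0) :
    ∃ (B' : Type u) (_ : CommRing B') (_ : Algebra R B'), Algebra.Smooth R B' ∧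
      ∃ (α : B →ₐ[R] B') (β : B' →ₐ[R] Λ), (∀ x ∈ J, α x = 0) ∧
        ∀ b : B, β (α b) - φ b ∈ I.map (algebraMap R Λ) := by
  classical
  have hnil : IsNilpotent I := ⟨2, by rw [hI]; rfl⟩
  obtain ⟨N, π, hπ, hfg⟩ := ‹Algebra.Smooth R B›.finitePresentation.out
  obtain ⟨M, G, hG⟩ := Submodule.fg_iff_exists_fin_generating_family.1 hfg
  obtain ⟨m, e, he⟩ := Submodule.fg_iff_exists_fin_generating_family.1 hJfg
  choose E hE using fun j => hπ (e j)
  have hem : ∀ j, e j ∈ J := fun j => he ▸ Submodule.subset_span ⟨j, rfl⟩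
  obtain ⟨C, _, _, hC, kC, d, hdG, hdE, hkd⟩ := exists_kill (K := ⊥) bot_le
    (by rw [← pow_two, hI]) (solvable_of_indSmooth I hnil h) π G hπ hG.symm φ E
    (fun j => by rw [hE]; exact hJ (hem j))
    (fun j => by rw [hE, hφJ _ (hem j)]; exact Submodule.zero_mem _)
  have hbot : ∀ {y : C}, y ∈ (⊥ : Ideal R).map (algebraMap R C) → y = 0 := fun hy => by
    rwa [Ideal.map_bot, Ideal.mem_bot] at hy
  have hle : RingHom.ker π.toRingHom ≤
      RingHom.ker (aeval d : MvPolynomial (Fin N) R →ₐ[R] C).toRingHom := by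
    rw [show RingHom.ker π.toRingHom = Ideal.span (Set.range G) from hG.symm, Ideal.span_le]
    rintro _ ⟨p, rfl⟩
    exact hbot (hdG p)
  let α : B →ₐ[R] C := AlgHom.liftOfSurjective π hπ _ hle
  have hα : ∀ p, α (π p) = aeval d p := fun p => AlgHom.liftOfSurjective_apply π hπ _ hle p
  have hαJ : J ≤ RingHom.ker α.toRingHom := by
    rw [← he]
    refine Submodule.span_le.2 ?_
    rintro _ ⟨j, rfl⟩
    show α (e j) = 0
    rw [← hE, hα]
    exact hbot (hdE j)
  refine ⟨C, inferInstance, inferInstance, hC, α, kC, fun x hx => hαJ hx, fun b => ?_⟩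
  obtain ⟨p, rfl⟩ := hπ b
  rw [hα, show kC (aeval d p) = aeval (fun i => kC (d i)) p from
      DFunLike.congr_fun (MvPolynomial.comp_aeval d kC) p,
    show φ (π p) = aeval (fun i => φ (π (X i))) p from
      (DFunLike.congr_fun (show (aeval fun i => φ (π (X i))) = φ.comp π from
        algHom_ext fun i => by simp) p).symm]
  exact aeval_sub_mem _ hkd p

end Groth.Agent.S6821
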