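import Groth.Statements.S6825
import Groth.Agent.SmoothingLib.ApproxEtale
import Groth.Agent.Hensel.ExcellentHens

set_option autoImplicit false
universe u
open Smoothing

namespace Groth.Agent.S6825

/-- Let R be a Noetherian local ring with maximal ideal m which is a G-ring, R^ its m-adic completion,
and F₁, …, F_m polynomials in n variables over R having a solution a = (a₁, …, a_n) in R^. Then for
every N there are an étale R-algebra R', an R-algebra map ψ : R' → R^, a maximal ideal m' of R'
lying over m with κ(m) = κ(m') and ψ(m') ⊆ mR^, and a solution b = (b₁, …, b_n) of the system in R'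
with a_i − ψ(b_i) ∈ m^N R^ for all i. (The source compares a and b inside R^ through the
identification of R^ with the completion of R' at m'; here that comparison map is the R-algebra map
ψ.) -/
theorem result {R : Type u} [CommRing R] [IsLocalRing R] (hG : CAlg.IsGRing R)
    {n m : ℕ} (F : Fin m → MvPolynomial (Fin n) R)
    (a : Fin n → AdicCompletion (IsLocalRing.maximalIdeal R) R) (ha : ∀ j, MvPolynomial.aeval a (F j) = 0)
    (N : ℕ) :
    ∃ (R' : Type u) (_ : CommRing R') (_ : Algebra R R'), Algebra.Etale R R' ∧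
      ∃ (ψ : R' →ₐ[R] AdicCompletion (IsLocalRing.maximalIdeal R) R) (m' : Ideal R'), m'.IsMaximal ∧
        m'.comap (algebraMap R R') = IsLocalRing.maximalIdeal R ∧
        (∀ x : R', ∃ r : R, x - algebraMap R R' r ∈ m') ∧
        (∀ x ∈ m', ψ x ∈ (IsLocalRing.maximalIdeal R).map
          (algebraMap R (AdicCompletion (IsLocalRing.maximalIdeal R) R))) ∧
        ∃ b : Fin n → R', (∀ j, MvPolynomial.aeval b (F j) = 0) ∧
          ∀ i, a i - ψ (b i) ∈ (IsLocalRing.maximalIdeal R ^ N).map
            (algebraMap R (AdicCompletion (IsLocalRing.maximalIdeal R) R)) := by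
  haveI := hG.1
  haveI : IsNoetherianRing (AdicCompletion (IsLocalRing.maximalIdeal R) R) :=
    Groth.Agent.RegLoc.Completion.isNoetherianRing_adicCompletion' _
  obtain ⟨D, _, _, hD, ψ, m', hm', hcomap, hrat, hψ, b, hb, hab⟩ :=
    Groth.Agent.SmoothingLib.ApproxEtale.exists_nbhd_system (R := R) (L := R)
      (Groth.Agent.SmoothingLib.Popescu.indSmooth ((Groth.Agent.Hensel.isGRing_iff_isRegularHom_cpl R).1 hG))
      (fun x => ⟨x, 1, by rw [map_one]; exact isUnit_one, by simp⟩) F a ha N
  have hrat' : ∀ x : D, ∃ r : R, x - algebraMap R D r ∈ m' := fun x => by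
    obtain ⟨r, s, hs, h⟩ := hrat x
    obtain ⟨u, hu⟩ := (by simpa using hs : IsUnit s)
    refine ⟨↑u⁻¹ * r, ?_⟩
    have h1 := m'.mul_mem_left (algebraMap R D ↑u⁻¹) h
    rwa [mul_sub, ← mul_assoc, ← map_mul, ← map_mul, ← hu, Units.inv_mul, map_one, one_mul] at h1
  refine ⟨D, inferInstance, inferInstance, hD, ψ, m', ?_, by rw [hcomap]; exact Ideal.comap_id _, hrat', hψ,
    b, hb, hab⟩
  haveI := hm'
  refine Ideal.Quotient.maximal_of_isField _ ⟨exists_pair_ne _, mul_comm, fun {z} hz => ?_⟩
  obtain ⟨x, rfl⟩ := Ideal.Quotient.mk_surjective z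
  obtain ⟨r, hr⟩ := hrat' x
  have hru : IsUnit r := by
    refine IsLocalRing.notMem_maximalIdeal.1 fun hmem => hz ?_
    rw [Ideal.Quotient.eq_zero_iff_mem]
    have h2 : algebraMap R D r ∈ m' := by
      rw [← Ideal.mem_comap, hcomap]; exact hmem
    have h3 := m'.add_mem hr h2
    rwa [sub_add_cancel] at h3
  obtain ⟨u, hu⟩ := hru.map ((Ideal.Quotient.mk m').comp (algebraMap R D))
  refine ⟨↑u⁻¹, ?_⟩
  rw [(Ideal.Quotient.eq).2 hr, show Ideal.Quotient.mk m' (algebraMap R D r) = ↑u from hu.symm, Units.mul_inv]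

end Groth.Agent.S6825
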