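import Groth.Statements.S6834
import Groth.Agent.LocPres.Space
import Groth.Agent.LocPres.HomColim

set_option autoImplicit false
universe u
open CategoryTheory CategoryTheory.Limits TopologicalSpace
open ModSite

namespace Groth.Agent.S6834

/-- Let (X, O) be a ringed space with X quasi-compact, I a directed preordered set (nonempty, with upper
bounds for pairs), (F_i) a system of O-modules over I and F = colim F_i. If F is of finite type then
F_i → F is surjective for some i; if moreover all transition maps are injective then F_i → F is an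
isomorphism for some i. -/
theorem result {X : TopCat.{u}} (O : TopCat.Sheaf CommRingCat.{u} X)
    [CompactSpace X] {I : Type u} [Preorder I] [Nonempty I] [IsDirected I (· ≤ ·)] (D : I ⥤ ModSite.Mod O)
    (c : Cocone D) (hc : IsColimit c) [SheafOfModules.IsFiniteType (R := ModSite.ringSh O) c.pt] :
    (∃ i : I, Epi (c.ι.app i)) ∧
      ((∀ (i j : I) (f : i ⟶ j), Mono (D.map f)) → ∃ i : I, IsIso (c.ι.app i)) := by
  have key : ∀ x : X, ∃ (W : Opens X) (l : I), x ∈ W ∧ ∃ (n : ℕ) (s : ULift.{u} (Fin n) → ModSite.sect c.pt W)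
      (t : ULift.{u} (Fin n) → ModSite.sect (D.obj l) W), Groth.Agent.LocPres.IsGen s ∧
        ∀ i, Groth.Agent.PullFlat.appS (c.ι.app l) W (t i) = s i := fun x => by
    obtain ⟨S, hS, hS'⟩ := Groth.Agent.LocPres.exists_cover_locGen c.pt (⊤ : Opens X)
    obtain ⟨U, g, hg, hxU⟩ := hS x trivial
    obtain ⟨Q⟩ := hS' g hg
    obtain ⟨T, hT, hT'⟩ := Groth.Agent.LocPres.exists_stages hc Q.s
    obtain ⟨W, h, hh, hxW⟩ := hT x hxU
    obtain ⟨l, y, hy⟩ := hT' h hh
    exact ⟨W, l, hxW, Q.n, _, fun i => y i.down, Groth.Agent.LocPres.isGen_restrict Q.isGen h, fun i => hy i.down⟩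
  choose W l hxW n s t hs ht using key
  obtain ⟨K, hK⟩ := isCompact_univ.elim_finite_subcover (fun x => (W x : Set X)) (fun x => (W x).2)
    (fun x _ => Set.mem_iUnion.2 ⟨x, hxW x⟩)
  classical
  obtain ⟨m, hm⟩ := Finset.exists_le (K.image l)
  have hepi : Epi (c.ι.app m) := Groth.Agent.LocPres.epi_of_locally_surjective _ fun U z => by
    have hloc : ∀ p : U, ∃ (V : Opens X) (g : V ⟶ U), p.1 ∈ V ∧
        ∃ x, Groth.Agent.PullFlat.appS (c.ι.app m) V x = Groth.Agent.ModFlat.rs c.pt g z := fun p => by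
      obtain ⟨x, hx, hpx⟩ := Set.mem_iUnion₂.1 (hK (Set.mem_univ p.1))
      let T : Opens X := W x ⊓ U
      let iW : T ⟶ W x := homOfLE inf_le_left
      let iU : T ⟶ U := homOfLE inf_le_right
      obtain ⟨S, hS, hS'⟩ := hs x iW (Groth.Agent.ModFlat.rs c.pt iU z)
      obtain ⟨V, g, hg, hpV⟩ := hS p.1 ⟨hpx, p.2⟩
      obtain ⟨a, ha⟩ := hS' g hg
      let hle : l x ⟶ m := homOfLE (hm _ (Finset.mem_image_of_mem l hx))
      refine ⟨V, g ≫ iU, hpV, Groth.Agent.PullFlat.appS (D.map hle) V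
        (Groth.Agent.LocPres.combS (t x) (g ≫ iW) a), ?_⟩
      rw [← Groth.Agent.PullFlat.appS_comp, c.w, Groth.Agent.LocPres.appS_combS, Groth.Agent.ModFlat.map_val_comp, ← ha]
      simp only [ht]
    choose V g hpV y hy using hloc
    refine ⟨Sieve.generate (Presieve.ofArrows V g), fun p hp =>
      ⟨V ⟨p, hp⟩, g ⟨p, hp⟩, Sieve.le_generate _ _ _ (Presieve.ofArrows.mk (⟨p, hp⟩ : U)), hpV ⟨p, hp⟩⟩, ?_⟩
    rintro V' _ ⟨V'', a, b, hb, rfl⟩
    obtain ⟨p⟩ := hb
    exact ⟨Groth.Agent.ModFlat.rs (D.obj m) a (y p), by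
      refine (Groth.Agent.PullFlat.appS_res _ _ _).trans ?_
      rw [hy p]
      exact (Groth.Agent.ModFlat.map_val_comp a (g p) z).symm⟩
  refine ⟨⟨m, hepi⟩, fun hmono => ⟨m, ?_⟩⟩
  haveI : Mono (c.ι.app m) := Groth.Agent.PullFlat.mono_of_appS_injective _ fun U z hz => by
    obtain ⟨S, hS, hS'⟩ := Groth.Agent.LocPres.exists_zero_stage hc z hz
    refine Groth.Agent.PullFlat.eq_zero_of_locally _ hS z fun V g hg => ?_
    obtain ⟨j, f, hf⟩ := hS' g hg
    haveI := hmono _ _ f
    exact Groth.Agent.PullFlat.appS_injective (D.map f) V (hf.trans (map_zero _).symm)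
  exact isIso_of_mono_of_epi _

end Groth.Agent.S6834
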