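import Groth.Statements.S6837
import Groth.Agent.ModFlat.Basic

set_option autoImplicit false
universe u
open CategoryTheory CategoryTheory.Limits TopologicalSpace
open ModSite

namespace Groth.Agent.S6837

/-- On a ringed space (X, O), let 0 → F₂ → F₁ → F₀ → 0 be a short exact sequence of O-modules. (1) If F₂
and F₀ are flat then F₁ is flat. (2) If F₁ and F₀ are flat then F₂ is flat. (Flat: − ⊗_O F is
exact.) -/
theorem result {X : TopCat.{u}} (O : TopCat.Sheaf CommRingCat.{u} X)
    (S : ShortComplex (ModSite.Mod O)) (hS : S.ShortExact) (h₀ : ModSite.IsFlat S.X₃) :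
    (ModSite.IsFlat S.X₁ → ModSite.IsFlat S.X₂) ∧ (ModSite.IsFlat S.X₂ → ModSite.IsFlat S.X₁) := by
  have h₃ := Groth.Agent.KFlat.tensorMono_of_isFlat h₀
  exact ⟨fun h => Groth.Agent.KFlat.isFlat_of_tensorMono (Groth.Agent.ModFlat.tensorMono_middle S hS
      (Groth.Agent.KFlat.tensorMono_of_isFlat h) h₃),
    fun h => Groth.Agent.KFlat.isFlat_of_tensorMono (Groth.Agent.ModFlat.tensorMono_left S hS
      (Groth.Agent.KFlat.tensorMono_of_isFlat h) h₃)⟩

end Groth.Agent.S6837
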