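import Groth.Statements.S6841
import Groth.Agent.CAlgA.PolyJacobian
import Groth.Agent.EGA4Lib.SmoothRegular
import Groth.Agent.RegLoc.Basic
import Mathlib
-- import your own Groth.Agent.* helpers here

set_option autoImplicit false
universe u
open Smoothing

namespace Groth.Agent.S6841

open TensorProduct IsLocalRing KaehlerDifferential Groth.Agent.CAlgA.PolyJacobian
open Groth.Agent.CAlgA (JacobianCore.formallySmooth_quot_iff)

/-- Smoothness at a point through a presentation. -/
lemma smoothAt_iff_quot {R P A : Type u} [CommRing R] [CommRing P] [CommRing A] [Algebra R P] [Algebra R A]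
    (π : P →ₐ[R] A) (hπ : Function.Surjective π) (q : Ideal A) [q.IsPrime] :
    Algebra.IsSmoothAt R q ↔ Algebra.FormallySmooth R (Localization.AtPrime (q.comap π.toRingHom) ⧸
      (RingHom.ker π.toRingHom).map (algebraMap P (Localization.AtPrime (q.comap π.toRingHom)))) := by
  let e : (P ⧸ RingHom.ker π.toRingHom) ≃ₐ[R] A := Ideal.quotientKerAlgEquivOfSurjective hπ
  let Q := q.comap e.toRingEquiv.toRingHom
  haveI : Q.IsPrime := Ideal.comap_isPrime _ _
  have hM : Q.primeCompl.map (e : (P ⧸ RingHom.ker π.toRingHom) →* A) = q.primeCompl := by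
    ext x
    constructor
    · rintro ⟨y, hy, rfl⟩
      exact hy
    · intro hx
      refine ⟨e.symm x, fun h => hx ?_, e.apply_symm_apply x⟩
      have h' : e (e.symm x) ∈ q := h
      rwa [e.apply_symm_apply] at h'
  let eL : Localization.AtPrime Q ≃ₐ[R] Localization.AtPrime q :=
    IsLocalization.algEquivOfAlgEquiv (Localization.AtPrime Q) (Localization.AtPrime q) e hM
  exact (show Algebra.IsSmoothAt R q ↔ Algebra.FormallySmooth R (Localization.AtPrime Q) from
    ⟨fun h => Algebra.FormallySmooth.of_equiv eL.symm, fun h => Algebra.FormallySmooth.of_equiv eL⟩).trans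
    (Groth.Agent.CAlgA.JacobianCore.formallySmooth_quot_iff R P (RingHom.ker π.toRingHom) Q)

/-- Smoothness over a regular Noetherian ring at a point gives regularity there. -/
lemma isRegularLocalRing_of_smoothAt {R S : Type u} [CommRing R] [IsRegularRing R] [CommRing S] [Algebra R S]
    [Algebra.FinitePresentation R S] (p : Ideal S) [p.IsPrime] [Algebra.IsSmoothAt R p] :
    IsRegularLocalRing (Localization.AtPrime p) := by
  obtain ⟨f, hf, hstd⟩ := Algebra.IsSmoothAt.exists_notMem_isStandardSmooth R (S := S) p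
  haveI := hstd
  let Sf := Localization.Away f
  haveI : Algebra.Smooth R Sf := inferInstance
  have hdisj : Disjoint (Submonoid.powers f : Set S) (p : Set S) := by
    refine Set.disjoint_left.2 ?_
    rintro _ ⟨m, rfl⟩ hm
    exact hf (Ideal.IsPrime.mem_of_pow_mem ‹_› m hm)
  let Q : PrimeSpectrum Sf := ⟨p.map (algebraMap S Sf),
    IsLocalization.isPrime_of_isPrime_disjoint (Submonoid.powers f) _ _ ‹_› hdisj⟩
  have hQ : Q.asIdeal.comap (algebraMap S Sf) = p :=
    IsLocalization.under_map_of_isPrime_disjoint (Submonoid.powers f) _ ‹_› hdisj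
  haveI : Q.asIdeal.IsPrime := Q.isPrime
  haveI : IsRegularLocalRing (Localization.AtPrime Q.asIdeal) :=
    Groth.Agent.EGA4Lib.mem_regLocus_of_smooth (R := R) Q
      (IsRegularRing.isRegularLocalRing_localization (R := R) _)
  let e := (IsLocalization.localizationLocalizationAtPrimeIsoLocalization (Submonoid.powers f) Q.asIdeal).symm
  exact (Groth.Agent.EGA4Lib.isRegularLocalRing_congr (p := ⟨Q.asIdeal.comap (algebraMap S Sf), inferInstance⟩)
    (q := (⟨p, inferInstance⟩ : PrimeSpectrum S)) (PrimeSpectrum.ext hQ)).1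
      (IsRegularLocalRing.of_ringEquiv e.toRingEquiv)

/-- The Jacobian vectors of the relations have torsion-free cokernel if the differentials are free. -/
lemma saturated {R Λ A : Type u} [CommRing R] [CommRing Λ] [IsDomain Λ] [CommRing A] [Algebra R A] [Algebra A Λ]
    [Algebra R Λ] [IsScalarTower R A Λ] {n : ℕ} (π : MvPolynomial (Fin n) R →ₐ[R] A) (hπ : Function.Surjective π)
    [Module.Free Λ (Λ ⊗[A] Ω[A⁄R])] {l : Λ} (hl : l ≠ 0) {v : Fin n → Λ}
    (hv : l • v ∈ Submodule.span Λ (jac ((algebraMap A Λ).comp π.toRingHom) '' (RingHom.ker π.toRingHom : Set _))) :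
    v ∈ Submodule.span Λ (jac ((algebraMap A Λ).comp π.toRingHom) '' (RingHom.ker π.toRingHom : Set _)) := by
  set ψ := (algebraMap A Λ).comp π.toRingHom
  set N := Submodule.span Λ (jac ψ '' (RingHom.ker π.toRingHom : Set _))
  let σ : A → MvPolynomial (Fin n) R := Function.surjInv hπ
  have hσ : ∀ a, π (σ a) = a := Function.surjInv_eq hπ
  have hwd : ∀ g a, π g = a → N.mkQ (jac ψ (σ a)) = N.mkQ (jac ψ g) := fun g a h => by
    rw [Submodule.mkQ_apply, Submodule.mkQ_apply, Submodule.Quotient.eq]
    refine Submodule.subset_span ⟨σ a - g, ?_, ?_⟩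
    · rw [SetLike.mem_coe, RingHom.mem_ker]
      show π (σ a - g) = 0
      rw [map_sub, hσ, h, sub_self]
    · funext i
      simp [jac, map_sub]
  let D₀ : A →ₗ[R] (Fin n → Λ) ⧸ N :=
    { toFun := fun a => N.mkQ (jac ψ (σ a))
      map_add' := fun a b => by
        rw [hwd (σ a + σ b) (a + b) (by rw [map_add, hσ, hσ]), ← map_add]
        congr 1
        funext i
        simp [jac, map_add]
      map_smul' := fun r a => by
        rw [hwd (r • σ a) (r • a) (by rw [map_smul, hσ]), RingHom.id_apply]
        rw [← algebraMap_smul Λ r (N.mkQ (jac ψ (σ a))), ← map_smul N.mkQ]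
        congr 1
        funext i
        show ψ (MvPolynomial.pderiv i (r • σ a)) = _
        rw [Derivation.map_smul, MvPolynomial.smul_eq_C_mul, map_mul, Pi.smul_apply, smul_eq_mul]
        congr 1
        show algebraMap A Λ (π (MvPolynomial.C r)) = _
        rw [← MvPolynomial.algebraMap_eq, AlgHom.commutes, ← IsScalarTower.algebraMap_apply] }
  let D₁ : Derivation R A ((Fin n → Λ) ⧸ N) := Derivation.mk' D₀ fun a b => by
    show N.mkQ (jac ψ (σ (a * b))) = a • N.mkQ (jac ψ (σ b)) + b • N.mkQ (jac ψ (σ a))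
    rw [hwd (σ a * σ b) (a * b) (by rw [map_mul, hσ, hσ]), ← algebraMap_smul Λ a, ← algebraMap_smul Λ b,
      ← map_smul N.mkQ, ← map_smul N.mkQ, ← map_add]
    congr 1
    funext i
    show ψ (MvPolynomial.pderiv i (σ a * σ b)) = _
    rw [Derivation.leibniz, map_add]
    simp [jac, ψ, hσ, smul_eq_mul, Algebra.smul_def]
  let Ψ : Λ ⊗[A] Ω[A⁄R] →ₗ[Λ] (Fin n → Λ) ⧸ N := D₁.liftKaehlerDifferential.liftBaseChange Λ
  let Φ₀ : (Fin n → Λ) →ₗ[Λ] Λ ⊗[A] Ω[A⁄R] :=
    (Pi.basisFun Λ (Fin n)).constr Λ fun i => (1 : Λ) ⊗ₜ KaehlerDifferential.D R A (π (MvPolynomial.X i))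
  have hΦ₀ : ∀ g, Φ₀ (jac ψ g) = (1 : Λ) ⊗ₜ KaehlerDifferential.D R A (π g) := by
    intro g
    induction g using MvPolynomial.induction_on with
    | C a =>
      have : jac ψ (MvPolynomial.C a) = 0 := by
        funext i
        simp [jac]
      rw [this, map_zero, ← MvPolynomial.algebraMap_eq, AlgHom.commutes, Derivation.map_algebraMap,
        TensorProduct.tmul_zero]
    | add a b ha hb =>
      have : jac ψ (a + b) = jac ψ a + jac ψ b := by
        funext i
        simp [jac, map_add]
      rw [this, map_add, ha, hb, map_add, map_add, TensorProduct.tmul_add]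
    | mul_X a i ha =>
      have : jac ψ (a * MvPolynomial.X i) =
          ψ (MvPolynomial.X i) • jac ψ a + ψ a • (Pi.single i (1 : Λ) : Fin n → Λ) := by
        funext j
        by_cases h : j = i
        · subst h
          simp [jac, Derivation.leibniz]
          ring
        · simp [jac, Derivation.leibniz, MvPolynomial.pderiv_X_of_ne (Ne.symm h), h]
      have hs : Φ₀ (Pi.single i 1) = (1 : Λ) ⊗ₜ KaehlerDifferential.D R A (π (MvPolynomial.X i)) := by
        rw [← Pi.basisFun_apply, Module.Basis.constr_basis]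
      rw [this, map_add, map_smul, map_smul, ha, hs, map_mul, Derivation.leibniz, TensorProduct.tmul_add]
      show algebraMap A Λ (π (MvPolynomial.X i)) • _ + algebraMap A Λ (π a) • _ = _
      rw [algebraMap_smul, algebraMap_smul, TensorProduct.tmul_smul, TensorProduct.tmul_smul]
      exact add_comm _ _
  let Φ : ((Fin n → Λ) ⧸ N) →ₗ[Λ] Λ ⊗[A] Ω[A⁄R] := N.liftQ Φ₀ (Submodule.span_le.2 (by
    rintro _ ⟨g, hg, rfl⟩
    rw [SetLike.mem_coe, LinearMap.mem_ker, hΦ₀, show π g = 0 from hg, map_zero, TensorProduct.tmul_zero]))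
  have hinv : Ψ ∘ₗ Φ = LinearMap.id := by
    refine Submodule.linearMap_qext _ ((Pi.basisFun Λ (Fin n)).ext fun i => ?_)
    show Ψ (Φ₀ (Pi.basisFun Λ (Fin n) i)) = N.mkQ (Pi.basisFun Λ (Fin n) i)
    rw [Module.Basis.constr_basis]
    show D₁.liftKaehlerDifferential.liftBaseChange Λ _ = _
    rw [LinearMap.liftBaseChange_tmul, one_smul, Derivation.liftKaehlerDifferential_comp_D]
    show N.mkQ (jac ψ (σ (π (MvPolynomial.X i)))) = _
    rw [hwd (MvPolynomial.X i) _ rfl]
    congr 1
    funext j
    by_cases h : j = i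
    · subst h
      simp [jac]
    · simp [jac, MvPolynomial.pderiv_X_of_ne (Ne.symm h), h]
  have hinj : Function.Injective Φ :=
    Function.LeftInverse.injective (g := Ψ) fun x => LinearMap.congr_fun hinv x
  have h0 : l • Φ (N.mkQ v) = 0 := by
    rw [← map_smul, ← map_smul, show N.mkQ (l • v) = 0 from (Submodule.Quotient.mk_eq_zero N).2 hv, map_zero]
  exact (Submodule.Quotient.mk_eq_zero N).1 (hinj (((smul_eq_zero.1 h0).resolve_left hl).trans (map_zero Φ).symm))


open TensorProduct in
/-- Let R ⊆ Λ be an extension of discrete valuation rings of ramification index 1 (m_R Λ = m_Λ), A a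
flat R-algebra of finite type with an R-algebra map A → Λ, 𝔮 its kernel and 𝔭 the inverse image of
the maximal ideal of Λ. Assume R → A is smooth at 𝔮. Provided the Λ-module Ω_{A/R} ⊗_A Λ is free,
the map R → A is also smooth at the prime 𝔭. (The published statement phrases the freeness
hypothesis through a surjection B → A from an R-algebra smooth at the point, with kernel I, as
freeness of the cokernel of I/I² ⊗_A Λ → Ω_{B/R} ⊗_B Λ; that cokernel is Ω_{A/R} ⊗_A Λ, which is how
its proof begins, so the two forms are equivalent.) -/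
theorem result {R Λ A : Type u} [CommRing R] [IsDomain R]
    [IsDiscreteValuationRing R] [CommRing Λ] [IsDomain Λ] [IsDiscreteValuationRing Λ] [Algebra R Λ]
    [NoZeroSMulDivisors R Λ] (he : (IsLocalRing.maximalIdeal R).map (algebraMap R Λ) = IsLocalRing.maximalIdeal Λ)
    [CommRing A] [Algebra R A] [Module.Flat R A] [Algebra.FiniteType R A] [Algebra A Λ] [IsScalarTower R A Λ]
    [(RingHom.ker (algebraMap A Λ)).IsPrime]
    (hq : Algebra.IsSmoothAt R (RingHom.ker (algebraMap A Λ)))
    (hfree : Module.Free Λ (Λ ⊗[A] Ω[A⁄R])) :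
    Algebra.IsSmoothAt R ((IsLocalRing.maximalIdeal Λ).comap (algebraMap A Λ)) := by
  classical
  obtain ⟨n, π, hπ⟩ := Algebra.FiniteType.iff_quotient_mvPolynomial''.1 ‹Algebra.FiniteType R A›
  let P := MvPolynomial (Fin n) R
  let I := RingHom.ker π.toRingHom
  let ψ : P →+* Λ := (algebraMap A Λ).comp π.toRingHom
  let N := Submodule.span Λ (jac ψ '' (I : Set P))
  let kΛ := IsLocalRing.ResidueField Λ
  let ψk : P →+* kΛ := (residue Λ).comp ψ
  haveI := hfree
  obtain ⟨κ, a, -, hsp, hli⟩ := exists_linearIndependent' kΛ (fun g : I => jac ψk (g : P))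
  haveI : Finite κ := hli.finite
  haveI := Fintype.ofFinite κ
  let c := Fintype.card κ
  let F : Fin c → P := fun i => (a ((Fintype.equivFin κ).symm i) : P)
  have hFI : ∀ i, F i ∈ I := fun i => (a ((Fintype.equivFin κ).symm i)).2
  have hliF : LinearIndependent kΛ (fun i => jac ψk (F i)) := hli.comp _ (Fintype.equivFin κ).symm.injective
  have hrange : Set.range (fun i => jac ψk (F i)) = Set.range ((fun g : I => jac ψk (g : P)) ∘ a) :=
    (Fintype.equivFin κ).symm.surjective.range_comp ((fun g : I => jac ψk (g : P)) ∘ a)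
  have hjk : ∀ g : P, jac ψk g = fun i => residue Λ (jac ψ g i) := fun g => rfl
  have hN : N ≤ Submodule.span Λ (Set.range fun i => jac ψ (F i)) := by
    refine Submodule.le_of_le_smul_of_le_jacobson_bot (I := maximalIdeal Λ) (IsNoetherian.noetherian N)
      (IsLocalRing.maximalIdeal_le_jacobson _) (Submodule.span_le.2 ?_)
    rintro _ ⟨x, hx, rfl⟩
    have hmem : jac ψk x ∈ Submodule.span kΛ (Set.range fun i => jac ψk (F i)) := by
      rw [hrange, hsp]
      exact Submodule.subset_span ⟨⟨x, hx⟩, rfl⟩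
    rw [Submodule.mem_span_range_iff_exists_fun] at hmem
    obtain ⟨lb, hlb⟩ := hmem
    choose lam hlam using fun i => residue_surjective (lb i)
    obtain ⟨ϖ, hϖ⟩ := IsDiscreteValuationRing.exists_irreducible Λ
    let d := jac ψ x - ∑ i, lam i • jac ψ (F i)
    have hd : ∀ j, d j ∈ maximalIdeal Λ := fun j => by
      rw [← residue_eq_zero_iff]
      have h := congrFun hlb j
      simp only [d, Pi.sub_apply, Finset.sum_apply, Pi.smul_apply, smul_eq_mul, map_sub, map_sum, map_mul, hlam,
        hjk] at h ⊢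
      rw [h, sub_self]
    have he : ∀ j, ∃ e, d j = ϖ * e := fun j => Ideal.mem_span_singleton'.1
      ((hϖ.maximalIdeal_eq) ▸ hd j) |>.imp fun e he => by rw [← he, mul_comm]
    choose e he using he
    have hde : ϖ • e = d := funext fun j => (he j).symm
    have hdN : d ∈ N := sub_mem (Submodule.subset_span ⟨x, hx, rfl⟩)
      (Submodule.sum_mem _ fun i _ => Submodule.smul_mem _ _ (Submodule.subset_span ⟨F i, hFI i, rfl⟩))
    refine Submodule.mem_sup.2 ⟨∑ i, lam i • jac ψ (F i), Submodule.sum_mem _ fun i _ =>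
      Submodule.smul_mem _ _ (Submodule.subset_span ⟨i, rfl⟩), d, ?_, add_sub_cancel _ _⟩
    rw [← hde]
    refine Submodule.smul_mem_smul ((mem_maximalIdeal _).2 hϖ.not_isUnit) ?_
    exact saturated π hπ hϖ.ne_zero (by rwa [hde])
  let p' : Ideal P := RingHom.ker ψk
  let q' : Ideal P := (RingHom.ker (algebraMap A Λ)).comap π.toRingHom
  haveI : p'.IsPrime := RingHom.ker_isPrime _
  have hqp : q' ≤ p' := fun x hx => by
    show residue Λ (algebraMap A Λ (π x)) = 0
    rw [show algebraMap A Λ (π x) = 0 from hx, map_zero]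
  obtain ⟨J, hJ⟩ := (li_iff_minor ψk F).1 hliF
  let K := FractionRing Λ
  let ψK : P →+* K := (algebraMap Λ K).comp ψ
  have hkerK : RingHom.ker ψK = q' := by
    ext x
    show algebraMap Λ K (ψ x) = 0 ↔ algebraMap A Λ (π x) = 0
    exact map_eq_zero_iff _ (IsFractionRing.injective Λ K)
  have hliK : LinearIndependent K (fun i => jac ψK (F i)) := by
    rw [li_iff_minor, hkerK]
    exact ⟨J, fun h => hJ (hqp h)⟩
  have hkerq : RingHom.ker (algebraMap P q'.ResidueField) = q' := Ideal.ker_algebraMap_residueField q'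
  have hspanK : ∀ x ∈ I, jac ψK x ∈ Submodule.span K (Set.range fun i => jac ψK (F i)) := fun x hx => by
    have h := hN (Submodule.subset_span ⟨x, hx, rfl⟩)
    rw [Submodule.mem_span_range_iff_exists_fun] at h ⊢
    obtain ⟨l, hl⟩ := h
    refine ⟨fun i => algebraMap Λ K (l i), funext fun j => ?_⟩
    show _ = algebraMap Λ K (jac ψ x j)
    rw [← hl]
    simp [jac, ψK, Algebra.smul_def]
  have hIfg : I.FG := IsNoetherian.noetherian _
  have hIq : I ≤ q' := fun x hx => by
    show algebraMap A Λ (π x) = 0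
    rw [show π x = 0 from hx, map_zero]
  have hgenq := span_eq_of_smooth q' I hIfg hIq ((smoothAt_iff_quot π hπ _).1 hq) F hFI fun x hx =>
    mem_span_of_mem_span ψK _ (hkerK.trans hkerq.symm) F hliK x (hspanK x hx)
  let Lp := Localization.AtPrime p'
  let J₀ : Ideal P := Ideal.span (Set.range F)
  have hJ₀p : J₀ ≤ p' := Ideal.span_le.2 (Set.range_subset_iff.2 fun i => hqp (hIq (hFI i)))
  have hsmp : Algebra.FormallySmooth R (Lp ⧸ J₀.map (algebraMap P Lp)) :=
    smooth_of_li p' F (fun i => hJ₀p (Ideal.subset_span ⟨i, rfl⟩))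
      (by
        rw [li_iff_minor, Ideal.ker_algebraMap_residueField]
        exact ⟨J, hJ⟩)
  let Q' : Ideal (P ⧸ J₀) := p'.map (Ideal.Quotient.mk J₀)
  haveI : Q'.IsPrime := Ideal.map_isPrime_of_surjective Ideal.Quotient.mk_surjective (by rwa [Ideal.mk_ker])
  have hQ' : Q'.comap (Ideal.Quotient.mk J₀) = p' := by
    rw [Ideal.comap_map_of_surjective _ Ideal.Quotient.mk_surjective, ← RingHom.ker_eq_comap_bot, Ideal.mk_ker,
      sup_eq_left.2 hJ₀p]
  haveI : Algebra.IsSmoothAt R Q' :=
    (Groth.Agent.CAlgA.JacobianCore.formallySmooth_quot_iff R P J₀ Q').2 (by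
      have key : ∀ (p₁ : Ideal P) [p₁.IsPrime], p₁ = p' → Algebra.FormallySmooth R
          (Localization.AtPrime p₁ ⧸ J₀.map (algebraMap P (Localization.AtPrime p₁))) := fun p₁ _ h => by
        subst h; exact hsmp
      exact key _ hQ')
  haveI : Algebra.FinitePresentation R (P ⧸ J₀) :=
    Algebra.FinitePresentation.quotient (Submodule.fg_span (Set.finite_range F))
  haveI : IsRegularLocalRing (Localization.AtPrime Q') := isRegularLocalRing_of_smoothAt (R := R) Q'
  haveI hdom : IsDomain (Localization.AtPrime Q') := Groth.Agent.RegLoc.isDomain (Localization.AtPrime Q')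
  have hgenp : I.map (algebraMap P Lp) = J₀.map (algebraMap P Lp) := by
    refine le_antisymm (Ideal.map_le_iff_le_comap.2 fun x hx => ?_) (Ideal.map_mono (Ideal.span_le.2
      (Set.range_subset_iff.2 hFI)))
    have h := Ideal.mem_map_of_mem (algebraMap P (Localization.AtPrime q')) hx
    rw [hgenq, IsLocalization.algebraMap_mem_map_algebraMap_iff q'.primeCompl] at h
    obtain ⟨t, ht, htx⟩ := h
    let τ : P →+* Localization.AtPrime Q' := (algebraMap (P ⧸ J₀) _).comp (Ideal.Quotient.mk J₀)
    have hτ : ∀ y, τ y = 0 → ∃ u ∈ p'.primeCompl, u * y ∈ J₀ := fun y hy => by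
      obtain ⟨⟨u, hu⟩, hu'⟩ := (IsLocalization.map_eq_zero_iff Q'.primeCompl _ _).1 hy
      obtain ⟨u, rfl⟩ := Ideal.Quotient.mk_surjective u
      refine ⟨u, fun h => hu (Ideal.mem_map_of_mem _ h), ?_⟩
      rw [← Ideal.Quotient.eq_zero_iff_mem, map_mul]
      exact hu'
    have h0 : τ t * τ x = 0 := by
      rw [← map_mul]
      show algebraMap (P ⧸ J₀) _ (Ideal.Quotient.mk J₀ (t * x)) = 0
      rw [Ideal.Quotient.eq_zero_iff_mem.2 htx, map_zero]
    rcases mul_eq_zero.1 h0 with h1 | h1
    · obtain ⟨u, hu, hut⟩ := hτ t h1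
      rcases (inferInstance : q'.IsPrime).mem_or_mem
        ((Ideal.span_le.2 (Set.range_subset_iff.2 fun i => hIq (hFI i))) hut) with h2 | h2
      · exact absurd (hqp h2) hu
      · exact absurd h2 ht
    · rw [Ideal.mem_comap, IsLocalization.algebraMap_mem_map_algebraMap_iff p'.primeCompl]
      exact hτ x h1
  have hpc : ((maximalIdeal Λ).comap (algebraMap A Λ)).comap π.toRingHom = p' := by
    ext x
    exact (residue_eq_zero_iff _).symm
  rw [smoothAt_iff_quot π hπ]
  have key : ∀ (p₁ : Ideal P) [p₁.IsPrime], p₁ = p' → Algebra.FormallySmooth R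
      (Localization.AtPrime p₁ ⧸ I.map (algebraMap P (Localization.AtPrime p₁))) := fun p₁ _ h => by
    subst h; rw [hgenp]; exact hsmp
  exact key _ hpc

end Groth.Agent.S6841
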