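import Groth.Statements.S6857
import Groth.Agent.H85.ClosedPush
import Groth.Agent.CohTop.SubStalk

set_option autoImplicit false
universe u
open CategoryTheory CategoryTheory.Limits TopologicalSpace
open CohTop

namespace Groth.Agent.S6857

section
open CategoryTheory CategoryTheory.Limits Opposite TopologicalSpace
open Groth.Agent.CohTop.SubStalk Groth.Agent.CohTop.Vanishing Groth.Agent.CohTop.Spectral

variable {Z X : TopCat.{u}} (i : Z ⟶ X)

theorem push_preservesEpi (hi : Topology.IsClosedEmbedding i) : (CohTop.push i).PreservesEpimorphisms := by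
  refine ⟨fun {F G} φ hφ => ?_⟩
  have hloc := (TopCat.Presheaf.isLocallySurjective_iff φ.hom).1
    ((CategoryTheory.Sheaf.isLocallySurjective_iff_epi' AddCommGrpCat.{u} φ).2 hφ)
  refine epi_of_locally _ fun W t x hx => ?_
  by_cases hr : x ∈ Set.range i
  · obtain ⟨z, rfl⟩ := hr
    obtain ⟨O, hO, ⟨s, hs⟩, hzO⟩ := hloc ((Opens.map i).obj W) t z hx
    let g := hi.isInducing.functorObj O
    let W' : Opens X := W ⊓ g
    have hW' : (Opens.map i).obj W' ≤ O := fun y hy => (hi.isInducing.mem_functorObj_iff O).1 hy.2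
    refine ⟨W', inf_le_left, ⟨hx, (hi.isInducing.mem_functorObj_iff O).2 hzO⟩, rs F hW' s, ?_⟩
    change (φ.hom.app (op ((Opens.map i).obj W'))).hom (rs F hW' s) = _
    rw [rs_app, hs]
    exact rs_rs G _ hW' t
  · let W' : Opens X := W ⊓ ⟨(Set.range i)ᶜ, hi.isClosed_range.isOpen_compl⟩
    haveI := Groth.Agent.H85.subsingleton_push_sections (i := i) G W' (fun z hz => hz.2 ⟨z, rfl⟩)
    exact ⟨W', inf_le_left, ⟨hx, hr⟩, 0, Subsingleton.elim _ _⟩

theorem isZero_stalk_of_sections (F : CohTop.Ab X)
    (h : ∀ W : Opens X, (∀ z, i z ∉ W) → Subsingleton (F.obj.obj (op W)))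
    (hc : IsClosed (Set.range i)) (x : X) (hx : x ∉ Set.range i) : IsZero (CohTop.stalk F x) := by
  suffices ∀ t : St F x, t = 0 from
    @AddCommGrpCat.isZero_of_subsingleton _ ⟨fun a b => (this a).trans (this b).symm⟩
  intro t
  obtain ⟨V, hxV, s, rfl⟩ := exists_germ (F := F) x t
  haveI := h (V ⊓ ⟨(Set.range i)ᶜ, hc.isOpen_compl⟩) fun z hz => hz.2 ⟨z, rfl⟩
  rw [← gm_rs F (inf_le_left : V ⊓ ⟨(Set.range i)ᶜ, hc.isOpen_compl⟩ ≤ V) x ⟨hxV, hx⟩,
    Subsingleton.elim (rs F _ s) 0, map_zero]

theorem sections_of_isZero_stalk (F : CohTop.Ab X)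
    (h : ∀ x : X, x ∉ Set.range i → IsZero (CohTop.stalk F x))
    (W : Opens X) (hW : ∀ z, i z ∉ W) : Subsingleton (F.obj.obj (op W)) := by
  refine ⟨fun a b => eq_of_gm_all a b fun x hx => ?_⟩
  haveI := AddCommGrpCat.subsingleton_of_isZero (h x fun ⟨z, hz⟩ => hW z (hz ▸ hx))
  exact Subsingleton.elim _ _
where
  eq_of_gm_all {F : CohTop.Ab X} {W : Opens X} (a b : F.obj.obj (op W))
      (h : ∀ (x : X) (hx : x ∈ W), gm F x hx a = gm F x hx b) : a = b :=
    TopCat.Presheaf.section_ext F W a b h

end

/-- Let i : Z → X be the inclusion of a closed subset of a topological space (a closed embedding). Then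
i_* : Ab(Z) → Ab(X) is exact (right exactness being the content, i_* is a right adjoint) and fully
faithful, an abelian sheaf on X lies in its essential image exactly when its stalks at points
outside i(Z) are zero (support contained in Z), and i⁻¹ ∘ i_* is isomorphic to the identity functor
(existence of an isomorphism of functors is asserted). -/
theorem result {Z X : TopCat.{u}} (i : Z ⟶ X)
    (hi : Topology.IsClosedEmbedding i) :
    PreservesFiniteColimits (CohTop.push i) ∧ (CohTop.push i).Full ∧ (CohTop.push i).Faithful ∧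
      (∀ F : CohTop.Ab X, (CohTop.push i).essImage F ↔ ∀ x : X, x ∉ Set.range i → IsZero (CohTop.stalk F x)) ∧
      Nonempty (CohTop.push i ⋙ CohTop.pull i ≅ 𝟭 (CohTop.Ab Z)) := by
  haveI := push_preservesEpi i hi
  refine ⟨?_, (Groth.Agent.H85.pushFullyFaithful hi.isInducing).full,
    (Groth.Agent.H85.pushFullyFaithful hi.isInducing).faithful, fun F => ⟨?_, ?_⟩, ?_⟩
  · haveI : PreservesLimitsOfSize.{0, 0} (CohTop.push i) :=
      (TopCat.Sheaf.pullbackPushforwardAdjunction AddCommGrpCat.{u} i).rightAdjoint_preservesLimits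
    haveI : (CohTop.push i).PreservesHomology := Functor.preservesHomology_of_preservesEpis_and_kernels _
    exact Functor.preservesFiniteColimits_of_preservesHomology _
  · rintro ⟨G, ⟨e⟩⟩ x hx
    refine isZero_stalk_of_sections i F (fun W hW => ?_) hi.isClosed_range x hx
    haveI := Groth.Agent.H85.subsingleton_push_sections G W hW
    have hs := Groth.Agent.H85.subsingleton_push_sections (i := i) G W hW
    exact @Equiv.subsingleton _ _
      ((((sheafToPresheaf _ _).mapIso e).app (Opposite.op W)).addCommGroupIsoToAddEquiv).symm.toEquiv hs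
  · intro h
    exact Groth.Agent.H85.mem_essImage_push hi.isInducing hi.isClosed_range F
      (sections_of_isZero_stalk i F h)
  · haveI := (Groth.Agent.H85.pushFullyFaithful hi.isInducing).full
    haveI := (Groth.Agent.H85.pushFullyFaithful hi.isInducing).faithful
    haveI : (TopCat.Sheaf.pushforward AddCommGrpCat.{u} i).Full :=
      (Groth.Agent.H85.pushFullyFaithful hi.isInducing).full
    haveI : (TopCat.Sheaf.pushforward AddCommGrpCat.{u} i).Faithful :=
      (Groth.Agent.H85.pushFullyFaithful hi.isInducing).faithful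
    have hh := TopCat.Sheaf.pullbackPushforwardAdjunction AddCommGrpCat.{u} i
    haveI : IsIso hh.counit := @Adjunction.counit_isIso_of_R_fully_faithful _ _ _ _ _ _ hh ‹_› ‹_›
    exact ⟨@asIso _ _ _ _ hh.counit this⟩

end Groth.Agent.S6857
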