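import Groth.Statements.S6861
import Groth.Agent.Unram24.Neron
-- import your own Groth.Agent.* helpers here

set_option autoImplicit false
universe u
open Smoothing

namespace Groth.Agent.S6861

/-- Let R ⊆ Λ be an extension of discrete valuation rings of ramification index 1 (m_R Λ = m_Λ) whose
residue field extension is separable (geometrically reduced), π a uniformizer of R, A a flat
R-algebra of finite type with an R-algebra map A → Λ, and 𝔭 ⊆ A the inverse image of m_Λ. Assume R →
A is smooth at 𝔭. Let A' = A[𝔭/π] ⊆ A_π be the affine blowup algebra (Néron's blowup) and A' → Λ the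
induced map, i.e. the A-algebra map compatible with A_π → Λ_π (it exists and is unique; it is taken
as a datum here). Then R → A' is smooth at the inverse image 𝔭' of m_Λ in A'. (The source also gives
a short exact sequence relating the differentials of A and A' at 𝔭'; that part is not restated.) -/
theorem result {R Λ A : Type u} [CommRing R] [IsDomain R]
    [IsDiscreteValuationRing R] [CommRing Λ] [IsDomain Λ] [IsDiscreteValuationRing Λ] [Algebra R Λ]
    [NoZeroSMulDivisors R Λ] [IsLocalHom (algebraMap R Λ)]
    (he : (IsLocalRing.maximalIdeal R).map (algebraMap R Λ) = IsLocalRing.maximalIdeal Λ)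
    (hsep : Algebra.IsGeometricallyReduced (IsLocalRing.ResidueField R) (IsLocalRing.ResidueField Λ))
    [CommRing A] [Algebra R A] [Module.Flat R A] [Algebra.FiniteType R A] [Algebra A Λ] [IsScalarTower R A Λ]
    (π : R) (hπ : IsLocalRing.maximalIdeal R = Ideal.span {π})
    (hsm : Algebra.IsSmoothAt R ((IsLocalRing.maximalIdeal Λ).comap (algebraMap A Λ)))
    (φ' : BlowUp.affineAlgebra A ((IsLocalRing.maximalIdeal Λ).comap (algebraMap A Λ)) (algebraMap R A π) →ₐ[A] Λ)
    (hφ' : ∀ a' : BlowUp.affineAlgebra A ((IsLocalRing.maximalIdeal Λ).comap (algebraMap A Λ)) (algebraMap R A π),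
      algebraMap Λ (Localization.Away (algebraMap A Λ (algebraMap R A π))) (φ' a') =
        Localization.awayMap (algebraMap A Λ) (algebraMap R A π) a'.val) :
    Algebra.IsSmoothAt R ((IsLocalRing.maximalIdeal Λ).comap φ'.toRingHom) := by
  classical
  let p := (IsLocalRing.maximalIdeal Λ).comap (algebraMap A Λ)
  let πA := algebraMap R A π
  let A' := BlowUp.affineAlgebra A p πA
  have hπ0 : π ≠ 0 := fun h => IsDiscreteValuationRing.not_a_field R
    (hπ.trans (Ideal.span_singleton_eq_bot.mpr h))
  have hp : p.comap (algebraMap R A) = IsLocalRing.maximalIdeal R := by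
    rw [Ideal.comap_comap, ← IsScalarTower.algebraMap_eq]
    exact ((IsLocalRing.local_hom_TFAE (algebraMap R Λ)).out 0 4 rfl rfl).mp inferInstance
  letI : Algebra (IsLocalRing.ResidueField R) p.ResidueField :=
    (Ideal.Quotient.lift (IsLocalRing.maximalIdeal R) (algebraMap R p.ResidueField) (fun r hr => by
      rw [IsScalarTower.algebraMap_apply R A p.ResidueField, Ideal.algebraMap_residueField_eq_zero]
      exact Ideal.mem_comap.mp (hp ▸ hr))).toAlgebra
  haveI : IsScalarTower R (IsLocalRing.ResidueField R) p.ResidueField := .of_algebraMap_eq fun _ => rfl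
  let ι₀ : p.ResidueField →+* IsLocalRing.ResidueField Λ := Ideal.ResidueField.lift p
    ((IsLocalRing.residue Λ).comp (algebraMap A Λ))
    (fun a ha => (IsLocalRing.residue_eq_zero_iff _).mpr ha)
    (fun a ha => isUnit_iff_ne_zero.mpr fun h => ha ((IsLocalRing.residue_eq_zero_iff _).mp h))
  let ι : p.ResidueField →ₐ[IsLocalRing.ResidueField R] IsLocalRing.ResidueField Λ :=
    AlgHom.mk ι₀ fun r => by
      obtain ⟨r, rfl⟩ := IsLocalRing.residue_surjective r
      show ι₀ (algebraMap R p.ResidueField r) = IsLocalRing.ResidueField.map (algebraMap R Λ) (IsLocalRing.residue R r)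
      rw [IsScalarTower.algebraMap_apply R A p.ResidueField, Ideal.ResidueField.lift_algebraMap,
        IsLocalRing.ResidueField.map_residue, RingHom.comp_apply, ← IsScalarTower.algebraMap_apply]
  haveI := hsep
  obtain ⟨c, e, b, t, ht, hbp, hgen, het⟩ := Unram24.Neron.exists_adapted_coords R π hπ p hp hsm
    (Algebra.IsGeometricallyReduced.of_injective ι ι₀.injective)
  let s₀ : A' := algebraMap A A' t
  let D := Localization.Away s₀
  let frac : A → Localization.Away πA := fun x =>
    IsLocalization.mk' (Localization.Away πA) x (⟨πA, Submonoid.mem_powers πA⟩ : Submonoid.powers πA)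
  have hfrac : ∀ x, algebraMap A (Localization.Away πA) πA * frac x = algebraMap A (Localization.Away πA) x :=
    fun x => IsLocalization.mk'_spec' (Localization.Away πA) x ⟨πA, Submonoid.mem_powers πA⟩
  have hu : IsUnit (algebraMap A (Localization.Away πA) πA) := IsLocalization.Away.algebraMap_isUnit _
  let g' : Fin c → A' := fun i => ⟨frac (b (Sum.inl i)), Algebra.subset_adjoin ⟨_, hbp i, rfl⟩⟩
  let w : Fin c → D := fun i => algebraMap A' D (g' i)
  have key : ∀ y : A', ∃ m : ℕ, algebraMap A A' t ^ m * y ∈ Algebra.adjoin A (Set.range g') := by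
    rintro ⟨y, hy⟩
    induction hy using Algebra.adjoin_induction with
    | mem y hy =>
      obtain ⟨x, hx, rfl⟩ := hy
      refine ⟨1, ?_⟩
      have hspan : ∀ v ∈ Ideal.span (insert πA (Set.range fun i => b (Sum.inl i))),
          ∃ z ∈ Algebra.adjoin A (Set.range g'), (z : Localization.Away πA) = frac v := by
        intro v hv
        induction hv using Submodule.span_induction with
        | mem v hv =>
          rcases hv with rfl | ⟨i, rfl⟩
          · exact ⟨1, one_mem _, hu.mul_left_cancel (by rw [hfrac]; exact mul_one _)⟩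
          · exact ⟨g' i, Algebra.subset_adjoin ⟨i, rfl⟩, rfl⟩
        | zero => exact ⟨0, zero_mem _, hu.mul_left_cancel (by simp [hfrac])⟩
        | add u v _ _ hu' hv' =>
          obtain ⟨z₁, h1, e1⟩ := hu'
          obtain ⟨z₂, h2, e2⟩ := hv'
          exact ⟨z₁ + z₂, add_mem h1 h2, hu.mul_left_cancel (by
            rw [Subalgebra.coe_add, e1, e2, mul_add, hfrac, hfrac, hfrac, map_add])⟩
        | smul r v _ hv' =>
          obtain ⟨z₁, h1, e1⟩ := hv'
          exact ⟨r • z₁, Subalgebra.smul_mem _ h1 r, hu.mul_left_cancel (by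
            rw [Subalgebra.coe_smul, e1, mul_smul_comm, hfrac, hfrac, smul_eq_mul, map_mul, Algebra.smul_def])⟩
      obtain ⟨z, hz, hzv⟩ := hspan _ (hgen x hx)
      convert hz using 1
      refine Subtype.ext (hu.mul_left_cancel ?_)
      rw [hzv, hfrac, pow_one, Subalgebra.coe_mul, mul_left_comm, map_mul]
      show algebraMap A (Localization.Away πA) t * (_ * frac x) = _
      rw [hfrac]
    | algebraMap a => exact ⟨0, by rw [pow_zero, one_mul]; exact Subalgebra.algebraMap_mem _ a⟩
    | add y z hy hz h1 h2 =>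
      obtain ⟨m₁, e1⟩ := h1
      obtain ⟨m₂, e2⟩ := h2
      refine ⟨m₁ + m₂, ?_⟩
      have e : algebraMap A A' t ^ (m₁ + m₂) * (⟨y, hy⟩ + ⟨z, hz⟩ : A') =
          algebraMap A A' t ^ m₂ * (algebraMap A A' t ^ m₁ * ⟨y, hy⟩) +
          algebraMap A A' t ^ m₁ * (algebraMap A A' t ^ m₂ * ⟨z, hz⟩) := by ring
      exact e ▸ add_mem (mul_mem (pow_mem (Subalgebra.algebraMap_mem _ t) _) e1)
        (mul_mem (pow_mem (Subalgebra.algebraMap_mem _ t) _) e2)
    | mul y z hy hz h1 h2 =>
      obtain ⟨m₁, e1⟩ := h1
      obtain ⟨m₂, e2⟩ := h2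
      refine ⟨m₁ + m₂, ?_⟩
      have e : algebraMap A A' t ^ (m₁ + m₂) * (⟨y, hy⟩ * ⟨z, hz⟩ : A') =
          (algebraMap A A' t ^ m₁ * ⟨y, hy⟩) * (algebraMap A A' t ^ m₂ * ⟨z, hz⟩) := by ring
      exact e ▸ mul_mem e1 e2
  have hD : IsUnit (algebraMap A D t) := by
    rw [IsScalarTower.algebraMap_apply A A' D]
    exact IsLocalization.Away.algebraMap_isUnit s₀
  have hfs : Algebra.FormallySmooth R D := by
    refine Unram24.Neron.formallySmooth_chart π hπ0 b t het D hD w (fun i => ?_) (fun d => ?_) (fun a ha => ?_)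
    · show algebraMap R D π * algebraMap A' D (g' i) = _
      rw [IsScalarTower.algebraMap_apply R A D, IsScalarTower.algebraMap_apply A A' D, ← map_mul,
        IsScalarTower.algebraMap_apply A A' D]
      exact congrArg _ (Subtype.ext (hfrac _))
    · obtain ⟨y, ⟨_, m, rfl⟩, rfl⟩ := IsLocalization.exists_mk'_eq (Submonoid.powers s₀) d
      obtain ⟨k, hk⟩ := key y
      refine ⟨m + k, ?_⟩
      have h1 : IsScalarTower.toAlgHom A A' D (algebraMap A A' t ^ k * y) ∈
          (Algebra.adjoin A (Set.range g')).map (IsScalarTower.toAlgHom A A' D) := ⟨_, hk, rfl⟩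
      rw [AlgHom.map_adjoin, ← Set.range_comp] at h1
      have h2 : algebraMap A' D (s₀ ^ m) * IsLocalization.mk' D y
          (⟨s₀ ^ m, m, rfl⟩ : Submonoid.powers s₀) = algebraMap A' D y :=
        IsLocalization.mk'_spec' D y (⟨s₀ ^ m, m, rfl⟩ : Submonoid.powers s₀)
      rw [show Set.range w = Set.range (⇑(IsScalarTower.toAlgHom A A' D) ∘ g') from rfl]
      convert h1 using 1
      rw [pow_add, mul_comm (_ ^ m), mul_assoc, map_mul, map_pow, IsScalarTower.coe_toAlgHom',
          ← IsScalarTower.algebraMap_apply A A' D, ← h2, map_pow, ← IsScalarTower.algebraMap_apply A A' D]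
    · rw [IsScalarTower.algebraMap_apply A A' D, IsLocalization.map_eq_zero_iff (Submonoid.powers s₀)] at ha
      obtain ⟨⟨_, m, rfl⟩, hm⟩ := ha
      have h0 : algebraMap A (Localization.Away πA) (t ^ m * a) = 0 := by
        rw [map_mul, map_pow]
        exact congrArg Subtype.val hm
      obtain ⟨⟨_, N, rfl⟩, hN⟩ := (IsLocalization.map_eq_zero_iff (Submonoid.powers πA) _ _).mp h0
      exact ⟨N, m, by rw [mul_assoc]; exact hN⟩
  let q' : Ideal A' := (IsLocalRing.maximalIdeal Λ).comap φ'.toRingHom
  haveI : q'.IsPrime := inferInstance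
  have hs₀ : s₀ ∉ q' := fun h => ht (by
    have h' : φ' s₀ ∈ IsLocalRing.maximalIdeal Λ := h
    rw [φ'.commutes] at h'
    exact h')
  let L := Localization.AtPrime q'
  have hle : Submonoid.powers s₀ ≤ q'.primeCompl := Submonoid.powers_le.mpr hs₀
  letI : Algebra D L := (IsLocalization.map (M := Submonoid.powers s₀) (T := q'.primeCompl) L
    (RingHom.id A') hle).toAlgebra
  haveI : IsScalarTower A' D L := .of_algebraMap_eq fun a =>
    (IsLocalization.map_eq (S := D) (Q := L) (g := RingHom.id A') hle a).symm
  haveI : IsScalarTower R D L := IsScalarTower.to₁₃₄ R A' D L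
  haveI : IsLocalization (q'.primeCompl.map (algebraMap A' D)) L :=
    IsLocalization.isLocalization_of_submonoid_le D L (Submonoid.powers s₀) q'.primeCompl hle
  haveI : Algebra.FormallySmooth D L := .of_isLocalization (q'.primeCompl.map (algebraMap A' D))
  haveI := hfs
  exact Algebra.FormallySmooth.comp R D L

end Groth.Agent.S6861
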