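import Groth.Statements.S6862
import Mathlib.RingTheory.Finiteness.Prod
import Mathlib.LinearAlgebra.FreeModule.Basic

set_option autoImplicit false
universe u
open scoped TensorProduct
open CAlg

namespace Groth.Agent.S6862

/-- Let `R` be a commutative ring and `P'`, `P`, `P''` finitely generated projective `R`-modules in an
exact sequence `0 → P' → P → P'' → 0`. Whenever two of the three are stably free, the remaining one
is stably free too (all three cases are stated). -/
theorem result {R : Type u} [CommRing R] {P' P P'' : Type u}
    [AddCommGroup P'] [Module R P'] [Module.Finite R P'] [Module.Projective R P']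
    [AddCommGroup P] [Module R P] [Module.Finite R P] [Module.Projective R P]
    [AddCommGroup P''] [Module R P''] [Module.Finite R P''] [Module.Projective R P'']
    (f : P' →ₗ[R] P) (g : P →ₗ[R] P'') (hf : Function.Injective f) (hg : Function.Surjective g)
    (hfg : Function.Exact f g) :
    (Module.IsStablyFree R P' → Module.IsStablyFree R P → Module.IsStablyFree R P'') ∧
    (Module.IsStablyFree R P' → Module.IsStablyFree R P'' → Module.IsStablyFree R P) ∧
    (Module.IsStablyFree R P → Module.IsStablyFree R P'' → Module.IsStablyFree R P') := by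
  obtain ⟨s, hs⟩ := Module.projective_lifting_property g LinearMap.id hg
  let e : P ≃ₗ[R] P' × P'' := (hfg.splitSurjectiveEquiv hf ⟨s, hs⟩).1
  refine ⟨fun h1 h2 => ?_, fun h1 h2 => ?_, fun h1 h2 => ?_⟩
  · obtain ⟨N, _, _, _, _, h1'⟩ := Module.IsStablyFree.exist_free_prod R P'
    obtain ⟨N₂, _, _, _, _, h2'⟩ := Module.IsStablyFree.exist_free_prod R P
    haveI : Module.Free R (P'' × ((P' × N) × N₂)) := Module.Free.of_equiv (show
      ((P × N₂) × N) ≃ₗ[R] P'' × ((P' × N) × N₂) from
      { toFun := fun z => ((e z.1.1).2, (((e z.1.1).1, z.2), z.1.2))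
        invFun := fun z => ((e.symm (z.2.1.1, z.1), z.2.2), z.2.1.2)
        map_add' := fun a b => by simp
        map_smul' := fun r a => by simp
        left_inv := fun a => by simp
        right_inv := fun a => by simp })
    exact Module.IsStablyFree.of_free_prod R P'' ((P' × N) × N₂)
  · obtain ⟨N, _, _, _, _, h1'⟩ := Module.IsStablyFree.exist_free_prod R P'
    obtain ⟨N₂, _, _, _, _, h2'⟩ := Module.IsStablyFree.exist_free_prod R P''
    haveI : Module.Free R (P × (N × N₂)) := Module.Free.of_equiv (show
      ((P' × N) × (P'' × N₂)) ≃ₗ[R] P × (N × N₂) from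
      { toFun := fun z => (e.symm (z.1.1, z.2.1), (z.1.2, z.2.2))
        invFun := fun z => (((e z.1).1, z.2.1), ((e z.1).2, z.2.2))
        map_add' := fun a b => by simp [← map_add]
        map_smul' := fun r a => by simp [← map_smul]
        left_inv := fun a => by simp
        right_inv := fun a => by simp })
    exact Module.IsStablyFree.of_free_prod R P (N × N₂)
  · obtain ⟨N, _, _, _, _, h1'⟩ := Module.IsStablyFree.exist_free_prod R P''
    obtain ⟨N₂, _, _, _, _, h2'⟩ := Module.IsStablyFree.exist_free_prod R P
    haveI : Module.Free R (P' × ((P'' × N) × N₂)) := Module.Free.of_equiv (show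
      ((P × N₂) × N) ≃ₗ[R] P' × ((P'' × N) × N₂) from
      { toFun := fun z => ((e z.1.1).1, (((e z.1.1).2, z.2), z.1.2))
        invFun := fun z => ((e.symm (z.1, z.2.1.1), z.2.2), z.2.1.2)
        map_add' := fun a b => by simp
        map_smul' := fun r a => by simp
        left_inv := fun a => by simp
        right_inv := fun a => by simp })
    exact Module.IsStablyFree.of_free_prod R P' ((P'' × N) × N₂)

end Groth.Agent.S6862
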