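import Groth.Statements.S6863
import Mathlib.Algebra.Module.StablyFree.Basic
import Mathlib.RingTheory.Nakayama
import Mathlib.LinearAlgebra.TensorProduct.Tower
import Mathlib

set_option autoImplicit false
universe u
open TensorProduct
open CAlg

namespace Groth.Agent.S6863

/-- Let `I` be an ideal of a commutative ring `R` contained in the Jacobson radical (equivalently, `1 +
i` is a unit for each `i ∈ I`). Then each finitely generated stably free module `E` over `R/I`
lifts: there is a finite stably free `R`-module `M` with `M/IM ≅ E` (existence of an isomorphism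
only; the published statement names no map). -/
theorem result {R : Type u} [CommRing R] (I : Ideal R)
    (hI : I ≤ Ideal.jacobson (⊥ : Ideal R)) (E : Type u) [AddCommGroup E] [Module (R ⧸ I) E]
    [Module.Finite (R ⧸ I) E] [Module.IsStablyFree (R ⧸ I) E] :
    ∃ (M : Type u) (_ : AddCommGroup M) (_ : Module R M), Module.Finite R M ∧ Module.IsStablyFree R M ∧
      Nonempty ((R ⧸ I) ⊗[R] M ≃ₗ[R ⧸ I] E) := by
  classical
  let Q := R ⧸ I
  obtain ⟨N, _, _, _, _, hfree⟩ := Module.IsStablyFree.exist_free_prod Q E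
  haveI := hfree
  obtain ⟨m, ⟨eN⟩⟩ : ∃ m, Nonempty (N ≃ₗ[Q] (Fin m → Q)) :=
    ⟨_, ⟨((Module.Free.chooseBasis Q N).reindex (Fintype.equivFin _)).equivFun⟩⟩
  obtain ⟨n, ⟨eF⟩⟩ : ∃ n, Nonempty ((E × N) ≃ₗ[Q] (Fin n → Q)) :=
    ⟨_, ⟨((Module.Free.chooseBasis Q (E × N)).reindex (Fintype.equivFin _)).equivFun⟩⟩
  let ub : (Fin n → Q) →ₗ[Q] (Fin m → Q) := eN.toLinearMap ∘ₗ LinearMap.snd Q E N ∘ₗ eF.symm.toLinearMap
  let qn : (Fin n → R) →ₗ[R] (Fin n → Q) := LinearMap.compLeft I.mkQ (Fin n)
  let qm : (Fin m → R) →ₗ[R] (Fin m → Q) := LinearMap.compLeft I.mkQ (Fin m)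
  have hqn : Function.Surjective qn := fun z => ⟨fun i => (z i).out, funext fun i => Quotient.out_eq _⟩
  have hqm : Function.Surjective qm := fun z => ⟨fun i => (z i).out, funext fun i => Quotient.out_eq _⟩
  obtain ⟨u, hu⟩ := Module.projective_lifting_property qm (ub.restrictScalars R ∘ₗ qn) hqm
  have hu' : ∀ x, qm (u x) = ub (qn x) := fun x => LinearMap.congr_fun hu x
  have hqker : ∀ {k : ℕ} (x : Fin k → R), (∀ i, x i ∈ I) → x ∈ I • (⊤ : Submodule R (Fin k → R)) := by
    intro k x hx
    rw [← (Pi.basisFun R (Fin k)).sum_repr x]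
    exact Submodule.sum_mem _ fun i _ => Submodule.smul_mem_smul (hx i) Submodule.mem_top
  have husurj : Function.Surjective u := by
    rw [← LinearMap.range_eq_top, eq_top_iff]
    refine Submodule.le_of_le_smul_of_le_jacobson_bot (Module.Finite.fg_top) hI fun y _ => ?_
    obtain ⟨xb, hxb⟩ : ∃ xb, ub xb = qm y :=
      ⟨eF (0, eN.symm (qm y)), by simp [ub]⟩
    obtain ⟨x, rfl⟩ := hqn xb
    refine Submodule.mem_sup.mpr ⟨u x, ⟨x, rfl⟩, y - u x, hqker _ fun i => ?_, add_sub_cancel _ _⟩
    rw [← Submodule.Quotient.mk_eq_zero]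
    show qm (y - u x) i = 0
    rw [map_sub, hu', hxb, sub_self]; rfl
  obtain ⟨s, hs⟩ := Module.projective_lifting_property u LinearMap.id husurj
  have hs' : ∀ y, u (s y) = y := fun y => LinearMap.congr_fun hs y
  let M := LinearMap.ker u
  let π : (Fin n → R) →ₗ[R] M := LinearMap.codRestrict M (LinearMap.id - s ∘ₗ u) fun x => by
    show u (x - s (u x)) = 0
    rw [map_sub, hs', sub_self]
  have hπ : ∀ x : M, π x = x := fun x => Subtype.ext (by
    show (x : Fin n → R) - s (u x) = x
    rw [show u x = 0 from x.2, map_zero, sub_zero])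
  have hπs : Function.Surjective π := fun x => ⟨x, hπ x⟩
  haveI hMf : Module.Finite R M := Module.Finite.of_surjective π hπs
  let e : (Fin n → R) ≃ₗ[R] M × (Fin m → R) := LinearEquiv.ofLinear (π.prod u) (M.subtype.coprod s)
    (LinearMap.ext fun z => by
      refine Prod.ext (Subtype.ext ?_) ?_
      · show ((z.1 : Fin n → R) + s z.2) - s (u ((z.1 : Fin n → R) + s z.2)) = z.1
        rw [map_add u, show u z.1 = 0 from z.1.2, hs', zero_add]
        abel
      · show u ((z.1 : Fin n → R) + s z.2) = z.2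
        rw [map_add, show u z.1 = 0 from z.1.2, hs', zero_add])
    (LinearMap.ext fun x => by
      show (x - s (u x)) + s (u x) = x
      abel)
  haveI : Module.Free R (M × (Fin m → R)) := Module.Free.of_equiv e
  haveI hMs : Module.IsStablyFree R M := Module.IsStablyFree.of_free_prod R M (Fin m → R)
  let K := LinearMap.ker ub
  let γ : M →ₗ[R] K := LinearMap.codRestrict (K.restrictScalars R) (qn ∘ₗ M.subtype) fun x => by
    show ub (qn x) = 0
    rw [← hu', show u x = 0 from x.2, map_zero]
  let β : Q ⊗[R] M →ₗ[Q] K := γ.liftBaseChange Q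
  have hrep : ∀ z : Q ⊗[R] M, ∃ x : M, z = 1 ⊗ₜ x := by
    intro z
    induction z using TensorProduct.induction_on with
    | zero => exact ⟨0, (TensorProduct.tmul_zero _ _).symm⟩
    | tmul a x =>
      obtain ⟨a, rfl⟩ := Ideal.Quotient.mk_surjective a
      refine ⟨a • x, ?_⟩
      rw [← TensorProduct.smul_tmul, Algebra.smul_def, mul_one]
      rfl
    | add x y hx hy =>
      obtain ⟨a, rfl⟩ := hx; obtain ⟨b, rfl⟩ := hy
      exact ⟨a + b, (TensorProduct.tmul_add _ _ _).symm⟩
  have hβ : Function.Bijective β := by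
    refine ⟨(injective_iff_map_eq_zero β).mpr fun z hz => ?_, fun w => ?_⟩
    · obtain ⟨x, rfl⟩ := hrep z
      rw [LinearMap.liftBaseChange_tmul, one_smul] at hz
      have hx : ∀ i, (x : Fin n → R) i ∈ I := fun i =>
        (Submodule.Quotient.mk_eq_zero I).mp (congrFun (congrArg Subtype.val hz) i)
      have hxI : (x : M) ∈ I • (⊤ : Submodule R M) := by
        have h := Submodule.mem_map_of_mem (f := π) (hqker (x : Fin n → R) hx)
        rw [Submodule.map_smul'', Submodule.map_top, LinearMap.range_eq_top.mpr hπs, hπ] at h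
        exact h
      refine Submodule.smul_induction_on hxI (fun a ha y _ => ?_) (fun a b ha hb => ?_)
      · rw [← TensorProduct.smul_tmul, Algebra.smul_def, mul_one,
          show algebraMap R Q a = 0 from Ideal.Quotient.eq_zero_iff_mem.mpr ha, TensorProduct.zero_tmul]
      · rw [TensorProduct.tmul_add, ha, hb, add_zero]
    · obtain ⟨x, hx⟩ := hqn w
      have hker : ∀ i, u x i ∈ I := fun i => by
        rw [← Submodule.Quotient.mk_eq_zero]
        show qm (u x) i = 0
        rw [hu', hx, show ub w = 0 from w.2]; rfl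
      refine ⟨1 ⊗ₜ π x, Subtype.ext ?_⟩
      rw [LinearMap.liftBaseChange_tmul, one_smul]
      show qn (x - s (u x)) = w
      rw [map_sub, hx, sub_eq_self]
      have h := Submodule.mem_map_of_mem (f := qn ∘ₗ s) (hqker _ hker)
      rw [Submodule.map_smul''] at h
      refine Submodule.smul_induction_on h (fun a ha y _ => ?_) (fun a b ha hb => ?_)
      · funext i
        rw [Pi.smul_apply, Algebra.smul_def,
          show algebraMap R Q a = 0 from Ideal.Quotient.eq_zero_iff_mem.mpr ha, zero_mul]
        rfl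
      · rw [ha, hb, add_zero]
  let η : E →ₗ[Q] K := LinearMap.codRestrict K (eF.toLinearMap ∘ₗ LinearMap.inl Q E N) fun x => by
    show ub (eF (x, 0)) = 0
    simp [ub]
  have hη : Function.Bijective η := by
    refine ⟨fun a b hab => ?_, fun w => ⟨(eF.symm w).1, Subtype.ext ?_⟩⟩
    · exact congrArg Prod.fst (eF.injective (congrArg Subtype.val hab) : ((a, 0) : E × N) = (b, 0))
    · show eF ((eF.symm w).1, 0) = w
      have h2 : (eF.symm w).2 = 0 := eN.injective ((w.2 : ub w = 0).trans eN.map_zero.symm)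
      rw [← h2, Prod.mk.eta, LinearEquiv.apply_symm_apply]
  exact ⟨M, inferInstance, inferInstance, hMf, hMs,
    ⟨(LinearEquiv.ofBijective β hβ).trans (LinearEquiv.ofBijective η hη).symm⟩⟩

end Groth.Agent.S6863
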