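import Groth.Statements.S6864
import Mathlib.RingTheory.Nakayama
import Mathlib.LinearAlgebra.TensorProduct.Quotient

set_option autoImplicit false
universe u
open TensorProduct
open CAlg

namespace Groth.Agent.S6864

/-- Let `I` be an ideal of a commutative ring `R` contained in the Jacobson radical and let `φ : P → P'`
be an `R`-linear map between finite projective `R`-modules. If the induced map `P/IP → P'/IP'` is
bijective, then `φ` is bijective. -/
theorem result {R : Type u} [CommRing R] (I : Ideal R)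
    (hI : I ≤ Ideal.jacobson (⊥ : Ideal R)) {P P' : Type u}
    [AddCommGroup P] [Module R P] [Module.Finite R P] [Module.Projective R P]
    [AddCommGroup P'] [Module R P'] [Module.Finite R P'] [Module.Projective R P'] (φ : P →ₗ[R] P')
    (h : Function.Bijective (φ.baseChange (R ⧸ I))) : Function.Bijective φ := by
  classical
  have hsurj : Function.Surjective φ := by
    rw [← LinearMap.range_eq_top, eq_top_iff]
    refine Submodule.le_of_le_smul_of_le_jacobson_bot Module.Finite.fg_top hI fun y _ => ?_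
    obtain ⟨z, hz⟩ := h.2 ((1 : R ⧸ I) ⊗ₜ[R] y)
    obtain ⟨w, hw⟩ := Submodule.Quotient.mk_surjective _ (TensorProduct.quotTensorEquivQuotSMul P I z)
    have hz' : z = Ideal.Quotient.mk I 1 ⊗ₜ[R] w := by
      apply (TensorProduct.quotTensorEquivQuotSMul P I).injective
      rw [← hw, TensorProduct.quotTensorEquivQuotSMul_mk_tmul, one_smul]
    rw [hz', LinearMap.baseChange_tmul] at hz
    have h1 := congrArg (TensorProduct.quotTensorEquivQuotSMul P' I) hz
    rw [show (1 : R ⧸ I) = Ideal.Quotient.mk I 1 from rfl, TensorProduct.quotTensorEquivQuotSMul_mk_tmul,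
      TensorProduct.quotTensorEquivQuotSMul_mk_tmul, one_smul, one_smul, eq_comm, Submodule.Quotient.eq] at h1
    exact Submodule.mem_sup.mpr ⟨φ w, ⟨w, rfl⟩, y - φ w, h1, add_sub_cancel _ _⟩
  obtain ⟨σ, hσ⟩ := Module.projective_lifting_property φ LinearMap.id hsurj
  refine ⟨?_, hsurj⟩
  have hσ' : Function.Surjective σ := by
    rw [← LinearMap.range_eq_top, eq_top_iff]
    refine Submodule.le_of_le_smul_of_le_jacobson_bot Module.Finite.fg_top hI fun x _ => ?_
    have hφσ : φ (σ (φ x)) = φ x := LinearMap.congr_fun hσ (φ x)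
    have h1 : ((1 : R ⧸ I) ⊗ₜ[R] (x - σ (φ x))) = 0 := h.1 (by
      rw [LinearMap.baseChange_tmul, map_sub, hφσ, sub_self, TensorProduct.tmul_zero, map_zero])
    have h2 := congrArg (TensorProduct.quotTensorEquivQuotSMul P I) h1
    rw [show (1 : R ⧸ I) = Ideal.Quotient.mk I 1 from rfl, TensorProduct.quotTensorEquivQuotSMul_mk_tmul,
      one_smul, map_zero, Submodule.Quotient.mk_eq_zero] at h2
    exact Submodule.mem_sup.mpr ⟨σ (φ x), ⟨φ x, rfl⟩, x - σ (φ x), h2, add_sub_cancel _ _⟩
  intro a b hab
  obtain ⟨a, rfl⟩ := hσ' a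
  obtain ⟨b, rfl⟩ := hσ' b
  have ha : φ (σ a) = a := LinearMap.congr_fun hσ a
  have hb : φ (σ b) = b := LinearMap.congr_fun hσ b
  rw [ha, hb] at hab
  rw [hab]

end Groth.Agent.S6864
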