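import Groth.Statements.S6865
import Groth.Agent.S6864

set_option autoImplicit false
universe u
open TensorProduct
open CAlg

namespace Groth.Agent.S6865

/-- Let `I` be an ideal of a commutative ring `R` contained in the Jacobson radical and let `P, P'` be
finite projective `R`-modules. If `P/IP` and `P'/IP'` are isomorphic `R/I`-modules, then `P` and
`P'` are isomorphic. -/
theorem result {R : Type u} [CommRing R] (I : Ideal R)
    (hI : I ≤ Ideal.jacobson (⊥ : Ideal R)) (P P' : Type u)
    [AddCommGroup P] [Module R P] [Module.Finite R P] [Module.Projective R P]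
    [AddCommGroup P'] [Module R P'] [Module.Finite R P'] [Module.Projective R P']
    (e : (R ⧸ I) ⊗[R] P ≃ₗ[R ⧸ I] (R ⧸ I) ⊗[R] P') : Nonempty (P ≃ₗ[R] P') := by
  classical
  let π : ∀ (Q : Type u) [AddCommGroup Q] [Module R Q], Q →ₗ[R] (R ⧸ I) ⊗[R] Q := fun Q _ _ =>
    TensorProduct.mk R (R ⧸ I) Q 1
  have hπ : ∀ (Q : Type u) [AddCommGroup Q] [Module R Q], Function.Surjective (π Q) := fun Q _ _ z => by
    induction z using TensorProduct.induction_on with
    | zero => exact ⟨0, map_zero _⟩
    | tmul a m =>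
      obtain ⟨r, rfl⟩ := Ideal.Quotient.mk_surjective a
      refine ⟨r • m, ?_⟩
      show (1 : R ⧸ I) ⊗ₜ[R] (r • m) = _
      rw [← TensorProduct.smul_tmul]
      congr 1
      show Ideal.Quotient.mk I r * 1 = _
      rw [mul_one]
    | add a b ha hb =>
      obtain ⟨a, rfl⟩ := ha
      obtain ⟨b, rfl⟩ := hb
      exact ⟨a + b, map_add _ a b⟩
  obtain ⟨φ, hφ⟩ := Module.projective_lifting_property (π P') ((e.toLinearMap.restrictScalars R) ∘ₗ π P) (hπ P')
  have he : φ.baseChange (R ⧸ I) = e.toLinearMap := by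
    ext m
    exact LinearMap.congr_fun hφ m
  exact ⟨LinearEquiv.ofBijective φ (Groth.Agent.S6864.result I hI φ (by rw [he]; exact e.bijective))⟩

end Groth.Agent.S6865
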