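import Groth.Statements.S6866
import Groth.Agent.DomMod.Basic
import Mathlib.RingTheory.Flat.Basic
import Mathlib.LinearAlgebra.TensorProduct.Pi
import Mathlib.RingTheory.TensorProduct.Finite

set_option autoImplicit false
universe u
open scoped TensorProduct
open TensorProduct
open CAlg

namespace Groth.Agent.S6866

/-- If `M` is a torsion free module over a domain `R` and `R → R'` is a flat ring map to another domain,
then `R' ⊗_R M` is torsion free over `R'`. -/
theorem result (R R' : Type u) [CommRing R] [IsDomain R] [CommRing R']
    [IsDomain R'] [Algebra R R'] [Module.Flat R R'] (M : Type u) [AddCommGroup M] [Module R M]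
    [Module.IsTorsionFree R M] : Module.IsTorsionFree R' (R' ⊗[R] M) := by
  classical
  refine Module.IsTorsionFree.mk fun a ha x y hxy => ?_
  have hxy' : a • (x - y) = 0 := by rw [smul_sub]; exact sub_eq_zero.mpr hxy
  obtain ⟨J, hJ, z, hz⟩ := Submodule.exists_fg_le_eq_rTensor_subtype (R := R) (M := R')
    (TensorProduct.comm R R' M (x - y))
  haveI : Module.Finite R J := Module.Finite.iff_fg.mpr hJ
  obtain ⟨n, f, hf⟩ := DomMod.exists_injective_of_isTorsionFree R J
  have hinj : Function.Injective (J.subtype.baseChange R') := by
    intro u v huv
    exact Module.Flat.lTensor_preserves_injective_linearMap _ J.injective_subtype huv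
  have hw : J.subtype.baseChange R' (TensorProduct.comm R J R' z) = x - y := by
    rw [← (TensorProduct.comm R R' M).symm_apply_apply (x - y), hz]
    clear hz
    induction z using TensorProduct.induction_on with
    | zero => simp
    | tmul p q => simp
    | add p q hp hq => simp only [map_add, hp, hq]
  set w := TensorProduct.comm R J R' z
  have h1 : a • w = 0 := hinj (by rw [map_smul, hw, hxy', map_zero])
  let e := TensorProduct.piScalarRight R R' R' (Fin n)
  have h2 : a • e (f.baseChange R' w) = 0 := by rw [← map_smul, ← map_smul, h1, map_zero, map_zero]
  have h3 : f.baseChange R' w = 0 := e.injective (by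
    rw [map_zero]
    funext i
    exact ha.left (by simpa using congrFun h2 i))
  have h4 : w = 0 := Module.Flat.lTensor_preserves_injective_linearMap _ hf
    (h3.trans (map_zero _).symm)
  rw [h4, map_zero] at hw
  exact sub_eq_zero.mp hw.symm

end Groth.Agent.S6866
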