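import Groth.Statements.S6868
import Groth.Agent.DomMod.HomDepth
import Mathlib.RingTheory.Support
import Mathlib.RingTheory.KrullDimension.Basic

set_option autoImplicit false
universe u
open scoped TensorProduct
open CAlg

namespace Groth.Agent.S6868

/-- (1) ⇔ (3) ⇔ (4): for a Noetherian domain `R` and a nonzero finite `R`-module `M`, torsion-freeness
of `M` is equivalent to `(0)` being the unique associated prime of `M`, and also to the conjunction:
`(0)` belongs to the support of `M` and `M` satisfies Serre's condition `(S_1)`. (The published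
statement also lists embedding into a finite free module and the absence of embedded associated
primes; this row states the other three conditions.) -/
theorem result (R : Type u) [CommRing R]
    [IsDomain R] [IsNoetherianRing R] (M : Type u) [AddCommGroup M] [Module R M] [Module.Finite R M] [Nontrivial M] :
    (Module.IsTorsionFree R M ↔ associatedPrimes R M = {⊥}) ∧
    (Module.IsTorsionFree R M ↔
      (⟨⊥, Ideal.isPrime_bot⟩ : PrimeSpectrum R) ∈ Module.support R M ∧ LocCoh.HasSk 1 R M) := by
  have h12 : Module.IsTorsionFree R M → associatedPrimes R M = {⊥} := by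
    intro _
    have hsub : ∀ p ∈ associatedPrimes R M, p = ⊥ := by
      intro p hp
      obtain ⟨hprime, z, hz⟩ := isAssociatedPrime_iff.mp hp
      have hz0 : z ≠ 0 := by
        rintro rfl
        exact hprime.ne_top (by rw [hz, Ideal.eq_top_iff_one]; simp [Submodule.mem_colon_singleton])
      rw [eq_bot_iff]
      intro r hr
      rw [hz, Submodule.mem_colon_singleton, Submodule.mem_bot] at hr
      exact (smul_eq_zero.mp hr).resolve_right hz0
    refine Set.eq_singleton_iff_nonempty_unique_mem.mpr ⟨associatedPrimes.nonempty R M, hsub⟩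
  have h21 : associatedPrimes R M = {⊥} → Module.IsTorsionFree R M := by
    intro h
    refine Module.IsTorsionFree.mk fun r hr x y hxy => ?_
    by_contra hne
    obtain ⟨p, hp, hle⟩ := exists_le_isAssociatedPrime_of_isNoetherianRing R (x - y) (sub_ne_zero.mpr hne)
    have hp0 : p = ⊥ := by simpa [h] using (show p ∈ associatedPrimes R M from hp)
    have hr0 : r ∈ p := hle (by rw [Submodule.mem_colon_singleton, Submodule.mem_bot, smul_sub]; exact sub_eq_zero.mpr hxy)
    rw [hp0, Ideal.mem_bot] at hr0
    exact hr.ne_zero hr0
  have hbot : Module.IsTorsionFree R M → (⟨⊥, Ideal.isPrime_bot⟩ : PrimeSpectrum R) ∈ Module.support R M := by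
    intro _
    obtain ⟨x, hx⟩ := exists_ne (0 : M)
    exact Module.mem_support_iff'.mpr ⟨x, fun r hr => smul_ne_zero (by simpa using hr) hx⟩
  have h1S : Module.IsTorsionFree R M → LocCoh.HasSk 1 R M := by
    intro _ p _
    by_cases hp : p = ⊥
    · subst hp
      refine le_trans (min_le_right _ _) (le_trans (Module.supportDim_le_ringKrullDim _ _) ?_)
      rw [IsLocalization.AtPrime.ringKrullDim_eq_height (⊥ : Ideal R) (Localization.AtPrime (⊥ : Ideal R)),
        Ideal.height_bot]
      exact WithBot.coe_le_coe.mpr zero_le
    · obtain ⟨r, hr, hr0⟩ := Submodule.exists_mem_ne_zero_of_ne_bot hp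
      refine le_trans (min_le_left _ _) (WithBot.coe_le_coe.mpr ?_)
      have h1 : IsSMulRegular M r := (isRegular_of_ne_zero hr0).isSMulRegular
      have h2 : ((1 : ℕ) : ℕ∞) ≤ LocCoh.idealDepth p M := by
        simpa using Depth.le_idealDepth_of_isWeaklyRegular
          ((RingTheory.Sequence.isWeaklyRegular_singleton_iff M r).mpr h1) (I := p) (by simpa using hr)
      exact le_trans h2 (Depth.idealDepth_le_depth_localizedModule p le_rfl)
  refine ⟨⟨h12, h21⟩, ⟨fun h => ⟨hbot h, h1S h⟩, fun ⟨h0, hS⟩ => h21 ?_⟩⟩
  refine Set.eq_singleton_iff_nonempty_unique_mem.mpr ⟨associatedPrimes.nonempty R M, fun p hp => ?_⟩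
  by_contra hp0
  haveI := hp.isPrime
  have hass : IsLocalRing.maximalIdeal (Localization.AtPrime p) ∈
      associatedPrimes (Localization.AtPrime p) (LocalizedModule p.primeCompl M) :=
    Module.associatedPrimes.mem_associatedPrimes_atPrime_of_mem_associatedPrimes hp
  haveI : Module.Finite (Localization.AtPrime p) (LocalizedModule p.primeCompl M) :=
    Module.Finite.of_isLocalizedModule p.primeCompl (LocalizedModule.mkLinearMap p.primeCompl M)
  have hd : LocCoh.depth (Localization.AtPrime p) (LocalizedModule p.primeCompl M) = 0 :=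
    Depth.idealDepth_eq_zero_iff.mpr ⟨_, hass, le_rfl⟩
  have hS' := hS p
  rw [hd] at hS'
  haveI : IsDomain (Localization.AtPrime p) :=
    IsLocalization.isDomain_localization p.primeCompl_le_nonZeroDivisors
  obtain ⟨x, hx⟩ := Module.mem_support_iff'.mp h0
  have hb : (⟨⊥, Ideal.isPrime_bot⟩ : PrimeSpectrum (Localization.AtPrime p)) ∈
      Module.support (Localization.AtPrime p) (LocalizedModule p.primeCompl M) := by
    refine Module.mem_support_iff'.mpr ⟨LocalizedModule.mkLinearMap p.primeCompl M x, fun a ha hax => ?_⟩
    obtain ⟨⟨r, s⟩, rfl⟩ := IsLocalization.mk'_surjective p.primeCompl a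
    rw [← IsLocalizedModule.mk'_one p.primeCompl (LocalizedModule.mkLinearMap p.primeCompl M) x,
      IsLocalizedModule.mk'_smul_mk', mul_one, IsLocalizedModule.mk'_eq_zero'] at hax
    obtain ⟨t, ht⟩ := hax
    have hr : r ≠ 0 := by
      rintro rfl
      exact ha (by simp)
    refine hx (t * r) ?_ (by rw [mul_smul]; exact ht)
    exact fun hmem => mul_ne_zero (nonZeroDivisors.ne_zero (p.primeCompl_le_nonZeroDivisors t.2)) hr
      (by simpa using hmem)
  have hm : (⟨IsLocalRing.maximalIdeal (Localization.AtPrime p), inferInstance⟩ :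
      PrimeSpectrum (Localization.AtPrime p)) ∈
      Module.support (Localization.AtPrime p) (LocalizedModule p.primeCompl M) :=
    Module.support_eq_zeroLocus.ge (Depth.annihilator_le_associatedPrime hass)
  have hlt : (⟨⊥, Ideal.isPrime_bot⟩ : PrimeSpectrum (Localization.AtPrime p)) <
      ⟨IsLocalRing.maximalIdeal _, inferInstance⟩ := by
    refine bot_lt_iff_ne_bot.mpr fun h => hp0 ?_
    have h' : IsLocalRing.maximalIdeal (Localization.AtPrime p) = ⊥ := congrArg PrimeSpectrum.asIdeal h
    rw [← Localization.AtPrime.under_maximalIdeal (I := p), h']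
    exact Ideal.comap_bot_of_injective _ (IsLocalization.injective _ p.primeCompl_le_nonZeroDivisors)
  have h1d : (1 : WithBot ℕ∞) ≤ Module.supportDim (Localization.AtPrime p) (LocalizedModule p.primeCompl M) := by
    exact Order.LTSeries.length_le_krullDim
      ((RelSeries.singleton _ (⟨_, hb⟩ : Module.support _ _)).snoc ⟨_, hm⟩ hlt)
  rw [min_eq_left (by simpa using h1d)] at hS'
  exact absurd (WithBot.coe_le_coe.mp hS') (by simp)

end Groth.Agent.S6868
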