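import Groth.Statements.S6874
import Groth.Agent.DomMod.Reflexive
import Mathlib.RingTheory.TensorProduct.Free
import Mathlib.RingTheory.TensorProduct.Finite
import Mathlib.RingTheory.Flat.Basic

set_option autoImplicit false
universe u
open scoped TensorProduct
open TensorProduct
open CAlg

namespace Groth.Agent.S6874

/-- For a flat ring map `R → R'` between Noetherian domains and a finite reflexive `R`-module `M`, the
base change `R' ⊗_R M` is a (finite) reflexive `R'`-module. -/
theorem result (R R' : Type u) [CommRing R] [IsDomain R]
    [IsNoetherianRing R] [CommRing R'] [IsDomain R'] [IsNoetherianRing R'] [Algebra R R'] [Module.Flat R R']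
    (M : Type u) [AddCommGroup M] [Module R M] [Module.Finite R M] [Module.IsReflexive R M] :
    Module.IsReflexive R' (R' ⊗[R] M) := by
  obtain ⟨n, m, f, g, hf, hfg⟩ := DomMod.exists_exact_of_isReflexive (R := R) M
  haveI : Module.IsReflexive R' (R' ⊗[R] (Fin n → R)) := inferInstance
  haveI : Module.IsTorsionFree R' (R' ⊗[R] (Fin m → R)) := inferInstance
  exact DomMod.isReflexive_of_exact (R := R') (f.baseChange R') (g.baseChange R')
    (Module.Flat.lTensor_preserves_injective_linearMap f hf) (Module.Flat.lTensor_exact R' hfg)

end Groth.Agent.S6874
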