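import Groth.Statements.S6877
import Groth.Agent.DomMod.HomDepth

set_option autoImplicit false
universe u
open scoped TensorProduct
open CAlg

namespace Groth.Agent.S6877

/-- Let `R` be a Noetherian ring and `M, N` finite `R`-modules. If `N` has `(S_1)`, resp. `(S_2)`, then
so does `Hom_R(M, N)`. (The published statement has a third part, over a domain: `N` torsion free
with `(S_2)` implies the same for `Hom_R(M, N)`; this row states parts one and two.) -/
theorem result (R : Type u) [CommRing R] [IsNoetherianRing R]
    (M N : Type u) [AddCommGroup M] [Module R M] [Module.Finite R M] [AddCommGroup N] [Module R N] [Module.Finite R N] :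
    (LocCoh.HasSk 1 R N → LocCoh.HasSk 1 R (M →ₗ[R] N)) ∧
    (LocCoh.HasSk 2 R N → LocCoh.HasSk 2 R (M →ₗ[R] N)) := by
  obtain ⟨a, b, f, g, hf, hfg⟩ := DomMod.HomDepth.exists_hom_exact (R := R) M N
  haveI : IsNoetherian R (Fin a → N) := isNoetherian_of_isNoetherianRing_of_finite R _
  haveI : Module.Finite R (M →ₗ[R] N) := Module.Finite.of_injective f hf
  exact ⟨fun h => DomMod.HomDepth.hasSk_kernel f g hf hfg (by omega) h,
    fun h => DomMod.HomDepth.hasSk_kernel f g hf hfg le_rfl h⟩

end Groth.Agent.S6877
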