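import Groth.Statements.S6878
import Mathlib.RingTheory.Ideal.AssociatedPrime.Basic

set_option autoImplicit false
universe u
open scoped TensorProduct
open CAlg

namespace Groth.Agent.S6878

/-- Let `R` be a Noetherian ring and `φ : M → N` a map of `R`-modules. Suppose that for every prime `𝔭`
of `R` either `M_𝔭 → N_𝔭` is injective or `𝔭` is not an associated prime of `M`. Then `φ` is
injective. -/
theorem result (R : Type u) [CommRing R]
    [IsNoetherianRing R] {M N : Type u} [AddCommGroup M] [Module R M] [AddCommGroup N] [Module R N] (φ : M →ₗ[R] N)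
    (h : ∀ (p : Ideal R) [p.IsPrime],
      Function.Injective (LocalizedModule.map p.primeCompl φ) ∨ p ∉ associatedPrimes R M) :
    Function.Injective φ := by
  rw [injective_iff_map_eq_zero]
  intro x hx
  by_contra hx0
  obtain ⟨p, hp, hle⟩ := exists_le_isAssociatedPrime_of_isNoetherianRing R
    (⟨x, hx⟩ : LinearMap.ker φ) (fun h => hx0 (congrArg Subtype.val h))
  haveI := hp.isPrime
  have hpM : p ∈ associatedPrimes R M :=
    associatedPrimes.subset_of_injective (LinearMap.ker φ).injective_subtype hp
  rcases h p with h1 | h1
  · have h2 : LocalizedModule.mkLinearMap p.primeCompl M x = 0 := h1 (by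
      rw [map_zero, LocalizedModule.mkLinearMap_apply, LocalizedModule.map_mk, hx, LocalizedModule.zero_mk])
    rw [LocalizedModule.mkLinearMap_apply, ← LocalizedModule.zero_mk (1 : p.primeCompl), LocalizedModule.mk_eq] at h2
    obtain ⟨s, hs⟩ := h2
    refine s.2 (hle ?_)
    rw [Submodule.mem_colon_singleton, Submodule.mem_bot]
    apply Subtype.ext
    simpa [Submonoid.smul_def] using hs
  · exact h1 hpM

end Groth.Agent.S6878
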