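import Groth.Statements.S6879
import Groth.Agent.DomMod.HomDepth
import Groth.Agent.DomMod.Reflexive

set_option autoImplicit false
universe u
open scoped TensorProduct
open CAlg

namespace Groth.Agent.S6879

/-- Let `R` be a Noetherian domain and `M` a finite `R`-module. Then `M` is reflexive if and only if for
every prime `𝔭` of `R` either `M_𝔭` is a reflexive `R_𝔭`-module or `depth(M_𝔭) ≥ 2`. -/
theorem result (R : Type u) [CommRing R] [IsDomain R]
    [IsNoetherianRing R] (M : Type u) [AddCommGroup M] [Module R M] [Module.Finite R M] :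
    Module.IsReflexive R M ↔ ∀ (p : Ideal R) [p.IsPrime],
      Module.IsReflexive (Localization.AtPrime p) (LocalizedModule p.primeCompl M) ∨
        2 ≤ LocCoh.depth (Localization.AtPrime p) (LocalizedModule p.primeCompl M) := by
  refine ⟨fun _ p _ => Or.inl (DomMod.isReflexive_localization p.primeCompl p.primeCompl_le_nonZeroDivisors M),
    fun h => ?_⟩
  have hfin : ∀ (p : Ideal R) [p.IsPrime] (X : Type u) [AddCommGroup X] [Module R X] [Module.Finite R X],
      Module.Finite (Localization.AtPrime p) (LocalizedModule p.primeCompl X) := fun p _ X _ _ _ =>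
    Module.Finite.of_isLocalizedModule p.primeCompl (LocalizedModule.mkLinearMap p.primeCompl X)
  haveI : Module.IsTorsionFree R M := by
    refine Module.IsTorsionFree.mk fun r hr x y hxy => ?_
    by_contra hne
    obtain ⟨p, hp, hle⟩ := exists_le_isAssociatedPrime_of_isNoetherianRing R (x - y) (sub_ne_zero.mpr hne)
    haveI := hp.isPrime
    haveI := hfin p M
    have hrp : r ∈ p := hle (by rw [Submodule.mem_colon_singleton, Submodule.mem_bot, smul_sub]; exact sub_eq_zero.mpr hxy)
    have hass : IsLocalRing.maximalIdeal (Localization.AtPrime p) ∈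
        associatedPrimes (Localization.AtPrime p) (LocalizedModule p.primeCompl M) :=
      Module.associatedPrimes.mem_associatedPrimes_atPrime_of_mem_associatedPrimes hp
    rcases h p with hR | hd
    · have hrm : algebraMap R (Localization.AtPrime p) r ∈ IsLocalRing.maximalIdeal _ :=
        (IsLocalization.AtPrime.to_map_mem_maximal_iff (Localization.AtPrime p) p r).mpr hrp
      refine Depth.notMem_of_isSMulRegular hass ?_ hrm
      haveI : IsDomain (Localization.AtPrime p) :=
        IsLocalization.isDomain_localization p.primeCompl_le_nonZeroDivisors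
      refine (isRegular_of_ne_zero ?_).isSMulRegular
      rw [Ne, map_eq_zero_iff _ (IsLocalization.injective _ p.primeCompl_le_nonZeroDivisors)]
      exact hr.ne_zero
    · exact Depth.one_le_idealDepth_iff.mp (le_trans (by norm_num) hd) _ hass le_rfl
  haveI := DomMod.finite_dual (R := R) M
  haveI := DomMod.finite_dual (R := R) (Module.Dual R M)
  let j := Module.Dual.eval R M
  refine ⟨⟨(DomMod.eval_injective_iff R M).mpr inferInstance, fun y => ?_⟩⟩
  by_contra hy
  have hy0 : (LinearMap.range j).mkQ y ≠ 0 := fun h0 => hy ((Submodule.Quotient.mk_eq_zero _).mp h0)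
  obtain ⟨p, hp, hle⟩ := exists_le_isAssociatedPrime_of_isNoetherianRing R _ hy0
  obtain ⟨hprime, z, hz⟩ := isAssociatedPrime_iff.mp hp
  obtain ⟨w, rfl⟩ := Submodule.mkQ_surjective _ z
  rcases h p with hR | hd
  · obtain ⟨s, hs, hsw⟩ := DomMod.exists_smul_mem_range_eval (R := R) M p w
    refine hs ?_
    rw [hz, Submodule.mem_colon_singleton, Submodule.mem_bot, ← map_smul]
    exact (Submodule.Quotient.mk_eq_zero _).mpr hsw
  · haveI := hfin p M
    haveI := hfin p (Module.Dual R (Module.Dual R M))
    haveI := hfin p (Module.Dual R (Module.Dual R M) ⧸ LinearMap.range j)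
    have hp0 : p ≠ ⊥ := by
      obtain ⟨c, hc, -, hc2⟩ := DomMod.eval_kernel_cokernel_torsion R M
      intro hb
      refine hc ?_
      rw [← Ideal.mem_bot, ← hb, hz, Submodule.mem_colon_singleton, Submodule.mem_bot, ← map_smul]
      exact (Submodule.Quotient.mk_eq_zero _).mpr (hc2 w)
    obtain ⟨r, hr, hr0⟩ := Submodule.exists_mem_ne_zero_of_ne_bot hp0
    haveI := DomMod.isTorsionFree_hom (R := R) (Module.Dual R M) R
    have h1 : ((1 : ℕ) : ℕ∞) ≤ LocCoh.depth (Localization.AtPrime p)
        (LocalizedModule p.primeCompl (Module.Dual R (Module.Dual R M))) := by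
      refine le_trans ?_ (Depth.idealDepth_le_depth_localizedModule p le_rfl)
      simpa using Depth.le_idealDepth_of_isWeaklyRegular
        ((RingTheory.Sequence.isWeaklyRegular_singleton_iff _ r).mpr (isRegular_of_ne_zero hr0).isSMulRegular)
        (I := p) (by simpa using hr)
    have h2 := Depth.min_le_idealDepth_X₃ (I := IsLocalRing.maximalIdeal (Localization.AtPrime p))
      (LocalizedModule.map_injective p.primeCompl j ((DomMod.eval_injective_iff R M).mpr inferInstance))
      (LocalizedModule.map_surjective p.primeCompl _ (Submodule.mkQ_surjective (LinearMap.range j)))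
      (LocalizedModule.map_exact p.primeCompl j (LinearMap.range j).mkQ j.exact_map_mkQ_range)
    have h3 : (1 : ℕ∞) ≤ LocCoh.depth (Localization.AtPrime p)
        (LocalizedModule p.primeCompl (Module.Dual R (Module.Dual R M) ⧸ LinearMap.range j)) := by
      refine le_trans (le_min (by exact_mod_cast h1) ?_) h2
      exact le_trans (le_of_eq rfl) (tsub_le_tsub_right hd 1)
    exact Depth.one_le_idealDepth_iff.mp h3 _
      (Module.associatedPrimes.mem_associatedPrimes_atPrime_of_mem_associatedPrimes hp) le_rfl

end Groth.Agent.S6879
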