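import Groth.Statements.S6881
import Groth.Agent.DomMod.Reflexive
import Mathlib.RingTheory.IntegralClosure.Algebra.Basic
import Mathlib.RingTheory.Noetherian.Basic

set_option autoImplicit false
universe u
open scoped TensorProduct
open CAlg

namespace Groth.Agent.S6881

/-- For `A` a Noetherian integrally closed domain with fraction field `K` and `L/K` a finite field
extension, if the integral closure of `A` in `L` is a finitely generated `A`-module then it is a
reflexive `A`-module. -/
theorem result (A K L : Type u) [CommRing A] [IsDomain A] [IsNoetherianRing A]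
    [IsIntegrallyClosed A] [Field K] [Algebra A K] [IsFractionRing A K] [Field L] [Algebra K L] [FiniteDimensional K L]
    [Algebra A L] [IsScalarTower A K L] [Module.Finite A ↥(integralClosure A L)] :
    Module.IsReflexive A ↥(integralClosure A L) := by
  classical
  set B := integralClosure A L
  haveI : IsNoetherian A B := isNoetherian_of_isNoetherianRing_of_finite A B
  have hKinj : Function.Injective (algebraMap A L) := by
    rw [IsScalarTower.algebraMap_eq A K L]
    exact (algebraMap K L).injective.comp (IsFractionRing.injective A K)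
  haveI : Module.IsTorsionFree A B := by
    refine Module.IsTorsionFree.mk fun r hr x y hxy => Subtype.ext ?_
    have h := congrArg Subtype.val hxy
    simp only [Subalgebra.coe_smul] at h
    simp only [Algebra.smul_def] at h
    exact mul_left_cancel₀ (by rw [Ne, map_eq_zero_iff _ hKinj]; exact hr.ne_zero) h
  obtain ⟨c, hc, -, hc2⟩ := DomMod.eval_kernel_cokernel_torsion A B
  obtain ⟨L₀, h₀, c₀, hc₀, hL₀, hLh, -⟩ := DomMod.exists_basis_up_to_scalar A B
  refine ⟨⟨(DomMod.eval_injective_iff A B).mpr inferInstance, fun y => ?_⟩⟩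
  obtain ⟨x, hx⟩ := hc2 y
  have hP : ∀ φ : Module.Dual A B, ∃ a, φ x = c * a := fun φ => ⟨y φ, LinearMap.congr_fun hx φ⟩
  have hPk : ∀ (k : ℕ) (φ : Module.Dual A B), ∃ a, φ (x ^ k) = c ^ k * a := by
    intro k
    induction k with
    | zero => exact fun φ => ⟨φ 1, by simp⟩
    | succ k ih =>
      intro φ
      choose ψ hψ using fun z : B => hP (φ ∘ₗ LinearMap.mulRight A z)
      let ψ' : Module.Dual A B :=
        { toFun := ψ
          map_add' := fun u v => mul_left_cancel₀ hc (by
            rw [mul_add, ← hψ, ← hψ, ← hψ]; simp [mul_add])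
          map_smul' := fun r u => mul_left_cancel₀ hc (by
            rw [RingHom.id_apply, smul_eq_mul, mul_left_comm, ← hψ, ← hψ]; simp) }
      obtain ⟨a, ha⟩ := ih ψ'
      refine ⟨a, ?_⟩
      have := hψ (x ^ k)
      simp only [LinearMap.comp_apply, LinearMap.mulRight_apply] at this
      rw [← pow_succ'] at this
      rw [this, show ψ (x ^ k) = c ^ k * a from ha, pow_succ']
      ring
  have hcL : algebraMap A L c ≠ 0 := by rw [Ne, map_eq_zero_iff _ hKinj]; exact hc
  have hc₀L : algebraMap A L c₀ ≠ 0 := by rw [Ne, map_eq_zero_iff _ hKinj]; exact hc₀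
  let b : L := (algebraMap A L c)⁻¹ * (x : L)
  have hbk : ∀ k : ℕ, algebraMap A L c₀ * b ^ k ∈ B := by
    intro k
    choose w hw using fun i => hPk k (LinearMap.proj i ∘ₗ h₀)
    have h1 : c₀ • x ^ k = c ^ k • L₀ w := by
      rw [← hLh, ← map_smul]
      congr 1
      funext i
      exact hw i
    have h2 := congrArg Subtype.val h1
    simp only [Subalgebra.coe_smul, SubmonoidClass.coe_pow] at h2
    simp only [Algebra.smul_def] at h2
    have h3 : algebraMap A L c₀ * b ^ k = (L₀ w : L) := by
      rw [mul_pow, inv_pow, mul_left_comm, h2, map_pow, ← mul_assoc, inv_mul_cancel₀ (pow_ne_zero k hcL), one_mul]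
    rw [h3]
    exact (L₀ w).2
  let N : Submodule A L := Submodule.span A (Set.range fun k : ℕ => b ^ k)
  have hN : N ≤ (Subalgebra.toSubmodule B).map (LinearMap.mulLeft A (algebraMap A L c₀)⁻¹) := by
    refine Submodule.span_le.mpr ?_
    rintro _ ⟨k, rfl⟩
    exact ⟨algebraMap A L c₀ * b ^ k, hbk k, by simp [← mul_assoc, inv_mul_cancel₀ hc₀L]⟩
  have hNfg : N.FG := by
    have hB : (Subalgebra.toSubmodule B).FG := Module.Finite.iff_fg.mp ‹Module.Finite A B›
    haveI := isNoetherian_of_fg_of_noetherian _ (hB.map (LinearMap.mulLeft A (algebraMap A L c₀)⁻¹))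
    have h5 := (IsNoetherian.noetherian (N.comap ((Subalgebra.toSubmodule B).map
      (LinearMap.mulLeft A (algebraMap A L c₀)⁻¹)).subtype)).map ((Subalgebra.toSubmodule B).map
      (LinearMap.mulLeft A (algebraMap A L c₀)⁻¹)).subtype
    rwa [Submodule.map_comap_eq, Submodule.range_subtype, inf_eq_right.mpr hN] at h5
  have hb : IsIntegral A b := by
    refine isIntegral_of_smul_mem_submodule N (fun h0 => ?_) hNfg b fun n hn => ?_
    · have : (1 : L) ∈ N := Submodule.subset_span ⟨0, pow_zero b⟩
      rw [h0, Submodule.mem_bot] at this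
      exact one_ne_zero this
    · have hle : N ≤ N.comap (LinearMap.mulLeft A b) :=
        Submodule.span_le.mpr fun _ ⟨k, hk⟩ => Submodule.subset_span ⟨k + 1, by simp [← hk, pow_succ']⟩
      exact hle hn
  refine ⟨⟨b, hb⟩, ?_⟩
  have hcb : c • (⟨b, hb⟩ : B) = x := Subtype.ext (by
    simp [b, Algebra.smul_def, ← mul_assoc, mul_inv_cancel₀ hcL])
  refine LinearMap.ext fun φ => mul_left_cancel₀ hc ?_
  have h4 := LinearMap.congr_fun hx φ
  simp only [Module.Dual.eval_apply, LinearMap.smul_apply, smul_eq_mul] at h4 ⊢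
  rw [← h4, ← hcb, map_smul, smul_eq_mul]

end Groth.Agent.S6881
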