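import Groth.Statements.S6882
import Groth.Agent.DomMod.Reflexive
import Mathlib.LinearAlgebra.FreeModule.PID
import Mathlib.Algebra.Module.Torsion.Basic

set_option autoImplicit false
universe u
open scoped TensorProduct
open CAlg

namespace Groth.Agent.S6882

/-- For a finite module `M` over a discrete valuation ring `R`, the evaluation map from `M` to its
double dual `M**` is surjective. -/
theorem result (R : Type u) [CommRing R] [IsDomain R]
    [IsDiscreteValuationRing R] (M : Type u) [AddCommGroup M] [Module R M] [Module.Finite R M] :
    Function.Surjective (Module.Dual.eval R M) := by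
  let T : Submodule R M := Submodule.torsion R M
  haveI : Module.IsTorsionFree R (M ⧸ T) := inferInstance
  haveI : Module.Finite R (M ⧸ T) := Module.Finite.quotient R T
  haveI : Module.Free R (M ⧸ T) := Module.free_of_finite_type_torsion_free'
  refine DomMod.surjective_eval_of_free_quotient T.mkQ T.mkQ_surjective fun φ x hx => ?_
  have hxT : x ∈ T := (Submodule.Quotient.mk_eq_zero T).mp hx
  obtain ⟨a, ha⟩ := (Submodule.mem_torsion_iff x).mp hxT
  have h1 : (a : R) * φ x = 0 := by
    rw [← smul_eq_mul, ← map_smul, ← Submonoid.smul_def, ha, map_zero]
  exact (mul_eq_zero.mp h1).resolve_left (nonZeroDivisors.coe_ne_zero a)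

end Groth.Agent.S6882
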