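import Groth.Statements.S6886
import Mathlib.RingTheory.AdjoinRoot
import Mathlib.RingTheory.IntegralClosure.Algebra.Basic
import Mathlib

set_option autoImplicit false
universe u
open TensorProduct
open CAlg

namespace Groth.Agent.S6886

theorem exists_split : ∀ (d : ℕ) (R : Type u) [CommRing R] (P : Polynomial R), P.Monic → P.natDegree = d →
    ∃ (R' : Type u) (_ : CommRing R') (_ : Algebra R R'), Module.Finite R R' ∧ Module.Free R R' ∧
      Function.Injective (algebraMap R R') ∧
      ∃ α : Fin d → R', P.map (algebraMap R R') = ∏ j, (Polynomial.X - Polynomial.C (α j)) := by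
  intro d
  induction d with
  | zero =>
    intro R _ P hP hd
    refine ⟨R, inferInstance, inferInstance, inferInstance, inferInstance, fun a b h => h, Fin.elim0, ?_⟩
    rw [Polynomial.eq_one_of_monic_natDegree_zero hP hd, Polynomial.map_one, Fin.prod_univ_zero]
  | succ d ih =>
    intro R _ P hP hd
    haveI : Nontrivial R := by
      by_contra h
      haveI := not_nontrivial_iff_subsingleton.mp h
      rw [Subsingleton.elim P 0, Polynomial.natDegree_zero] at hd
      omega
    let A := AdjoinRoot P
    let pb := AdjoinRoot.powerBasis' hP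
    haveI : Module.Free R A := Module.Free.of_basis pb.basis
    haveI : Module.Finite R A := Module.Finite.of_basis pb.basis
    have hinj : Function.Injective (algebraMap R A) := by
      rw [injective_iff_map_eq_zero]
      intro a ha
      rw [AdjoinRoot.algebraMap_eq, ← AdjoinRoot.mk_C, AdjoinRoot.mk_eq_zero] at ha
      have h1 := (Polynomial.modByMonic_eq_zero_iff_dvd hP).mpr ha
      rw [(Polynomial.modByMonic_eq_self_iff hP).mpr ?_] at h1
      · exact Polynomial.C_eq_zero.mp h1
      · refine Polynomial.degree_C_le.trans_lt ?_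
        rw [Polynomial.degree_eq_natDegree hP.ne_zero, hd]
        exact_mod_cast Nat.succ_pos d
    haveI : Nontrivial A := hinj.nontrivial
    have hroot : (P.map (algebraMap R A)).IsRoot (AdjoinRoot.root P) := by
      rw [Polynomial.IsRoot, Polynomial.eval_map, AdjoinRoot.algebraMap_eq]
      exact AdjoinRoot.eval₂_root P
    let Q := P.map (algebraMap R A) /ₘ (Polynomial.X - Polynomial.C (AdjoinRoot.root P))
    have hQ : (Polynomial.X - Polynomial.C (AdjoinRoot.root P)) * Q = P.map (algebraMap R A) :=
      Polynomial.mul_divByMonic_eq_iff_isRoot.mpr hroot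
    have hQm : Q.Monic := (Polynomial.monic_X_sub_C _).of_mul_monic_left (hQ ▸ hP.map _)
    have hQd : Q.natDegree = d := by
      have h2 := congrArg Polynomial.natDegree hQ
      rw [(Polynomial.monic_X_sub_C _).natDegree_mul hQm, Polynomial.natDegree_X_sub_C, hP.natDegree_map, hd] at h2
      omega
    obtain ⟨B, _, _, hBf, hBfree, hBi, α, hα⟩ := ih A Q hQm hQd
    letI : Algebra R B := ((algebraMap A B).comp (algebraMap R A)).toAlgebra
    haveI : IsScalarTower R A B := IsScalarTower.of_algebraMap_eq fun _ => rfl
    refine ⟨B, inferInstance, inferInstance, Module.Finite.trans A B, Module.Free.trans (S := A), hBi.comp hinj,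
      Fin.cons (algebraMap A B (AdjoinRoot.root P)) α, ?_⟩
    rw [show algebraMap R B = (algebraMap A B).comp (algebraMap R A) from rfl, ← Polynomial.map_map, ← hQ,
      Polynomial.map_mul, hα, Fin.prod_univ_succ, Fin.cons_zero]
    simp only [Fin.cons_succ, Polynomial.map_sub, Polynomial.map_X, Polynomial.map_C]

/-- Let `R → S` be a finite ring map. One can find an extension `R ⊆ R'` of rings, with `R'` finite and
free as an `R`-module, for which the ring `S ⊗_R R'` arises as a quotient of `R'[T_1, …,
T_n]/(P_1(T_1), …, P_n(T_n))` with each `P_i(T) = ∏_j (T - α_{ij})` a product of linear factors over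
`R'`. -/
theorem result (R S : Type u) [CommRing R] [CommRing S] [Algebra R S]
    [Module.Finite R S] :
    ∃ (R' : Type u) (_ : CommRing R') (_ : Algebra R R'), Module.Finite R R' ∧ Module.Free R R' ∧
      Function.Injective (algebraMap R R') ∧
      ∃ (n : ℕ) (d : Fin n → ℕ) (α : (i : Fin n) → Fin (d i) → R')
        (φ : MvPolynomial (Fin n) R' →ₐ[R'] R' ⊗[R] S), Function.Surjective φ ∧
          ∀ i, φ (∏ j, (MvPolynomial.X i - MvPolynomial.C (α i j))) = 0 := by
  classical
  obtain ⟨n, s, hs⟩ := Module.Finite.exists_fin (R := R) (M := S)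
  choose P hP hPe using fun i : Fin n => Algebra.IsIntegral.isIntegral (R := R) (s i)
  obtain ⟨R', _, _, hfin, hfree, hinj, α, hα⟩ := exists_split _ R (∏ i, P i) (Polynomial.monic_prod_of_monic _ _ fun i _ => hP i) rfl
  let φ : MvPolynomial (Fin n) R' →ₐ[R'] R' ⊗[R] S := MvPolynomial.aeval fun i => 1 ⊗ₜ s i
  refine ⟨R', inferInstance, inferInstance, hfin, hfree, hinj, n, fun _ => (∏ i, P i).natDegree, fun _ => α, φ, fun z => ?_, fun i => ?_⟩
  · induction z using TensorProduct.induction_on with
    | zero => exact ⟨0, map_zero φ⟩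
    | tmul a x =>
      obtain ⟨c, rfl⟩ := (Submodule.mem_span_range_iff_exists_fun R).mp (hs.ge (Submodule.mem_top (x := x)))
      refine ⟨∑ i, MvPolynomial.C (a * algebraMap R R' (c i)) * MvPolynomial.X i, ?_⟩
      rw [map_sum, TensorProduct.tmul_sum]
      refine Finset.sum_congr rfl fun i _ => ?_
      rw [map_mul, MvPolynomial.aeval_C, MvPolynomial.aeval_X, Algebra.TensorProduct.algebraMap_apply,
        Algebra.TensorProduct.tmul_mul_tmul, mul_one, one_mul, ← TensorProduct.smul_tmul, Algebra.smul_def,
        mul_comm a]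
      rfl
    | add x y hx hy =>
      obtain ⟨a, rfl⟩ := hx; obtain ⟨b, rfl⟩ := hy
      exact ⟨a + b, map_add φ a b⟩
  · have h1 : Polynomial.aeval (MvPolynomial.X i : MvPolynomial (Fin n) R') (∏ j, (Polynomial.X - Polynomial.C (α j))) =
        ∏ j, (MvPolynomial.X i - MvPolynomial.C (α j)) := by
      simp [map_prod, map_sub]
    rw [← h1, ← Polynomial.aeval_algHom_apply, MvPolynomial.aeval_X, ← hα, Polynomial.aeval_map_algebraMap]
    have h2 : Polynomial.aeval (s i) (∏ j, P j) = 0 := by
      rw [map_prod]
      exact Finset.prod_eq_zero (Finset.mem_univ i) (hPe i)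
    have h3 := Polynomial.aeval_algHom_apply (Algebra.TensorProduct.includeRight : S →ₐ[R] R' ⊗[R] S) (s i) (∏ j, P j)
    rw [h2, map_zero] at h3
    exact h3

end Groth.Agent.S6886
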