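import Groth.Statements.S6887
import Mathlib.LinearAlgebra.Matrix.Charpoly.Basic
import Mathlib.LinearAlgebra.Matrix.Charpoly.Coeff
import Mathlib.LinearAlgebra.Matrix.ToLin
import Mathlib.RingTheory.Nakayama
import Mathlib.Algebra.Polynomial.Module.AEval
import Mathlib.LinearAlgebra.Quotient.Basic

set_option autoImplicit false
universe u
open Polynomial
open CAlg

namespace Groth.Agent.S6887

/-- Let `(A, I)` be a Zariski pair (`I` inside the Jacobson radical) and `A → B` a finite ring map.
Suppose `B/IB ≅ B₁ × B₂` as `A`-algebras with `A → B₁` surjective, and `b ∈ B` maps to `(1, 0)`.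
Then there is a monic `f ∈ A[x]` with `f(b) = 0` whose reduction modulo `I` is `(x - 1) x^d` for
some `d ≥ 1`. -/
theorem result (A B : Type u) [CommRing A] [CommRing B]
    [Algebra A B] [Module.Finite A B] (I : Ideal A) (hI : I ≤ Ideal.jacobson (⊥ : Ideal A))
    (B₁ B₂ : Type u) [CommRing B₁] [CommRing B₂] [Algebra A B₁] [Algebra A B₂]
    (e : (B ⧸ I.map (algebraMap A B)) ≃ₐ[A] B₁ × B₂) (h₁ : Function.Surjective (algebraMap A B₁)) (b : B)
    (hb : e (Ideal.Quotient.mk (I.map (algebraMap A B)) b) = (1, 0)) :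
    ∃ (f : A[X]) (d : ℕ), f.Monic ∧ Polynomial.aeval b f = 0 ∧ 1 ≤ d ∧
      f.map (Ideal.Quotient.mk I) = (X - 1) * X ^ d := by
  classical
  let J := I.map (algebraMap A B)
  let q := Ideal.Quotient.mk J
  have hb' : e (q b) = (1, 0) := hb
  have hqe : ∀ z, z ∈ J ↔ e (q z) = 0 := fun z => by
    rw [EmbeddingLike.map_eq_zero_iff, Ideal.Quotient.eq_zero_iff_mem]
  obtain ⟨m, y, hy⟩ := Module.Finite.exists_fin (R := A) (M := B)
  let d := m + 1
  let y' : Fin d → B := Fin.cons 0 y
  let g : Fin (d + 1) → B := Fin.cons b fun j => (1 - b) * y' j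
  have hb2 : b * b - b ∈ J := by
    rw [hqe, map_sub, map_sub, map_mul, map_mul, hb']
    simp
  -- the family generates
  have hJtop : I • (⊤ : Submodule A B) = J.restrictScalars A := Ideal.smul_top_eq_map I
  have hspan : Submodule.span A (Set.range g) = ⊤ := by
    refine eq_top_iff.mpr (Submodule.le_of_le_smul_of_le_jacobson_bot Module.Finite.fg_top hI ?_)
    rw [hJtop]
    intro z hz0
    clear hz0
    have hz : z ∈ Submodule.span A (Set.range y) := hy ▸ Submodule.mem_top
    induction hz using Submodule.span_induction with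
    | mem z hz =>
      obtain ⟨j, rfl⟩ := hz
      obtain ⟨a, ha⟩ := h₁ (e (q (y j))).1
      refine Submodule.mem_sup.mpr ⟨a • b + (1 - b) * y j, ?_, y j - (a • b + (1 - b) * y j), ?_, by abel⟩
      · refine add_mem (Submodule.smul_mem _ _ (Submodule.subset_span ⟨0, rfl⟩)) (Submodule.subset_span ⟨j.succ.succ, ?_⟩)
        simp [g, y']
      · show y j - (a • b + (1 - b) * y j) ∈ J
        rw [hqe]
        have hmk : ∀ u : B, e (q (a • u)) = a • e (q u) := fun u => by
          rw [← map_smul e a (q u)]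
          rfl
        simp only [map_sub, map_add, map_mul, map_one, hmk, hb']
        refine Prod.ext ?_ ?_
        · simp [Algebra.smul_def, ha]
        · simp
    | zero => exact zero_mem _
    | add u v _ _ hu hv => exact add_mem hu hv
    | smul c u _ hu => exact Submodule.smul_mem _ c hu
  -- coordinates with entries in `I`
  let ψ : (Fin (d + 1) → A) →ₗ[A] B := Fintype.linearCombination A g
  have hψ : Function.Surjective ψ := fun z => by
    have hz : z ∈ Submodule.span A (Set.range g) := hspan ▸ Submodule.mem_top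
    rw [Submodule.mem_span_range_iff_exists_fun] at hz
    obtain ⟨c, hc⟩ := hz
    exact ⟨c, by simpa [ψ, Fintype.linearCombination_apply] using hc⟩
  have hcoef : ∀ z ∈ J, ∃ c : Fin (d + 1) → A, (∀ i, c i ∈ I) ∧ ψ c = z := by
    intro z hz
    have hz' : z ∈ I • (⊤ : Submodule A B) := by rw [hJtop]; exact hz
    refine Submodule.smul_induction_on hz' (fun r hr w _ => ?_) (fun u v hu hv => ?_)
    · obtain ⟨c, rfl⟩ := hψ w
      exact ⟨r • c, fun i => I.mul_mem_right _ hr, map_smul ψ r c⟩
    · obtain ⟨c, hc, rfl⟩ := hu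
      obtain ⟨c', hc', rfl⟩ := hv
      exact ⟨c + c', fun i => I.add_mem (hc i) (hc' i), map_add ψ c c'⟩
  let δ : Fin (d + 1) → A := Fin.cons 1 fun _ => 0
  have hrow : ∀ j, ∃ c : Fin (d + 1) → A, (∀ i, c i ∈ I) ∧ ψ c = b * g j - δ j • g j := by
    intro j
    refine hcoef _ ?_
    refine Fin.cases ?_ (fun j => ?_) j
    · simpa [g, δ] using hb2
    · have : b * g j.succ - δ j.succ • g j.succ = -(y' j) * (b * b - b) := by
        simp [g, δ]; ring
      rw [this]
      exact J.mul_mem_left _ hb2
  choose c hcI hc using hrow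
  let Cm : Matrix (Fin (d + 1)) (Fin (d + 1)) A := Matrix.diagonal δ + Matrix.of fun i j => c j i
  let φ := LinearMap.mulLeft A b
  have hcomm : ψ ∘ₗ Matrix.toLin' Cm = φ ∘ₗ ψ := by
    refine (Pi.basisFun A (Fin (d + 1))).ext fun j => ?_
    have h1 : Matrix.toLin' Cm (Pi.single j 1) = Pi.single j (δ j) + c j := by
      funext i
      simp [Cm, Matrix.toLin'_apply, Matrix.diagonal, Pi.single_apply]
      split_ifs with h <;> simp [h]
    simp only [LinearMap.comp_apply, Pi.basisFun_apply, h1, map_add, hc]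
    simp [ψ, φ, Fintype.linearCombination_apply_single]
  have hpoly : ∀ p : A[X], ψ ∘ₗ aeval (Matrix.toLin' Cm) p = aeval φ p ∘ₗ ψ := by
    intro p
    induction p using Polynomial.induction_on with
    | C a => ext; simp [Module.algebraMap_end_apply]
    | add p q hp hq => rw [map_add (aeval (Matrix.toLin' Cm)), map_add (aeval φ), LinearMap.comp_add, hp, hq, LinearMap.add_comp]
    | monomial n a h =>
      rw [pow_succ, ← mul_assoc, map_mul (aeval (Matrix.toLin' Cm)), map_mul (aeval φ) (C a * X ^ n) X, aeval_X, aeval_X,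
        Module.End.mul_eq_comp, ← LinearMap.comp_assoc, h, LinearMap.comp_assoc, hcomm, ← LinearMap.comp_assoc]
      rfl
  refine ⟨Cm.charpoly, d, Cm.charpoly_monic, ?_, Nat.le_add_left 1 m, ?_⟩
  · have h0 : aeval (Matrix.toLin' Cm) Cm.charpoly = 0 := by
      rw [show Matrix.toLin' Cm = (Matrix.toLinAlgEquiv' (R := A) (n := Fin (d + 1))).toAlgHom Cm from rfl,
        aeval_algHom_apply, Matrix.aeval_self_charpoly, map_zero]
    obtain ⟨u, hu⟩ := hψ 1
    have h1 := congr($(hpoly Cm.charpoly) u)
    rw [h0, LinearMap.comp_zero, LinearMap.zero_apply, LinearMap.comp_apply, hu,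
      show φ = Algebra.lmul A B b from rfl, aeval_algHom_apply] at h1
    simpa using h1.symm
  · rw [← Matrix.charpoly_map]
    have h2 : Cm.map (Ideal.Quotient.mk I) = Matrix.diagonal (fun i => Ideal.Quotient.mk I (δ i)) := by
      ext i j
      by_cases hij : i = j
      · subst hij; simp [Cm, Ideal.Quotient.eq_zero_iff_mem.mpr (hcI i i)]
      · simp [Cm, hij, Ideal.Quotient.eq_zero_iff_mem.mpr (hcI j i)]
    rw [h2, Matrix.charpoly_diagonal, Fin.prod_univ_succ]
    simp [δ, Finset.prod_const]

end Groth.Agent.S6887
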