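import Groth.Statements.S6888
import Groth.Agent.Hensel.Idempotent
import Mathlib.Algebra.Polynomial.Roots
import Mathlib.RingTheory.Nilpotent.Lemmas

set_option autoImplicit false
universe u
open Polynomial
open CAlg

namespace Groth.Agent.S6888

/-- Idempotents congruent modulo an ideal in the Jacobson radical are equal. -/
theorem idem_eq {A : Type u} [CommRing A] {J : Ideal A} (hJ : J ≤ Ideal.jacobson (⊥ : Ideal A)) {e : A}
    (he : IsIdempotentElem e) (h : e ∈ J) : e = 0 := by
  have hu : IsUnit (e * (-1) + 1) := Ideal.mem_jacobson_bot.mp (hJ h) (-1)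
  have h0 : e * (e * (-1) + 1) = 0 := by linear_combination (-1 : A) * he.eq
  exact hu.mul_left_eq_zero.mp h0

/-- An idempotent which vanishes at all primes is zero. -/
theorem idem_eq_zero_of_forall_prime {A : Type u} [CommRing A] {e : A} (he : IsIdempotentElem e)
    (h : ∀ P : Ideal A, P.IsPrime → e ∈ P) : e = 0 := by
  obtain ⟨n, hn⟩ := nilpotent_iff_mem_prime.mpr h
  rcases Nat.eq_zero_or_pos n with rfl | hn'
  · rw [pow_zero] at hn
    rw [← mul_one e, hn, mul_zero]
  · rwa [he.pow_eq hn'.ne'] at hn

/-- Let `A` be absolutely integrally closed (every monic polynomial over `A` is a product of linear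
factors) and `I ⊆ A` an ideal contained in the Jacobson radical such that `A → A/I` is surjective
(hence bijective) on idempotents. Then `(A, I)` is a henselian pair. (The published statement also
records the converse, which holds for every henselian pair; this row states the sufficiency only.) -/
theorem result (A : Type u) [CommRing A]
    (hA : ∀ f : A[X], f.Monic → ∃ s : Multiset A, f = (s.map fun a => X - C a).prod) (I : Ideal A)
    (hI : I ≤ Ideal.jacobson (⊥ : Ideal A))
    (hidem : ∀ e : A ⧸ I, IsIdempotentElem e → ∃ e' : A, IsIdempotentElem e' ∧ Ideal.Quotient.mk I e' = e) :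
    HenselianRing A I := by
  classical
  refine Hensel.henselianRing_of_gabberRoots hI fun n hn p hdeg hp => ?_
  obtain hsub | hnt := subsingleton_or_nontrivial A
  · exact ⟨1, by simp, Subsingleton.elim _ _⟩
  set F := X ^ n * (X - 1) + p with hF
  have hm : F.Monic := by
    refine Monic.add_of_left ((monic_X_pow n).mul (monic_X_sub_C (1 : A))) ?_
    calc p.degree ≤ p.natDegree := degree_le_natDegree
      _ ≤ (n : WithBot ℕ) := by exact_mod_cast hdeg
      _ < _ := by
        rw [← map_one C, degree_eq_natDegree ((monic_X_pow n).mul (monic_X_sub_C (1 : A))).ne_zero,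
          (monic_X_pow n).natDegree_mul' (monic_X_sub_C (1 : A)).ne_zero, natDegree_X_pow,
          natDegree_X_sub_C]
        exact_mod_cast Nat.lt_succ_self n
  obtain ⟨s, hs⟩ := hA F hm
  let l := s.toList
  let a : Fin l.length → A := fun i => l.get i
  have ha : Finset.univ.val.map a = s := by
    rw [Fin.univ_val_map]
    show ((List.ofFn l.get : List A) : Multiset A) = s
    rw [List.ofFn_get, Multiset.coe_toList]
  let q := Ideal.Quotient.mk I
  have hpI : p.map q = 0 := by
    ext i
    rw [coeff_map, coeff_zero]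
    exact Ideal.Quotient.eq_zero_iff_mem.mpr (hp i)
  have hev : ∀ i, F.eval (a i) = 0 := fun i => by
    rw [hs, eval_multiset_prod]
    refine Multiset.prod_eq_zero (Multiset.mem_map.mpr ⟨X - C (a i), Multiset.mem_map.mpr ⟨a i, ?_, rfl⟩, ?_⟩)
    · rw [← ha]; exact Multiset.mem_map.mpr ⟨i, Finset.mem_univ i, rfl⟩
    · simp
  let e : Fin l.length → A ⧸ I := fun i => q (a i) ^ n
  have hrel : ∀ i, q (a i) ^ n * (q (a i) - 1) = 0 := fun i => by
    have h := congrArg q (hev i)
    rw [map_zero, hF, ← eval_map_apply, Polynomial.map_add, hpI, add_zero] at h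
    simpa using h
  have hee : ∀ i k, q (a i) ^ n * q (a i) ^ k = q (a i) ^ n := by
    intro i k
    induction k with
    | zero => rw [pow_zero, mul_one]
    | succ k ih =>
      rw [pow_succ, ← mul_assoc, ih]
      linear_combination hrel i
  have he : ∀ i, IsIdempotentElem (e i) := fun i => hee i n
  have hone : ∀ (P : Ideal (A ⧸ I)) [P.IsPrime],
      ∃ i, ∀ j, Ideal.Quotient.mk P (e j) = if j = i then 1 else 0 := by
    intro P hP
    let φ := (Ideal.Quotient.mk P).comp q
    have h1 : Finset.univ.val.map (fun i => φ (a i)) = Multiset.replicate n 0 + {1} := by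
      have h2 : F.map φ = ((Multiset.replicate n (0 : (A ⧸ I) ⧸ P) + {1}).map fun x => X - C x).prod := by
        rw [hF, Polynomial.map_add, ← Polynomial.map_map, ← Polynomial.map_map, hpI, Polynomial.map_zero, add_zero]
        simp [Multiset.map_replicate, Multiset.prod_replicate]
      have h3 : F.map φ = ((Finset.univ.val.map fun i => φ (a i)).map fun x => X - C x).prod := by
        rw [hs, ← ha, Polynomial.map_multiset_prod, Multiset.map_map, Multiset.map_map, Multiset.map_map]
        simp
      have h4 := congrArg Polynomial.roots (h3.symm.trans h2)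
      rwa [roots_multiset_prod_X_sub_C, roots_multiset_prod_X_sub_C] at h4
    have h5 : (Finset.univ.filter fun i => (1 : (A ⧸ I) ⧸ P) = φ (a i)).card = 1 := by
      have := congrArg (Multiset.count (1 : (A ⧸ I) ⧸ P)) h1
      rw [Multiset.count_map, Multiset.count_add, Multiset.count_replicate, Multiset.count_singleton_self,
        if_neg (zero_ne_one (α := (A ⧸ I) ⧸ P)), zero_add] at this
      exact this
    obtain ⟨i, hi⟩ := Finset.card_eq_one.mp h5
    refine ⟨i, fun j => ?_⟩
    show Ideal.Quotient.mk P (q (a j) ^ n) = _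
    rw [map_pow]
    by_cases hji : j = i
    · have : j ∈ Finset.univ.filter fun i => (1 : (A ⧸ I) ⧸ P) = φ (a i) := by
        rw [hi, Finset.mem_singleton]; exact hji
      rw [if_pos hji, show Ideal.Quotient.mk P (q (a j)) = 1 from (Finset.mem_filter.mp this).2.symm, one_pow]
    · have h6 : φ (a j) ∈ Multiset.replicate n (0 : (A ⧸ I) ⧸ P) + {1} :=
        h1 ▸ Multiset.mem_map.mpr ⟨j, Finset.mem_univ j, rfl⟩
      rcases Multiset.mem_add.mp h6 with h7 | h7
      · rw [if_neg hji, show Ideal.Quotient.mk P (q (a j)) = 0 from Multiset.eq_of_mem_replicate h7,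
          zero_pow hn.ne']
      · exfalso
        refine hji (Finset.mem_singleton.mp (hi ▸ Finset.mem_filter.mpr ⟨Finset.mem_univ j, ?_⟩))
        exact (Multiset.mem_singleton.mp h7).symm
  have horth : ∀ i j, i ≠ j → e i * e j = 0 := fun i j hij =>
    idem_eq_zero_of_forall_prime ((he i).mul (he j)) fun P hP => by
      obtain ⟨k, hk⟩ := hone P
      rw [← Ideal.Quotient.eq_zero_iff_mem, map_mul, hk, hk]
      by_cases hik : i = k
      · rw [if_pos hik, if_neg (fun h => hij (hik.trans h.symm)), mul_zero]
      · rw [if_neg hik, zero_mul]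
  choose E hE hEe using fun i => hidem (e i) (he i)
  have hEorth : ∀ i j, i ≠ j → E i * E j = 0 := fun i j hij =>
    idem_eq hI ((hE i).mul (hE j)) (by
      rw [← Ideal.Quotient.eq_zero_iff_mem, map_mul, hEe, hEe, horth i j hij])
  have hsum_idem : ∀ {R : Type u} [CommRing R] (f : Fin l.length → R), (∀ i, IsIdempotentElem (f i)) →
      (∀ i j, i ≠ j → f i * f j = 0) → ∀ j, f j * ∑ i, f i = f j := by
    intro R _ f h1 h2 j
    rw [Finset.mul_sum, Finset.sum_eq_single j (fun i _ hij => h2 j i (Ne.symm hij))
      (fun h => absurd (Finset.mem_univ j) h), (h1 j).eq]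
  have hEsum : ∑ i, E i = 1 := by
    have h1 : IsIdempotentElem (1 - ∑ i, E i) := by
      refine IsIdempotentElem.one_sub ?_
      show (∑ i, E i) * ∑ i, E i = _
      rw [Finset.sum_mul]
      exact Finset.sum_congr rfl fun j _ => hsum_idem E hE hEorth j
    have h2 : (1 - ∑ i, e i) = 0 := by
      refine idem_eq_zero_of_forall_prime ?_ fun P hP => ?_
      · have := h1.map q
        simpa [q, hEe] using this
      · obtain ⟨k, hk⟩ := hone P
        rw [← Ideal.Quotient.eq_zero_iff_mem, map_sub, map_one, map_sum]
        simp [hk]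
    refine (sub_eq_zero.mp (idem_eq hI h1 ?_)).symm
    rw [← Ideal.Quotient.eq_zero_iff_mem, map_sub, map_one, map_sum]
    simpa [hEe] using h2
  refine ⟨∑ i, E i * a i, ?_, ?_⟩
  · rw [← Ideal.Quotient.eq_zero_iff_mem, ← hEsum, ← Finset.sum_sub_distrib, map_sum]
    refine Finset.sum_eq_zero fun i _ => ?_
    rw [map_sub, map_mul, hEe]
    show q (a i) ^ n * q (a i) - q (a i) ^ n = 0
    linear_combination hrel i
  · show F.eval (∑ i, E i * a i) = 0
    have key : ∀ i, E i * F.eval (∑ j, E j * a j) = 0 := fun i => by
      have h1 : ∀ x, E i * x = E i * a i → E i * F.eval x = E i * F.eval (a i) := fun x hx => by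
        rw [← sub_eq_zero, ← mul_sub]
        obtain ⟨c, hc⟩ := Polynomial.sub_dvd_eval_sub x (a i) F
        rw [hc, ← mul_assoc, mul_sub, hx, sub_self, zero_mul]
      rw [h1 _ ?_, hev, mul_zero]
      rw [Finset.mul_sum, Finset.sum_eq_single i (fun j _ hji => by rw [← mul_assoc, hEorth i j (Ne.symm hji), zero_mul])
        (fun h => absurd (Finset.mem_univ i) h), ← mul_assoc, (hE i).eq]
    rw [← one_mul (F.eval _), ← hEsum, Finset.sum_mul]
    exact Finset.sum_eq_zero fun i _ => key i

end Groth.Agent.S6888
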