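import Groth.Statements.S6898
import Mathlib.RingTheory.Flat.Basic
import Mathlib.RingTheory.LocalRing.ResidueField.Basic
import Mathlib.RingTheory.Nakayama
import Mathlib.LinearAlgebra.TensorProduct.RightExactness
import Mathlib.LinearAlgebra.TensorProduct.Finiteness
import Mathlib.LinearAlgebra.Basis.VectorSpace
import Mathlib.Algebra.Module.Torsion.Basic

set_option autoImplicit false
universe u
open TensorProduct
open CAlg

namespace Groth.Agent.S6898

/-- Let `(A, 𝔪)` be a local ring and `u : M → N` a linear map between flat `A`-modules whose reduction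
`M/𝔪M → N/𝔪N` is injective. If `I` is the content ideal of some `x ∈ M` (the least ideal `I` with `x
∈ IM`), then `I` is also the least ideal `J` with `u(x) ∈ J·N`. -/
theorem result {A : Type u} [CommRing A] [IsLocalRing A] {M N : Type u}
    [AddCommGroup M] [Module A M] [Module.Flat A M] [AddCommGroup N] [Module A N] [Module.Flat A N] (u : M →ₗ[A] N)
    (hu : Function.Injective (u.baseChange (IsLocalRing.ResidueField A))) (x : M) (I : Ideal A)
    (hx : IsLeast {J : Ideal A | x ∈ J • (⊤ : Submodule A M)} I) :
    IsLeast {J : Ideal A | u x ∈ J • (⊤ : Submodule A N)} I := by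
  classical
  refine ⟨?_, fun J hJ => ?_⟩
  · have h1 := Submodule.mem_map_of_mem (f := u) (show x ∈ I • (⊤ : Submodule A M) from hx.1)
    rw [Submodule.map_smul''] at h1
    exact Submodule.smul_mono le_rfl le_top h1
  set m := IsLocalRing.maximalIdeal A
  -- `I ⊗ X → X` is injective for flat `X`, with image `I • ⊤`
  let μ : ∀ (K : Ideal A) (X : Type u) [AddCommGroup X] [Module A X], K ⊗[A] X →ₗ[A] X := fun K X _ _ =>
    (TensorProduct.lid A X).toLinearMap ∘ₗ (Submodule.subtype K).rTensor X
  have hμsurj : ∀ (K : Ideal A) (X : Type u) [AddCommGroup X] [Module A X] (z : X),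
      z ∈ K • (⊤ : Submodule A X) → ∃ w, μ K X w = z := by
    intro K X _ _ z hz
    refine Submodule.smul_induction_on hz (fun r hr y _ => ⟨(⟨r, hr⟩ : K) ⊗ₜ[A] y, by simp [μ]⟩)
      (fun a b ha hb => ?_)
    obtain ⟨a, rfl⟩ := ha
    obtain ⟨b, rfl⟩ := hb
    exact ⟨a + b, map_add _ a b⟩
  have hμmem : ∀ (K : Ideal A) (X : Type u) [AddCommGroup X] [Module A X] (w : K ⊗[A] X),
      μ K X w ∈ K • (⊤ : Submodule A X) := by
    intro K X _ _ w
    induction w using TensorProduct.induction_on with
    | zero => rw [map_zero]; exact zero_mem _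
    | tmul r y => simpa [μ] using Submodule.smul_mem_smul r.2 (Submodule.mem_top (x := y))
    | add a b ha hb => rw [map_add]; exact add_mem ha hb
  obtain ⟨ξ, hξ⟩ := hμsurj I M x hx.1
  -- the content ideal is finitely generated
  obtain ⟨T, hT⟩ := TensorProduct.exists_finset ξ
  have hIfg : I.FG := by
    let I' : Ideal A := Ideal.span ((T.image fun t => (t.1 : A)) : Set A)
    have hle : I' ≤ I := Ideal.span_le.mpr fun a ha => by
      obtain ⟨t, -, rfl⟩ := Finset.mem_image.mp ha
      exact t.1.2
    have hge : I ≤ I' := hx.2 (by
      show x ∈ I' • (⊤ : Submodule A M)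
      rw [← hξ, hT, map_sum]
      refine Submodule.sum_mem _ fun t ht => ?_
      simp only [μ, LinearMap.comp_apply, LinearMap.rTensor_tmul, LinearEquiv.coe_coe, TensorProduct.lid_tmul, Submodule.subtype_apply]
      exact Submodule.smul_mem_smul (Ideal.subset_span (Finset.mem_image_of_mem _ ht) : (t.1 : A) ∈ I')
        (Submodule.mem_top (x := t.2)))
    exact le_antisymm hge hle ▸ Submodule.fg_span (Finset.finite_toSet _)
  suffices hle : I ≤ (J ⊓ I) ⊔ m • I by
    exact (Submodule.le_of_le_smul_of_le_jacobson_bot hIfg (IsLocalRing.maximalIdeal_le_jacobson ⊥) hle).trans inf_le_left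
  apply hx.2
  show x ∈ ((J ⊓ I) ⊔ m • I : Ideal A) • (⊤ : Submodule A M)
  -- the quotient killed by the maximal ideal
  let K : Submodule A I := Submodule.comap I.subtype ((J ⊓ I) ⊔ m • I)
  let Q := I ⧸ K
  have hQ : Module.IsTorsionBySet A Q (m : Set A) := by
    intro q a
    obtain ⟨q, rfl⟩ := K.mkQ_surjective q
    rw [← map_smul, Submodule.mkQ_apply, Submodule.Quotient.mk_eq_zero]
    exact Submodule.mem_sup_right (Submodule.smul_mem_smul a.2 q.2)
  letI : Module (IsLocalRing.ResidueField A) Q := hQ.module
  haveI : IsScalarTower A (IsLocalRing.ResidueField A) Q := hQ.isScalarTower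
  let k := IsLocalRing.ResidueField A
  have hinj : Function.Injective (u.lTensor Q) := by
    have hi : Function.Injective ((u.baseChange k).lTensor Q) :=
      Module.Flat.lTensor_preserves_injective_linearMap _ hu
    let e₁ := TensorProduct.AlgebraTensorModule.cancelBaseChange A k k Q M
    let e₂ := TensorProduct.AlgebraTensorModule.cancelBaseChange A k k Q N
    have key : ∀ z, u.lTensor Q (e₁ z) = e₂ ((u.baseChange k).lTensor Q z) := by
      intro z
      induction z using TensorProduct.induction_on with
      | zero => simp
      | tmul q y =>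
        induction y using TensorProduct.induction_on with
        | zero => simp
        | tmul r l => simp [e₁, e₂]
        | add y y' hy hy' => simp only [TensorProduct.tmul_add, map_add, hy, hy']
      | add z z' hz hz' => simp only [map_add, hz, hz']
    intro a b hab
    obtain ⟨a, rfl⟩ := e₁.surjective a
    obtain ⟨b, rfl⟩ := e₁.surjective b
    rw [key, key] at hab
    rw [hi (e₂.injective hab)]
  -- transport along `u`
  have hnat : ∀ (w : I ⊗[A] M), μ I N (u.lTensor I w) = u (μ I M w) := fun w => by
    induction w using TensorProduct.induction_on with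
    | zero => simp
    | tmul r y => simp [μ]
    | add a b ha hb => simp only [map_add, ha, hb]
  have hinjI : Function.Injective (μ I N) := (TensorProduct.lid A N).injective.comp
    (Module.Flat.rTensor_preserves_injective_linearMap _ I.injective_subtype)
  have hz : K.mkQ.rTensor M ξ = 0 := by
    apply hinj
    rw [map_zero, ← LinearMap.comp_apply, LinearMap.lTensor_comp_rTensor, ← LinearMap.rTensor_comp_lTensor,
      LinearMap.comp_apply]
    have hux : u x ∈ (J ⊓ I) • (⊤ : Submodule A N) := by
      -- `J N ∩ I N = (J ∩ I) N` by flatness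
      have hI' : u x ∈ I • (⊤ : Submodule A N) := by
        rw [← hξ, ← hnat]; exact hμmem I N _
      obtain ⟨w, hw⟩ := hμsurj J N (u x) hJ
      obtain ⟨w', hw'⟩ := hμsurj I N (u x) hI'
      let a : (J ⊓ I : Ideal A) →ₗ[A] J × I :=
        (Submodule.inclusion inf_le_left).prod (Submodule.inclusion inf_le_right)
      let b : J × I →ₗ[A] A := (Submodule.subtype J).coprod (-(Submodule.subtype I))
      have hab : Function.Exact a b := by
        intro y
        constructor
        · intro hy
          have hy' : (y.1 : A) = y.2 := by
            have : (y.1 : A) + -(y.2 : A) = 0 := hy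
            exact add_neg_eq_zero.mp this
          exact ⟨⟨y.1, y.1.2, hy' ▸ y.2.2⟩, Prod.ext rfl (Subtype.ext hy')⟩
        · rintro ⟨y, rfl⟩
          exact add_neg_cancel (y : A)
      let inl' := (LinearMap.inl A J I).rTensor N w + (LinearMap.inr A J I).rTensor N w'
      have h0 : b.rTensor N inl' = 0 := by
        apply (TensorProduct.lid A N).injective
        rw [map_add, ← LinearMap.comp_apply, ← LinearMap.comp_apply, ← LinearMap.rTensor_comp, ← LinearMap.rTensor_comp,
          show b ∘ₗ LinearMap.inl A J I = Submodule.subtype J by ext; simp [b],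
          show b ∘ₗ LinearMap.inr A J I = -(Submodule.subtype I) by ext; simp [b],
          LinearMap.rTensor_neg, LinearMap.neg_apply, map_add, map_neg, map_zero]
        show μ J N w + -(μ I N w') = 0
        rw [hw, hw', add_neg_cancel]
      obtain ⟨v, hv⟩ := (Module.Flat.rTensor_exact N hab inl').mp h0
      have h1 := congrArg (fun z => μ J N ((LinearMap.fst A J I).rTensor N z)) hv
      simp only [inl', map_add, ← LinearMap.rTensor_comp_apply, LinearMap.fst_comp_inl, LinearMap.fst_comp_inr,
        LinearMap.rTensor_id, LinearMap.rTensor_zero, LinearMap.id_apply, LinearMap.zero_apply, map_zero,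
        add_zero, hw] at h1
      rw [← h1, show LinearMap.fst A J I ∘ₗ a = Submodule.inclusion inf_le_left from rfl]
      have h2 : μ J N ((Submodule.inclusion inf_le_left).rTensor N v) = μ (J ⊓ I) N v := by
        clear h1 hv
        induction v using TensorProduct.induction_on with
        | zero => simp
        | tmul r y => simp [μ]
        | add a b ha hb => simp only [map_add, ha, hb]
      rw [h2]
      exact hμmem _ _ v
    obtain ⟨v, hv⟩ := hμsurj (J ⊓ I) N (u x) hux
    have h3 : u.lTensor I ξ = (Submodule.inclusion inf_le_right).rTensor N v := by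
      apply hinjI
      rw [hnat, hξ, ← hv]
      clear hv
      induction v using TensorProduct.induction_on with
      | zero => simp
      | tmul r y => simp [μ]
      | add a b ha hb => simp only [map_add, ha, hb]
    rw [h3, ← LinearMap.rTensor_comp_apply,
      show K.mkQ ∘ₗ Submodule.inclusion inf_le_right = 0 from LinearMap.ext fun y =>
        (Submodule.Quotient.mk_eq_zero K).mpr (Submodule.mem_sup_left y.2)]
    simp
  obtain ⟨ζ, hζ⟩ := (rTensor_exact M (LinearMap.exact_subtype_mkQ K) K.mkQ_surjective ξ).mp hz
  rw [← hξ, ← hζ]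
  clear hζ
  induction ζ using TensorProduct.induction_on with
  | zero => simp
  | tmul r y => simpa [μ] using Submodule.smul_mem_smul r.2 (Submodule.mem_top (x := y))
  | add a b ha hb => rw [map_add, map_add]; exact add_mem ha hb

end Groth.Agent.S6898
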