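import Groth.Statements.S6899
import Groth.Agent.EtMilLib.Glue

set_option autoImplicit false
universe u
open TensorProduct
open EtAlg

namespace Groth.Agent.S6899

/-- Let `B' = B ×_A A'` be a fibre square of rings with `A' → A` surjective, and let `(N₁, M₁', φ₁) →
(N₂, M₂', φ₂)` be a morphism of glueing data (a `B`-linear `u : N₁ → N₂` and an `A'`-linear `v : M₁'
→ M₂'` compatible with the `φ_i`) with `u` and `v` surjective. Then the induced map of glued modules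
`N₁ ×_{φ₁} M₁' → N₂ ×_{φ₂} M₂'` is surjective. -/
theorem result (B' B A' A : Type u) [CommRing B'] [CommRing B] [CommRing A'] [CommRing A]
    [Algebra B' B] [Algebra B' A'] [Algebra B A] [Algebra A' A] [Algebra B' A] [IsScalarTower B' B A] [IsScalarTower B' A' A]
    (hsq : EtMil.IsFibreSquare B' B A' A)
    {N₁ N₂ M₁' M₂' : Type u} [AddCommGroup N₁] [Module B N₁] [Module B' N₁] [IsScalarTower B' B N₁]
    [AddCommGroup N₂] [Module B N₂] [Module B' N₂] [IsScalarTower B' B N₂]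
    [AddCommGroup M₁'] [Module A' M₁'] [Module B' M₁'] [IsScalarTower B' A' M₁']
    [AddCommGroup M₂'] [Module A' M₂'] [Module B' M₂'] [IsScalarTower B' A' M₂']
    (φ₁ : A ⊗[B] N₁ ≃ₗ[A] A ⊗[A'] M₁') (φ₂ : A ⊗[B] N₂ ≃ₗ[A] A ⊗[A'] M₂') (u : N₁ →ₗ[B] N₂) (v : M₁' →ₗ[A'] M₂')
    (hc : (v.baseChange A).comp φ₁.toLinearMap = φ₂.toLinearMap.comp (u.baseChange A))
    (hu : Function.Surjective u) (hv : Function.Surjective v) :
    ∀ y : N₂ × M₂', y ∈ EtMil.glue B' φ₂ → ∃ x : N₁ × M₁', x ∈ EtMil.glue B' φ₁ ∧ u x.1 = y.1 ∧ v x.2 = y.2 := by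
  rintro ⟨n₂, m₂⟩ hy
  obtain ⟨n₁, rfl⟩ := hu n₂
  obtain ⟨m₁, hm₁⟩ := Groth.Agent.EtMilLib.tmul_surjective hsq.1 (φ₁ ((1 : A) ⊗ₜ[B] n₁))
  have h : ((1 : A) ⊗ₜ[A'] (v m₁ - m₂) : A ⊗[A'] M₂') = 0 := by
    have e1 : (v.baseChange A) ((1 : A) ⊗ₜ[A'] m₁) = φ₂ ((1 : A) ⊗ₜ[B] u n₁) := by
      rw [hm₁]; exact LinearMap.congr_fun hc ((1 : A) ⊗ₜ[B] n₁)
    rw [TensorProduct.tmul_sub, ← show φ₂ ((1 : A) ⊗ₜ[B] u n₁) = (1 : A) ⊗ₜ[A'] m₂ from hy, ← e1,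
      LinearMap.baseChange_tmul, sub_self]
  have h' := Groth.Agent.EtMilLib.mem_ker_smul_top hsq.1 h
  obtain ⟨m₃, hm₃, hm₃'⟩ : ∃ m₃ ∈ RingHom.ker (algebraMap A' A) • (⊤ : Submodule A' M₁'), v m₃ = v m₁ - m₂ := by
    have : RingHom.ker (algebraMap A' A) • (⊤ : Submodule A' M₂') =
        (RingHom.ker (algebraMap A' A) • (⊤ : Submodule A' M₁')).map v := by
      rw [Submodule.map_smul'', Submodule.map_top, LinearMap.range_eq_top.mpr hv]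
    rw [this] at h'
    exact h'
  refine ⟨(n₁, m₁ - m₃), ?_, rfl, ?_⟩
  · show φ₁ ((1 : A) ⊗ₜ[B] n₁) = (1 : A) ⊗ₜ[A'] (m₁ - m₃)
    rw [TensorProduct.tmul_sub, Groth.Agent.EtMilLib.one_tmul_eq_zero_of_mem hm₃, sub_zero, hm₁]
  · rw [map_sub, hm₃', sub_sub_cancel]

end Groth.Agent.S6899
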