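import Groth.Statements.S6909
import Mathlib.RingTheory.Filtration
import Mathlib.RingTheory.Finiteness.Basic

set_option autoImplicit false
universe u
open CAlg

namespace Groth.Agent.S6909

/-- Let `A` be a Noetherian ring, `I ⊆ A` an ideal inside the Jacobson radical, and `L → M → N` two
complexes `(f, g)` and `(f', g')` of finite `A`-modules with `f' ≡ f` modulo `I^{c+1}M` and `g' ≡ g`
modulo `I^{c+1}N`. If `c` works in the Artin–Rees lemma for `f` and for `g` (that is `f(L) ∩ IⁿM ⊆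
f(I^{n-c}L)` for `n ≥ c`, and likewise for `g`) and `(f, g)` is exact, then `c` works for `g'` and
`(f', g')` is exact. -/
theorem result {A : Type u} [CommRing A] [IsNoetherianRing A] (I : Ideal A)
    (hI : I ≤ Ideal.jacobson (⊥ : Ideal A)) {L M N : Type u} [AddCommGroup L] [Module A L] [Module.Finite A L]
    [AddCommGroup M] [Module A M] [Module.Finite A M] [AddCommGroup N] [Module A N] [Module.Finite A N]
    (f f' : L →ₗ[A] M) (g g' : M →ₗ[A] N) (c : ℕ) (hgf : g.comp f = 0) (hgf' : g'.comp f' = 0)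
    (hf : (∀ n : ℕ, c ≤ n → LinearMap.range f ⊓ (I ^ n • (⊤ : Submodule A M)) ≤ Submodule.map f (I ^ (n - c) • (⊤ : Submodule A L))))
    (hg : (∀ n : ℕ, c ≤ n → LinearMap.range g ⊓ (I ^ n • (⊤ : Submodule A N)) ≤ Submodule.map g (I ^ (n - c) • (⊤ : Submodule A M))))
    (hex : Function.Exact f g)
    (hff' : ∀ x : L, f x - f' x ∈ I ^ (c + 1) • (⊤ : Submodule A M))
    (hgg' : ∀ y : M, g y - g' y ∈ I ^ (c + 1) • (⊤ : Submodule A N)) :
    (∀ n : ℕ, c ≤ n → LinearMap.range g' ⊓ (I ^ n • (⊤ : Submodule A N)) ≤ Submodule.map g' (I ^ (n - c) • (⊤ : Submodule A M))) ∧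
    Function.Exact f' g' := by
  have himg : ∀ {P Q : Type u} [AddCommGroup P] [Module A P] [AddCommGroup Q] [Module A Q] (φ φ' : P →ₗ[A] Q),
      (∀ x, φ x - φ' x ∈ I ^ (c + 1) • (⊤ : Submodule A Q)) → ∀ (m : ℕ) (x : P),
        x ∈ I ^ m • (⊤ : Submodule A P) → φ x - φ' x ∈ I ^ (m + (c + 1)) • (⊤ : Submodule A Q) := by
    intro P Q _ _ _ _ φ φ' h m x hx
    have h1 : (φ - φ') x ∈ Submodule.map (φ - φ') (I ^ m • (⊤ : Submodule A P)) := Submodule.mem_map_of_mem hx
    rw [Submodule.map_smul''] at h1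
    rw [pow_add, Submodule.mul_smul]
    refine Submodule.smul_mono le_rfl ?_ h1
    rintro _ ⟨z, -, rfl⟩
    exact h z
  have hstep : ∀ (y : M) (m : ℕ), y ∈ I ^ m • (⊤ : Submodule A M) → g' y ∈ I ^ (m + (c + 1)) • (⊤ : Submodule A N) →
      ∃ x : L, y - f' x ∈ I ^ (m + 1) • (⊤ : Submodule A M) := by
    intro y m hy hgy
    have h1 : g y ∈ I ^ (m + (c + 1)) • (⊤ : Submodule A N) := by
      have := add_mem (himg g g' hgg' m y hy) hgy
      rwa [sub_add_cancel] at this
    obtain ⟨z, hz, hzy⟩ := hg (m + (c + 1)) (by omega) ⟨⟨y, rfl⟩, h1⟩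
    rw [show m + (c + 1) - c = m + 1 by omega] at hz
    obtain ⟨x₀, hx₀⟩ := (hex (y - z)).mp (by rw [map_sub, hzy, sub_self])
    by_cases hmc : c ≤ m
    · have hfx : f x₀ ∈ I ^ m • (⊤ : Submodule A M) := by
        rw [hx₀]
        exact sub_mem hy (Submodule.smul_mono (Ideal.pow_le_pow_right (Nat.le_succ m)) le_rfl hz)
      obtain ⟨x, hx, hxx⟩ := hf m hmc ⟨⟨x₀, rfl⟩, hfx⟩
      refine ⟨x, ?_⟩
      have h2 := himg f f' hff' (m - c) x hx
      rw [show m - c + (c + 1) = m + 1 by omega] at h2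
      have h3 : y - f' x = z + (f x - f' x) := by rw [hxx, hx₀]; abel
      rw [h3]
      exact add_mem hz h2
    · refine ⟨x₀, ?_⟩
      have h3 : y - f' x₀ = z + (f x₀ - f' x₀) := by rw [hx₀]; abel
      rw [h3]
      exact add_mem hz (Submodule.smul_mono (Ideal.pow_le_pow_right (by omega)) le_rfl (hff' x₀))
  have hiter : ∀ (y : M) (m : ℕ), g' y ∈ I ^ (m + c) • (⊤ : Submodule A N) →
      ∃ x : L, y - f' x ∈ I ^ m • (⊤ : Submodule A M) := by
    intro y m
    induction m with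
    | zero => exact fun _ => ⟨0, by simp⟩
    | succ m ih =>
      intro h
      obtain ⟨x, hx⟩ := ih (Submodule.smul_mono (Ideal.pow_le_pow_right (by omega)) le_rfl h)
      have hfg : ∀ x, g' (f' x) = 0 := fun x => LinearMap.congr_fun hgf' x
      obtain ⟨x', hx'⟩ := hstep (y - f' x) m hx (by
        rw [map_sub, hfg, sub_zero, show m + (c + 1) = m + 1 + c by omega]; exact h)
      exact ⟨x + x', by rwa [map_add, ← sub_sub]⟩
  refine ⟨fun n hn w hw => ?_, fun y => ⟨fun hy => ?_, ?_⟩⟩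
  · obtain ⟨⟨y, rfl⟩, hw⟩ := hw
    obtain ⟨x, hx⟩ := hiter y (n - c) (by rwa [Nat.sub_add_cancel hn])
    refine ⟨y - f' x, hx, ?_⟩
    rw [map_sub, show g' (f' x) = 0 from LinearMap.congr_fun hgf' x, sub_zero]
  · have hmem : ∀ m, (LinearMap.range f').mkQ y ∈ I ^ m • (⊤ : Submodule A (M ⧸ LinearMap.range f')) := by
      intro m
      obtain ⟨x, hx⟩ := hiter y m (by rw [hy]; exact zero_mem _)
      have h1 : (LinearMap.range f').mkQ (y - f' x) ∈
          Submodule.map (LinearMap.range f').mkQ (I ^ m • (⊤ : Submodule A M)) := Submodule.mem_map_of_mem hx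
      rw [Submodule.map_smul'', Submodule.map_top, Submodule.range_mkQ, map_sub, Submodule.mkQ_apply,
        Submodule.mkQ_apply, (Submodule.Quotient.mk_eq_zero (LinearMap.range f')).mpr (show f' x ∈ LinearMap.range f' from ⟨x, rfl⟩), sub_zero] at h1
      exact h1
    have h0 : (LinearMap.range f').mkQ y ∈ (⊥ : Submodule A (M ⧸ LinearMap.range f')) := by
      rw [← Ideal.iInf_pow_smul_eq_bot_of_le_jacobson (M := M ⧸ LinearMap.range f') I hI, Submodule.mem_iInf]
      exact hmem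
    rwa [Submodule.mem_bot, Submodule.mkQ_apply, Submodule.Quotient.mk_eq_zero] at h0
  · rintro ⟨x, rfl⟩
    exact LinearMap.congr_fun hgf' x

end Groth.Agent.S6909
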