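import Groth.Statements.S6910
import Groth.Agent.S6909

set_option autoImplicit false
universe u
open CAlg

namespace Groth.Agent.S6910

/-- Let `A` be a Noetherian ring, `I ⊆ A` an ideal inside the Jacobson radical, and `L → M → N` two
complexes `(f, g)` and `(f', g')` of finite `A`-modules with `f' ≡ f` modulo `I^{c+1}M` and `g' ≡ g`
modulo `I^{c+1}N`, such that the Artin–Rees bound holds with constant `c` for both `f` and `g`, and
`(f, g)` is exact. Then for every `n` the submodules `I^{n+1}N + g(M) ∩ IⁿN` and `I^{n+1}N + g'(M) ∩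
IⁿN` of `N` are equal; consequently the associated graded modules of `Coker g` and `Coker g'` with
respect to `I` coincide degreewise as subquotients of `N`. -/
theorem result {A : Type u} [CommRing A] [IsNoetherianRing A] (I : Ideal A)
    (hI : I ≤ Ideal.jacobson (⊥ : Ideal A)) {L M N : Type u} [AddCommGroup L] [Module A L] [Module.Finite A L]
    [AddCommGroup M] [Module A M] [Module.Finite A M] [AddCommGroup N] [Module A N] [Module.Finite A N]
    (f f' : L →ₗ[A] M) (g g' : M →ₗ[A] N) (c : ℕ) (hgf : g.comp f = 0) (hgf' : g'.comp f' = 0)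
    (hf : (∀ n : ℕ, c ≤ n → LinearMap.range f ⊓ (I ^ n • (⊤ : Submodule A M)) ≤ Submodule.map f (I ^ (n - c) • (⊤ : Submodule A L))))
    (hg : (∀ n : ℕ, c ≤ n → LinearMap.range g ⊓ (I ^ n • (⊤ : Submodule A N)) ≤ Submodule.map g (I ^ (n - c) • (⊤ : Submodule A M))))
    (hex : Function.Exact f g)
    (hff' : ∀ x : L, f x - f' x ∈ I ^ (c + 1) • (⊤ : Submodule A M))
    (hgg' : ∀ y : M, g y - g' y ∈ I ^ (c + 1) • (⊤ : Submodule A N)) (n : ℕ) :
    I ^ (n + 1) • (⊤ : Submodule A N) ⊔ (LinearMap.range g ⊓ I ^ n • (⊤ : Submodule A N)) =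
      I ^ (n + 1) • (⊤ : Submodule A N) ⊔ (LinearMap.range g' ⊓ I ^ n • (⊤ : Submodule A N)) := by
  have key : ∀ (φ φ' : M →ₗ[A] N), (∀ y, φ y - φ' y ∈ I ^ (c + 1) • (⊤ : Submodule A N)) →
      (∀ n : ℕ, c ≤ n → LinearMap.range φ ⊓ (I ^ n • (⊤ : Submodule A N)) ≤
        Submodule.map φ (I ^ (n - c) • (⊤ : Submodule A M))) →
      I ^ (n + 1) • (⊤ : Submodule A N) ⊔ (LinearMap.range φ ⊓ I ^ n • (⊤ : Submodule A N)) ≤
        I ^ (n + 1) • (⊤ : Submodule A N) ⊔ (LinearMap.range φ' ⊓ I ^ n • (⊤ : Submodule A N)) := by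
    intro φ φ' hd hA
    refine sup_le le_sup_left fun w hw => ?_
    obtain ⟨x, hxw, hdx⟩ : ∃ x, φ x = w ∧ φ x - φ' x ∈ I ^ (n + 1) • (⊤ : Submodule A N) := by
      by_cases hn : c ≤ n
      · obtain ⟨x, hx, hxw⟩ := hA n hn hw
        refine ⟨x, hxw, ?_⟩
        have h1 : (φ - φ') x ∈ Submodule.map (φ - φ') (I ^ (n - c) • (⊤ : Submodule A M)) :=
          Submodule.mem_map_of_mem hx
        rw [Submodule.map_smul''] at h1
        rw [show n + 1 = n - c + (c + 1) by omega, pow_add, Submodule.mul_smul]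
        refine Submodule.smul_mono le_rfl ?_ h1
        rintro _ ⟨z, -, rfl⟩
        exact hd z
      · obtain ⟨⟨x, rfl⟩, -⟩ := hw
        exact ⟨x, rfl, Submodule.smul_mono (Ideal.pow_le_pow_right (by omega)) le_rfl (hd x)⟩
    refine Submodule.mem_sup.mpr ⟨φ x - φ' x, hdx, φ' x, ⟨⟨x, rfl⟩, ?_⟩, by rw [sub_add_cancel, hxw]⟩
    have h2 := sub_mem (hxw ▸ hw.2 : φ x ∈ I ^ n • (⊤ : Submodule A N))
      (Submodule.smul_mono (Ideal.pow_le_pow_right (Nat.le_succ n)) le_rfl hdx)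
    rwa [sub_sub_cancel] at h2
  refine le_antisymm (key g g' hgg' hg) (key g' g (fun y => ?_) ?_)
  · rw [← neg_sub]; exact neg_mem (hgg' y)
  · exact (Groth.Agent.S6909.result I hI f f' g g' c hgf hgf' hf hg hex hff' hgg').1

end Groth.Agent.S6910
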