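import Groth.Statements.S6911
import Mathlib.RingTheory.Flat.Basic
import Mathlib.RingTheory.TensorProduct.Maps

set_option autoImplicit false
universe u
open TensorProduct
open CAlg

namespace Groth.Agent.S6911

/-- Let `A → B` be a flat map of Noetherian rings, `I ⊆ A` an ideal and `f : M → N` a map of finite
`A`-modules such that `c` works for `f` in the Artin–Rees lemma (`f(M) ∩ IⁿN ⊆ f(I^{n-c}M)` for `n ≥
c`). Then `c` works for `f ⊗ 1 : M ⊗_A B → N ⊗_A B` and the ideal `IB`. -/
theorem result {A B : Type u} [CommRing A] [IsNoetherianRing A] [CommRing B]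
    [IsNoetherianRing B] [Algebra A B] [Module.Flat A B] (I : Ideal A) {M N : Type u} [AddCommGroup M] [Module A M]
    [Module.Finite A M] [AddCommGroup N] [Module A N] [Module.Finite A N] (f : M →ₗ[A] N) (c : ℕ)
    (hf : (∀ n : ℕ, c ≤ n → LinearMap.range f ⊓ (I ^ n • (⊤ : Submodule A N)) ≤ Submodule.map f (I ^ (n - c) • (⊤ : Submodule A M)))) :
    ∀ n : ℕ, c ≤ n →
      LinearMap.range (f.baseChange B) ⊓ ((I.map (algebraMap A B)) ^ n • (⊤ : Submodule B (B ⊗[A] N))) ≤
        Submodule.map (f.baseChange B) ((I.map (algebraMap A B)) ^ (n - c) • (⊤ : Submodule B (B ⊗[A] M))) := by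
  intro n hn w hw
  obtain ⟨⟨x, rfl⟩, hw⟩ := hw
  rw [← Ideal.map_pow] at hw
  let q : N →ₗ[A] N ⧸ (I ^ n • (⊤ : Submodule A N)) := Submodule.mkQ _
  let P : Submodule A M := LinearMap.ker (q ∘ₗ f)
  have hq : ∀ y ∈ (I ^ n).map (algebraMap A B) • (⊤ : Submodule B (B ⊗[A] N)), q.baseChange B y = 0 := by
    intro y hy
    refine Submodule.smul_induction_on hy (fun r hr z _ => ?_) (fun a b ha hb => by rw [map_add, ha, hb, add_zero])
    rw [map_smul]
    generalize q.baseChange B z = t
    induction hr using Submodule.span_induction generalizing t with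
    | mem r hr =>
      obtain ⟨a, ha, rfl⟩ := hr
      rw [algebraMap_smul]
      induction t using TensorProduct.induction_on with
      | zero => rw [smul_zero]
      | tmul b u =>
        obtain ⟨v, rfl⟩ := Submodule.mkQ_surjective _ u
        rw [← TensorProduct.tmul_smul, ← map_smul, Submodule.mkQ_apply,
          (Submodule.Quotient.mk_eq_zero (I ^ n • (⊤ : Submodule A N))).mpr (Submodule.smul_mem_smul ha trivial),
          TensorProduct.tmul_zero]
      | add u v hu hv => rw [smul_add, hu, hv, add_zero]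
    | zero => rw [zero_smul]
    | add a b _ _ ha hb => rw [add_smul, ha, hb, add_zero]
    | smul a b _ hb => rw [smul_assoc, hb, smul_zero]
  obtain ⟨z, rfl⟩ : ∃ z, P.subtype.baseChange B z = x :=
    (Module.Flat.lTensor_exact B (LinearMap.exact_subtype_ker_map (q ∘ₗ f)) x).mp (by
      rw [← hq _ hw]
      show (q ∘ₗ f).baseChange B x = q.baseChange B (f.baseChange B x)
      rw [LinearMap.baseChange_comp]; rfl)
  clear hw hq
  induction z using TensorProduct.induction_on with
  | zero => rw [map_zero, map_zero]; exact zero_mem _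
  | add a b ha hb => rw [map_add, map_add]; exact add_mem ha hb
  | tmul b m =>
    obtain ⟨p, hp, hpm⟩ := hf n hn ⟨⟨(m : M), rfl⟩, (Submodule.Quotient.mk_eq_zero _).mp m.2⟩
    refine ⟨b ⊗ₜ[A] p, ?_, by simp [hpm]⟩
    rw [← Ideal.map_pow]
    have h1 : b ⊗ₜ[A] p = b • (1 : B) ⊗ₜ[A] p := by rw [TensorProduct.smul_tmul', smul_eq_mul, mul_one]
    rw [SetLike.mem_coe, h1]
    refine Submodule.smul_mem _ b ?_
    refine Submodule.smul_induction_on hp (fun r hr u _ => ?_) (fun u v hu hv => ?_)
    · rw [TensorProduct.tmul_smul, ← algebraMap_smul B r]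
      exact Submodule.smul_mem_smul (Ideal.mem_map_of_mem _ hr) trivial
    · rw [TensorProduct.tmul_add]; exact add_mem hu hv

end Groth.Agent.S6911
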