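import Groth.Statements.S6912
import Mathlib.LinearAlgebra.Dimension.Localization
import Mathlib.LinearAlgebra.FreeModule.Finite.Matrix
import Mathlib.Algebra.Module.FinitePresentation
import Mathlib.LinearAlgebra.TensorProduct.Tower
import Mathlib.RingTheory.Localization.BaseChange

set_option autoImplicit false
universe u
open TensorProduct
open CAlg

namespace Groth.Agent.S6912

/-- Let `R` be a domain and `M`, `N` two `R`-modules; rank means dimension over the fraction field after
base change. Then `rank (M ⊗_R N) = rank M · rank N`, and when `M` is finitely presented also `rank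
Hom_R(M, N) = rank M · rank N`. -/
theorem result (R : Type u) [CommRing R] [IsDomain R] (M N : Type u)
    [AddCommGroup M] [Module R M] [AddCommGroup N] [Module R N] :
    Module.rank R (M ⊗[R] N) = Module.rank R M * Module.rank R N ∧
    (Module.FinitePresentation R M → Module.rank R (M →ₗ[R] N) = Module.rank R M * Module.rank R N) := by
  let K := FractionRing R
  have hbc : ∀ (X : Type u) [AddCommGroup X] [Module R X], Module.rank K (K ⊗[R] X) = Module.rank R X :=
    fun X _ _ => (TensorProduct.isBaseChange R X K).rank_eq
  refine ⟨?_, fun hM => ?_⟩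
  · rw [← hbc, ← hbc M, ← hbc N, (TensorProduct.AlgebraTensorModule.distribBaseChange R K M N).rank_eq,
      rank_tensorProduct']
  · let f : M →ₗ[R] K ⊗[R] M := TensorProduct.mk R K M 1
    let g : N →ₗ[R] K ⊗[R] N := TensorProduct.mk R K N 1
    haveI : IsLocalizedModule (nonZeroDivisors R) f :=
      (isLocalizedModule_iff_isBaseChange (nonZeroDivisors R) K f).mpr (TensorProduct.isBaseChange R M K)
    haveI : IsLocalizedModule (nonZeroDivisors R) g :=
      (isLocalizedModule_iff_isBaseChange (nonZeroDivisors R) K g).mpr (TensorProduct.isBaseChange R N K)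
    haveI := hM
    haveI : Module.Finite K (K ⊗[R] M) := inferInstance
    have h1 := IsLocalizedModule.rank_eq (M := M →ₗ[R] N) (N := K ⊗[R] M →ₗ[K] K ⊗[R] N) (nonZeroDivisors R) le_rfl
      (IsLocalizedModule.mapExtendScalars (nonZeroDivisors R) f g K)
    rw [← h1, ← IsLocalization.rank_eq (N := K ⊗[R] M →ₗ[K] K ⊗[R] N) K (nonZeroDivisors R) le_rfl, Module.rank_linearMap K K (K ⊗[R] M) (K ⊗[R] N),
      Cardinal.lift_id, Cardinal.lift_id, hbc, hbc]

end Groth.Agent.S6912
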