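import Groth.Statements.S6913
import Groth.Agent.DomMod.Basic
import Mathlib.RingTheory.Localization.Away.Basic
import Mathlib.RingTheory.Localization.Module
import Mathlib.LinearAlgebra.StdBasis
import Mathlib.RingTheory.Localization.BaseChange
import Mathlib.LinearAlgebra.Dimension.Free
import Mathlib.LinearAlgebra.Dimension.Constructions

set_option autoImplicit false
universe u
open scoped TensorProduct
open CAlg

namespace Groth.Agent.S6913

/-- Let `R` be a domain and `M` a finite `R`-module, of (finite) rank `r`. Then: some linear map `M →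
R^r` has torsion kernel and torsion cokernel; some nonzero `f ∈ R` makes `M_f` free of rank `r` over
`R_f`; and some injective linear map `R^r → M` has torsion cokernel. -/
theorem result (R : Type u) [CommRing R] [IsDomain R] (M : Type u) [AddCommGroup M]
    [Module R M] [Module.Finite R M] :
    (∃ h : M →ₗ[R] (Fin (Module.finrank R M) → R),
      (∀ x : M, h x = 0 → ∃ c : R, c ≠ 0 ∧ c • x = 0) ∧
      (∀ y : Fin (Module.finrank R M) → R, ∃ c : R, c ≠ 0 ∧ c • y ∈ LinearMap.range h)) ∧
    (∃ f : R, f ≠ 0 ∧ Module.Free (Localization.Away f) (LocalizedModule (Submonoid.powers f) M) ∧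
      Module.finrank (Localization.Away f) (LocalizedModule (Submonoid.powers f) M) = Module.finrank R M) ∧
    (∃ g : (Fin (Module.finrank R M) → R) →ₗ[R] M, Function.Injective g ∧
      ∀ x : M, ∃ c : R, c ≠ 0 ∧ c • x ∈ LinearMap.range g) := by
  obtain ⟨L, h, c, hc, hL, hLh, hhL⟩ := DomMod.exists_basis_up_to_scalar R M
  refine ⟨⟨h, fun x hx => ⟨c, hc, by rw [← hLh, hx, map_zero]⟩, fun y => ⟨c, hc, L y, hhL y⟩⟩,
    ⟨c, hc, ?_⟩, ⟨L, hL, fun x => ⟨c, hc, h x, hLh x⟩⟩⟩
  let S := Submonoid.powers c
  have hcS : IsUnit (algebraMap R (Localization.Away c) c) :=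
    IsLocalization.map_units (Localization.Away c) (⟨c, 1, pow_one c⟩ : S)
  let Lc := LocalizedModule.map S L
  let hc' := LocalizedModule.map S h
  have hb : Function.Bijective Lc := by
    refine ⟨LocalizedModule.map_injective S L hL, fun z => ?_⟩
    refine ⟨(↑hcS.unit⁻¹ : Localization.Away c) • hc' z, ?_⟩
    rw [map_smul]
    have : Lc (hc' z) = algebraMap R (Localization.Away c) c • z := by
      induction z using LocalizedModule.induction_on with
      | h m s =>
        simp only [Lc, hc', LocalizedModule.map_mk, hLh, algebraMap_smul, LocalizedModule.smul'_mk]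
    rw [this, smul_smul, IsUnit.val_inv_mul, one_smul]
  let b := ((Pi.basisFun R (Fin (Module.finrank R M))).ofIsLocalizedModule (Localization.Away c) S
    (LocalizedModule.mkLinearMap S (Fin (Module.finrank R M) → R))).map (LinearEquiv.ofBijective Lc hb)
  refine ⟨.of_basis b, ?_⟩
  haveI : Nontrivial (Localization.Away c) :=
    (IsLocalization.injective (Localization.Away c) (powers_le_nonZeroDivisors_of_noZeroDivisors hc)).nontrivial
  rw [Module.finrank_eq_card_basis b, Fintype.card_fin]

end Groth.Agent.S6913
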