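import Groth.Statements.S6917
import Mathlib
import Groth.Agent.EtMilLib.Basic

set_option autoImplicit false
universe u
open CategoryTheory
open EtAlg

namespace Groth.Agent.S6917

section Aux
variable {B' B A' A : Type u} [CommRing B'] [CommRing B] [CommRing A'] [CommRing A]
  [Algebra B' B] [Algebra B' A'] [Algebra B A] [Algebra A' A] [Algebra B' A]
  [IsScalarTower B' B A] [IsScalarTower B' A' A] (hsq : EtMil.IsFibreSquare B' B A' A)
include hsq

open EtMilLib

lemma mem_iff_mulLift_mem {j : B'} (hj : algebraMap B' B j = 0) {Q : PrimeSpectrum A'}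
    (h : j ∉ (PrimeSpectrum.comap (algebraMap B' A') Q).asIdeal) (a : A') :
    a ∈ Q.asIdeal ↔ mulLift hsq j hj a ∈ (PrimeSpectrum.comap (algebraMap B' A') Q).asIdeal := by
  rw [PrimeSpectrum.comap_asIdeal, Ideal.mem_comap, (mulLift_spec hsq j hj a).2]
  exact ⟨Ideal.mul_mem_right _ _, fun h' => (Q.isPrime.mem_or_mem h').resolve_right h⟩

lemma existsUnique_lift (P : PrimeSpectrum B') {j : B'} (hj : algebraMap B' B j = 0) (h : j ∉ P.asIdeal) :
    ∃! Q : PrimeSpectrum A', PrimeSpectrum.comap (algebraMap B' A') Q = P := by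
  have hprod : ∀ a b : A', mulLift hsq j hj a * mulLift hsq j hj b = j * mulLift hsq j hj (a * b) := fun a b =>
    eq_of_maps_eq hsq (by simp [(mulLift_spec hsq j hj a).1, hj]) (by simp [(mulLift_spec hsq j hj a).2, (mulLift_spec hsq j hj b).2, (mulLift_spec hsq j hj (a * b)).2]; ring)
  let Q : Ideal A' :=
    { carrier := {a | mulLift hsq j hj a ∈ P.asIdeal}
      add_mem' := fun ha hb => by simpa using add_mem (s := P.asIdeal) ha hb
      zero_mem' := by simp
      smul_mem' := fun c a (ha : mulLift hsq j hj a ∈ P.asIdeal) => by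
        refine (P.isPrime.mem_or_mem (x := j) ?_).resolve_left h
        rw [smul_eq_mul, ← hprod]
        exact Ideal.mul_mem_left _ _ ha }
  have hQ : Q.IsPrime := by
    refine ⟨fun htop => h ?_, fun {a b} (hab : mulLift hsq j hj (a * b) ∈ P.asIdeal) => P.isPrime.mem_or_mem ?_⟩
    · have : (1 : A') ∈ Q := htop ▸ Submodule.mem_top
      rwa [← mulLift_one hsq j hj]
    · rw [hprod]; exact Ideal.mul_mem_left _ _ hab
  have hQP : PrimeSpectrum.comap (algebraMap B' A') ⟨Q, hQ⟩ = P := by
    refine PrimeSpectrum.ext (Ideal.ext fun x => ?_)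
    rw [PrimeSpectrum.comap_asIdeal, Ideal.mem_comap]
    show mulLift hsq j hj (algebraMap B' A' x) ∈ P.asIdeal ↔ _
    rw [show mulLift hsq j hj (algebraMap B' A' x) = x * j by
      rw [Algebra.algebraMap_eq_smul_one, map_smul, mulLift_one, smul_eq_mul]]
    exact ⟨fun hh => (P.isPrime.mem_or_mem hh).resolve_right h, Ideal.mul_mem_right _ _⟩
  refine ⟨⟨Q, hQ⟩, hQP, fun Q' hQ' => ?_⟩
  refine PrimeSpectrum.ext (Ideal.ext fun a => ?_)
  rw [mem_iff_mulLift_mem hsq hj (hQ'.symm ▸ h) a, hQ']
  rfl

omit hsq in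
lemma comap_comm (Q : PrimeSpectrum A) :
    PrimeSpectrum.comap (algebraMap B' B) (PrimeSpectrum.comap (algebraMap B A) Q) =
      PrimeSpectrum.comap (algebraMap B' A') (PrimeSpectrum.comap (algebraMap A' A) Q) := by
  rw [← PrimeSpectrum.comap_comp_apply, ← PrimeSpectrum.comap_comp_apply,
    ← IsScalarTower.algebraMap_eq, ← IsScalarTower.algebraMap_eq]

lemma mem_range_or (P : PrimeSpectrum B') :
    (∃ Q, PrimeSpectrum.comap (algebraMap B' B) Q = P) ∨ ∃ Q, PrimeSpectrum.comap (algebraMap B' A') Q = P := by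
  by_cases h : RingHom.ker (algebraMap B' B) ≤ P.asIdeal
  · left
    have : P ∈ Set.range (PrimeSpectrum.comap (algebraMap B' B)) := by
      rw [_root_.range_comap_of_surjective _ _ (surjective_fst hsq)]
      exact h
    exact this
  · right
    obtain ⟨j, hj, hjP⟩ := SetLike.not_le_iff_exists.mp h
    exact (existsUnique_lift hsq P hj hjP).exists

lemma isClosed_of_preimage {C : Set (PrimeSpectrum B')}
    (h1 : IsClosed (PrimeSpectrum.comap (algebraMap B' B) ⁻¹' C))
    (h2 : IsClosed (PrimeSpectrum.comap (algebraMap B' A') ⁻¹' C)) : IsClosed C := by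
  have hemb := PrimeSpectrum.isClosedEmbedding_comap_of_surjective _ (algebraMap B' B) (surjective_fst hsq)
  obtain ⟨s, hs⟩ := (PrimeSpectrum.isClosed_iff_zeroLocus_ideal _).mp h2
  obtain ⟨t, ht⟩ := (PrimeSpectrum.isClosed_iff_zeroLocus_ideal _).mp h1
  have key : C = PrimeSpectrum.comap (algebraMap B' B) '' (PrimeSpectrum.comap (algebraMap B' B) ⁻¹' C) ∪
      PrimeSpectrum.zeroLocus (s.comap (algebraMap B' A') : Set B') := by
    ext P
    constructor
    · intro hP
      rcases mem_range_or hsq P with ⟨Q, rfl⟩ | ⟨Q, rfl⟩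
      · exact Or.inl ⟨Q, hP, rfl⟩
      · right
        have hQ : Q ∈ PrimeSpectrum.zeroLocus (s : Set A') := hs ▸ hP
        exact fun x hx => hQ hx
    · rintro (⟨Q, hQ, rfl⟩ | hP)
      · exact hQ
      by_cases h : RingHom.ker (algebraMap B' B) ≤ P.asIdeal
      · obtain ⟨Q, rfl⟩ : P ∈ Set.range (PrimeSpectrum.comap (algebraMap B' B)) := by
          rw [_root_.range_comap_of_surjective _ _ (surjective_fst hsq)]
          exact h
        -- `Q` contains `t`
        show Q ∈ PrimeSpectrum.comap (algebraMap B' B) ⁻¹' C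
        rw [ht]
        intro b hb
        -- the image of `b` in `A` lies in the radical of `s A`
        have h3 : algebraMap B A b ∈ (s.map (algebraMap A' A)).radical := by
          rw [Ideal.radical_eq_sInf, Submodule.mem_sInf]
          rintro q ⟨hq, hqp⟩
          have h4 : PrimeSpectrum.comap (algebraMap A' A) ⟨q, hqp⟩ ∈ PrimeSpectrum.zeroLocus (s : Set A') :=
            fun x hx => hq (Ideal.mem_map_of_mem _ hx)
          rw [← hs, Set.mem_preimage, ← comap_comm (B := B)] at h4
          have h5 : PrimeSpectrum.comap (algebraMap B A) ⟨q, hqp⟩ ∈ PrimeSpectrum.zeroLocus (t : Set B) := ht ▸ h4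
          exact h5 hb
        obtain ⟨N, hN⟩ := h3
        obtain ⟨x, hx, hxe⟩ := (Ideal.mem_map_iff_of_surjective _ hsq.1).mp hN
        obtain ⟨b', ⟨hb1, hb2⟩, -⟩ := hsq.2 (b ^ N) x (by rw [map_pow, hxe])
        have h6 : b' ∈ (PrimeSpectrum.comap (algebraMap B' B) Q).asIdeal := hP (Ideal.mem_comap.mpr (hb2 ▸ hx))
        rw [PrimeSpectrum.comap_asIdeal, Ideal.mem_comap, hb1] at h6
        exact Q.isPrime.mem_of_pow_mem N h6
      · obtain ⟨j, hj, hjP⟩ := SetLike.not_le_iff_exists.mp h
        obtain ⟨Q, rfl, -⟩ := existsUnique_lift hsq P hj hjP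
        show Q ∈ PrimeSpectrum.comap (algebraMap B' A') ⁻¹' C
        rw [hs]
        intro a ha
        rw [SetLike.mem_coe, mem_iff_mulLift_mem hsq hj hjP a]
        refine hP ?_
        rw [SetLike.mem_coe, Ideal.mem_comap, (mulLift_spec hsq j hj a).2]
        exact Ideal.mul_mem_right _ _ ha
  rw [key]
  exact (hemb.isClosedMap _ h1).union (PrimeSpectrum.isClosed_zeroLocus _)

end Aux

/-- Let `B' = B ×_A A'` be a fibre square of rings with `A' → A` surjective. Then `Spec(B') = Spec(B)
⨿_{Spec(A)} Spec(A')`: the square of prime spectra is a pushout of topological spaces. -/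
theorem result (B' B A' A : Type u) [CommRing B'] [CommRing B] [CommRing A'] [CommRing A]
    [Algebra B' B] [Algebra B' A'] [Algebra B A] [Algebra A' A] [Algebra B' A] [IsScalarTower B' B A] [IsScalarTower B' A' A]
    (hsq : EtMil.IsFibreSquare B' B A' A) :
    IsPushout (TopCat.ofHom (ContinuousMap.mk (PrimeSpectrum.comap (algebraMap B A)) (PrimeSpectrum.continuous_comap _))) (TopCat.ofHom (ContinuousMap.mk (PrimeSpectrum.comap (algebraMap A' A)) (PrimeSpectrum.continuous_comap _)))
      (TopCat.ofHom (ContinuousMap.mk (PrimeSpectrum.comap (algebraMap B' B)) (PrimeSpectrum.continuous_comap _)))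
      (TopCat.ofHom (ContinuousMap.mk (PrimeSpectrum.comap (algebraMap B' A')) (PrimeSpectrum.continuous_comap _))) := by
  classical
  have w : (TopCat.ofHom (ContinuousMap.mk (PrimeSpectrum.comap (algebraMap B A)) (PrimeSpectrum.continuous_comap _))) ≫
      (TopCat.ofHom (ContinuousMap.mk (PrimeSpectrum.comap (algebraMap B' B)) (PrimeSpectrum.continuous_comap _))) =
      (TopCat.ofHom (ContinuousMap.mk (PrimeSpectrum.comap (algebraMap A' A)) (PrimeSpectrum.continuous_comap _))) ≫
      (TopCat.ofHom (ContinuousMap.mk (PrimeSpectrum.comap (algebraMap B' A')) (PrimeSpectrum.continuous_comap _))) := by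
    ext Q : 1
    exact comap_comm Q
  have hinj : Function.Injective (PrimeSpectrum.comap (algebraMap B' B)) :=
    (PrimeSpectrum.isClosedEmbedding_comap_of_surjective _ _ (EtMilLib.surjective_fst hsq)).injective
  -- a compatible pair of functions agrees on common values
  have hcompat : ∀ {T : Type u} (f1 : PrimeSpectrum B → T) (f2 : PrimeSpectrum A' → T),
      (∀ q, f1 (PrimeSpectrum.comap (algebraMap B A) q) = f2 (PrimeSpectrum.comap (algebraMap A' A) q)) →
      ∀ Q1 Q2, PrimeSpectrum.comap (algebraMap B' B) Q1 = PrimeSpectrum.comap (algebraMap B' A') Q2 → f1 Q1 = f2 Q2 := by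
    intro T f1 f2 hf Q1 Q2 hQ
    obtain ⟨q, rfl⟩ : Q2 ∈ Set.range (PrimeSpectrum.comap (algebraMap A' A)) := by
      rw [_root_.range_comap_of_surjective _ _ hsq.1]
      intro a (ha : algebraMap A' A a = 0)
      obtain ⟨j, ⟨hj, hj'⟩, -⟩ := EtMilLib.exists_lift hsq ha
      have : j ∈ (PrimeSpectrum.comap (algebraMap B' A') Q2).asIdeal := by
        rw [← hQ, PrimeSpectrum.comap_asIdeal, Ideal.mem_comap, hj]; exact zero_mem _
      rwa [PrimeSpectrum.comap_asIdeal, Ideal.mem_comap, hj'] at this
    rw [← comap_comm (B := B)] at hQ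
    rw [hinj hQ, hf]
  refine IsPushout.of_isColimit (c := Limits.PushoutCocone.mk _ _ w) (Limits.PushoutCocone.IsColimit.mk _
    (fun s => TopCat.ofHom ⟨fun P => if h : ∃ Q, PrimeSpectrum.comap (algebraMap B' B) Q = P
      then s.inl h.choose else s.inr ((mem_range_or hsq P).resolve_left h).choose, ?_⟩) ?_ ?_ ?_)
  · rw [continuous_iff_isClosed]
    intro C hC
    refine isClosed_of_preimage hsq ?_ ?_
    · convert hC.preimage s.inl.hom.continuous using 1
      ext Q
      have h : ∃ Q', PrimeSpectrum.comap (algebraMap B' B) Q' = PrimeSpectrum.comap (algebraMap B' B) Q := ⟨Q, rfl⟩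
      simp only [Set.mem_preimage, dif_pos h, hinj h.choose_spec]
    · convert hC.preimage s.inr.hom.continuous using 1
      ext Q
      by_cases h : ∃ Q', PrimeSpectrum.comap (algebraMap B' B) Q' = PrimeSpectrum.comap (algebraMap B' A') Q
      · simp only [Set.mem_preimage, dif_pos h]
        rw [hcompat (fun x => s.inl x) (fun x => s.inr x) (fun q => ConcreteCategory.congr_hom s.condition q) _ _ h.choose_spec]
      · simp only [Set.mem_preimage, dif_neg h]
        obtain ⟨j, hj, hjP⟩ : ∃ j, algebraMap B' B j = 0 ∧ j ∉ (PrimeSpectrum.comap (algebraMap B' A') Q).asIdeal := by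
          by_contra hne; push Not at hne
          refine h ?_
          have : PrimeSpectrum.comap (algebraMap B' A') Q ∈ Set.range (PrimeSpectrum.comap (algebraMap B' B)) := by
            rw [_root_.range_comap_of_surjective _ _ (EtMilLib.surjective_fst hsq)]
            exact fun x hx => hne x hx
          exact this
        rw [(existsUnique_lift hsq _ hj hjP).unique ((mem_range_or hsq _).resolve_left h).choose_spec rfl]
  · intro s
    ext Q : 1
    have h : ∃ Q', PrimeSpectrum.comap (algebraMap B' B) Q' = PrimeSpectrum.comap (algebraMap B' B) Q := ⟨Q, rfl⟩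
    change dite _ _ _ = _
    refine (dif_pos h).trans ?_
    rw [hinj h.choose_spec]
  · intro s
    ext Q : 1
    change dite _ _ _ = _
    by_cases h : ∃ Q', PrimeSpectrum.comap (algebraMap B' B) Q' = PrimeSpectrum.comap (algebraMap B' A') Q
    · refine (dif_pos h).trans ?_
      exact hcompat (fun x => s.inl x) (fun x => s.inr x) (fun q => ConcreteCategory.congr_hom s.condition q) _ _ h.choose_spec
    · refine (dif_neg h).trans ?_
      obtain ⟨j, hj, hjP⟩ : ∃ j, algebraMap B' B j = 0 ∧ j ∉ (PrimeSpectrum.comap (algebraMap B' A') Q).asIdeal := by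
        by_contra hne; push Not at hne
        refine h ?_
        have : PrimeSpectrum.comap (algebraMap B' A') Q ∈ Set.range (PrimeSpectrum.comap (algebraMap B' B)) := by
          rw [_root_.range_comap_of_surjective _ _ (EtMilLib.surjective_fst hsq)]
          exact fun x hx => hne x hx
        exact this
      exact congrArg (fun x => s.inr x) ((existsUnique_lift hsq _ hj hjP).unique ((mem_range_or hsq _).resolve_left h).choose_spec rfl)
  · intro s m h1 h2
    ext P : 1
    change m P = dite _ _ _
    by_cases h : ∃ Q, PrimeSpectrum.comap (algebraMap B' B) Q = P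
    · rw [dif_pos h]
      conv_lhs => rw [← h.choose_spec]
      exact ConcreteCategory.congr_hom h1 _
    · rw [dif_neg h]
      conv_lhs => rw [← ((mem_range_or hsq P).resolve_left h).choose_spec]
      exact ConcreteCategory.congr_hom h2 _

end Groth.Agent.S6917
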