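import Groth.Prelude.Def_DRing4
import Mathlib.Algebra.Homology.HomotopyCategory.KInjective
import Mathlib.Algebra.Category.Ring.Basic
import Groth.Agent.DRing.EpiRing
-- import your own Groth.Agent.* helpers here

set_option autoImplicit false
universe u
open CategoryTheory CategoryTheory.Limits MonoidalCategory
open DRing

namespace Groth.Agent.S6920

/-- For an epimorphism of rings `φ : R → S` and a complex `I•` of `S`-modules, if the underlying complex
of `R`-modules of `I•` is K-injective, then `I•` itself is K-injective over `S`. -/
theorem result (R S : Type u) [CommRing R] [CommRing S] (φ : R →+* S)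
    (hφ : Epi (CommRingCat.ofHom φ)) (I : DRing.Cx S)
    [CochainComplex.IsKInjective ((DRing.restrictCx φ).obj I)] : CochainComplex.IsKInjective I := by
  exact Agent.DRing.EpiRing.isKInjective_of_restrict φ hφ I

end Groth.Agent.S6920
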