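import Groth.Statements.S6921
import Groth.Agent.EtMilLib.Glue

set_option autoImplicit false
universe u
open TensorProduct
open EtAlg

namespace Groth.Agent.S6921

/-- Let `B' = B ×_A A'` be a fibre square of rings with `A' → A` surjective, `B' → D'` a ring map, and
`D = D' ⊗_{B'} B`, `C' = D' ⊗_{B'} A'`, `C = D' ⊗_{B'} A`. Let `N` be a finite `D`-module, `M'` a
finite `C'`-module and `φ : N ⊗_D C ≅ M' ⊗_{C'} C` a `C`-linear isomorphism. Then the glued module
`N ×_φ M'` is a finite `D'`-module. -/
theorem result (B' B A' A : Type u) [CommRing B'] [CommRing B] [CommRing A'] [CommRing A]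
    [Algebra B' B] [Algebra B' A'] [Algebra B A] [Algebra A' A] [Algebra B' A] [IsScalarTower B' B A] [IsScalarTower B' A' A]
    (hsq : EtMil.IsFibreSquare B' B A' A)
    (D' D C' C : Type u) [CommRing D'] [CommRing D] [CommRing C'] [CommRing C]
    [Algebra B' D'] [Algebra B D] [Algebra A' C'] [Algebra A C]
    [Algebra D' D] [Algebra B' D] [IsScalarTower B' B D] [IsScalarTower B' D' D] [Algebra.IsPushout B' B D' D]
    [Algebra D' C'] [Algebra B' C'] [IsScalarTower B' A' C'] [IsScalarTower B' D' C'] [Algebra.IsPushout B' A' D' C']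
    [Algebra D' C] [Algebra B' C] [IsScalarTower B' A C] [IsScalarTower B' D' C] [Algebra.IsPushout B' A D' C]
    [Algebra D C] [IsScalarTower D' D C] [Algebra B C] [IsScalarTower B A C] [IsScalarTower B D C]
    [Algebra C' C] [IsScalarTower D' C' C] [Algebra A' C] [IsScalarTower A' A C] [IsScalarTower A' C' C]
    {N M' : Type u} [AddCommGroup N] [Module D N] [Module D' N] [IsScalarTower D' D N]
    [AddCommGroup M'] [Module C' M'] [Module D' M'] [IsScalarTower D' C' M'] (φ : C ⊗[D] N ≃ₗ[C] C ⊗[C'] M')
    [Module.Finite D N] [Module.Finite C' M'] : Module.Finite D' ↥(EtMil.glue D' φ) := by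
  classical
  let eD : TensorProduct B' B D' ≃ₗ[B] D := IsBaseChange.equiv (Algebra.IsPushout.out (R := B') (S := B) (R' := D') (S' := D))
  let eC' : TensorProduct B' A' D' ≃ₗ[A'] C' := IsBaseChange.equiv (Algebra.IsPushout.out (R := B') (S := A') (R' := D') (S' := C'))
  let eC : TensorProduct B' A D' ≃ₗ[A] C := IsBaseChange.equiv (Algebra.IsPushout.out (R := B') (S := A) (R' := D') (S' := C))
  have hcomm : ∀ z, eC ((IsScalarTower.toAlgHom B' A' A).toLinearMap.rTensor D' z) = algebraMap C' C (eC' z) := by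
    intro z
    induction z with
    | zero => simp
    | tmul a d =>
      simp only [eC, eC', LinearMap.rTensor_tmul, IsBaseChange.equiv_tmul, Algebra.smul_def, map_mul,
        AlgHom.toLinearMap_apply, IsScalarTower.coe_toAlgHom']
      rw [← IsScalarTower.algebraMap_apply A' A C, ← IsScalarTower.algebraMap_apply A' C' C,
        ← IsScalarTower.algebraMap_apply D' C' C]
    | add x y hx hy => simp only [map_add, hx, hy]
  refine Groth.Agent.EtMilLib.finite_glue (D' := D') φ ?_ ?_ ?_
  · intro c
    obtain ⟨z, rfl⟩ := eC.surjective c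
    obtain ⟨w, rfl⟩ := LinearMap.rTensor_surjective D' (g := (IsScalarTower.toAlgHom B' A' A).toLinearMap) hsq.1 z
    exact ⟨_, (hcomm w).symm⟩
  · intro d
    obtain ⟨z, rfl⟩ := eD.surjective d
    obtain ⟨d', rfl⟩ := Groth.Agent.EtMilLib.tmul_surjective (Groth.Agent.EtMilLib.surjective_fst hsq) z
    exact ⟨d', by simp [eD, IsBaseChange.equiv_tmul]⟩
  · intro i hi
    obtain ⟨z, rfl⟩ := eC'.surjective i
    obtain ⟨d, hd, rfl⟩ := Groth.Agent.EtMilLib.exists_of_rTensor_eq_zero hsq (y := z)
      (eC.injective (by rw [hcomm, hi, map_zero]))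
    refine ⟨d, ?_, by simp [eC', IsBaseChange.equiv_tmul]⟩
    refine Submodule.smul_induction_on hd (fun j hj x _ => ?_) (fun x y hx hy => by rw [map_add, hx, hy, add_zero])
    rw [Algebra.smul_def, map_mul, ← IsScalarTower.algebraMap_apply B' D' D, IsScalarTower.algebraMap_apply B' B D,
      RingHom.mem_ker.mp hj, map_zero, zero_mul]

end Groth.Agent.S6921
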