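import Groth.Statements.S6922
import Groth.Agent.EtMilLib.GlueFP
import Groth.Agent.S6921

set_option autoImplicit false
universe u
open TensorProduct
open EtAlg

namespace Groth.Agent.S6922

/-- In the relative situation (`B' = B ×_A A'` with `A' → A` surjective, `B' → D'`, `D = D' ⊗_{B'} B`,
`C' = D' ⊗_{B'} A'`, `C = D' ⊗_{B'} A`), let `N` be a flat `B`-module that is finitely presented as
a `D`-module and `M'` a flat `A'`-module that is finitely presented as a `C'`-module, with a
`C`-isomorphism `φ : N ⊗_D C ≅ M' ⊗_{C'} C`, and suppose `B' → D'` is the composite of a flat ring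
map `B' → D''` and a ring map `D'' → D'` of finite presentation. Then `N ×_φ M'` is finitely
presented over `D'`. -/
theorem result (B' B A' A : Type u) [CommRing B'] [CommRing B] [CommRing A'] [CommRing A]
    [Algebra B' B] [Algebra B' A'] [Algebra B A] [Algebra A' A] [Algebra B' A] [IsScalarTower B' B A] [IsScalarTower B' A' A]
    (hsq : EtMil.IsFibreSquare B' B A' A)
    (D' D C' C : Type u) [CommRing D'] [CommRing D] [CommRing C'] [CommRing C]
    [Algebra B' D'] [Algebra B D] [Algebra A' C'] [Algebra A C]
    [Algebra D' D] [Algebra B' D] [IsScalarTower B' B D] [IsScalarTower B' D' D] [Algebra.IsPushout B' B D' D]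
    [Algebra D' C'] [Algebra B' C'] [IsScalarTower B' A' C'] [IsScalarTower B' D' C'] [Algebra.IsPushout B' A' D' C']
    [Algebra D' C] [Algebra B' C] [IsScalarTower B' A C] [IsScalarTower B' D' C] [Algebra.IsPushout B' A D' C]
    [Algebra D C] [IsScalarTower D' D C] [Algebra B C] [IsScalarTower B A C] [IsScalarTower B D C]
    [Algebra C' C] [IsScalarTower D' C' C] [Algebra A' C] [IsScalarTower A' A C] [IsScalarTower A' C' C]
    {N M' : Type u} [AddCommGroup N] [Module D N] [Module D' N] [IsScalarTower D' D N]
    [AddCommGroup M'] [Module C' M'] [Module D' M'] [IsScalarTower D' C' M'] (φ : C ⊗[D] N ≃ₗ[C] C ⊗[C'] M')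
    [Module B N] [IsScalarTower B D N] [Module A' M'] [IsScalarTower A' C' M']
    [Module.FinitePresentation D N] [Module.Flat B N] [Module.FinitePresentation C' M'] [Module.Flat A' M']
    (D'' : Type u) [CommRing D''] [Algebra B' D''] [Algebra D'' D'] [IsScalarTower B' D'' D'] [Module.Flat B' D'']
    [Algebra.FinitePresentation D'' D'] :
    Module.FinitePresentation D' ↥(EtMil.glue D' φ) := by
  classical
  letI : Module B' N := Module.compHom N (algebraMap B' D')
  haveI : IsScalarTower B' D' N := IsScalarTower.of_algebraMap_smul fun _ _ => rfl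
  haveI : IsScalarTower B' B N := IsScalarTower.of_algebraMap_smul fun r x => by
    rw [← algebraMap_smul D (algebraMap B' B r), ← IsScalarTower.algebraMap_apply B' B D,
      IsScalarTower.algebraMap_apply B' D' D, algebraMap_smul, algebraMap_smul]
  letI : Module B' M' := Module.compHom M' (algebraMap B' D')
  haveI : IsScalarTower B' D' M' := IsScalarTower.of_algebraMap_smul fun _ _ => rfl
  haveI : IsScalarTower B' A' M' := IsScalarTower.of_algebraMap_smul fun r x => by
    rw [← algebraMap_smul C' (algebraMap B' A' r), ← IsScalarTower.algebraMap_apply B' A' C',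
      IsScalarTower.algebraMap_apply B' D' C', algebraMap_smul, algebraMap_smul]
  haveI : IsScalarTower B' D C := IsScalarTower.of_algebraMap_eq fun b => by
    rw [IsScalarTower.algebraMap_apply B' D' D, ← IsScalarTower.algebraMap_apply D' D C,
      ← IsScalarTower.algebraMap_apply B' D' C]
  haveI : IsScalarTower B' C' C := IsScalarTower.of_algebraMap_eq fun b => by
    rw [IsScalarTower.algebraMap_apply B' D' C', ← IsScalarTower.algebraMap_apply D' C' C,
      ← IsScalarTower.algebraMap_apply B' D' C]
  haveI : Algebra.IsPushout B A D C := (Algebra.IsPushout.comp_iff (R := B') (S := B) (R' := D') (S' := D)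
    (T := A) (T' := C)).mp inferInstance
  haveI : Algebra.IsPushout A' A C' C := (Algebra.IsPushout.comp_iff (R := B') (S := A') (R' := D') (S' := C')
    (T := A) (T' := C)).mp inferInstance
  let ψ : A ⊗[B] N ≃ₗ[A] A ⊗[A'] M' := (Algebra.IsPushout.cancelBaseChange B A D C N).symm ≪≫ₗ
    φ.restrictScalars A ≪≫ₗ Algebra.IsPushout.cancelBaseChange A' A C' C M'
  have hψ : EtMil.glue B' ψ = (EtMil.glue D' φ).restrictScalars B' := by
    ext x
    rw [Submodule.restrictScalars_mem, Groth.Agent.EtMilLib.mem_glue, Groth.Agent.EtMilLib.mem_glue]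
    simp only [ψ, LinearEquiv.trans_apply, LinearEquiv.restrictScalars_apply,
      Algebra.IsPushout.cancelBaseChange_symm_tmul, map_one]
    rw [← LinearEquiv.eq_symm_apply]
    simp
  let eL : EtMil.glue B' ψ ≃ₗ[B'] EtMil.glue D' φ :=
    (LinearEquiv.ofEq _ _ hψ) ≪≫ₗ (Submodule.restrictScalarsEquiv B' D' _ (EtMil.glue D' φ)).restrictScalars B'
  haveI : Module.Flat B' (EtMil.glue D' φ) := by
    haveI := Groth.Agent.EtMilLib.flat_glue hsq ψ
    exact Module.Flat.of_linearEquiv eL.symm
  have hbijB : Function.Bijective (LinearMap.liftBaseChange B ((EtMil.glueFst D' φ).restrictScalars B')) := by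
    have : LinearMap.liftBaseChange B ((EtMil.glueFst D' φ).restrictScalars B') =
        LinearMap.liftBaseChange B (EtMil.glueFst B' ψ) ∘ₗ
          (TensorProduct.AlgebraTensorModule.congr (LinearEquiv.refl B B) eL.symm).toLinearMap := by
      ext x; simp [eL, EtMil.glueFst]
    rw [this, LinearMap.coe_comp]
    exact (Groth.Agent.EtMilLib.liftBaseChange_glueFst_bijective hsq ψ).comp (LinearEquiv.bijective _)
  have hbijA : Function.Bijective (LinearMap.liftBaseChange A' ((EtMil.glueSnd D' φ).restrictScalars B')) := by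
    have : LinearMap.liftBaseChange A' ((EtMil.glueSnd D' φ).restrictScalars B') =
        LinearMap.liftBaseChange A' (EtMil.glueSnd B' ψ) ∘ₗ
          (TensorProduct.AlgebraTensorModule.congr (LinearEquiv.refl A' A') eL.symm).toLinearMap := by
      ext x; simp [eL, EtMil.glueSnd]
    rw [this, LinearMap.coe_comp]
    exact (Groth.Agent.EtMilLib.liftBaseChange_glueSnd_bijective hsq ψ).comp (LinearEquiv.bijective _)
  haveI hLfin : Module.Finite D' (EtMil.glue D' φ) :=
    Groth.Agent.S6921.result B' B A' A hsq D' D C' C φ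
  obtain ⟨n, π, hπ, hπk⟩ := (inferInstance : Algebra.FinitePresentation D'' D').out
  let P := MvPolynomial (Fin n) D''
  letI : Algebra P D' := π.toRingHom.toAlgebra
  haveI : IsScalarTower B' P D' := IsScalarTower.of_algebraMap_eq fun b => by
    rw [IsScalarTower.algebraMap_apply B' D'' D', IsScalarTower.algebraMap_apply B' D'' P]
    exact (π.commutes _).symm
  haveI : Module.Flat B' P := Module.Flat.trans B' D'' P
  haveI : Module.FinitePresentation P D' :=
    Module.finitePresentation_of_surjective (Algebra.linearMap P D') hπ hπk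
  letI : Module P N := Module.compHom N π.toRingHom
  haveI : IsScalarTower P D' N := IsScalarTower.of_algebraMap_smul fun _ _ => rfl
  letI : Module P M' := Module.compHom M' π.toRingHom
  haveI : IsScalarTower P D' M' := IsScalarTower.of_algebraMap_smul fun _ _ => rfl
  letI : Module P (EtMil.glue D' φ) := Module.compHom _ π.toRingHom
  haveI : IsScalarTower P D' (EtMil.glue D' φ) := IsScalarTower.of_algebraMap_smul fun _ _ => rfl
  haveI : IsScalarTower B' P (EtMil.glue D' φ) := IsScalarTower.of_algebraMap_smul fun b x => by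
    rw [← algebraMap_smul D' (algebraMap B' P b), ← IsScalarTower.algebraMap_apply B' P D', algebraMap_smul]
  haveI : Module.Finite P (EtMil.glue D' φ) := Module.Finite.trans D' _
  obtain ⟨k, f, hf⟩ := Module.Finite.exists_fin' P (EtMil.glue D' φ)
  have side : ∀ (S T Y : Type u) [CommRing S] [Algebra B' S] [CommRing T] [Algebra D' T] [Algebra S T] [Algebra B' T]
      [IsScalarTower B' S T] [IsScalarTower B' D' T] [Algebra.IsPushout B' S D' T]
      [AddCommGroup Y] [Module T Y] [Module D' Y] [IsScalarTower D' T Y] [Module.FinitePresentation T Y]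
      [Module S Y] [IsScalarTower S T Y] (g : EtMil.glue D' φ →ₗ[D'] Y) [Module B' Y] [IsScalarTower B' D' Y]
      [IsScalarTower B' S Y]
      (hg : Function.Bijective (LinearMap.liftBaseChange S (g.restrictScalars B'))),
      ∃ K : Submodule P (Fin k → P), K.FG ∧ K ≤ LinearMap.ker f ∧
        LinearMap.ker ((f.restrictScalars B').lTensor S) ≤
          LinearMap.range ((K.restrictScalars B').subtype.lTensor S) := by
    intro S T Y _ _ _ _ _ _ _ _ _ _ _ _ _ _ _ _ g _ _ _ hg
    letI : Algebra P (S ⊗[B'] P) := Algebra.TensorProduct.rightAlgebra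
    haveI : Algebra.IsPushout B' S P (S ⊗[B'] P) := inferInstance
    let ρ : S ⊗[B'] P →ₐ[S] T := Algebra.TensorProduct.lift (Algebra.ofId S T)
      ((IsScalarTower.toAlgHom B' D' T).comp (IsScalarTower.toAlgHom B' P D')) fun _ _ => .all _ _
    letI : Algebra (S ⊗[B'] P) T := ρ.toRingHom.toAlgebra
    haveI : IsScalarTower S (S ⊗[B'] P) T := IsScalarTower.of_algebraMap_eq fun s => (ρ.commutes s).symm
    letI : Algebra P T := ((algebraMap D' T).comp π.toRingHom).toAlgebra
    haveI : IsScalarTower P D' T := IsScalarTower.of_algebraMap_eq fun _ => rfl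
    haveI : IsScalarTower P (S ⊗[B'] P) T := IsScalarTower.of_algebraMap_eq fun p => by
      change algebraMap D' T (π p) = ρ (1 ⊗ₜ p)
      simp [ρ, Algebra.TensorProduct.lift_tmul]
      rfl
    haveI : IsScalarTower B' P T := IsScalarTower.of_algebraMap_eq fun b => by
      rw [IsScalarTower.algebraMap_apply P D' T, ← IsScalarTower.algebraMap_apply B' P D',
        ← IsScalarTower.algebraMap_apply B' D' T]
    haveI : Module.FinitePresentation (S ⊗[B'] P) T := by
      have h0 : Function.Bijective
          (LinearMap.liftBaseChange S (((Algebra.linearMap D' T).restrictScalars P).restrictScalars B')) := by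
        let e := IsBaseChange.equiv (Algebra.IsPushout.out (R := B') (S := S) (R' := D') (S' := T))
        have : LinearMap.liftBaseChange S (((Algebra.linearMap D' T).restrictScalars P).restrictScalars B') =
            e.toLinearMap := by
          ext d; simp [e, IsBaseChange.equiv_tmul]
        rw [this]; exact e.bijective
      exact Module.FinitePresentation.of_equiv (LinearEquiv.ofBijective _
        (Groth.Agent.EtMilLib.bijective_liftBaseChange_pushout (R := B') (S := S) (Q := S ⊗[B'] P) _ h0))
    letI : Module (S ⊗[B'] P) Y := Module.compHom Y ρ.toRingHom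
    haveI : IsScalarTower (S ⊗[B'] P) T Y := IsScalarTower.of_algebraMap_smul fun _ _ => rfl
    haveI : Module.FinitePresentation (S ⊗[B'] P) Y := Module.FinitePresentation.trans (S ⊗[B'] P) Y T
    letI : Module P Y := Module.compHom Y π.toRingHom
    haveI : IsScalarTower P D' Y := IsScalarTower.of_algebraMap_smul fun _ _ => rfl
    haveI : IsScalarTower S (S ⊗[B'] P) Y := IsScalarTower.of_algebraMap_smul fun s (y : Y) => by
      rw [← algebraMap_smul T (algebraMap S (S ⊗[B'] P) s) y, ← IsScalarTower.algebraMap_apply S (S ⊗[B'] P) T,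
        algebraMap_smul]
    haveI : IsScalarTower P (S ⊗[B'] P) Y := IsScalarTower.of_algebraMap_smul fun p (y : Y) => by
      rw [← algebraMap_smul T (algebraMap P (S ⊗[B'] P) p) y, ← IsScalarTower.algebraMap_apply P (S ⊗[B'] P) T,
        IsScalarTower.algebraMap_apply P D' T, algebraMap_smul, algebraMap_smul]
    haveI : IsScalarTower B' P Y := IsScalarTower.of_algebraMap_smul fun b y => by
      rw [← algebraMap_smul D' (algebraMap B' P b), ← IsScalarTower.algebraMap_apply B' P D', algebraMap_smul]
    have h : Function.Bijective (LinearMap.liftBaseChange (S ⊗[B'] P) (g.restrictScalars P)) :=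
      Groth.Agent.EtMilLib.bijective_liftBaseChange_pushout (R := B') (S := S) _ hg
    haveI : Module.FinitePresentation (S ⊗[B'] P) ((S ⊗[B'] P) ⊗[P] EtMil.glue D' φ) :=
      Module.FinitePresentation.of_equiv (R := S ⊗[B'] P) (M := Y) (N := (S ⊗[B'] P) ⊗[P] EtMil.glue D' φ)
        (LinearEquiv.ofBijective _ h).symm
    exact Groth.Agent.EtMilLib.exists_fg_ker_baseChange (Q := S ⊗[B'] P) f hf
  obtain ⟨K₁, h₁, h₁', hB⟩ := side B D N (EtMil.glueFst D' φ) hbijB
  obtain ⟨K₂, h₂, h₂', hA⟩ := side A' C' M' (EtMil.glueSnd D' φ) hbijA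
  have mono : ∀ {S : Type u} [CommRing S] [Algebra B' S] {K : Submodule P (Fin k → P)}, K ≤ K₁ ⊔ K₂ →
      LinearMap.range ((K.restrictScalars B').subtype.lTensor S) ≤
        LinearMap.range (((K₁ ⊔ K₂).restrictScalars B').subtype.lTensor S) := by
    intro S _ _ K hK
    rw [← Submodule.subtype_comp_inclusion _ _
      (show K.restrictScalars B' ≤ (K₁ ⊔ K₂).restrictScalars B' from fun x hx => hK hx), LinearMap.lTensor_comp]
    exact LinearMap.range_comp_le_range _ _
  have h := Groth.Agent.EtMilLib.ker_eq_of_baseChange hsq (f.restrictScalars B') hf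
    ((K₁ ⊔ K₂).restrictScalars B') (fun x hx => sup_le h₁' h₂' hx) (hB.trans (mono le_sup_left)) (hA.trans (mono le_sup_right))
  have hker : LinearMap.ker f = K₁ ⊔ K₂ := SetLike.ext fun x => SetLike.ext_iff.1 h x
  haveI : Module.FinitePresentation P (EtMil.glue D' φ) :=
    Module.finitePresentation_of_surjective f hf (hker ▸ h₁.sup h₂)
  haveI hsurj : Function.Surjective (algebraMap P D') := hπ
  refine Module.FinitePresentation.of_equiv (R := D') (LinearEquiv.ofBijective
    (LinearMap.liftBaseChange D' (LinearMap.id (R := P) (M := EtMil.glue D' φ))) ⟨?_, fun x => ⟨1 ⊗ₜ x, by simp⟩⟩)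
  rw [injective_iff_map_eq_zero]
  intro z hz
  obtain ⟨x, rfl⟩ := Groth.Agent.EtMilLib.tmul_surjective hsurj z
  rw [LinearMap.liftBaseChange_tmul, one_smul, LinearMap.id_apply] at hz
  rw [hz, TensorProduct.tmul_zero]

end Groth.Agent.S6922
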