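import Groth.Statements.S6923
import Groth.Agent.CAlg76.LiftProj

set_option autoImplicit false
universe u
open Hensel

namespace Groth.Agent.S6923

/-- Lifting finitely generated projective modules and idempotent matrices to a limit of nilpotent thickenings. -/
theorem exists_idempotent_matrix (A : Type u) [CommRing A] (An : ℕ → Type u)
    [∀ n, CommRing (An n)] (t : ∀ n, An (n + 1) →+* An n) (π : ∀ n, A →+* An n)
    (ht : ∀ n, Function.Surjective (t n)) (hnil : ∀ n (x : An (n + 1)), t n x = 0 → IsNilpotent x)
    (hA : FlatCA.IsRingLimit A An t π) {r : ℕ} (m : Matrix (Fin r) (Fin r) (An 0)) (hm : m * m = m) :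
    ∃ e : Matrix (Fin r) (Fin r) A, e * e = e ∧ e.map (π 0) = m := by
  classical
  let T : ℕ → Type u := fun n => {e : Matrix (Fin r) (Fin r) (An n) // e * e = e}
  have step : ∀ n (e : T n), ∃ e' : T (n + 1), e'.1.map (t n) = e.1 := fun n e => by
    obtain ⟨e', h, h'⟩ := CAlg76.LiftProj.exists_idempotent_matrix_of_nil (t n) (ht n) (hnil n) e.1 e.2
    exact ⟨⟨e', h⟩, h'⟩
  choose next hnext using step
  let F : ∀ n, T n := fun n => Nat.rec (⟨m, hm⟩ : T 0) next n
  obtain ⟨h1, h2, h3⟩ := hA
  choose e he using fun i j => h3 (fun n => (F n).1 i j) fun n => congr_fun (congr_fun (hnext n (F n)) i) j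
  have hmap : ∀ n, (Matrix.of e).map (π n) = (F n).1 := fun n => Matrix.ext fun i j => he i j n
  refine ⟨Matrix.of e, Matrix.ext fun i j => h2 _ _ fun n => ?_, hmap 0⟩
  have h4 : ((Matrix.of e * Matrix.of e).map (π n)) = (Matrix.of e).map (π n) := by
    rw [Matrix.map_mul, hmap n, (F n).2]
  exact congr_fun (congr_fun h4 i) j


/-- Let `A = lim A_n` be the limit of an inverse system of rings `(A_n)_{n ≥ 0}` in which each map
`A_{n+1} → A_n` is onto and every element of its kernel is nilpotent. Let `M_n` be `A_n`-modules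
with compatible maps `M_{n+1} → M_n` such that `M_0` is finite projective, every `M_n` is finite and
flat over `A_n`, and the maps induce isomorphisms `M_{n+1} ⊗_{A_{n+1}} A_n → M_n` (i.e. are
surjective with kernel `Ker(A_{n+1} → A_n) M_{n+1}`). Then the inverse limit of the `M_n` is a
finitely generated projective `A`-module whose base change to each `A_n` maps onto `M_n`
isomorphically: there is a finite projective `A`-module `P` with compatible maps `P → M_n`, each
surjective with kernel `Ker(A → A_n) P`, through which `P` maps bijectively onto the compatible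
sequences in `∏ M_n`. -/
theorem result (A : Type u) [CommRing A] (An : ℕ → Type u)
    [∀ n, CommRing (An n)] (t : ∀ n, An (n + 1) →+* An n) (π : ∀ n, A →+* An n)
    (ht : ∀ n, Function.Surjective (t n)) (hnil : ∀ n (x : An (n + 1)), t n x = 0 → IsNilpotent x)
    (hA : FlatCA.IsRingLimit A An t π)
    (M : ℕ → Type u) [∀ n, AddCommGroup (M n)] [∀ n, Module (An n) (M n)] (u : ∀ n, M (n + 1) →ₛₗ[t n] M n)
    [Module.Projective (An 0) (M 0)] (hfin : ∀ n, Module.Finite (An n) (M n)) (hflat : ∀ n, Module.Flat (An n) (M n))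
    (hu : ∀ n, Function.Surjective (u n) ∧ LinearMap.ker (u n) = RingHom.ker (t n) • (⊤ : Submodule (An (n + 1)) (M (n + 1)))) :
    ∃ (P : Type u) (_ : AddCommGroup P) (_ : Module A P) (p : ∀ n, P →ₛₗ[π n] M n),
      Module.Finite A P ∧ Module.Projective A P ∧ (∀ n (x : P), u n (p (n + 1) x) = p n x) ∧
      (∀ n, Function.Surjective (p n) ∧ LinearMap.ker (p n) = RingHom.ker (π n) • (⊤ : Submodule A P)) ∧
      (∀ x : (∀ n, M n), (∀ n, u n (x (n + 1)) = x n) → ∃! q : P, ∀ n, p n q = x n) := by
  classical
  have hc : ∀ n a, t n (π (n + 1) a) = π n a := fun n a => RingHom.congr_fun (hA.1 n) a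
  have hπsurj : ∀ n, Function.Surjective (π n) := fun N x => by
    let F : ∀ k, An (N + k) := fun k => Nat.rec x (fun k y => (ht (N + k) y).choose) k
    have hF : ∀ k, t (N + k) (F (k + 1)) = F k := fun k => (ht (N + k) (F k)).choose_spec
    have key : ∀ n, ∀ (k : ℕ) (a : An (n + k)), ∃ b : An n, ∀ a', π (n + k) a' = a → π n a' = b := by
      intro n k
      induction k with
      | zero => exact fun a => ⟨a, fun a' h => h⟩
      | succ k ih =>
        intro a
        obtain ⟨b, hb⟩ := ih (t (n + k) a)
        exact ⟨b, fun a' h => hb a' (by rw [← hc, ← h]; rfl)⟩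
    let down : ∀ n k, An (n + k) → An n := fun n k => Nat.rec (motive := fun k => An (n + k) → An n)
      (fun a => a) (fun k d a => d (t (n + k) a)) k
    have hdown : ∀ n k (a : An (n + (k + 1))), down n (k + 1) a = down n k (t (n + k) a) := fun n k a => rfl
    have hshift : ∀ k n (a : An (n + 1 + k)) (b : An (n + (k + 1))), HEq a b →
        t n (down (n + 1) k a) = down n (k + 1) b := by
      intro k
      induction k with
      | zero => intro n a b h; obtain rfl := eq_of_heq h; rfl
      | succ k ih =>
        intro n a b h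
        rw [hdown, hdown]
        refine ih n _ _ ?_
        have e1 : n + 1 + k = n + (k + 1) := by omega
        have : ∀ (i j : ℕ) (_ : i = j) (a : An (i + 1)) (b : An (j + 1)), HEq a b → HEq (t i a) (t j b) := by
          intro i j hij a b h; subst hij; obtain rfl := eq_of_heq h; rfl
        exact this _ _ e1 a b h
    let G : ∀ n, An (n + N) := fun n => cast (congrArg An (Nat.add_comm N n)) (F n)
    let X : ∀ n, An n := fun n => down n N (G n)
    have hX : ∀ n, t n (X (n + 1)) = X n := by
      intro n
      have hb : HEq (G (n + 1)) (cast (congrArg An (by omega : n + 1 + N = n + (N + 1))) (G (n + 1))) :=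
        (cast_heq _ _).symm
      show t n (down (n + 1) N (G (n + 1))) = down n N (G n)
      rw [hshift N n _ _ hb, hdown]
      congr 1
      have : ∀ (i j : ℕ) (_ : i = j) (a : An (i + 1)) (b : An (j + 1)), HEq a b → HEq (t i a) (t j b) := by
        intro i j hij a b h; subst hij; obtain rfl := eq_of_heq h; rfl
      apply eq_of_heq
      refine (this (n + N) (N + n) (Nat.add_comm n N) _ (F (n + 1))
        ((cast_heq _ _).trans (cast_heq _ _))).trans ?_
      rw [hF]
      exact (cast_heq _ _).symm
    obtain ⟨a, ha⟩ := hA.2.2 X hX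
    refine ⟨a, ?_⟩
    have hlast : ∀ k, down N k (F k) = x := by
      intro k
      induction k with
      | zero => rfl
      | succ k ih => rw [hdown, hF, ih]
    rw [ha N]
    show down N N (G N) = x
    rw [show G N = F N from eq_of_heq (cast_heq _ _)]
    exact hlast N
  have hnilp : ∀ n a, π 0 a = 0 → IsNilpotent (π n a) := by
    intro n
    induction n with
    | zero => intro a ha; exact ⟨1, by rw [ha, pow_one]⟩
    | succ n ih =>
      intro a ha
      obtain ⟨k, hk⟩ := ih a ha
      have h1 : IsNilpotent ((π (n + 1) a) ^ k) := hnil n _ (by rw [map_pow, hc, hk])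
      exact IsNilpotent.of_pow h1
  obtain ⟨P, _, _, _, _, p₀, hp₀, hk₀⟩ := CAlg76.LiftProj.exists_lift (π 0) (hπsurj 0) (⊥ : Ideal (An 0))
    (fun r m hm => (exists_idempotent_matrix A An t π ht hnil hA m hm).imp fun e he => ⟨he.1, fun i j => by
      rw [show π 0 (e i j) = m i j from congr_fun (congr_fun he.2 i) j, sub_self]; exact zero_mem _⟩) (M 0)
  have step : ∀ n (p : P →ₛₗ[π n] M n), ∃ p' : P →ₛₗ[π (n + 1)] M (n + 1), ∀ x, u n (p' x) = p x := by
    intro n p
    letI : Module A (M n) := Module.compHom _ (π n)
    letI : Module A (M (n + 1)) := Module.compHom _ (π (n + 1))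
    let U : M (n + 1) →ₗ[A] M n :=
      { toFun := u n, map_add' := map_add _,
        map_smul' := fun a x => by
          show u n (π (n + 1) a • x) = π n a • u n x
          rw [map_smulₛₗ, hc] }
    let p₁ : P →ₗ[A] M n := { toFun := p, map_add' := map_add _, map_smul' := fun a x => map_smulₛₗ p a x }
    obtain ⟨l, hl⟩ := Module.projective_lifting_property U p₁ (hu n).1
    exact ⟨{ toFun := l, map_add' := map_add _, map_smul' := fun a x => l.map_smul a x },
      fun x => LinearMap.congr_fun hl x⟩
  choose next hnext using step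
  let p : ∀ n, P →ₛₗ[π n] M n := fun n => Nat.rec p₀ next n
  have hp : ∀ n x, u n (p (n + 1) x) = p n x := fun n => hnext n (p n)
  have hsurj : ∀ n, Function.Surjective (p n) := by
    intro n
    induction n with
    | zero => exact hp₀
    | succ n ih =>
      haveI := hfin (n + 1)
      haveI : RingHomSurjective (π (n + 1)) := ⟨hπsurj (n + 1)⟩
      rw [← LinearMap.range_eq_top, ← top_le_iff]
      refine Submodule.le_of_le_smul_of_le_jacobson_bot Module.Finite.fg_top
        (I := RingHom.ker (t n)) (fun x hx => Ideal.mem_jacobson_bot.2 fun y =>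
          IsNilpotent.isUnit_add_one ((Commute.all x y).isNilpotent_mul_right (hnil n x hx))) fun y _ => ?_
      obtain ⟨x, hx⟩ := ih (u n y)
      refine Submodule.mem_sup.2 ⟨p (n + 1) x, LinearMap.mem_range_self _ x, y - p (n + 1) x, ?_,
        add_sub_cancel _ _⟩
      rw [← (hu n).2, LinearMap.mem_ker, map_sub, hp, hx, sub_self]
  obtain ⟨r, f, g, hf, -, hfg⟩ := Module.Finite.exists_comp_eq_id_of_projective A P
  have hfg' : ∀ x, f (g x) = x := LinearMap.congr_fun hfg
  have hexp : ∀ v : Fin r → A, f v = ∑ i, v i • f (Pi.single i 1) := fun v => by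
    conv_lhs => rw [pi_eq_sum_univ' v]
    simp only [map_sum, map_smul]
  have hcoord : ∀ n (x : P), p n x = 0 → ∀ l, π n (g x l) = 0 := by
    intro n x hx
    haveI := hflat n
    let a : Fin r → An n := fun i => π n (g x i)
    have hrel : ∑ i, a i • p n (f (Pi.single i 1)) = 0 := by
      rw [← hx]
      conv_rhs => rw [← hfg' x, hexp, map_sum]
      exact Finset.sum_congr rfl fun i _ => (map_smulₛₗ (p n) _ _).symm
    obtain ⟨s, b, y, hby, hab⟩ := Module.Flat.isTrivialRelation_of_sum_smul_eq_zero hrel
    choose B hB using fun i j => hπsurj n (b i j)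
    choose Y hY using fun j => hsurj n (y j)
    let k : Fin r → P := fun i => f (Pi.single i 1) - ∑ j, B i j • Y j
    have hk : ∀ i, p n (k i) = 0 := fun i => by
      simp only [k, map_sub, map_sum, map_smulₛₗ, hB, hY, ← hby, sub_self]
    have hk' : ∀ m (z : P), p m z = 0 → p 0 z = 0 := by
      intro m
      induction m with
      | zero => exact fun z h => h
      | succ m ih => exact fun z h => ih z (by rw [← hp, h, map_zero])
    have hgk : ∀ i l, π 0 (g (k i) l) = 0 := fun i l => by
      have h1 : k i ∈ RingHom.ker (π 0) • (⊤ : Submodule A P) := hk₀.le (hk' n _ (hk i))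
      refine Submodule.smul_induction_on (p := fun z => π 0 (g z l) = 0) h1 ?_ ?_
      · intro c hc z _
        rw [map_smul, Pi.smul_apply, smul_eq_mul, map_mul, RingHom.mem_ker.1 hc, zero_mul]
      · intro z w hz hw
        rw [map_add, Pi.add_apply, map_add, hz, hw, add_zero]
    let 𝔞 : Ideal (An n) := Ideal.span (Set.range a)
    let J : Ideal (An n) := (RingHom.ker (π 0)).map (π n)
    have hJ : J ≤ (⊥ : Ideal (An n)).jacobson := Ideal.map_le_iff_le_comap.2 fun z hz =>
      Ideal.mem_jacobson_bot.2 fun w =>
        IsNilpotent.isUnit_add_one ((Commute.all _ w).isNilpotent_mul_right (hnilp n z hz))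
    have h𝔞 : 𝔞 = ⊥ := by
      refine Submodule.eq_bot_of_le_smul_of_le_jacobson_bot J 𝔞 (Submodule.fg_span (Set.finite_range a)) ?_ hJ
      rw [Ideal.span_le]
      rintro _ ⟨l, rfl⟩
      have e1 : ∑ i, g x i • k i = x - ∑ j, (∑ i, g x i * B i j) • Y j := by
        simp only [k, smul_sub, Finset.sum_sub_distrib, ← hexp, hfg', Finset.smul_sum, smul_smul,
          Finset.sum_smul]
        rw [Finset.sum_comm]
      have e2 := congrArg (fun z => π n (g z l)) e1
      simp only [map_sub, map_sum, map_smul, Pi.sub_apply, Finset.sum_apply, Pi.smul_apply, smul_eq_mul,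
        map_mul, hB] at e2
      have e3 : ∀ j, ∑ i, π n (g x i) * b i j = 0 := hab
      simp only [e3, zero_mul, Finset.sum_const_zero, sub_zero] at e2
      show π n (g x l) ∈ J • 𝔞
      rw [← e2]
      refine sum_mem fun i _ => ?_
      rw [mul_comm]
      exact Submodule.smul_mem_smul (Ideal.mem_map_of_mem _ (hgk i l)) (Ideal.subset_span ⟨i, rfl⟩)
    intro l
    have : a l ∈ 𝔞 := Ideal.subset_span ⟨l, rfl⟩
    rwa [h𝔞, Ideal.mem_bot] at this
  have hsmul : ∀ n (v : Fin r → A), (∀ i, π n (v i) = 0) →
      f v ∈ RingHom.ker (π n) • (⊤ : Submodule A P) := fun n v hv => by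
    rw [hexp v]
    exact sum_mem fun i _ => Submodule.smul_mem_smul (hv i) Submodule.mem_top
  refine ⟨P, inferInstance, inferInstance, p, inferInstance, inferInstance, hp, fun n => ⟨hsurj n, ?_⟩, ?_⟩
  · refine le_antisymm (fun x hx => ?_) (Submodule.smul_le.2 fun a ha x _ => ?_)
    · rw [← hfg' x]
      exact hsmul n _ (hcoord n x hx)
    · rw [LinearMap.mem_ker, map_smulₛₗ, RingHom.mem_ker.1 ha, zero_smul]
  · intro x hx
    choose q hq using fun n => hsurj n (x n)
    choose a ha using fun l => hA.2.2 (fun n => π n (g (q n) l)) fun n => by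
      rw [hc]
      have h0 : p n (q (n + 1) - q n) = 0 := by
        rw [map_sub, hq n, ← hp n (q (n + 1))]
        exact sub_eq_zero.2 ((congrArg (u n) (hq (n + 1))).trans (hx n))
      have := hcoord n _ h0 l
      rwa [map_sub, Pi.sub_apply, map_sub, sub_eq_zero] at this
    have hex : ∀ n, p n (f a) = x n := fun n => by
      have h1 : f (a - g (q n)) ∈ RingHom.ker (π n) • (⊤ : Submodule A P) := hsmul n _ fun i => by
        rw [Pi.sub_apply, map_sub, ha i n, sub_self]
      have h2 : p n (f (a - g (q n))) = 0 :=
        Submodule.smul_induction_on (p := fun z => p n z = 0) h1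
          (fun c hc z _ => by rw [map_smulₛₗ, RingHom.mem_ker.1 hc, zero_smul])
          (fun z w hz hw => by rw [map_add, hz, hw, add_zero])
      rwa [map_sub, map_sub, hfg', hq, sub_eq_zero] at h2
    refine ⟨f a, hex, fun q' hq' => ?_⟩
    have : g q' = g (f a) := funext fun l => hA.2.1 _ _ fun n => by
      have := hcoord n (q' - f a) (by rw [map_sub, hq', hex, sub_self]) l
      rwa [map_sub, Pi.sub_apply, map_sub, sub_eq_zero] at this
    rw [← hfg' q', this, hfg']

end Groth.Agent.S6923
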