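import Groth.Statements.S6924
import Groth.Agent.FittLib.StrictExists
-- import your own Groth.Agent.* helpers here

set_option autoImplicit false
universe u
open TensorProduct
open Fitt

namespace Groth.Agent.S6924

/-- Let `M` be a finite `R`-module and `f ∈ R` such that every prime of `D(f)` has a basic open
neighbourhood `D(g) ⊆ D(f)` with `M_g` free of rank `r` (in other words `M_f` is, locally on `D(f)`,
free of rank `r`). Then there is a finitely generated ideal `I ⊆ R` with `V(I) = V(f)` such that for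
every `a ∈ I` and (a copy `R₁` of) the affine blow-up algebra `R[I/a]`, the strict transform `(M ⊗_R
R₁)/(a-power torsion)` is finite locally free of rank `r` over `R₁`. -/
theorem result {R : Type u} [CommRing R] (M : Type u) [AddCommGroup M]
    [Module R M] [Module.Finite R M] (f : R) (r : ℕ)
    (hf : ∀ (p : Ideal R) [p.IsPrime], f ∉ p → ∃ g : R, g ∉ p ∧ g ∈ (Ideal.span {f}).radical ∧
      Module.Free (Localization.Away g) (LocalizedModule (Submonoid.powers g) M) ∧
        Module.finrank (Localization.Away g) (LocalizedModule (Submonoid.powers g) M) = r) :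
    ∃ I : Ideal R, I.FG ∧ I.radical = (Ideal.span {f}).radical ∧ ∀ a ∈ I, ∀ (R₁ : Type u) [CommRing R₁] [Algebra R R₁] (e : R₁ ≃ₐ[R] ↥(BlowUp.affineAlgebra R I a)),
      ∀ (p' : Ideal R₁) [p'.IsPrime], ∃ g : R₁, g ∉ p' ∧
        Module.Free (Localization.Away g) (LocalizedModule (Submonoid.powers g) ((R₁ ⊗[R] M) ⧸ FlatCA.powTorsion R₁ (algebraMap R R₁ a) (R₁ ⊗[R] M))) ∧
        Module.finrank (Localization.Away g) (LocalizedModule (Submonoid.powers g) ((R₁ ⊗[R] M) ⧸ FlatCA.powTorsion R₁ (algebraMap R R₁ a) (R₁ ⊗[R] M))) = r := by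
  have hloc : ∀ (p : Ideal R) [p.IsPrime], f ∉ p → ∃ g : R, g ∉ p ∧ ∃ y : Fin r → M,
      Groth.Agent.FittLib.StrictExists.IsPowBasis g y := fun p _ hp => by
    obtain ⟨g, hg, -, hfree, hrk⟩ := hf p hp
    haveI := hfree
    haveI : Nontrivial (Localization.Away g) := by
      refine nontrivial_of_ne 1 0 fun h => ?_
      rw [← map_one (algebraMap R (Localization.Away g)), IsLocalization.map_eq_zero_iff (Submonoid.powers g)] at h
      obtain ⟨⟨_, n, rfl⟩, hn⟩ := h
      rw [mul_one] at hn
      exact hg (Ideal.IsPrime.mem_of_pow_mem inferInstance n (by simp only at hn; rw [hn]; exact zero_mem p))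
    haveI : Module.Finite (Localization.Away g) (LocalizedModule (Submonoid.powers g) M) :=
      Module.Finite.of_isLocalizedModule (Submonoid.powers g) (LocalizedModule.mkLinearMap (Submonoid.powers g) M)
    exact ⟨g, hg, Groth.Agent.FittLib.StrictExists.exists_isPowBasis g (Module.finBasisOfFinrankEq _ _ hrk)⟩
  obtain ⟨M₂, _, _, _, q, hq, hker, hbot, m, hm⟩ := Groth.Agent.FittLib.StrictExists.exists_fp_cover f r hloc
  refine ⟨Ideal.span {f} * Fitt.ideal R M₂ r, (Submodule.fg_span_singleton f).mul (Groth.Agent.FittLib.ideal_eq_G_rel r),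
    le_antisymm (Ideal.radical_mono Ideal.mul_le_left) (Ideal.radical_le_radical_iff.2 ?_), fun a ha R₁ _ _ e p' _ => ?_⟩
  · rw [Ideal.span_singleton_le_iff_mem]
    exact ⟨m + 1, by rw [pow_succ']; exact Ideal.mul_mem_mul (Ideal.mem_span_singleton_self f) hm⟩
  · exact Groth.Agent.FittLib.StrictExists.free_away_strict f r q hq hker hbot ha R₁
      (Groth.Agent.FittLib.Strict.nzd_of_equiv _ a R₁ e)
      (Groth.Agent.FittLib.Strict.map_eq_span_of_equiv _ a R₁ e ha) p'

end Groth.Agent.S6924
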