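import Groth.Statements.S6927
import Groth.Agent.S6928
import Groth.Agent.FlatMor.FlatIdealC.Family
import Groth.Agent.FlatMor.FlatIdealC.KrullStep

set_option autoImplicit false
universe u
open TensorProduct
open FlatMor

namespace Groth.Agent.S6927

/-- Let `(R, 𝔪)` be a complete Noetherian local ring, `R → S` of finite type, `M` a finite `S`-module,
and `I ⊆ 𝔪` the least ideal for which, at every prime `𝔮` of `S` lying over `𝔪`, the localization
`(M/IM)_𝔮` is an `R/I`-flat module. Then for every local homomorphism `φ : R → R'` of local rings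
(`R'` arbitrary), with `S' = S ⊗_R R'` and `M' = M ⊗_R R'`: `M'_{𝔮'}` is flat over `R'` for every
prime `𝔮'` of `S'` over `𝔪'` if and only if `φ(I) = 0`. -/
theorem result {R S R' S' : Type u} [CommRing R] [IsLocalRing R]
    [IsNoetherianRing R] [IsAdicComplete (IsLocalRing.maximalIdeal R) R] [CommRing S]
    [CommRing R'] [IsLocalRing R'] [CommRing S']
    [Algebra R S] [Algebra.FiniteType R S] [Algebra R R'] [IsLocalHom (algebraMap R R')] [Algebra S S'] [Algebra R' S']
    [Algebra R S'] [IsScalarTower R S S'] [IsScalarTower R R' S'] [Algebra.IsPushout R S R' S']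
    {M M' : Type u} [AddCommGroup M] [Module S M] [Module R M] [IsScalarTower R S M] [Module.Finite S M]
    [AddCommGroup M'] [Module S' M'] [Module R' M'] [IsScalarTower R' S' M'] [Module S M'] [IsScalarTower S S' M']
    (f : M →ₗ[S] M') (hf : IsBaseChange S' f) (I : Ideal R) (hIm : I ≤ IsLocalRing.maximalIdeal R)
    (hI : (∀ (q : Ideal S) [q.IsPrime], q.comap (algebraMap R S) = IsLocalRing.maximalIdeal R →
        Module.Flat (R ⧸ I) ((R ⧸ I) ⊗[R] LocalizedModule q.primeCompl M)))
    (hmin : ∀ J : Ideal R, (∀ (q : Ideal S) [q.IsPrime], q.comap (algebraMap R S) = IsLocalRing.maximalIdeal R →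
        Module.Flat (R ⧸ J) ((R ⧸ J) ⊗[R] LocalizedModule q.primeCompl M)) → I ≤ J) :
    (∀ (q' : Ideal S') [q'.IsPrime], q'.comap (algebraMap R' S') = IsLocalRing.maximalIdeal R' → FlatCA.FlatAt R' q' M') ↔
      I ≤ RingHom.ker (algebraMap R R') := by
  haveI : Algebra.FinitePresentation R S := Algebra.FinitePresentation.of_finiteType.mp ‹_›
  haveI : IsNoetherianRing S := Algebra.FiniteType.isNoetherianRing R S
  haveI : Module.FinitePresentation S M := Module.finitePresentation_of_finite S M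
  obtain ⟨I₀, hI₀m, hI₀, hI₀min, hchar⟩ := Groth.Agent.FlatMor.FlatIdealC.exists_main_primes R S M
  obtain rfl : I = I₀ := le_antisymm (hmin I₀ hI₀) (hI₀min I hI)
  refine ⟨fun H => ?_, fun hker q' _ hq' =>
    Groth.Agent.FlatMor.FlatIdealC.flatAt_of_le_ker R R' f hf I hI hker q' hq'⟩
  -- the system of finitely generated subalgebras
  classical
  let ι := {B : Subalgebra R R' // B.FG}
  let G : ι → Type u := fun B => B.1
  let g : ∀ i j : ι, i ≤ j → G i →+* G j := fun i j h => (Subalgebra.inclusion h).toRingHom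
  have hdir : IsDirected ι (· ≤ ·) :=
    ⟨fun a b => ⟨⟨a.1 ⊔ b.1, a.2.sup b.2⟩, le_sup_left (b := b.1), le_sup_right (a := a.1)⟩⟩
  have hcolim : FlatCA.IsDirectedColimitRing G g R' :=
    ⟨hdir, ⟨⟨⊥, Subalgebra.fg_bot⟩⟩, fun i => RingHom.ext fun x => rfl,
      fun i j k _ _ => RingHom.ext fun x => rfl, fun i j _ => RingHom.ext fun x => rfl,
      fun a => ⟨⟨Algebra.adjoin R (({a} : Finset R') : Set R'), ⟨{a}, rfl⟩⟩,
        ⟨a, Algebra.subset_adjoin (Finset.mem_singleton_self a)⟩, rfl⟩,
      fun i x hx => ⟨i, le_rfl, Subtype.ext hx⟩⟩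
  let Il : ∀ i, Ideal (G i) := fun i => (IsLocalRing.maximalIdeal R').comap (algebraMap (G i) R')
  have hIl : ∀ i j (h : i ≤ j), (Il i).map (g i j h) ≤ Il j := fun i j h =>
    Ideal.map_le_iff_le_comap.2 fun x hx => hx
  have hEss : FlatCA.EssFinitePresentation R S :=
    ⟨S, inferInstance, inferInstance, inferInstance, inferInstance, ⊥, inferInstance,
      IsLocalization.self fun x hx => by rw [Submonoid.mem_bot.1 hx]; exact isUnit_one⟩
  obtain ⟨B, hB⟩ := Groth.Agent.S6928.result hEss G g (fun i j h => RingHom.ext fun r => rfl) R' hcolim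
    Il hIl f hf ⊥ (fun q' _ hq' => by
      refine H q' (le_antisymm (IsLocalRing.le_maximalIdeal (Ideal.IsPrime.ne_top inferInstance)) ?_)
      intro a ha
      refine Ideal.map_le_iff_le_comap.1 (le_sup_left.trans hq') ?_
      let i₀ : ι := ⟨Algebra.adjoin R (({a} : Finset R') : Set R'), ⟨{a}, rfl⟩⟩
      let a' : G i₀ := ⟨a, Algebra.subset_adjoin (Finset.mem_singleton_self a)⟩
      exact Submodule.mem_iSup_of_mem i₀ (Ideal.mem_map_of_mem _ (show a' ∈ Il i₀ from ha)))
  haveI : IsNoetherianRing (G B) := isNoetherianRing_of_fg B.2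
  refine Groth.Agent.FlatMor.FlatIdealC.le_ker_of_stage (B := G B) (R' := R') (Il B) ?_ le_rfl I hchar
    fun Si Mi => ?_
  · refine Ideal.map_le_iff_le_comap.2 fun r hr => ?_
    have h2 : (IsLocalRing.maximalIdeal R).map (algebraMap R R') ≤ IsLocalRing.maximalIdeal R' :=
      ((IsLocalRing.local_hom_TFAE (algebraMap R R')).out 0 2).mp ‹_›
    exact Ideal.map_le_iff_le_comap.1 h2 hr
  · intros
    rename_i fi hfi q hq hle
    exact hB Si Mi fi hfi q (sup_le hle (by rw [Ideal.map_bot]; exact bot_le))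

end Groth.Agent.S6927
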