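import Groth.Statements.S6932
import Groth.Agent.FlatOpen.API
import Groth.Agent.FlatMor.FlatAtBC
import Mathlib.RingTheory.MvPolynomial.Localization
import Mathlib.RingTheory.FinitePresentation

set_option autoImplicit false
set_option linter.style.haveILetI false
set_option synthInstance.maxHeartbeats 100000
universe u
open CAlg

namespace Groth.Agent.S6932

/-- Let `R → S` be a ring map of finite type with `S` flat over `R`, such that `R → ∏_j R_{𝔭_j}` is
injective for some finite set of primes `𝔭_j` and each localization `S_𝔭` (at a prime `𝔭` of `R`) is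
a finitely presented `R_𝔭`-algebra. Then `S` is a finitely presented `R`-algebra. -/
theorem result {R S : Type u} [CommRing R] [CommRing S]
    [Algebra R S] [Algebra.FiniteType R S] [Module.Flat R S] (s : Finset (PrimeSpectrum R))
    (hs : Function.Injective fun r : R => fun p : s => algebraMap R (Localization.AtPrime p.1.asIdeal) r)
    (hloc : ∀ (p : Ideal R) [p.IsPrime],
      Algebra.FinitePresentation (Localization.AtPrime p) (Localization (Algebra.algebraMapSubmonoid S p.primeCompl))) :
    Algebra.FinitePresentation R S := by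
  classical
  obtain ⟨n, π, hπ⟩ := Algebra.FiniteType.iff_quotient_mvPolynomial''.mp (inferInstance : Algebra.FiniteType R S)
  let P := MvPolynomial (Fin n) R
  let I : Ideal P := RingHom.ker π.toRingHom
  -- local generators
  have hgen : ∀ (p : Ideal R) [p.IsPrime], ∃ J : Ideal P, J.FG ∧ J ≤ I ∧
      ∀ x ∈ I, ∃ t ∉ p, MvPolynomial.C t * x ∈ J := by
    intro p _
    let Rp := Localization.AtPrime p
    let T := Algebra.algebraMapSubmonoid S p.primeCompl
    let Sp := Localization T
    let Pp := MvPolynomial (Fin n) Rp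
    haveI := hloc p
    letI algPP : Algebra P Pp := MvPolynomial.algebraMvPolynomial
    haveI hlocP : IsLocalization (p.primeCompl.map (MvPolynomial.C (σ := Fin n) (R := R))) Pp := inferInstance
    let θ : Pp →ₐ[Rp] Sp := MvPolynomial.aeval fun i => algebraMap S Sp (π (MvPolynomial.X i))
    have hθ : ∀ a : P, θ (algebraMap P Pp a) = algebraMap S Sp (π a) := by
      intro a
      have : θ.toRingHom.comp (algebraMap P Pp) = (algebraMap S Sp).comp π.toRingHom := by
        refine MvPolynomial.ringHom_ext (fun r => ?_) (fun i => ?_)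
        · show θ (algebraMap P Pp (MvPolynomial.C r)) = algebraMap S Sp (π (MvPolynomial.C r))
          rw [MvPolynomial.algebraMap_def, MvPolynomial.map_C, MvPolynomial.aeval_C, ← MvPolynomial.algebraMap_eq,
            π.commutes, ← IsScalarTower.algebraMap_apply, ← IsScalarTower.algebraMap_apply]
        · show θ (algebraMap P Pp (MvPolynomial.X i)) = algebraMap S Sp (π (MvPolynomial.X i))
          rw [MvPolynomial.algebraMap_def, MvPolynomial.map_X, MvPolynomial.aeval_X]
      exact RingHom.congr_fun this a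
    have hθs : Function.Surjective θ := by
      intro z
      obtain ⟨x, ⟨_, t, ht, rfl⟩, rfl⟩ := IsLocalization.exists_mk'_eq T z
      obtain ⟨a, rfl⟩ := hπ x
      refine ⟨IsLocalization.mk' Pp a (⟨MvPolynomial.C t, Submonoid.mem_map_of_mem _ ht⟩ :
        p.primeCompl.map (MvPolynomial.C (σ := Fin n) (R := R))), ?_⟩
      rw [IsLocalization.eq_mk'_iff_mul_eq, ← hθ a,
        ← IsLocalization.mk'_spec Pp a (⟨MvPolynomial.C t, Submonoid.mem_map_of_mem _ ht⟩ :
        p.primeCompl.map (MvPolynomial.C (σ := Fin n) (R := R))), map_mul θ, hθ]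
      congr 2
      exact (π.commutes t).symm
    have hker : I.map (algebraMap P Pp) = RingHom.ker θ.toRingHom := by
      refine le_antisymm (Ideal.map_le_iff_le_comap.mpr fun a ha => ?_) fun z hz => ?_
      · show θ (algebraMap P Pp a) = 0
        rw [hθ, show π a = 0 from ha, map_zero]
      · obtain ⟨a, ⟨_, t, ht, rfl⟩, rfl⟩ := IsLocalization.exists_mk'_eq (p.primeCompl.map (MvPolynomial.C (σ := Fin n) (R := R))) z
        have h0 : algebraMap S Sp (π a) = 0 := by
          rw [← hθ a, ← IsLocalization.mk'_spec Pp a (⟨MvPolynomial.C t, t, ht, rfl⟩ :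
            p.primeCompl.map (MvPolynomial.C (σ := Fin n) (R := R))), map_mul θ,
            show θ (IsLocalization.mk' Pp a (⟨MvPolynomial.C t, t, ht, rfl⟩ :
            p.primeCompl.map (MvPolynomial.C (σ := Fin n) (R := R)))) = 0 from hz, zero_mul]
        obtain ⟨⟨_, u, hu, rfl⟩, hua⟩ := (IsLocalization.map_eq_zero_iff T Sp _).mp h0
        have hmem : MvPolynomial.C u * a ∈ I := by
          show π (MvPolynomial.C u * a) = 0
          rw [map_mul, show π (MvPolynomial.C u) = algebraMap R S u from π.commutes u]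
          exact hua
        rw [IsLocalization.mem_map_algebraMap_iff (p.primeCompl.map (MvPolynomial.C (σ := Fin n) (R := R))) Pp]
        refine ⟨⟨⟨_, hmem⟩, ⟨MvPolynomial.C (u * t), u * t, mul_mem hu ht, rfl⟩⟩, ?_⟩
        show _ * algebraMap P Pp (MvPolynomial.C (u * t)) = algebraMap P Pp (MvPolynomial.C u * a)
        rw [map_mul MvPolynomial.C, mul_comm (MvPolynomial.C u), map_mul, ← mul_assoc, mul_comm (MvPolynomial.C u), map_mul]
        rw [show IsLocalization.mk' Pp a (⟨MvPolynomial.C t, t, ht, rfl⟩ :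
            p.primeCompl.map (MvPolynomial.C (σ := Fin n) (R := R))) * algebraMap P Pp (MvPolynomial.C t) = algebraMap P Pp a from
          IsLocalization.mk'_spec Pp a (⟨MvPolynomial.C t, t, ht, rfl⟩ : p.primeCompl.map (MvPolynomial.C (σ := Fin n) (R := R)))]
    have hfg : (Submodule.span Pp (algebraMap P Pp '' (I : Set P))).FG := by
      show (I.map (algebraMap P Pp)).FG
      rw [hker]
      exact Algebra.FinitePresentation.ker_fG_of_surjective θ hθs
    obtain ⟨w, hwI, hw⟩ := (Submodule.fg_span_iff_fg_span_finset_subset _).mp hfg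
    choose g hgI hg using fun z : w => hwI z.2
    refine ⟨Ideal.span (Set.range g), ?_, Ideal.span_le.mpr ?_, fun x hx => ?_⟩
    · exact Submodule.fg_span (Set.finite_range g)
    · rintro _ ⟨z, rfl⟩; exact hgI z
    · have hle : I.map (algebraMap P Pp) ≤ (Ideal.span (Set.range g)).map (algebraMap P Pp) := by
        show Submodule.span Pp _ ≤ _
        rw [hw, Submodule.span_le]
        intro z hz
        rw [show z = algebraMap P Pp (g ⟨z, hz⟩) from (hg ⟨z, hz⟩).symm]
        exact Ideal.mem_map_of_mem _ (Ideal.subset_span ⟨⟨z, hz⟩, rfl⟩)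
      obtain ⟨⟨⟨b, hb⟩, ⟨_, t, ht, rfl⟩⟩, hbt⟩ :=
        (IsLocalization.mem_map_algebraMap_iff (p.primeCompl.map (MvPolynomial.C (σ := Fin n) (R := R))) Pp).mp
          (hle (Ideal.mem_map_of_mem _ hx))
      simp only at hbt
      rw [← map_mul] at hbt
      obtain ⟨⟨_, u, hu, rfl⟩, hc⟩ := (IsLocalization.eq_iff_exists (p.primeCompl.map (MvPolynomial.C (σ := Fin n) (R := R))) Pp).mp hbt
      refine ⟨u * t, p.primeCompl.mul_mem hu ht, ?_⟩
      rw [map_mul, mul_assoc, mul_comm (MvPolynomial.C t)]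
      exact hc ▸ Ideal.mul_mem_left _ _ hb
  choose! Jp hJfg hJle hJ using hgen
  let J₀ : Ideal P := s.sup fun p => Jp p.asIdeal
  have hJ₀fg : J₀.FG := Finset.sup_induction (p := fun J : Ideal P => J.FG) Submodule.fg_bot
    (fun a ha b hb => Submodule.FG.sup ha hb) fun p _ => hJfg p.asIdeal
  have hJ₀le : J₀ ≤ I := Finset.sup_le fun p _ => hJle p.asIdeal
  have hJ₀s : ∀ p ∈ s, Jp p.asIdeal ≤ J₀ := fun p hp => Finset.le_sup (f := fun q : PrimeSpectrum R => Jp q.asIdeal) hp
  -- on the flat locus, `I` agrees with a finitely generated model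
  have hflat : ∀ J : Ideal P, J₀ ≤ J → J ≤ I → ∀ (q : Ideal P) [q.IsPrime], FlatCA.FlatAt R q (P ⧸ J) →
      ∀ x ∈ I, ∃ u ∉ q, u * x ∈ J := by
    intro J hJ0 _ q _ hq x hx
    let L := LocalizedModule q.primeCompl (P ⧸ J)
    haveI : Module.Flat R L := hq
    let y : L := LocalizedModule.mkLinearMap q.primeCompl (P ⧸ J) (Submodule.mkQ J x)
    let ψ : R →ₗ[R] ((p : s) → Localization.AtPrime p.1.asIdeal) :=
      LinearMap.pi fun p => Algebra.linearMap R _
    have hψ : Function.Injective ψ := hs
    have hy : y = 0 := by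
      have hcomp : ∀ p : s, y ⊗ₜ[R] (1 : Localization.AtPrime p.1.asIdeal) = 0 := by
        intro p
        obtain ⟨t, ht, htx⟩ := hJ p.1.asIdeal x hx
        have hty : t • y = 0 := by
          rw [← LinearMap.map_smul_of_tower (LocalizedModule.mkLinearMap q.primeCompl (P ⧸ J)),
            ← LinearMap.map_smul_of_tower (Submodule.mkQ J), Algebra.smul_def, MvPolynomial.algebraMap_eq,
            Submodule.mkQ_apply, (Submodule.Quotient.mk_eq_zero J).mpr (hJ0 (hJ₀s p.1 p.2 htx)), map_zero]
        let inv : Localization.AtPrime p.1.asIdeal := IsLocalization.mk' _ 1 (⟨t, ht⟩ : p.1.asIdeal.primeCompl)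
        have h1 : t • inv = 1 := by
          rw [Algebra.smul_def, IsLocalization.mk'_spec'_mk, map_one]
        rw [← h1, ← TensorProduct.smul_tmul, hty, TensorProduct.zero_tmul]
      have hinj := Module.Flat.lTensor_preserves_injective_linearMap (M := L) ψ hψ
      have h2 : (LinearMap.lTensor L ψ) (y ⊗ₜ 1) = 0 := by
        apply (TensorProduct.piRight R R L (fun p : s => Localization.AtPrime p.1.asIdeal)).injective
        rw [map_zero]
        funext p
        rw [LinearMap.lTensor_tmul, TensorProduct.piRight_apply, TensorProduct.piRightHom_tmul]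
        simpa [ψ] using hcomp p
      have h3 := hinj (h2.trans (map_zero _).symm)
      have h4 := congrArg (TensorProduct.rid R L) h3
      simpa using h4
    obtain ⟨⟨u, hu⟩, hue⟩ := (IsLocalizedModule.eq_zero_iff q.primeCompl
      (LocalizedModule.mkLinearMap q.primeCompl (P ⧸ J))).mp hy
    exact ⟨u, hu, (Submodule.Quotient.mk_eq_zero J).mp hue⟩
  -- flatness at points of `V(I)`
  have hpt : ∀ (q : Ideal P) [q.IsPrime], I ≤ q →
      FlatCA.FlatAt R q (P ⧸ (J₀ ⊔ Jp (q.comap (algebraMap R P)))) := by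
    intro q _ hIq
    set J := J₀ ⊔ Jp (q.comap (algebraMap R P)) with hJdef
    have hJI : J ≤ I := sup_le hJ₀le (hJle _)
    haveI : Module.Flat R (P ⧸ I) :=
      Module.Flat.of_linearEquiv (Ideal.quotientKerAlgEquivOfSurjective hπ).toLinearEquiv
    have := FlatMor.FlatAtBC.flat_localizedModule R q.primeCompl (P ⧸ I)
    let f : (P ⧸ J) →ₗ[P] (P ⧸ I) := Submodule.mapQ J I LinearMap.id hJI
    let F := IsLocalizedModule.map q.primeCompl (LocalizedModule.mkLinearMap q.primeCompl (P ⧸ J))
      (LocalizedModule.mkLinearMap q.primeCompl (P ⧸ I)) f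
    have hF : Function.Bijective F := by
      refine ⟨(injective_iff_map_eq_zero F).mpr fun z hz => ?_, IsLocalizedModule.map_surjective _ _ _ f ?_⟩
      · obtain ⟨⟨m, t⟩, rfl⟩ := IsLocalizedModule.mk'_surjective q.primeCompl (LocalizedModule.mkLinearMap q.primeCompl (P ⧸ J)) z
        simp only [Function.uncurry_apply_pair] at hz ⊢
        rw [IsLocalizedModule.map_mk', IsLocalizedModule.mk'_eq_zero'] at hz
        obtain ⟨⟨u, hu⟩, hum⟩ := hz
        obtain ⟨a, rfl⟩ := Submodule.Quotient.mk_surjective _ m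
        have hua : u * a ∈ I := (Submodule.Quotient.mk_eq_zero I).mp hum
        obtain ⟨r, hr, hra⟩ := hJ (q.comap (algebraMap R P)) _ hua
        rw [IsLocalizedModule.mk'_eq_zero']
        refine ⟨⟨MvPolynomial.C r * u, q.primeCompl.mul_mem (show MvPolynomial.C r ∈ q.primeCompl from hr) hu⟩, ?_⟩
        refine (Submodule.Quotient.mk_eq_zero J).mpr ?_
        show MvPolynomial.C r * u * a ∈ J
        rw [mul_assoc]
        exact (le_sup_right : _ ≤ J) hra
      · intro z
        obtain ⟨a, rfl⟩ := Submodule.Quotient.mk_surjective _ z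
        exact ⟨Submodule.Quotient.mk a, rfl⟩
    exact Module.Flat.of_linearEquiv ((LinearEquiv.ofBijective F hF).restrictScalars R)
  let J' : PrimeSpectrum P → Ideal P := fun q => J₀ ⊔ Jp (q.asIdeal.comap (algebraMap R P))
  have hJ'fg : ∀ q, (J' q).FG := fun q => Submodule.FG.sup hJ₀fg (hJfg _)
  let U : PrimeSpectrum P → Set (PrimeSpectrum P) := fun q => {q' | FlatCA.FlatAt R q'.asIdeal (P ⧸ J' q)}
  have hUo : ∀ q, IsOpen (U q) := fun q => by
    haveI : Module.FinitePresentation P (P ⧸ J' q) :=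
      Module.finitePresentation_of_surjective (Submodule.mkQ (J' q)) (Submodule.mkQ_surjective _)
        (by rw [Submodule.ker_mkQ]; exact hJ'fg q)
    exact FlatOpen.isOpen_flatLocus R P (P ⧸ J' q)
  obtain ⟨c, hc⟩ := (PrimeSpectrum.isClosed_zeroLocus (I : Set P)).isCompact.elim_finite_subcover U hUo
    fun q hq => Set.mem_iUnion.mpr ⟨q, hpt q.asIdeal hq⟩
  let J₁ := J₀ ⊔ c.sup J'
  have hJ₁fg : J₁.FG := Submodule.FG.sup hJ₀fg (Finset.sup_induction (p := fun J : Ideal P => J.FG) Submodule.fg_bot
    (fun a ha b hb => Submodule.FG.sup ha hb) fun q _ => hJ'fg q)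
  have hJ₁le : J₁ ≤ I := sup_le hJ₀le (Finset.sup_le fun q _ => sup_le hJ₀le (hJle _))
  obtain ⟨A, hA⟩ := (PrimeSpectrum.isClosed_iff_zeroLocus_ideal (⋂ q ∈ c, (U q)ᶜ)).mp
    (isClosed_biInter fun q _ => (hUo q).isClosed_compl)
  have htop : A ⊔ I = ⊤ := by
    by_contra hne
    obtain ⟨m, hm, hle⟩ := Ideal.exists_le_maximal _ hne
    obtain ⟨q, hqc, hqU⟩ := Set.mem_iUnion₂.mp (hc (show (⟨m, hm.isPrime⟩ : PrimeSpectrum P) ∈
      PrimeSpectrum.zeroLocus (I : Set P) from le_sup_right.trans hle))
    have : (⟨m, hm.isPrime⟩ : PrimeSpectrum P) ∈ ⋂ q ∈ c, (U q)ᶜ := hA ▸ (le_sup_left.trans hle)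
    exact Set.mem_iInter₂.mp this q hqc hqU
  obtain ⟨a, ha, h, hh, hah⟩ := Submodule.mem_sup.mp (htop.ge (Submodule.mem_top (x := (1 : P))))
  have hIeq : I = J₁ ⊔ Ideal.span {h} := by
    refine le_antisymm (fun x hx => ?_) (sup_le hJ₁le (by rwa [Ideal.span_le, Set.singleton_subset_iff]))
    by_contra hxn
    let col := (J₁ ⊔ Ideal.span {h}).colon ({x} : Set P)
    obtain ⟨m, hm, hle⟩ := Ideal.exists_le_maximal col (fun e => hxn (by
      have := (e ▸ Submodule.mem_top : (1 : P) ∈ col)
      rw [Submodule.mem_colon] at this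
      simpa using this x rfl))
    haveI := hm.isPrime
    have hle' : J₁ ⊔ Ideal.span {h} ≤ m := fun z hz => hle (Submodule.mem_colon.mpr fun w hw => by
      rw [smul_eq_mul, mul_comm]; exact Ideal.mul_mem_left _ _ hz)
    have ham : a ∉ m := fun ham => hm.ne_top ((Ideal.eq_top_iff_one _).mpr
      (hah ▸ m.add_mem ham ((le_sup_right.trans hle') (Ideal.mem_span_singleton_self h))))
    have hnot : (⟨m, inferInstance⟩ : PrimeSpectrum P) ∉ ⋂ q ∈ c, (U q)ᶜ := by
      rw [hA]; exact fun h' => ham (h' ha)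
    simp only [Set.mem_iInter, Set.mem_compl_iff, not_forall, not_not] at hnot
    obtain ⟨q, hqc, hqU⟩ := hnot
    obtain ⟨u, hu, hux⟩ := hflat (J' q) le_sup_left (sup_le hJ₀le (hJle _)) m hqU x hx
    refine hu (hle (Submodule.mem_colon.mpr fun w hw => ?_))
    rw [Set.mem_singleton_iff.mp hw]
    exact (le_sup_left : J₁ ≤ _) ((le_sup_right : c.sup J' ≤ J₁) (Finset.le_sup (f := J') hqc hux))
  refine ⟨n, π, hπ, ?_⟩
  show I.FG
  rw [hIeq]
  exact Submodule.FG.sup hJ₁fg (Submodule.fg_span_singleton h)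

end Groth.Agent.S6932
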