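import Groth.Statements.S6933


set_option autoImplicit false
universe u
open CategoryTheory
open InjHull

namespace Groth.Agent.S6933

/-- An abelian group `J` that is injective as an object of the category of abelian groups is divisible:
`n J = J` for every nonzero integer `n`. (The published statement is an equivalence; this row states
the implication from injective to divisible.) -/
theorem result (J : Type u) [AddCommGroup J] (hJ : Injective (AddCommGrpCat.of J))
    (n : ℤ) (hn : n ≠ 0) (x : J) : ∃ y : J, n • y = x := by
  haveI : Injective (AddCommGrpCat.of J) := hJ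
  let i : AddCommGrpCat.of (ULift.{u} ℤ) ⟶ AddCommGrpCat.of (ULift.{u} ℤ) :=
    AddCommGrpCat.ofHom (AddMonoidHom.mk' (fun a => ULift.up (n * a.down)) (fun a b => ULift.ext _ _ (mul_add n a.down b.down)))
  haveI : Mono i := ConcreteCategory.mono_of_injective i fun a b h => by
    apply ULift.ext
    have h' := congrArg ULift.down h
    exact mul_left_cancel₀ hn (show n * a.down = n * b.down from h')
  let g : AddCommGrpCat.of (ULift.{u} ℤ) ⟶ AddCommGrpCat.of J :=
    AddCommGrpCat.ofHom (AddMonoidHom.mk' (fun a => a.down • x) (fun a b => add_smul _ _ x))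
  refine ⟨Injective.factorThru g i (ULift.up 1), ?_⟩
  have h := ConcreteCategory.congr_hom (Injective.comp_factorThru g i) (ULift.up (1 : ℤ))
  rw [← map_zsmul]
  have e1 : n • (ULift.up (1 : ℤ) : ULift.{u} ℤ) = ULift.up (n * 1) :=
    ULift.ext _ _ (smul_eq_mul ..)
  rw [e1]
  exact h.trans (one_zsmul x)

end Groth.Agent.S6933
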