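import Groth.Statements.S6934
import Mathlib.Tactic
-- import your own Groth.Agent.* helpers here

set_option autoImplicit false
universe u
open EtAlg

namespace Groth.Agent.S6934

/-- Let `s : B → R`, `t : R' → R` be ring maps and `B' = B ×_R R'` the fibre product ring, i.e. a ring
`B'` with maps `p : B' → B`, `q : B' → R'`, `s ∘ p = t ∘ q`, such that `(p, q)` is injective with
image the pairs `(b, r')` with `s(b) = t(r')`. Let `h ∈ B'` with images `g = p(h)`, `f = q(h)`. Then
the square of localizations `B'_h → B_g`, `B'_h → R'_f`, `B_g → R_{s(g)}`, `R'_f → R_{t(f)} =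
R_{s(g)}` (the induced maps) is cartesian as well: `B'_h = B_g ×_{R_{s(g)}} R'_f`. -/
theorem result {B R R' B' : Type u} [CommRing B] [CommRing R] [CommRing R'] [CommRing B']
    (s : B →+* R) (t : R' →+* R) (p : B' →+* B) (q : B' →+* R') (hc : s.comp p = t.comp q)
    (hinj : ∀ x y : B', p x = p y → q x = q y → x = y) (hsurj : ∀ (b : B) (r' : R'), s b = t r' → ∃ x : B', p x = b ∧ q x = r')
    (h : B') (Bh Bg Rf Rsg : Type u) [CommRing Bh] [CommRing Bg] [CommRing Rf] [CommRing Rsg]
    [Algebra B' Bh] [IsLocalization.Away h Bh] [Algebra B Bg] [IsLocalization.Away (p h) Bg]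
    [Algebra R' Rf] [IsLocalization.Away (q h) Rf] [Algebra R Rsg] [IsLocalization.Away (s (p h)) Rsg]
    (pL : Bh →+* Bg) (qL : Bh →+* Rf) (sL : Bg →+* Rsg) (tL : Rf →+* Rsg)
    (hp : pL.comp (algebraMap B' Bh) = (algebraMap B Bg).comp p) (hq : qL.comp (algebraMap B' Bh) = (algebraMap R' Rf).comp q)
    (hs : sL.comp (algebraMap B Bg) = (algebraMap R Rsg).comp s) (ht : tL.comp (algebraMap R' Rf) = (algebraMap R Rsg).comp t) :
    (∀ x y : Bh, pL x = pL y → qL x = qL y → x = y) ∧
    (∀ (b : Bg) (r : Rf), sL b = tL r → ∃ x : Bh, pL x = b ∧ qL x = r) := by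
  have hpq : ∀ x, s (p x) = t (q x) := RingHom.congr_fun hc
  have hp' : ∀ x, pL (algebraMap B' Bh x) = algebraMap B Bg (p x) := RingHom.congr_fun hp
  have hq' : ∀ x, qL (algebraMap B' Bh x) = algebraMap R' Rf (q x) := RingHom.congr_fun hq
  have hs' : ∀ x, sL (algebraMap B Bg x) = algebraMap R Rsg (s x) := RingHom.congr_fun hs
  have ht' : ∀ x, tL (algebraMap R' Rf x) = algebraMap R Rsg (t x) := RingHom.congr_fun ht
  constructor
  · intro x y hxy hxy'
    obtain ⟨n, a, b, hx, hy⟩ : ∃ (n : ℕ) (a b : B'), x * algebraMap B' Bh (h ^ n) = algebraMap B' Bh a ∧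
        y * algebraMap B' Bh (h ^ n) = algebraMap B' Bh b := by
      obtain ⟨m, a, hx⟩ := IsLocalization.Away.surj h x
      obtain ⟨k, b, hy⟩ := IsLocalization.Away.surj h y
      refine ⟨m + k, a * h ^ k, b * h ^ m, ?_, ?_⟩
      · rw [map_mul, ← hx, map_pow, map_pow, pow_add]; ring
      · rw [map_mul, ← hy, map_pow, map_pow, pow_add]; ring
    have e1 : algebraMap B Bg (p a) = algebraMap B Bg (p b) := by rw [← hp', ← hp', ← hx, ← hy, map_mul, map_mul, hxy]
    have e2 : algebraMap R' Rf (q a) = algebraMap R' Rf (q b) := by rw [← hq', ← hq', ← hx, ← hy, map_mul, map_mul, hxy']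
    obtain ⟨i, hi⟩ := IsLocalization.Away.exists_of_eq (p h) e1
    obtain ⟨j, hj⟩ := IsLocalization.Away.exists_of_eq (q h) e2
    have hab : h ^ (i + j) * a = h ^ (i + j) * b := by
      refine hinj _ _ ?_ ?_
      · simp only [map_mul, map_pow, pow_add]; linear_combination (p h) ^ j * hi
      · simp only [map_mul, map_pow, pow_add]; linear_combination (q h) ^ i * hj
    have e3 : algebraMap B' Bh a = algebraMap B' Bh b := by
      have := congrArg (algebraMap B' Bh) hab
      rw [map_mul, map_mul] at this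
      exact ((IsLocalization.Away.algebraMap_pow_isUnit h (i + j)).mul_right_inj).mp (by simpa using this)
    rw [← hx, ← hy] at e3
    exact ((IsLocalization.Away.algebraMap_pow_isUnit h n).mul_left_inj).mp (by simpa using e3)
  · intro b r hbr
    obtain ⟨m, b0, hb⟩ := IsLocalization.Away.surj (p h) b
    obtain ⟨k, r0, hr⟩ := IsLocalization.Away.surj (q h) r
    have hsh : s (p h) = t (q h) := hpq h
    have e1 : algebraMap R Rsg (s (b0 * p h ^ k)) = algebraMap R Rsg (t (r0 * q h ^ m)) := by
      have hb' := congrArg sL hb; have hr' := congrArg tL hr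
      simp only [map_mul, map_pow, hs', ht', ← hsh] at hb' hr'
      simp only [map_mul, map_pow, ← hsh, ← hb', ← hr', hbr]
      ring
    obtain ⟨i, hi⟩ := IsLocalization.Away.exists_of_eq (s (p h)) e1
    obtain ⟨z, hz1, hz2⟩ := hsurj (b0 * p h ^ k * p h ^ i) (r0 * q h ^ m * q h ^ i) (by
      simp only [map_mul, map_pow, ← hsh] at hi ⊢
      linear_combination hi)
    obtain ⟨v, hv⟩ := (IsLocalization.Away.algebraMap_pow_isUnit h (m + k + i) : IsUnit ((algebraMap B' Bh h) ^ (m + k + i))).exists_right_inv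
    refine ⟨algebraMap B' Bh z * v, ?_, ?_⟩
    · have hv' := congrArg pL hv
      simp only [map_mul, map_pow, map_one, hp'] at hv'
      rw [map_mul, hp', hz1, map_mul, map_mul, map_pow, map_pow]
      linear_combination b * hv' - (algebraMap B Bg (p h)) ^ (k + i) * pL v * hb
    · have hv' := congrArg qL hv
      simp only [map_mul, map_pow, map_one, hq'] at hv'
      rw [map_mul, hq', hz2, map_mul, map_mul, map_pow, map_pow]
      linear_combination r * hv' - (algebraMap R' Rf (q h)) ^ (m + i) * qL v * hr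

end Groth.Agent.S6934
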