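import Groth.Agent.DRing.PCTrunc
-- import your own Groth.Agent.* helpers here

set_option autoImplicit false
universe u
open CategoryTheory CategoryTheory.Limits
attribute [local instance] HasDerivedCategory.standard
open DRing

namespace Groth.Agent.S6936

/-- Let R be a commutative ring, m an integer and K an object of D(R). If H^i(K) = 0 for every i > m +
1, H^(m+1)(K) is a finitely presented R-module and H^m(K) is a finitely generated R-module, then K
is m-pseudo-coherent. -/
theorem result (R : Type u) [CommRing R]
    (m : ℤ) (K : Dual.D R) (hvan : ∀ i : ℤ, m + 1 < i → Subsingleton (Dual.HD R K i))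
    (hfp : Module.FinitePresentation R (Dual.HD R K (m + 1))) (hfin : Module.Finite R (Dual.HD R K m)) :
    DRing.IsPseudoCoherent R m K := by
  refine Agent.DRing.PC.pc_of_cohomology ⟨m + 1, hvan⟩ fun i hi => ?_
  rcases eq_or_lt_of_le hi with rfl | h1
  · simpa using Agent.DRing.PC.pcModule_zero_iff.2 hfin
  rcases eq_or_lt_of_le (show m + 1 ≤ i by omega) with rfl | h2
  · simpa using Agent.DRing.PC.pcModule_negOne_iff.2 hfp
  · have := hvan i h2
    exact Agent.DRing.PC.pc_of_vanishGE fun j _ => by
      by_cases hj : j = 0
      · subst hj
        exact (Agent.DRing.PC.inDEquiv R (Dual.HD R K i)).toEquiv.subsingleton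
      · exact Agent.DRing.PC.subsingleton_HD_inD R _ j hj

end Groth.Agent.S6936
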