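import Groth.Prelude.Def_DRing2
import Groth.Prelude.Def_DDual2
import Mathlib.Algebra.Homology.DerivedCategory.HomologySequence
import Groth.Agent.DRing.Descent
-- import your own Groth.Agent.* helpers here

set_option autoImplicit false
universe u
open CategoryTheory CategoryTheory.Limits
attribute [local instance] HasDerivedCategory.standard
open DRing

namespace Groth.Agent.S6941

/-- Let R → R' be a faithfully flat homomorphism of commutative rings, K a cochain complex of R-modules
and m an integer. If the termwise base change K ⊗_R R' is m-pseudo-coherent in D(R'), then K is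
m-pseudo-coherent in D(R); if K ⊗_R R' is pseudo-coherent, then K is pseudo-coherent. -/
theorem result {R R' : Type u} [CommRing R] [CommRing R']
    [Algebra R R'] [Module.FaithfullyFlat R R'] (K : DRing.Cx R) (m : ℤ) :
    (DRing.IsPseudoCoherent R' m (DRing.toD (((ModuleCat.extendScalars (algebraMap R R')).mapHomologicalComplex
        (ComplexShape.up ℤ)).obj K)) → DRing.IsPseudoCoherent R m (DRing.toD K)) ∧
      (DRing.IsPseudoCoherent' R' (DRing.toD (((ModuleCat.extendScalars (algebraMap R R')).mapHomologicalComplex
        (ComplexShape.up ℤ)).obj K)) → DRing.IsPseudoCoherent' R (DRing.toD K)) := by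
  have key : ∀ k : ℤ, DRing.IsPseudoCoherent R' k (DRing.toD (((ModuleCat.extendScalars (algebraMap R R')).mapHomologicalComplex
      (ComplexShape.up ℤ)).obj K)) → DRing.IsPseudoCoherent R k (DRing.toD K) := fun k h =>
    Agent.DRing.PCDescent.pc_of_detects (ψ := fun _ : Unit => algebraMap R R') (fun _ => Agent.DRing.Descent.flat_algebraMap) Agent.DRing.Descent.detects_faithfullyFlat K k fun _ => h
  exact ⟨key m, fun h => (Agent.DRing.PC.pc'_iff _).2 fun k => key k ((Agent.DRing.PC.pc'_iff _).1 h k)⟩

end Groth.Agent.S6941
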