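import Groth.Prelude.Def_DRing2
import Mathlib.Algebra.Homology.DerivedCategory.HomologySequence
import Mathlib.RingTheory.TensorProduct.Basic
import Groth.Agent.DRing.FlatBCModule
-- import your own Groth.Agent.* helpers here

set_option autoImplicit false
universe u
open CategoryTheory CategoryTheory.Limits
attribute [local instance] HasDerivedCategory.standard
open DRing

namespace Groth.Agent.S6958

/-- Let A → B be a flat homomorphism of commutative rings and M a perfect A-module. Then B ⊗_A M is a
perfect B-module. -/
theorem result {A B : Type u} [CommRing A] [CommRing B] [Algebra A B]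
    [Module.Flat A B] (M : Type u) [AddCommGroup M] [Module A M] (hM : DRing.IsPerfectModule A M) :
    DRing.IsPerfectModule B (TensorProduct A B M) := by
  have h := Agent.DRing.Perfect.perfectModule_baseChange (algebraMap A B)
    (RingHom.flat_algebraMap_iff.2 ‹_›) hM
  have he : (algebraMap A B).toAlgebra = ‹Algebra A B› := Algebra.algebra_ext _ _ fun _ => rfl
  rw [he] at h
  exact h

end Groth.Agent.S6958
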