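import Groth.Statements.S6966
import Mathlib.Algebra.Homology.DerivedCategory.Ext.ExactSequences
import Mathlib.Algebra.Homology.DerivedCategory.Ext.EnoughProjectives
import Mathlib.Algebra.Homology.DerivedCategory.Ext.Linear
import Mathlib

set_option autoImplicit false
universe u
open CategoryTheory CategoryTheory.Limits
attribute [local instance] HasDerivedCategory.standard
open CAlg
open CategoryTheory CategoryTheory.Abelian

namespace Groth.Agent.S6966

/-- Let R be a commutative ring, I an ideal of R and M an R-module. Then the following two conditions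
coincide: for each a ∈ I, the endomorphism of M given by multiplication by a can be written as a
composite M → P → M with P some projective R-module; and for every R-module N and every a ∈ I, a
annihilates Ext^1_R(M, N) = Hom(M[0], N[1]) in D(R). -/
theorem result (R : Type u) [CommRing R] (I : Ideal R) (M : Type u)
    [AddCommGroup M] [Module R M] :
    (∀ a ∈ I, ∃ (P : Type u) (_ : AddCommGroup P) (_ : Module R P) (_ : Module.Projective R P)
        (f : M →ₗ[R] P) (g : P →ₗ[R] M), g ∘ₗ f = a • LinearMap.id) ↔
      ∀ (N : Type u) [AddCommGroup N] [Module R N], ∀ a ∈ I,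
        ∀ x : DRing.ExtD R (Dual.inD R M) (Dual.inD R N) 1, a • x = 0 := by
  classical
  constructor
  · intro h N _ _ a ha x
    let e := Ext.homLinearEquiv (R := R) (X := ModuleCat.of R M) (Y := ModuleCat.of R N) (n := 1)
    obtain ⟨α, rfl⟩ : ∃ α, e α = x := e.surjective x
    refine ((e.map_smul a α).symm.trans ?_)
    obtain ⟨P, _, _, _, f, g, hfg⟩ := h a ha
    haveI : Projective (ModuleCat.of R P) := ModuleCat.projective_of_categoryTheory_projective _
    suffices a • α = 0 by rw [this, map_zero]
    calc a • α = (Ext.mk₀ (a • 𝟙 (ModuleCat.of R M))).comp α (zero_add 1) := by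
          rw [Ext.mk₀_smul, Ext.smul_comp, Ext.mk₀_id_comp]
      _ = (Ext.mk₀ (ModuleCat.ofHom f ≫ ModuleCat.ofHom g)).comp α (zero_add 1) := by
          congr 2
          exact ModuleCat.hom_ext hfg.symm
      _ = 0 := by
          rw [← Ext.mk₀_comp_mk₀_assoc, Ext.eq_zero_of_projective ((Ext.mk₀ (ModuleCat.ofHom g)).comp α (zero_add 1)), Ext.comp_zero]
  · intro h a ha
    let p : (M →₀ R) →ₗ[R] M := Finsupp.linearCombination R id
    have hp : Function.Surjective p := fun m => ⟨Finsupp.single m 1, by simp [p]⟩
    let S : ShortComplex (ModuleCat.{u} R) :=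
      ShortComplex.mk (ModuleCat.ofHom (X := LinearMap.ker p) (Y := M →₀ R) (LinearMap.ker p).subtype) (ModuleCat.ofHom p)
        (ModuleCat.hom_ext (LinearMap.ext fun (x : LinearMap.ker p) => x.2))
    have hS : S.ShortExact :=
      { exact := (ShortComplex.moduleCat_exact_iff _).mpr fun x hx => ⟨⟨x, hx⟩, rfl⟩
        mono_f := (ModuleCat.mono_iff_injective _).mpr Subtype.val_injective
        epi_g := (ModuleCat.epi_iff_surjective _).mpr hp }
    let e := Ext.homLinearEquiv (R := R) (X := ModuleCat.of R M) (Y := ModuleCat.of R (LinearMap.ker p)) (n := 1)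
    have h0 : a • hS.extClass = 0 := e.injective (by
      rw [map_zero]
      exact (e.map_smul a hS.extClass).trans (h (LinearMap.ker p) a ha _))
    obtain ⟨x₂, hx₂⟩ := Ext.covariant_sequence_exact₃ (ModuleCat.of R M) hS
      (Ext.mk₀ (a • 𝟙 (ModuleCat.of R M))) (zero_add 1) (by
        rw [Ext.mk₀_smul, Ext.smul_comp]
        erw [Ext.mk₀_id_comp]
        exact h0)
    obtain ⟨f, rfl⟩ := Ext.addEquiv₀.symm.surjective x₂
    rw [Ext.addEquiv₀_symm_apply, Ext.mk₀_comp_mk₀] at hx₂
    have hfg := Ext.addEquiv₀.symm.injective hx₂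
    exact ⟨M →₀ R, inferInstance, inferInstance, inferInstance, f.hom, p, congrArg ModuleCat.Hom.hom hfg⟩

end Groth.Agent.S6966
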