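import Groth.Statements.S6969
import Mathlib.RingTheory.Finiteness.Basic
import Mathlib.LinearAlgebra.FreeModule.Basic
import Mathlib.LinearAlgebra.StdBasis

set_option autoImplicit false
universe u
open scoped TensorProduct
open CAlg

namespace Groth.Agent.S6969

/-- Let R be a commutative ring and φ : M → N an R-linear map which factors through a projective
R-module. If M is finitely generated, then φ factors through a finitely generated projective
R-module. -/
theorem result (R : Type u) [CommRing R] {M N : Type u} [AddCommGroup M]
    [Module R M] [Module.Finite R M] [AddCommGroup N] [Module R N] (φ : M →ₗ[R] N)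
    (h : ∃ (P : Type u) (_ : AddCommGroup P) (_ : Module R P) (_ : Module.Projective R P) (f : M →ₗ[R] P)
      (g : P →ₗ[R] N), g ∘ₗ f = φ) :
    ∃ (P : Type u) (_ : AddCommGroup P) (_ : Module R P) (_ : Module.Projective R P) (_ : Module.Finite R P)
      (f : M →ₗ[R] P) (g : P →ₗ[R] N), g ∘ₗ f = φ := by
  classical
  obtain ⟨P, _, _, _, f, g, rfl⟩ := h
  obtain ⟨σ, hσ⟩ := Module.projective_def.mp ‹Module.Projective R P›
  obtain ⟨s, hs⟩ := (Module.Finite.fg_top : (⊤ : Submodule R M).FG)
  let T : Finset P := s.biUnion fun m => (σ (f m)).support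
  let σT : M →ₗ[R] (T → R) := LinearMap.pi fun t => (Finsupp.lapply (t : P)) ∘ₗ σ ∘ₗ f
  refine ⟨T → R, inferInstance, inferInstance, inferInstance, inferInstance, σT,
    g ∘ₗ Fintype.linearCombination R (fun t : T => (t : P)), LinearMap.ext_on hs fun m hm => ?_⟩
  simp only [LinearMap.comp_apply]
  congr 1
  conv_rhs => rw [← hσ (f m)]
  rw [Fintype.linearCombination_apply, Finsupp.linearCombination_apply,
    Finsupp.sum_of_support_subset _ (Finset.subset_biUnion_of_mem (fun m => (σ (f m)).support) hm) _ (by simp)]
  exact Finset.sum_coe_sort T fun p => σ (f m) p • p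

end Groth.Agent.S6969
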