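import Groth.Agent.DRing.PCTrunc
-- import your own Groth.Agent.* helpers here

set_option autoImplicit false
universe u
open CategoryTheory CategoryTheory.Limits
attribute [local instance] HasDerivedCategory.standard
open DRing

namespace Groth.Agent.S6988

/-- Let R be a commutative ring, K a pseudo-coherent object of D(R) and i an integer. Then some finitely
presented R-module M admits a morphism K → M[-i] in D(R) that is injective on H^i (here H^i(M[-i]) =
M). -/
theorem result (R : Type u) [CommRing R] (K : Dual.D R)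
    (hK : DRing.IsPseudoCoherent' R K) (i : ℤ) :
    ∃ (M : Type u) (_ : AddCommGroup M) (_ : Module R M) (_ : Module.FinitePresentation R M)
      (f : K ⟶ (shiftFunctor (Dual.D R) (-i)).obj (Dual.inD R M)),
      Mono ((DerivedCategory.homologyFunctor (ModuleCat.{u} R) i).map f) := by
  obtain ⟨E, b, hb, hf, ⟨e⟩⟩ := hK
  obtain ⟨_, _⟩ := hf i
  obtain ⟨_, _⟩ := hf (i - 1)
  have : Module.FinitePresentation R (E.X i) := Module.finitePresentation_of_projective _ _
  let N := LinearMap.range (E.d (i - 1) i).hom
  have hN : Module.FinitePresentation R (E.X i ⧸ N) :=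
    Module.finitePresentation_of_surjective N.mkQ N.mkQ_surjective
      (by rw [Submodule.ker_mkQ]; exact Module.Finite.iff_fg.1 inferInstance)
  obtain ⟨φ, hφ, -⟩ := Agent.DRing.PC.exists_toSgl (P := E) (i := i)
    (M := ModuleCat.of R (E.X i ⧸ N)) N.mkQ
    (fun w => (Submodule.Quotient.mk_eq_zero N).2 ⟨w, rfl⟩)
    (fun z _ h => (Submodule.Quotient.mk_eq_zero N).1 h)
  refine ⟨E.X i ⧸ N, inferInstance, inferInstance, hN,
    e.inv ≫ φ ≫ (Agent.DRing.PC.inDShiftIso (ModuleCat.of R (E.X i ⧸ N)) i).inv, ?_⟩
  rw [Functor.map_comp, Functor.map_comp]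
  infer_instance

end Groth.Agent.S6988
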