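import Groth.Prelude.Def_DRing2
import Mathlib.Algebra.Homology.DerivedCategory.HomologySequence
import Mathlib.RingTheory.TensorProduct.Basic
import Groth.Agent.DRing.FlatBCModule
-- import your own Groth.Agent.* helpers here

set_option autoImplicit false
universe u
open CategoryTheory CategoryTheory.Limits
attribute [local instance] HasDerivedCategory.standard
open DRing

namespace Groth.Agent.S7000

/-- Let A → B be a flat homomorphism of commutative rings, m an integer and M an A-module. If M is
m-pseudo-coherent then the B-module B ⊗_A M is m-pseudo-coherent; if M is pseudo-coherent then B ⊗_A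
M is pseudo-coherent. -/
theorem result {A B : Type u} [CommRing A] [CommRing B] [Algebra A B]
    [Module.Flat A B] (m : ℤ) (M : Type u) [AddCommGroup M] [Module A M] :
    (DRing.IsPseudoCoherentModule A m M → DRing.IsPseudoCoherentModule B m (TensorProduct A B M)) ∧
      (DRing.IsPseudoCoherentModule' A M → DRing.IsPseudoCoherentModule' B (TensorProduct A B M)) := by
  have he : (algebraMap A B).toAlgebra = ‹Algebra A B› := Algebra.algebra_ext _ _ fun _ => rfl
  have hflat := RingHom.flat_algebraMap_iff.2 ‹Module.Flat A B›
  constructor
  · intro h
    have h' := Agent.DRing.Perfect.pcModule_baseChange (algebraMap A B) hflat h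
    rw [he] at h'
    exact h'
  · intro h
    have h' := Agent.DRing.Perfect.pcModule'_baseChange (algebraMap A B) hflat h
    rw [he] at h'
    exact h'

end Groth.Agent.S7000
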