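import Groth.Statements.S7006
import Groth.Agent.RelFP.Basic
import Mathlib.RingTheory.FinitePresentation
import Mathlib.RingTheory.Localization.Away.AdjoinRoot


set_option autoImplicit false
set_option linter.style.haveILetI false
universe u
open CAlg

namespace Groth.Agent.S7006

open Groth.Agent.RelFP.Basic

/-- Let R be a commutative ring, f an element of R, A an R_f-algebra with a surjective R_f-algebra
homomorphism α : R_f[x_1, ..., x_n] → A, g an element of A, and M an A-module which is finitely
presented as an R_f[x_1, ..., x_n]-module through α. Then for every surjective R-algebra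
homomorphism γ : R[z_1, ..., z_k] → A_g, the localized module M_g is finitely presented as an R[z_1,
..., z_k]-module through γ. -/
theorem result {R A : Type u} [CommRing R] [CommRing A] (f : R)
    [Algebra R A] [Algebra (Localization.Away f) A] [IsScalarTower R (Localization.Away f) A] {n k : ℕ}
    (α : MvPolynomial (Fin n) (Localization.Away f) →ₐ[Localization.Away f] A) (hα : Function.Surjective α)
    (g : A) (M : Type u) [AddCommGroup M] [Module A M]
    (hM : @Module.FinitePresentation (MvPolynomial (Fin n) (Localization.Away f)) (M) _ _ (Module.compHom (M) α.toRingHom))
    (γ : MvPolynomial (Fin k) R →ₐ[R] Localization.Away g) (hγ : Function.Surjective γ) :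
    @Module.FinitePresentation (MvPolynomial (Fin k) R) (LocalizedModule (Submonoid.powers g) M) _ _ (Module.compHom (LocalizedModule (Submonoid.powers g) M) γ.toRingHom) := by
  obtain ⟨G, rfl⟩ : ∃ G, α G = g := hα g
  haveI : Algebra.FinitePresentation R (Localization.Away f) :=
    IsLocalization.Away.finitePresentation f
  haveI : Algebra.FinitePresentation R (MvPolynomial (Fin n) (Localization.Away f)) :=
    Algebra.FinitePresentation.trans R (Localization.Away f) _
  haveI : Algebra.FinitePresentation (MvPolynomial (Fin n) (Localization.Away f)) (Localization.Away G) :=
    IsLocalization.Away.finitePresentation G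
  haveI : Algebra.FinitePresentation R (Localization.Away G) :=
    Algebra.FinitePresentation.trans R (MvPolynomial (Fin n) (Localization.Away f)) _
  let ψ : Localization.Away G →ₐ[R] Localization.Away (α.toRingHom G) :=
    { awayMap α.toRingHom G with
      commutes' := fun r => by
        show awayMap α.toRingHom G (algebraMap R _ r) = _
        rw [IsScalarTower.algebraMap_apply R (MvPolynomial (Fin n) (Localization.Away f)) (Localization.Away G),
          ← RingHom.comp_apply, awayMap_comp, RingHom.comp_apply,
          IsScalarTower.algebraMap_apply R (Localization.Away f) (MvPolynomial (Fin n) (Localization.Away f))]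
        show algebraMap A _ (α (algebraMap _ _ _)) = _
        rw [AlgHom.commutes, ← IsScalarTower.algebraMap_apply R (Localization.Away f) A,
          ← IsScalarTower.algebraMap_apply R A] }
  refine (fpVia_iff_fpVia ψ (awayMap_surjective α.toRingHom G hα) γ hγ _).1 ?_
  exact fpVia_awayMap α.toRingHom G (LocalizedModule.mkLinearMap (Submonoid.powers (α G)) M) hM

end Groth.Agent.S7006
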