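import Groth.Prelude.Def_DRing2
import Mathlib.Algebra.Homology.DerivedCategory.HomologySequence
import Mathlib.CategoryTheory.Limits.Shapes.Biproducts
import Mathlib.CategoryTheory.ObjectProperty.ClosedUnderIsomorphisms
import Groth.Agent.DRing.Devissage
import Groth.Agent.DRing.Perfect
-- import your own Groth.Agent.* helpers here

set_option autoImplicit false
universe u
open CategoryTheory CategoryTheory.Limits
attribute [local instance] HasDerivedCategory.standard
open DRing

namespace Groth.Agent.S7010

open CategoryTheory.Pretriangulated in
/-- The inclusion of the perfect objects in the subcategory generated by R: let R be a commutative ring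
and P a property of objects of D(R) which is closed under isomorphisms, holds for R[0], is stable
under all shifts, is closed under extensions (if it holds for the outer terms of a distinguished
triangle it holds for the middle term) and is closed under taking direct summands. Then P holds for
every perfect object of D(R). -/
theorem result (R : Type u) [CommRing R]
    (P : ObjectProperty (Dual.D R)) [P.IsClosedUnderIsomorphisms] (hR : P (Dual.inD R R))
    (hshift : ∀ (K : Dual.D R) (n : ℤ), P K → P ((shiftFunctor (Dual.D R) n).obj K))
    (hext : ∀ T : Triangle (Dual.D R), T ∈ distinguishedTriangles → P T.obj₁ → P T.obj₃ → P T.obj₂)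
    (hsum : ∀ (X Y : Dual.D R) [HasBinaryBiproduct X Y], P (X ⊞ Y) → P X)
    (K : Dual.D R) (hK : DRing.IsPerfect R K) : P K := by
  have hz : ∀ X : Dual.D R, IsZero X → P X := fun X hX => by
    have e : X ⊞ Dual.inD R R ≅ Dual.inD R R :=
      ⟨biprod.snd, biprod.inr, biprod.hom_ext' _ _ (hX.eq_of_src _ _) (by simp), by simp⟩
    exact hsum X (Dual.inD R R) (P.prop_of_iso e.symm hR)
  have hfree : ∀ n : ℕ, P (Dual.inD R (Fin n → R)) := by
    intro n
    induction n with
    | zero => exact hz _ ((DerivedCategory.singleFunctor (ModuleCat.{u} R) 0).map_isZero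
        (ModuleCat.isZero_of_subsingleton (ModuleCat.of R (Fin 0 → R))))
    | succ n ih =>
      have hproj : Function.Surjective (LinearMap.proj (R := R) (φ := fun _ : Fin (n + 1) => R) 0) :=
        fun x => ⟨fun _ => x, rfl⟩
      obtain ⟨T, hT, h1, h2, h3⟩ := Agent.DRing.PC.exists_triangle_of_surjective _ hproj
      rw [← h2]
      refine hext T hT ?_ (h3.symm ▸ hR)
      rw [h1]
      refine P.prop_of_iso ((DerivedCategory.singleFunctor (ModuleCat.{u} R) 0).mapIso
        (LinearEquiv.toModuleIso ?_)) ih
      exact LinearEquiv.ofBijective
        (LinearMap.codRestrict _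
          ((Fin.consLinearEquiv R (fun _ : Fin (n + 1) => R)).toLinearMap.comp
            (LinearMap.inr R R (Fin n → R)))
          fun x => by simp [Fin.consLinearEquiv])
        ⟨fun x y h => funext fun i => by
            simpa [Fin.consLinearEquiv] using congrFun (congrArg Subtype.val h) i.succ,
          fun x => ⟨fun i => x.1 i.succ, Subtype.ext (funext fun i => by
            refine Fin.cases ?_ (fun j => ?_) i
            · simp only [Fin.consLinearEquiv]; exact (LinearMap.mem_ker.1 x.2).symm
            · simp [Fin.consLinearEquiv])⟩⟩
  have hproj : ∀ (Q : ModuleCat.{u} R), Module.Finite R Q → Module.Projective R Q →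
      P ((DerivedCategory.singleFunctor (ModuleCat.{u} R) 0).obj Q) := by
    intro Q _ _
    obtain ⟨n, f, hf⟩ := Module.Finite.exists_fin' R Q
    obtain ⟨g, hg⟩ := Module.projective_lifting_property f LinearMap.id hf
    let r : (Fin n → R) →ₗ[R] LinearMap.ker f :=
      (LinearMap.id - g.comp f).codRestrict _ fun x => by
        simp only [LinearMap.mem_ker, LinearMap.sub_apply, LinearMap.id_apply, LinearMap.comp_apply,
          map_sub]
        rw [show f (g (f x)) = f x from LinearMap.congr_fun hg (f x), sub_self]
    have hfg : ∀ q, f (g q) = q := LinearMap.congr_fun hg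
    let e : (Fin n → R) ≃ₗ[R] Q × LinearMap.ker f :=
      { toLinearMap := f.prod r
        invFun := fun p => g p.1 + p.2.1
        left_inv := fun x => by simp [r]
        right_inv := fun p => by
          have hp : f p.2.1 = 0 := p.2.2
          refine Prod.ext ?_ (Subtype.ext ?_) <;> simp [r, hfg, hp] }
    have : PreservesBinaryBiproducts (DerivedCategory.singleFunctor (ModuleCat.{u} R) 0) :=
      preservesBinaryBiproducts_of_preservesBiproducts _
    exact hsum _ _ (P.prop_of_iso
      ((DerivedCategory.singleFunctor (ModuleCat.{u} R) 0).mapIso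
          (e.toModuleIso ≪≫ (ModuleCat.biprodIsoProd Q (ModuleCat.of R (LinearMap.ker f))).symm) ≪≫
        (DerivedCategory.singleFunctor (ModuleCat.{u} R) 0).mapBiprod _ _) (hfree n))
  obtain ⟨E, a, b, hE, hf, ⟨e⟩⟩ := hK
  refine P.prop_of_iso e (Agent.DRing.Devissage.of_terms (fun X => P X)
    (fun i h => P.prop_of_iso i h) hz hext E hE fun i => ?_)
  exact P.prop_of_iso (Agent.DRing.PC.inDShiftIso (E.X i) i)
    (hshift _ (-i) (hproj (E.X i) (hf i).1 (hf i).2))

end Groth.Agent.S7010
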