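import Mathlib.Algebra.Category.ModuleCat.Monoidal.Basic
import Mathlib.CategoryTheory.Monoidal.Rigid.Basic
import Mathlib.Algebra.Module.Projective
import Mathlib.RingTheory.Finiteness.Defs
import Mathlib.LinearAlgebra.TensorProduct.Finiteness
import Groth.Prelude.Def_DRing2
-- import your own Groth.Agent.* helpers here

set_option autoImplicit false
universe u
open CategoryTheory MonoidalCategory
open DRing

namespace Groth.Agent.S7015

/-- Let R be a commutative ring and M, N R-modules such that N is a left dual of M for the tensor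
product of R-modules, i.e. there are a coevaluation R → M ⊗ N and an evaluation N ⊗ M → R satisfying
the triangle identities (an exact pairing). Then M and N are finitely generated projective
R-modules. -/
theorem result (R : Type u) [CommRing R] (M N : Type u) [AddCommGroup M]
    [Module R M] [AddCommGroup N] [Module R N] [ExactPairing (ModuleCat.of R M) (ModuleCat.of R N)] :
    Module.Finite R M ∧ Module.Projective R M ∧ Module.Finite R N ∧ Module.Projective R N := by
  obtain ⟨S, hS⟩ := TensorProduct.exists_finset (R := R)
    ((η_ (ModuleCat.of R M) (ModuleCat.of R N)).hom (1 : R))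
  let ev : N → M → R := fun n m => (ε_ (ModuleCat.of R M) (ModuleCat.of R N)).hom (n ⊗ₜ m)
  have hM : ∀ m : M, ∑ i ∈ S, ev i.2 m • i.1 = m := fun m => by
    have h := LinearMap.congr_fun (congrArg ModuleCat.Hom.hom
      (ExactPairing.evaluation_coevaluation (ModuleCat.of R M) (ModuleCat.of R N))) ((1 : R) ⊗ₜ m)
    have h' := congrArg (TensorProduct.rid R M) h
    refine Eq.trans ?_ ((Eq.trans h' ?_))
    · change _ = TensorProduct.rid R M (LinearMap.lTensor M (ε_ (ModuleCat.of R M) (ModuleCat.of R N)).hom
        (TensorProduct.assoc R M N M (((η_ (ModuleCat.of R M) (ModuleCat.of R N)).hom (1 : R)) ⊗ₜ m)))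
      rw [hS, TensorProduct.sum_tmul, map_sum, map_sum, map_sum]
      exact Finset.sum_congr rfl fun i _ => rfl
    · change TensorProduct.rid R M ((TensorProduct.rid R M).symm (TensorProduct.lid R M ((1 : R) ⊗ₜ m))) = m
      simp
  have hN : ∀ n : N, ∑ i ∈ S, ev n i.1 • i.2 = n := fun n => by
    have h := LinearMap.congr_fun (congrArg ModuleCat.Hom.hom
      (ExactPairing.coevaluation_evaluation (ModuleCat.of R M) (ModuleCat.of R N))) (n ⊗ₜ (1 : R))
    have h' := congrArg (TensorProduct.lid R N) h
    refine Eq.trans ?_ ((Eq.trans h' ?_))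
    · change _ = TensorProduct.lid R N (LinearMap.rTensor N (ε_ (ModuleCat.of R M) (ModuleCat.of R N)).hom
        ((TensorProduct.assoc R N M N).symm (n ⊗ₜ ((η_ (ModuleCat.of R M) (ModuleCat.of R N)).hom (1 : R)))))
      rw [hS, TensorProduct.tmul_sum, map_sum, map_sum, map_sum]
      exact Finset.sum_congr rfl fun i _ => rfl
    · change TensorProduct.lid R N ((TensorProduct.lid R N).symm (TensorProduct.rid R N (n ⊗ₜ (1 : R)))) = n
      simp
  have key : ∀ (Q : Type u) [AddCommGroup Q] [Module R Q] (v : S → Q) (f : Q →ₗ[R] S → R),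
      (∀ q, ∑ i, f q i • v i = q) → Module.Finite R Q ∧ Module.Projective R Q := by
    intro Q _ _ v f hf
    have h : (Fintype.linearCombination R v).comp f = LinearMap.id := LinearMap.ext fun q => by
      simpa [Fintype.linearCombination_apply] using hf q
    exact ⟨Module.Finite.of_surjective (Fintype.linearCombination R v)
      fun q => ⟨f q, LinearMap.congr_fun h q⟩, Module.Projective.of_split f _ h⟩
  have h1 := key M (fun i => i.1.1) (LinearMap.pi fun i => (ε_ (ModuleCat.of R M) (ModuleCat.of R N)).hom.comp
      (TensorProduct.mk R N M i.1.2)) fun m => (S.sum_coe_sort fun i => ev i.2 m • i.1).trans (hM m)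
  have h2 := key N (fun i => i.1.2) (LinearMap.pi fun i => (ε_ (ModuleCat.of R M) (ModuleCat.of R N)).hom.comp
      ((TensorProduct.mk R N M).flip i.1.1)) fun n => (S.sum_coe_sort fun i => ev n i.1 • i.2).trans (hN n)
  exact ⟨h1.1, h1.2, h2.1, h2.2⟩

end Groth.Agent.S7015
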