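import Groth.Prelude.Def_DRing2
import Groth.Prelude.Def_DDual2
import Mathlib.Algebra.Homology.DerivedCategory.HomologySequence
import Mathlib.CategoryTheory.Limits.Shapes.Biproducts
import Groth.Agent.DRing.Perfect
-- import your own Groth.Agent.* helpers here

set_option autoImplicit false
universe u
open CategoryTheory CategoryTheory.Limits
attribute [local instance] HasDerivedCategory.standard
open DRing

namespace Groth.Agent.S7019

/-- Let R be a commutative ring such that the derived tensor product - ⊗^L_R M exists on D(R) for every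
R-module M, and let K, L be objects of D(R). If K ⊕ L is perfect, then K and L are perfect. -/
theorem result (R : Type u) [CommRing R] [∀ M : ModuleCat.{u} R, DRing.HasLTensor R M]
    (K L : Dual.D R) [HasBinaryBiproduct K L] (h : DRing.IsPerfect R (K ⊞ L)) :
    DRing.IsPerfect R K ∧ DRing.IsPerfect R L := by
  simp only [Agent.DRing.Perfect.perfect_iff] at h ⊢
  obtain ⟨h1, a, b, h2⟩ := h
  obtain ⟨p1, p2⟩ := Agent.DRing.PC.pc'_of_biprod h1
  exact ⟨⟨p1, a, b, Agent.DRing.TorAmp.torAmp_of_retract _ _ biprod.inl_fst h2⟩,
    p2, a, b, Agent.DRing.TorAmp.torAmp_of_retract _ _ biprod.inr_snd h2⟩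

end Groth.Agent.S7019
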