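import Groth.Statements.S7039
import Groth.Agent.LocCoh.Torsion

set_option autoImplicit false
universe u
open LocCoh

namespace Groth.Agent.S7039

/-- For a finitely generated ideal I of a commutative ring R and any R-module M, the quotient of M by
its submodule of I-power torsion elements has no nonzero element annihilated by I. -/
theorem result {R : Type u} [CommRing R] (I : Ideal R) (hI : I.FG)
    (M : Type u) [AddCommGroup M] [Module R M] :
    LocCoh.torsionBy I (M ⧸ DRing.torsionSub I M) = ⊥ := by
  refine (Submodule.eq_bot_iff _).mpr fun x hx => ?_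
  obtain ⟨m, rfl⟩ := Submodule.mkQ_surjective _ x
  refine (Submodule.Quotient.mk_eq_zero _).mpr
    (Groth.Agent.LocCoh.exists_pow_smul_eq_zero hI m fun a ha => ?_)
  have h := (Submodule.mem_torsionBySet_iff _ _).mp hx ⟨a, ha⟩
  exact (Submodule.Quotient.mk_eq_zero _).mp h

end Groth.Agent.S7039
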