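import Groth.Statements.S7040
import Groth.Agent.LocCoh.Torsion
import Mathlib.Algebra.Homology.ShortComplex.ModuleCat

set_option autoImplicit false
universe u
open CategoryTheory
open LocCoh

namespace Groth.Agent.S7040

/-- For a finitely generated ideal I of a commutative ring R, the property of being an I-power torsion
module (every element killed by a power of I) is a Serre class in the category of R-modules: it
holds for 0 and is closed under subobjects, quotients and extensions. -/
theorem result {R : Type u} [CommRing R] (I : Ideal R) (hI : I.FG) :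
    ObjectProperty.IsSerreClass (C := ModuleCat.{u} R) (fun M => LocCoh.IsPowerTorsion I M) := by
  have hz : ∀ Z : ModuleCat.{u} R, Subsingleton Z → LocCoh.IsPowerTorsion I Z :=
    fun Z _ m => ⟨0, fun a _ => Subsingleton.elim _ _⟩
  have : ObjectProperty.IsClosedUnderSubobjects (fun M : ModuleCat.{u} R => LocCoh.IsPowerTorsion I M) :=
    ⟨fun f _ h => Groth.Agent.LocCoh.isPowerTorsion_of_injective f.hom
      ((ModuleCat.mono_iff_injective f).mp inferInstance) h⟩
  have : ObjectProperty.IsClosedUnderQuotients (fun M : ModuleCat.{u} R => LocCoh.IsPowerTorsion I M) :=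
    ⟨fun f _ h => Groth.Agent.LocCoh.isPowerTorsion_of_surjective f.hom
      ((ModuleCat.epi_iff_surjective f).mp inferInstance) h⟩
  have : ObjectProperty.IsClosedUnderExtensions (fun M : ModuleCat.{u} R => LocCoh.IsPowerTorsion I M) :=
    ⟨fun {S} hS h₁ h₃ => Groth.Agent.LocCoh.isPowerTorsion_of_exact hI S.f.hom S.g.hom
      ((ShortComplex.ShortExact.moduleCat_exact_iff_function_exact _).mp hS.exact) h₁ h₃⟩
  have : ObjectProperty.ContainsZero (fun M : ModuleCat.{u} R => LocCoh.IsPowerTorsion I M) :=
    ⟨⟨ModuleCat.of R PUnit, ModuleCat.isZero_of_subsingleton _, hz _ inferInstance⟩⟩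
  exact {}

end Groth.Agent.S7040
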