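import Groth.Statements.S7041


set_option autoImplicit false
universe u
open TensorProduct
open LocCoh

namespace Groth.Agent.S7041

/-- Let R → R' be a homomorphism of commutative rings and I an ideal of R such that the induced map
R/I^n → R'/I^n R' is bijective for every n > 0. Then for every R-module M in which every element is
killed by a power of I, the map M → R' ⊗_R M sending m to 1 ⊗ m is bijective. -/
theorem result {R R' : Type u} [CommRing R] [CommRing R'] [Algebra R R']
    (I : Ideal R)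
    (hq : ∀ n : ℕ, 0 < n → Function.Bijective
      (Ideal.quotientMap (Ideal.map (algebraMap R R') (I ^ n)) (algebraMap R R') Ideal.le_comap_map))
    (M : Type u) [AddCommGroup M] [Module R M] (hM : LocCoh.IsPowerTorsion I M) :
    Function.Bijective (fun m : M => (1 : R') ⊗ₜ[R] m) := by
  classical
  have hkey : ∀ (m : M) (r' : R'), ∃ y : M, ∀ (n : ℕ), 0 < n → (∀ a ∈ I ^ n, a • m = 0) →
      ∀ r : R, r' - algebraMap R R' r ∈ Ideal.map (algebraMap R R') (I ^ n) → r • m = y := by
    intro m r'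
    obtain ⟨k, hk⟩ := hM m
    have hk' : ∀ a ∈ I ^ (k + 1), a • m = 0 := fun a ha => hk a (Ideal.pow_le_pow_right k.le_succ ha)
    obtain ⟨r₀, hr₀⟩ := (hq (k + 1) k.succ_pos).2 (Ideal.Quotient.mk _ r')
    obtain ⟨r₀, rfl⟩ := Ideal.Quotient.mk_surjective r₀
    rw [Ideal.quotientMap_mk, Ideal.Quotient.eq] at hr₀
    refine ⟨r₀ • m, fun n hn hnm r hr => ?_⟩
    rw [← sub_eq_zero, ← sub_smul]
    have hmin : 0 < min n (k + 1) := lt_min hn k.succ_pos
    have : Ideal.Quotient.mk (Ideal.comap (algebraMap R R') (Ideal.map (algebraMap R R') (I ^ min n (k + 1))))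
        (r - r₀) = 0 := by
      rw [Ideal.Quotient.eq_zero_iff_mem, Ideal.mem_comap]
      have h1 := Ideal.map_mono (f := algebraMap R R') (Ideal.pow_le_pow_right (I := I) (min_le_left n (k + 1))) hr
      have h2 := Ideal.map_mono (f := algebraMap R R') (Ideal.pow_le_pow_right (I := I) (min_le_right n (k + 1))) hr₀
      have h3 := neg_mem (add_mem h1 h2)
      rw [map_sub]
      convert h3 using 1
      ring
    have hcomap : r - r₀ ∈ I ^ min n (k + 1) := by
      have hinj := (hq _ hmin).1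
      have h0 : Ideal.quotientMap (Ideal.map (algebraMap R R') (I ^ min n (k + 1))) (algebraMap R R')
          Ideal.le_comap_map (Ideal.Quotient.mk _ (r - r₀)) = 0 := by
        rw [Ideal.quotientMap_mk, Ideal.Quotient.eq_zero_iff_mem]
        exact Ideal.mem_comap.mp (Ideal.Quotient.eq_zero_iff_mem.mp this)
      exact Ideal.Quotient.eq_zero_iff_mem.mp (hinj (h0.trans (map_zero _).symm))
    rcases le_total n (k + 1) with hle | hle
    · exact hnm _ (by rwa [min_eq_left hle] at hcomap)
    · exact hk' _ (by rwa [min_eq_right hle] at hcomap)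
  choose g hg using hkey
  have hex : ∀ (m : M) (r' : R'), ∃ n, 0 < n ∧ (∀ a ∈ I ^ n, a • m = 0) := fun m _ => by
    obtain ⟨k, hk⟩ := hM m
    exact ⟨k + 1, k.succ_pos, fun a ha => hk a (Ideal.pow_le_pow_right k.le_succ ha)⟩
  have hrep : ∀ (n : ℕ), 0 < n → ∀ r' : R', ∃ r : R, r' - algebraMap R R' r ∈ Ideal.map (algebraMap R R') (I ^ n) := by
    intro n hn r'
    obtain ⟨r, hr⟩ := (hq n hn).2 (Ideal.Quotient.mk _ r')
    obtain ⟨r, rfl⟩ := Ideal.Quotient.mk_surjective r
    rw [Ideal.quotientMap_mk, Ideal.Quotient.eq] at hr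
    exact ⟨r, by simpa using neg_mem hr⟩
  let B : R' →ₗ[R] M →ₗ[R] M := LinearMap.mk₂ R (fun r' m => g m r')
    (fun a b m => by
      obtain ⟨n, hn, hm⟩ := hex m a
      obtain ⟨ra, hra⟩ := hrep n hn a
      obtain ⟨rb, hrb⟩ := hrep n hn b
      rw [← hg m a n hn hm ra hra, ← hg m b n hn hm rb hrb, ← hg m (a + b) n hn hm (ra + rb)
        (by rw [map_add]; convert add_mem hra hrb using 1; ring), add_smul])
    (fun c a m => by
      obtain ⟨n, hn, hm⟩ := hex m a
      obtain ⟨ra, hra⟩ := hrep n hn a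
      rw [← hg m a n hn hm ra hra, ← hg m (c • a) n hn hm (c * ra)
        (by rw [map_mul, Algebra.smul_def, ← mul_sub]; exact Ideal.mul_mem_left _ _ hra), mul_smul])
    (fun a m m' => by
      obtain ⟨n, hn, hm⟩ := hex m a
      obtain ⟨n', -, hm'⟩ := hex m' a
      have h1 : ∀ b ∈ I ^ (n + n'), b • m = 0 := fun b hb => hm b (Ideal.pow_le_pow_right (n.le_add_right n') hb)
      have h2 : ∀ b ∈ I ^ (n + n'), b • m' = 0 := fun b hb => hm' b (Ideal.pow_le_pow_right (n'.le_add_left n) hb)
      obtain ⟨r, hr⟩ := hrep (n + n') (by omega) a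
      rw [← hg m a _ (by omega) h1 r hr, ← hg m' a _ (by omega) h2 r hr,
        ← hg (m + m') a _ (by omega) (fun b hb => by rw [smul_add, h1 b hb, h2 b hb, add_zero]) r hr,
        smul_add])
    (fun c a m => by
      obtain ⟨n, hn, hm⟩ := hex m a
      obtain ⟨ra, hra⟩ := hrep n hn a
      rw [← hg m a n hn hm ra hra, ← hg (c • m) a n hn (fun b hb => by rw [smul_comm, hm b hb, smul_zero]) ra hra,
        smul_comm])
  let φ := TensorProduct.lift B
  have hφ : ∀ m : M, φ ((1 : R') ⊗ₜ[R] m) = m := fun m => by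
    obtain ⟨n, hn, hm⟩ := hex m 1
    show g m 1 = m
    rw [← hg m 1 n hn hm 1 (by simp), one_smul]
  refine ⟨fun a b h => by rw [← hφ a, ← hφ b]; exact congrArg φ h, fun z => ?_⟩
  induction z using TensorProduct.induction_on with
  | zero => exact ⟨0, TensorProduct.tmul_zero _ _⟩
  | tmul r' m =>
    obtain ⟨n, hn, hm⟩ := hex m r'
    obtain ⟨r, hr⟩ := hrep n hn r'
    refine ⟨r • m, ?_⟩
    have hz : ∀ s ∈ Ideal.map (algebraMap R R') (I ^ n), s ⊗ₜ[R] m = (0 : R' ⊗[R] M) := by
      intro s hs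
      have key : ∀ t : R', (t * s) ⊗ₜ[R] m = (0 : R' ⊗[R] M) := by
        refine Submodule.span_induction (p := fun s _ => ∀ t : R', (t * s) ⊗ₜ[R] m = (0 : R' ⊗[R] M))
          ?_ (fun t => by rw [mul_zero, TensorProduct.zero_tmul]) ?_ ?_ hs
        · rintro _ ⟨a, ha, rfl⟩ t
          rw [mul_comm, ← Algebra.smul_def, TensorProduct.smul_tmul, hm a ha, TensorProduct.tmul_zero]
        · intro a b _ _ ha hb t
          rw [mul_add, TensorProduct.add_tmul, ha, hb, add_zero]
        · intro c a _ ha t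
          rw [smul_eq_mul, ← mul_assoc, ha]
      simpa using key 1
    have h0 := hz _ hr
    rw [TensorProduct.sub_tmul, sub_eq_zero] at h0
    show (1 : R') ⊗ₜ[R] (r • m) = r' ⊗ₜ[R] m
    rw [h0, ← TensorProduct.smul_tmul, Algebra.smul_def, mul_one]
  | add a b ha hb =>
    obtain ⟨x, rfl⟩ := ha
    obtain ⟨y, rfl⟩ := hb
    exact ⟨x + y, TensorProduct.tmul_add _ _ _⟩

end Groth.Agent.S7041
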