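import Groth.Prelude.Def_DRing3
import Mathlib.RingTheory.AdicCompletion.Basic
import Groth.Agent.DRing.DerivedComplete
-- import your own Groth.Agent.* helpers here

set_option autoImplicit false
universe u
attribute [local instance] HasDerivedCategory.standard
open DRing

namespace Groth.Agent.S7049

/-- For a commutative ring A, a finitely generated ideal I and an A-module M such that M[0] is derived
complete with respect to I, the canonical map from M to its I-adic completion lim M/I^n M is
surjective. -/
theorem result {A : Type u} [CommRing A] (I : Ideal A) (hI : I.FG)
    (M : Type u) [AddCommGroup M] [Module A M] (hc : DRing.IsDerivedComplete I (Dual.inD A M)) :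
    Function.Surjective (AdicCompletion.of I M) := by
  exact Agent.DRing.DerComplete.of_surjective M I hI
    ((Agent.DRing.DerComplete.isDerivedComplete_inD_iff_le I M).1 hc)

end Groth.Agent.S7049
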