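import Groth.Prelude.Def_DRing3
import Groth.Prelude.Def_DDual2
import Mathlib.RingTheory.Ideal.Quotient.Basic
import Groth.Agent.DRing.DerivedNakayama
import Groth.Agent.DRing.Devissage
-- import your own Groth.Agent.* helpers here

set_option autoImplicit false
universe u
attribute [local instance] HasDerivedCategory.standard
open CategoryTheory
open DRing

namespace Groth.Agent.S7056

/-- (1)⇔(2): for a commutative ring A, a finitely generated ideal I and an object K of D(A) which is
derived complete with respect to I, the cohomology of K vanishes in all positive degrees if and only
if the cohomology of K ⊗^L_A A/I does. The derived tensor product with the module A/I is the total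
left derived functor, assumed to exist. -/
theorem result {A : Type u} [CommRing A]
    (I : Ideal A) (hI : I.FG) [DRing.HasLTensor A (ModuleCat.of A (A ⧸ I))]
    (K : Dual.D A) (hc : DRing.IsDerivedComplete I K) :
    (∀ i : ℤ, 0 < i → Subsingleton (Dual.HD A K i)) ↔
      ∀ i : ℤ, 0 < i → Subsingleton (Dual.HD A ((DRing.LTensor A (ModuleCat.of A (A ⧸ I))).obj K) i) := by
  exact Agent.DRing.DerComplete.bound_iff I hI K hc 0

end Groth.Agent.S7056
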