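import Groth.Statements.S7062
import Mathlib
import Groth.Agent.EtGlueLib.Tor

set_option autoImplicit false
universe u
open EtGlue

open scoped TensorProduct
namespace Groth.Agent.S7062

/-- For a glueing pair (R → R', f), i.e. R/f^nR → R'/f^nR' is bijective for all n > 0 and the sequence 0
→ R → R' ⊕ R_f → R'_f → 0 is exact, the group Tor_1^R(R', f^n R) vanishes for every n > 0 (Tor
computed by resolving the second argument, the ideal f^n R). -/
theorem result {R R' : Type u} [CommRing R] [CommRing R'] [Algebra R R']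
    (f : R) (h : EtGlue.IsGlueingPair R R' f) (n : ℕ) (hn : 0 < n) :
    Subsingleton (DRing.Tor R 1 R' ↥(Ideal.span ({f ^ n} : Set R))) := by
  classical
  let g : R →ₗ[R] ↥(Ideal.span ({f ^ n} : Set R)) :=
    (LinearMap.mulLeft R (f ^ n)).codRestrict _ fun r => Ideal.mul_mem_right r _ (Ideal.mem_span_singleton_self _)
  have hg : Function.Surjective g := fun ⟨x, hx⟩ => by
    obtain ⟨r, rfl⟩ := Ideal.mem_span_singleton.mp hx
    exact ⟨r, rfl⟩
  rw [EtGlueLib.subsingleton_tor_iff g hg, injective_iff_map_eq_zero]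
  intro z hz
  have hk : ∀ t : LinearMap.ker g, f ^ n • t = 0 := fun t => by
    have : f ^ n * (t : R) = 0 := congrArg Subtype.val (LinearMap.mem_ker.mp t.2)
    exact Subtype.ext this
  obtain ⟨t, rfl⟩ := (EtGlueLib.mk_bijective_of_pow_smul_eq_zero h.1 n hk).2 z
  have ht : algebraMap R R' (t : R) = 0 := by
    have := congrArg (TensorProduct.rid R R') hz
    rw [TensorProduct.mk_apply, LinearMap.lTensor_tmul, TensorProduct.rid_tmul, map_zero, Algebra.smul_def, mul_one] at this
    exact this
  have : (t : R) = 0 := h.2.1 (by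
    have h0 : algebraMap R (Localization.Away f) (t : R) = 0 :=
      (IsLocalization.map_eq_zero_iff (Submonoid.powers f) _ _).mpr ⟨⟨_, n, rfl⟩, congrArg Subtype.val (LinearMap.mem_ker.mp t.2)⟩
    simp [ht, h0])
  rw [show t = 0 from Subtype.ext this, map_zero]

end Groth.Agent.S7062
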