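import Groth.Statements.S7063
import Mathlib
import Groth.Agent.EtGlueLib.Tor

set_option autoImplicit false
universe u
open EtGlue

open scoped TensorProduct
namespace Groth.Agent.S7063

/-- For a glueing pair (R → R', f), the group Tor_1^R(R', R/R[f^∞]) vanishes, where R[f^∞] is the
submodule of elements of R killed by a power of f (Tor computed by resolving the second argument). -/
theorem result {R R' : Type u} [CommRing R] [CommRing R']
    [Algebra R R'] (f : R) (h : EtGlue.IsGlueingPair R R' f) :
    Subsingleton (DRing.Tor R 1 R' (R ⧸ DRing.torsionSub (Ideal.span ({f} : Set R)) R)) := by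
  classical
  set T := DRing.torsionSub (Ideal.span ({f} : Set R)) R with hT
  rw [EtGlueLib.subsingleton_tor_iff T.mkQ T.mkQ_surjective, injective_iff_map_eq_zero]
  intro z hz
  have hk : ∀ t : LinearMap.ker T.mkQ, ∃ n : ℕ, f ^ n • t = 0 := fun t => by
    obtain ⟨n, hn⟩ : (t : R) ∈ T := by simpa [Submodule.ker_mkQ] using t.2
    exact ⟨n, Subtype.ext (hn _ (Ideal.pow_mem_pow (Ideal.mem_span_singleton_self f) n))⟩
  obtain ⟨t, rfl⟩ := (EtGlueLib.mk_bijective_of_torsion h.1 hk).2 z
  obtain ⟨n, hn⟩ := hk t
  have ht : algebraMap R R' (t : R) = 0 := by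
    have := congrArg (TensorProduct.rid R R') hz
    rw [TensorProduct.mk_apply, LinearMap.lTensor_tmul, TensorProduct.rid_tmul, map_zero, Algebra.smul_def, mul_one] at this
    exact this
  have : (t : R) = 0 := h.2.1 (by
    have h0 : algebraMap R (Localization.Away f) (t : R) = 0 :=
      (IsLocalization.map_eq_zero_iff (Submonoid.powers f) _ _).mpr ⟨⟨_, n, rfl⟩, congrArg Subtype.val hn⟩
    simp [ht, h0])
  rw [show t = 0 from Subtype.ext this, map_zero]

end Groth.Agent.S7063
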