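import Groth.Statements.S7065
import Mathlib.RingTheory.Spectrum.Prime.Topology
-- import your own Groth.Agent.* helpers here

set_option autoImplicit false
universe u
open EtGlue

namespace Groth.Agent.S7065

/-- Let R → R' be a homomorphism of commutative rings and f an element of R such that the induced map
R/fR → R'/fR' is bijective. Then Spec(R') ⊔ Spec(R_f) → Spec(R) is surjective: every prime of R is
the contraction of a prime of R' or of a prime of R_f. -/
theorem result {R R' : Type u} [CommRing R] [CommRing R']
    [Algebra R R'] (f : R)
    (hq : Function.Bijective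
      (Ideal.quotientMap (Ideal.map (algebraMap R R') (Ideal.span {f})) (algebraMap R R') Ideal.le_comap_map))
    (p : PrimeSpectrum R) :
    (∃ q : PrimeSpectrum R', PrimeSpectrum.comap (algebraMap R R') q = p) ∨
      ∃ q : PrimeSpectrum (Localization.Away f), PrimeSpectrum.comap (algebraMap R (Localization.Away f)) q = p := by
  by_cases hf : f ∈ p.asIdeal
  · left
    set J := Ideal.span {f}
    have hJ : J ≤ p.asIdeal := (Ideal.span_le).mpr (by simpa using hf)
    let e := RingEquiv.ofBijective _ hq
    let q0 : PrimeSpectrum (R ⧸ J) := ⟨p.asIdeal.map (Ideal.Quotient.mk J),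
      Ideal.map_isPrime_of_surjective Ideal.Quotient.mk_surjective (by rwa [Ideal.mk_ker])⟩
    refine ⟨PrimeSpectrum.comap (e.symm.toRingHom.comp (Ideal.Quotient.mk _)) q0, ?_⟩
    have hcomp : (e.symm.toRingHom.comp (Ideal.Quotient.mk _)).comp (algebraMap R R') = Ideal.Quotient.mk J := by
      ext x
      show e.symm (Ideal.Quotient.mk _ (algebraMap R R' x)) = _
      rw [RingEquiv.symm_apply_eq]
      exact (Ideal.quotientMap_mk (H := Ideal.le_comap_map)).symm
    rw [← PrimeSpectrum.comap_comp_apply, hcomp]
    exact PrimeSpectrum.ext (Ideal.comap_map_of_surjective' _ Ideal.Quotient.mk_surjective _ |>.trans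
      (by rw [Ideal.mk_ker, sup_eq_left.mpr hJ]))
  · right
    have : p ∈ Set.range (PrimeSpectrum.comap (algebraMap R (Localization.Away f))) := by
      rw [PrimeSpectrum.localization_away_comap_range (Localization.Away f) f]
      exact hf
    exact this

end Groth.Agent.S7065
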