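import Groth.Statements.S7073
import Groth.Agent.DRing.Perfect

set_option autoImplicit false
universe u
attribute [local instance] HasDerivedCategory.standard
open CategoryTheory
open Dual2

namespace Groth.Agent.S7073

/-- For a flat homomorphism of finite presentation R → A of commutative rings, every perfect object of
D(A) is R-perfect, i.e. pseudo-coherent over A and of finite tor dimension as a complex of
R-modules. -/
theorem result (R A : Type u) [CommRing R] [CommRing A] [Algebra R A]
    [Module.Flat R A] [Algebra.FinitePresentation R A] (K : Dual.D A) (hK : DRing.IsPerfect A K) :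
    Dual2.IsRelPerfect R A K := by
  obtain ⟨P, a, b, hP, hf, ⟨e⟩⟩ := hK
  refine ⟨Groth.Agent.DRing.PC.pc'_of_iso e
    (Groth.Agent.DRing.Perfect.pc'_of_finiteProjective (fun i hi => hP i (Or.inr hi)) hf), a, b,
    (DRing.restrictCx (algebraMap R A)).obj P, fun i hi => ?_, fun i => ?_,
    ⟨((ModuleCat.restrictScalars.{u} (algebraMap R A)).mapDerivedCategoryFactors.app P).symm ≪≫
      (DRing.restrictD (algebraMap R A)).mapIso e⟩⟩
  · exact (ModuleCat.restrictScalars.{u} (algebraMap R A)).map_isZero (hP i hi)
  · have := (hf i).2
    let N : Type u := P.X i
    letI : Module R N := Module.compHom N (algebraMap R A)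
    haveI : IsScalarTower R A N := IsScalarTower.of_algebraMap_smul fun _ _ => rfl
    haveI : Module.Projective A N := (hf i).2
    exact Module.Flat.trans R A N

end Groth.Agent.S7073
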