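import Groth.Statements.S7076
import Groth.Agent.DRing.RelBC
import Groth.Agent.DRing.Nilpotent

set_option autoImplicit false
universe u
attribute [local instance] HasDerivedCategory.standard
open TensorProduct
open Dual2

namespace Groth.Agent.S7076

/-- Let R' → A' be a flat homomorphism of finite presentation of commutative rings, R' → R a surjective
homomorphism of rings with nilpotent kernel, A = R ⊗_{R'} A', and K' an object of D(A'). If the
derived base change K' ⊗^L_{A'} A (total left derived functor of extension of scalars, assumed to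
exist) is R-perfect in D(A), then K' is R'-perfect in D(A'). -/
theorem result (R' A' R : Type u) [CommRing R'] [CommRing A'] [Algebra R' A']
    [CommRing R] [Algebra R' R] [Module.Flat R' A'] [Algebra.FinitePresentation R' A']
    (hs : Function.Surjective (algebraMap R' R)) (hn : IsNilpotent (RingHom.ker (algebraMap R' R)))
    [DRing.HasLBaseChange (Algebra.TensorProduct.includeRight.toRingHom : A' →+* R ⊗[R'] A')]
    (K' : Dual.D A')
    (hK : Dual2.IsRelPerfect R (R ⊗[R'] A')
      ((DRing.LBaseChange (Algebra.TensorProduct.includeRight.toRingHom : A' →+* R ⊗[R'] A')).obj K')) :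
    Dual2.IsRelPerfect R' A' K' := by
  obtain ⟨h1, a, b, h2⟩ := hK
  let φ : A' →+* R ⊗[R'] A' := Algebra.TensorProduct.includeRight.toRingHom
  have hφ : Function.Surjective φ := Algebra.TensorProduct.includeRight_surjective (R := R') (S := R) (T := A') hs
  have hker : RingHom.ker φ ≤ (RingHom.ker (algebraMap R' R)).map (algebraMap R' A') := by
    intro x hx
    let J := (RingHom.ker (algebraMap R' R)).map (algebraMap R' A')
    let f : R →ₐ[R'] A' ⧸ J := (Ideal.Quotient.liftₐ (RingHom.ker (Algebra.ofId R' R))
      (Algebra.ofId R' (A' ⧸ J)) fun r hr => (Ideal.Quotient.eq_zero_iff_mem).2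
        (Ideal.mem_map_of_mem (algebraMap R' A') hr)).comp
      (Ideal.quotientKerAlgEquivOfSurjective (f := Algebra.ofId R' R) hs).symm.toAlgHom
    let L := Algebra.TensorProduct.lift f (Ideal.Quotient.mkₐ R' J) fun _ _ => Commute.all _ _
    have h0 : L ((1 : R) ⊗ₜ[R'] x) = 0 := (congrArg L hx).trans (map_zero L)
    rw [Algebra.TensorProduct.lift_tmul, map_one, one_mul] at h0
    exact Ideal.Quotient.eq_zero_iff_mem.1 h0
  have hnil : IsNilpotent (RingHom.ker φ) := by
    obtain ⟨n, hn'⟩ := hn
    refine ⟨n, eq_bot_iff.2 ((Ideal.pow_right_mono hker n).trans ?_)⟩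
    rw [← Ideal.map_pow]
    exact (Ideal.map_mono hn'.le).trans Ideal.map_bot.le
  have hpc := (Groth.Agent.DRing.Nilp.pc'_iff_baseChange φ hφ hnil K').1 h1
  refine ⟨hpc, a, b, ?_⟩
  have := Groth.Agent.DRing.LTensor.hasLBaseChange (algebraMap R' R)
  obtain ⟨i⟩ := Groth.Agent.DRing.RelBC.nonempty_baseChange_restrict R' A' R K' hpc
  exact (Groth.Agent.DRing.Nilp.torAmp_iff (algebraMap R' R) hs hn _ a b).1
    (Groth.Agent.DRing.TorAmp.torAmp_of_iso i.symm h2)

end Groth.Agent.S7076
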