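import Groth.Prelude.Def_DRing2
import Mathlib.Algebra.Module.Projective
import Groth.Agent.DRing.TwoTermExt
import Groth.Agent.DRing.PerfectAmp
-- import your own Groth.Agent.* helpers here

set_option autoImplicit false
universe u
attribute [local instance] HasDerivedCategory.standard
open CategoryTheory
open DRing

namespace Groth.Agent.S7077

/-- (1)⇔(2): let R be a commutative ring and K an object of D(R) whose cohomology modules vanish outside
degrees -1 and 0. Then H^{-1}(K) vanishes and H^0(K) is a projective R-module if and only if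
Ext^1_R(K, M) = Hom_{D(R)}(K, M[1]) vanishes for every R-module M. -/
theorem result {R : Type u} [CommRing R] (K : Dual.D R)
    (hK : ∀ i : ℤ, i ≠ -1 → i ≠ 0 → Subsingleton (Dual.HD R K i)) :
    (Subsingleton (Dual.HD R K (-1)) ∧ Module.Projective R (Dual.HD R K 0)) ↔
      ∀ (M : Type u) [AddCommGroup M] [Module R M], Subsingleton (K ⟶ (Dual.inD R M)⟦(1 : ℤ)⟧) := by
  obtain ⟨E, hE, hE', hE0, ⟨e⟩⟩ := Agent.DRing.TwoTerm.exists_twoTerm K hK
  have hd : ∀ w : E.X (-1 - 1), (E.d (-1 - 1) (-1)).hom w = 0 := fun w => by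
    have := ModuleCat.subsingleton_of_isZero (hE' (-1 - 1) (by omega))
    rw [Subsingleton.elim w 0, map_zero]
  let l : (E.X 0 ⧸ LinearMap.range (E.d (0 - 1) 0).hom) ≃ₗ[R] Dual.HD R K 0 :=
    (Agent.DRing.Perfect.topEquiv E 0 (hE (0 + 1) (by omega))).trans
      ((Agent.DRing.DBasic.hIso E 0).symm ≪≫ (Agent.DRing.DBasic.HF 0).mapIso e).toLinearEquiv
  constructor
  · rintro ⟨h1, h0⟩ M _ _
    refine ⟨fun ξ η => ?_⟩
    rw [← sub_eq_zero]
    have hann : ∃ h : E.X 0 ⟶ E.X (-1), E.d (-1) 0 ≫ h = (1 : R) • 𝟙 (E.X (-1)) := by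
      have hinj : Function.Injective (E.d (-1) 0).hom := by
        rw [injective_iff_map_eq_zero]
        intro x hx
        have hx' := (Agent.DRing.Homology.isCyc_iff (show (-1 : ℤ) + 1 = 0 by omega) x).2 hx
        have hs : Subsingleton (Dual.HD R (DRing.toD E) (-1)) :=
          (Agent.DRing.DBasic.subsingleton_HD_congr e (-1)).2 h1
        have := ModuleCat.subsingleton_of_isZero
          ((Agent.DRing.DBasic.subsingleton_HD_toD_iff E (-1)).1 hs)
        obtain ⟨w, hw⟩ := (Agent.DRing.Homology.cls_eq_zero_iff (-1 - 1) (by omega) hx').1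
          (Subsingleton.elim _ _)
        rw [← hw, hd]
      have hproj : Module.Projective R (E.X 0 ⧸ LinearMap.range (E.d (0 - 1) 0).hom) :=
        Module.Projective.of_equiv l.symm
      obtain ⟨σ, hσ⟩ := Module.projective_lifting_property
        (LinearMap.range (E.d (0 - 1) 0).hom).mkQ LinearMap.id (Submodule.mkQ_surjective _)
      have key : ∀ (j : ℤ) (hj : j = -1), Function.Injective (E.d j 0).hom →
          (∀ y, (y - σ (Submodule.Quotient.mk y)) ∈ LinearMap.range (E.d j 0).hom) →
          ∃ h : E.X 0 ⟶ E.X j, E.d j 0 ≫ h = 𝟙 (E.X j) := by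
        intro j hj hinj hmem
        refine ⟨ModuleCat.ofHom ((LinearEquiv.ofInjective (E.d j 0).hom hinj).symm.toLinearMap.comp
          ((LinearMap.id - σ.comp (Submodule.mkQ _)).codRestrict _ hmem)),
          ModuleCat.hom_ext (LinearMap.ext fun x => ?_)⟩
        have hz : (LinearMap.range (E.d (0 - 1) 0).hom).mkQ ((E.d j 0).hom x) = 0 := by
          subst hj
          exact (Submodule.Quotient.mk_eq_zero _).2 ⟨x, rfl⟩
        refine (LinearEquiv.ofInjective (E.d j 0).hom hinj).injective
          ((LinearEquiv.apply_symm_apply _ _).trans (Subtype.ext ?_))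
        change (E.d j 0).hom x - σ ((LinearMap.range (E.d (0 - 1) 0).hom).mkQ ((E.d j 0).hom x)) =
          (E.d j 0).hom x
        rw [hz, map_zero, sub_zero]
      obtain ⟨h, hh⟩ := key (0 - 1) (by omega) (by simpa using hinj) fun y => by
        rw [← Submodule.Quotient.mk_eq_zero, Submodule.Quotient.mk_sub, sub_eq_zero]
        exact (LinearMap.congr_fun hσ (Submodule.Quotient.mk y)).symm
      exact ⟨h, by rw [one_smul]; exact hh⟩
    have := (Agent.DRing.TwoTerm.annihilates_iff hE hE0 hE' e (1 : R)).2 hann M (ξ - η)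
    rwa [one_smul] at this
  · intro H
    obtain ⟨h, hh⟩ := (Agent.DRing.TwoTerm.annihilates_iff hE hE0 hE' e (1 : R)).1
      fun M _ _ ξ => (H M).elim _ _
    rw [one_smul] at hh
    have hh' : ∀ x, h.hom ((E.d (-1) 0).hom x) = x := fun x => congrArg (fun g => g.hom x) hh
    constructor
    · refine (Agent.DRing.DBasic.subsingleton_HD_congr e (-1)).1
        ((Agent.DRing.DBasic.subsingleton_HD_toD_iff E (-1)).2 ?_)
      have : Subsingleton (E.homology (-1)) := ⟨fun x y => by
        obtain ⟨u, hu, rfl⟩ := Agent.DRing.Homology.cls_surjective x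
        obtain ⟨v, hv, rfl⟩ := Agent.DRing.Homology.cls_surjective y
        have hu' := (Agent.DRing.Homology.isCyc_iff (show (-1 : ℤ) + 1 = 0 by omega) u).1 hu
        have hv' := (Agent.DRing.Homology.isCyc_iff (show (-1 : ℤ) + 1 = 0 by omega) v).1 hv
        obtain rfl : u = v := by rw [← hh' u, ← hh' v, hu', hv']
        rfl⟩
      exact ModuleCat.isZero_of_subsingleton _
    · let ρ : E.X 0 →ₗ[R] E.X 0 := LinearMap.id - (E.d (-1) 0).hom.comp h.hom
      have hρ : LinearMap.range (E.d (0 - 1) 0).hom ≤ LinearMap.ker ρ := by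
        have : ∀ (j : ℤ) (hj : j = -1), LinearMap.range (E.d j 0).hom ≤ LinearMap.ker ρ := by
          rintro _ rfl _ ⟨x, rfl⟩
          simp [ρ, hh']
        exact this (0 - 1) (by omega)
      have := hE0
      have : Module.Projective R (E.X 0 ⧸ LinearMap.range (E.d (0 - 1) 0).hom) :=
        Module.Projective.of_split ((LinearMap.range (E.d (0 - 1) 0).hom).liftQ ρ hρ)
          (LinearMap.range (E.d (0 - 1) 0).hom).mkQ (by
          refine Submodule.linearMap_qext _ (LinearMap.ext fun y => ?_)
          simp only [LinearMap.comp_apply, Submodule.mkQ_apply, Submodule.liftQ_apply,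
            LinearMap.id_comp, LinearMap.id_apply, ρ, LinearMap.sub_apply, Submodule.Quotient.mk_sub]
          rw [sub_eq_self, Submodule.Quotient.mk_eq_zero]
          have : ∀ (j : ℤ) (hj : j = -1),
              (E.d (-1) 0).hom (h.hom y) ∈ LinearMap.range (E.d j 0).hom := by
            rintro _ rfl
            exact LinearMap.mem_range_self _ _
          exact this (0 - 1) (by omega))
      exact Module.Projective.of_equiv l

end Groth.Agent.S7077
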