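import Groth.Prelude.Def_DRing2
import Groth.Agent.DRing.ProjAmp
-- import your own Groth.Agent.* helpers here

set_option autoImplicit false
universe u
attribute [local instance] HasDerivedCategory.standard
open CategoryTheory
open DRing

namespace Groth.Agent.S7078

/-- For a commutative ring R and an object K of D(R) whose cohomology modules vanish outside degrees -1
and 0, K is represented by a two-term complex K^{-1} → K^0 with K^0 a free R-module. -/
theorem result {R : Type u} [CommRing R] (K : Dual.D R)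
    (hK : ∀ i : ℤ, i ≠ -1 → i ≠ 0 → Subsingleton (Dual.HD R K i)) :
    ∃ E : DRing.Cx R, DRing.VanishesOutside E (-1) 0 ∧ Module.Free R (E.X 0) ∧ Nonempty (DRing.toD E ≅ K) := by
  obtain ⟨P, hb, hf, ⟨e⟩⟩ := Agent.DRing.ProjAmp.exists_freeRep K 0
    (fun i hi => hK i (by omega) (by omega))
  obtain ⟨e'⟩ := Agent.DRing.ProjAmp.tauGE_rep e (-1) (fun i hi => hK i (by omega) (by omega))
  exact ⟨_, Agent.DRing.Trunc.vanishesOutside_tauGE P (-1) hb,
    Agent.DRing.ProjAmp.free_of_iso
      (Agent.DRing.Trunc.tauGE_XIso P (-1) (show (-1 : ℤ) < 0 by omega)).symm (hf 0), ⟨e'⟩⟩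

end Groth.Agent.S7078
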