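import Groth.Prelude.Def_DRing2
import Mathlib.RingTheory.Noetherian.Basic
import Groth.Agent.DRing.ProjAmp
-- import your own Groth.Agent.* helpers here

set_option autoImplicit false
universe u
attribute [local instance] HasDerivedCategory.standard
open CategoryTheory
open DRing

namespace Groth.Agent.S7079

/-- For a Noetherian commutative ring R and an object K of D(R) whose cohomology modules vanish outside
degrees -1 and 0 and are finite modules in those two degrees, K is represented by a two-term complex
K^{-1} → K^0 with K^0 finite free and K^{-1} finite. -/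
theorem result {R : Type u} [CommRing R] [IsNoetherianRing R] (K : Dual.D R)
    (hK : ∀ i : ℤ, i ≠ -1 → i ≠ 0 → Subsingleton (Dual.HD R K i))
    (h1 : Module.Finite R (Dual.HD R K (-1))) (h0 : Module.Finite R (Dual.HD R K 0)) :
    ∃ E : DRing.Cx R, DRing.VanishesOutside E (-1) 0 ∧ Module.Free R (E.X 0) ∧ Module.Finite R (E.X 0) ∧
      Module.Finite R (E.X (-1)) ∧ Nonempty (DRing.toD E ≅ K) := by
  have hR : ∀ I : Ideal R, I.FG → Module.FinitePresentation R I := fun I hI =>
    have := Module.Finite.iff_fg.2 hI
    Module.finitePresentation_of_finite R I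
  have hfin : ∀ i : ℤ, Module.Finite R (Dual.HD R K i) := fun i => by
    by_cases h : i = -1
    · exact h ▸ h1
    by_cases h' : i = 0
    · exact h' ▸ h0
    have := hK i h h'
    infer_instance
  obtain ⟨P, hb, hf, ⟨e⟩⟩ := Agent.DRing.PC.exists_finiteFree_rep (b := 0)
    (fun m => (Agent.DRing.PC.pc_iff_of_coherent hR ⟨0, fun i hi => hK i (by omega) (by omega)⟩).2
      ⟨hfin m, fun i _ => have := hfin i; Module.finitePresentation_of_finite R _⟩)
    (fun i hi => hK i (by omega) (by omega))
  obtain ⟨e'⟩ := Agent.DRing.ProjAmp.tauGE_rep e (-1) (fun i hi => hK i (by omega) (by omega))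
  refine ⟨_, Agent.DRing.Trunc.vanishesOutside_tauGE P (-1) hb,
    Agent.DRing.ProjAmp.free_of_iso
      (Agent.DRing.Trunc.tauGE_XIso P (-1) (show (-1 : ℤ) < 0 by omega)).symm (hf 0).2, ?_, ?_, ⟨e'⟩⟩
  · have := (hf 0).1
    exact Module.Finite.of_surjective (Agent.DRing.Trunc.killSub P (-1) 0).mkQ
      (Submodule.mkQ_surjective _)
  · have := (hf (-1)).1
    exact Module.Finite.of_surjective (Agent.DRing.Trunc.killSub P (-1) (-1)).mkQ
      (Submodule.mkQ_surjective _)

end Groth.Agent.S7079
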