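import Groth.Prelude.Def_DRing2
import Groth.Agent.DRing.TwoTermExt
-- import your own Groth.Agent.* helpers here

set_option autoImplicit false
universe u
attribute [local instance] HasDerivedCategory.standard
open CategoryTheory
open DRing

namespace Groth.Agent.S7080

/-- Let R be a commutative ring and α : K → K' a morphism in D(R) between objects whose cohomology
vanishes outside degrees -1 and 0, such that H^0(α) is an isomorphism and H^{-1}(α) is surjective.
If multiplication by an element f of R is the zero endomorphism of K in D(R), then it is also the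
zero endomorphism of K'. -/
theorem result {R : Type u} [CommRing R] {K K' : Dual.D R} (α : K ⟶ K')
    (hK : ∀ i : ℤ, i ≠ -1 → i ≠ 0 → Subsingleton (Dual.HD R K i))
    (hK' : ∀ i : ℤ, i ≠ -1 → i ≠ 0 → Subsingleton (Dual.HD R K' i))
    (h0 : IsIso ((DerivedCategory.homologyFunctor (ModuleCat.{u} R) 0).map α))
    (h1 : Epi ((DerivedCategory.homologyFunctor (ModuleCat.{u} R) (-1)).map α))
    (f : R) (hf : f • (𝟙 K) = 0) : f • (𝟙 K') = 0 := by
  obtain ⟨E, hE, hE', hE0, ⟨e⟩⟩ := Agent.DRing.TwoTerm.exists_twoTerm K hK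
  obtain ⟨E', hF, hF', hF0, ⟨e'⟩⟩ := Agent.DRing.TwoTerm.exists_twoTerm K' hK'
  obtain ⟨a, ha⟩ := (Agent.DRing.TwoTerm.exists_hom_unique hE hE0 hF').1 (e.hom ≫ α ≫ e'.inv)
  have hf0 : DerivedCategory.Q.map (f • 𝟙 E) = 0 := by
    rw [Functor.map_smul, CategoryTheory.Functor.map_id, ← cancel_mono e.hom, Limits.zero_comp,
      Linear.smul_comp, Category.id_comp, ← Category.comp_id e.hom, ← Linear.comp_smul, hf, Limits.comp_zero]
  obtain ⟨H⟩ := (Agent.DRing.TwoTerm.exists_hom_unique hE hE0 hE').2 (f • 𝟙 E) 0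
    (by rw [hf0, Functor.map_zero])
  obtain ⟨h, hd0, hd1⟩ := Agent.DRing.TwoTerm.exists_of_homotopy hE hE' H
  have hd0' : ∀ y, (E.d (-1) 0).hom (h.hom y) = f • y := fun y => by
    have := congrArg (fun g => g.hom y) hd0
    simpa using this.symm
  have hd1' : ∀ x, h.hom ((E.d (-1) 0).hom x) = f • x := fun x => by
    have := congrArg (fun g => g.hom x) hd1
    simpa using this.symm
  obtain ⟨k, hk1, s, t, hst, hk⟩ := Agent.DRing.TwoTerm.exists_factor_transfer a hE hF hF' hF0
    ((Agent.DRing.TwoTerm.homologyMap_of_D a α e e' ha 0).1 h0)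
    ((Agent.DRing.TwoTerm.homologyMap_of_D a α e e' ha (-1)).2 h1) f LinearMap.id
    ((a.f (-1)).hom.comp h.hom) (fun x => by
      rw [LinearMap.comp_apply, hd1', map_smul]; rfl)
  obtain ⟨H'⟩ := Agent.DRing.TwoTerm.nonempty_homotopy (f := f • 𝟙 E') (g := 0) hF hF'
    (ModuleCat.ofHom k) (by
      refine ModuleCat.hom_ext (LinearMap.ext fun y => ?_)
      simp only [HomologicalComplex.smul_f_apply, HomologicalComplex.id_f,
        HomologicalComplex.zero_f_apply, add_zero, ModuleCat.hom_smul, LinearMap.smul_apply,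
        ModuleCat.hom_id, LinearMap.id_apply, ModuleCat.hom_comp, LinearMap.comp_apply,
        ModuleCat.hom_ofHom, hk, LinearMap.add_apply, map_add, map_smul]
      rw [Agent.DRing.Homology.hom_d, hd0', map_smul, ← smul_add, hst]) (by
      refine ModuleCat.hom_ext (LinearMap.ext fun x => ?_)
      simp only [HomologicalComplex.smul_f_apply, HomologicalComplex.id_f,
        HomologicalComplex.zero_f_apply, add_zero, ModuleCat.hom_smul, LinearMap.smul_apply,
        ModuleCat.hom_id, LinearMap.id_apply, ModuleCat.hom_comp, LinearMap.comp_apply,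
        ModuleCat.hom_ofHom, hk1])
  have hz := DerivedCategory.Q_map_eq_of_homotopy (ModuleCat.{u} R) H'
  rw [Functor.map_smul, CategoryTheory.Functor.map_id, Functor.map_zero] at hz
  rw [← cancel_epi e'.hom, Limits.comp_zero, Linear.comp_smul, Category.comp_id, ← Category.id_comp e'.hom,
    ← Linear.smul_comp, hz, Limits.zero_comp]

end Groth.Agent.S7080
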