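import Groth.Prelude.Def_DRing2
import Groth.Agent.DRing.TwoTermExt
-- import your own Groth.Agent.* helpers here

set_option autoImplicit false
universe u
attribute [local instance] HasDerivedCategory.standard
open CategoryTheory
open DRing

namespace Groth.Agent.S7081

/-- Let R be a commutative ring and φ : K₁ → K₂, ψ : K₂ → K₃ morphisms in D(R) between objects whose
cohomology vanishes outside degrees -1 and 0. If φ induces the zero map on H^0 and ψ induces the
zero map on H^{-1}, then the composite K₁ → K₃ is zero. -/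
theorem result {R : Type u} [CommRing R] {K₁ K₂ K₃ : Dual.D R}
    (φ : K₁ ⟶ K₂) (ψ : K₂ ⟶ K₃)
    (h₁ : ∀ i : ℤ, i ≠ -1 → i ≠ 0 → Subsingleton (Dual.HD R K₁ i))
    (h₂ : ∀ i : ℤ, i ≠ -1 → i ≠ 0 → Subsingleton (Dual.HD R K₂ i))
    (h₃ : ∀ i : ℤ, i ≠ -1 → i ≠ 0 → Subsingleton (Dual.HD R K₃ i))
    (hφ : (DerivedCategory.homologyFunctor (ModuleCat.{u} R) 0).map φ = 0)
    (hψ : (DerivedCategory.homologyFunctor (ModuleCat.{u} R) (-1)).map ψ = 0) :
    φ ≫ ψ = 0 := by
  obtain ⟨E₁, hA, hA', hA0, ⟨e₁⟩⟩ := Agent.DRing.TwoTerm.exists_twoTerm K₁ h₁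
  obtain ⟨E₂, hB, hB', hB0, ⟨e₂⟩⟩ := Agent.DRing.TwoTerm.exists_twoTerm K₂ h₂
  obtain ⟨E₃, hC, hC', hC0, ⟨e₃⟩⟩ := Agent.DRing.TwoTerm.exists_twoTerm K₃ h₃
  obtain ⟨a, ha⟩ := (Agent.DRing.TwoTerm.exists_hom_unique hA hA0 hB').1 (e₁.hom ≫ φ ≫ e₂.inv)
  obtain ⟨b, hb⟩ := (Agent.DRing.TwoTerm.exists_hom_unique hB hB0 hC').1 (e₂.hom ≫ ψ ≫ e₃.inv)
  have hzero : ∀ {E E' : DRing.Cx R} (g : E ⟶ E') (i : ℤ),
      (DerivedCategory.homologyFunctor (ModuleCat.{u} R) i).map (DerivedCategory.Q.map g) = 0 →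
      HomologicalComplex.homologyMap g i = 0 := fun g i h => by
    rw [Agent.DRing.DBasic.HF_map_Q_eq] at h
    rwa [← cancel_epi (Agent.DRing.DBasic.hIso _ i).hom,
      ← cancel_mono (Agent.DRing.DBasic.hIso _ i).inv, Category.assoc, Limits.comp_zero, Limits.zero_comp]
  have ha0 : HomologicalComplex.homologyMap a 0 = 0 :=
    hzero a 0 (by rw [ha, Functor.map_comp, Functor.map_comp, hφ, Limits.zero_comp, Limits.comp_zero])
  have hb1 : HomologicalComplex.homologyMap b (-1) = 0 :=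
    hzero b (-1) (by rw [hb, Functor.map_comp, Functor.map_comp, hψ, Limits.zero_comp, Limits.comp_zero])
  have hcyc : ∀ y : E₁.X 0, Agent.DRing.Homology.IsCyc E₁ 0 y := fun y => by
    have := ModuleCat.subsingleton_of_isZero (hA (0 + 1) (by omega))
    exact Subsingleton.elim _ _
  have hr : ∀ y, (a.f 0).hom y ∈ LinearMap.range (E₂.d (-1) 0).hom := fun y => by
    have h := congrArg (fun g => g.hom (Agent.DRing.Homology.cls y (hcyc y))) ha0
    rw [Agent.DRing.Homology.homologyMap_cls] at h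
    exact (Agent.DRing.Homology.cls_eq_zero_iff (-1) (by omega) _).1 h
  have := hA0
  obtain ⟨k, hk⟩ := Module.projective_lifting_property (E₂.d (-1) 0).hom.rangeRestrict
    ((a.f 0).hom.codRestrict _ hr) (LinearMap.surjective_rangeRestrict _)
  have hk0 : ∀ y, (E₂.d (-1) 0).hom (k y) = (a.f 0).hom y := fun y =>
    congrArg Subtype.val (LinearMap.congr_fun hk y)
  have := ModuleCat.subsingleton_of_isZero (hC' (-2) le_rfl)
  have hker : ∀ x, (E₂.d (-1) 0).hom x = 0 → (b.f (-1)).hom x = 0 := fun x hx => by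
    have hx' := (Agent.DRing.Homology.isCyc_iff (show (-1 : ℤ) + 1 = 0 by omega) x).2 hx
    have h := congrArg (fun g => g.hom (Agent.DRing.Homology.cls x hx')) hb1
    rw [Agent.DRing.Homology.homologyMap_cls] at h
    obtain ⟨w, hw⟩ := (Agent.DRing.Homology.cls_eq_zero_iff (-2) (by omega) _).1 h
    rw [← hw, Subsingleton.elim w 0, map_zero]
  obtain ⟨H⟩ := Agent.DRing.TwoTerm.nonempty_homotopy (f := a ≫ b) (g := 0) hA hC'
    (ModuleCat.ofHom ((b.f (-1)).hom.comp k)) (by
      refine ModuleCat.hom_ext (LinearMap.ext fun y => ?_)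
      simp only [HomologicalComplex.comp_f, HomologicalComplex.zero_f_apply, add_zero,
        ModuleCat.hom_comp, LinearMap.comp_apply, ModuleCat.hom_ofHom]
      rw [Agent.DRing.Homology.hom_d, hk0]) (by
      refine ModuleCat.hom_ext (LinearMap.ext fun x => ?_)
      simp only [HomologicalComplex.comp_f, HomologicalComplex.zero_f_apply, add_zero,
        ModuleCat.hom_comp, LinearMap.comp_apply, ModuleCat.hom_ofHom]
      rw [← sub_eq_zero, ← map_sub]
      refine hker _ ?_
      rw [map_sub, hk0, Agent.DRing.Homology.hom_d, sub_self])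
  have hz := DerivedCategory.Q_map_eq_of_homotopy (ModuleCat.{u} R) H
  rw [Functor.map_comp, ha, hb, Functor.map_zero] at hz
  simp only [Category.assoc, Iso.inv_hom_id_assoc] at hz
  rwa [← cancel_epi e₁.hom, ← cancel_mono e₃.inv, Category.assoc, Category.assoc, Limits.comp_zero,
    Limits.zero_comp]

end Groth.Agent.S7081
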