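import Groth.Prelude.Def_DRing2
import Groth.Agent.DRing.TwoTermExt
-- import your own Groth.Agent.* helpers here

set_option autoImplicit false
universe u
attribute [local instance] HasDerivedCategory.standard
open CategoryTheory
open DRing

namespace Groth.Agent.S7083

/-- Let R be a commutative ring, I an ideal, and α : K → K' a morphism in D(R) between objects whose
cohomology vanishes outside degrees -1 and 0, such that H^0(α) is an isomorphism and H^{-1}(α) is
surjective. If I annihilates Ext^1_R(K, N) = Hom_{D(R)}(K, N[1]) for every R-module N, then I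
annihilates Ext^1_R(K', N) for every R-module N. -/
theorem result {R : Type u} [CommRing R] (I : Ideal R) {K K' : Dual.D R}
    (α : K ⟶ K')
    (hK : ∀ i : ℤ, i ≠ -1 → i ≠ 0 → Subsingleton (Dual.HD R K i))
    (hK' : ∀ i : ℤ, i ≠ -1 → i ≠ 0 → Subsingleton (Dual.HD R K' i))
    (h0 : IsIso ((DerivedCategory.homologyFunctor (ModuleCat.{u} R) 0).map α))
    (h1 : Epi ((DerivedCategory.homologyFunctor (ModuleCat.{u} R) (-1)).map α))
    (hI : ∀ (N : Type u) [AddCommGroup N] [Module R N] (a : R), a ∈ I →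
        ∀ ξ : K ⟶ (Dual.inD R N)⟦(1 : ℤ)⟧, a • ξ = 0)
    (N : Type u) [AddCommGroup N] [Module R N] (a : R) (ha : a ∈ I) (ξ : K' ⟶ (Dual.inD R N)⟦(1 : ℤ)⟧) :
    a • ξ = 0 := by
  obtain ⟨E, hE, hE', hE0, ⟨e⟩⟩ := Agent.DRing.TwoTerm.exists_twoTerm K hK
  obtain ⟨E', hF, hF', hF0, ⟨e'⟩⟩ := Agent.DRing.TwoTerm.exists_twoTerm K' hK'
  obtain ⟨g, hg⟩ := (Agent.DRing.TwoTerm.exists_hom_unique hE hE0 hF').1 (e.hom ≫ α ≫ e'.inv)
  obtain ⟨h, hh⟩ := (Agent.DRing.TwoTerm.annihilates_iff hE hE0 hE' e a).1 fun M _ _ η => hI M a ha η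
  obtain ⟨k, hk, -⟩ := Agent.DRing.TwoTerm.exists_factor_transfer g hE hF hF' hF0
    ((Agent.DRing.TwoTerm.homologyMap_of_D g α e e' hg 0).1 h0)
    ((Agent.DRing.TwoTerm.homologyMap_of_D g α e e' hg (-1)).2 h1) a LinearMap.id
    ((g.f (-1)).hom.comp h.hom) (fun x => by
      rw [LinearMap.comp_apply, show h.hom ((E.d (-1) 0).hom x) = a • x from
        congrArg (fun q => q.hom x) hh, map_smul]
      rfl)
  exact (Agent.DRing.TwoTerm.annihilates_iff hF hF0 hF' e' a).2
    ⟨ModuleCat.ofHom k, ModuleCat.hom_ext (LinearMap.ext hk)⟩ N ξ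

end Groth.Agent.S7083
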