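import Groth.Statements.S7084
import Groth.Agent.DRing.Nilpotent

set_option autoImplicit false
universe u
attribute [local instance] HasDerivedCategory.standard
open CategoryTheory
open LocCoh

namespace Groth.Agent.S7084

open CategoryTheory CategoryTheory.Limits CategoryTheory.MonoidalCategory Groth.Agent.DRing DBasic Homology DRing.KFlat TorAmp PC

/-- dévissage along the powers of an ideal -/
theorem exactAt_of_killed_pow {A : Type u} [CommRing A] (I : Ideal A) (P : DRing.Cx A)
    (hP : ∀ j, Module.Flat A (P.X j)) (i : ℤ)
    (h : ∀ N : ModuleCat.{u} A, (∀ a ∈ I, ∀ x : N, a • x = 0) → (DRing.tensorCx P N).ExactAt i) :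
    ∀ (n : ℕ) (N : ModuleCat.{u} A), (∀ a ∈ I ^ n, ∀ x : N, a • x = 0) →
      (DRing.tensorCx P N).ExactAt i := by
  intro n
  induction n with
  | zero => exact fun N hN => h N fun a _ x => hN a (by simp) x
  | succ n ih =>
    intro N hN
    let S := ShortComplex.moduleCatMk (I • ⊤ : Submodule A N).subtype (I • ⊤ : Submodule A N).mkQ
      (LinearMap.ext fun x => (Submodule.Quotient.mk_eq_zero _).2 x.2)
    have hS : S.ShortExact :=
      { exact := (ShortComplex.ShortExact.moduleCat_exact_iff_function_exact S).2
          (LinearMap.exact_subtype_mkQ _)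
        mono_f := (ModuleCat.mono_iff_injective _).2 (Submodule.injective_subtype _)
        epi_g := (ModuleCat.epi_iff_surjective _).2 (Submodule.mkQ_surjective _) }
    obtain ⟨h0, hse⟩ := DerComplete.shortExact_tmap P hP S hS
    have h1 : (DRing.tensorCx P S.X₁).ExactAt i := by
      refine ih _ fun a ha x => ?_
      obtain ⟨x, hx⟩ := x
      refine Subtype.ext ?_
      change a • x = 0
      refine Submodule.smul_induction_on hx (fun b hb y _ => ?_) (fun y z hy hz => by rw [smul_add, hy, hz, add_zero])
      rw [smul_smul]
      exact hN _ (by rw [pow_succ]; exact Ideal.mul_mem_mul ha hb) y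
    have h3 : (DRing.tensorCx P S.X₃).ExactAt i := by
      refine h _ fun a ha x => ?_
      obtain ⟨x, rfl⟩ := Submodule.mkQ_surjective _ x
      exact ((I • ⊤ : Submodule A N).mkQ.map_smul a x).symm.trans
        ((Submodule.Quotient.mk_eq_zero _).2 (Submodule.smul_mem_smul ha trivial))
    rw [HomologicalComplex.exactAt_iff_isZero_homology] at h1 h3 ⊢
    exact (hse.homology_exact₂ i).isZero_of_both_zeros (h1.eq_of_src _ _) (h3.eq_of_tgt _ _)


/-- Parts (1)–(2) in the case of a module killed by a power of the ideal: let R be a commutative ring, I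
an ideal and K an object of D(R) such that K ⊗^L_R R/I has no cohomology in positive degrees. Then
for every R-module N annihilated by some power of I, K ⊗^L_R N has no cohomology in positive
degrees. (The published statement allows any I-power torsion module N; this row takes N annihilated
by a single power of I, the case the published argument carries out in full, which contains the case
N = R/I^n.) The derived tensor products with modules are total left derived functors, assumed to
exist. -/
theorem result {R : Type u} [CommRing R] (I : Ideal R)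
    [DRing.HasLTensor R (ModuleCat.of R (R ⧸ I))] (K : Dual.D R)
    (hK : ∀ i : ℤ, 0 < i → Subsingleton (Dual.HD R ((DRing.LTensor R (ModuleCat.of R (R ⧸ I))).obj K) i))
    (N : Type u) [AddCommGroup N] [Module R N] (n : ℕ) (hN : I ^ n • (⊤ : Submodule R N) = ⊥)
    [DRing.HasLTensor R (ModuleCat.of R N)] (i : ℤ) (hi : 0 < i) :
    Subsingleton (Dual.HD R ((DRing.LTensor R (ModuleCat.of R N)).obj K) i) := by
  obtain ⟨P, hP, hproj, ⟨e⟩⟩ := exists_kproj_iso K
  have hflat : IsKFlat P := isKFlat_of_isKProjective P
  have hT : ∀ (M : ModuleCat.{u} R) [DRing.HasLTensor R M] (j : ℤ),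
      Subsingleton (Dual.HD R ((DRing.LTensor R M).obj K) j) ↔ (DRing.tensorCx P M).ExactAt j := fun M _ j => by
    rw [← subsingleton_HD_congr ((DRing.LTensor R M).mapIso e) j,
      subsingleton_HD_congr (LTensor.LTensorIso _ hflat) j, subsingleton_HD_toD_iff,
      HomologicalComplex.exactAt_iff_isZero_homology]
  let φ : R →+* R ⧸ I := Ideal.Quotient.mk I
  let Q₀ := (LTensor.extCx φ).obj P
  have := DerComplete.isKProjective_extCx φ P
  have hQv : ∀ j, 0 < j → Q₀.ExactAt j := fun j hj => by
    have e1 := (NatIso.mapHomologicalComplex (SingleTensor.restrictExtendIso φ) (ComplexShape.up ℤ)).app P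
    have h1 : IsZero ((((ModuleCat.extendScalars.{u, u, u} φ ⋙ ModuleCat.restrictScalars φ).mapHomologicalComplex
        (ComplexShape.up ℤ)).obj P).homology j) := by
      refine IsZero.of_iso ?_ ((HomologicalComplex.homologyFunctor _ _ j).mapIso e1)
      exact ((hT _ j).1 (hK j hj)).isZero_homology
    rw [HomologicalComplex.exactAt_iff]
    exact (ShortComplex.exact_map_iff_of_faithful _ (ModuleCat.restrictScalars φ)).1
      ((ShortComplex.exact_iff_isZero_homology _).2 h1)
  obtain ⟨P', π, hb, hp, hq⟩ := Trunc.exists_projRes Q₀ 0 hQv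
  refine (hT _ i).2 (exactAt_of_killed_pow I P (fun j => have := hproj j; inferInstance) i (fun N₀ hN₀ => ?_) n
    _ fun a ha x => ?_)
  · refine Nilp.exactAt_tensor_killed φ Ideal.Quotient.mk_surjective P N₀ i
      (fun a ha => hN₀ a (by simpa [φ] using ha)) fun N' => ?_
    have := SingleTensor.quasiIso_tensorRight N' π (isKFlat_of_projective hb hp)
      (isKFlat_of_isKProjective Q₀)
    exact (exactAt_iff_of_quasiIso (((tensorRight N').mapHomologicalComplex (ComplexShape.up ℤ)).map π) i).1
      (((DRing.tensorCx P' N').exactAt_iff i).2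
        (ShortComplex.exact_of_isZero_X₂ _ ((tensorRight N').map_isZero (hb i hi))))
  · exact (Submodule.mem_bot R).1 (hN.le (Submodule.smul_mem_smul ha Submodule.mem_top))

end Groth.Agent.S7084
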