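import Groth.Statements.S7085
import Groth.Agent.LocCoh.Torsion

set_option autoImplicit false
universe u
open LocCoh

namespace Groth.Agent.S7085

/-- Let R be a commutative ring, I an ideal generated by finitely many elements f_1, …, f_t, and M an
R-module. Then: M has no nonzero element killed by I if and only if it has no nonzero element killed
by I^n for every n ≥ 1; and M has no nonzero element killed by I if and only if an element of M
vanishing in every localization M_{f_i} is zero. -/
theorem result {R : Type u} [CommRing R] {t : ℕ} (f : Fin t → R)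
    (I : Ideal R) (hI : Ideal.span (Set.range f) = I) (M : Type u) [AddCommGroup M] [Module R M] :
    (LocCoh.torsionBy I M = ⊥ ↔ ∀ n : ℕ, 1 ≤ n → LocCoh.torsionBy (I ^ n) M = ⊥) ∧
    (LocCoh.torsionBy I M = ⊥ ↔
      ∀ m : M, (∀ i : Fin t, LocalizedModule.mkLinearMap (Submonoid.powers (f i)) M m = 0) → m = 0) := by
  subst hI
  have h1 : ∀ n : ℕ, LocCoh.torsionBy (Ideal.span (Set.range f)) M = ⊥ →
      LocCoh.torsionBy (Ideal.span (Set.range f) ^ n) M = ⊥ := fun n h =>
    (Submodule.eq_bot_iff _).mpr fun m hm => Groth.Agent.LocCoh.eq_zero_of_pow_smul_eq_zero h n m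
      fun a ha => (Submodule.mem_torsionBySet_iff _ _).mp hm ⟨a, ha⟩
  refine ⟨⟨fun h n _ => h1 n h, fun h => by simpa using h 1 le_rfl⟩, ⟨fun h m hm => ?_, fun h => ?_⟩⟩
  · obtain ⟨n, hn⟩ : ∃ n, ∀ a ∈ Ideal.span (Set.range f) ^ n, a • m = 0 := by
      have hle : Ideal.span (Set.range f) ≤
          Ideal.radical (LinearMap.ker (LinearMap.toSpanSingleton R M m)) := by
        rw [Ideal.span_le]
        rintro _ ⟨i, rfl⟩
        obtain ⟨⟨c, k, rfl⟩, hc⟩ :=
          (IsLocalizedModule.eq_zero_iff (Submonoid.powers (f i)) _).mp (hm i)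
        exact ⟨k, hc⟩
      obtain ⟨n, hn⟩ := Ideal.exists_pow_le_of_le_radical_of_fg hle
        (Submodule.fg_span (Set.finite_range f))
      exact ⟨n, fun a ha => hn ha⟩
    exact Groth.Agent.LocCoh.eq_zero_of_pow_smul_eq_zero h n m hn
  · refine (Submodule.eq_bot_iff _).mpr fun m hm => h m fun i => ?_
    refine (IsLocalizedModule.eq_zero_iff (Submonoid.powers (f i)) _).mpr
      ⟨⟨f i, Submonoid.mem_powers _⟩, ?_⟩
    exact (Submodule.mem_torsionBySet_iff _ _).mp hm ⟨f i, Ideal.subset_span ⟨i, rfl⟩⟩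

end Groth.Agent.S7085
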