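import Groth.Statements.S7087
import Mathlib.LinearAlgebra.Finsupp.LinearCombination
import Mathlib.Algebra.BigOperators.Pi
import Mathlib.Tactic.Abel


set_option autoImplicit false
universe u
open LocCoh

namespace Groth.Agent.S7087

/-- Let R be a commutative ring and f_1, …, f_n elements generating an ideal I. Let M be the module with
generators e_1, …, e_n and relations f_i e_j = f_j e_i. Then e_i ↦ f_i defines a surjection M → I
whose kernel is annihilated by I. Elementwise: if a tuple (a_1, …, a_n) in R^n satisfies Σ a_i f_i =
0, then for every b in I the tuple b • a lies in the submodule of R^n spanned by the vectors f_i e_j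
− f_j e_i. -/
theorem result {R : Type u} [CommRing R] {n : ℕ} (f : Fin n → R)
    (a : Fin n → R) (ha : ∑ i, a i * f i = 0) (b : R) (hb : b ∈ Ideal.span (Set.range f)) :
    b • a ∈ Submodule.span R {v : Fin n → R | ∃ i j : Fin n, v = f i • Pi.single j (1 : R) - f j • Pi.single i (1 : R)} := by
  classical
  refine Submodule.span_induction (p := fun b _ => b • a ∈ Submodule.span R _) ?_ ?_ ?_ ?_ hb
  · rintro _ ⟨k, rfl⟩
    have : f k • a = ∑ i, a i • (f k • Pi.single i (1 : R) - f i • Pi.single k (1 : R)) := by
      ext j
      simp only [Finset.sum_apply, Pi.smul_apply, Pi.sub_apply, smul_eq_mul, mul_sub,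
        Finset.sum_sub_distrib, Pi.single_apply, mul_ite, mul_one, mul_zero]
      rw [Finset.sum_ite_eq, if_pos (Finset.mem_univ _)]
      split_ifs with hj
      · simp only [mul_comm (f _)] at *
        rw [ha, sub_zero]
      · simp [mul_comm]
    rw [this]
    exact Submodule.sum_mem _ fun i _ => Submodule.smul_mem _ _ (Submodule.subset_span ⟨k, i, rfl⟩)
  · simp
  · intro x y _ _ hx hy; rw [add_smul]; exact add_mem hx hy
  · intro r x _ hx; rw [smul_assoc]; exact Submodule.smul_mem _ _ hx

end Groth.Agent.S7087
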