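import Groth.Statements.S7089
import Mathlib.CategoryTheory.Abelian.Projective.Resolution
import Mathlib.Algebra.Category.ModuleCat.Abelian
import Mathlib.Algebra.DirectSum.Module

set_option autoImplicit false
universe u
open CategoryTheory
open LocCoh

namespace Groth.Agent.S7089

variable {R : Type u} [CommRing R] (I : Ideal R)

open Classical in
/-- exponent killing an element (`0` if none) -/
noncomputable def expo {M : Type u} [AddCommGroup M] [Module R M] (m : M) : ℕ :=
  if h : ∃ n : ℕ, ∀ a ∈ I ^ n, a • m = 0 then Classical.choose h else 0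

/-- cover by sums of `R/I^n` -/
noncomputable abbrev cov (M : ModuleCat.{u} R) : ModuleCat.{u} R :=
  ModuleCat.of R (DirectSum (M : Type u) fun m => R ⧸ I ^ expo I m)

open Classical in
/-- the covering map -/
noncomputable def covπ (M : ModuleCat.{u} R) : cov I M ⟶ M :=
  ModuleCat.ofHom (DirectSum.toModule R M M fun m =>
    if h : ∀ a ∈ I ^ expo I m, a • m = 0 then
      Submodule.liftQ (I ^ expo I m) (LinearMap.toSpanSingleton R M m) (fun a ha => LinearMap.mem_ker.mpr (h a ha)) else 0)

theorem covπ_surjective {M : ModuleCat.{u} R} (hM : LocCoh.IsPowerTorsion I M) :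
    Function.Surjective (covπ I M).hom := fun m => by
  classical
  have h : ∀ a ∈ I ^ expo I m, a • m = 0 := by
    rw [expo, dif_pos (hM m)]
    exact Classical.choose_spec (hM m)
  refine ⟨DirectSum.lof R (M : Type u) (fun m => R ⧸ I ^ expo I m) m (Submodule.Quotient.mk 1), ?_⟩
  show (DirectSum.toModule R M M _) _ = m
  rw [DirectSum.toModule_lof, dif_pos h]
  exact one_smul R m

theorem isPowerTorsion_cov (M : ModuleCat.{u} R) : LocCoh.IsPowerTorsion I (cov I M) := fun z => by
  classical
  induction z using DirectSum.induction_on with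
  | zero => exact ⟨0, fun a _ => smul_zero a⟩
  | of m x =>
    refine ⟨expo I m, fun a ha => ?_⟩
    obtain ⟨r, rfl⟩ := Submodule.Quotient.mk_surjective _ x
    rw [← DirectSum.lof_eq_of R, ← map_smul, ← Submodule.Quotient.mk_smul,
      (Submodule.Quotient.mk_eq_zero _).mpr (show a • r ∈ I ^ expo I m from (I ^ expo I m).mul_mem_right r ha), map_zero]
  | add x y hx hy =>
    obtain ⟨n, hn⟩ := hx
    obtain ⟨k, hk⟩ := hy
    exact ⟨n + k, fun a ha => by
      rw [smul_add, hn a (Ideal.pow_le_pow_right (n.le_add_right k) ha),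
        hk a (Ideal.pow_le_pow_right (k.le_add_left n) ha), add_zero]⟩

/-- differential into the source of `f` -/
noncomputable def covD {X Y : ModuleCat.{u} R} (f : X ⟶ Y) : cov I (Limits.kernel f) ⟶ X :=
  covπ I (Limits.kernel f) ≫ Limits.kernel.ι f

theorem covD_comp {X Y : ModuleCat.{u} R} (f : X ⟶ Y) : covD I f ≫ f = 0 := by simp [covD]

theorem exact_covD {X Y : ModuleCat.{u} R} (f : X ⟶ Y) (hX : LocCoh.IsPowerTorsion I X) :
    (ShortComplex.mk (covD I f) f (covD_comp I f)).Exact := by
  have : Epi (covπ I (Limits.kernel f)) := (ModuleCat.epi_iff_surjective _).mpr (covπ_surjective I fun x => by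
    obtain ⟨n, hn⟩ := hX ((Limits.kernel.ι f).hom x)
    exact ⟨n, fun a ha => (ModuleCat.mono_iff_injective (Limits.kernel.ι f)).mp inferInstance
      (((Limits.kernel.ι f).hom.map_smul a x).trans ((hn a ha).trans (map_zero _).symm))⟩)
  let α : ShortComplex.mk (covD I f) f (covD_comp I f) ⟶
      ShortComplex.mk (Limits.kernel.ι f) f (Limits.kernel.condition f) :=
    { τ₁ := covπ I (Limits.kernel f)
      τ₂ := 𝟙 _
      τ₃ := 𝟙 _
      comm₁₂ := by simp [covD]
      comm₂₃ := by simp }
  rw [ShortComplex.exact_iff_of_epi_of_isIso_of_mono α]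
  exact ShortComplex.exact_kernel f

/-- the complex -/
noncomputable def covCx (M : ModuleCat.{u} R) : ChainComplex (ModuleCat.{u} R) ℕ :=
  ChainComplex.mk' (cov I M) (cov I (Limits.kernel (covπ I M))) (covD I (covπ I M))
    fun f => ⟨_, covD I f, covD_comp I f⟩

theorem covCx_X (M : ModuleCat.{u} R) (n : ℕ) : ∃ N, (covCx I M).X n = cov I N := by
  obtain (_ | _ | _ | n) := n <;> exact ⟨_, rfl⟩

set_option backward.isDefEq.respectTransparency.types false in
theorem covCx_exactAt_succ (M : ModuleCat.{u} R) (n : ℕ) : (covCx I M).ExactAt (n + 1) := by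
  rw [HomologicalComplex.exactAt_iff' _ (n + 1 + 1) (n + 1) n (by simp) (by simp)]
  have ht : LocCoh.IsPowerTorsion I ((covCx I M).X (n + 1)) := by
    obtain ⟨N, hN⟩ := covCx_X I M (n + 1)
    exact hN.symm ▸ isPowerTorsion_cov I N
  revert ht
  simp only [HomologicalComplex.sc', HomologicalComplex.shortComplexFunctor', covCx,
    ChainComplex.mk', ChainComplex.mk, ChainComplex.of_d]
  match n with
  | 0 => intro ht; apply exact_covD I _ ht
  | n + 1 => intro ht; apply exact_covD I _ ht

set_option backward.isDefEq.respectTransparency.types false in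
theorem covCx_d (M : ModuleCat.{u} R) : (covCx I M).d 1 0 = covD I (covπ I M) := by
  simp [covCx]

/-- augmentation -/
noncomputable def covAug (M : ModuleCat.{u} R) : covCx I M ⟶ (ChainComplex.single₀ (ModuleCat.{u} R)).obj M :=
  (ChainComplex.toSingle₀Equiv _ _).symm ⟨covπ I M, by rw [covCx_d]; exact covD_comp I _⟩

set_option backward.defeqAttrib.useBackward true in
set_option backward.isDefEq.respectTransparency false in
theorem quasiIso_covAug {M : ModuleCat.{u} R} (hM : LocCoh.IsPowerTorsion I M) : QuasiIso (covAug I M) :=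
  ⟨fun n => by
    cases n
    · rw [ChainComplex.quasiIsoAt₀_iff, ShortComplex.quasiIso_iff_of_zeros']
      · refine (ShortComplex.exact_and_epi_g_iff_of_iso ?_).2
          ⟨exact_covD I (covπ I M) (isPowerTorsion_cov I M),
            (ModuleCat.epi_iff_surjective _).mpr (covπ_surjective I hM)⟩
        exact ShortComplex.isoMk (Iso.refl _) (Iso.refl _) (Iso.refl _)
          (by simp [covCx]) (by simp [covAug])
      all_goals rfl
    · rw [quasiIsoAt_iff_exactAt']
      · apply covCx_exactAt_succ
      · apply ChainComplex.exactAt_succ_single_obj⟩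

/-- Let R be a commutative ring, I an ideal and M an R-module in which every element is killed by a
power of I. Then M has a left resolution by modules each of which is a direct sum of copies of R/I^n
for varying n: there are a chain complex K of R-modules, a quasi-isomorphism from K to M placed in
degree 0, and for each i an isomorphism of K_i with such a direct sum. -/
theorem result {R : Type u} [CommRing R] (I : Ideal R)
    (M : Type u) [AddCommGroup M] [Module R M] (hM : LocCoh.IsPowerTorsion I M) :
    ∃ (K : ChainComplex (ModuleCat.{u} R) ℕ) (π : K ⟶ (ChainComplex.single₀ (ModuleCat.{u} R)).obj (ModuleCat.of R M)),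
      QuasiIso π ∧ ∀ i : ℕ, ∃ (ι : Type u) (n : ι → ℕ),
        Nonempty (K.X i ≅ ModuleCat.of R (DirectSum ι fun j => R ⧸ I ^ n j)) := by
  exact ⟨covCx I (ModuleCat.of R M), covAug I (ModuleCat.of R M), quasiIso_covAug I hM, fun i => by
    obtain ⟨N, hN⟩ := covCx_X I (ModuleCat.of R M) i
    exact ⟨N, fun m => expo I m, ⟨eqToIso hN⟩⟩⟩

end Groth.Agent.S7089
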