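import Groth.Statements.S7090
import Groth.Agent.EtGlueLib.FlatTorsion
import Groth.Agent.EtGlueLib.Basic

set_option autoImplicit false
universe u
open TensorProduct
open EtAlg

namespace Groth.Agent.S7090

/-- Let R → S be a flat homomorphism of commutative rings and I = (f_1, …, f_t) a finitely generated
ideal such that R/I → S/IS is bijective. Then for every R-module M the glueing complex 0 → M → (S
⊗_R M) × ∏ M_{f_i} → ∏ (S ⊗_R M)_{f_i} × ∏ M_{f_i f_j} is exact. Concretely: an element of M with
zero image in S ⊗_R M and in every M_{f_i} is zero; and given x in S ⊗_R M and elements m_1, …, m_t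
of M and N ≥ 0 such that x and m_i / f_i^N have the same image in (S ⊗_R M)_{f_i} for each i, and
m_i / f_i^N, m_j / f_j^N have the same image in M_{f_i f_j} for all i, j, there is m in M with 1 ⊗ m
= x and m / 1 = m_i / f_i^N in M_{f_i} for every i. -/
theorem result {R S : Type u} [CommRing R] [CommRing S] [Algebra R S] [Module.Flat R S]
    {t : ℕ} (f : Fin t → R) (I : Ideal R) (hI : Ideal.span (Set.range f) = I)
    (hq : Function.Bijective
      (Ideal.quotientMap (Ideal.map (algebraMap R S) I) (algebraMap R S) Ideal.le_comap_map))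
    (M : Type u) [AddCommGroup M] [Module R M] :
    (∀ m : M, (1 : S) ⊗ₜ[R] m = 0 →
        (∀ i : Fin t, LocalizedModule.mkLinearMap (Submonoid.powers (f i)) M m = 0) → m = 0) ∧
    ∀ (x : S ⊗[R] M) (N : ℕ) (m : Fin t → M),
      (∀ i : Fin t, EtGlue.locOfTensor R S (f i) M x =
          EtGlue.tensorOfLoc R S (f i) M (LocalizedModule.mk (m i) ⟨f i ^ N, Submonoid.pow_mem _ (Submonoid.mem_powers (f i)) N⟩)) →
      (∀ i j : Fin t, ∃ e : ℕ, (f i * f j) ^ e • (f j ^ N • m i - f i ^ N • m j) = 0) →
        ∃ μ : M, (1 : S) ⊗ₜ[R] μ = x ∧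
          ∀ i : Fin t, LocalizedModule.mkLinearMap (Submonoid.powers (f i)) M μ =
            LocalizedModule.mk (m i) ⟨f i ^ N, Submonoid.pow_mem _ (Submonoid.mem_powers (f i)) N⟩ := by
  classical
  have hIK : ∀ n : ℕ, ∃ K : ℕ, I ^ K ≤ Ideal.span (Set.range fun i => f i ^ n) := by
    intro n
    refine Ideal.exists_pow_le_of_le_radical_of_fg ?_ (hI ▸ Submodule.fg_span (Set.finite_range f))
    rw [← hI, Ideal.span_le]
    rintro _ ⟨i, rfl⟩
    exact ⟨n, Ideal.subset_span ⟨i, rfl⟩⟩
  have htors : ∀ {T : Type u} [AddCommGroup T] [Module R T], (∃ n : ℕ, ∀ (i : Fin t) (x : T), f i ^ n • x = 0) →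
      Function.Bijective (TensorProduct.mk R S T 1) := by
    intro T _ _ hT
    obtain ⟨n, hn⟩ := hT
    obtain ⟨K, hK⟩ := hIK n
    refine Groth.Agent.EtGlueLib.FlatTorsion.mk_bijective_of_pow_killed hq K (fun a ha x => ?_)
    have hle : Ideal.span (Set.range fun i => f i ^ n) ≤ LinearMap.ker (LinearMap.toSpanSingleton R T x) := by
      rw [Ideal.span_le]
      rintro _ ⟨i, rfl⟩
      exact hn i x
    exact hle (hK ha)
  have hsup : ∀ (e : Fin t → ℕ) (i : Fin t), e i ≤ Finset.univ.sup e := fun e i => Finset.le_sup (Finset.mem_univ i)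
  constructor
  · intro m hm hloc
    have h : ∀ i, ∃ n : ℕ, f i ^ n • m = 0 := fun i => by
      obtain ⟨⟨_, n, rfl⟩, hn⟩ := (IsLocalizedModule.eq_zero_iff (Submonoid.powers (f i)) _).mp (hloc i)
      exact ⟨n, hn⟩
    choose n hn using h
    have b : Function.Bijective (TensorProduct.mk R S (Submodule.span R {m}) 1) := by
      refine htors ⟨Finset.univ.sup n, fun i x => Subtype.ext ?_⟩
      obtain ⟨r, hr⟩ := Submodule.mem_span_singleton.mp x.2
      show f i ^ Finset.univ.sup n • (x : M) = 0
      rw [← hr, smul_comm, ← Nat.sub_add_cancel (hsup n i), pow_add, mul_smul, hn, smul_zero, smul_zero]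
    have h2 : (⟨m, Submodule.mem_span_singleton_self m⟩ : Submodule.span R {m}) = 0 := b.1 (by
      rw [map_zero, TensorProduct.mk_apply]
      refine Module.Flat.lTensor_preserves_injective_linearMap (M := S) (Submodule.span R {m}).subtype
        Subtype.val_injective ?_
      rw [map_zero, LinearMap.lTensor_tmul]
      exact hm)
    simpa using congrArg Subtype.val h2
  · intro x N m hx hcomp
    have h1 : ∀ i, ∃ k : ℕ, f i ^ k • (f i ^ N • x - (1 : S) ⊗ₜ[R] m i) = 0 := by
      intro i
      refine (Groth.Agent.EtGlueLib.localized_eq_zero_iff (f := f i) (X := S ⊗[R] M) _).mp ?_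
      show EtGlue.locOfTensor R S (f i) M _ = 0
      rw [map_sub, map_smul, hx i, ← map_smul (EtGlue.tensorOfLoc R S (f i) M), sub_eq_zero,
        ← Groth.Agent.EtGlueLib.tensorOfLoc_mkLinearMap]
      congr 1
      rw [LocalizedModule.smul'_mk, LocalizedModule.mkLinearMap_apply, LocalizedModule.mk_eq]
      exact ⟨1, by simp [Submonoid.smul_def]⟩
    choose k hk using h1
    choose e he using hcomp
    let E := Finset.univ.sup k + Finset.univ.sup (fun i => Finset.univ.sup (e i))
    have hkE : ∀ i, k i ≤ E := fun i => (hsup k i).trans (Nat.le_add_right _ _)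
    have heE : ∀ i j, e i j ≤ E := fun i j =>
      ((hsup (e i) j).trans (hsup (fun i => Finset.univ.sup (e i)) i)).trans (Nat.le_add_left _ _)
    let a : Fin t → R := fun i => f i ^ (E + N)
    let n : Fin t → M := fun i => f i ^ E • m i
    have hax : ∀ i, a i • x = (1 : S) ⊗ₜ[R] n i := fun i => by
      have := congrArg (fun z => f i ^ (E - k i) • z) (hk i)
      simp only [smul_zero] at this
      rw [← mul_smul, ← pow_add, Nat.sub_add_cancel (hkE i), smul_sub, sub_eq_zero, ← mul_smul, ← pow_add] at this
      rw [show a i = f i ^ (E + N) from rfl, this]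
      exact (TensorProduct.tmul_smul _ _ _).symm
    have han : ∀ i j, a j • n i = a i • n j := fun i j => by
      have := congrArg (fun z => (f i * f j) ^ (E - e i j) • z) (he i j)
      simp only [smul_zero] at this
      rw [← mul_smul, ← pow_add, Nat.sub_add_cancel (heE i j), smul_sub, sub_eq_zero, smul_smul, smul_smul,
        mul_pow] at this
      rw [show a j • n i = (f i ^ E * f j ^ E * f j ^ N) • m i from by
          show f j ^ (E + N) • f i ^ E • m i = _
          rw [smul_smul, pow_add]; ring_nf,
        this, show a i • n j = (f i ^ E * f j ^ E * f i ^ N) • m j from by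
          show f i ^ (E + N) • f j ^ E • m j = _
          rw [smul_smul, pow_add]; ring_nf]
    let β : M →ₗ[R] (Fin t → M) := LinearMap.pi fun i => a i • LinearMap.id
    let Φ := TensorProduct.piRight R R S (fun _ : Fin t => M)
    have hΦ : ∀ z i, Φ (β.lTensor S z) i = a i • z := by
      intro z i
      induction z with
      | zero => simp
      | tmul s μ =>
        rw [LinearMap.lTensor_tmul, TensorProduct.piRight_apply, TensorProduct.piRightHom_tmul]
        exact TensorProduct.tmul_smul _ _ _
      | add u v hu hv => rw [map_add, map_add, Pi.add_apply, hu, hv, smul_add]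
    have hxn : β.lTensor S x = (1 : S) ⊗ₜ[R] n := by
      apply Φ.injective
      funext i
      rw [hΦ, hax, TensorProduct.piRight_apply, TensorProduct.piRightHom_tmul]
    obtain ⟨μ₀, hμ₀⟩ : ∃ μ : M, β μ = n := by
      let C := (Fin t → M) ⧸ LinearMap.range β
      let q : (Fin t → M) →ₗ[R] C := (LinearMap.range β).mkQ
      have b : Function.Bijective (TensorProduct.mk R S (Submodule.span R {q n}) 1) := by
        refine htors ⟨E + N, fun j z => Subtype.ext ?_⟩
        obtain ⟨r, hr⟩ := Submodule.mem_span_singleton.mp z.2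
        show f j ^ (E + N) • (z : C) = 0
        rw [← hr, smul_comm]
        have : f j ^ (E + N) • q n = 0 := by
          rw [← map_smul, Submodule.mkQ_apply, Submodule.Quotient.mk_eq_zero]
          exact ⟨n j, funext fun i => (han i j).symm⟩
        rw [this, smul_zero]
      have h2 : (⟨q n, Submodule.mem_span_singleton_self _⟩ : Submodule.span R {q n}) = 0 := b.1 (by
        rw [map_zero, TensorProduct.mk_apply]
        refine Module.Flat.lTensor_preserves_injective_linearMap (M := S) (Submodule.span R {q n}).subtype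
          Subtype.val_injective ?_
        rw [map_zero, LinearMap.lTensor_tmul, Submodule.subtype_apply, ← LinearMap.lTensor_tmul, ← hxn,
          ← LinearMap.comp_apply, ← LinearMap.lTensor_comp]
        rw [show q ∘ₗ β = 0 from LinearMap.ext fun μ => (Submodule.Quotient.mk_eq_zero _).mpr ⟨μ, rfl⟩,
          LinearMap.lTensor_zero, LinearMap.zero_apply])
      exact (Submodule.Quotient.mk_eq_zero _).mp (congrArg Subtype.val h2)
    have hker : β.lTensor S (x - (1 : S) ⊗ₜ[R] μ₀) = 0 := by
      rw [map_sub, hxn, LinearMap.lTensor_tmul, hμ₀, sub_self]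
    obtain ⟨z, hz⟩ := (Module.Flat.lTensor_exact S (LinearMap.exact_subtype_ker_map β) _).mp hker
    have bK : Function.Bijective (TensorProduct.mk R S (LinearMap.ker β) 1) :=
      htors ⟨E + N, fun i τ => Subtype.ext (congrFun τ.2 i)⟩
    obtain ⟨τ, rfl⟩ := bK.2 z
    rw [TensorProduct.mk_apply, LinearMap.lTensor_tmul, Submodule.subtype_apply] at hz
    refine ⟨μ₀ + τ, by rw [TensorProduct.tmul_add, hz, add_sub_cancel], fun i => ?_⟩
    have hμ : a i • (μ₀ + (τ : M)) = n i := by
      rw [smul_add, show a i • (τ : M) = 0 from congrFun τ.2 i, add_zero]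
      exact congrFun hμ₀ i
    rw [LocalizedModule.mkLinearMap_apply, LocalizedModule.mk_eq]
    refine ⟨⟨f i ^ E, Submonoid.pow_mem _ (Submonoid.mem_powers _) E⟩, ?_⟩
    simp only [Submonoid.smul_def, OneMemClass.coe_one, one_smul]
    rw [smul_smul, ← pow_add]
    exact hμ

end Groth.Agent.S7090
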