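import Groth.Statements.S7093
import Groth.Agent.DRing.Perfect

set_option autoImplicit false
universe u
attribute [local instance] HasDerivedCategory.standard
open CategoryTheory CategoryTheory.Limits
open Dual2

namespace Groth.Agent.S7093

open CategoryTheory CategoryTheory.Pretriangulated Groth.Agent.DRing

variable {R A : Type u} [CommRing R] [CommRing A] [Algebra R A]


lemma relPerfect_of_iso {K L : Dual.D A} (e : K ≅ L) (h : Dual2.IsRelPerfect R A K) :
    Dual2.IsRelPerfect R A L := by
  obtain ⟨h1, a, b, h2⟩ := h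
  exact ⟨PC.pc'_of_iso e h1, a, b, TorAmp.torAmp_of_iso ((DRing.restrictD (algebraMap R A)).mapIso e) h2⟩

lemma relPerfect_retract {K W : Dual.D A} (g : K ⟶ W) (h : W ⟶ K) (hgh : g ≫ h = 𝟙 K)
    (hW : Dual2.IsRelPerfect R A W) : Dual2.IsRelPerfect R A K := by
  obtain ⟨h1, a, b, h2⟩ := hW
  refine ⟨?_, a, b, TorAmp.torAmp_of_retract ((DRing.restrictD (algebraMap R A)).map g) ((DRing.restrictD (algebraMap R A)).map h)
    (by rw [← Functor.map_comp, hgh, CategoryTheory.Functor.map_id]) h2⟩
  obtain ⟨K', q, r, hT⟩ := distinguished_cocone_triangle g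
  have hr : r = 0 := by
    have h0 : r ≫ g⟦(1 : ℤ)⟧' = 0 := comp_distTriang_mor_zero₃₁ _ hT
    have := congrArg (· ≫ h⟦(1 : ℤ)⟧') h0
    simp only [Category.assoc, ← Functor.map_comp, hgh, Limits.zero_comp, CategoryTheory.Functor.map_id,
      Category.comp_id] at this
    exact this
  obtain ⟨e, -, -⟩ := exists_iso_binaryBiproduct_of_distTriang _ hT hr
  exact (PC.pc'_of_biprod (PC.pc'_of_iso e h1)).1


/-- For a flat homomorphism of finite presentation R → A of commutative rings, the R-perfect objects of
D(A) (pseudo-coherent over A, finite tor dimension over R) form a strictly full, saturated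
triangulated subcategory: the property is a triangulated object property (contains zero, stable
under shifts and under extensions in distinguished triangles), is closed under isomorphisms, and
passes to direct summands. -/
theorem result (R A : Type u) [CommRing R] [CommRing A] [Algebra R A]
    [Module.Flat R A] [Algebra.FinitePresentation R A] :
    ObjectProperty.IsTriangulated (C := Dual.D A) (fun K => Dual2.IsRelPerfect R A K) ∧
      ObjectProperty.IsClosedUnderIsomorphisms (C := Dual.D A) (fun K => Dual2.IsRelPerfect R A K) ∧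
      ∀ X Y : Dual.D A, Dual2.IsRelPerfect R A (X ⊞ Y) → Dual2.IsRelPerfect R A X ∧ Dual2.IsRelPerfect R A Y := by
  refine ⟨?_, ⟨relPerfect_of_iso⟩, fun X Y h => ⟨relPerfect_retract Limits.biprod.inl Limits.biprod.fst
    Limits.biprod.inl_fst h, relPerfect_retract Limits.biprod.inr Limits.biprod.snd Limits.biprod.inr_snd h⟩⟩
  refine
    { exists_zero := ?_
      isStableUnderShiftBy := fun n => ⟨fun K hK => ?_⟩
      ext₂' := fun T hT h₁ h₃ => ObjectProperty.le_isoClosure _ _
        ⟨PC.pc'_middle hT h₁.1 h₃.1,
          (Perfect.finiteTorDim_two_of_three ((DRing.restrictD (algebraMap R A)).map_distinguished T hT)).2.1 h₁.2 h₃.2⟩ }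
  · obtain ⟨Z, hZ⟩ := Limits.HasZeroObject.zero (C := Dual.D A)
    exact ⟨Z, hZ, ((Perfect.perfect_iff Z).1 (Perfect.perfect_of_isZero hZ)).1,
      ((Perfect.perfect_iff _).1 (Perfect.perfect_of_isZero ((DRing.restrictD (algebraMap R A)).map_isZero hZ))).2⟩
  · obtain ⟨h1, a, b, h2⟩ := hK
    exact ⟨PC.pc'_shift h1 n, a - n, b - n, TorAmp.torAmp_of_iso (((DRing.restrictD (algebraMap R A)).commShiftIso n).app K).symm
      (TorAmp.torAmp_shift h2 n (by omega) (by omega))⟩

end Groth.Agent.S7093
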