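import Groth.Statements.S7094
import Groth.Agent.DRing.RelPerf10.Criterion

set_option autoImplicit false
universe u
attribute [local instance] HasDerivedCategory.standard
open CategoryTheory
open Dual2

namespace Groth.Agent.S7094

/-- Let R → A be a flat homomorphism of finite presentation of commutative rings and K a pseudo-coherent
object of D(A). Then K is R-perfect if and only if H^i(K) = 0 for all sufficiently negative i and,
for each prime p of R, H^i(K ⊗^L_R κ(p)) = 0 for all sufficiently negative i; here K is viewed in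
D(R) by restriction of scalars and the derived tensor product with the residue field κ(p) is the
total left derived functor, assumed to exist. -/
theorem result (R A : Type u) [CommRing R] [CommRing A] [Algebra R A]
    [Module.Flat R A] [Algebra.FinitePresentation R A]
    [∀ p : PrimeSpectrum R, DRing.HasLTensor R (ModuleCat.of R p.asIdeal.ResidueField)]
    (K : Dual.D A) (hK : DRing.IsPseudoCoherent' A K) :
    Dual2.IsRelPerfect R A K ↔
      (∃ a : ℤ, ∀ i : ℤ, i < a → Subsingleton (Dual.HD A K i)) ∧
        ∀ p : PrimeSpectrum R, ∃ a : ℤ, ∀ i : ℤ, i < a →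
          Subsingleton (Dual.HD R ((DRing.LTensor R (ModuleCat.of R p.asIdeal.ResidueField)).obj
            ((DRing.restrictD (algebraMap R A)).obj K)) i) := by
  have hK0 := hK
  obtain ⟨E, c, hc, hf, ⟨e⟩⟩ := hK0
  have hfl : ∀ i, Module.Flat A (E.X i) := fun i => have := (hf i).2; inferInstance
  constructor
  · rintro ⟨-, a, b, h⟩
    refine ⟨⟨a, fun i hi => (Agent.DRing.PCRestrict.subsingleton_HD_restrict_iff (algebraMap R A) K i).1
      (Agent.DRing.TorAmp.torAmp_boundedHD h i (Or.inl hi))⟩, fun p => ⟨a, fun i hi => ?_⟩⟩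
    have hX : Agent.DRing.KFlat.IsKFlat ((DRing.restrictCx (algebraMap R A)).obj E) :=
      Agent.DRing.FlatFibres.isKFlat_restrictCx (A := R) hc hfl
    have hv := (Agent.DRing.TorAmp.hasTorAmp_iff hX (Agent.DRing.TensorAmp.restrictDIso (algebraMap R A) e) a b).1 h
      (ModuleCat.of R p.asIdeal.ResidueField) i (Or.inl hi)
    rw [HomologicalComplex.exactAt_iff_isZero_homology, ← Agent.DRing.DBasic.subsingleton_HD_toD_iff] at hv
    exact (Agent.DRing.DBasic.subsingleton_HD_congr (((DRing.LTensor R _).mapIso
      (Agent.DRing.TensorAmp.restrictDIso (algebraMap R A) e)).symm ≪≫ Agent.DRing.LTensor.LTensorIso _ hX) i).2 hv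
  · rintro ⟨⟨a₀, ha⟩, h⟩
    refine Agent.DRing.RelPerf10.isRelPerfect_of_fibres K hK a₀ ha fun E' c' hc' hf' ⟨e'⟩ p => ?_
    obtain ⟨a, hp⟩ := h p
    refine ⟨a, fun i hi => ?_⟩
    have hfl' : ∀ i, Module.Flat A (E'.X i) := fun i => have := (hf' i).2; inferInstance
    have hX : Agent.DRing.KFlat.IsKFlat ((DRing.restrictCx (algebraMap R A)).obj E') :=
      Agent.DRing.FlatFibres.isKFlat_restrictCx (A := R) hc' hfl'
    rw [HomologicalComplex.exactAt_iff_isZero_homology, ← Agent.DRing.DBasic.subsingleton_HD_toD_iff]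
    exact (Agent.DRing.DBasic.subsingleton_HD_congr (((DRing.LTensor R _).mapIso
      (Agent.DRing.TensorAmp.restrictDIso (algebraMap R A) e')).symm ≪≫ Agent.DRing.LTensor.LTensorIso _ hX) i).1 (hp i hi)

end Groth.Agent.S7094
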