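import Groth.Statements.S7102
import Groth.Agent.DRing.TensorAmp
import Groth.Agent.DRing.Perfect

set_option autoImplicit false
universe u
attribute [local instance] HasDerivedCategory.standard
open Dual2

namespace Groth.Agent.S7102

open CategoryTheory CategoryTheory.Limits CategoryTheory.MonoidalCategory Groth.Agent.DRing

/-- Let R → A be a flat homomorphism of finite presentation of commutative rings, E a bounded cochain
complex of finite projective A-modules (a perfect object of D(A)) for which the derived functor −
⊗^L_A E exists, and M an R-perfect object of D(A). Then M ⊗^L_A E is R-perfect. -/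
theorem result (R A : Type u) [CommRing R] [CommRing A] [Algebra R A]
    [Module.Flat R A] [Algebra.FinitePresentation R A] (E : DRing.Cx A) (a b : ℤ)
    (hEb : DRing.VanishesOutside E a b) (hEp : DRing.TermwiseFiniteProjective E) [DRing.HasLTensorCx A E]
    (M : Dual.D A) (hM : Dual2.IsRelPerfect R A M) :
    Dual2.IsRelPerfect R A ((DRing.LTensorCx A E).obj M) := by
  obtain ⟨hpc, c, d, hta⟩ := hM
  refine ⟨TensorAmp.pc'_LTensorCx hpc (Perfect.pc'_of_finiteProjective (fun i hi => hEb i (Or.inr hi)) hEp), a + c, b + d, ?_⟩
  obtain ⟨P, hP, -, ⟨e⟩⟩ := DBasic.exists_kproj_iso M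
  have hEproj : ∀ i, Module.Projective A (E.X i) := fun i => (hEp i).2
  have := DBasic.isKProjective_of_projective E b (fun i hi => hEb i (Or.inr hi)) hEproj
  obtain ⟨ι⟩ := TensorAmp.nonempty_LTensorCxIso (L := E) (KFlat.isKFlat_of_isKProjective P) e (Iso.refl (DRing.toD E))
  exact TorAmp.torAmp_of_iso (TensorAmp.restrictDIso (algebraMap R A)
      (DerivedCategory.Q.mapIso (Tensor.braid E P) ≪≫ ι.symm))
    (TensorAmp.torAmp_restrict_tensor (algebraMap R A) E P hEb
      (fun i => have := hEproj i; inferInstance)
      (TorAmp.torAmp_of_iso (TensorAmp.restrictDIso (algebraMap R A) e).symm hta))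

end Groth.Agent.S7102
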