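import Groth.Statements.S7104
import Groth.Agent.DRing.RelPerf10.Local
import Groth.Agent.DRing.BaseChangeAmp

set_option autoImplicit false
universe u
attribute [local instance] HasDerivedCategory.standard
open CategoryTheory
open Dual2

namespace Groth.Agent.S7104

/-- Let R be a commutative ring and A an R-algebra which is flat, of finite presentation, and a quotient
of the polynomial ring R[x_1, …, x_d]. Let q be a prime of A lying over the prime p of R, and K a
pseudo-coherent object of D(A). Write K_q for the derived base change of K to A_q (assumed to exist)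
and view it in D(R_p) and in D(R) by restriction of scalars. If the cohomology of K_q ⊗^L_{R_p} κ(p)
(derived tensor with the residue field, assumed to exist) vanishes outside the degrees in [a, b],
then K_q has tor amplitude in [a - d, b] as a complex of R-modules. -/
theorem result (R A : Type u) [CommRing R] [CommRing A] [Algebra R A]
    [Module.Flat R A] [Algebra.FinitePresentation R A] (d : ℕ)
    (ψ : MvPolynomial (Fin d) R →ₐ[R] A) (hψ : Function.Surjective ψ)
    (q : Ideal A) [q.IsPrime] (p : Ideal R) [p.IsPrime] (hpq : p = Ideal.comap (algebraMap R A) q)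
    [DRing.HasLBaseChange (algebraMap A (Localization.AtPrime q))]
    [DRing.HasLTensor (Localization.AtPrime p) (ModuleCat.of (Localization.AtPrime p) p.ResidueField)]
    (K : Dual.D A) (hK : DRing.IsPseudoCoherent' A K) (a b : ℤ)
    (hfib : ∀ i : ℤ, i < a ∨ b < i → Subsingleton (Dual.HD (Localization.AtPrime p)
      ((DRing.LTensor (Localization.AtPrime p) (ModuleCat.of (Localization.AtPrime p) p.ResidueField)).obj
        ((DRing.restrictD (Localization.localRingHom p q (algebraMap R A) hpq)).obj
          ((DRing.LBaseChange (algebraMap A (Localization.AtPrime q))).obj K))) i)) :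
    DRing.HasTorAmplitudeIn R (a - d) b
      ((DRing.restrictD (algebraMap R (Localization.AtPrime q))).obj
        ((DRing.LBaseChange (algebraMap A (Localization.AtPrime q))).obj K)) := by
  let φ := algebraMap A (Localization.AtPrime q)
  obtain ⟨E, c, hc, hf, ⟨e⟩⟩ := hK
  have hfl : ∀ i, Module.Flat A (E.X i) := fun i => have := (hf i).2; inferInstance
  have hE : Agent.DRing.KFlat.IsKFlat E :=
    Agent.DRing.KFlat.isKFlat_of_boundedAbove_flat _ c hc hfl
  let F := (Agent.DRing.LTensor.extCx φ).obj E
  have hFc : DRing.VanishesAbove F c := fun i hi => Agent.DRing.Perfect.isZero_extCx φ (hc i hi)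
  have hFf : ∀ i, Module.Flat (Localization.AtPrime q) (F.X i) := fun i =>
    Agent.DRing.Perfect.flat_extendScalars φ (hfl i)
  let eF : DRing.toD F ≅ (DRing.LBaseChange φ).obj K :=
    Agent.DRing.Perfect.baseChangeIsoOfRep φ hE e
  have hpc : DRing.IsPseudoCoherent' (Localization.AtPrime q) (DRing.toD F) :=
    Agent.DRing.PC.pc'_of_iso eF.symm (Agent.DRing.Perfect.pc'_baseChange φ ⟨E, c, hc, hf, ⟨e⟩⟩)
  let loc := Localization.localRingHom p q (algebraMap R A) hpq
  letI : Algebra (Localization.AtPrime p) (Localization.AtPrime q) := loc.toAlgebra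
  haveI : Module.Flat R (Localization.AtPrime q) := Module.Flat.trans R A _
  haveI : IsScalarTower R (Localization.AtPrime p) (Localization.AtPrime q) :=
    IsScalarTower.of_algebraMap_eq fun x => by
      rw [RingHom.algebraMap_toAlgebra, Localization.localRingHom_to_map]
      exact IsScalarTower.algebraMap_apply R A _ x
  haveI : Module.Flat (Localization.AtPrime p) (Localization.AtPrime q) :=
    (Module.flat_iff_of_isLocalization (Localization.AtPrime p) p.primeCompl (M := Localization.AtPrime q)).2 inferInstance
  have hY : Agent.DRing.KFlat.IsKFlat ((DRing.restrictCx loc).obj F) :=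
    Agent.DRing.FlatFibres.isKFlat_restrictCx (A := Localization.AtPrime p) hFc hFf
  refine Agent.DRing.TorAmp.torAmp_of_iso ((DRing.restrictD _).mapIso eF) ?_
  refine Agent.DRing.RelPerf10.torAmp_of_fibre ψ hψ q p hpq F c hFc hFf hpc a b fun i hi => ?_
  rw [HomologicalComplex.exactAt_iff_isZero_homology, ← Agent.DRing.DBasic.subsingleton_HD_toD_iff]
  exact (Agent.DRing.DBasic.subsingleton_HD_congr (((DRing.LTensor _ _).mapIso
    (Agent.DRing.TensorAmp.restrictDIso loc eF)).symm ≪≫ Agent.DRing.LTensor.LTensorIso _ hY) i).1 (hfib i hi)

end Groth.Agent.S7104
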