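import Groth.Prelude.Def_DRing2
import Mathlib.Algebra.Module.Projective
import Groth.Agent.DRing.TwoTerm
-- import your own Groth.Agent.* helpers here

set_option autoImplicit false
universe u
attribute [local instance] HasDerivedCategory.standard
open CategoryTheory
open DRing

namespace Groth.Agent.S7105

/-- Let R be a commutative ring, M a cochain complex of R-modules with M^i = 0 for i > 0 and M^0
projective, and K a cochain complex with K^i = 0 for all i ≤ -2. Then the canonical map
Hom_{K(R)}(M, K) → Hom_{D(R)}(M, K), from homotopy classes of chain maps to morphisms in the derived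
category, is bijective. -/
theorem result {R : Type u} [CommRing R] (M K : DRing.Cx R)
    (hM : ∀ i : ℤ, 0 < i → Limits.IsZero (M.X i)) (hM0 : Module.Projective R (M.X 0))
    (hK : ∀ i : ℤ, i ≤ -2 → Limits.IsZero (K.X i)) :
    Function.Bijective (fun φ : (HomotopyCategory.quotient (ModuleCat.{u} R) (ComplexShape.up ℤ)).obj M ⟶
        (HomotopyCategory.quotient (ModuleCat.{u} R) (ComplexShape.up ℤ)).obj K => DerivedCategory.Qh.map φ) := by
  obtain ⟨hs, hi⟩ := Agent.DRing.TwoTerm.exists_hom_unique hM hM0 hK
  refine ⟨fun φ ψ h => ?_, fun φ => ?_⟩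
  · obtain ⟨f, rfl⟩ := (HomotopyCategory.quotient _ _).map_surjective φ
    obtain ⟨g, rfl⟩ := (HomotopyCategory.quotient _ _).map_surjective ψ
    have hf := DerivedCategory.quotientCompQhIso_hom_naturality f
    have hg := DerivedCategory.quotientCompQhIso_hom_naturality g
    dsimp only at h
    rw [h] at hf
    obtain ⟨H⟩ := hi f g ((cancel_epi _).1 (hf.symm.trans hg))
    exact HomotopyCategory.eq_of_homotopy f g H
  · obtain ⟨f, hf⟩ := hs ((DerivedCategory.quotientCompQhIso (ModuleCat.{u} R)).inv.app M ≫ φ ≫
      (DerivedCategory.quotientCompQhIso (ModuleCat.{u} R)).hom.app K)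
    refine ⟨(HomotopyCategory.quotient _ _).map f, ?_⟩
    dsimp only
    have h := DerivedCategory.quotientCompQhIso_hom_naturality f
    rw [hf, Iso.hom_inv_id_app_assoc] at h
    exact (cancel_mono _).1 h

end Groth.Agent.S7105
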