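import Groth.Prelude.Def_DRing2
import Mathlib.Algebra.Module.Projective
import Groth.Agent.DRing.TwoTermExt
-- import your own Groth.Agent.* helpers here

set_option autoImplicit false
universe u
attribute [local instance] HasDerivedCategory.standard
open CategoryTheory
open DRing

namespace Groth.Agent.S7106

/-- Let R be a commutative ring, M a cochain complex of R-modules with M^i = 0 for i > 0 and M^0
projective, K a cochain complex with K^i = 0 for i outside [-1, 0] and K^0 projective, and a : M → K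
a chain map. Then precomposition with a is the zero map Ext^1_R(K, N) → Ext^1_R(M, N) (morphisms
into N[1] in D(R)) for every R-module N if and only if there is a map h : M^0 → K^{-1} with a^{-1} +
h ∘ d_M^{-1} = 0. (The published statement composes h^0 with the differential K^{-1} → K^0 of K,
which is not defined; this row composes it with the differential M^{-1} → M^0 of M, as the homotopy
in the published proof does.) -/
theorem result {R : Type u} [CommRing R] (M K : DRing.Cx R)
    (hM : ∀ i : ℤ, 0 < i → Limits.IsZero (M.X i)) (hM0 : Module.Projective R (M.X 0))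
    (hK : ∀ i : ℤ, i ≠ -1 → i ≠ 0 → Limits.IsZero (K.X i)) (hK0 : Module.Projective R (K.X 0))
    (a : M ⟶ K) :
    (∀ (N : Type u) [AddCommGroup N] [Module R N] (ξ : DRing.toD K ⟶ (Dual.inD R N)⟦(1 : ℤ)⟧),
        DerivedCategory.Q.map a ≫ ξ = 0) ↔
      ∃ h : M.X 0 ⟶ K.X (-1), a.f (-1) + M.d (-1) 0 ≫ h = 0 := by
  have hK' : ∀ i : ℤ, i ≤ -2 → Limits.IsZero (K.X i) := fun i hi => hK i (by omega) (by omega)
  have hK2 : ∀ i : ℤ, 0 < i → Limits.IsZero (K.X i) := fun i hi => hK i (by omega) (by omega)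
  have key : ∀ {N : ModuleCat.{u} R} (f : K.X (-1) ⟶ N),
      DerivedCategory.Q.map (a ≫ Agent.DRing.TwoTerm.toS hK' f) = 0 ↔
        ∃ k : M.X 0 ⟶ N, M.d (-1) 0 ≫ k = a.f (-1) ≫ f := fun {N} f => by
    constructor
    · intro h
      obtain ⟨H⟩ := (Agent.DRing.TwoTerm.exists_hom_unique hM hM0
        Agent.DRing.TwoTerm.sgl_vanish).2 (a ≫ Agent.DRing.TwoTerm.toS hK' f) 0
          (by rw [h, Functor.map_zero])
      obtain ⟨k, -, hk⟩ := Agent.DRing.TwoTerm.exists_of_homotopy hM
        Agent.DRing.TwoTerm.sgl_vanish H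
      rw [HomologicalComplex.zero_f_apply, add_zero, HomologicalComplex.comp_f,
        Agent.DRing.TwoTerm.toS_f, ← Category.assoc, Iso.comp_inv_eq] at hk
      exact ⟨k ≫ (HomologicalComplex.singleObjXSelf (ComplexShape.up ℤ) (-1) N).hom,
        by rw [hk, Category.assoc]⟩
    · rintro ⟨k, hk⟩
      obtain ⟨H⟩ := Agent.DRing.TwoTerm.nonempty_homotopy
        (f := a ≫ Agent.DRing.TwoTerm.toS hK' f) (g := 0) hM Agent.DRing.TwoTerm.sgl_vanish
        (k ≫ (HomologicalComplex.singleObjXSelf (ComplexShape.up ℤ) (-1) N).inv)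
        ((Agent.DRing.PC.vanishesOutside_sgl (-1) N 0 (Or.inr (by omega))).eq_of_tgt _ _)
        (by rw [HomologicalComplex.comp_f, Agent.DRing.TwoTerm.toS_f,
          HomologicalComplex.zero_f_apply, add_zero, reassoc_of% hk])
      rw [DerivedCategory.Q_map_eq_of_homotopy (ModuleCat.{u} R) H, Functor.map_zero]
  constructor
  · intro H
    have h := H (K.X (-1)) (DerivedCategory.Q.map (Agent.DRing.TwoTerm.toS hK' (𝟙 (K.X (-1)))) ≫
      (Agent.DRing.TwoTerm.shiftOneIso (K.X (-1))).inv)
    obtain ⟨k, hk⟩ := (key (N := ModuleCat.of R (K.X (-1))) (𝟙 (K.X (-1)))).1 (by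
      rwa [Functor.map_comp, ← cancel_mono (Agent.DRing.TwoTerm.shiftOneIso (K.X (-1))).inv,
        Category.assoc, Limits.zero_comp])
    exact ⟨-k, by rw [Preadditive.comp_neg, hk, Category.comp_id, add_neg_cancel]⟩
  · rintro ⟨h, hh⟩ N _ _ ξ
    obtain ⟨f, hf⟩ := Agent.DRing.TwoTerm.exists_toS hK2 hK0 hK'
      (ξ ≫ (Agent.DRing.TwoTerm.shiftOneIso N).hom)
    have h0 := (key f).2 ⟨-(h ≫ f), by
      rw [Preadditive.comp_neg, eq_neg_of_add_eq_zero_left hh, Preadditive.neg_comp, Category.assoc]⟩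
    rw [Functor.map_comp, ← hf] at h0
    rwa [← cancel_mono (Agent.DRing.TwoTerm.shiftOneIso N).hom, Category.assoc, Limits.zero_comp]

end Groth.Agent.S7106
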