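import Groth.Statements.S7107
import Mathlib.SetTheory.Cardinal.Arithmetic
import Mathlib.LinearAlgebra.Finsupp.SumProd
import Mathlib.Data.Finsupp.Option
import Mathlib.Logic.Denumerable


set_option autoImplicit false
universe u
open CAlg

namespace Groth.Agent.S7107

/-- Finitely supported functions into a product. -/
noncomputable def finsuppProd (R : Type u) [CommRing R] (P Q : Type u) [AddCommGroup P] [Module R P]
    [AddCommGroup Q] [Module R Q] : (ℕ →₀ P × Q) ≃ₗ[R] (ℕ →₀ P) × (ℕ →₀ Q) :=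
  LinearEquiv.ofLinear
    ((Finsupp.mapRange.linearMap (LinearMap.fst R P Q)).prod
      (Finsupp.mapRange.linearMap (LinearMap.snd R P Q)))
    ((Finsupp.mapRange.linearMap (LinearMap.inl R P Q)).coprod
      (Finsupp.mapRange.linearMap (LinearMap.inr R P Q)))
    (by apply LinearMap.ext; rintro ⟨a, b⟩; ext <;> simp)
    (by apply LinearMap.ext; intro a; ext <;> simp)

/-- Let R be a ring and P, Q modules such that P ⊕ Q is isomorphic to a free module F on an infinite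
basis. Then P ⊕ F is isomorphic to F. -/
theorem result (R : Type u) [CommRing R] (P Q : Type u) [AddCommGroup P] [Module R P]
    [AddCommGroup Q] [Module R Q] (ι : Type u) [Infinite ι] (e : (P × Q) ≃ₗ[R] (ι →₀ R)) :
    Nonempty ((P × (ι →₀ R)) ≃ₗ[R] (ι →₀ R)) := by
  classical
  obtain ⟨c⟩ : Nonempty (ι ≃ ℕ × ι) := by
    refine Cardinal.eq.mp ?_
    rw [Cardinal.mk_prod]
    simp
  let d : (ι →₀ R) ≃ₗ[R] (ℕ →₀ P) × (ℕ →₀ Q) :=
    Finsupp.domLCongr c ≪≫ₗ Finsupp.curryLinearEquiv R ≪≫ₗ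
      Finsupp.mapRange.linearEquiv e.symm ≪≫ₗ finsuppProd R P Q
  let o₀ : (Option ℕ →₀ P) ≃ₗ[R] P × (ℕ →₀ P) :=
    { Finsupp.optionEquiv with
      map_add' := fun a b => by ext <;> simp
      map_smul' := fun a b => by ext <;> simp }
  let o : (P × (ℕ →₀ P)) ≃ₗ[R] (ℕ →₀ P) :=
    o₀.symm ≪≫ₗ Finsupp.domLCongr (Denumerable.eqv (Option ℕ))
  exact ⟨(LinearEquiv.refl R P).prodCongr d ≪≫ₗ (LinearEquiv.prodAssoc R P _ _).symm ≪≫ₗ
    o.prodCongr (LinearEquiv.refl R _) ≪≫ₗ d.symm⟩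

end Groth.Agent.S7107
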