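import Groth.Statements.S7108
import Mathlib.LinearAlgebra.FreeModule.Basic
import Mathlib.LinearAlgebra.Finsupp.SumProd
import Mathlib.Logic.Equiv.Basic
import Groth.Agent.S7107


set_option autoImplicit false
universe u
open CAlg

namespace Groth.Agent.S7108

/-- Every projective module P over a ring R becomes free after adding a suitable free module: P ⊕ F is
free for some free module F (here F is the free module on some index type). -/
theorem result (R : Type u) [CommRing R] (P : Type u) [AddCommGroup P]
    [Module R P] [Module.Projective R P] : ∃ ι : Type u, Module.Free R (P × (ι →₀ R)) := by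
  classical
  let Q := LinearMap.ker (Finsupp.linearCombination R (id : P → P))
  have hs : Function.Surjective (Finsupp.linearCombination R (id : P → P)) :=
    fun x => ⟨Finsupp.single x 1, by simp⟩
  obtain ⟨s, hs'⟩ := Module.projective_lifting_property _ LinearMap.id hs
  let e : (P × Q) ≃ₗ[R] (P →₀ R) := by
    refine LinearEquiv.ofBijective (s.coprod Q.subtype) ⟨?_, ?_⟩
    · refine (injective_iff_map_eq_zero _).mpr ?_
      rintro ⟨a, b⟩ h
      have h1 := congrArg (Finsupp.linearCombination R (id : P → P)) h
      have h2 := LinearMap.congr_fun hs' a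
      simp only [LinearMap.coprod_apply, map_add, map_zero, Submodule.coe_subtype,
        LinearMap.mem_ker.mp b.2, add_zero, LinearMap.id_apply] at h1
      simp only [LinearMap.comp_apply, LinearMap.id_apply] at h2
      have ha : a = 0 := h2 ▸ h1
      subst ha
      simp only [LinearMap.coprod_apply, map_zero, zero_add, Submodule.coe_subtype] at h
      exact Prod.ext rfl (Subtype.ext h)
    · intro x
      refine ⟨(Finsupp.linearCombination R id x, ⟨x - s (Finsupp.linearCombination R id x), ?_⟩), ?_⟩
      · have h2 := LinearMap.congr_fun hs' (Finsupp.linearCombination R id x)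
        simp only [LinearMap.comp_apply, LinearMap.id_apply] at h2
        simp [Q, h2]
      · simp
  let e' : (P × (Q × (ℕ →₀ R))) ≃ₗ[R] (P ⊕ ULift.{u} ℕ →₀ R) :=
    (LinearEquiv.prodAssoc R P Q _).symm ≪≫ₗ e.prodCongr (Finsupp.domLCongr Equiv.ulift.symm) ≪≫ₗ
      (Finsupp.sumFinsuppLEquivProdFinsupp R).symm
  obtain ⟨f⟩ := S7107.result R P (Q × (ℕ →₀ R)) _ e'
  exact ⟨_, Module.Free.of_equiv f.symm⟩

end Groth.Agent.S7108
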