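import Groth.Statements.S7109
import Mathlib.LinearAlgebra.StdBasis
import Mathlib.RingTheory.Finiteness.Basic
import Mathlib.LinearAlgebra.FreeModule.Basic
import Mathlib.RingTheory.Finiteness.Cofinite


set_option autoImplicit false
universe u
open CAlg

namespace Groth.Agent.S7109

/-- Let P be a projective module over a ring R and s an element of P. Then there are a finite free
module R^n and a direct summand K of R^n ⊕ P which is finite free and contains (0, s). -/
theorem result (R : Type u) [CommRing R] (P : Type u) [AddCommGroup P]
    [Module R P] [Module.Projective R P] (s : P) :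
    ∃ (n : ℕ) (K K' : Submodule R ((Fin n → R) × P)), IsCompl K K' ∧ Module.Free R K ∧ Module.Finite R K ∧
      ((0, s) : (Fin n → R) × P) ∈ K := by
  classical
  obtain ⟨j, hj⟩ := Module.projective_def'.mp ‹Module.Projective R P›
  let t : Finset P := (j s).support
  let n := t.card
  let c : Fin n → P := fun i => (t.equivFin.symm i : P)
  let a : P →ₗ[R] (Fin n → R) := LinearMap.pi fun i => (Finsupp.lapply (c i)).comp j
  let b : (Fin n → R) →ₗ[R] P := Fintype.linearCombination R c
  have hs : b (a s) = s := by
    have h1 := LinearMap.congr_fun hj s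
    simp only [LinearMap.comp_apply, LinearMap.id_apply, Finsupp.linearCombination_apply, id_eq,
      Finsupp.sum] at h1
    rw [← Finset.sum_coe_sort] at h1
    conv_rhs => rw [← h1]
    simp only [b, Fintype.linearCombination_apply]
    exact Equiv.sum_comp t.equivFin.symm fun x : t => (j s) x • (x : P)
  let i : (Fin n → R) →ₗ[R] (Fin n → R) × P := (LinearMap.id - a ∘ₗ b).prod b
  let r : (Fin n → R) × P →ₗ[R] (Fin n → R) := LinearMap.id.coprod a
  have hri : ∀ x, r (i x) = x := fun x => by simp [r, i]
  have hi : Function.Injective i := Function.LeftInverse.injective hri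
  refine ⟨n, LinearMap.range i, LinearMap.ker r, ?_, Module.Free.of_equiv (LinearEquiv.ofInjective i hi),
    inferInstance, ⟨a s, ?_⟩⟩
  · refine ⟨disjoint_iff_inf_le.mpr ?_, codisjoint_iff_le_sup.mpr ?_⟩
    · rintro x ⟨⟨y, rfl⟩, hy⟩
      have : y = 0 := (hri y).symm.trans hy
      simp [this]
    · intro x _
      exact Submodule.mem_sup.mpr ⟨i (r x), ⟨_, rfl⟩, x - i (r x), by simp [hri], by abel⟩
  · simp [i, hs]

end Groth.Agent.S7109
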