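import Groth.Statements.S7111
import Groth.Agent.SerreSplit.Bass
import Groth.Agent.S7109

open Groth.Agent.SerreSplit.Bass


set_option autoImplicit false
universe u
open CAlg

namespace Groth.Agent.S7111

/-- Every element lies in a finite free summand. -/
theorem inFreeSummand_of_infRank {R : Type u} [CommRing R]
    [IsNoetherianRing (R ⧸ (⊥ : Ideal R).jacobson)] {P : Type u} [AddCommGroup P] [Module R P]
    [Module.Projective R P] (hinf : InfRank R P) (s : P) : InFreeSummand R s := by
  obtain ⟨n, K, K', hc, hfree, hfin, hs⟩ := S7109.result R P s
  exact inFreeSummand_self hinf s n ⟨K, K', hc, hfree, hfin, hs⟩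

/-- Let R be a ring whose quotient by its Jacobson radical is Noetherian and P a projective R-module
such that for every maximal ideal m the localization P_m is not finitely generated over R_m (P has
infinite rank everywhere). Then every element s of P lies in a direct summand of P which is a finite
stably free module. -/
theorem result (R : Type u) [CommRing R]
    [IsNoetherianRing (R ⧸ (⊥ : Ideal R).jacobson)]
    (P : Type u) [AddCommGroup P] [Module R P] [Module.Projective R P]
    (hP : ∀ (m : Ideal R) [m.IsMaximal],
      ¬ Module.Finite (Localization.AtPrime m) (LocalizedModule m.primeCompl P))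
    (s : P) :
    ∃ (K K' : Submodule R P), IsCompl K K' ∧ Module.Finite R K ∧ Module.IsStablyFree R K ∧ s ∈ K := by
  obtain ⟨K, K', hc, hfree, hfin, hs⟩ := inFreeSummand_of_infRank (infRank_of_not_finite hP) s
  exact ⟨K, K', hc, hfin, inferInstance, hs⟩

end Groth.Agent.S7111
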