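import Groth.Statements.S7112
import Groth.Agent.S7111
import Mathlib.LinearAlgebra.LinearIndependent.Defs

open Groth.Agent.SerreSplit.Bass


set_option autoImplicit false
universe u
open CAlg

namespace Groth.Agent.S7112

/-- A summand of infinite rank with a retraction. -/
structure St (R : Type u) [CommRing R] (P : Type u) [AddCommGroup P] [Module R P] where
  C : Submodule R P
  proj : Module.Projective R C
  inf : InfRank R C
  ρ : P →ₗ[R] C
  hρ : ∀ c : C, ρ c = c

theorem step {R : Type u} [CommRing R] [IsNoetherianRing (R ⧸ (⊥ : Ideal R).jacobson)] {P : Type u}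
    [AddCommGroup P] [Module R P] (σ : St R P) (s : P) :
    ∃ (σ' : St R P) (r : ℕ) (b : Fin r → P) (p : P →ₗ[R] (Fin r → R)),
      (∀ i, b i ∈ σ.C) ∧ σ'.C ≤ σ.C ∧ (∀ i, p (b i) = Pi.single i 1) ∧ (∀ x ∈ σ'.C, p x = 0) ∧
      (∀ x, (σ.ρ x : P) - (σ'.ρ x : P) ∈ Submodule.span R (Set.range b)) ∧
      ((σ.ρ s : P) ∈ Submodule.span R (Set.range b)) ∧ (∀ i, σ'.ρ (b i) = 0) ∧
      (∀ x, σ.ρ x = 0 → σ'.ρ x = 0) ∧ (∀ x, σ.ρ x = 0 → p x = 0) := by
  have := σ.proj
  obtain ⟨L, L', hc, hfree, hfin, hs⟩ := S7111.inFreeSummand_of_infRank σ.inf (σ.ρ s)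
  let bb := Module.Free.chooseBasis R L
  let e := Fintype.equivFin (Module.Free.ChooseBasisIndex R L)
  let β := bb.reindex e
  let π₁ : σ.C →ₗ[R] L := Submodule.projectionOnto L L' hc
  let π₂ : σ.C →ₗ[R] L' := Submodule.projectionOnto L' L hc.symm
  let E : L' ≃ₗ[R] L'.map σ.C.subtype := Submodule.equivMapOfInjective _ σ.C.injective_subtype L'
  have hπ₂ : ∀ c : L', π₂ (c : σ.C) = c := fun c => Submodule.projectionOnto_apply_left hc.symm c
  have hproj : Module.Projective R L' := Module.Projective.of_split L'.subtype π₂ (LinearMap.ext hπ₂)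
  have hinf : InfRank R L' := σ.inf.of_compl hc
  refine ⟨⟨L'.map σ.C.subtype, Module.Projective.of_equiv E,
    hinf.of_surjective E.symm.toLinearMap E.symm.surjective, E.toLinearMap ∘ₗ π₂ ∘ₗ σ.ρ, ?_⟩,
    _, fun i => ((β i : L) : σ.C), β.equivFun.toLinearMap ∘ₗ π₁ ∘ₗ σ.ρ,
    fun i => SetLike.coe_mem _, Submodule.map_subtype_le _ _, ?_, ?_, ?_, ?_, ?_, ?_, ?_⟩
  · intro c
    obtain ⟨c, rfl⟩ := E.surjective c
    have : (E c : P) = ((c : σ.C) : P) := rfl
    simp only [LinearMap.comp_apply, LinearEquiv.coe_coe, this, σ.hρ, hπ₂]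
  · intro i
    simp only [LinearMap.comp_apply, LinearEquiv.coe_coe, σ.hρ,
      show π₁ ((β i : L) : σ.C) = β i from Submodule.projectionOnto_apply_left hc _]
    ext j
    simp [Finsupp.single_apply, Pi.single_apply, eq_comm]
  · rintro _ ⟨c, hc', rfl⟩
    have h0 : π₁ c = 0 := (Submodule.projectionOnto_apply_eq_zero_iff hc).mpr hc'
    simp [σ.hρ, h0]
  · intro x
    have h1 : σ.ρ x = (π₁ (σ.ρ x) : σ.C) + (π₂ (σ.ρ x) : σ.C) :=
      (Submodule.projection_add_projection_eq_self hc (σ.ρ x)).symm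
    have h2 : ((σ.ρ x : σ.C) : P) - ((π₂ (σ.ρ x) : σ.C) : P) = ((π₁ (σ.ρ x) : σ.C) : P) := by
      rw [sub_eq_iff_eq_add]
      exact congrArg Subtype.val h1
    change ((σ.ρ x : σ.C) : P) - ((π₂ (σ.ρ x) : σ.C) : P) ∈ _
    rw [h2]
    exact mem_span_coe β (π₁ (σ.ρ x))
  · exact mem_span_coe β ⟨σ.ρ s, hs⟩
  · intro i
    have h0 : π₂ ((β i : L) : σ.C) = 0 :=
      (Submodule.projectionOnto_apply_eq_zero_iff hc.symm).mpr (β i).2
    simp [σ.hρ, h0]
  · intro x hx
    simp [hx]
  · intro x hx
    simp [hx]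
where
  mem_span_coe {r : ℕ} {C : Submodule R P} {L : Submodule R C} (β : Module.Basis (Fin r) R L) (l : L) :
      ((l : C) : P) ∈ Submodule.span R (Set.range fun i => ((β i : C) : P)) := by
    refine (Submodule.mem_span_range_iff_exists_fun R).mpr ⟨fun i => β.repr l i, ?_⟩
    refine Eq.trans ?_ (congrArg (fun z : L => ((z : C) : P)) (β.sum_repr l))
    simp only [Submodule.coe_sum, Submodule.coe_smul]

/-- Commutative case of a result of Bass: let R be a ring whose quotient by its Jacobson radical is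
Noetherian and P a countably generated projective R-module such that for every maximal ideal m the
localization P_m is not finitely generated over R_m (P has infinite rank everywhere). Then P is
free. -/
theorem result (R : Type u) [CommRing R]
    [IsNoetherianRing (R ⧸ (⊥ : Ideal R).jacobson)]
    (P : Type u) [AddCommGroup P] [Module R P] [Module.Projective R P]
    (hP : ∀ (m : Ideal R) [m.IsMaximal],
      ¬ Module.Finite (Localization.AtPrime m) (LocalizedModule m.primeCompl P))
    (hc : CAlg.IsCountablyGenerated R P) : Module.Free R P := by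
  classical
  obtain ⟨S, hS, hspan⟩ := hc
  obtain ⟨s, hs⟩ := (hS.insert (0 : P)).exists_eq_range (Set.insert_nonempty _ _)
  let σ₀ : St R P := ⟨⊤, Module.Projective.of_equiv Submodule.topEquiv.symm,
    (infRank_of_not_finite hP).of_surjective Submodule.topEquiv.toLinearMap Submodule.topEquiv.surjective,
    Submodule.topEquiv.symm.toLinearMap, fun c => rfl⟩
  choose next r b p h1 h2 h3 h4 h5 h9 h6 h7 h8 using fun (σ : St R P) (n : ℕ) => step σ (s n)
  let st : ℕ → St R P := fun n => Nat.rec σ₀ (fun k σ => next σ k) n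
  have hst : ∀ n, st (n + 1) = next (st n) n := fun n => rfl
  let v : (Σ n : ℕ, Fin (r (st n) n)) → P := fun a => b (st a.1) a.1 a.2
  let f : (a : Σ n : ℕ, Fin (r (st n) n)) → (P →ₗ[R] R) := fun a =>
    (LinearMap.proj a.2).comp (p (st a.1) a.1)
  have hC : ∀ m n, m ≤ n → (st n).C ≤ (st m).C := fun m n hmn => by
    induction hmn with
    | refl => exact le_rfl
    | step h ih => exact (h2 (st _) _).trans ih
  have hρ : ∀ m n, m ≤ n → ∀ x, (st m).ρ x = 0 → (st n).ρ x = 0 := fun m n hmn => by
    induction hmn with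
    | refl => exact fun x hx => hx
    | @step k h ih => exact fun x hx => (h7 (st k) k x (ih x hx))
  have horth : ∀ n (m : ℕ) (i : Fin (r (st m) m)), n ≠ m → p (st n) n (b (st m) m i) = 0 := by
    intro n m i hne
    rcases lt_or_gt_of_ne hne with h | h
    · exact h4 (st n) n _ (hC (n + 1) m h (h1 (st m) m i))
    · exact (h8 (st n) n _ (hρ (m + 1) n h _ (h6 (st m) m i)))
  have hf : ∀ a c, f a (v c) = if a = c then 1 else 0 := by
    rintro ⟨n, i⟩ ⟨m, k⟩
    by_cases hnm : n = m
    · subst hnm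
      simp [f, v, h3, Pi.single_apply, eq_comm (a := k) (b := i)]
    · simp [f, v, horth n m k hnm, hnm]
  have hli : LinearIndependent R v := by
    rw [linearIndependent_iff]
    intro c hc
    ext a
    have h := congrArg (f a) hc
    rw [Finsupp.linearCombination_apply, map_finsuppSum, map_zero] at h
    simp only [map_smul, hf, smul_eq_mul, mul_ite, mul_one, mul_zero] at h
    simpa using h
  have hbase : ∀ n x, x - ((st n).ρ x : P) ∈ Submodule.span R (Set.range v) := by
    intro n
    induction n with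
    | zero => intro x; simp [st, σ₀]
    | succ n ih =>
      intro x
      have h := Submodule.span_mono (by rintro _ ⟨i, rfl⟩; exact ⟨⟨n, i⟩, rfl⟩ :
        Set.range (b (st n) n) ⊆ Set.range v) (h5 (st n) n x)
      rw [hst]
      simpa using add_mem (ih x) h
  have hsp : ⊤ ≤ Submodule.span R (Set.range v) := by
    rw [← hspan, Submodule.span_le]
    intro x hx
    obtain ⟨n, rfl⟩ : x ∈ Set.range s := hs ▸ Set.mem_insert_of_mem _ hx
    have h := Submodule.span_mono (by rintro _ ⟨i, rfl⟩; exact ⟨⟨n, i⟩, rfl⟩ :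
      Set.range (b (st n) n) ⊆ Set.range v) (h9 (st n) n)
    simpa using add_mem (hbase n (s n)) h
  exact Module.Free.of_basis (Module.Basis.mk hli hsp)

end Groth.Agent.S7112
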