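import Groth.Statements.S7113
import Groth.Agent.SerreSplit.Basic
import Mathlib.RingTheory.Localization.AtPrime.Basic

open Groth.Agent.SerreSplit.Basic TopologicalSpace


set_option autoImplicit false
universe u
open CAlg

namespace Groth.Agent.S7113

/-- Let R be a ring whose set of maximal ideals, with the Zariski topology, is a Noetherian topological
space of Krull dimension at most d, and let M be an R-module of finite presentation whose
localization M_m at each maximal ideal m contains a free direct summand of rank d + 1. Then M is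
isomorphic to R ⊕ M' for some M': there are s in M and a linear form φ on M with φ(s) = 1. (The
published statement takes the dimension equal to d; a space of smaller dimension satisfies the
hypothesis for a smaller d, so the bound form is equivalent.) -/
theorem result (R : Type u) [CommRing R] (d : ℕ)
    [TopologicalSpace.NoetherianSpace (MaximalSpectrum R)]
    (hdim : topologicalKrullDim (MaximalSpectrum R) ≤ d)
    (M : Type u) [AddCommGroup M] [Module R M] [Module.FinitePresentation R M]
    (hM : ∀ (m : Ideal R) [m.IsMaximal],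
      ∃ (f : (Fin (d + 1) → Localization.AtPrime m) →ₗ[Localization.AtPrime m] LocalizedModule m.primeCompl M)
        (g : LocalizedModule m.primeCompl M →ₗ[Localization.AtPrime m] (Fin (d + 1) → Localization.AtPrime m)),
        g ∘ₗ f = LinearMap.id) :
    ∃ (s : M) (φ : M →ₗ[R] R), φ s = 1 := by
  classical
  have key : ∀ x : MaximalSpectrum R, d + 1 ≤ Module.finrank (R ⧸ x.asIdeal)
      ((M ⧸ (x.asIdeal • ⊤ : Submodule R M)) ⧸ barPerp x.asIdeal M) := by
    intro x
    obtain ⟨f, g, hgf⟩ := hM x.asIdeal
    let S := x.asIdeal.primeCompl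
    let l := LocalizedModule.mkLinearMap S M
    choose p hp using fun j : Fin (d + 1) => Module.FinitePresentation.exists_lift_of_isLocalizedModule S
      (Algebra.linearMap R (Localization.AtPrime x.asIdeal))
      ((((LinearMap.proj j).comp g).restrictScalars R).comp l)
    choose σ hσ using hp
    choose m hm using fun i : Fin (d + 1) => IsLocalizedModule.surj S l (f (Pi.single i 1))
    have hval : ∀ i j, algebraMap R (Localization.AtPrime x.asIdeal) (p j (m i).1) =
        algebraMap R (Localization.AtPrime x.asIdeal) (((σ j : R) * ((m i).2 : R)) *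
          (if i = j then 1 else 0)) := by
      intro i j
      have h1 := LinearMap.congr_fun (hσ j) (m i).1
      simp only [LinearMap.comp_apply, Algebra.linearMap_apply, LinearMap.smul_apply,
        LinearMap.restrictScalars_apply, LinearMap.proj_apply] at h1
      have h2 : g (l (m i).1) j = ((m i).2 : R) • g (f (Pi.single i 1)) j := by
        rw [← hm i, Submonoid.smul_def, LinearMap.map_smul_of_tower, Pi.smul_apply]
      rw [h1, h2, Submonoid.smul_def, ← LinearMap.comp_apply g f, hgf, LinearMap.id_apply,
        Pi.single_apply, Algebra.smul_def, Algebra.smul_def, map_mul, map_mul]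
      simp only [eq_comm (a := j) (b := i)]
      split_ifs <;> simp
    have hind : Ind x.asIdeal fun i => (m i).1 := by
      intro c hc i
      have h1 : ∀ a : R, a ∈ x.asIdeal ↔ algebraMap R (Localization.AtPrime x.asIdeal) a ∈
          IsLocalRing.maximalIdeal (Localization.AtPrime x.asIdeal) := fun a =>
        (IsLocalization.AtPrime.to_map_mem_maximal_iff _ x.asIdeal a).symm
      have h2 := (h1 _).mp (hc (p i))
      simp only [map_sum, map_smul, smul_eq_mul, map_mul, hval] at h2
      rw [Finset.sum_eq_single i (fun j _ hj => by simp [hj]) (by simp)] at h2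
      simp only [← map_mul, ← h1] at h2
      simp only [eq_self_iff_true, if_true, mul_one] at h2
      exact (x.isMaximal.isPrime.mem_or_mem h2).resolve_right fun h =>
        (x.isMaximal.isPrime.mem_or_mem h).elim (σ i).2 (m i).2.2
    letI := Ideal.Quotient.field x.asIdeal
    have : Module.Finite (R ⧸ x.asIdeal) (M ⧸ (x.asIdeal • ⊤ : Submodule R M)) :=
      Module.Finite.of_restrictScalars_finite R _ _
    have h3 := ((linearIndependent_iff_ind _ _).mpr hind).fintype_card_le_finrank
    rwa [Fintype.card_fin] at h3
  obtain ⟨t, -, ht⟩ := exists_section (R := R) (M := M) (d + 1) 0 (Fin.elim0) ∅ ∅ (fun _ => 0)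
    isClosed_empty (by simp) (fun x => by simpa using key x) (fun x hx => (hx fun _ _ i => i.elim0).elim)
  have hZ : ∀ x : MaximalSpectrum R, Ind x.asIdeal (Fin.snoc Fin.elim0 t : Fin 1 → M) := by
    intro x
    by_contra hx
    have h1 := ht ⟨{x}, isIrreducible_singleton, isClosed_singleton⟩ (Set.singleton_subset_iff.mpr hx)
      (fun hh => hh (Set.mem_singleton x))
    have h2 := (WithBot.coe_le_coe.mpr h1).trans ((Order.coheight_le_krullDim _).trans hdim)
    have h3 : ((d + 1 : ℕ) : ℕ∞) ≤ (d : ℕ∞) := WithBot.coe_le_coe.mp h2
    exact absurd (Nat.cast_le.mp h3) (by omega)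
  suffices h : LinearMap.range (LinearMap.applyₗ t : (M →ₗ[R] R) →ₗ[R] R) = ⊤ by
    obtain ⟨φ, hφ⟩ : (1 : R) ∈ LinearMap.range (LinearMap.applyₗ t : (M →ₗ[R] R) →ₗ[R] R) := h ▸ trivial
    exact ⟨t, φ, hφ⟩
  by_contra hne
  obtain ⟨x, hx, hle⟩ := Ideal.exists_le_maximal _ hne
  refine hx.ne_top ((Ideal.eq_top_iff_one _).mpr (hZ ⟨x, hx⟩ (fun _ => 1) ?_ 0))
  intro φ
  simp only [Fin.sum_univ_castSucc, Fin.snoc_last, Finset.univ_eq_empty, Finset.sum_empty, zero_add, one_smul]
  exact (show φ t ∈ x from hle ⟨φ, rfl⟩)

end Groth.Agent.S7113
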