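import Groth.Statements.S7114
import Mathlib.RingTheory.OrderOfVanishing.Basic


set_option autoImplicit false
universe u
open CAlg

namespace Groth.Agent.S7114

/-- Subadditivity of the length of the quotient by a principal ideal. -/
theorem ordMulLe {R : Type u} [CommRing R] (a b : R) :
    Ring.ord R (a * b) ≤ Ring.ord R a + Ring.ord R b := by
  let K := (Ideal.span {a}).map (Ideal.Quotient.mk (Ideal.span {a * b}))
  have hle : Ideal.span {a * b} ≤ Ideal.span {a} :=
    Ideal.span_singleton_le_span_singleton.mpr (dvd_mul_right a b)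
  let g : (R ⧸ Ideal.span {a * b}) →ₗ[R] (R ⧸ Ideal.span {a}) := Submodule.factor hle
  let f : (R ⧸ Ideal.span {b}) →ₗ[R] LinearMap.ker g :=
    Submodule.liftQ _ (LinearMap.codRestrict _ ((Submodule.mkQ (Ideal.span {a * b})).comp (LinearMap.mulLeft R a))
      (fun c => by
        change Submodule.Quotient.mk (a * c) = (0 : R ⧸ Ideal.span {a})
        exact (Submodule.Quotient.mk_eq_zero _).mpr (Ideal.mem_span_singleton.mpr ⟨c, rfl⟩))) (by
        intro c hc
        obtain ⟨d, rfl⟩ := Ideal.mem_span_singleton.mp hc
        ext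
        simp [Submodule.Quotient.mk_eq_zero, Ideal.mem_span_singleton, ← mul_assoc])
  have hf : Function.Surjective f := by
    rintro ⟨z, hz⟩
    obtain ⟨z, rfl⟩ := Submodule.Quotient.mk_surjective _ z
    obtain ⟨c, rfl⟩ : a ∣ z := by
      have : Submodule.Quotient.mk z = (0 : R ⧸ Ideal.span {a}) := hz
      exact Ideal.mem_span_singleton.mp ((Submodule.Quotient.mk_eq_zero _).mp this)
    exact ⟨Submodule.Quotient.mk c, rfl⟩
  rw [add_comm]
  unfold Ring.ord
  rw [Module.length_eq_add_of_exact (LinearMap.ker g).subtype g (Submodule.injective_subtype _)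
    (Submodule.factor_surjective hle) (LinearMap.exact_subtype_ker_map g)]
  exact add_le_add (Module.length_le_of_surjective f hf) le_rfl

/-- Let R be a Noetherian local ring of Krull dimension one and x an element of the maximal ideal lying
in no minimal prime of R. Then for every n the length of R/xⁿR is at most n times the length of
R/xR, and equality holds when x is a nonzerodivisor. -/
theorem result (R : Type u) [CommRing R] [IsNoetherianRing R] [IsLocalRing R]
    (hdim : ringKrullDim R = 1) (x : R) (hx : x ∈ IsLocalRing.maximalIdeal R)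
    (hmin : ∀ p ∈ minimalPrimes R, x ∉ p) (n : ℕ) :
    Module.length R (R ⧸ Ideal.span {x ^ n}) ≤ (n : ℕ∞) * Module.length R (R ⧸ Ideal.span {x}) ∧
      (x ∈ nonZeroDivisors R →
        Module.length R (R ⧸ Ideal.span {x ^ n}) = (n : ℕ∞) * Module.length R (R ⧸ Ideal.span {x})) := by
  refine ⟨?_, fun hx' => ?_⟩
  · change Ring.ord R (x ^ n) ≤ n * Ring.ord R x
    induction n with
    | zero => simp [Ring.ord_one]
    | succ n ih =>
      rw [Nat.cast_succ, add_mul, one_mul]
      refine le_trans ?_ (add_le_add ih le_rfl)
      rw [pow_succ]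
      exact ordMulLe (x ^ n) x
  · change Ring.ord R (x ^ n) = n * Ring.ord R x
    rw [Ring.ord_pow hx' n, nsmul_eq_mul]

end Groth.Agent.S7114
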