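import Groth.Statements.S7115
import Mathlib.RingTheory.Ideal.KrullsHeightTheorem
import Mathlib.RingTheory.KrullDimension.Basic


set_option autoImplicit false
universe u
open CAlg

namespace Groth.Agent.S7115

/-- Let R be a Noetherian local ring of Krull dimension d > 1 with maximal ideal m, let f be an element
of m contained in no minimal prime, and let k be a natural number. Then there are elements g_1, ...,
g_{d-1} of m lying in m^k such that f, g_1, ..., g_{d-1} form a system of parameters: these d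
elements of m generate an ideal whose radical is m. -/
theorem result (R : Type u) [CommRing R] [IsNoetherianRing R] [IsLocalRing R]
    (d : ℕ) (hd : ringKrullDim R = d) (h1 : 1 < d) (f : R) (hf : f ∈ IsLocalRing.maximalIdeal R)
    (hmin : ∀ p ∈ minimalPrimes R, f ∉ p) (k : ℕ) :
    ∃ g : Fin (d - 1) → R, (∀ i, g i ∈ IsLocalRing.maximalIdeal R ^ k) ∧ (∀ i, g i ∈ IsLocalRing.maximalIdeal R) ∧
      IsLocalRing.maximalIdeal R ≤ (Ideal.span (insert f (Set.range g))).radical := by
  classical
  let m := IsLocalRing.maximalIdeal R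
  have hm : m.height = (d : ℕ∞) := by
    have := IsLocalRing.maximalIdeal_height_eq_ringKrullDim (R := R)
    rw [hd] at this
    exact WithBot.coe_inj.mp this
  have key : ∀ i : ℕ, i ≤ d - 1 → ∃ g : Fin i → R, (∀ j, g j ∈ m ^ k ∧ g j ∈ m) ∧
      ∀ P : Ideal R, P.IsPrime → insert f (Set.range g) ⊆ P → (i + 1 : ℕ) ≤ P.height := by
    intro i
    induction i with
    | zero =>
      intro _
      refine ⟨Fin.elim0, fun j => j.elim0, fun P hP hfP => ?_⟩
      have : P.height ≠ 0 := fun h0 => hmin P (Ideal.height_eq_zero_iff.mp h0) (hfP (Set.mem_insert _ _))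
      simpa [ENat.one_le_iff_ne_zero] using this
    | succ i ih =>
      intro hi
      obtain ⟨g, hg, hg'⟩ := ih (by omega)
      let S := {Q : Ideal R | Q ∈ (Ideal.span (insert f (Set.range g))).minimalPrimes ∧ Q ≠ m}
      have hS : S.Finite := (Ideal.finite_minimalPrimes_of_isNoetherianRing R _).subset fun Q hQ => hQ.1
      obtain ⟨x, hx, hxS⟩ : ∃ x ∈ m ^ (k + 1), ∀ Q ∈ S, x ∉ Q := by
        by_contra hcon
        push Not at hcon
        have hsub : ((m ^ (k + 1) : Ideal R) : Set R) ⊆ ⋃ Q ∈ hS.toFinset, ((id Q : Ideal R) : Set R) := by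
          intro x hx
          obtain ⟨Q, hQ, hxQ⟩ := hcon x hx
          exact Set.mem_biUnion (hS.mem_toFinset.mpr hQ) hxQ
        obtain ⟨Q, hQ, hle⟩ := (Ideal.subset_union_prime ⊥ ⊥
          (fun Q hQ _ _ => (hS.mem_toFinset.mp hQ).1.1.1)).mp hsub
        have hQ' := hS.mem_toFinset.mp hQ
        exact hQ'.2 ((IsLocalRing.maximalIdeal.isMaximal R).eq_of_le hQ'.1.1.1.ne_top
          (hQ'.1.1.1.le_of_pow_le hle)).symm
      refine ⟨Fin.snoc g x, fun j => ?_, fun P hP hsubP => ?_⟩
      · induction j using Fin.lastCases with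
        | last =>
          rw [Fin.snoc_last]
          exact ⟨Ideal.pow_le_pow_right (by omega) hx, Ideal.pow_le_self (by omega) hx⟩
        | cast j => rw [Fin.snoc_castSucc]; exact hg j
      · have hsub' : insert f (Set.range g) ⊆ (P : Set R) := by
          rintro y (rfl | ⟨j, rfl⟩)
          · exact hsubP (Set.mem_insert _ _)
          · exact hsubP (Or.inr ⟨j.castSucc, Fin.snoc_castSucc ..⟩)
        obtain ⟨Q, hQ, hQP⟩ := Ideal.exists_minimalPrimes_le (Ideal.span_le.mpr hsub')
        by_cases hQm : Q = m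
        · have : P = m := le_antisymm (IsLocalRing.le_maximalIdeal hP.ne_top) (hQm ▸ hQP)
          rw [this, hm]
          exact_mod_cast (by omega : i + 1 + 1 ≤ d)
        · have := hQ.1.1
          have hlt : Q < P := lt_of_le_of_ne hQP fun hh => hxS Q ⟨hQ, hQm⟩
            (hh ▸ hsubP (Or.inr ⟨Fin.last i, Fin.snoc_last ..⟩))
          have h2 := hg' Q this (Set.Subset.trans Ideal.subset_span hQ.1.2)
          calc ((i + 1 + 1 : ℕ) : ℕ∞) = ((i + 1 : ℕ) : ℕ∞) + 1 := by push_cast; rfl
            _ ≤ Q.height + 1 := by gcongr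
            _ ≤ P.height := Ideal.height_add_one_le_of_lt_of_isPrime hlt
  obtain ⟨g, hg, hg'⟩ := key (d - 1) le_rfl
  refine ⟨g, fun i => (hg i).1, fun i => (hg i).2, ?_⟩
  rw [Ideal.radical_eq_sInf]
  refine le_sInf fun P ⟨hle, hP⟩ => ?_
  by_contra hne
  have hlt : P < m := lt_of_le_of_ne (IsLocalRing.le_maximalIdeal hP.ne_top) fun h => hne h.ge
  have h1 := hg' P hP (Set.Subset.trans Ideal.subset_span hle)
  have h2 : P.height + 1 ≤ m.height := Ideal.height_add_one_le_of_lt_of_isPrime hlt
  rw [hm] at h2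
  have h3 : ((d - 1 + 1 : ℕ) : ℕ∞) + 1 ≤ (d : ℕ∞) := le_trans (by gcongr) h2
  norm_cast at h3
  omega

end Groth.Agent.S7115
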