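import Groth.Statements.S7116
import Groth.Agent.S7115
import Mathlib.RingTheory.Ideal.MinimalPrime.Localization

set_option autoImplicit false
set_option linter.style.haveILetI false
universe u
open CAlg

namespace Groth.Agent.S7116

/-- Let R be a Noetherian local ring of Krull dimension d with maximal ideal m and let f be an element
of m contained in no minimal prime. Then there are g_1, ..., g_{d-1} in m and a natural number N
such that f, g_1, ..., g_{d-1} is a system of parameters (these d elements of m generate an ideal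
with radical m) and, for every h in m^N, the elements f + h, g_1, ..., g_{d-1} again form a system
of parameters and the lengths of R/(f, g_1, ..., g_{d-1}) and R/(f + h, g_1, ..., g_{d-1}) agree. -/
theorem result (R : Type u) [CommRing R] [IsNoetherianRing R] [IsLocalRing R]
    (d : ℕ) (hd : ringKrullDim R = d) (f : R) (hf : f ∈ IsLocalRing.maximalIdeal R)
    (hmin : ∀ p ∈ minimalPrimes R, f ∉ p) :
    ∃ (g : Fin (d - 1) → R) (N : ℕ), (∀ i, g i ∈ IsLocalRing.maximalIdeal R) ∧
      IsLocalRing.maximalIdeal R ≤ (Ideal.span (insert f (Set.range g))).radical ∧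
      ∀ h ∈ IsLocalRing.maximalIdeal R ^ N,
        IsLocalRing.maximalIdeal R ≤ (Ideal.span (insert (f + h) (Set.range g))).radical ∧
        Module.length R (R ⧸ Ideal.span (insert f (Set.range g))) =
          Module.length R (R ⧸ Ideal.span (insert (f + h) (Set.range g))) := by
  classical
  obtain ⟨g, hg, hrad⟩ : ∃ g : Fin (d - 1) → R, (∀ i, g i ∈ IsLocalRing.maximalIdeal R) ∧
      IsLocalRing.maximalIdeal R ≤ (Ideal.span (insert f (Set.range g))).radical := by
    by_cases h1 : 1 < d
    · obtain ⟨g, -, hg, hr⟩ := S7115.result R d hd h1 f hf hmin 0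
      exact ⟨g, hg, hr⟩
    · refine ⟨fun _ => 0, fun _ => zero_mem _, ?_⟩
      rw [Ideal.radical_eq_sInf]
      refine le_sInf fun Q ⟨hQ, hQp⟩ => ?_
      haveI := hQp
      by_contra hne
      have hfQ : f ∈ Q := hQ (Ideal.subset_span (Set.mem_insert f _))
      obtain ⟨P, hP, hPQ⟩ := Ideal.exists_minimalPrimes_le (bot_le : (⊥ : Ideal R) ≤ Q)
      haveI := hP.1.1
      have hlt : P < Q := lt_of_le_of_ne hPQ fun h => hmin P hP (h ▸ hfQ)
      have hlt' : Q < IsLocalRing.maximalIdeal R :=
        lt_of_le_of_ne (IsLocalRing.le_maximalIdeal hQp.ne_top) fun h => hne h.ge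
      have h2 := Ideal.height_add_one_le_of_lt_of_isPrime hlt
      have h3 := Ideal.height_add_one_le_of_lt_of_isPrime hlt'
      have h4 := IsLocalRing.maximalIdeal_height_eq_ringKrullDim (R := R)
      rw [hd] at h4
      have h5 : (IsLocalRing.maximalIdeal R).height = (d : ℕ∞) := WithBot.coe_eq_coe.1 h4
      rw [h5] at h3
      have h6 : (0 + 1 + 1 : ℕ∞) ≤ d := ((add_le_add ((add_le_add zero_le le_rfl).trans h2) le_rfl).trans h3)
      have h7 : ((2 : ℕ) : ℕ∞) ≤ (d : ℕ∞) := h6
      have : 2 ≤ d := by exact_mod_cast h7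
      omega
  obtain ⟨M, hM⟩ := Ideal.exists_pow_le_of_le_radical_of_fg hrad (IsNoetherian.noetherian _)
  refine ⟨g, M + 1, hg, hrad, fun h hh => ?_⟩
  set J := Ideal.span (insert f (Set.range g))
  set J' := Ideal.span (insert (f + h) (Set.range g))
  have hmJ : IsLocalRing.maximalIdeal R ^ (M + 1) ≤ IsLocalRing.maximalIdeal R • J := by
    rw [smul_eq_mul, pow_succ']
    exact Ideal.mul_mono_right hM
  have hle : J' ≤ J := by
    refine Ideal.span_le.2 (Set.insert_subset ?_ fun y hy => Ideal.subset_span (Set.mem_insert_of_mem _ hy))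
    exact add_mem (Ideal.subset_span (Set.mem_insert _ _)) (Submodule.smul_le_right (hmJ hh))
  have hJ : J = J' := by
    refine le_antisymm (Submodule.le_of_le_smul_of_le_jacobson_bot
      (IsNoetherian.noetherian _) (IsLocalRing.maximalIdeal_le_jacobson _) ?_) hle
    refine Ideal.span_le.2 (Set.insert_subset ?_ fun y hy =>
      Submodule.mem_sup_left (Ideal.subset_span (Set.mem_insert_of_mem _ hy)))
    have h1 : (f + h) - h ∈ J' ⊔ IsLocalRing.maximalIdeal R • J :=
      sub_mem (Submodule.mem_sup_left (Ideal.subset_span (Set.mem_insert _ _)))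
        (Submodule.mem_sup_right (hmJ hh))
    rwa [add_sub_cancel_right] at h1
  exact ⟨hJ ▸ hrad, by rw [hJ]⟩

end Groth.Agent.S7116
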