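import Groth.Statements.S7117
import Groth.Agent.MultBound.OneDim
import Groth.Agent.LenLib.Samuel
import Mathlib.RingTheory.KrullDimension.NonZeroDivisors
import Mathlib.RingTheory.Ideal.Quotient.Operations
import Mathlib.RingTheory.Localization.LocalizationLocalization
import Mathlib.RingTheory.SurjectiveOnStalks


set_option autoImplicit false
set_option linter.style.haveILetI false
universe u
open CAlg

namespace Groth.Agent.S7117

open Groth.Agent.MultBound

lemma dim_le {d : ℕ} (R : Type u) [CommRing R] [IsNoetherianRing R] [IsLocalRing R] (g : Fin d → R)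
    (hg : ∀ i, g i ∈ IsLocalRing.maximalIdeal R)
    (hsop : IsLocalRing.maximalIdeal R ≤ (Ideal.span (Set.range g)).radical) :
    ringKrullDim R ≤ d := by
  have hle : Ideal.span (Set.range g) ≤ IsLocalRing.maximalIdeal R :=
    Ideal.span_le.2 (by rintro _ ⟨i, rfl⟩; exact hg i)
  have hd0 : ringKrullDim (R ⧸ Ideal.span (Set.range g)) ≤ 0 := by
    haveI : Ring.KrullDimLE 0 (R ⧸ Ideal.span (Set.range g)) := Ring.KrullDimLE.mk₀ fun Q hQ => by
      haveI := hQ
      have hgQ : Ideal.span (Set.range g) ≤ Q.comap (Ideal.Quotient.mk _) := fun x hx => by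
        rw [Ideal.mem_comap, Ideal.Quotient.eq_zero_iff_mem.2 hx]; exact Q.zero_mem
      have h1 : Q.comap (Ideal.Quotient.mk _) = IsLocalRing.maximalIdeal R :=
        le_antisymm (IsLocalRing.le_maximalIdeal Ideal.IsPrime.ne_top')
          (hsop.trans ((Ideal.IsPrime.radical_le_iff inferInstance).2 hgQ))
      rw [← Ideal.map_comap_of_surjective _ Ideal.Quotient.mk_surjective Q, h1]
      exact (Ideal.map_eq_top_or_isMaximal_of_surjective _ Ideal.Quotient.mk_surjective
        (IsLocalRing.maximalIdeal.isMaximal R)).resolve_left (fun htop => hQ.ne_top (by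
          rw [← Ideal.map_comap_of_surjective _ Ideal.Quotient.mk_surjective Q, h1, htop]))
    exact Ring.krullDimLE_iff.1 inferInstance
  have h2 := ringKrullDim_le_ringKrullDim_quotient_add_encard (Set.range g)
    (fun x hx => by
      rw [IsLocalRing.ringJacobson_eq_maximalIdeal]; exact hle (Ideal.subset_span hx))
  refine h2.trans ((add_le_add hd0 le_rfl).trans ?_)
  rw [zero_add]
  have : (Set.range g).encard ≤ d := by
    rw [← Set.image_univ]
    refine (Set.encard_image_le _ _).trans ?_
    simp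
  exact_mod_cast this

lemma exists_prime_dim {R : Type u} [CommRing R] (I : Ideal R) {d : ℕ}
    (h : (d : WithBot ℕ∞) ≤ ringKrullDim (R ⧸ I)) :
    ∃ q : PrimeSpectrum R, I ≤ q.asIdeal ∧ (d : WithBot ℕ∞) ≤ ringKrullDim (R ⧸ q.asIdeal) := by
  rw [ringKrullDim_quotient, Order.le_krullDim_iff] at h
  obtain ⟨l, hl⟩ := h
  refine ⟨l.head.1, l.head.2, ?_⟩
  rw [ringKrullDim_quotient, Order.le_krullDim_iff]
  exact ⟨⟨l.length, fun i => ⟨(l i).1, show l.head.1 ≤ (l i).1 from l.head_le i⟩, fun i => l.step i⟩, hl⟩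

lemma quot_dim_le {R : Type u} [CommRing R] {I J : Ideal R} (h : I ≤ J) :
    ringKrullDim (R ⧸ J) ≤ ringKrullDim (R ⧸ I) :=
  ringKrullDim_le_of_surjective (Ideal.Quotient.factor h) (Ideal.Quotient.factor_surjective h)

lemma cast_le_of_succ_le {a : WithBot ℕ∞} {d : ℕ}
    (h : ((d + 1 : ℕ) : WithBot ℕ∞) ≤ a + ((1 : ℕ∞) : WithBot ℕ∞)) : (d : WithBot ℕ∞) ≤ a := by
  induction a with
  | bot => simp at h
  | coe b =>
    have h' : ((d + 1 : ℕ) : ℕ∞) ≤ b + 1 := by exact_mod_cast h
    rw [Nat.cast_succ] at h'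
    exact_mod_cast (ENat.add_le_add_iff_right ENat.one_ne_top).1 h'

lemma step_local {d : ℕ} {R : Type u} [CommRing R] [IsNoetherianRing R] (g : R)
    (hd : ringKrullDim (R ⧸ Ideal.span {g}) ≤ d)
    (q : Ideal R) [q.IsPrime] (hgq : g ∈ q) (hqd : (d : WithBot ℕ∞) ≤ ringKrullDim (R ⧸ q))
    (T : Finset (PrimeSpectrum R)) (hT : ∀ p ∈ T, p.asIdeal ≤ q ∧ p.asIdeal ≠ q)
    (q' : Ideal (R ⧸ Ideal.span {g})) [q'.IsPrime] (hq' : q = q'.comap (Ideal.Quotient.mk _)) :
    ∑ p ∈ T, Module.length (Localization.AtPrime p.asIdeal) (Localization.AtPrime p.asIdeal) ≤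
      Module.length (Localization.AtPrime q') (Localization.AtPrime q') := by
  classical
  have hmax : ∀ Q : Ideal (Localization.AtPrime q), Q.IsPrime → algebraMap R (Localization.AtPrime q) g ∈ Q → Q = IsLocalRing.maximalIdeal (Localization.AtPrime q) := by
    intro Q hQ hgQ
    haveI := hQ
    have hQq : Q.comap (algebraMap R (Localization.AtPrime q)) ≤ q := by
      have := Ideal.comap_mono (f := algebraMap R (Localization.AtPrime q)) (IsLocalRing.le_maximalIdeal hQ.ne_top)
      exact this.trans_eq (IsLocalization.AtPrime.under_maximalIdeal (S := Localization.AtPrime q) q)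
    have heq : Q.comap (algebraMap R (Localization.AtPrime q)) = q := by
      by_contra hne
      obtain ⟨x, hxq, hxQ⟩ := SetLike.exists_of_lt (lt_of_le_of_ne hQq hne)
      have h1 : ringKrullDim (R ⧸ (Q.comap (algebraMap R (Localization.AtPrime q)) ⊔ Ideal.span {x})) + 1 ≤
          ringKrullDim (R ⧸ Q.comap (algebraMap R (Localization.AtPrime q))) := by
        refine ringKrullDim_succ_le_of_surjective (Ideal.Quotient.factor le_sup_left)
          (Ideal.Quotient.factor_surjective _) (r := Ideal.Quotient.mk _ x)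
          (mem_nonZeroDivisors_of_ne_zero fun h => hxQ (Ideal.Quotient.eq_zero_iff_mem.1 h)) ?_
        rw [Ideal.Quotient.factor_mk, Ideal.Quotient.eq_zero_iff_mem]
        exact Ideal.mem_sup_right (Ideal.mem_span_singleton_self x)
      have h2 : (d : WithBot ℕ∞) ≤ ringKrullDim (R ⧸ (Q.comap (algebraMap R (Localization.AtPrime q)) ⊔ Ideal.span {x})) :=
        hqd.trans (quot_dim_le (sup_le hQq ((Ideal.span_singleton_le_iff_mem _).2 hxq)))
      have h3 : ringKrullDim (R ⧸ Q.comap (algebraMap R (Localization.AtPrime q))) ≤ d :=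
        (quot_dim_le ((Ideal.span_singleton_le_iff_mem _).2 (show g ∈ Q.comap _ from hgQ))).trans hd
      have h4 : ((d + 1 : ℕ) : WithBot ℕ∞) ≤ (d : ℕ) := by
        push_cast
        exact ((add_le_add h2 le_rfl).trans h1).trans h3
      norm_cast at h4
      omega
    rw [← IsLocalization.map_under q.primeCompl (Localization.AtPrime q) Q,
      show Q.under R = q from heq, Localization.AtPrime.map_eq_maximalIdeal]
  have hdisj : ∀ p ∈ T, Disjoint (q.primeCompl : Set R) p.asIdeal := fun p hp =>
    Set.disjoint_left.2 fun x hx hxp => hx ((hT p hp).1 hxp)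
  let f : {p // p ∈ T} → PrimeSpectrum (Localization.AtPrime q) := fun p =>
    ⟨p.1.asIdeal.map (algebraMap R (Localization.AtPrime q)),
      IsLocalization.isPrime_of_isPrime_disjoint q.primeCompl _ _ p.1.2 (hdisj p.1 p.2)⟩
  haveI hfp : ∀ p, (f p).asIdeal.IsPrime := fun p => (f p).2
  have hcomap : ∀ p, (f p).asIdeal.comap (algebraMap R (Localization.AtPrime q)) = p.1.asIdeal := fun p =>
    IsLocalization.comap_map_of_isPrime_disjoint q.primeCompl (Localization.AtPrime q) p.1.2 (hdisj p.1 p.2)
  have hf : Function.Injective f := fun a b h => Subtype.ext (PrimeSpectrum.ext (by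
    rw [← hcomap a, ← hcomap b, h]))
  have hlen : ∀ p, Module.length (Localization.AtPrime (f p).asIdeal) (Localization.AtPrime (f p).asIdeal) =
      Module.length (Localization.AtPrime p.1.asIdeal) (Localization.AtPrime p.1.asIdeal) := by
    intro p
    haveI h := IsLocalization.isLocalization_isLocalization_atPrime_isLocalization q.primeCompl
      (Localization.AtPrime (f p).asIdeal) (f p).asIdeal
    haveI : IsLocalization p.1.asIdeal.primeCompl (Localization.AtPrime (f p).asIdeal) := by
      have e : ((f p).asIdeal.comap (algebraMap R (Localization.AtPrime q))).primeCompl = p.1.asIdeal.primeCompl := by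
        simp only [hcomap p]
      rw [← e]; exact h
    exact length_self_congr (IsLocalization.algEquiv p.1.asIdeal.primeCompl
      (Localization.AtPrime (f p).asIdeal) (Localization.AtPrime p.1.asIdeal)).toRingEquiv
  have hgA : algebraMap R (Localization.AtPrime q) g ∈ IsLocalRing.maximalIdeal (Localization.AtPrime q) :=
    (IsLocalization.AtPrime.to_map_mem_maximal_iff (Localization.AtPrime q) q g).2 hgq
  have h1 := sum_length_le hgA hmax (T.attach.image f) (by
    intro P hP
    obtain ⟨p, -, rfl⟩ := Finset.mem_image.1 hP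
    intro h
    refine (hT p.1 p.2).2 ?_
    rw [← hcomap p, h]
    exact IsLocalization.AtPrime.under_maximalIdeal (S := Localization.AtPrime q) q)
  rw [Finset.sum_image fun a _ b _ h => hf h] at h1
  simp only [hlen] at h1
  rw [Finset.sum_attach T (fun p => Module.length (Localization.AtPrime p.asIdeal)
    (Localization.AtPrime p.asIdeal))] at h1
  refine h1.trans ?_
  let φ := Localization.localRingHom q q' (Ideal.Quotient.mk (Ideal.span {g})) hq'
  have hφ : Function.Surjective φ :=
    (RingHom.surjectiveOnStalks_of_surjective Ideal.Quotient.mk_surjective).localRingHom_surjective q q' hq'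
  rw [length_self_eq_quot_ker φ hφ]
  refine Module.length_le_of_surjective (Submodule.factor ?hk) (Submodule.factor_surjective ?hk)
  intro x hx
  obtain ⟨a, s, rfl⟩ := IsLocalization.exists_mk'_eq q.primeCompl x
  rw [RingHom.mem_ker, Localization.localRingHom_mk', IsLocalization.mk'_eq_zero_iff] at hx
  obtain ⟨⟨t, ht⟩, htx⟩ := hx
  obtain ⟨t, rfl⟩ := Ideal.Quotient.mk_surjective t
  rw [← map_mul, Ideal.Quotient.eq_zero_iff_mem, Ideal.mem_span_singleton'] at htx
  obtain ⟨c, hc⟩ := htx
  have htq : t ∈ q.primeCompl := fun h => ht (by rw [hq'] at h; exact h)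
  rw [IsLocalization.mk'_mem_iff]
  have hta : algebraMap R (Localization.AtPrime q) t * algebraMap R (Localization.AtPrime q) a ∈ Ideal.span {algebraMap R (Localization.AtPrime q) g} := by
    rw [← map_mul, ← hc, map_mul]
    exact Ideal.mul_mem_left _ _ (Ideal.mem_span_singleton_self _)
  exact (Ideal.unit_mul_mem_iff_mem _ (IsLocalization.map_units (Localization.AtPrime q) (⟨t, htq⟩ : q.primeCompl))).1 hta

theorem weighted : ∀ (d : ℕ) (R : Type u) [CommRing R] [IsNoetherianRing R] [IsLocalRing R]
    (g : Fin d → R), (∀ i, g i ∈ IsLocalRing.maximalIdeal R) →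
    IsLocalRing.maximalIdeal R ≤ (Ideal.span (Set.range g)).radical →
    ∀ S : Finset (PrimeSpectrum R), (∀ p ∈ S, ringKrullDim (R ⧸ p.asIdeal) = d) →
    ∑ p ∈ S, Module.length (Localization.AtPrime p.asIdeal) (Localization.AtPrime p.asIdeal) ≤
      Module.length R (R ⧸ Ideal.span (Set.range g)) := by
  intro d
  induction d with
  | zero =>
    intro R _ _ _ g _ hsop S _
    have hbot : Ideal.span (Set.range g) = ⊥ := by rw [Set.range_eq_empty, Ideal.span_empty]
    rw [hbot] at hsop ⊢
    rw [(Submodule.quotEquivOfEqBot (⊥ : Ideal R) rfl).length_eq]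
    have hall : ∀ p ∈ S, p = IsLocalRing.closedPoint R := fun p _ => PrimeSpectrum.ext
      (le_antisymm (IsLocalRing.le_maximalIdeal p.2.ne_top)
        (hsop.trans ((p.2.radical_le_iff).2 bot_le)))
    have hm : (IsLocalRing.closedPoint R).asIdeal.primeCompl ≤ IsUnit.submonoid R := fun x hx => by
      have : x ∉ IsLocalRing.maximalIdeal R := hx
      simpa [IsLocalRing.mem_maximalIdeal, mem_nonunits_iff, IsUnit.mem_submonoid_iff] using this
    refine (Finset.sum_le_sum_of_subset (fun p hp => Finset.mem_singleton.2 (hall p hp))).trans ?_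
    rw [Finset.sum_singleton]
    exact le_of_eq (length_self_congr
      (IsLocalization.atUnits R (IsLocalRing.closedPoint R).asIdeal.primeCompl hm).toRingEquiv).symm
  | succ d ih =>
    classical
    intro R _ _ _ g hg hsop S hS
    set I := Ideal.span {g 0} with hI
    haveI : Nontrivial (R ⧸ I) := Ideal.Quotient.nontrivial_iff.2
      (ne_top_of_le_ne_top (IsLocalRing.maximalIdeal.isMaximal R).ne_top
        ((Ideal.span_singleton_le_iff_mem _).2 (hg 0)))
    haveI : IsLocalRing (R ⧸ I) := IsLocalRing.of_surjective' _ Ideal.Quotient.mk_surjective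
    haveI : IsLocalHom (Ideal.Quotient.mk I) :=
      IsLocalHom.of_surjective _ Ideal.Quotient.mk_surjective
    let g' : Fin d → R ⧸ I := fun i => Ideal.Quotient.mk I (g i.succ)
    have hg' : ∀ i, g' i ∈ IsLocalRing.maximalIdeal (R ⧸ I) := fun i => by
      rw [IsLocalRing.mem_maximalIdeal, mem_nonunits_iff]
      exact fun hu => (hg i.succ) (isUnit_of_map_unit _ _ hu)
    have hmap : (Ideal.span (Set.range g)).map (Ideal.Quotient.mk I) = Ideal.span (Set.range g') := by
      rw [Ideal.map_span]
      refine le_antisymm (Ideal.span_le.2 ?_) (Ideal.span_le.2 ?_)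
      · rintro _ ⟨_, ⟨i, rfl⟩, rfl⟩
        refine Fin.cases ?_ (fun j => Ideal.subset_span ⟨j, rfl⟩) i
        rw [SetLike.mem_coe, Ideal.Quotient.eq_zero_iff_mem.2 (hI ▸ Ideal.mem_span_singleton_self _)]
        exact zero_mem _
      · rintro _ ⟨i, rfl⟩
        exact Ideal.subset_span ⟨_, ⟨i.succ, rfl⟩, rfl⟩
    have hsop' : IsLocalRing.maximalIdeal (R ⧸ I) ≤ (Ideal.span (Set.range g')).radical := by
      intro x hx
      obtain ⟨x, rfl⟩ := Ideal.Quotient.mk_surjective x
      have hxm : x ∈ IsLocalRing.maximalIdeal R := by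
        rw [IsLocalRing.mem_maximalIdeal, mem_nonunits_iff] at hx ⊢
        exact fun hu => hx (hu.map _)
      obtain ⟨n, hn⟩ := hsop hxm
      exact ⟨n, by rw [← map_pow, ← hmap]; exact Ideal.mem_map_of_mem _ hn⟩
    have hdim' : ringKrullDim (R ⧸ I) ≤ d := dim_le (R ⧸ I) g' hg' hsop'
    -- choose a prime over each member of `S`
    have hq : ∀ p ∈ S, ∃ q : PrimeSpectrum R, p.asIdeal ≤ q.asIdeal ∧ g 0 ∈ q.asIdeal ∧
        ringKrullDim (R ⧸ q.asIdeal) = d := by
      intro p hp
      have hle : (d : WithBot ℕ∞) ≤ ringKrullDim (R ⧸ (p.asIdeal ⊔ I)) := by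
        haveI : Nontrivial (R ⧸ p.asIdeal) := Ideal.Quotient.nontrivial_iff.2 p.2.ne_top
        haveI : IsLocalRing (R ⧸ p.asIdeal) := IsLocalRing.of_surjective' _ Ideal.Quotient.mk_surjective
        haveI : IsLocalHom (Ideal.Quotient.mk p.asIdeal) :=
          IsLocalHom.of_surjective _ Ideal.Quotient.mk_surjective
        have h1 := ringKrullDim_le_ringKrullDim_quotient_add_encard
          ({Ideal.Quotient.mk p.asIdeal (g 0)} : Set (R ⧸ p.asIdeal)) (by
            rw [Set.singleton_subset_iff, SetLike.mem_coe, IsLocalRing.ringJacobson_eq_maximalIdeal,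
              IsLocalRing.mem_maximalIdeal, mem_nonunits_iff]
            exact fun hu => (hg 0) (isUnit_of_map_unit _ _ hu))
        have e : ((R ⧸ p.asIdeal) ⧸ Ideal.span {Ideal.Quotient.mk p.asIdeal (g 0)}) ≃+*
            R ⧸ (p.asIdeal ⊔ I) :=
          (Ideal.quotEquivOfEq (by rw [hI, Ideal.map_span, Set.image_singleton])).trans
            (DoubleQuot.quotQuotEquivQuotSup p.asIdeal I)
        rw [hS p hp, Set.encard_singleton, ringKrullDim_eq_of_ringEquiv e] at h1
        exact cast_le_of_succ_le h1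
      obtain ⟨q, hq, hqd⟩ := exists_prime_dim _ hle
      exact ⟨q, le_sup_left.trans hq, hq (Submodule.mem_sup_right (hI ▸ Ideal.mem_span_singleton_self _)),
        le_antisymm ((quot_dim_le (le_sup_right.trans hq)).trans hdim') hqd⟩
    choose q hq1 hq2 hq3 using hq
    have hIq : ∀ p hp, I ≤ (q p hp).asIdeal := fun p hp =>
      (Ideal.span_singleton_le_iff_mem _).2 (hq2 p hp)
    let Q : {p // p ∈ S} → PrimeSpectrum (R ⧸ I) := fun p =>
      ⟨(q p.1 p.2).asIdeal.map (Ideal.Quotient.mk I),
        Ideal.map_isPrime_of_surjective Ideal.Quotient.mk_surjective (by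
          rw [Ideal.mk_ker]; exact hIq p.1 p.2)⟩
    have hQc : ∀ p, (Q p).asIdeal.comap (Ideal.Quotient.mk I) = (q p.1 p.2).asIdeal := fun p => by
      rw [Ideal.comap_map_of_surjective _ Ideal.Quotient.mk_surjective, ← RingHom.ker_eq_comap_bot,
        Ideal.mk_ker, sup_eq_left.2 (hIq p.1 p.2)]
    have hdimQ : ∀ Q' ∈ S.attach.image Q, ringKrullDim ((R ⧸ I) ⧸ Q'.asIdeal) = d := by
      intro Q' hQ'
      obtain ⟨p, -, rfl⟩ := Finset.mem_image.1 hQ'
      rw [ringKrullDim_eq_of_ringEquiv ((DoubleQuot.quotQuotEquivQuotSup I (q p.1 p.2).asIdeal).trans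
        (Ideal.quotEquivOfEq (sup_eq_right.2 (hIq p.1 p.2))))]
      exact hq3 p.1 p.2
    have h2 := ih (R ⧸ I) g' hg' hsop' (S.attach.image Q) hdimQ
    have h3 : Module.length (R ⧸ I) ((R ⧸ I) ⧸ Ideal.span (Set.range g')) =
        Module.length R (R ⧸ Ideal.span (Set.range g)) := by
      rw [Module.length_eq_of_surjective (S := R ⧸ I) (R := (R ⧸ I) ⧸ Ideal.span (Set.range g'))
          (M := (R ⧸ I) ⧸ Ideal.span (Set.range g')) Ideal.Quotient.mk_surjective,
        length_self_eq_quot_ker ((Ideal.Quotient.mk (Ideal.span (Set.range g'))).comp (Ideal.Quotient.mk I))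
          (Ideal.Quotient.mk_surjective.comp Ideal.Quotient.mk_surjective)]
      refine (Submodule.quotEquivOfEq _ _ ?_).length_eq
      rw [← RingHom.comap_ker, Ideal.mk_ker, ← hmap,
        Ideal.comap_map_of_surjective _ Ideal.Quotient.mk_surjective, ← RingHom.ker_eq_comap_bot,
        Ideal.mk_ker, sup_eq_left.2 ((Ideal.span_singleton_le_iff_mem _).2
          (Ideal.subset_span (Set.mem_range_self (f := g) 0)))]
    rw [← h3]
    refine le_trans ?_ h2
    rw [← Finset.sum_attach S, ← Finset.sum_fiberwise_of_maps_to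
      (s := S.attach) (t := S.attach.image Q) (g := Q) (fun p hp => Finset.mem_image_of_mem Q hp)]
    refine Finset.sum_le_sum fun Q' hQ' => ?_
    obtain ⟨p₀, -, rfl⟩ := Finset.mem_image.1 hQ'
    have hqd := hq3 p₀.1 p₀.2
    haveI : (Q p₀).asIdeal.IsPrime := (Q p₀).2
    refine le_trans (le_of_eq ?_) (step_local (d := d) (g 0) hdim' (q p₀.1 p₀.2).asIdeal (hq2 _ _) hqd.ge
      ((S.attach.filter fun p => Q p = Q p₀).image Subtype.val) ?_ (Q p₀).asIdeal (hQc p₀).symm)
    · exact (Finset.sum_image
        (f := fun p : PrimeSpectrum R => Module.length (Localization.AtPrime p.asIdeal)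
          (Localization.AtPrime p.asIdeal))
        (fun a _ b _ h => Subtype.ext h)).symm
    · intro p hp
      obtain ⟨p, hp', rfl⟩ := Finset.mem_image.1 hp
      have heq : (q p.1 p.2).asIdeal = (q p₀.1 p₀.2).asIdeal := by
        rw [← hQc p, ← hQc p₀, (Finset.mem_filter.1 hp').2]
      refine ⟨heq ▸ hq1 p.1 p.2, fun h => ?_⟩
      rw [← h, hS p.1 p.2] at hqd
      norm_cast at hqd
      omega

/-- Let R be a Noetherian local ring of Krull dimension d with maximal ideal m, and suppose g_1, ...,
g_d in m form a system of parameters (they generate an ideal with radical m). Then the number of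
minimal prime ideals p of R with R/p of Krull dimension d is at most the length of R/(g_1, ...,
g_d). -/
theorem result (R : Type u) [CommRing R] [IsNoetherianRing R] [IsLocalRing R]
    (d : ℕ) (hd : ringKrullDim R = d) (g : Fin d → R) (hg : ∀ i, g i ∈ IsLocalRing.maximalIdeal R)
    (hsop : IsLocalRing.maximalIdeal R ≤ (Ideal.span (Set.range g)).radical) :
    (Set.ncard {p : Ideal R | p ∈ minimalPrimes R ∧ ringKrullDim (R ⧸ p) = d} : ℕ∞) ≤
      Module.length R (R ⧸ Ideal.span (Set.range g)) := by
  classical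
  have hfin : {p : Ideal R | p ∈ minimalPrimes R ∧ ringKrullDim (R ⧸ p) = d}.Finite :=
    ((⊥ : Ideal R).finite_minimalPrimes_of_isNoetherianRing R).subset fun p hp => hp.1
  rw [Set.ncard_eq_toFinset_card _ hfin]
  let S : Finset (PrimeSpectrum R) := hfin.toFinset.attach.image
    (fun p => ⟨p.1, ((hfin.mem_toFinset).1 p.2).1.1.1⟩)
  have hcard : S.card = hfin.toFinset.card := by
    rw [Finset.card_image_of_injective _ (fun a b h => Subtype.ext (congrArg PrimeSpectrum.asIdeal h)),
      Finset.card_attach]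
  have hS : ∀ P ∈ S, ringKrullDim (R ⧸ P.asIdeal) = d := by
    intro P hP
    obtain ⟨p, -, rfl⟩ := Finset.mem_image.1 hP
    exact ((hfin.mem_toFinset).1 p.2).2
  refine le_trans ?_ (weighted d R g hg hsop S hS)
  rw [← hcard, Finset.card_eq_sum_ones, Nat.cast_sum]
  refine Finset.sum_le_sum fun P _ => ?_
  rw [Nat.cast_one]
  exact Order.one_le_iff_pos.2 Module.length_pos

end Groth.Agent.S7117
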