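import Groth.Statements.S7119
import Groth.Agent.Props.NormalCM
import Groth.Agent.MultBound.OneDim
import Groth.Agent.S7115
import Mathlib.RingTheory.Ideal.KrullsHeightTheorem
import Mathlib.RingTheory.Localization.Ideal

set_option autoImplicit false
set_option linter.style.haveILetI false
universe u
open CAlg

namespace Groth.Agent.S7119

open IsLocalRing

section Aux

variable {R : Type u} [CommRing R] [IsDomain R] [IsNoetherianRing R] [IsLocalRing R]
  [IsIntegrallyClosed R]

/-- The symbolic square of a prime. -/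
noncomputable def sq (P : Ideal R) [P.IsPrime] : Ideal R :=
  (maximalIdeal (Localization.AtPrime P) ^ 2).comap (algebraMap R _)

omit [IsDomain R] [IsNoetherianRing R] [IsLocalRing R] [IsIntegrallyClosed R] in
lemma sq_le (P : Ideal R) [P.IsPrime] : sq P ≤ P := by
  intro x hx
  exact (IsLocalization.AtPrime.to_map_mem_maximal_iff (Localization.AtPrime P) P x).1
    (Ideal.pow_le_self two_ne_zero hx)

omit [IsDomain R] [IsNoetherianRing R] [IsLocalRing R] [IsIntegrallyClosed R] in
lemma mul_mem_sq_iff (P : Ideal R) [P.IsPrime] {u x : R} (hu : u ∉ P) : u * x ∈ sq P ↔ x ∈ sq P := by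
  simp only [sq, Ideal.mem_comap, map_mul]
  exact Ideal.unit_mul_mem_iff_mem _ (IsLocalization.map_units _ (⟨u, hu⟩ : P.primeCompl))

omit [IsDomain R] [IsNoetherianRing R] [IsLocalRing R] [IsIntegrallyClosed R] in
lemma sq_mem_sq (P : Ideal R) [P.IsPrime] {x : R} (hx : x ∈ P) : x ^ 2 ∈ sq P := by
  simp only [sq, Ideal.mem_comap, map_pow]
  exact Ideal.pow_mem_pow ((IsLocalization.AtPrime.to_map_mem_maximal_iff _ P x).2 hx) 2

omit [IsLocalRing R] in
lemma isPrincipal_localization (P : Ideal R) [P.IsPrime] (hP : P.height = 1) :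
    (maximalIdeal (Localization.AtPrime P)).IsPrincipal := by
  haveI : IsIntegrallyClosed (Localization.AtPrime P) :=
    isIntegrallyClosed_of_isLocalization _ P.primeCompl P.primeCompl_le_nonZeroDivisors
  have hd : ringKrullDim (Localization.AtPrime P) = 1 := by
    rw [IsLocalization.AtPrime.ringKrullDim_eq_height P (Localization.AtPrime P), hP]; rfl
  haveI : Ring.KrullDimLE 1 (Localization.AtPrime P) := Ring.krullDimLE_iff.mpr (by simp [hd])
  have hf : ¬ IsField (Localization.AtPrime P) := fun h => by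
    rw [ringKrullDim_eq_zero_of_isField h] at hd; exact zero_ne_one hd
  haveI : Ring.DimensionLEOne (Localization.AtPrime P) := ⟨fun hp hp' => hp'.isMaximal_of_ne_bot hp⟩
  have hD : IsDedekindDomain (Localization.AtPrime P) := { }
  haveI : IsDiscreteValuationRing (Localization.AtPrime P) :=
    ((IsDiscreteValuationRing.TFAE _ hf).out 2 0).mp hD
  exact IsPrincipalIdealRing.principal _

omit [IsLocalRing R] in
lemma span_eq_maximalIdeal (P : Ideal R) [P.IsPrime] (hP : P.height = 1) {f : R} (hfP : f ∈ P)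
    (hf : f ∉ sq P) :
    Ideal.span {algebraMap R (Localization.AtPrime P) f} = maximalIdeal (Localization.AtPrime P) := by
  obtain ⟨π, hπ⟩ := (isPrincipal_localization P hP).principal
  rw [Ideal.submodule_span_eq] at hπ
  have hfm := (IsLocalization.AtPrime.to_map_mem_maximal_iff (Localization.AtPrime P) P f).2 hfP
  rw [hπ] at hfm
  obtain ⟨v, hv⟩ := Ideal.mem_span_singleton'.1 hfm
  have hvu : IsUnit v := by
    by_contra hvu
    refine hf ?_
    show algebraMap R (Localization.AtPrime P) f ∈ maximalIdeal (Localization.AtPrime P) ^ 2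
    rw [← hv, pow_two]
    exact Ideal.mul_mem_mul ((mem_maximalIdeal v).2 hvu) (hπ ▸ Ideal.mem_span_singleton_self π)
  rw [hπ, ← hv]
  exact Ideal.span_singleton_mul_left_unit hvu π

omit [IsLocalRing R] in
lemma exists_mem_notMem_sq (P : Ideal R) [P.IsPrime] (hP : P.height = 1) :
    ∃ x ∈ P, x ∉ sq P := by
  by_contra h
  push Not at h
  have h1 : maximalIdeal (Localization.AtPrime P) ≤ maximalIdeal (Localization.AtPrime P) ^ 2 := by
    rw [← Localization.AtPrime.map_eq_maximalIdeal, Ideal.map_le_iff_le_comap,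
      Localization.AtPrime.map_eq_maximalIdeal]
    exact h
  have h2 : maximalIdeal (Localization.AtPrime P) = ⊥ :=
    Submodule.eq_bot_of_le_smul_of_le_jacobson_bot (maximalIdeal (Localization.AtPrime P)) _
      (IsNoetherian.noetherian _) (by rw [smul_eq_mul, ← pow_two]; exact h1)
      (maximalIdeal_le_jacobson _)
  have h3 : P = ⊥ := by
    refine eq_bot_iff.2 fun x hx => ?_
    have := (IsLocalization.AtPrime.to_map_mem_maximal_iff (Localization.AtPrime P) P x).2 hx
    rw [h2, Submodule.mem_bot, map_eq_zero_iff _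
      (IsLocalization.injective _ P.primeCompl_le_nonZeroDivisors)] at this
    exact this
  subst h3
  simp [Ideal.height_bot] at hP

/-- The minimal primes of `(f)`. -/
noncomputable def T (f : R) : Finset (Ideal R) :=
  ((Ideal.span {f} : Ideal R).finite_minimalPrimes_of_isNoetherianRing R).toFinset

omit [IsDomain R] [IsLocalRing R] [IsIntegrallyClosed R] in
lemma mem_T {f : R} {P : Ideal R} : P ∈ T f ↔ P ∈ (Ideal.span {f}).minimalPrimes :=
  Set.Finite.mem_toFinset _

variable (hdim : ringKrullDim R = 2)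

include hdim

omit [IsIntegrallyClosed R] in
lemma maximalIdeal_height : (maximalIdeal R).height = 2 := by
  have h := maximalIdeal_height_eq_ringKrullDim (R := R)
  rw [hdim] at h
  exact WithBot.coe_eq_coe.1 h

omit [IsIntegrallyClosed R] in
lemma not_isPrincipal : ¬ (maximalIdeal R).IsPrincipal := by
  intro h
  have h1 := Ideal.height_le_one_of_isPrincipal_of_mem_minimalPrimes (maximalIdeal R) (maximalIdeal R)
    (by rw [Ideal.minimalPrimes_eq_subsingleton_self]; rfl)
  rw [maximalIdeal_height hdim] at h1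
  exact absurd h1 (by decide)

omit [IsIntegrallyClosed R] in
lemma T_spec {f : R} (hf : f ≠ 0) {P : Ideal R} (h : P ∈ T f) :
    P.IsPrime ∧ f ∈ P ∧ P.height = 1 ∧ P ≠ maximalIdeal R := by
  rw [mem_T] at h
  haveI := h.1.1
  have hfP : f ∈ P := h.1.2 (Ideal.mem_span_singleton_self f)
  have h1 : P.height ≤ 1 := Ideal.height_le_one_of_isPrincipal_of_mem_minimalPrimes _ P h
  refine ⟨h.1.1, hfP, le_antisymm h1 (Order.one_le_iff_pos.2 (pos_iff_ne_zero.2 fun h0 => ?_)), ?_⟩
  · rw [Ideal.height_eq_zero_iff_eq_bot] at h0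
    rw [h0, Submodule.mem_bot] at hfP
    exact hf hfP
  · rintro rfl
    rw [maximalIdeal_height hdim] at h1
    exact absurd h1 (by decide)

omit [IsIntegrallyClosed R] in
lemma mem_T_of_mem {f : R} (hf : f ≠ 0) {Q : Ideal R} [Q.IsPrime] (hfQ : f ∈ Q)
    (hQ : Q ≠ maximalIdeal R) : Q ∈ T f := by
  obtain ⟨P, hP, hPQ⟩ := Ideal.exists_minimalPrimes_le ((Ideal.span_singleton_le_iff_mem Q).2 hfQ)
  rcases hPQ.lt_or_eq with hlt | rfl
  · obtain ⟨hPp, -, hP1, -⟩ := T_spec hdim hf (mem_T.2 hP)
    have h2 := Ideal.height_add_one_le_of_lt_of_isPrime hlt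
    have h3 := Ideal.height_add_one_le_of_lt_of_isPrime
      (lt_of_le_of_ne (le_maximalIdeal (Ideal.IsPrime.ne_top')) hQ : Q < maximalIdeal R)
    rw [maximalIdeal_height hdim] at h3
    rw [hP1] at h2
    exact absurd ((add_le_add h2 le_rfl).trans h3) (by decide)
  · exact mem_T.2 hP

/-- `R/(f)` is reduced if `f` has order one along each of its primes. -/
lemma isReduced {f : R} (hf : f ≠ 0)
    (h : ∀ P (hP : P ∈ T f), haveI := (mem_T.1 hP).1.1; f ∉ sq P) :
    IsReduced (R ⧸ Ideal.span {f}) := by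
  refine (Ideal.isRadical_iff_quotient_reduced _).1 fun x hx => ?_
  let J : Ideal R := (Ideal.span {f}).colon (Ideal.span {x})
  have hJ : ∀ a, a ∈ J ↔ f ∣ a * x := fun a => by
    simp only [J, Submodule.mem_colon, Ideal.mem_span_singleton]
    exact ⟨fun h => h x (Ideal.mem_span_singleton_self x), fun h y hy => by
      obtain ⟨c, rfl⟩ := Ideal.mem_span_singleton'.1 hy
      exact (show c * (a * x) = a • (c * x) by rw [smul_eq_mul]; ring) ▸ h.mul_left c⟩
  have hrad : maximalIdeal R ≤ J.radical := by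
    rw [Ideal.radical_eq_sInf]
    refine le_sInf fun Q ⟨hJQ, hQ⟩ => ?_
    by_contra hne
    haveI := hQ
    have hfQ : f ∈ Q := hJQ ((hJ f).2 (dvd_mul_right f x))
    have hQT := mem_T_of_mem hdim hf hfQ (fun h => hne h.ge)
    obtain ⟨-, -, hQ1, -⟩ := T_spec hdim hf hQT
    have hxQ : x ∈ Q := hQ.isRadical (Ideal.radical_mono
      ((Ideal.span_singleton_le_iff_mem Q).2 hfQ) hx)
    have hxm := (IsLocalization.AtPrime.to_map_mem_maximal_iff (Localization.AtPrime Q) Q x).2 hxQ
    rw [← span_eq_maximalIdeal Q hQ1 hfQ (h Q hQT), ← Set.image_singleton, ← Ideal.map_span] at hxm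
    obtain ⟨⟨⟨y, hy⟩, t⟩, ht⟩ := (IsLocalization.mem_map_algebraMap_iff Q.primeCompl _).1 hxm
    refine t.2 (hJQ ((hJ _).2 ?_))
    rw [← map_mul] at ht
    have := IsLocalization.injective (Localization.AtPrime Q) Q.primeCompl_le_nonZeroDivisors ht
    rw [mul_comm, this]
    exact Ideal.mem_span_singleton.1 hy
  obtain ⟨k, hk⟩ := Ideal.exists_pow_le_of_le_radical_of_fg hrad (IsNoetherian.noetherian _)
  have key : ∀ j, maximalIdeal R ^ j ≤ J → f ∣ x := by
    intro j
    induction j with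
    | zero => intro h; simpa using (hJ 1).1 (h (by simp))
    | succ j ih =>
      intro h
      refine ih fun a ha => (hJ a).2 ?_
      refine Props.NormalCM.notMem_of_smul_mem hf (fun b hb => ?_) (not_isPrincipal hdim)
      rw [← mul_assoc]
      exact (hJ _).1 (h (pow_succ' (maximalIdeal R) j ▸ Ideal.mul_mem_mul hb ha))
  exact Ideal.mem_span_singleton.2 (key k hk)

omit [IsIntegrallyClosed R] in
lemma card_T_le {f g : R} (hf : f ∈ maximalIdeal R) (hf0 : f ≠ 0) (hg : g ∈ maximalIdeal R)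
    (hrad : maximalIdeal R ≤ (Ideal.span {f, g}).radical) :
    ((T f).card : ℕ∞) ≤ Module.length R (R ⧸ Ideal.span {f, g}) ∧
      Module.length R (R ⧸ Ideal.span {f, g}) ≠ ⊤ := by
  classical
  haveI : Nontrivial (R ⧸ Ideal.span {f}) := Ideal.Quotient.nontrivial_iff.2
    (ne_top_of_le_ne_top (maximalIdeal.isMaximal R).ne_top ((Ideal.span_singleton_le_iff_mem _).2 hf))
  let mk := Ideal.Quotient.mk (Ideal.span {f})
  haveI : IsLocalRing (R ⧸ Ideal.span {f}) := IsLocalRing.of_surjective' mk Ideal.Quotient.mk_surjective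
  haveI : IsLocalHom mk := IsLocalHom.of_surjective mk Ideal.Quotient.mk_surjective
  have hcm : (maximalIdeal (R ⧸ Ideal.span {f})).comap mk = maximalIdeal R :=
    IsLocalRing.eq_maximalIdeal (Ideal.comap_isMaximal_of_surjective mk Ideal.Quotient.mk_surjective)
  have hgm : mk g ∈ maximalIdeal (R ⧸ Ideal.span {f}) := by
    rw [← Ideal.mem_comap, hcm]; exact hg
  have hmax : ∀ Q : Ideal (R ⧸ Ideal.span {f}), Q.IsPrime → mk g ∈ Q → Q = maximalIdeal _ := by
    intro Q hQ hgQ
    have hle : Ideal.span {f, g} ≤ Q.comap mk := by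
      rw [Ideal.span_le]
      rintro y (rfl | rfl)
      · show mk y ∈ Q
        rw [show mk y = 0 from Ideal.Quotient.eq_zero_iff_mem.2 (Ideal.mem_span_singleton_self y)]
        exact Q.zero_mem
      · exact hgQ
    have h1 : Q.comap mk = maximalIdeal R := le_antisymm (le_maximalIdeal Ideal.IsPrime.ne_top')
      (hrad.trans ((Ideal.radical_mono hle).trans (hQ.comap mk).radical.le))
    exact Ideal.comap_injective_of_surjective mk Ideal.Quotient.mk_surjective (h1.trans hcm.symm)
  let S : Finset (PrimeSpectrum (R ⧸ Ideal.span {f})) := (T f).attach.image fun P =>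
    ⟨(P.1).map mk, Ideal.map_isPrime_of_surjective (H := (mem_T.1 P.2).1.1)
      Ideal.Quotient.mk_surjective (by rw [Ideal.mk_ker]; exact (mem_T.1 P.2).1.2)⟩
  have hback : ∀ P ∈ T f, (P.map mk).comap mk = P := fun P hP => by
    rw [Ideal.comap_map_of_surjective' mk Ideal.Quotient.mk_surjective, Ideal.mk_ker,
      sup_eq_left.2 (mem_T.1 hP).1.2]
  have hS : ∀ P ∈ S, P.asIdeal ≠ maximalIdeal (R ⧸ Ideal.span {f}) := by
    intro P hP heq
    obtain ⟨Q, -, rfl⟩ := Finset.mem_image.1 hP
    apply (T_spec hdim hf0 Q.2).2.2.2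
    rw [← hback Q.1 Q.2]
    exact (congrArg (Ideal.comap mk) heq).trans hcm
  have hcard : (T f).card = S.card := by
    rw [Finset.card_image_of_injective, Finset.card_attach]
    intro a b hab
    apply Subtype.ext
    rw [← hback a.1 a.2, ← hback b.1 b.2]
    exact congrArg (fun P => P.asIdeal.comap mk) hab
  have hlen : Module.length (R ⧸ Ideal.span {f}) ((R ⧸ Ideal.span {f}) ⧸ Ideal.span {mk g}) =
      Module.length R (R ⧸ Ideal.span {f, g}) := by
    have h1 := MultBound.length_self_eq_quot_ker (Ideal.Quotient.mk (Ideal.span {mk g}))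
      Ideal.Quotient.mk_surjective
    have h2 := MultBound.length_self_eq_quot_ker ((Ideal.Quotient.mk (Ideal.span {mk g})).comp mk)
      (Ideal.Quotient.mk_surjective.comp Ideal.Quotient.mk_surjective)
    rw [Ideal.mk_ker] at h1
    have hker : RingHom.ker ((Ideal.Quotient.mk (Ideal.span {mk g})).comp mk) = Ideal.span {f, g} := by
      rw [← RingHom.comap_ker, Ideal.mk_ker, show Ideal.span {mk g} = (Ideal.span {g}).map mk by
        rw [Ideal.map_span, Set.image_singleton],
        Ideal.comap_map_of_surjective' mk Ideal.Quotient.mk_surjective, Ideal.mk_ker,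
        Ideal.span_insert f {g}, sup_comm]
    rw [hker] at h2
    exact h1.symm.trans h2
  rw [← hlen]
  refine ⟨?_, MultBound.length_quot_ne_top hmax _ (Ideal.mem_span_singleton_self _)⟩
  refine le_trans ?_ (MultBound.sum_length_le hgm hmax S hS)
  rw [hcard, Finset.card_eq_sum_ones, Nat.cast_sum]
  exact Finset.sum_le_sum fun P _ => by
    rw [Nat.cast_one]; exact Order.one_le_iff_pos.2 Module.length_pos


end Aux

/-- Let R be a Noetherian normal local domain of Krull dimension 2 and let p_1, ..., p_r be finitely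
many prime ideals of height one. Then there is a nonzero element f lying in all the p_i such that
R/fR is reduced. -/
theorem result (R : Type u) [CommRing R] [IsDomain R]
    [IsNoetherianRing R] [IsLocalRing R] [IsIntegrallyClosed R] (hdim : ringKrullDim R = 2)
    (s : Finset (Ideal R)) (hs : ∀ p ∈ s, p.IsPrime ∧ p.height = 1) :
    ∃ f : R, f ≠ 0 ∧ (∀ p ∈ s, f ∈ p) ∧ IsReduced (R ⧸ Ideal.span {f}) := by
  classical
  have hbot : ∀ {P : Ideal R}, P.height = 1 → P ≠ ⊥ := fun h h0 => by
    subst h0; simp [Ideal.height_bot] at h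
  have hm0 : maximalIdeal R ≠ ⊥ := fun h => by
    have := maximalIdeal_height hdim
    rw [h, Ideal.height_bot] at this
    exact absurd this (by decide)
  obtain ⟨a, ha, ha0⟩ := Submodule.exists_mem_ne_zero_of_ne_bot hm0
  choose! b hb hb0 using fun p (hp : p ∈ s) =>
    Submodule.exists_mem_ne_zero_of_ne_bot (hbot (hs p hp).2)
  set f₀ := a * ∏ p ∈ s, b p with hf₀_def
  have hf₀ : f₀ ≠ 0 := mul_ne_zero ha0 (Finset.prod_ne_zero_iff.2 hb0)
  have hf₀m : f₀ ∈ maximalIdeal R := Ideal.mul_mem_right _ _ ha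
  have hf₀s : ∀ p ∈ s, f₀ ∈ p := fun p hp =>
    Ideal.mul_mem_left _ _ (p.mem_of_dvd (Finset.dvd_prod_of_mem _ hp) (hb p hp))
  obtain ⟨g, -, hgm, hgrad⟩ := S7115.result R 2 (by rw [hdim]; rfl) one_lt_two f₀ hf₀m
    (by rw [IsDomain.minimalPrimes_eq_singleton_bot]; rintro p rfl; simpa using hf₀) 0
  let g₀ := g 0
  have hrange : Set.range g = {g₀} := Set.range_eq_singleton_iff.2 fun i => by
    obtain rfl : i = (0 : Fin (2 - 1)) := Fin.ext (by have := i.isLt; omega)
    rfl
  rw [hrange] at hgrad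
  obtain ⟨M, hM⟩ := Ideal.exists_pow_le_of_le_radical_of_fg hgrad (IsNoetherian.noetherian _)
  obtain ⟨N₁, hN₁⟩ : ∃ n, f₀ ∉ maximalIdeal R ^ n := by
    by_contra h
    push Not at h
    have h1 : f₀ ∈ ⨅ n, maximalIdeal R ^ n := Ideal.mem_iInf.2 h
    rw [Ideal.iInf_pow_eq_bot_of_isLocalRing _ (maximalIdeal.isMaximal R).ne_top] at h1
    exact hf₀ (by simpa using h1)
  let N := M + 1 + N₁
  have hfN : f₀ ∉ maximalIdeal R ^ N := fun h => hN₁ (Ideal.pow_le_pow_right (by omega) h)
  -- perturbations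
  let Good : R → Prop := fun f => f - f₀ ∈ maximalIdeal R ^ N ∧ ∀ p ∈ s, f ∈ p
  have hne : ∀ f, Good f → f ≠ 0 ∧ f ∈ maximalIdeal R := by
    intro f hf
    refine ⟨fun h => hfN (by simpa [h] using hf.1), ?_⟩
    have := add_mem (Ideal.pow_le_self (show N ≠ 0 by omega) hf.1) hf₀m
    simpa using this
  have hspan : ∀ f, Good f → Ideal.span {f, g₀} = Ideal.span {f₀, g₀} := by
    intro f hf
    have hmI : maximalIdeal R ^ N ≤ maximalIdeal R • Ideal.span {f₀, g₀} := by
      refine (Ideal.pow_le_pow_right (show M + 1 ≤ N by omega)).trans ?_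
      rw [smul_eq_mul, pow_succ']
      exact Ideal.mul_mono_right hM
    have hle : Ideal.span {f, g₀} ≤ Ideal.span {f₀, g₀} := by
      rw [Ideal.span_le]
      rintro y (rfl | rfl)
      · rw [SetLike.mem_coe, ← sub_add_cancel y f₀]
        exact add_mem (Submodule.smul_le_right (hmI hf.1)) (Ideal.subset_span (by simp))
      · exact Ideal.subset_span (by simp)
    refine le_antisymm hle (Submodule.le_of_le_smul_of_le_jacobson_bot
      (IsNoetherian.noetherian _) (maximalIdeal_le_jacobson _) ?_)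
    rw [Ideal.span_le]
    rintro y (rfl | rfl)
    · have h1 : f - (f - f₀) ∈
          Ideal.span {f, g₀} ⊔ maximalIdeal R • Ideal.span {f₀, g₀} :=
        sub_mem (Submodule.mem_sup_left (Ideal.subset_span (by simp)))
          (Submodule.mem_sup_right (hmI hf.1))
      rwa [sub_sub_cancel] at h1
    · exact Submodule.mem_sup_left (Ideal.subset_span (by simp))
  obtain ⟨-, hfin⟩ := card_T_le hdim hf₀m hf₀ (hgm 0) hgrad
  have hbound : ∀ f, Good f → (T f).card ≤ (Module.length R (R ⧸ Ideal.span {f₀, g₀})).toNat := by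
    intro f hf
    have h1 := (card_T_le hdim (hne f hf).2 (hne f hf).1 (hgm 0)
      (by rw [hspan f hf]; exact hgrad)).1
    rw [hspan f hf, ← ENat.natCast_toNat hfin] at h1
    exact_mod_cast h1
  let B : Set ℕ := {n | ∃ f, Good f ∧ (T f).card = n}
  have hBb : BddAbove B := ⟨_, by rintro n ⟨f, hf, rfl⟩; exact hbound f hf⟩
  have hBn : B.Nonempty := ⟨_, f₀, ⟨by simp, hf₀s⟩, rfl⟩
  obtain ⟨f, hf, hfcard⟩ := Nat.sSup_mem hBn hBb
  refine ⟨f, (hne f hf).1, hf.2, ?_⟩
  refine isReduced hdim (hne f hf).1 fun P₀ hP₀ => ?_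
  by_contra hsq
  -- the perturbation `h`
  have hT := fun P (hP : P ∈ T f) => T_spec hdim (hne f hf).1 hP
  have hπ : ∀ P, P ∈ T f → ∃ x ∈ P, (∀ [P.IsPrime], x ∉ sq P) ∧ ∀ Q ∈ T f, Q ≠ P → x ∉ Q := by
    intro P hP
    obtain ⟨hPp, -, hP1, -⟩ := hT P hP
    haveI := hPp
    let J : Finset (Ideal R) := insert (sq P) ((T f).erase P)
    have : ¬ ((P : Set R) ⊆ ⋃ i ∈ (↑J : Set (Ideal R)), (i : Set R)) := by
      intro hsub
      have key := (Ideal.subset_union_prime (R := R) (s := J) (f := id) (sq P) (sq P) ?_).1 hsub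
      · obtain ⟨i, hi, hle⟩ := key
        rcases Finset.mem_insert.1 hi with rfl | hi
        · obtain ⟨x, hx, hx'⟩ := exists_mem_notMem_sq P hP1
          exact hx' (hle hx)
        · obtain ⟨hne', hiT⟩ := Finset.mem_erase.1 hi
          haveI := (hT i hiT).1
          have h1 := (mem_T.1 hiT).2 ⟨hPp, (mem_T.1 hP).1.2⟩ hle
          exact hne' (le_antisymm h1 hle)
      · intro i hi h1 _
        rcases Finset.mem_insert.1 hi with rfl | hi
        · exact absurd rfl h1
        · exact (hT i (Finset.mem_erase.1 hi).2).1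
    obtain ⟨x, hx, hx'⟩ := Set.not_subset.1 this
    simp only [Set.mem_iUnion, not_exists, Finset.mem_coe] at hx'
    refine ⟨x, hx, fun {_} h => hx' (sq P) (Finset.mem_insert_self _ _) h, fun Q hQ hQP h => ?_⟩
    exact hx' Q (Finset.mem_insert_of_mem (Finset.mem_erase.2 ⟨hQP, hQ⟩)) h
  choose! π hπP hπsq hπQ using hπ
  obtain ⟨u, hu, huT⟩ : ∃ u ∈ maximalIdeal R, ∀ Q ∈ T f, u ∉ Q := by
    have : ¬ ((maximalIdeal R : Set R) ⊆ ⋃ i ∈ (↑(T f) : Set (Ideal R)), (i : Set R)) := by
      intro hsub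
      obtain ⟨i, hi, hle⟩ := (Ideal.subset_union_prime (R := R) (s := T f) (f := id) ⊥ ⊥
        (fun i hi _ _ => (hT i hi).1)).1 hsub
      haveI := (hT i hi).1
      exact (hT i hi).2.2.2 (le_antisymm (le_maximalIdeal Ideal.IsPrime.ne_top') hle)
    obtain ⟨u, hu, hu'⟩ := Set.not_subset.1 this
    simp only [Set.mem_iUnion, not_exists, Finset.mem_coe] at hu'
    exact ⟨u, hu, hu'⟩
  let e : Ideal R → ℕ := fun P => if hP : P ∈ T f then
    (haveI := (hT P hP).1; if f ∈ sq P then 1 else 2) else 1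
  have he : ∀ P, e P ≠ 0 := fun P => by simp only [e]; split_ifs <;> omega
  let h := u ^ N * ∏ P ∈ T f, π P ^ e P
  have hhm : h ∈ maximalIdeal R ^ N := Ideal.mul_mem_right _ _ (Ideal.pow_mem_pow hu N)
  have hhP : ∀ P ∈ T f, h ∈ P := fun P hP =>
    Ideal.mul_mem_left _ _ (P.mem_of_dvd (Finset.dvd_prod_of_mem _ hP)
      (Ideal.pow_mem_of_mem _ (hπP P hP) _ (Nat.pos_of_ne_zero (he P))))
  have hsum : ∀ P (hP : P ∈ T f), haveI := (hT P hP).1; f + h ∉ sq P := by
    intro P hP
    haveI := (hT P hP).1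
    have hout : u ^ N * ∏ Q ∈ (T f).erase P, π Q ^ e Q ∉ P := by
      intro h1
      rcases (hT P hP).1.mem_or_mem h1 with h1 | h1
      · exact huT P hP ((hT P hP).1.mem_of_pow_mem N h1)
      · obtain ⟨Q, hQ, h2⟩ := (Ideal.IsPrime.prod_mem_iff (hp := (hT P hP).1)).1 h1
        obtain ⟨hQP, hQT⟩ := Finset.mem_erase.1 hQ
        exact hπQ Q hQT P hP hQP.symm ((hT P hP).1.mem_of_pow_mem _ h2)
    have hh : h ∈ sq P ↔ π P ^ e P ∈ sq P := by
      rw [show h = u ^ N * (∏ Q ∈ (T f).erase P, π Q ^ e Q) * π P ^ e P by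
        simp only [h]; rw [← Finset.prod_erase_mul _ _ hP]; ring, mul_mem_sq_iff P hout]
    intro hmem
    by_cases hfP : f ∈ sq P
    · have h1 : h ∈ sq P := by simpa using sub_mem hmem hfP
      rw [hh] at h1
      simp only [e, dif_pos hP, if_pos hfP, pow_one] at h1
      exact hπsq P hP h1
    · refine hfP ?_
      have h1 : h ∈ sq P := by
        rw [hh]; simp only [e, dif_pos hP, if_neg hfP]; exact sq_mem_sq P (hπP P hP)
      simpa using sub_mem hmem h1
  have hGood : Good (f + h) := by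
    refine ⟨?_, fun p hp => ?_⟩
    · rw [show f + h - f₀ = (f - f₀) + h by ring]; exact add_mem hf.1 hhm
    · haveI := (hs p hp).1
      have hpm : p ≠ maximalIdeal R := fun h1 => by
        have h2 := (hs p hp).2
        rw [h1, maximalIdeal_height hdim] at h2
        exact absurd h2 (by decide)
      exact add_mem (hf.2 p hp) (hhP p (mem_T_of_mem hdim (hne f hf).1 (hf.2 p hp) hpm))
  have hsub : T f ⊆ T (f + h) := fun P hP => by
    haveI := (hT P hP).1
    exact mem_T_of_mem hdim (hne _ hGood).1 (add_mem (hT P hP).2.1 (hhP P hP)) (hT P hP).2.2.2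
  have heq : T f = T (f + h) := Finset.eq_of_subset_of_card_le hsub
    (hfcard ▸ le_csSup hBb ⟨_, hGood, rfl⟩)
  have hred : IsReduced (R ⧸ Ideal.span {f + h}) :=
    isReduced hdim (hne _ hGood).1 fun P hP => by
      have hP' : P ∈ T f := heq ▸ hP
      exact hsum P hP'
  have hrad : f ∈ Ideal.span {f + h} := by
    refine ((Ideal.isRadical_iff_quotient_reduced _).2 hred) ?_
    rw [← Ideal.sInf_minimalPrimes, Ideal.mem_sInf]
    intro Q hQ
    exact (hT Q (heq ▸ mem_T.2 hQ)).2.1
  obtain ⟨c, hc⟩ := Ideal.mem_span_singleton.1 hrad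
  haveI := (hT P₀ hP₀).1
  by_cases hcu : IsUnit c
  · refine hsum P₀ hP₀ ?_
    obtain ⟨v, rfl⟩ := hcu
    have h1 : (f + h) = (↑v⁻¹ : R) * f := by
      calc f + h = ((f + h) * (v : R)) * (↑v⁻¹ : R) := by rw [mul_assoc, Units.mul_inv, mul_one]
        _ = (↑v⁻¹ : R) * f := by rw [← hc, mul_comm]
    rw [h1]
    exact Ideal.mul_mem_left _ _ hsq
  · have h1 : IsUnit (1 - c) := isUnit_one_sub_self_of_mem_nonunits c hcu
    have h2 : (1 - c) * f ∈ maximalIdeal R ^ N := by
      rw [show (1 - c) * f = h * c by linear_combination hc]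
      exact Ideal.mul_mem_right _ _ hhm
    rw [Ideal.unit_mul_mem_iff_mem _ h1] at h2
    refine hfN ?_
    rw [show f₀ = f - (f - f₀) by ring]
    exact sub_mem h2 hf.1

end Groth.Agent.S7119
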