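import Groth.Statements.S7118
import Groth.Agent.S7119

set_option autoImplicit false
universe u
open CAlg

namespace Groth.Agent.S7118

/-- Let A be a Noetherian normal local domain of Krull dimension 2 and a a nonzero element of the
maximal ideal. Then there is a nonzero element c of A such that A/cA is reduced and a divides some
power cⁿ. (The published statement does not require c to be nonzero and is then satisfied by c = 0;
this row requires c ≠ 0.) -/
theorem result (A : Type u) [CommRing A] [IsDomain A] [IsNoetherianRing A]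
    [IsLocalRing A] [IsIntegrallyClosed A] (hdim : ringKrullDim A = 2) (a : A)
    (ha : a ∈ IsLocalRing.maximalIdeal A) (ha0 : a ≠ 0) :
    ∃ c : A, c ≠ 0 ∧ IsReduced (A ⧸ Ideal.span {c}) ∧ ∃ n : ℕ, a ∣ c ^ n := by
  obtain ⟨c, hc0, hc, hred⟩ := S7119.result A hdim (S7119.T a) fun p hp =>
    ⟨(S7119.T_spec hdim ha0 hp).1, (S7119.T_spec hdim ha0 hp).2.2.1⟩
  refine ⟨c, hc0, hred, ?_⟩
  have h : c ∈ (Ideal.span {a} : Ideal A).radical := by
    rw [← Ideal.sInf_minimalPrimes, Ideal.mem_sInf]
    exact fun Q hQ => hc Q (S7119.mem_T.2 hQ)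
  obtain ⟨n, hn⟩ := h
  exact ⟨n, Ideal.mem_span_singleton.1 hn⟩

end Groth.Agent.S7118
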