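import Groth.Statements.S7120
import Mathlib.LinearAlgebra.Basis.Prod
import Mathlib.LinearAlgebra.Dimension.Constructions
import Mathlib.LinearAlgebra.Dimension.Free
import Mathlib.LinearAlgebra.FreeModule.Basic
import Mathlib.LinearAlgebra.FreeModule.Finite.Basic
import Mathlib.LinearAlgebra.StdBasis
import Mathlib.Tactic.Abel


set_option autoImplicit false
universe u
open CAlg

namespace Groth.Agent.S7120

/-- A finitely generated module embedding in a finite free module over a Bézout domain is free. -/
theorem freeOfInjective {R : Type u} [CommRing R] [IsDomain R] [IsBezout R] (n : ℕ) :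
    ∀ {N : Type u} [AddCommGroup N] [Module R N] [Module.Finite R N] (ι : N →ₗ[R] (Fin n → R)),
      Function.Injective ι → Module.Free R N := by
  induction n with
  | zero =>
    intro N _ _ _ ι hι
    have : Subsingleton N := hι.subsingleton
    exact Module.Free.of_subsingleton R N
  | succ n ih =>
    intro N _ _ _ ι hι
    let p : N →ₗ[R] R := (LinearMap.proj (Fin.last n)).comp ι
    have hfg : (LinearMap.range p).FG := by
      rw [LinearMap.range_eq_map]; exact Module.Finite.fg_top.map p
    obtain ⟨⟨g, hg⟩⟩ := IsBezout.isPrincipal_of_FG _ hfg
    by_cases hg0 : g = 0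
    · refine ih ((LinearMap.funLeft R R Fin.castSucc).comp ι) fun a b hab => hι ?_
      have hp : ∀ a, p a = 0 := fun a => by
        have : p a ∈ LinearMap.range p := ⟨a, rfl⟩
        rwa [hg, hg0, Submodule.span_zero_singleton, Submodule.mem_bot] at this
      ext i
      induction i using Fin.lastCases with
      | last => exact (hp a).trans (hp b).symm
      | cast i => exact congrFun hab i
    · obtain ⟨e, he⟩ : g ∈ LinearMap.range p := hg ▸ Submodule.mem_span_singleton_self g
      have hdvd : ∀ a, ∃ c, p a = c * g := fun a => by
        have : p a ∈ LinearMap.range p := ⟨a, rfl⟩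
        rw [hg, Submodule.mem_span_singleton] at this
        exact this.imp fun c hc => hc.symm
      choose c hc using hdvd
      let cl : N →ₗ[R] R :=
        { toFun := c
          map_add' := fun a b => mul_right_cancel₀ hg0 (by rw [add_mul, ← hc, ← hc, ← hc, map_add])
          map_smul' := fun r a => mul_right_cancel₀ hg0 (by
            rw [RingHom.id_apply, smul_eq_mul, mul_assoc, ← hc, ← hc, map_smul, smul_eq_mul]) }
      have hce : cl e = 1 := mul_right_cancel₀ hg0 (by rw [one_mul]; exact (hc e).symm.trans he)
      let r : N →ₗ[R] LinearMap.ker cl :=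
        LinearMap.codRestrict _ (LinearMap.id - cl.smulRight e) fun a => by simp [hce]
      have hr : Function.Surjective r := fun a => ⟨a, by refine Subtype.ext ?_; change (a : N) - cl (a : N) • e = a; rw [LinearMap.mem_ker.mp a.2]; simp⟩
      have : Module.Finite R (LinearMap.ker cl) := Module.Finite.of_surjective r hr
      have hfree := ih ((LinearMap.funLeft R R Fin.castSucc).comp (ι.comp (LinearMap.ker cl).subtype)) (by
        intro a b hab
        refine Subtype.ext (hι ?_)
        have hp : ∀ a : LinearMap.ker cl, p a = 0 := fun a => by
          rw [hc]; rw [show c (a : N) = 0 from a.2, zero_mul]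
        ext i
        induction i using Fin.lastCases with
        | last => exact (hp a).trans (hp b).symm
        | cast i => exact congrFun hab i)
      let E : N ≃ₗ[R] R × LinearMap.ker cl := LinearEquiv.ofLinear (cl.prod r)
        ((LinearMap.id.smulRight e).coprod (LinearMap.ker cl).subtype)
        (by
          apply LinearMap.ext
          rintro ⟨t, a⟩
          refine Prod.ext ?_ (Subtype.ext ?_)
          · simp [hce, LinearMap.mem_ker.mp a.2]
          · change (t • e + (a : N)) - cl (t • e + (a : N)) • e = a
            simp [hce, LinearMap.mem_ker.mp a.2])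
        (by
          apply LinearMap.ext; intro a
          change cl a • e + (a - cl a • e) = a
          abel)
      exact Module.Free.of_equiv E.symm

/-- Over a Bézout domain, a finitely generated submodule of a free module is itself free of finite rank. -/
theorem result (R : Type u) [CommRing R] [IsDomain R] [IsBezout R]
    (F : Type u) [AddCommGroup F] [Module R F] [Module.Free R F] (N : Submodule R F) (hN : N.FG) :
    Module.Free R N ∧ Module.Finite R N := by
  classical
  have : Module.Finite R N := Module.Finite.iff_fg.mpr hN
  refine ⟨?_, this⟩
  let b := Module.Free.chooseBasis R F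
  obtain ⟨G, hG⟩ := hN
  let t := G.biUnion fun g => (b.repr g).support
  let π : F →ₗ[R] (Fin t.card → R) :=
    LinearMap.pi fun i => (Finsupp.lapply ((t.equivFin.symm i).val)).comp b.repr.toLinearMap
  have hN' : ∀ x ∈ N, (b.repr x).support ⊆ t := by
    intro x hx
    rw [← hG] at hx
    have : b.repr x ∈ Finsupp.supported R R (t : Set _) := by
      suffices h : Submodule.span R (G : Set F) ≤ (Finsupp.supported R R (t : Set _)).comap b.repr.toLinearMap from h hx
      refine Submodule.span_le.mpr fun g hg => ?_
      change (b.repr g) ∈ Finsupp.supported R R (t : Set _)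
      rw [Finsupp.mem_supported]
      exact Finset.coe_subset.mpr (Finset.subset_biUnion_of_mem (fun g => (b.repr g).support) hg)
    exact_mod_cast this
  refine freeOfInjective t.card (π.comp N.subtype) ?_
  rw [← LinearMap.ker_eq_bot, LinearMap.ker_eq_bot']
  intro x hx
  refine Subtype.ext (b.repr.injective ?_)
  ext i
  by_cases hi : i ∈ t
  · simpa [π] using congrFun hx (t.equivFin ⟨i, hi⟩)
  · simpa using fun hne => hi (hN' _ x.2 (Finsupp.mem_support_iff.mpr hne))

end Groth.Agent.S7120
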