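import Groth.Statements.S7121
import Groth.Agent.S7120
import Mathlib.Algebra.Module.FinitePresentation
import Mathlib.Algebra.Module.Torsion.Basic
import Mathlib.LinearAlgebra.FreeModule.PID
import Mathlib.RingTheory.Bezout
import Mathlib.RingTheory.Finiteness.Cardinality
import Mathlib.Tactic.LinearCombination
import Mathlib.Tactic.Ring
import Mathlib.Tactic.Abel


set_option autoImplicit false
set_option linter.style.haveILetI false
universe u
open CAlg

namespace Groth.Agent.S7121

variable (R : Type u) [CommRing R]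

/-- `e • id` factors through a finite sum of cyclic modules. -/
def SRet {R : Type u} [CommRing R] (T : Type u) [AddCommGroup T] [Module R T] (e : R) : Prop :=
  ∃ (n : ℕ) (f : Fin n → R) (i : T →ₗ[R] ((j : Fin n) → R ⧸ Ideal.span {f j}))
    (p : ((j : Fin n) → R ⧸ Ideal.span {f j}) →ₗ[R] T), p ∘ₗ i = e • LinearMap.id

variable {R}

lemma SRet.zero {T : Type u} [AddCommGroup T] [Module R T] : SRet (R := R) T 0 :=
  ⟨0, Fin.elim0, 0, 0, by simp⟩

lemma SRet.smul {T : Type u} [AddCommGroup T] [Module R T] (c : R) {e : R} (h : SRet (R := R) T e) :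
    SRet (R := R) T (c * e) := by
  obtain ⟨n, f, i, p, h⟩ := h
  exact ⟨n, f, i, c • p, by rw [LinearMap.smul_comp, h, smul_smul]⟩

lemma SRet.mk' {T : Type u} [AddCommGroup T] [Module R T] {ι : Type} [Finite ι] (f : ι → R)
    (i : T →ₗ[R] ((j : ι) → R ⧸ Ideal.span {f j}))
    (p : ((j : ι) → R ⧸ Ideal.span {f j}) →ₗ[R] T) {e : R} (h : p ∘ₗ i = e • LinearMap.id) :
    SRet (R := R) T e := by
  obtain ⟨n, ⟨E⟩⟩ := Finite.exists_equiv_fin ι
  let L := LinearEquiv.piCongrLeft' R (fun j => R ⧸ Ideal.span {f j}) E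
  refine ⟨n, f ∘ E.symm, L.toLinearMap ∘ₗ i, p ∘ₗ L.symm.toLinearMap, ?_⟩
  rw [← h]
  ext t
  simp only [LinearMap.comp_apply, LinearEquiv.coe_coe]
  exact congrArg p (L.symm_apply_apply (i t))

lemma SRet.combine {T : Type u} [AddCommGroup T] [Module R T] {n m : ℕ} (f : Fin n → R) (g : Fin m → R)
    (i : T →ₗ[R] ((j : Fin n) → R ⧸ Ideal.span {f j}))
    (p : ((j : Fin n) → R ⧸ Ideal.span {f j}) →ₗ[R] T)
    (j : T →ₗ[R] ((j : Fin m) → R ⧸ Ideal.span {g j}))
    (q : ((j : Fin m) → R ⧸ Ideal.span {g j}) →ₗ[R] T) {e : R}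
    (h : ∀ t, p (i t) + q (j t) = e • t) : SRet (R := R) T e := by
  let i' : ∀ s : Fin n ⊕ Fin m, T →ₗ[R] R ⧸ Ideal.span {Sum.elim f g s} := fun s =>
    match s with
    | .inl a => LinearMap.proj a ∘ₗ i
    | .inr b => LinearMap.proj b ∘ₗ j
  refine SRet.mk' (Sum.elim f g) (LinearMap.pi i')
    (p ∘ₗ (LinearMap.pi fun a : Fin n =>
        (LinearMap.proj (Sum.inl a) : ((s : Fin n ⊕ Fin m) → R ⧸ Ideal.span {Sum.elim f g s}) →ₗ[R] _)) +
      q ∘ₗ (LinearMap.pi fun a : Fin m =>
        (LinearMap.proj (Sum.inr a) : ((s : Fin n ⊕ Fin m) → R ⧸ Ideal.span {Sum.elim f g s}) →ₗ[R] _))) ?_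
  ext t
  exact h t

lemma SRet.add {T : Type u} [AddCommGroup T] [Module R T] {a b : R} (ha : SRet (R := R) T a)
    (hb : SRet (R := R) T b) : SRet (R := R) T (a + b) := by
  obtain ⟨n, f, i, p, h⟩ := ha
  obtain ⟨m, g, j, q, h'⟩ := hb
  refine SRet.combine f g i p j q fun t => ?_
  rw [add_smul, ← show (p ∘ₗ i) t = a • t from LinearMap.congr_fun h t,
    ← show (q ∘ₗ j) t = b • t from LinearMap.congr_fun h' t]
  rfl

variable [IsDomain R] [IsBezout R]

lemma exists_pivot (m : Ideal R) [m.IsPrime] {α : Type*} (S : Finset α) (a : α → R) :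
    (∀ x ∈ S, a x = 0) ∨ ∃ x₀ ∈ S, a x₀ ≠ 0 ∧ ∃ s, s ∉ m ∧ ∀ x ∈ S, a x₀ ∣ s * a x := by
  classical
  induction S using Finset.induction_on with
  | empty => left; simp
  | insert y S hy ih =>
    by_cases hay : a y = 0
    · rcases ih with h | ⟨x₀, hx₀, h0, s, hs, h⟩
      · left; simpa [hay] using h
      · refine .inr ⟨x₀, Finset.mem_insert_of_mem hx₀, h0, s, hs, fun x hx => ?_⟩
        rcases Finset.mem_insert.1 hx with rfl | hx
        · simp [hay]
        · exact h x hx
    · rcases ih with h | ⟨x₀, hx₀, h0, s, hs, h⟩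
      · refine .inr ⟨y, Finset.mem_insert_self _ _, hay, 1,
          (Ideal.ne_top_iff_one m).1 (Ideal.IsPrime.ne_top ‹_›), fun x hx => ?_⟩
        rcases Finset.mem_insert.1 hx with rfl | hx
        · simp
        · simp [h x hx]
      · obtain ⟨g, hg⟩ : ∃ g, Ideal.span ({a y, a x₀} : Set R) = Ideal.span {g} :=
          (IsBezout.isPrincipal_of_FG (Ideal.span {a y, a x₀}) (Submodule.fg_span (by simp))).principal
        obtain ⟨c, hc⟩ := Ideal.mem_span_singleton'.1
          (show a y ∈ Ideal.span {g} from hg ▸ Ideal.subset_span (by simp))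
        obtain ⟨c', hc'⟩ := Ideal.mem_span_singleton'.1
          (show a x₀ ∈ Ideal.span {g} from hg ▸ Ideal.subset_span (by simp))
        obtain ⟨u, v, huv⟩ := Ideal.mem_span_pair.1
          (show g ∈ Ideal.span {a y, a x₀} from hg.symm ▸ Ideal.mem_span_singleton_self g)
        have hg0 : g ≠ 0 := fun hg0 => hay (by rw [← hc, hg0, mul_zero])
        have h1 : u * c + v * c' = 1 := by
          apply mul_right_cancel₀ hg0
          linear_combination huv + u * hc + v * hc'
        by_cases hcm : c ∈ m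
        · have hc'm : c' ∉ m := fun hm =>
            Ideal.IsPrime.ne_top ‹_› ((Ideal.eq_top_iff_one m).2
              (h1 ▸ add_mem (m.mul_mem_left u hcm) (m.mul_mem_left v hm)))
          refine .inr ⟨x₀, Finset.mem_insert_of_mem hx₀, h0, c' * s,
            fun hm => (Ideal.IsPrime.mem_or_mem ‹_› hm).elim hc'm hs, fun x hx => ?_⟩
          rcases Finset.mem_insert.1 hx with rfl | hx
          · exact ⟨s * c, by rw [← hc, ← hc']; ring⟩
          · rw [mul_assoc]; exact (h x hx).mul_left _
        · refine .inr ⟨y, Finset.mem_insert_self _ _, hay, c * s,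
            fun hm => (Ideal.IsPrime.mem_or_mem ‹_› hm).elim hcm hs, fun x hx => ?_⟩
          rcases Finset.mem_insert.1 hx with rfl | hx
          · exact dvd_mul_left _ _
          · obtain ⟨w, hw⟩ := h x hx
            exact ⟨c' * w, by rw [mul_assoc, hw, ← hc, ← hc']; ring⟩

variable (R) in
lemma local_sret (m : Ideal R) [m.IsMaximal] : ∀ (N k : ℕ) (r : Fin k → (Fin N → R))
    (T : Type u) [AddCommGroup T] [Module R T] (π : (Fin N → R) →ₗ[R] T), Function.Surjective π →
    Submodule.span R (Set.range r) = LinearMap.ker π → ∃ e, e ∉ m ∧ SRet (R := R) T e := by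
  classical
  intro N
  induction N with
  | zero =>
    intro k r T _ _ π hπ _
    haveI : Subsingleton T := hπ.subsingleton
    exact ⟨1, (Ideal.ne_top_iff_one m).1 (Ideal.IsPrime.ne_top inferInstance), 0, Fin.elim0, 0, 0,
      LinearMap.ext fun _ => Subsingleton.elim _ _⟩
  | succ N ih =>
    intro k r T _ _ π hπ hker
    rcases exists_pivot m (Finset.univ : Finset (Fin k × Fin (N + 1))) (fun x => r x.1 x.2) with h | ⟨⟨a, b⟩, -, hd, s, hs, h⟩
    · have hinj : Function.Injective π := by
        rw [← LinearMap.ker_eq_bot, ← hker, Submodule.span_eq_bot]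
        rintro _ ⟨x, rfl⟩
        funext j
        exact h (x, j) (Finset.mem_univ _)
      let e0 := LinearEquiv.ofBijective π ⟨hinj, hπ⟩
      let L : ∀ _ : Fin (N + 1), (R ⧸ Ideal.span {(0 : R)}) ≃ₗ[R] R := fun _ =>
        Submodule.quotEquivOfEqBot _ Ideal.span_singleton_zero
      refine ⟨1, (Ideal.ne_top_iff_one m).1 (Ideal.IsPrime.ne_top inferInstance), N + 1, fun _ => 0,
        ((LinearEquiv.piCongrRight L).symm).toLinearMap ∘ₗ e0.symm.toLinearMap,
        e0.toLinearMap ∘ₗ (LinearEquiv.piCongrRight L).toLinearMap, ?_⟩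
      ext t
      simp only [LinearMap.comp_apply, LinearEquiv.coe_coe, one_smul, LinearMap.id_apply]
      rw [(LinearEquiv.piCongrRight L).apply_symm_apply, e0.apply_symm_apply]
    · set d := r a b with hd'
      choose q hq using fun x : Fin k × Fin (N + 1) => h x (Finset.mem_univ x)
      have hqb : q (a, b) = s := by
        apply mul_left_cancel₀ hd
        rw [← hq (a, b)]; ring
      -- the cyclic part
      let y : T := π fun j => q (a, j)
      have hdy : d • y = 0 := by
        rw [← map_smul, show d • (fun j => q (a, j)) = s • r a from funext fun j => (hq (a, j)).symm,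
          map_smul, LinearMap.mem_ker.1 (hker ▸ Submodule.subset_span ⟨a, rfl⟩), smul_zero]
      let ψ : (R ⧸ Ideal.span {d}) →ₗ[R] T :=
        Submodule.liftQ _ (LinearMap.toSpanSingleton R T y) (Submodule.span_le.2 (by
          rintro _ rfl; simpa using hdy))
      let Φ : (Fin (N + 1) → R) →ₗ[R] (R ⧸ Ideal.span {d}) :=
        (Submodule.mkQ _) ∘ₗ (s • LinearMap.proj b)
      have hΦ : LinearMap.ker π ≤ LinearMap.ker Φ := by
        rw [← hker, Submodule.span_le]
        rintro _ ⟨x, rfl⟩
        show Submodule.Quotient.mk (s * r x b) = (0 : R ⧸ Ideal.span {d})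
        rw [Submodule.Quotient.mk_eq_zero, Ideal.mem_span_singleton]
        exact ⟨_, hq (x, b)⟩
      -- the remaining generators
      let E : (Fin N → R) →ₗ[R] (Fin (N + 1) → R) :=
        { toFun := fun z => Fin.insertNth b 0 z
          map_add' := fun z w => by
            ext j; rcases Fin.eq_self_or_eq_succAbove b j with rfl | ⟨j, rfl⟩ <;> simp
          map_smul' := fun z w => by
            ext j; rcases Fin.eq_self_or_eq_succAbove b j with rfl | ⟨j, rfl⟩ <;> simp }
      let G : (Fin (N + 1) → R) →ₗ[R] (Fin N → R) :=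
        LinearMap.pi fun j => (s * s) • LinearMap.proj (b.succAbove j) -
          (s * q (a, b.succAbove j)) • LinearMap.proj b
      have key : ∀ z, π (E (G z)) = (s * s) • π z - (s * z b) • y := by
        intro z
        rw [← map_smul, ← map_smul, ← map_sub]
        congr 1
        ext j
        rcases Fin.eq_self_or_eq_succAbove b j with rfl | ⟨j, rfl⟩
        · simp [E, hqb]; ring
        · simp [E, G]; ring
      let K2 : Submodule R (Fin N → R) := Submodule.span R (Set.range fun x => G (r x))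
      have hv : K2 ≤ LinearMap.ker (π ∘ₗ E) := by
        rw [Submodule.span_le]
        rintro _ ⟨x, rfl⟩
        show π (E (G (r x))) = 0
        rw [key, LinearMap.mem_ker.1 (hker ▸ Submodule.subset_span ⟨x, rfl⟩), smul_zero,
          show s * r x b = q (x, b) * d by rw [hq (x, b), mul_comm], mul_smul, hdy, smul_zero, sub_zero]
      let v : ((Fin N → R) ⧸ K2) →ₗ[R] T := K2.liftQ (π ∘ₗ E) hv
      have hu0 : LinearMap.ker π ≤ LinearMap.ker (K2.mkQ ∘ₗ G) := by
        rw [← hker, Submodule.span_le]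
        rintro _ ⟨x, rfl⟩
        exact (Submodule.Quotient.mk_eq_zero K2).2 (Submodule.subset_span ⟨x, rfl⟩)
      let e := π.quotKerEquivOfSurjective hπ
      let u : T →ₗ[R] ((Fin N → R) ⧸ K2) := (LinearMap.ker π).liftQ _ hu0 ∘ₗ e.symm.toLinearMap
      let φ : T →ₗ[R] (R ⧸ Ideal.span {d}) := (LinearMap.ker π).liftQ _ hΦ ∘ₗ e.symm.toLinearMap
      have hsymm : ∀ z, e.symm (π z) = Submodule.Quotient.mk z := fun z => by
        rw [LinearEquiv.symm_apply_eq]; rfl
      have hsum : ψ ∘ₗ φ + v ∘ₗ u = (s * s) • LinearMap.id := by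
        ext t
        obtain ⟨z, rfl⟩ := hπ t
        simp only [LinearMap.add_apply, LinearMap.comp_apply, LinearEquiv.coe_coe, φ, u, hsymm,
          Submodule.liftQ_apply, LinearMap.smul_apply, LinearMap.id_apply, Φ, v, ψ,
          Submodule.mkQ_apply, LinearMap.proj_apply, LinearMap.toSpanSingleton_apply, smul_eq_mul]
        rw [key]
        abel
      obtain ⟨e', he', hS⟩ := ih k (fun x => G (r x)) _ K2.mkQ K2.mkQ_surjective (Submodule.ker_mkQ K2).symm
      obtain ⟨n, f, i, p, hip⟩ := hS
      refine ⟨e' * (s * s), fun hm => ?_, ?_⟩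
      · rcases Ideal.IsPrime.mem_or_mem inferInstance hm with h | h
        · exact he' h
        · exact hs ((Ideal.IsPrime.mem_or_mem inferInstance h).elim id id)
      · refine SRet.combine (fun _ : Fin 1 => d) f (LinearMap.pi fun _ => e' • φ) (ψ ∘ₗ LinearMap.proj 0)
          (i ∘ₗ u) (v ∘ₗ p) fun t => ?_
        show ψ (e' • φ t) + v (p (i (u t))) = _
        rw [show p (i (u t)) = e' • u t from LinearMap.congr_fun hip (u t), map_smul, map_smul,
          ← smul_add, show ψ (φ t) + v (u t) = (s * s) • t from LinearMap.congr_fun hsum t, smul_smul]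

variable (R) in
lemma free_of_torsionFree (N : Type u) [AddCommGroup N] [Module R N] [Module.Finite R N]
    [Module.IsTorsionFree R N] : Module.Free R N := by
  classical
  obtain ⟨n, s, hs⟩ := Module.Finite.exists_fin (R := R) (M := N)
  have hmax := exists_maximal_linearIndepOn R s
  obtain ⟨I, indepI, hI⟩ := hmax
  let W := Submodule.span R (Set.range fun x : I => s x)
  haveI : Module.Free R W := Module.Free.of_basis (Module.Basis.span indepI)
  have exists_a : ∀ i, ∃ a : R, a ≠ 0 ∧ a • s i ∈ W := by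
    intro i
    by_cases hi : i ∈ I
    · exact ⟨1, one_ne_zero, by rw [one_smul]; exact Submodule.subset_span ⟨⟨i, hi⟩, rfl⟩⟩
    · simpa [W, Set.image_eq_range s I] using! hI i hi
  choose a ha ha' using exists_a
  let φ : N →ₗ[R] N := LinearMap.lsmul R N (∏ i, a i)
  have hle : ∀ x, φ x ∈ W := by
    intro x
    have : (⊤ : Submodule R N) ≤ W.comap φ := by
      rw [← hs, Submodule.span_le]
      rintro _ ⟨i, rfl⟩
      show (∏ j, a j) • s i ∈ W
      rw [← Finset.prod_erase_mul _ _ (Finset.mem_univ i), mul_smul]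
      exact W.smul_mem _ (ha' i)
    exact this Submodule.mem_top
  let ψ : N →ₗ[R] W := φ.codRestrict W hle
  have hψ : Function.Injective ψ := fun x y h =>
    LinearMap.ker_eq_bot.1 (LinearMap.ker_lsmul (Finset.prod_ne_zero_iff.2 fun i _ => ha i))
      (congrArg Subtype.val h)
  haveI := (S7120.result R W (LinearMap.range ψ) (Submodule.fg_range ψ)).1
  exact Module.Free.of_equiv (LinearEquiv.ofInjective ψ hψ).symm

/-- Over a Bézout domain R, a finitely presented module M splits as R^r ⊕ M_tors for some r, and its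
torsion part M_tors is a retract (direct summand) of R/f_1R ⊕ … ⊕ R/f_nR for some nonzero f_1, …,
f_n. -/
theorem result (R : Type u) [CommRing R] [IsDomain R] [IsBezout R]
    (M : Type u) [AddCommGroup M] [Module R M] [Module.FinitePresentation R M] :
    (∃ r : ℕ, Nonempty (M ≃ₗ[R] ((Fin r → R) × Submodule.torsion R M))) ∧
      ∃ (n : ℕ) (f : Fin n → R), (∀ j, f j ≠ 0) ∧
        ∃ (i : Submodule.torsion R M →ₗ[R] ((j : Fin n) → R ⧸ Ideal.span {f j}))
          (p : ((j : Fin n) → R ⧸ Ideal.span {f j}) →ₗ[R] Submodule.torsion R M),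
          p ∘ₗ i = LinearMap.id := by
  classical
  set T := Submodule.torsion R M with hT
  haveI hF : Module.Free R (M ⧸ T) := free_of_torsionFree R (M ⧸ T)
  obtain ⟨s, hs⟩ := Module.projective_lifting_property T.mkQ LinearMap.id T.mkQ_surjective
  have hsr : ∀ y, T.mkQ (s y) = y := fun y => LinearMap.congr_fun hs y
  let ret : M →ₗ[R] T := (LinearMap.id - s ∘ₗ T.mkQ).codRestrict T (fun x => by
    rw [← Submodule.Quotient.mk_eq_zero, ← Submodule.mkQ_apply]
    simp only [LinearMap.sub_apply, LinearMap.id_apply, LinearMap.comp_apply, map_sub, hsr, sub_self])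
  have hret : ∀ t : T, ret t = t := fun t => by
    apply Subtype.ext
    show (t : M) - s (T.mkQ t) = t
    rw [show T.mkQ (t : M) = 0 from (Submodule.Quotient.mk_eq_zero T).2 t.2, map_zero, sub_zero]
  have hrets : ∀ y, ret (s y) = 0 := fun y => by
    apply Subtype.ext
    show s y - s (T.mkQ (s y)) = 0
    rw [hsr, sub_self]
  refine ⟨⟨Module.finrank R (M ⧸ T), ⟨?_⟩⟩, ?_⟩
  · let b := Module.finBasis R (M ⧸ T)
    let e : M ≃ₗ[R] (M ⧸ T) × T := LinearEquiv.ofBijective (T.mkQ.prod ret) ⟨?_, ?_⟩
    · exact e.trans (LinearEquiv.prodCongr b.equivFun (LinearEquiv.refl R T))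
    · rw [injective_iff_map_eq_zero]
      intro x hx
      have h2 : x - s (T.mkQ x) = 0 := congrArg Subtype.val (congrArg Prod.snd hx)
      rw [show T.mkQ x = 0 from congrArg Prod.fst hx, map_zero, sub_zero] at h2
      exact h2
    · rintro ⟨y, t⟩
      refine ⟨s y + t, Prod.ext ?_ ?_⟩
      · show T.mkQ (s y + t) = y
        rw [map_add, hsr, show T.mkQ (t : M) = 0 from (Submodule.Quotient.mk_eq_zero T).2 t.2, add_zero]
      · show ret (s y + t) = t
        rw [map_add, hret, hrets, zero_add]
  -- torsion part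
  haveI : Module.FinitePresentation R (M ⧸ T) := Module.finitePresentation_of_projective R _
  haveI : Module.Finite R T := Module.Finite.of_surjective ret (fun t => ⟨t, hret t⟩)
  obtain ⟨N, π, hπ⟩ := Module.Finite.exists_fin' R T
  haveI : Module.FinitePresentation R T := by
    refine Module.finitePresentation_of_surjective ret (fun t => ⟨t, hret t⟩) ?_
    have hk : LinearMap.ker ret = LinearMap.range s := by
      ext x
      refine ⟨fun hx => ⟨T.mkQ x, ?_⟩, by rintro ⟨y, rfl⟩; exact hrets y⟩
      exact (sub_eq_zero.1 (congrArg Subtype.val hx : x - s (T.mkQ x) = 0)).symm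
    rw [hk]
    exact Submodule.fg_range s
  obtain ⟨k, r, hr⟩ := Submodule.fg_iff_exists_fin_generating_family.1
    (Module.FinitePresentation.fg_ker π hπ)
  have hloc : ∀ m : Ideal R, m.IsMaximal → ∃ e, e ∉ m ∧ SRet (R := R) T e := fun m hm => by
    haveI := hm
    exact local_sret R m N k r T π hπ hr
  let I : Ideal R :=
    { carrier := {e | SRet (R := R) T e}
      add_mem' := fun ha hb => SRet.add ha hb
      zero_mem' := SRet.zero
      smul_mem' := fun c e he => SRet.smul c he }
  have hI : I = ⊤ := by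
    by_contra h
    obtain ⟨m, hm, hle⟩ := Ideal.exists_le_maximal I h
    obtain ⟨e, he, hse⟩ := hloc m hm
    exact he (hle hse)
  obtain ⟨n, f, i, p, hip⟩ := (show (1 : R) ∈ I from hI ▸ Submodule.mem_top)
  -- replace the zero moduli
  let f' : Fin n → R := fun j => if f j = 0 then 1 else f j
  have hi0 : ∀ (t : T) (j : Fin n), f j = 0 → i t j = 0 := by
    intro t j hj
    obtain ⟨a, ha⟩ := (Submodule.mem_torsion_iff (t : M)).1 t.2
    obtain ⟨z, hz⟩ := Submodule.Quotient.mk_surjective (Ideal.span {f j}) (i t j)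
    have h0 : (a : R) • t = 0 := Subtype.ext ha
    have : (a : R) • i t j = 0 := by
      have := congrFun (congrArg i h0) j
      simpa using this
    rw [← hz, ← Submodule.Quotient.mk_smul, Submodule.Quotient.mk_eq_zero, hj,
      Ideal.span_singleton_zero, Ideal.mem_bot, smul_eq_mul, mul_eq_zero] at this
    rcases this with h | h
    · exact absurd h (nonZeroDivisors.coe_ne_zero a)
    · rw [← hz, h]; rfl
  let u : ∀ j, (R ⧸ Ideal.span {f j}) →ₗ[R] (R ⧸ Ideal.span {f' j}) := fun j =>
    if h : f j = 0 then 0 else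
      Submodule.factor (by simp [f', h])
  let v : ∀ j, (R ⧸ Ideal.span {f' j}) →ₗ[R] (R ⧸ Ideal.span {f j}) := fun j =>
    if h : f j = 0 then 0 else
      Submodule.factor (by simp [f', h])
  refine ⟨n, f', fun j => ?_, (LinearMap.pi fun j => u j ∘ₗ LinearMap.proj j) ∘ₗ i,
    p ∘ₗ LinearMap.pi (fun j => v j ∘ₗ LinearMap.proj j), ?_⟩
  · by_cases h : f j = 0 <;> simp [f', h]
  · ext t
    have : (LinearMap.pi (fun j => v j ∘ₗ LinearMap.proj j))
        ((LinearMap.pi fun j => u j ∘ₗ LinearMap.proj j) (i t)) = i t := by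
      funext j
      by_cases h : f j = 0
      · simp [u, v, h, hi0 t j h]
      · obtain ⟨z, hz⟩ := Submodule.Quotient.mk_surjective (Ideal.span {f j}) (i t j)
        simp [u, v, h, ← hz]
    simp only [LinearMap.comp_apply, this]
    simpa using congrArg Subtype.val (LinearMap.congr_fun hip t)

end Groth.Agent.S7121
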