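import Groth.Statements.S7122
import Mathlib.LinearAlgebra.Basis.Prod
import Mathlib.LinearAlgebra.Dimension.Constructions
import Mathlib.LinearAlgebra.Dimension.Free
import Mathlib.Tactic.Abel
import Mathlib.LinearAlgebra.Matrix.ToLin
import Mathlib.LinearAlgebra.Determinant
import Groth.Agent.S7120


set_option autoImplicit false
universe u
open CAlg

namespace Groth.Agent.S7122

/-- Let R be a Bézout domain, n ≥ 1, and f_1, ..., f_n elements generating the unit ideal. Then some
invertible n × n matrix over R has (f_1, ..., f_n) as its first row. -/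
theorem result (R : Type u) [CommRing R] [IsDomain R] [IsBezout R]
    (n : ℕ) (f : Fin (n + 1) → R) (hf : Ideal.span (Set.range f) = ⊤) :
    ∃ A : Matrix (Fin (n + 1)) (Fin (n + 1)) R, IsUnit A.det ∧ A 0 = f := by
  classical
  let φ : (Fin (n + 1) → R) →ₗ[R] R := Fintype.linearCombination R f
  obtain ⟨e, he⟩ : ∃ e, φ e = 1 := by
    have h1 : (1 : R) ∈ Ideal.span (Set.range f) := hf ▸ trivial
    obtain ⟨c, hc⟩ := Submodule.mem_span_range_iff_exists_fun R |>.mp h1
    exact ⟨c, by simpa [φ, Fintype.linearCombination_apply] using hc⟩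
  let r : (Fin (n + 1) → R) →ₗ[R] LinearMap.ker φ :=
    LinearMap.codRestrict _ (LinearMap.id - φ.smulRight e) fun a => by simp [he]
  have : Module.Finite R (LinearMap.ker φ) := Module.Finite.of_surjective r
    fun a => ⟨a, by
      refine Subtype.ext ?_
      change (a : Fin (n + 1) → R) - φ a • e = a
      rw [LinearMap.mem_ker.mp a.2]; simp⟩
  have : Module.Free R (LinearMap.ker φ) :=
    S7120.freeOfInjective _ (LinearMap.ker φ).subtype (Submodule.injective_subtype _)
  let E : (Fin (n + 1) → R) ≃ₗ[R] R × LinearMap.ker φ := LinearEquiv.ofLinear (φ.prod r)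
    ((LinearMap.id.smulRight e).coprod (LinearMap.ker φ).subtype)
    (by
      apply LinearMap.ext
      rintro ⟨t, a⟩
      refine Prod.ext ?_ (Subtype.ext ?_)
      · simp [he, LinearMap.mem_ker.mp a.2]
      · change (t • e + (a : Fin (n + 1) → R)) - φ (t • e + (a : Fin (n + 1) → R)) • e = a
        simp [he, LinearMap.mem_ker.mp a.2])
    (by
      apply LinearMap.ext; intro a
      change φ a • e + (a - φ a • e) = a
      abel)
  have hr : Module.finrank R (LinearMap.ker φ) = n := by
    have := E.finrank_eq
    rw [Module.finrank_prod, Module.finrank_self, Module.finrank_fin_fun] at this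
    omega
  let b := Module.finBasisOfFinrankEq R _ hr
  let G : (Fin (n + 1) → R) ≃ₗ[R] (Fin (n + 1) → R) :=
    E ≪≫ₗ (LinearEquiv.refl R R).prodCongr b.equivFun ≪≫ₗ Fin.consLinearEquiv R (fun _ => R)
  refine ⟨LinearMap.toMatrix' G.toLinearMap, ?_, ?_⟩
  · rw [LinearMap.det_toMatrix']
    exact LinearEquiv.isUnit_det' G
  · ext j
    simp [G, E, φ, LinearMap.toMatrix'_apply, Fintype.linearCombination_apply]
    exact (Finset.sum_eq_single j (fun x _ hx => by simp [hx]) (by simp)).trans (by simp)

end Groth.Agent.S7122
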