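import Groth.Statements.S7123
import Mathlib.LinearAlgebra.Isomorphisms
import Mathlib.LinearAlgebra.Quotient.Basic


set_option autoImplicit false
universe u
open CAlg

namespace Groth.Agent.S7123

open DirectSum in
/-- For a module P over a ring R these two conditions are equivalent: (1) P is a retract (direct
summand) of a direct sum of cyclic modules R/fR, f ranging over R; (2) for every surjection of
R-modules π : B → C whose kernel A satisfies fA = A ∩ fB for every f in R, each linear map P → C
lifts through π. -/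
theorem result (R : Type u) [CommRing R] (P : Type u)
    [AddCommGroup P] [Module R P] :
    (∃ (ι : Type u) (f : ι → R) (i : P →ₗ[R] (⨁ j, R ⧸ Ideal.span {f j}))
        (p : (⨁ j, R ⧸ Ideal.span {f j}) →ₗ[R] P), p ∘ₗ i = LinearMap.id) ↔
      ∀ (B C : Type u) [AddCommGroup B] [Module R B] [AddCommGroup C] [Module R C] (π : B →ₗ[R] C),
        Function.Surjective π →
        (∀ (f : R) (b : B), π (f • b) = 0 → ∃ a : B, π a = 0 ∧ f • a = f • b) →
        ∀ ψ : P →ₗ[R] C, ∃ φ : P →ₗ[R] B, π ∘ₗ φ = ψ := by
  classical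
  constructor
  · rintro ⟨ι, f, i, p, hpi⟩ B C _ _ _ _ π hπ hRD ψ
    have h : ∀ j, ∃ φ : (R ⧸ Ideal.span {f j}) →ₗ[R] B, ∀ y, π (φ y) = ψ (p (DirectSum.lof R ι _ j y)) := by
      intro j
      let c := ψ (p (DirectSum.lof R ι _ j (Submodule.Quotient.mk 1)))
      obtain ⟨b, hb⟩ := hπ c
      have hfc : π (f j • b) = 0 := by
        rw [map_smul, hb]
        simp only [c, ← map_smul, ← Submodule.Quotient.mk_smul, smul_eq_mul, mul_one]
        rw [(Submodule.Quotient.mk_eq_zero (Ideal.span {f j})).mpr (Ideal.mem_span_singleton_self _)]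
        simp
      obtain ⟨a, ha, hfa⟩ := hRD (f j) b hfc
      refine ⟨Submodule.liftQ _ (LinearMap.toSpanSingleton R B (b - a)) (Submodule.span_le.mpr ?_), fun y => ?_⟩
      · rintro _ rfl
        simp [smul_sub, hfa]
      · obtain ⟨y, rfl⟩ := Submodule.Quotient.mk_surjective _ y
        rw [show (Submodule.Quotient.mk y : R ⧸ Ideal.span {f j}) = y • Submodule.Quotient.mk 1 by
          rw [← Submodule.Quotient.mk_smul, smul_eq_mul, mul_one]]
        simp only [map_smul]
        congr 1
        rw [Submodule.liftQ_apply, LinearMap.toSpanSingleton_apply, one_smul, map_sub, hb, ha, sub_zero]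
    choose φ hφ using h
    refine ⟨(DirectSum.toModule R ι B φ) ∘ₗ i, ?_⟩
    have : π ∘ₗ DirectSum.toModule R ι B φ = ψ ∘ₗ p :=
      DirectSum.linearMap_ext R fun j => LinearMap.ext fun y => by simp [hφ]
    rw [← LinearMap.comp_assoc, this, LinearMap.comp_assoc, hpi, LinearMap.comp_id]
  · intro h
    let ι := Σ f : R, {z : P // f • z = 0}
    let π : (⨁ j : ι, R ⧸ Ideal.span {j.1}) →ₗ[R] P := DirectSum.toModule R ι P fun j =>
      Submodule.liftQ _ (LinearMap.toSpanSingleton R P j.2.1) (Submodule.span_le.mpr (by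
        rintro _ rfl
        simpa using j.2.2))
    have hπ1 : ∀ (f : R) (z : P) (hz : f • z = 0),
        π (DirectSum.lof R ι _ ⟨f, z, hz⟩ (Submodule.Quotient.mk 1)) = z := by
      intro f z hz
      rw [DirectSum.toModule_lof, Submodule.liftQ_apply, LinearMap.toSpanSingleton_apply, one_smul]
    have hsurj : Function.Surjective π := fun z => ⟨_, hπ1 0 z (zero_smul _ _)⟩
    obtain ⟨i, hi⟩ := h _ P π hsurj (fun f b hb => by
      rw [map_smul] at hb
      refine ⟨b - DirectSum.lof R ι _ ⟨f, π b, hb⟩ (Submodule.Quotient.mk 1), by rw [map_sub, hπ1, sub_self], ?_⟩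
      rw [smul_sub, sub_eq_self, ← map_smul, ← Submodule.Quotient.mk_smul, smul_eq_mul, mul_one,
        (Submodule.Quotient.mk_eq_zero (Ideal.span {f})).mpr (Ideal.mem_span_singleton_self _)]
      exact map_zero _) LinearMap.id
    exact ⟨ι, fun j => j.1, i, π, hi⟩

end Groth.Agent.S7123
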