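import Groth.Statements.S7124
import Mathlib.LinearAlgebra.Dimension.StrongRankCondition
import Mathlib.LinearAlgebra.Dimension.Free
import Mathlib.GroupTheory.QuotientGroup.Basic
import Mathlib.Algebra.Group.Subgroup.Basic
import Mathlib.LinearAlgebra.Dimension.Finite
import Mathlib.SetTheory.Cardinal.Finite
import Mathlib.Tactic.FieldSimp
import Mathlib.Tactic.LinearCombination
import Mathlib.Tactic.Ring


set_option autoImplicit false
set_option linter.style.haveILetI false
universe u
open CAlg

namespace Groth.Agent.S7124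

lemma exists_max {α : Type*} (r : α → α → Prop) (htot : ∀ a b, r a b ∨ r b a)
    (htr : ∀ a b c, r a b → r b c → r a c) (s : Finset α) (hs : s.Nonempty) :
    ∃ a ∈ s, ∀ b ∈ s, r b a := by
  induction hs using Finset.Nonempty.cons_induction with
  | singleton a => exact ⟨a, Finset.mem_singleton_self a, fun b hb => by
      rw [Finset.mem_singleton.1 hb]; exact (htot a a).elim id id⟩
  | cons a s has hs ih =>
    obtain ⟨m, hm, h⟩ := ih
    rcases htot a m with h1 | h1
    · exact ⟨m, Finset.mem_cons.2 (Or.inr hm), fun b hb =>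
        (Finset.mem_cons.1 hb).elim (fun e => e ▸ h1) (h b)⟩
    · exact ⟨a, Finset.mem_cons_self a s, fun b hb =>
        (Finset.mem_cons.1 hb).elim (fun e => by subst e; exact (htot b b).elim id id) (fun hb => htr _ _ _ (h b hb) h1)⟩

/-- Integral multiples in the fraction field of a valuation ring are totally ordered. -/
lemma frac_max (V F : Type u) [CommRing V] [IsDomain V] [ValuationRing V] [Field F] [Algebra V F]
    [IsFractionRing V F] {ι : Type*} (s : Finset ι) (hs : s.Nonempty) (y : ι → F) :
    ∃ i ∈ s, ∀ j ∈ s, ∃ a : V, algebraMap V F a * y i = y j := by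
  refine exists_max (fun j i => ∃ a : V, algebraMap V F a * y i = y j) (fun a b => ?_) ?_ s hs
  · by_cases hb : y b = 0
    · exact Or.inr ⟨0, by simp [hb]⟩
    · rcases ValuationRing.isInteger_or_isInteger V (y a / y b) with ⟨c, hc⟩ | ⟨c, hc⟩
      · exact Or.inl ⟨c, by rw [hc, div_mul_cancel₀ _ hb]⟩
      · by_cases ha : y a = 0
        · exact Or.inl ⟨0, by simp [ha]⟩
        · exact Or.inr ⟨c, by rw [hc, inv_div, div_mul_cancel₀ _ ha]⟩
  · rintro a b c ⟨u, hu⟩ ⟨v, hv⟩
    exact ⟨u * v, by rw [map_mul, mul_assoc, hv, hu]⟩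

lemma indep (A B K L : Type u) [CommRing A] [IsDomain A]
    [ValuationRing A] [CommRing B] [IsDomain B] [ValuationRing B] [Field K] [Field L]
    [Algebra A K] [IsFractionRing A K] [Algebra B L] [IsFractionRing B L] [Algebra A B] [Algebra K L]
    [Algebra A L] [IsScalarTower A K L] [IsScalarTower A B L] (_hinj : Function.Injective (algebraMap A B))
    [IsLocalHom (algebraMap A B)] {ι κ : Type*} [Fintype ι] [Fintype κ] (x : ι → Lˣ)
    (hx : ∀ (i k : ι) (c : Kˣ) (_ : True) (w : Bˣ),
      x i * Units.map (algebraMap K L).toMonoidHom c = x k * Units.map (algebraMap B L).toMonoidHom w → i = k)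
    (b : κ → B)
    (hb : LinearIndependent (IsLocalRing.ResidueField A) (fun j => IsLocalRing.residue B (b j))) :
    LinearIndependent K (fun p : ι × κ => (x p.1 : L) * algebraMap B L (b p.2)) := by
  classical
  rw [Fintype.linearIndependent_iff]
  intro c hc
  by_contra hne
  obtain ⟨⟨i₁, j₁⟩, h₁⟩ : ∃ p, c p ≠ 0 := not_forall.1 hne
  let I := Finset.univ.filter (fun i => ∃ j, c (i, j) ≠ 0)
  have hκ : ∀ _ : ι, (Finset.univ : Finset κ).Nonempty := fun _ => ⟨j₁, Finset.mem_univ _⟩
  choose m _ hm using fun i => frac_max A K Finset.univ (hκ i) (fun j => c ((i : ι), j))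
  choose a ha using fun i j => hm i j (Finset.mem_univ j)
  have hm0 : ∀ i ∈ I, c (i, m i) ≠ 0 := by
    intro i hi h0
    obtain ⟨j, hj⟩ := (Finset.mem_filter.1 hi).2
    exact hj (by rw [← ha i j, h0, mul_zero])
  let s : ι → B := fun i => ∑ j, algebraMap A B (a i j) * b j
  have hs : ∀ i ∈ I, IsUnit (s i) := by
    intro i hi
    by_contra hns
    have hz : IsLocalRing.residue B (s i) = 0 := (IsLocalRing.residue_eq_zero_iff _).2 hns
    have h0 : ∑ j, IsLocalRing.residue A (a i j) • IsLocalRing.residue B (b j) = 0 := by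
      rw [← hz]
      simp only [s, map_sum, map_mul, Algebra.smul_def]
      rfl
    have h2 := Fintype.linearIndependent_iff.1 hb _ h0 (m i)
    have h3 : a i (m i) = 1 := by
      apply IsFractionRing.injective A K
      rw [map_one]
      exact mul_right_cancel₀ (hm0 i hi) (by rw [ha i (m i), one_mul])
    rw [h3, map_one] at h2
    exact one_ne_zero h2
  let y : ι → L := fun i => (x i : L) * algebraMap K L (c (i, m i)) * algebraMap B L (s i)
  have hsum : ∑ i ∈ I, y i = 0 := by
    rw [← hc, Fintype.sum_prod_type]
    refine Finset.sum_subset (Finset.subset_univ I) ?_ |>.trans (Finset.sum_congr rfl fun i _ => ?_)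
    · intro i _ hi
      have : c (i, m i) = 0 := by
        by_contra h
        exact hi (Finset.mem_filter.2 ⟨Finset.mem_univ _, m i, h⟩)
      simp [y, this]
    · simp only [y, s, map_sum, Finset.mul_sum, map_mul]
      refine Finset.sum_congr rfl fun j _ => ?_
      rw [Algebra.smul_def, ← ha i j, map_mul, ← IsScalarTower.algebraMap_apply A K L,
        ← IsScalarTower.algebraMap_apply A B L]
      ring
  have hI : I.Nonempty := ⟨i₁, Finset.mem_filter.2 ⟨Finset.mem_univ _, j₁, h₁⟩⟩
  obtain ⟨i₀, hi₀, hmax⟩ := frac_max B L I hI y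
  choose! β hβ using hmax
  have hy0 : ∀ i ∈ I, y i ≠ 0 := fun i hi => mul_ne_zero (mul_ne_zero (Units.ne_zero _)
    ((map_ne_zero (algebraMap K L)).2 (hm0 i hi)))
    ((map_ne_zero_iff _ (IsFractionRing.injective B L)).2 (hs i hi).ne_zero)
  have hβ1 : ∑ i ∈ I, β i = 0 := by
    apply IsFractionRing.injective B L
    rw [map_zero, map_sum]
    apply mul_right_cancel₀ (hy0 i₀ hi₀)
    rw [zero_mul, Finset.sum_mul, ← hsum]
    exact Finset.sum_congr rfl hβ
  have hnon : ∀ i ∈ I.erase i₀, β i ∈ IsLocalRing.maximalIdeal B := by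
    intro i hi
    obtain ⟨hne', hi⟩ := Finset.mem_erase.1 hi
    rw [IsLocalRing.mem_maximalIdeal, mem_nonunits_iff]
    rintro ⟨w, hw⟩
    apply hne'
    refine hx i i₀ (Units.mk0 _ (hm0 i hi) / Units.mk0 _ (hm0 i₀ hi₀)) trivial
      (w * (hs i₀ hi₀).unit * ((hs i hi).unit)⁻¹) ?_
    ext
    have h := hβ i hi
    simp only [y, ← hw] at h
    simp only [Units.val_mul, Units.coe_map, MonoidHom.coe_coe, RingHom.toMonoidHom_eq_coe,
      Units.val_div_eq_div_val, Units.val_mk0, map_div₀, map_mul, IsUnit.unit_spec]
    have hu : algebraMap B L (((hs i hi).unit⁻¹ : Bˣ) : B) * algebraMap B L (s i) = 1 := by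
      rw [← map_mul, IsUnit.val_inv_mul, map_one]
    have hc0 : algebraMap K L (c (i₀, m i₀)) ≠ 0 := (map_ne_zero (algebraMap K L)).2 (hm0 i₀ hi₀)
    field_simp
    linear_combination (-(algebraMap B L (((hs i hi).unit⁻¹ : Bˣ) : B))) * h - ((x i : L) * algebraMap K L (c (i, m i))) * hu
  have hβ0 : β i₀ = 1 := by
    apply IsFractionRing.injective B L
    rw [map_one]
    exact mul_right_cancel₀ (hy0 i₀ hi₀) (by rw [hβ i₀ hi₀, one_mul])
  rw [← Finset.add_sum_erase I β hi₀, hβ0] at hβ1
  apply (IsLocalRing.maximalIdeal.isMaximal B).ne_top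
  rw [Ideal.eq_top_iff_one, show (1 : B) = -∑ i ∈ I.erase i₀, β i by linear_combination hβ1]
  exact neg_mem (sum_mem hnon)

/-- Let A ⊆ B be an extension of valuation rings (both valuation domains, the inclusion injective and
local) with fraction fields K ⊆ L such that L/K is finite. Then the residue field of B is finite
over that of A, the value group of A has finite index in the value group of B, and (index of value
groups) · (residue degree) ≤ [L : K]. Here the value group of B is written as Lˣ modulo the units of
B, and that of A as the image of Kˣ in it. -/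
theorem result (A B K L : Type u) [CommRing A] [IsDomain A]
    [ValuationRing A] [CommRing B] [IsDomain B] [ValuationRing B] [Field K] [Field L]
    [Algebra A K] [IsFractionRing A K] [Algebra B L] [IsFractionRing B L] [Algebra A B] [Algebra K L]
    [Algebra A L] [IsScalarTower A K L] [IsScalarTower A B L] (hinj : Function.Injective (algebraMap A B))
    [IsLocalHom (algebraMap A B)] [FiniteDimensional K L] :
    let UB : Subgroup Lˣ := (Units.map (algebraMap B L).toMonoidHom).range
    let ΓA : Subgroup (Lˣ ⧸ UB) := ((QuotientGroup.mk' UB).comp (Units.map (algebraMap K L).toMonoidHom)).range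
    Module.Finite (IsLocalRing.ResidueField A) (IsLocalRing.ResidueField B) ∧ ΓA.index ≠ 0 ∧
      ΓA.index * Module.finrank (IsLocalRing.ResidueField A) (IsLocalRing.ResidueField B) ≤
        Module.finrank K L := by
  intro UB ΓA
  have hcomm : ∀ u v : Lˣ ⧸ UB, u * v = v * u := fun u v => by
    induction u using QuotientGroup.induction_on with
    | _ a =>
      induction v using QuotientGroup.induction_on with
      | _ b => exact congrArg QuotientGroup.mk (mul_comm a b)
  haveI : ΓA.Normal := ⟨fun n hn g => by rwa [hcomm g n, mul_inv_cancel_right]⟩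
  classical
  set N := Module.finrank K L
  have key : ∀ (S : Finset ((Lˣ ⧸ UB) ⧸ ΓA)) (T : Finset (IsLocalRing.ResidueField B)),
      LinearIndependent (IsLocalRing.ResidueField A) (fun t : T => (t : IsLocalRing.ResidueField B)) →
      S.card * T.card ≤ N := by
    intro S T hT
    have h1 : ∀ s : S, ∃ x : Lˣ, QuotientGroup.mk' ΓA (QuotientGroup.mk' UB x) = (s : (Lˣ ⧸ UB) ⧸ ΓA) := by
      intro s
      obtain ⟨y, hy⟩ := QuotientGroup.mk'_surjective ΓA (s : (Lˣ ⧸ UB) ⧸ ΓA)
      obtain ⟨x, rfl⟩ := QuotientGroup.mk'_surjective UB y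
      exact ⟨x, hy⟩
    choose x hx using h1
    choose b hb using fun t : T => IsLocalRing.residue_surjective (t : IsLocalRing.ResidueField B)
    have hli : LinearIndependent K (fun p : S × T => (x p.1 : L) * algebraMap B L (b p.2)) := by
      refine indep A B K L hinj x (fun i k c hik w hw => ?_) b ?_
      · refine Subtype.ext (Eq.trans (hx i).symm (Eq.trans ?_ (hx k)))
        rw [QuotientGroup.mk'_eq_mk']
        refine ⟨QuotientGroup.mk' UB (Units.map (algebraMap K L).toMonoidHom c), ⟨c, rfl⟩, ?_⟩
        rw [← map_mul, hw, map_mul]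
        have : QuotientGroup.mk' UB (Units.map (algebraMap B L).toMonoidHom w) = 1 :=
          (QuotientGroup.eq_one_iff _).2 ⟨w, rfl⟩
        rw [this]
        induction QuotientGroup.mk' UB (x k) using QuotientGroup.induction_on with
        | _ a => exact congrArg QuotientGroup.mk (mul_one a)
      · convert hT using 1
        funext t
        exact hb t
    have := hli.fintype_card_le_finrank
    simpa using this
  have hcoset : ∀ S : Finset ((Lˣ ⧸ UB) ⧸ ΓA), S.card ≤ N := by
    intro S
    have h1 : LinearIndependent (IsLocalRing.ResidueField A)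
        (fun t : ({(1 : IsLocalRing.ResidueField B)} : Finset _) => (t : IsLocalRing.ResidueField B)) := by
      rw [Fintype.linearIndependent_iff]
      intro g hg i
      rw [Fintype.sum_subsingleton _ i] at hg
      have hi : (i : IsLocalRing.ResidueField B) = 1 := Finset.mem_singleton.1 i.2
      rw [smul_eq_zero] at hg
      exact hg.resolve_right (by rw [hi]; exact one_ne_zero)
    simpa using key S _ h1
  have hres : ∀ T : Finset (IsLocalRing.ResidueField B),
      LinearIndependent (IsLocalRing.ResidueField A) (fun t : T => (t : IsLocalRing.ResidueField B)) →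
      T.card ≤ N := by
    intro T hT
    simpa using key {1} T hT
  haveI hfinres : Module.Finite (IsLocalRing.ResidueField A) (IsLocalRing.ResidueField B) := by
    refine Module.rank_lt_aleph0_iff.1 (lt_of_le_of_lt (rank_le hres) Cardinal.natCast_lt_aleph0)
  haveI : Finite ((Lˣ ⧸ UB) ⧸ ΓA) := by
    by_contra h
    rw [not_finite_iff_infinite] at h
    obtain ⟨S, hS⟩ := Infinite.exists_subset_card_eq ((Lˣ ⧸ UB) ⧸ ΓA) (N + 1)
    have := hcoset S
    omega
  refine ⟨hfinres, ?_, ?_⟩
  · rw [Subgroup.index_eq_card]
    exact Nat.card_pos.ne'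
  · letI := Fintype.ofFinite ((Lˣ ⧸ UB) ⧸ ΓA)
    rw [Subgroup.index_eq_card, Nat.card_eq_fintype_card]
    let bB := Module.finBasis (IsLocalRing.ResidueField A) (IsLocalRing.ResidueField B)
    have h := key Finset.univ (Finset.univ.image bB) (by
      have h0 := bB.linearIndependent
      rw [← linearIndepOn_univ_iff] at h0
      have h2 := h0.id_image
      rw [Set.image_univ] at h2
      have h3 : (((Finset.univ.image bB : Finset _)) : Set (IsLocalRing.ResidueField B)) = Set.range bB := by
        simp
      exact h2.mono h3.le)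
    rwa [Finset.card_univ, Finset.card_image_of_injective _ bB.injective, Finset.card_univ,
      Fintype.card_fin] at h

end Groth.Agent.S7124
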