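import Groth.Statements.S7130
import Groth.Agent.EtAlgPair.WeakField

set_option autoImplicit false
universe u
open EtAlg

namespace Groth.Agent.S7130

/-- (2) ⇔ (3) ⇔ (4): for a ring A the following are equivalent: every A-module is flat; A is reduced of
Krull dimension zero, in the sense that every prime ideal of A is maximal; the local ring A_p is a
field for every prime p. (The further equivalent condition 'A has weak dimension at most zero'
coincides with the first condition by definition and is not listed separately.) -/
theorem result (A : Type u) [CommRing A] :
    List.TFAE [∀ (M : Type u) [AddCommGroup M] [Module A M], Module.Flat A M,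
      IsReduced A ∧ ∀ p : Ideal A, p.IsPrime → p.IsMaximal,
      ∀ (p : Ideal A) [p.IsPrime], IsField (Localization.AtPrime p)] := by
  tfae_have 1 → 2 := by
    intro h
    have hreg : ∀ a : A, ∃ c, a = a * a * c := fun a =>
      haveI := h (A ⧸ Ideal.span {a})
      Groth.Agent.EtAlgPair.WeakField.exists_mul_self_mul a
    exact ⟨Groth.Agent.EtAlgPair.WeakField.isReduced_of_regular hreg,
      fun p hp => haveI := hp; Groth.Agent.EtAlgPair.WeakField.isMaximal_of_regular hreg p⟩
  tfae_have 2 → 3 := by
    rintro ⟨hred, hmax⟩ p _
    haveI : IsReduced (Localization.AtPrime p) := isReduced_localizationPreserves p.primeCompl _ hred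
    rw [IsLocalRing.isField_iff_maximalIdeal_eq]
    rw [eq_bot_iff]
    intro x hx
    rw [Submodule.mem_bot]
    refine IsNilpotent.eq_zero ?_
    rw [nilpotent_iff_mem_prime]
    intro Q hQ
    have h1 : Q.comap (algebraMap A (Localization.AtPrime p)) = p := by
      have hle : Q.comap (algebraMap A (Localization.AtPrime p)) ≤ p := by
        intro a ha
        by_contra hap
        exact hQ.ne_top (Ideal.eq_top_of_isUnit_mem _ ha (IsLocalization.map_units _ (⟨a, hap⟩ : p.primeCompl)))
      exact (hmax _ (hQ.comap _)).eq_of_le (Ideal.IsPrime.ne_top') hle
    have h2 : Q = IsLocalRing.maximalIdeal (Localization.AtPrime p) := by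
      rw [← IsLocalization.map_comap p.primeCompl (Localization.AtPrime p) Q]
      rw [show Ideal.under A Q = p from h1]
      rw [Localization.AtPrime.map_eq_maximalIdeal]
    rwa [h2]
  tfae_have 3 → 1 := by
    intro h M _ _
    refine Module.flat_of_localized_maximal M fun P hP => ?_
    letI := (h P).toField
    haveI : Module.Flat (Localization.AtPrime P) (LocalizedModule P.primeCompl M) := inferInstance
    exact Module.Flat.trans A (Localization.AtPrime P) _
  tfae_finish

end Groth.Agent.S7130
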