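import Groth.Statements.S7131
import Mathlib
import Groth.Agent.DRing.TorBalance
import Groth.Agent.DRing.PCTools
import Groth.Agent.FlatMor.LmulFlat

set_option autoImplicit false
universe u
open EtAlg
open CategoryTheory
attribute [local instance] HasDerivedCategory.standard

namespace Groth.Agent.S7131

/-- Suppose A → B is weakly étale and every A-module has tor dimension at most d. Then every B-module
has tor dimension at most d over B (weak dimension at most d ascends along weakly étale maps). -/
theorem result (A B : Type u) [CommRing A] [CommRing B] [Algebra A B]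
    [Algebra.WeaklyEtale A B] (d : ℕ)
    (hA : ∀ (M : Type u) [AddCommGroup M] [Module A M], DRing.HasTorDimLE A d M)
    (N : Type u) [AddCommGroup N] [Module B N] : DRing.HasTorDimLE B d N := by
  have hflatB : Module.Flat A B := Algebra.WeaklyEtale.flat
  have hdiag : (Algebra.TensorProduct.lmul' A (S := B)).Flat := Algebra.WeaklyEtale.flat_lmul' A B
  rw [Agent.DRing.TorBalance.hasTorDimLE_iff]
  suffices H : ∀ (d : ℕ) (N : Type u) [AddCommGroup N] [Module A N] [Module B N] [IsScalarTower A B N],
      (∃ b : ℤ, DRing.HasTorAmplitudeIn A (-(d : ℤ)) b (Dual.inD A N)) →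
      DRing.HasTorAmplitudeIn B (-(d : ℤ)) 0 (Dual.inD B N) by
    letI := Module.compHom N (algebraMap A B)
    haveI : IsScalarTower A B N := ⟨fun a b n => by rw [Algebra.smul_def, mul_smul]; rfl⟩
    exact H d N ⟨0, (Agent.DRing.TorBalance.hasTorDimLE_iff d N).1 (hA N)⟩
  intro d
  induction d with
  | zero =>
    intro N _ _ _ _ ⟨b, hb⟩
    have : Module.Flat A N := Agent.DRing.Perfect.flat_of_torAmp (by simpa using hb)
    have : Module.Flat B N := Agent.FlatMor.LmulFlat.flat_of_flat_lmul A B hdiag N
    simpa using Agent.DRing.Perfect.torAmp_of_flat (M := N)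
  | succ d ih =>
    intro N _ _ _ _ ⟨b, hb⟩
    let g : (N →₀ B) →ₗ[B] N := Finsupp.linearCombination B id
    have hg : Function.Surjective g := fun n => ⟨Finsupp.single n 1, by simp [g]⟩
    obtain ⟨T, hT, h1, h2, h3⟩ := Agent.DRing.PC.exists_triangle_of_surjective g hg
    obtain ⟨T', hT', h1', h2', h3'⟩ := Agent.DRing.PC.exists_triangle_of_surjective (g.restrictScalars A) hg
    have hFA : Module.Flat A (N →₀ B) := Module.Flat.trans A B (N →₀ B)
    have hm0 : ((d + 1 : ℕ) : ℤ) = (d : ℤ) + 1 := by push_cast; ring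
    have hK : DRing.HasTorAmplitudeIn A (-(d : ℤ)) (max b 0 + 1) T'.obj₁ := by
      have h' := (Agent.DRing.TorAmp.torAmp_of_triangle hT' (-(d : ℤ) - 1) (max b 0)).2.2
        (Agent.DRing.TorAmp.torAmp_mono (by rw [h2']; exact Agent.DRing.Perfect.torAmp_of_flat) (by omega) (by omega))
        (Agent.DRing.TorAmp.torAmp_mono (by rw [h3']; exact hb) (by omega) (by omega))
      simpa using h'
    let e : ↥(LinearMap.ker (g.restrictScalars A)) ≃ₗ[A] ↥(LinearMap.ker g) :=
      { toFun := fun x => ⟨x.1, x.2⟩, invFun := fun x => ⟨x.1, x.2⟩, map_add' := fun _ _ => rfl, map_smul' := fun _ _ => rfl }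
    have hK' := ih ↥(LinearMap.ker g) ⟨max b 0 + 1, by
      rw [h1'] at hK
      exact Agent.DRing.TorAmp.torAmp_of_iso ((DerivedCategory.singleFunctor (ModuleCat.{u} A) 0).mapIso e.toModuleIso) hK⟩
    have h' := (Agent.DRing.TorAmp.torAmp_of_triangle hT (-((d + 1 : ℕ) : ℤ)) 0).1
      (Agent.DRing.TorAmp.torAmp_mono (by rw [h1]; exact hK') (by omega) (by omega))
      (Agent.DRing.TorAmp.torAmp_mono (by rw [h2]; exact Agent.DRing.Perfect.torAmp_of_flat) (by omega) (by omega))
    rwa [h3] at h'

end Groth.Agent.S7131
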