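import Groth.Statements.S7132
import Mathlib
import Groth.Agent.EtRamLib.Basic
-- import your own Groth.Agent.* helpers here

set_option autoImplicit false
universe u
open EtAlg

namespace Groth.Agent.S7132

open IsLocalRing in
/-- lifts of residue-independent elements times `ϖ ^ j`, `j < e`, are independent -/
lemma indep {A B : Type u} [CommRing A] [IsDomain A] [IsDiscreteValuationRing A] [CommRing B] [IsDomain B]
    [IsDiscreteValuationRing B] [Algebra A B] [IsLocalHom (algebraMap A B)]
    (hinj : Function.Injective (algebraMap A B)) {ι : Type*} [Fintype ι] (b : ι → B)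
    (hb : LinearIndependent (ResidueField A) (fun i ↦ residue B (b i)))
    {π : A} (hπ : Irreducible π) {ϖ : B} (hϖ : Irreducible ϖ) {e : ℕ} {u : Bˣ}
    (hu : algebraMap A B π = u * ϖ ^ e) :
    LinearIndependent A (fun x : ι × Fin e ↦ b x.1 * ϖ ^ (x.2 : ℕ)) := by
  classical
  rw [Fintype.linearIndependent_iff]
  -- every coefficient of a relation is divisible by `π`
  have key : ∀ c : ι × Fin e → A, ∑ x, c x • (b x.1 * ϖ ^ (x.2 : ℕ)) = 0 → ∀ x, π ∣ c x := by
    intro c hc
    by_contra hne
    push Not at hne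
    obtain ⟨x, hx⟩ := hne
    obtain ⟨j₀, ⟨i₀, hi₀⟩, hmin⟩ : ∃ j₀ : Fin e, (∃ i, ¬ π ∣ c (i, j₀)) ∧
        ∀ j < j₀, ∀ i, π ∣ c (i, j) := by
      have hS : (Finset.univ.filter fun j : Fin e ↦ ∃ i, ¬ π ∣ c (i, j)).Nonempty :=
        ⟨x.2, Finset.mem_filter.2 ⟨Finset.mem_univ _, x.1, hx⟩⟩
      refine ⟨_, (Finset.mem_filter.1 (Finset.min'_mem _ hS)).2, fun j hj i ↦ ?_⟩
      by_contra h
      exact absurd (Finset.min'_le _ j (Finset.mem_filter.2 ⟨Finset.mem_univ _, i, h⟩)) (not_le.2 hj)
    have hdvd : ∀ x : ι × Fin e, x.2 ≠ j₀ → ϖ ^ ((j₀ : ℕ) + 1) ∣ c x • (b x.1 * ϖ ^ (x.2 : ℕ)) := by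
      rintro ⟨i, j⟩ hj
      rw [Algebra.smul_def]
      rcases lt_or_gt_of_ne hj with hlt | hgt
      · obtain ⟨a, ha⟩ := hmin j hlt i
        refine Dvd.dvd.mul_right ?_ _
        rw [ha, map_mul, hu, mul_assoc, mul_left_comm]
        exact Dvd.dvd.mul_right (pow_dvd_pow ϖ j₀.isLt) _
      · exact Dvd.dvd.mul_left (Dvd.dvd.mul_left (pow_dvd_pow ϖ hgt) _) _
    have hsum : ϖ ^ ((j₀ : ℕ) + 1) ∣ (∑ i, algebraMap A B (c (i, j₀)) * b i) * ϖ ^ (j₀ : ℕ) := by
      rw [Fintype.sum_prod_type, Finset.sum_comm,
        ← Finset.add_sum_erase _ _ (Finset.mem_univ j₀)] at hc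
      rw [Finset.sum_mul]
      have h2 : ϖ ^ ((j₀ : ℕ) + 1) ∣ ∑ j ∈ Finset.univ.erase j₀, ∑ i, c (i, j) • (b i * ϖ ^ (j : ℕ)) :=
        Finset.dvd_sum fun j hj ↦ Finset.dvd_sum fun i _ ↦ hdvd (i, j) (Finset.ne_of_mem_erase hj)
      rw [← dvd_add_left h2]
      refine (dvd_zero _).trans (dvd_of_eq ?_)
      rw [← hc]
      simp only [Algebra.smul_def, mul_assoc]
    rw [pow_succ', mul_dvd_mul_iff_right (pow_ne_zero _ hϖ.ne_zero)] at hsum
    have h0 : ∑ i, residue A (c (i, j₀)) • residue B (b i) = 0 := by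
      have : residue B (∑ i, algebraMap A B (c (i, j₀)) * b i) = 0 := by
        rw [residue_eq_zero_iff, hϖ.maximalIdeal_eq, Ideal.mem_span_singleton]
        exact hsum
      rw [map_sum] at this
      rw [← this]
      refine Finset.sum_congr rfl fun i _ ↦ ?_
      rw [map_mul, Algebra.smul_def]
      rfl
    have := Fintype.linearIndependent_iff.1 hb _ h0 i₀
    rw [residue_eq_zero_iff, hπ.maximalIdeal_eq, Ideal.mem_span_singleton] at this
    exact hi₀ this
  intro c hc x
  have hall : ∀ n : ℕ, ∀ c : ι × Fin e → A, ∑ x, c x • (b x.1 * ϖ ^ (x.2 : ℕ)) = 0 →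
      ∀ x, π ^ n ∣ c x := by
    intro n
    induction n with
    | zero => simp
    | succ n ih =>
      intro c hc x
      choose d hd using key c hc
      have hd0 : ∑ x, d x • (b x.1 * ϖ ^ (x.2 : ℕ)) = 0 := by
        have h : algebraMap A B π * ∑ x, d x • (b x.1 * ϖ ^ (x.2 : ℕ)) = 0 := by
          rw [← hc, Finset.mul_sum]
          refine Finset.sum_congr rfl fun x _ ↦ ?_
          rw [hd x, Algebra.smul_def, Algebra.smul_def, map_mul, mul_assoc]
        exact (mul_eq_zero.1 h).resolve_left ((map_ne_zero_iff _ hinj).2 hπ.ne_zero)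
      rw [hd x, pow_succ']
      exact mul_dvd_mul_left π (ih d hd0 x)
  by_contra h
  obtain ⟨m, v, hv⟩ := IsDiscreteValuationRing.eq_unit_mul_pow_irreducible h hπ
  have := hall (m + 1) c hc x
  rw [hv, Units.dvd_mul_left, pow_dvd_pow_iff hπ.ne_zero hπ.not_isUnit] at this
  omega

/-- For an injective local homomorphism A → B of discrete valuation rings whose fraction fields K ⊆ L
form a finite extension, the residue field of B is finite over that of A, and the ramification index
e times the residue degree f is at most [L : K]. -/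
theorem result (A B K L : Type u) [CommRing A] [IsDomain A]
    [IsDiscreteValuationRing A] [CommRing B] [IsDomain B] [IsDiscreteValuationRing B] [Algebra A B]
    (hinj : Function.Injective (algebraMap A B)) [IsLocalHom (algebraMap A B)]
    [Field K] [Field L] [Algebra A K] [IsFractionRing A K] [Algebra B L] [IsFractionRing B L]
    [Algebra K L] [Algebra A L] [IsScalarTower A K L] [IsScalarTower A B L] [FiniteDimensional K L] :
    Module.Finite (IsLocalRing.ResidueField A) (IsLocalRing.ResidueField B) ∧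
      Ideal.ramificationIdx' (IsLocalRing.maximalIdeal A) (IsLocalRing.maximalIdeal B) *
          Module.finrank (IsLocalRing.ResidueField A) (IsLocalRing.ResidueField B) ≤
        Module.finrank K L := by
  classical
  obtain ⟨π, hπ⟩ := IsDiscreteValuationRing.exists_irreducible A
  obtain ⟨ϖ, hϖ⟩ := IsDiscreteValuationRing.exists_irreducible B
  obtain ⟨e, u, he, hu, hidx⟩ := EtRamLib.exists_ramificationIdx hinj hπ hϖ
  rw [hidx]
  have bound : ∀ s : Finset (IsLocalRing.ResidueField B),
      LinearIndepOn (IsLocalRing.ResidueField A) id (s : Set (IsLocalRing.ResidueField B)) →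
        e * s.card ≤ Module.finrank K L := by
    intro s hs
    choose b hb using fun i : s ↦ IsLocalRing.residue_surjective (R := B) (i : IsLocalRing.ResidueField B)
    have hind : LinearIndependent (IsLocalRing.ResidueField A) (fun i ↦ IsLocalRing.residue B (b i)) := by
      simp only [hb]
      exact hs
    have h1 : LinearIndependent A
        (fun x : s × Fin e ↦ algebraMap B L (b x.1 * ϖ ^ (x.2 : ℕ))) :=
      (indep hinj b hind hπ hϖ hu).map_injOn (IsScalarTower.toAlgHom A B L).toLinearMap
        (IsFractionRing.injective B L).injOn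
    have h2 : LinearIndependent K
        (fun x : s × Fin e ↦ algebraMap B L (b x.1 * ϖ ^ (x.2 : ℕ))) :=
      LinearIndependent.localization K (nonZeroDivisors A) h1
    have h3 := h2.fintype_card_le_finrank
    rwa [Fintype.card_prod, Fintype.card_coe, Fintype.card_fin, mul_comm] at h3
  have hfin : Module.Finite (IsLocalRing.ResidueField A) (IsLocalRing.ResidueField B) := by
    have hrank : Module.rank (IsLocalRing.ResidueField A) (IsLocalRing.ResidueField B) ≤ (Module.finrank K L : ℕ) :=
      rank_le fun s hs ↦ le_trans (Nat.le_mul_of_pos_left _ he) (bound s hs)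
    exact Module.rank_lt_aleph0_iff.1 (hrank.trans_lt Cardinal.natCast_lt_aleph0)
  refine ⟨hfin, ?_⟩
  let bb := Module.finBasis (IsLocalRing.ResidueField A) (IsLocalRing.ResidueField B)
  have h := bound (Finset.univ.image bb) (by
    rw [Finset.coe_image, Finset.coe_univ, Set.image_univ]
    exact bb.linearIndependent.linearIndepOn_id)
  rwa [Finset.card_image_of_injective _ bb.injective, Finset.card_univ, Fintype.card_fin] at h

end Groth.Agent.S7132
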