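import Groth.Statements.S7133
import Groth.Agent.EtRamLib.Basic

set_option autoImplicit false
universe u
open EtAlg

namespace Groth.Agent.S7133

/-- For an injective local homomorphism A → B of discrete valuation rings whose fields of fractions are
K ⊆ L: if K has characteristic p > 0 and L/K is purely inseparable, then the ramification index of B
over A is a power of p. -/
theorem result (A B K L : Type u) [CommRing A] [IsDomain A]
    [IsDiscreteValuationRing A] [CommRing B] [IsDomain B] [IsDiscreteValuationRing B] [Algebra A B]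
    (hinj : Function.Injective (algebraMap A B)) [IsLocalHom (algebraMap A B)]
    [Field K] [Field L] [Algebra A K] [IsFractionRing A K] [Algebra B L] [IsFractionRing B L]
    [Algebra K L] [Algebra A L] [IsScalarTower A K L] [IsScalarTower A B L]
    (p : ℕ) (hp : p.Prime) [CharP K p] [IsPurelyInseparable K L] :
    ∃ k : ℕ, Ideal.ramificationIdx' (IsLocalRing.maximalIdeal A) (IsLocalRing.maximalIdeal B) =
      p ^ k := by
  obtain ⟨π, hπ⟩ := IsDiscreteValuationRing.exists_irreducible A
  obtain ⟨ϖ, hϖ⟩ := IsDiscreteValuationRing.exists_irreducible B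
  obtain ⟨e, u, he, hu, hidx⟩ := Groth.Agent.EtRamLib.exists_ramificationIdx hinj hπ hϖ
  haveI : ExpChar K p := ExpChar.prime hp
  obtain ⟨k, x, hx⟩ := IsPurelyInseparable.pow_mem K p (algebraMap B L ϖ)
  have hmap : ∀ a : A, algebraMap K L (algebraMap A K a) = algebraMap B L (algebraMap A B a) := fun a => by
    rw [← IsScalarTower.algebraMap_apply, ← IsScalarTower.algebraMap_apply]
  obtain ⟨a, ha⟩ : ∃ a : A, algebraMap A B a = ϖ ^ p ^ k := by
    rcases ValuationRing.isInteger_or_isInteger A x with ⟨a, ha⟩ | ⟨a, ha⟩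
    · refine ⟨a, IsFractionRing.injective B L ?_⟩
      rw [map_pow, ← hx, ← hmap, ha]
    · exfalso
      refine hϖ.not_isUnit ((isUnit_pow_iff (pow_ne_zero k hp.ne_zero)).mp
        (IsUnit.of_mul_eq_one (algebraMap A B a) (IsFractionRing.injective B L ?_)))
      have hx0 : algebraMap K L x ≠ 0 := by
        rw [hx]; exact pow_ne_zero _ ((map_ne_zero_iff _ (IsFractionRing.injective B L)).mpr hϖ.ne_zero)
      rw [map_mul, map_pow, ← hx, ← hmap, ha, map_inv₀, mul_inv_cancel₀ hx0, map_one]
  have ha0 : a ≠ 0 := by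
    rintro rfl
    rw [map_zero] at ha
    exact pow_ne_zero _ hϖ.ne_zero ha.symm
  obtain ⟨m, w, hw⟩ := Groth.Agent.EtRamLib.exists_pow_eq_of_map hπ hu ha0
  have hkm : p ^ k = e * m := by
    refine IsDiscreteValuationRing.unit_mul_pow_congr_pow hϖ hϖ 1 w _ _ ?_
    rw [Units.val_one, one_mul, ← hw, ha]
  obtain ⟨j, -, hj⟩ := (Nat.dvd_prime_pow hp).mp (Dvd.intro m hkm.symm)
  exact ⟨j, hidx.trans hj⟩

end Groth.Agent.S7133
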