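import Groth.Statements.S7134
import Mathlib
import Groth.Agent.FieldSep.MacLane
import Groth.Agent.CAlg48.FlatFS
import Groth.Agent.S2471
import Groth.Agent.RegLoc.Basic
import Groth.Agent.EtRamLib.Basic

set_option autoImplicit false
universe u
open EtAlg

namespace Groth.Agent.S7134

variable (A B : Type u) [CommRing A] [IsDomain A] [IsDiscreteValuationRing A] [CommRing B] [IsDomain B]
  [IsDiscreteValuationRing B] [Algebra A B] [IsLocalHom (algebraMap A B)]

open IsLocalRing in
lemma weaklyUnramified_of_afs (hinj : Function.Injective (algebraMap A B))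
    (h : CAlgX.IsAdicFormallySmooth A B (maximalIdeal B)) : EtRam.IsWeaklyUnramified A B := by
  classical
  set I := (maximalIdeal A).map (algebraMap A B) with hI
  have hle : I ≤ maximalIdeal B :=
    Ideal.map_le_iff_le_comap.2 fun a ha hu ↦ ha (isUnit_of_map_unit (algebraMap A B) a hu)
  haveI : Nontrivial (B ⧸ I) := Ideal.Quotient.nontrivial_iff.2 fun ht ↦
    (maximalIdeal.isMaximal B).ne_top (top_le_iff.1 (ht ▸ hle))
  haveI : IsLocalRing (B ⧸ I) := IsLocalRing.of_surjective' _ Ideal.Quotient.mk_surjective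
  letI : Field (A ⧸ maximalIdeal A) := Ideal.Quotient.field _
  letI : Algebra (A ⧸ maximalIdeal A) (B ⧸ I) :=
    (Ideal.Quotient.lift (maximalIdeal A) ((Ideal.Quotient.mk I).comp (algebraMap A B))
      (fun a ha ↦ Ideal.Quotient.eq_zero_iff_mem.2 (Ideal.mem_map_of_mem _ ha))).toAlgebra
  haveI : IsScalarTower A (A ⧸ maximalIdeal A) (B ⧸ I) := IsScalarTower.of_algebraMap_eq fun _ ↦ rfl
  have hfs : CAlgX.IsAdicFormallySmooth (A ⧸ maximalIdeal A) (B ⧸ I) (maximalIdeal (B ⧸ I)) := by
    intro C _ _ J hJ ψ ⟨j, hj⟩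
    letI : Algebra A C := ((algebraMap (A ⧸ maximalIdeal A) C).comp (algebraMap A (A ⧸ maximalIdeal A))).toAlgebra
    haveI : IsScalarTower A (A ⧸ maximalIdeal A) C := IsScalarTower.of_algebraMap_eq fun _ ↦ rfl
    haveI : IsScalarTower A (A ⧸ maximalIdeal A) (C ⧸ J) := IsScalarTower.of_algebraMap_eq fun _ ↦ rfl
    obtain ⟨χ, hχ⟩ := h C J hJ ((ψ.restrictScalars A).comp (Ideal.Quotient.mkₐ A I)) ⟨j, fun x hx ↦ by
      refine hj _ (Ideal.pow_right_mono ?_ j ((Ideal.map_pow (Ideal.Quotient.mk I) (maximalIdeal B) j) ▸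
        Ideal.mem_map_of_mem (Ideal.Quotient.mk I) hx))
      exact IsLocalRing.le_maximalIdeal (fun ht ↦ (maximalIdeal.isMaximal B).ne_top (by
        have hc := Ideal.comap_map_of_surjective (Ideal.Quotient.mk I) Ideal.Quotient.mk_surjective (maximalIdeal B)
        rw [ht, Ideal.comap_top, ← RingHom.ker_eq_comap_bot, Ideal.mk_ker, sup_eq_left.2 hle] at hc
        exact hc.symm))⟩
    have hkill : ∀ x ∈ I, χ x = 0 := fun x hx ↦ by
      have : I ≤ RingHom.ker χ := Ideal.map_le_iff_le_comap.2 fun a ha ↦ by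
        rw [Ideal.mem_comap, RingHom.mem_ker, χ.commutes, IsScalarTower.algebraMap_apply A (A ⧸ maximalIdeal A) C,
          Ideal.Quotient.algebraMap_eq, Ideal.Quotient.eq_zero_iff_mem.2 ha, map_zero]
      exact this hx
    refine ⟨{ Ideal.Quotient.lift I χ.toRingHom hkill with
      commutes' := fun r ↦ by
        obtain ⟨a, rfl⟩ := Ideal.Quotient.mk_surjective r
        exact χ.commutes a }, ?_⟩
    apply AlgHom.ext
    intro x
    obtain ⟨x, rfl⟩ := Ideal.Quotient.mk_surjective x
    exact congr($hχ x)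
  haveI : IsNoetherianRing (B ⧸ I) := inferInstance
  obtain ⟨hreg, -⟩ := (S2471.result (k := A ⧸ maximalIdeal A) (A := B ⧸ I)).1 hfs
  haveI := hreg
  haveI : IsDomain (B ⧸ I) := RegLoc.isDomain _
  haveI : I.IsPrime := (Ideal.Quotient.isDomain_iff_prime I).1 inferInstance
  obtain ⟨π, hπ⟩ := IsDiscreteValuationRing.exists_irreducible A
  have hI0 : I ≠ ⊥ := fun h0 ↦ (map_ne_zero_iff _ hinj).2 hπ.ne_zero (by
    rw [← Ideal.mem_bot, ← h0]
    exact Ideal.mem_map_of_mem _ (hπ.maximalIdeal_eq ▸ Ideal.mem_span_singleton_self π))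
  exact IsLocalRing.eq_maximalIdeal (Ideal.IsPrime.isMaximal ‹I.IsPrime› hI0)

open IsLocalRing in
lemma formallySmooth_residue (h : CAlgX.IsAdicFormallySmooth A B (maximalIdeal B))
    (hwu : EtRam.IsWeaklyUnramified A B) : Algebra.FormallySmooth (ResidueField A) (ResidueField B) := by
  classical
  refine Algebra.FormallySmooth.of_comp_surjective fun C _ _ J hJ ψ ↦ ?_
  letI : Algebra A C := ((algebraMap (ResidueField A) C).comp (residue A)).toAlgebra
  haveI : IsScalarTower A (ResidueField A) C := IsScalarTower.of_algebraMap_eq fun _ ↦ rfl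
  haveI : IsScalarTower A (ResidueField A) (C ⧸ J) := IsScalarTower.of_algebraMap_eq fun _ ↦ rfl
  let res : B →ₐ[A] ResidueField B := { residue B with commutes' := fun a ↦ rfl }
  obtain ⟨χ, hχ⟩ := h C J hJ ((ψ.restrictScalars A).comp res) ⟨1, fun x hx ↦ by
    rw [pow_one] at hx
    change ψ (residue B x) = 0
    rw [(residue_eq_zero_iff x).2 hx, map_zero]⟩
  have hkill : ∀ x ∈ maximalIdeal B, χ x = 0 := fun x hx ↦ by
    have hle : (maximalIdeal A).map (algebraMap A B) ≤ RingHom.ker χ := Ideal.map_le_iff_le_comap.2 fun a ha ↦ by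
      rw [Ideal.mem_comap, RingHom.mem_ker, χ.commutes, IsScalarTower.algebraMap_apply A (ResidueField A) C,
        ResidueField.algebraMap_eq, (residue_eq_zero_iff a).2 ha, map_zero]
    rw [hwu] at hle
    exact hle hx
  refine ⟨{ Ideal.Quotient.lift (maximalIdeal B) χ.toRingHom hkill with
    commutes' := fun r ↦ by
      obtain ⟨a, rfl⟩ := residue_surjective r
      exact χ.commutes a }, ?_⟩
  apply AlgHom.ext
  intro x
  obtain ⟨x, rfl⟩ := residue_surjective x
  exact congr($hχ x)

lemma formallySmooth_of_surjective (k k' F : Type u) [CommRing k] [CommRing k'] [CommRing F] [Algebra k k'] [Algebra k F]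
    [Algebra k' F] [IsScalarTower k k' F] (hs : Function.Surjective (algebraMap k k'))
    [Algebra.FormallySmooth k F] : Algebra.FormallySmooth k' F := by
  refine Algebra.FormallySmooth.of_comp_surjective fun C _ _ J hJ ψ ↦ ?_
  letI : Algebra k C := ((algebraMap k' C).comp (algebraMap k k')).toAlgebra
  haveI : IsScalarTower k k' C := IsScalarTower.of_algebraMap_eq fun _ ↦ rfl
  haveI : IsScalarTower k k' (C ⧸ J) := IsScalarTower.of_algebraMap_eq fun _ ↦ rfl
  obtain ⟨χ, hχ⟩ := Algebra.FormallySmooth.comp_surjective k F J hJ (ψ.restrictScalars k)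
  refine ⟨{ χ.toRingHom with
    commutes' := fun r ↦ by
      obtain ⟨a, rfl⟩ := hs r
      rw [← IsScalarTower.algebraMap_apply k k' F, ← IsScalarTower.algebraMap_apply k k' C]
      exact χ.commutes a }, ?_⟩
  apply AlgHom.ext
  intro x
  exact congr($hχ x)

open IsLocalRing in
lemma afs_of_residue (hinj : Function.Injective (algebraMap A B)) (hwu : EtRam.IsWeaklyUnramified A B)
    [Algebra.FormallySmooth (ResidueField A) (ResidueField B)] :
    CAlgX.IsAdicFormallySmooth A B (maximalIdeal B) := by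
  classical
  intro C _ _ J hJ ψ ⟨k, hk⟩
  haveI : FaithfulSMul A B := (faithfulSMul_iff_algebraMap_injective A B).2 hinj
  haveI : Module.Flat A B := inferInstance
  set I := maximalIdeal A with hIdef
  set n := k + k + 1 with hn
  have hInC : ∀ a ∈ I ^ n, algebraMap A C a = 0 := by
    intro a ha
    have hJk : (I ^ k).map (algebraMap A C) ≤ J := Ideal.map_le_iff_le_comap.2 fun x hx ↦ by
      rw [Ideal.mem_comap, ← Ideal.Quotient.eq_zero_iff_mem, ← Ideal.Quotient.algebraMap_eq, ← IsScalarTower.algebraMap_apply,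
        ← ψ.commutes]
      refine hk _ ?_
      rw [← hwu, ← Ideal.map_pow]
      exact Ideal.mem_map_of_mem _ hx
    have h2 : (I ^ n).map (algebraMap A C) ≤ ⊥ := by
      rw [← hJ, pow_two]
      refine le_trans (Ideal.map_mono (Ideal.pow_le_pow_right (Nat.le_succ (k + k)))) ?_
      rw [pow_add, Ideal.map_mul]
      exact Ideal.mul_mono hJk hJk
    exact (Ideal.mem_bot).1 (h2 (Ideal.mem_map_of_mem _ ha))
  letI : Algebra (A ⧸ I ^ n) C := (Ideal.Quotient.lift (I ^ n) (algebraMap A C) hInC).toAlgebra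
  haveI : IsScalarTower A (A ⧸ I ^ n) C := IsScalarTower.of_algebraMap_eq fun _ ↦ rfl
  haveI : IsScalarTower A (A ⧸ I ^ n) (C ⧸ J) := IsScalarTower.of_algebraMap_eq fun _ ↦ rfl
  set K := (I ^ n).map (algebraMap A B) with hK
  letI : Algebra (A ⧸ I ^ n) (B ⧸ K) :=
    (Ideal.Quotient.lift (I ^ n) ((Ideal.Quotient.mk K).comp (algebraMap A B))
      (fun a ha ↦ Ideal.Quotient.eq_zero_iff_mem.2 (Ideal.mem_map_of_mem _ ha))).toAlgebra
  haveI : IsScalarTower A (A ⧸ I ^ n) (B ⧸ K) := IsScalarTower.of_algebraMap_eq fun _ ↦ rfl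
  haveI : Module.Flat (A ⧸ I ^ n) (B ⧸ K) :=
    Module.Flat.of_linearEquiv
      (LinearEquiv.extendScalarsOfSurjective (R := A) (S := A ⧸ I ^ n) Ideal.Quotient.mk_surjective
        (((Algebra.TensorProduct.quotIdealMapEquivTensorQuot B (I ^ n)).restrictScalars A).toLinearEquiv.trans
          (TensorProduct.comm A B (A ⧸ I ^ n))))
  set Ib := I.map (Ideal.Quotient.mk (I ^ n)) with hIb
  have hnil : IsNilpotent Ib := ⟨n, by rw [hIb, ← Ideal.map_pow, Ideal.map_quotient_self, Submodule.zero_eq_bot]⟩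
  set F := (B ⧸ K) ⧸ Ib.map (algebraMap (A ⧸ I ^ n) (B ⧸ K))
  have hkill : ∀ x ∈ maximalIdeal B, (Ideal.Quotient.mk (Ib.map (algebraMap (A ⧸ I ^ n) (B ⧸ K)))) (Ideal.Quotient.mk K x) = 0 := by
    intro x hx
    rw [← hwu] at hx
    rw [Ideal.Quotient.eq_zero_iff_mem, hIb, Ideal.map_map]
    have := Ideal.mem_map_of_mem (Ideal.Quotient.mk K) hx
    rw [Ideal.map_map] at this
    exact this
  let toF : ResidueField B →ₐ[A] F :=
    { Ideal.Quotient.lift (maximalIdeal B) ((Ideal.Quotient.mk (Ib.map (algebraMap (A ⧸ I ^ n) (B ⧸ K)))).comp (Ideal.Quotient.mk K)) hkill with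
      commutes' := fun a ↦ rfl }
  haveI : Nontrivial F := Ideal.Quotient.nontrivial_iff.2 fun ht ↦ by
    have h1 : Ib.map (algebraMap (A ⧸ I ^ n) (B ⧸ K)) ≤ (maximalIdeal B).map (Ideal.Quotient.mk K) := by
      rw [hIb, Ideal.map_map, ← hwu, Ideal.map_map]
      exact le_rfl
    rw [ht, top_le_iff] at h1
    have hKle : K ≤ maximalIdeal B := by
      rw [hK, ← hwu, hn]
      exact Ideal.map_mono (Ideal.pow_le_self (Nat.succ_ne_zero _))
    have hc := Ideal.comap_map_of_surjective (Ideal.Quotient.mk K) Ideal.Quotient.mk_surjective (maximalIdeal B)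
    rw [h1, Ideal.comap_top, ← RingHom.ker_eq_comap_bot, Ideal.mk_ker, sup_eq_left.2 hKle] at hc
    exact (maximalIdeal.isMaximal B).ne_top hc.symm
  have hbij : Function.Bijective toF := ⟨toF.toRingHom.injective, fun y ↦ by
    obtain ⟨y, rfl⟩ := Ideal.Quotient.mk_surjective y
    obtain ⟨y, rfl⟩ := Ideal.Quotient.mk_surjective y
    exact ⟨residue B y, rfl⟩⟩
  have hres : ∀ a ∈ I, algebraMap A ((A ⧸ I ^ n) ⧸ Ib) a = 0 := fun a ha ↦
    Ideal.Quotient.eq_zero_iff_mem.2 (Ideal.mem_map_of_mem _ ha)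
  letI : Algebra (ResidueField A) ((A ⧸ I ^ n) ⧸ Ib) :=
    (Ideal.Quotient.lift I (algebraMap A ((A ⧸ I ^ n) ⧸ Ib)) hres).toAlgebra
  letI : Algebra (ResidueField A) F :=
    ((algebraMap ((A ⧸ I ^ n) ⧸ Ib) F).comp (algebraMap (ResidueField A) ((A ⧸ I ^ n) ⧸ Ib))).toAlgebra
  haveI : IsScalarTower (ResidueField A) ((A ⧸ I ^ n) ⧸ Ib) F := IsScalarTower.of_algebraMap_eq fun _ ↦ rfl
  let e : ResidueField B ≃ₐ[ResidueField A] F :=
    { RingEquiv.ofBijective toF hbij with
      commutes' := fun r ↦ by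
        obtain ⟨a, rfl⟩ := residue_surjective r
        rfl }
  haveI : Algebra.FormallySmooth (ResidueField A) F := Algebra.FormallySmooth.of_equiv e
  haveI : Algebra.FormallySmooth ((A ⧸ I ^ n) ⧸ Ib) F :=
    formallySmooth_of_surjective (ResidueField A) _ F fun x ↦ by
      obtain ⟨x, rfl⟩ := Ideal.Quotient.mk_surjective x
      obtain ⟨x, rfl⟩ := Ideal.Quotient.mk_surjective x
      exact ⟨residue A x, rfl⟩
  haveI : Algebra.FormallySmooth (A ⧸ I ^ n) (B ⧸ K) := CAlg48.FlatFS.formallySmooth Ib hnil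
  have hψK : ∀ x ∈ K, ψ x = 0 := by
    intro x hx
    refine hk x ?_
    rw [hK, Ideal.map_pow, hwu] at hx
    exact Ideal.pow_le_pow_right (by omega) hx
  let ψ' : (B ⧸ K) →ₐ[A ⧸ I ^ n] (C ⧸ J) :=
    { Ideal.Quotient.lift K ψ.toRingHom hψK with
      commutes' := fun r ↦ by
        obtain ⟨a, rfl⟩ := Ideal.Quotient.mk_surjective r
        exact ψ.commutes a }
  obtain ⟨χ, hχ⟩ := Algebra.FormallySmooth.comp_surjective (A ⧸ I ^ n) (B ⧸ K) J hJ ψ'
  refine ⟨(χ.restrictScalars A).comp (Ideal.Quotient.mkₐ A K), ?_⟩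
  apply AlgHom.ext
  intro x
  exact congr($hχ (Ideal.Quotient.mk K x))

/-- For an injective local homomorphism A → B of discrete valuation rings, A → B is formally smooth for
the adic topology of the maximal ideal of B if and only if A → B is weakly unramified and the
residue field of B is a separable (possibly transcendental, i.e. geometrically reduced) extension of
the residue field of A. -/
theorem result (A B : Type u) [CommRing A]
    [IsDomain A] [IsDiscreteValuationRing A] [CommRing B] [IsDomain B] [IsDiscreteValuationRing B] [Algebra A B]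
    (hinj : Function.Injective (algebraMap A B)) [IsLocalHom (algebraMap A B)] :
    CAlgX.IsAdicFormallySmooth A B (IsLocalRing.maximalIdeal B) ↔
      EtRam.IsWeaklyUnramified A B ∧
        Algebra.IsGeometricallyReduced (IsLocalRing.ResidueField A) (IsLocalRing.ResidueField B) := by
  classical
  refine ⟨fun h ↦ ?_, fun ⟨hwu, hgr⟩ ↦ ?_⟩
  · have hwu := weaklyUnramified_of_afs A B hinj h
    refine ⟨hwu, ?_⟩
    haveI : Algebra.FormallySmooth (IsLocalRing.ResidueField A) (IsLocalRing.ResidueField B) :=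
      formallySmooth_residue A B h hwu
    exact (FieldSep.MacLane.formallySmooth_iff _ _).1 inferInstance
  · haveI : Algebra.FormallySmooth (IsLocalRing.ResidueField A) (IsLocalRing.ResidueField B) :=
      (FieldSep.MacLane.formallySmooth_iff _ _).2 hgr
    exact afs_of_residue A B hinj hwu

end Groth.Agent.S7134
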