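import Groth.Statements.S7135
import Groth.Agent.S7136
import Mathlib.RingTheory.AdicCompletion.Functoriality
import Mathlib.RingTheory.OrzechProperty


set_option autoImplicit false
universe u
open CAlg

namespace Groth.Agent.S7135

/-- Let A be a Noetherian ring, I an ideal and M, N finite A-modules. If M/IⁿM and N/IⁿN are isomorphic
for every n, then the I-adic completions of M and N are isomorphic as modules over the I-adic
completion of A. -/
theorem result (A : Type u) [CommRing A] [IsNoetherianRing A] (I : Ideal A)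
    (M N : Type u) [AddCommGroup M] [Module A M] [Module.Finite A M] [AddCommGroup N] [Module A N]
    [Module.Finite A N]
    (h : ∀ n : ℕ, Nonempty ((M ⧸ (I ^ n • ⊤ : Submodule A M)) ≃ₗ[A] (N ⧸ (I ^ n • ⊤ : Submodule A N)))) :
    Nonempty (AdicCompletion I M ≃ₗ[AdicCompletion I A] AdicCompletion I N) := by
  classical
  obtain ⟨c, hc, -⟩ := S7136.exists_bound I M N
  obtain ⟨c', hc', -⟩ := S7136.exists_bound I N M
  obtain ⟨e⟩ := h (1 + c)
  obtain ⟨e'⟩ := h (1 + c')
  obtain ⟨φ, hφ⟩ := hc 1 (e.toLinearMap ∘ₗ Submodule.mkQ _)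
  obtain ⟨φ', hφ'⟩ := hc' 1 (e'.symm.toLinearMap ∘ₗ Submodule.mkQ _)
  have s1 : Function.Surjective (Submodule.mkQ (I • ⊤ : Submodule A N) ∘ₗ φ) := by
    suffices h : Function.Surjective ((I ^ 1 • ⊤ : Submodule A N).mkQ ∘ₗ φ) by rwa [pow_one] at h
    rw [← hφ]
    intro y
    obtain ⟨y, rfl⟩ := Submodule.mkQ_surjective _ y
    obtain ⟨x, hx⟩ := Submodule.mkQ_surjective _ (e.symm (Submodule.Quotient.mk y))
    exact ⟨x, by simp [LinearMap.comp_apply, hx, Submodule.mapQ_apply]⟩
  have s2 : Function.Surjective (Submodule.mkQ (I • ⊤ : Submodule A M) ∘ₗ φ') := by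
    suffices h : Function.Surjective ((I ^ 1 • ⊤ : Submodule A M).mkQ ∘ₗ φ') by rwa [pow_one] at h
    rw [← hφ']
    intro y
    obtain ⟨y, rfl⟩ := Submodule.mkQ_surjective _ y
    obtain ⟨x, hx⟩ := Submodule.mkQ_surjective _ (e' (Submodule.Quotient.mk y))
    exact ⟨x, by simp [LinearMap.comp_apply, hx, Submodule.mapQ_apply]⟩
  refine ⟨LinearEquiv.ofBijective (AdicCompletion.map I φ)
    ⟨?_, AdicCompletion.map_surjective_of_mkQ_comp_surjective s1⟩⟩
  rw [← LinearMap.ker_eq_bot, LinearMap.ker_eq_bot']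
  intro x hx
  refine AdicCompletion.ext fun n => ?_
  have hsur : Function.Surjective ((φ'.comp φ).reduceModIdeal (I ^ n)) := by
    intro y
    obtain ⟨z, hz⟩ := AdicCompletion.map_surjective_of_mkQ_comp_surjective s2
      (AdicCompletion.of I M (Quotient.out y))
    obtain ⟨w, rfl⟩ := AdicCompletion.map_surjective_of_mkQ_comp_surjective s1 z
    refine ⟨w.val n, ?_⟩
    have h1 := congrArg (fun z => z.val n) hz
    simp only [AdicCompletion.map_val_apply, AdicCompletion.of_apply] at h1
    obtain ⟨v, hv⟩ := Submodule.Quotient.mk_surjective _ (w.val n)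
    rw [← hv] at h1 ⊢
    exact h1.trans (Quotient.out_eq y)
  have hinj : Function.Injective ((φ'.comp φ).reduceModIdeal (I ^ n)) :=
    OrzechProperty.injective_of_surjective_endomorphism (R := A)
      (((φ'.comp φ).reduceModIdeal (I ^ n)).restrictScalars A) hsur
  refine hinj ?_
  have h2 := congrArg (fun z => z.val n) hx
  simp only [AdicCompletion.map_val_apply] at h2
  obtain ⟨v, hv⟩ := Submodule.Quotient.mk_surjective _ (x.val n)
  rw [← hv] at h2 ⊢
  simp only [AdicCompletion.val_zero_apply, map_zero]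
  have h4 := congrArg (φ'.reduceModIdeal (I ^ n)) h2
  simpa using h4

end Groth.Agent.S7135
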