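import Groth.Statements.S7137
import Groth.Agent.RegLoc.PD
import Mathlib.Algebra.Homology.DerivedCategory.Ext.Linear
import Mathlib.RingTheory.LocalRing.Module
import Mathlib.RingTheory.Finiteness.Nakayama


set_option autoImplicit false
set_option linter.style.haveILetI false
universe u
open CategoryTheory
open CAlg

namespace Groth.Agent.S7137

open CategoryTheory.Abelian Groth.Agent.RegLoc.PD

lemma exists_minimal_cover (A : Type u) [CommRing A] [IsLocalRing A] (E : Type u) [AddCommGroup E]
    [Module A E] [Module.Finite A E] :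
    ∃ (n : ℕ) (f : (Fin n → A) →ₗ[A] E), Function.Surjective f ∧
      LinearMap.ker f ≤ IsLocalRing.maximalIdeal A • (⊤ : Submodule A (Fin n → A)) := by
  classical
  have hex : ∃ n, ∃ f : (Fin n → A) →ₗ[A] E, Function.Surjective f :=
    Module.Finite.exists_fin' A E
  obtain ⟨f, hf⟩ := Nat.find_spec hex
  refine ⟨Nat.find hex, f, hf, fun c hc => ?_⟩
  have hmem : ∀ i, c i ∈ IsLocalRing.maximalIdeal A := by
    intro i
    by_contra hi
    have hu : IsUnit (c i) := by simpa [IsLocalRing.mem_maximalIdeal, mem_nonunits_iff] using hi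
    obtain ⟨u, hu⟩ := hu
    obtain ⟨m, hm⟩ := Nat.exists_eq_succ_of_ne_zero (n := Nat.find hex)
      (fun h0 => (h0 ▸ i : Fin 0).elim0)
    have key : ∀ (n : ℕ) (f : (Fin n → A) →ₗ[A] E), Function.Surjective f → ∀ (c : Fin n → A) (i : Fin n),
        f c = 0 → (u : A) = c i → n = m + 1 → ∃ g : (Fin m → A) →ₗ[A] E, Function.Surjective g := by
      rintro n f hf c i hc hu rfl
      let ι : (Fin m → A) →ₗ[A] (Fin (m + 1) → A) :=
        { toFun := fun y => Fin.insertNth i 0 y
          map_add' := fun a b => by
            ext j; rcases Fin.eq_self_or_eq_succAbove i j with rfl | ⟨j, rfl⟩ <;> simp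
          map_smul' := fun a b => by
            ext j; rcases Fin.eq_self_or_eq_succAbove i j with rfl | ⟨j, rfl⟩ <;> simp }
      refine ⟨f ∘ₗ ι, fun x => ?_⟩
      obtain ⟨y, rfl⟩ := hf x
      let y' := y - (y i * (↑u⁻¹ : A)) • c
      refine ⟨Fin.removeNth i y', ?_⟩
      have h0 : y' i = 0 := by simp [y', ← hu]
      show f (Fin.insertNth i 0 (Fin.removeNth i y')) = f y
      rw [← h0, Fin.insertNth_self_removeNth, map_sub, map_smul, hc, smul_zero, sub_zero]
    exact Nat.find_min hex (by omega : m < Nat.find hex) (key _ f hf c i hc hu hm)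
  rw [← Finset.univ_sum_single c]
  refine sum_mem fun i _ => ?_
  rw [show (Pi.single i (c i) : Fin (Nat.find hex) → A) = c i • Pi.single i 1 by
    ext j; simp [Pi.single_apply]]
  exact Submodule.smul_mem_smul (hmem i) Submodule.mem_top

lemma val_eq {R : Type u} [CommRing R] (M : Type u) [AddCommGroup M] [Module R M] {p : ℕ}
    (h : HasProjectiveDimensionLE (ModuleCat.of R M) p)
    (h' : ¬ HasProjectiveDimensionLT (ModuleCat.of R M) p) :
    projectiveDimension (ModuleCat.of R M) = (p : WithBot ℕ∞) :=
  le_antisymm ((projectiveDimension_le_iff _ _).2 h) ((projectiveDimension_ge_iff _ _).2 h')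

lemma exact_value {R : Type u} [CommRing R] (M : Type u) [AddCommGroup M] [Module R M] [Nontrivial M]
    (h : projectiveDimension (ModuleCat.of R M) ≠ ⊤) :
    ∃ p, HasProjectiveDimensionLE (ModuleCat.of R M) p ∧
      ¬ HasProjectiveDimensionLT (ModuleCat.of R M) p := by
  classical
  have hex := (projectiveDimension_ne_top_iff _).1 h
  refine ⟨Nat.find hex, Nat.find_spec hex, fun hlt => ?_⟩
  rcases Nat.eq_zero_or_eq_succ_pred (Nat.find hex) with h0 | h0
  · rw [h0, hasProjectiveDimensionLT_zero_iff_isZero] at hlt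
    exact not_subsingleton M (ModuleCat.subsingleton_of_isZero hlt)
  · rw [h0] at hlt
    exact Nat.find_min hex (by omega : (Nat.find hex).pred < Nat.find hex) hlt

variable {R : Type u} [CommRing R] (A : Type u) [CommRing A] [Algebra R A]

lemma pd_free (p : ℕ) (hp : HasProjectiveDimensionLE (ModuleCat.of R A) p) :
    ∀ n : ℕ, HasProjectiveDimensionLE (ModuleCat.of R (Fin n → A)) p := by
  intro n
  induction n with
  | zero =>
    have : HasProjectiveDimensionLT (ModuleCat.of R (Fin 0 → A)) 0 :=
      (ModuleCat.isZero_of_subsingleton _).hasProjectiveDimensionLT_zero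
    exact hasProjectiveDimensionLT_of_ge _ 0 _ (Nat.zero_le _)
  | succ n ih =>
    let f : (Fin (n + 1) → A) →ₗ[R] A := LinearMap.proj 0
    have hf : Function.Surjective f := fun a => ⟨fun _ => a, rfl⟩
    have hk : HasProjectiveDimensionLE (ModuleCat.of R (LinearMap.ker f)) p := by
      refine pd_congr (LinearEquiv.ofBijective
        ((LinearMap.funLeft R A Fin.succ).comp (LinearMap.ker f).subtype) ⟨?_, ?_⟩).symm p ih
      · intro a b hab
        refine Subtype.ext (funext fun j => ?_)
        refine Fin.cases ?_ (fun j => congrFun hab j) j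
        exact (show a.1 0 = 0 from a.2).trans (show b.1 0 = 0 from b.2).symm
      · exact fun y => ⟨⟨Fin.cons 0 y, rfl⟩, funext fun j => by simp [LinearMap.funLeft]⟩
    exact (LinearMap.shortExact_shortComplexKer hf).hasProjectiveDimensionLT_X₂ (p + 1) hk hp

lemma pd_proj (p : ℕ) (hp : HasProjectiveDimensionLE (ModuleCat.of R A) p) (E : Type u)
    [AddCommGroup E] [Module A E] [Module R E] [IsScalarTower R A E] [Module.Finite A E]
    [Module.Projective A E] : HasProjectiveDimensionLE (ModuleCat.of R E) p := by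
  obtain ⟨n, f, hf⟩ := Module.Finite.exists_fin' A E
  obtain ⟨s, hs⟩ := Module.projective_lifting_property f LinearMap.id hf
  exact pd_retract (s.restrictScalars R) (f.restrictScalars R)
    (LinearMap.ext fun x => LinearMap.congr_fun hs x) p (pd_free A p hp n)

lemma upper [IsNoetherianRing A] (p : ℕ) (hp : HasProjectiveDimensionLE (ModuleCat.of R A) p) :
    ∀ (e : ℕ) (E : Type u) [AddCommGroup E] [Module A E] [Module R E] [IsScalarTower R A E]
      [Module.Finite A E], HasProjectiveDimensionLE (ModuleCat.of A E) e →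
      HasProjectiveDimensionLE (ModuleCat.of R E) (p + e) := by
  intro e
  induction e with
  | zero =>
    intro E _ _ _ _ _ h
    rw [pd_zero_iff] at h
    exact pd_proj A p hp E
  | succ e ih =>
    intro E _ _ _ _ _ h
    obtain ⟨n, f, hf⟩ := Module.Finite.exists_fin' A E
    rw [pd_shift f hf] at h
    have hk : HasProjectiveDimensionLE (ModuleCat.of R (LinearMap.ker (f.restrictScalars R))) (p + e) :=
      ih (LinearMap.ker f) h
    exact pd_of_ker (f.restrictScalars R) hf (p + e) hk (pd_mono _ (by omega) (pd_free A p hp n))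

variable [IsLocalRing R] [IsNoetherianRing R]

lemma restrict_zero [IsLocalRing A] (hA : Function.Surjective (algebraMap R A))
    {K F : Type u} [AddCommGroup K] [Module A K] [Module R K] [IsScalarTower R A K]
    [AddCommGroup F] [Module A F] [Module R F] [IsScalarTower R A F] [Module.Projective A K]
    (g : K →ₗ[A] F) (hg : LinearMap.range g ≤ IsLocalRing.maximalIdeal A • (⊤ : Submodule A F))
    (n : ℕ) (y : Ext (ModuleCat.of R F) (ModuleCat.of R (IsLocalRing.ResidueField R)) n) :
    (Ext.mk₀ (ModuleCat.ofHom (g.restrictScalars R))).comp y (zero_add n) = 0 := by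
  classical
  obtain ⟨s, a, ha⟩ := Submodule.fg_iff_exists_fin_generating_family.1
    ((IsLocalRing.maximalIdeal R).fg_of_isNoetherianRing)
  let Φ : (Fin s → F) →ₗ[A] F := ∑ t, algebraMap R A (a t) • LinearMap.proj t
  have hm : IsLocalRing.maximalIdeal A = Ideal.span (Set.range fun t => algebraMap R A (a t)) := by
    rw [Set.range_comp' (algebraMap R A) a, ← Ideal.map_span]
    conv_rhs => rw [show Ideal.span (Set.range a) = IsLocalRing.maximalIdeal R from ha]
    haveI : IsLocalHom (algebraMap R A) := IsLocalHom.of_surjective _ hA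
    refine le_antisymm (fun x hx => ?_) (IsLocalRing.map_maximalIdeal_le _)
    obtain ⟨r, rfl⟩ := hA x
    refine Ideal.mem_map_of_mem _ ?_
    rw [IsLocalRing.mem_maximalIdeal, mem_nonunits_iff] at hx ⊢
    exact fun hu => hx (hu.map _)
  have hrange : LinearMap.range g ≤ LinearMap.range Φ := by
    refine hg.trans (Submodule.smul_le.2 fun r hr x _ => ?_)
    rw [hm, Ideal.mem_span_range_iff_exists_fun] at hr
    obtain ⟨c, rfl⟩ := hr
    refine ⟨fun t => c t • x, ?_⟩
    simp [Φ, Finset.sum_smul]
    refine Finset.sum_congr rfl fun t _ => ?_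
    rw [mul_comm, mul_smul, algebraMap_smul]
  obtain ⟨h, hh⟩ := Module.projective_lifting_property Φ.rangeRestrict
    (g.codRestrict (LinearMap.range Φ) fun x => hrange ⟨x, rfl⟩) Φ.surjective_rangeRestrict
  have hg' : g.restrictScalars R =
      ∑ t, a t • ((LinearMap.proj t).comp h).restrictScalars R := by
    ext x
    have := congrArg Subtype.val (LinearMap.congr_fun hh x)
    simp [Φ] at this
    simp [← this]
  rw [hg']
  have hsum : ModuleCat.ofHom (∑ t, a t • ((LinearMap.proj t).comp h).restrictScalars R) =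
      ∑ t, a t • ModuleCat.ofHom (((LinearMap.proj t).comp h).restrictScalars R) := by
    ext x; simp
  rw [hsum, Ext.mk₀_sum, Ext.sum_comp]
  refine Finset.sum_eq_zero fun t _ => ?_
  rw [Ext.mk₀_smul, Ext.smul_comp, Ext.smul_eq_comp_mk₀]
  have hz : a t • 𝟙 (ModuleCat.of R (IsLocalRing.ResidueField R)) = 0 := by
    have hat : IsLocalRing.residue R (a t) = 0 := by
      rw [IsLocalRing.residue_eq_zero_iff, ← ha]
      exact Submodule.subset_span ⟨t, rfl⟩
    ext x
    show a t • x = 0
    rw [Algebra.smul_def]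
    show IsLocalRing.residue R (a t) * x = 0
    rw [hat, zero_mul]
  rw [hz, Ext.mk₀_zero, Ext.comp_zero]

lemma lower [IsLocalRing A] [IsNoetherianRing A] (hA : Function.Surjective (algebraMap R A)) (p : ℕ)
    (hp : HasProjectiveDimensionLE (ModuleCat.of R A) p)
    (hA' : Nontrivial (Ext (ModuleCat.of R A) (ModuleCat.of R (IsLocalRing.ResidueField R)) p)) :
    ∀ (e : ℕ) (E : Type u) [AddCommGroup E] [Module A E] [Module R E] [IsScalarTower R A E]
      [Module.Finite A E], HasProjectiveDimensionLE (ModuleCat.of A E) e →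
      ¬ HasProjectiveDimensionLT (ModuleCat.of A E) e →
      Nontrivial (Ext (ModuleCat.of R E) (ModuleCat.of R (IsLocalRing.ResidueField R)) (p + e)) := by
  intro e
  induction e with
  | zero =>
    intro E _ _ _ _ _ h h'
    rw [pd_zero_iff] at h
    haveI : Module.Free A E := Module.free_of_flat_of_isLocalRing
    haveI : Nontrivial E := by
      by_contra hn
      rw [not_nontrivial_iff_subsingleton] at hn
      exact h' (ModuleCat.isZero_of_subsingleton _).hasProjectiveDimensionLT_zero
    let b := Module.Free.chooseBasis A E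
    obtain ⟨i⟩ := b.index_nonempty
    let π : E →ₗ[R] A := (b.coord i).restrictScalars R
    let ι : A →ₗ[R] E := (LinearMap.toSpanSingleton A E (b i)).restrictScalars R
    have hπι : π ∘ₗ ι = LinearMap.id := by
      ext x; simp [π, ι]
    obtain ⟨z, hz⟩ := exists_ne (0 : Ext (ModuleCat.of R A) (ModuleCat.of R (IsLocalRing.ResidueField R)) p)
    refine ⟨⟨(Ext.mk₀ (ModuleCat.ofHom π)).comp z (zero_add p), 0, fun h0 => hz ?_⟩⟩
    have := congrArg (fun x => (Ext.mk₀ (ModuleCat.ofHom ι)).comp x (zero_add p)) h0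
    simpa [← ModuleCat.ofHom_comp, hπι] using this
  | succ e ih =>
    intro E _ _ _ _ _ h h'
    obtain ⟨n, f, hf, hker⟩ := exists_minimal_cover A E
    rw [pd_shift f hf] at h
    have hK' : ¬ HasProjectiveDimensionLT (ModuleCat.of A (LinearMap.ker f)) e := by
      intro hlt
      exact h' ((LinearMap.shortExact_shortComplexKer hf).hasProjectiveDimensionLT_X₃ e hlt
        (hasProjectiveDimensionLT_of_ge _ 1 _ (by omega)))
    haveI := ih (LinearMap.ker f) h hK'
    obtain ⟨z, hz⟩ := exists_ne
      (0 : Ext (ModuleCat.of R (LinearMap.ker f)) (ModuleCat.of R (IsLocalRing.ResidueField R)) (p + e))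
    have hzero : ∀ y : Ext (ModuleCat.of R (Fin n → A)) (ModuleCat.of R (IsLocalRing.ResidueField R)) (p + e),
        (Ext.mk₀ (ModuleCat.ofHom ((LinearMap.ker f).subtype.restrictScalars R))).comp y (zero_add _) = 0 := by
      intro y
      rcases e with _ | e
      · haveI : Module.Projective A (LinearMap.ker f) := (pd_zero_iff _).1 h
        exact restrict_zero A hA _ (by rw [Submodule.range_subtype]; exact hker) _ y
      · haveI := pd_free (R := R) A p hp n
        rw [y.eq_zero_of_hasProjectiveDimensionLT (p + 1) (by omega), Ext.comp_zero]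
    let S : ShortComplex (ModuleCat.{u} R) :=
      ShortComplex.mk (ModuleCat.ofHom ((LinearMap.ker f).subtype.restrictScalars R))
        (ModuleCat.ofHom (f.restrictScalars R)) (by ext x; exact x.2)
    have hS : S.ShortExact :=
      { exact := (ShortComplex.ShortExact.moduleCat_exact_iff_function_exact S).2 fun x =>
          ⟨fun hx => ⟨⟨x, hx⟩, rfl⟩, by rintro ⟨w, rfl⟩; exact w.2⟩
        mono_f := (ModuleCat.mono_iff_injective _).2 Subtype.val_injective
        epi_g := (ModuleCat.epi_iff_surjective _).2 hf }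
    refine ⟨⟨hS.extClass.comp z (show 1 + (p + e) = p + (e + 1) by omega), 0, fun h0 => hz ?_⟩⟩
    obtain ⟨y, hy⟩ := Ext.contravariant_sequence_exact₁ hS _ z _ h0
    rw [← hy]
    exact hzero y

/-- Take a Noetherian local ring R, an ideal I and a finite module E ≠ 0 over R/I. Suppose that R/I, as
an R-module, and E, as an R/I-module, both have finite projective dimension. Then E, as an R-module,
has finite projective dimension too, and it equals pd_R(R/I) + pd_{R/I}(E). -/
theorem result (R : Type u) [CommRing R] [IsNoetherianRing R] [IsLocalRing R]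
    (I : Ideal R) (E : Type u) [AddCommGroup E] [Module (R ⧸ I) E] [Module R E] [IsScalarTower R (R ⧸ I) E]
    [Module.Finite (R ⧸ I) E] [Nontrivial E]
    (h1 : projectiveDimension (ModuleCat.of R (R ⧸ I)) ≠ ⊤)
    (h2 : projectiveDimension (ModuleCat.of (R ⧸ I) E) ≠ ⊤) :
    projectiveDimension (ModuleCat.of R E) ≠ ⊤ ∧
      projectiveDimension (ModuleCat.of R E) =
        projectiveDimension (ModuleCat.of R (R ⧸ I)) + projectiveDimension (ModuleCat.of (R ⧸ I) E) := by
  classical
  haveI : Nontrivial (R ⧸ I) := Module.nontrivial (R ⧸ I) E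
  haveI : IsLocalRing (R ⧸ I) := IsLocalRing.of_surjective' _ Ideal.Quotient.mk_surjective
  haveI : IsNoetherianRing (R ⧸ I) :=
    isNoetherianRing_of_surjective R _ (Ideal.Quotient.mk I) Ideal.Quotient.mk_surjective
  haveI : Module.Finite R E := Module.Finite.trans (R ⧸ I) E
  set k : ModuleCat.{u} R := ModuleCat.of R (IsLocalRing.ResidueField R) with hk
  obtain ⟨p, hp⟩ := exact_value (R := R) (R ⧸ I) h1
  obtain ⟨e, he⟩ := exact_value (R := R ⧸ I) E h2
  have hup : HasProjectiveDimensionLE (ModuleCat.of R E) (p + e) :=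
    upper (R ⧸ I) p hp.1 e E he.1
  have hA : Nontrivial (Ext (ModuleCat.of R (R ⧸ I)) k p) := by
    have h0 : Nontrivial (Ext (ModuleCat.of R R) k 0) := by
      refine ⟨⟨Ext.mk₀ (ModuleCat.ofHom (Algebra.linearMap R (IsLocalRing.ResidueField R))), 0, fun h => ?_⟩⟩
      rw [← Ext.mk₀_zero, (Ext.mk₀_bijective _ _).1.eq_iff] at h
      have := LinearMap.congr_fun (congrArg ModuleCat.Hom.hom h) (1 : R)
      simp at this
    simpa using lower (R := R) R Function.surjective_id 0 (pd_of_projective R 0) h0 p (R ⧸ I) hp.1 hp.2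
  have hlo : Nontrivial (Ext (ModuleCat.of R E) k (p + e)) :=
    lower (R ⧸ I) Ideal.Quotient.mk_surjective p hp.1 hA e E he.1 he.2
  have hge : ¬ HasProjectiveDimensionLT (ModuleCat.of R E) (p + e) := fun h =>
    (haveI := h; not_subsingleton (Ext (ModuleCat.of R E) k (p + e)) (HasProjectiveDimensionLT.subsingleton _ (p + e) (p + e) le_rfl k))
  have h3 : projectiveDimension (ModuleCat.of R E) = ((p + e : ℕ) : WithBot ℕ∞) :=
    le_antisymm ((projectiveDimension_le_iff _ _).2 hup) ((projectiveDimension_ge_iff _ _).2 hge)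
  refine ⟨(projectiveDimension_ne_top_iff _).2 ⟨p + e, hup⟩, ?_⟩
  rw [h3, val_eq (R ⧸ I) hp.1 hp.2, val_eq E he.1 he.2]
  push_cast
  rfl

end Groth.Agent.S7137
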