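import Groth.Statements.S7138
import Groth.Agent.EtValLib.KrasnerDescent
import Groth.Agent.RegLoc.Completion

set_option autoImplicit false
universe u
open EtAlg

open scoped TensorProduct

namespace Groth.Agent.S7138

open TensorProduct in
/-- Let A be a discrete valuation ring, K its field of fractions, A^ its completion and K^ the fraction
field of A^. Every finite separable extension M of K^ arises by base change: M ≅ K^ ⊗_K L as
K^-algebras for some finite separable extension L/K. -/
theorem result (A K : Type u) [CommRing A] [IsDomain A]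
    [IsDiscreteValuationRing A] [Field K] [Algebra A K] [IsFractionRing A K]
    (Kh : Type u) [Field Kh] [Algebra (AdicCompletion (IsLocalRing.maximalIdeal A) A) Kh]
    [IsFractionRing (AdicCompletion (IsLocalRing.maximalIdeal A) A) Kh] [Algebra A Kh] [Algebra K Kh]
    [IsScalarTower A (AdicCompletion (IsLocalRing.maximalIdeal A) A) Kh] [IsScalarTower A K Kh]
    (M : Type u) [Field M] [Algebra Kh M] [FiniteDimensional Kh M] [Algebra.IsSeparable Kh M] :
    ∃ (L : Type u) (_ : Field L) (_ : Algebra K L), FiniteDimensional K L ∧ Algebra.IsSeparable K L ∧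
      Nonempty ((Kh ⊗[K] L) ≃ₐ[Kh] M) := by
  classical
  have hinj : Function.Injective (algebraMap (AdicCompletion (IsLocalRing.maximalIdeal A) A) Kh) :=
    IsFractionRing.injective _ Kh
  haveI : IsDomain (AdicCompletion (IsLocalRing.maximalIdeal A) A) := hinj.isDomain
  obtain ⟨hdom, hdvr⟩ :=
    (RegLoc.Completion.isDiscreteValuationRing_completion_iff A).1 ⟨inferInstance, inferInstance⟩
  letI : Algebra (AdicCompletion (IsLocalRing.maximalIdeal A) A) M :=
    ((algebraMap Kh M).comp (algebraMap _ Kh)).toAlgebra
  haveI : IsScalarTower (AdicCompletion (IsLocalRing.maximalIdeal A) A) Kh M :=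
    IsScalarTower.of_algebraMap_eq fun _ ↦ rfl
  have hfg := (IsLocalRing.maximalIdeal A).fg_of_isNoetherianRing
  have happ : ∀ (r : AdicCompletion (IsLocalRing.maximalIdeal A) A) (N : ℕ), ∃ a : A,
      algebraMap A _ a - r ∈ IsLocalRing.maximalIdeal _ ^ N := by
    intro r N
    obtain ⟨a, ha⟩ := Submodule.Quotient.mk_surjective _ (r.val N)
    refine ⟨a, ?_⟩
    have : algebraMap A (AdicCompletion (IsLocalRing.maximalIdeal A) A) a - r ∈
        (IsLocalRing.maximalIdeal A ^ N • ⊤ :
          Submodule A (AdicCompletion (IsLocalRing.maximalIdeal A) A)) := by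
      rw [AdicCompletion.pow_smul_top_eq_ker_eval hfg, LinearMap.mem_ker, map_sub, sub_eq_zero,
        AdicCompletion.eval_apply, AdicCompletion.eval_apply, ← ha]
      rfl
    rw [AdicCompletion.maximalIdeal_eq_map, ← Ideal.map_pow, ← Submodule.restrictScalars_mem A,
      ← Ideal.smul_top_eq_map]
    exact this
  obtain ⟨g, x, hgm, hgmap, hgen⟩ := EtValLib.KrasnerDescent.exists_generator
    (Kh := Kh) (M := M) (A := A) happ
  set gK := g.map (algebraMap A K) with hgK
  have hgKm : gK.Monic := hgm.map _
  have hmin : gK.map (algebraMap K Kh) = minpoly Kh x := by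
    rw [← hgmap, hgK, Polynomial.map_map, ← IsScalarTower.algebraMap_eq, ← IsScalarTower.algebraMap_eq]
  have hxi : IsIntegral Kh x := IsIntegral.of_finite Kh x
  have hirr : Irreducible gK :=
    hgKm.irreducible_of_irreducible_map (algebraMap K Kh) _ (hmin ▸ minpoly.irreducible hxi)
  haveI : Fact (Irreducible gK) := ⟨hirr⟩
  have hsepK : gK.Separable := by
    rw [← Polynomial.separable_map (algebraMap K Kh), hmin]
    exact Algebra.IsSeparable.isSeparable Kh x
  have hfin : FiniteDimensional K (AdjoinRoot gK) := (AdjoinRoot.powerBasis hirr.ne_zero).finite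
  refine ⟨AdjoinRoot gK, inferInstance, inferInstance, hfin, ?_, ?_⟩
  · have hr : IsSeparable K (AdjoinRoot.root gK) :=
      hsepK.of_dvd (minpoly.dvd K _ (by rw [AdjoinRoot.aeval_eq, AdjoinRoot.mk_self]))
    haveI := (IntermediateField.isSeparable_adjoin_simple_iff_isSeparable K (AdjoinRoot gK)).2 hr
    have htop : IntermediateField.adjoin K {AdjoinRoot.root gK} = ⊤ := by
      rw [eq_top_iff]
      intro t _
      exact IntermediateField.algebra_adjoin_le_adjoin K _
        ((AdjoinRoot.adjoinRoot_eq_top (f := gK)).symm ▸ Algebra.mem_top)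
    exact AlgEquiv.Algebra.isSeparable
      ((IntermediateField.equivOfEq htop).trans IntermediateField.topEquiv)
  · letI : Algebra K M := ((algebraMap Kh M).comp (algebraMap K Kh)).toAlgebra
    haveI : IsScalarTower K Kh M := IsScalarTower.of_algebraMap_eq fun _ ↦ rfl
    have hroot : Polynomial.aeval x gK = 0 := by
      rw [← Polynomial.aeval_map_algebraMap Kh, hmin, minpoly.aeval]
    let φ : (Kh ⊗[K] AdjoinRoot gK) →ₐ[Kh] M :=
      Algebra.TensorProduct.lift (Algebra.ofId Kh M)
        (AdjoinRoot.liftAlgHom gK (Algebra.ofId K M) x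
          (by rwa [Polynomial.aeval_def] at hroot)) fun _ _ ↦ Commute.all _ _
    have hsurj : Function.Surjective φ := by
      rw [← AlgHom.range_eq_top, eq_top_iff, ← hgen, Algebra.adjoin_le_iff]
      rintro z (rfl : z = x)
      exact ⟨1 ⊗ₜ AdjoinRoot.root gK, by simp [φ]⟩
    have hdim : Module.finrank Kh (Kh ⊗[K] AdjoinRoot gK) = Module.finrank Kh M := by
      rw [Module.finrank_baseChange, (AdjoinRoot.powerBasis hirr.ne_zero).finrank,
        AdjoinRoot.powerBasis_dim, ← hgKm.natDegree_map (algebraMap K Kh), hmin,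
        ← IntermediateField.adjoin.finrank hxi]
      have : IntermediateField.adjoin Kh {x} = ⊤ := by
        rw [eq_top_iff]
        intro t _
        exact IntermediateField.algebra_adjoin_le_adjoin Kh _ (hgen.symm ▸ Algebra.mem_top)
      rw [this, IntermediateField.finrank_top']
    exact ⟨AlgEquiv.ofBijective φ
      ⟨(LinearMap.injective_iff_surjective_of_finrank_eq_finrank hdim (f := φ.toLinearMap)).2 hsurj, hsurj⟩⟩

end Groth.Agent.S7138
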