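import Groth.Statements.S7140
import Mathlib

set_option autoImplicit false
universe u
open EtAlg

namespace Groth.Agent.S7140

open Polynomial in
/-- `p = λ^(p-1) * u` with `u ≡ -1` modulo `λ = 1 - ζ` -/
lemma exists_unit (p : ℕ) (hp : p.Prime) (A : Type*) [CommRing A] (ζ : A)
    (hζ : aeval ζ (cyclotomic p ℤ) = 0) :
    ∃ u : A, (p : A) = (1 - ζ) ^ (p - 1) * u ∧ u + 1 ∈ Ideal.span {1 - ζ} := by
  obtain ⟨m, rfl⟩ : ∃ m, p = m + 2 := ⟨p - 2, by have := hp.two_le; omega⟩
  haveI := Fact.mk hp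
  set μ : A := ζ - 1 with hμ
  let c : ℕ → ℕ := fun k ↦ Nat.choose (m + 2) (k + 1) / (m + 2)
  have hc : ∀ k < m + 1, (m + 2) * c k = Nat.choose (m + 2) (k + 1) := fun k hk ↦
    Nat.mul_div_cancel' (hp.dvd_choose_self (Nat.succ_ne_zero k) (by omega))
  have h1 : ∑ k ∈ Finset.range (m + 2), (Nat.choose (m + 2) (k + 1) : A) * μ ^ k = 0 := by
    have h := congrArg (aeval μ) (geom_sum_X_comp_X_add_one_eq_sum (R := ℤ) (m + 2))
    rw [← cyclotomic_prime, aeval_comp, map_add, map_one, aeval_X, hμ, sub_add_cancel, hζ] at h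
    rw [h, map_sum]
    refine Finset.sum_congr rfl fun k _ ↦ ?_
    simp [hμ]
  set S : A := ∑ k ∈ Finset.range (m + 1), (c k : A) * μ ^ k with hS
  have h2 : ((m + 2 : ℕ) : A) * S + μ ^ (m + 1) = 0 := by
    rw [← h1, Finset.sum_range_succ _ (m + 1), Nat.choose_self, Nat.cast_one, one_mul, hS, Finset.mul_sum]
    congr 1
    refine Finset.sum_congr rfl fun k hk ↦ ?_
    rw [← hc k (Finset.mem_range.1 hk), Nat.cast_mul, mul_assoc]
  set r : A := -∑ k ∈ Finset.range m, (c (k + 1) : A) * μ ^ k with hr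
  have h3 : 1 - S = μ * r := by
    have hc0 : c 0 = 1 := Nat.eq_of_mul_eq_mul_left (Nat.succ_pos (m + 1))
      (by rw [hc 0 (by omega), Nat.choose_one_right, mul_one])
    rw [hS, Finset.sum_range_succ', hc0, Nat.cast_one, pow_zero, one_mul, sub_add_cancel_right,
      hr, mul_neg, Finset.mul_sum]
    congr 1
    refine Finset.sum_congr rfl fun k _ ↦ ?_
    ring
  have h4 := mul_neg_geom_sum (1 - S) (m + 1)
  rw [sub_sub_cancel, h3, mul_pow] at h4
  refine ⟨(-1) ^ (m + 1) * (-(∑ j ∈ Finset.range (m + 1), (μ * r) ^ j) + ((m + 2 : ℕ) : A) * r ^ (m + 1)), ?_, ?_⟩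
  · have hflip : (1 - ζ) ^ (m + 2 - 1) * (-1) ^ (m + 1) = μ ^ (m + 1) := by
      rw [show m + 2 - 1 = m + 1 by omega, ← mul_pow, hμ]
      ring
    rw [← mul_assoc, hflip]
    linear_combination -(((m + 2 : ℕ) : A)) * h4 + (∑ j ∈ Finset.range (m + 1), (μ * r) ^ j) * h2
  · rw [← Ideal.Quotient.eq_zero_iff_mem]
    have hq : Ideal.Quotient.mk (Ideal.span {1 - ζ}) μ = 0 := by
      rw [Ideal.Quotient.eq_zero_iff_mem, hμ, ← neg_sub 1 ζ]
      exact neg_mem (Ideal.mem_span_singleton_self _)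
    have hS1 : Ideal.Quotient.mk (Ideal.span {1 - ζ}) S = 1 := by
      have := congrArg (Ideal.Quotient.mk (Ideal.span {1 - ζ})) h3
      rw [map_sub, map_one, map_mul, hq, zero_mul, sub_eq_zero] at this
      exact this.symm
    have hp0 : Ideal.Quotient.mk (Ideal.span {1 - ζ}) (((m + 2 : ℕ) : A)) = 0 := by
      have := congrArg (Ideal.Quotient.mk (Ideal.span {1 - ζ})) h2
      rwa [map_add, map_mul, hS1, mul_one, map_pow, hq, zero_pow (Nat.succ_ne_zero m), add_zero, map_zero] at this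
    rw [map_add, map_mul, map_add, map_neg, map_sum, map_one, map_mul, hp0, zero_mul, add_zero,
      map_pow, map_neg, map_one, Finset.sum_range_succ', Finset.sum_eq_zero (fun k _ ↦ by
        rw [map_pow, map_mul, hq, zero_mul, zero_pow (Nat.succ_ne_zero k)]), pow_zero, map_one, zero_add]
    rcases hp.eq_two_or_odd' with h | h
    · obtain rfl : m = 0 := by omega
      rw [← hp0, map_natCast]
      norm_num
    · obtain ⟨k, hk⟩ := h
      rw [(show Even (m + 1) from ⟨k, by omega⟩).neg_one_pow]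
      ring

open Polynomial in
/-- the polynomial and its shape -/
lemma exists_poly (p : ℕ) (hp : p.Prime) (A : Type*) [CommRing A] (ζ : A)
    (hζ : aeval ζ (cyclotomic p ℤ) = 0) :
    ∃ P : A[X], C ((1 - ζ) ^ p) * P = (1 + C (1 - ζ) * X) ^ p - 1 ∧
      ∃ a : ℕ → A, (∀ i, a i ∈ Ideal.span {1 - ζ}) ∧
        P = X ^ p - X + (Finset.Ioo 0 p).sum (fun i => C (a i) * X ^ i) := by
  classical
  obtain ⟨u, hu, hu1⟩ := exists_unit p hp A ζ hζ
  have hp2 := hp.two_le
  set l : A := 1 - ζ with hl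
  let b : ℕ → A := fun i ↦ ((Nat.choose p i / p : ℕ) : A) * u * l ^ (i - 1)
  let a : ℕ → A := fun i ↦ if i ∈ Finset.Ioo 0 p then b i + (if i = 1 then 1 else 0) else 0
  have hb : ∀ i ∈ Finset.Ioo 0 p, l ^ p * b i = l ^ i * (Nat.choose p i : A) := by
    intro i hi
    rw [Finset.mem_Ioo] at hi
    have hdiv : Nat.choose p i = p * (Nat.choose p i / p) :=
      (Nat.mul_div_cancel' (hp.dvd_choose_self (by omega) hi.2)).symm
    have hpow : l ^ p * l ^ (i - 1) = l ^ i * l ^ (p - 1) := by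
      rw [← pow_add, ← pow_add]; congr 1; omega
    conv_rhs => rw [hdiv, Nat.cast_mul, hu]
    simp only [b]
    linear_combination (((Nat.choose p i / p : ℕ) : A) * u) * hpow
  refine ⟨X ^ p + (Finset.Ioo 0 p).sum (fun i => C (b i) * X ^ i), ?_, a, ?_, ?_⟩
  · rw [add_comm (1 : A[X]), add_pow, mul_add, Finset.mul_sum]
    simp only [one_pow, mul_one]
    rw [Finset.sum_range_succ, Nat.choose_self, Nat.cast_one, mul_one,
      Finset.range_eq_Ico, ← Finset.Ioo_insert_left hp.pos, Finset.sum_insert (by simp)]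
    rw [pow_zero, one_mul, Nat.choose_zero_right, Nat.cast_one, mul_pow, ← C_pow]
    have : ∀ i ∈ Finset.Ioo 0 p, C (l ^ p) * (C (b i) * X ^ i) = (C l * X) ^ i * (Nat.choose p i : A[X]) := by
      intro i hi
      rw [← mul_assoc, ← C_mul, hb i hi, C_mul, C_pow, map_natCast, mul_pow]
      ring
    rw [Finset.sum_congr rfl this]
    ring
  · intro i
    by_cases hi : i ∈ Finset.Ioo 0 p
    · simp only [a, if_pos hi]
      by_cases h1 : i = 1
      · subst h1
        simp only [b, if_true, Nat.sub_self, pow_zero, mul_one, Nat.choose_one_right, Nat.div_self hp.pos,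
          Nat.cast_one, one_mul]
        exact hu1
      · rw [if_neg h1, add_zero]
        rw [Finset.mem_Ioo] at hi
        exact Ideal.mul_mem_left _ _ (Ideal.pow_mem_of_mem _ (Ideal.mem_span_singleton_self _) _ (by omega))
    · simp only [a, if_neg hi]
      exact zero_mem _
  · have h1 : (Finset.Ioo 0 p).sum (fun i => C (a i) * X ^ i) =
        (Finset.Ioo 0 p).sum (fun i => C (b i) * X ^ i) + X := by
      have : ∀ i ∈ Finset.Ioo 0 p, C (a i) * X ^ i = C (b i) * X ^ i + (if i = 1 then X ^ i else 0) := by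
        intro i hi
        simp only [a, if_pos hi]
        split_ifs <;> simp [add_mul]
      rw [Finset.sum_congr rfl this, Finset.sum_add_distrib, Finset.sum_ite_eq' (Finset.Ioo 0 p) 1,
        if_pos (Finset.mem_Ioo.2 ⟨one_pos, hp2⟩), pow_one]
    rw [h1]
    ring

open Polynomial in
/-- Let p be a prime and A a ring with an element ζ satisfying 1 + ζ + ... + ζ^(p-1) = 0 (so that A is
an algebra over the ring of integers of the p-th cyclotomic field); set w = 1 - ζ. Then the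
polynomial ((1 + wz)^p - 1)/w^p makes sense in A[z]: there is P in A[z] with w^p·P = (1 + wz)^p - 1,
of the form z^p - z + Σ_{0<i<p} a_i z^i with all a_i in the ideal (w), and P(z₁ + z₂ + w z₁ z₂) =
P(z₁) + P(z₂) + w^p P(z₁)P(z₂) for all z₁, z₂ in any A-algebra. (The published statement asks only
for a primitive p-th root of unity; this row asks that ζ be a root of the p-th cyclotomic
polynomial, the case its proof treats. With ζ only of multiplicative order p the published statement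
fails, for example for ζ = (1, e^{2πi/p}) in ℂ × ℂ.) -/
theorem result (p : ℕ) (hp : p.Prime) (A : Type u) [CommRing A] (ζ : A)
    (hζ : aeval ζ (cyclotomic p ℤ) = 0) :
    ∃ P : A[X], C ((1 - ζ) ^ p) * P = (1 + C (1 - ζ) * X) ^ p - 1 ∧
      (∃ a : ℕ → A, (∀ i, a i ∈ Ideal.span {1 - ζ}) ∧
        P = X ^ p - X + (Finset.Ioo 0 p).sum (fun i => C (a i) * X ^ i)) ∧
      ∀ (S : Type u) [CommRing S] [Algebra A S] (z₁ z₂ : S),
        aeval (z₁ + z₂ + algebraMap A S (1 - ζ) * z₁ * z₂) P =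
          aeval z₁ P + aeval z₂ P + algebraMap A S ((1 - ζ) ^ p) * aeval z₁ P * aeval z₂ P := by
  classical
  let R₀ := AdjoinRoot (cyclotomic p ℤ)
  haveI : IsDomain R₀ := AdjoinRoot.isDomain_of_prime (cyclotomic.irreducible hp.pos).prime
  have hζ₀ : aeval (AdjoinRoot.root (cyclotomic p ℤ)) (cyclotomic p ℤ) = 0 := by
    rw [AdjoinRoot.aeval_eq, AdjoinRoot.mk_self]
  set ζ₀ : R₀ := AdjoinRoot.root (cyclotomic p ℤ) with hζ₀def
  have hne : (1 : R₀) - ζ₀ ≠ 0 := by
    intro h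
    rw [← sub_eq_zero.1 h] at hζ₀
    have h2 : AdjoinRoot.of (cyclotomic p ℤ) ((p : ℕ) : ℤ) = 0 := by
      haveI := Fact.mk hp
      rw [map_natCast, ← hζ₀, aeval_def, eval₂_eq_eval_map, map_cyclotomic, eval_one_cyclotomic_prime]
    have := (map_eq_zero_iff _ (AdjoinRoot.of.injective_of_degree_ne_zero
      (degree_cyclotomic_pos p ℤ hp.pos).ne')).1 h2
    exact hp.ne_zero (by exact_mod_cast this)
  obtain ⟨P₀, hP₀, a₀, ha₀, hP₀'⟩ := exists_poly p hp R₀ ζ₀ hζ₀
  let φ : R₀ →+* A := AdjoinRoot.lift (Int.castRingHom A) ζ (by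
    rw [← hζ, aeval_def]; rfl)
  have hφ : φ ζ₀ = ζ := AdjoinRoot.lift_root _
  have hPmap : C ((1 - ζ) ^ p) * P₀.map φ = (1 + C (1 - ζ) * X) ^ p - 1 := by
    have := congrArg (Polynomial.map φ) hP₀
    simpa [hφ] using this
  refine ⟨P₀.map φ, hPmap, ⟨fun i ↦ φ (a₀ i), fun i ↦ ?_, ?_⟩, ?_⟩
  · have := Ideal.mem_map_of_mem φ (ha₀ i)
    rwa [Ideal.map_span, Set.image_singleton, map_sub, map_one, hφ] at this
  · rw [hP₀', Polynomial.map_add, Polynomial.map_sub, Polynomial.map_pow, Polynomial.map_X,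
      Polynomial.map_sum]
    simp [Polynomial.map_mul]
  intro S _ _ z₁ z₂
  let ψ : R₀ →+* S := (algebraMap A S).comp φ
  let T := MvPolynomial (Fin 2) R₀
  let Y₁ : T := MvPolynomial.X 0
  let Y₂ : T := MvPolynomial.X 1
  let l : T := MvPolynomial.C (1 - ζ₀)
  have hev : ∀ y : T, l ^ p * P₀.eval₂ MvPolynomial.C y = (1 + l * y) ^ p - 1 := by
    intro y
    have := congrArg (eval₂RingHom (MvPolynomial.C : R₀ →+* T) y) hP₀
    simp only [map_mul, map_pow, map_sub, map_add, map_one, coe_eval₂RingHom, eval₂_C, eval₂_X] at this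
    simpa [l, eval₂_pow] using this
  have hl : l ^ p ≠ 0 := pow_ne_zero _ (by
    rw [Ne, ← map_zero (MvPolynomial.C : R₀ →+* T), MvPolynomial.C_inj]
    exact hne)
  have key : P₀.eval₂ MvPolynomial.C (Y₁ + Y₂ + l * Y₁ * Y₂) =
      P₀.eval₂ MvPolynomial.C Y₁ + P₀.eval₂ MvPolynomial.C Y₂ +
        l ^ p * P₀.eval₂ MvPolynomial.C Y₁ * P₀.eval₂ MvPolynomial.C Y₂ := by
    refine mul_left_cancel₀ hl ?_
    have hprod : (1 + l * (Y₁ + Y₂ + l * Y₁ * Y₂)) ^ p = (1 + l * Y₁) ^ p * (1 + l * Y₂) ^ p := by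
      rw [← mul_pow]; congr 1; ring
    linear_combination hev (Y₁ + Y₂ + l * Y₁ * Y₂) + hprod -
      (1 + l ^ p * P₀.eval₂ MvPolynomial.C Y₂) * hev Y₁ - (1 + l * Y₁) ^ p * hev Y₂
  have := congrArg (MvPolynomial.eval₂Hom ψ ![z₁, z₂]) key
  simp only [map_add, map_mul, map_pow, Polynomial.hom_eval₂] at this
  simp only [Polynomial.aeval_def, Polynomial.eval₂_map]
  have hC : (MvPolynomial.eval₂Hom ψ ![z₁, z₂]).comp MvPolynomial.C = ψ :=
    RingHom.ext fun r ↦ MvPolynomial.eval₂Hom_C ψ _ r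
  simp only [hC, map_add, map_mul, l, Y₁, Y₂, MvPolynomial.eval₂Hom_X', MvPolynomial.eval₂Hom_C] at this
  simpa [ψ, hφ] using this

end Groth.Agent.S7140
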