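import Groth.Statements.S7141
import Groth.Agent.EtAlgPair.MaxWeak
import Mathlib.Dynamics.Newton

set_option autoImplicit false
universe u
open EtAlg

namespace Groth.Agent.S7141

/-- Let K be a field and, for a K-algebra A, let B_max(A) be its largest weakly étale K-subalgebra. (2)
For a K-subalgebra A' ⊆ A one has B_max(A') = B_max(A) ∩ A'. (4) The quotient map A → A_red =
A/nilradical restricts to a bijection B_max(A) → B_max(A_red). (6) If A ≠ 0 and its only idempotents
are 0 and 1, then B_max(A) is a field, algebraic and separable over K. (The published statement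
omits A ≠ 0; this row assumes it, since for A = 0 the largest weakly étale subalgebra is the zero
ring.) -/
theorem result (K : Type u) [Field K] (A : Type u) [CommRing A] [Algebra K A] :
    (∀ A' : Subalgebra K A,
      (EtAlgD.maxWeaklyEtale K A').map A'.val = EtAlgD.maxWeaklyEtale K A ⊓ A') ∧
    (Set.BijOn (Ideal.Quotient.mkₐ K (nilradical A)) (EtAlgD.maxWeaklyEtale K A)
      (EtAlgD.maxWeaklyEtale K (A ⧸ nilradical A))) ∧
    ((∀ e : A, IsIdempotentElem e → e = 0 ∨ e = 1) → Nontrivial A →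
      IsField (EtAlgD.maxWeaklyEtale K A) ∧ Algebra.IsSeparable K (EtAlgD.maxWeaklyEtale K A)) := by
  refine ⟨fun A' => ?_, ⟨?_, ?_, ?_⟩, ?_⟩
  · ext b
    simp only [Subalgebra.mem_map, Algebra.mem_inf, Groth.Agent.EtAlgPair.WeakField.mem_maxWeaklyEtale_iff]
    constructor
    · rintro ⟨a, ha, rfl⟩
      exact ⟨Groth.Agent.EtAlgPair.WeakField.isSep_algHom A'.val ha, a.2⟩
    · rintro ⟨hb, hb'⟩
      exact ⟨⟨b, hb'⟩, Groth.Agent.EtAlgPair.WeakField.isSep_of_injective A'.val Subtype.val_injective hb, rfl⟩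
  · intro b hb
    exact Groth.Agent.EtAlgPair.WeakField.mem_maxWeaklyEtale_iff.mpr
      (Groth.Agent.EtAlgPair.WeakField.isSep_algHom (Ideal.Quotient.mkₐ K (nilradical A))
        (Groth.Agent.EtAlgPair.WeakField.mem_maxWeaklyEtale_iff.mp hb))
  · intro x hx y hy hxy
    haveI : Algebra.WeaklyEtale K (EtAlgD.maxWeaklyEtale K A) := by
      rw [Groth.Agent.EtAlgPair.WeakField.maxWeaklyEtale_eq]
      exact Groth.Agent.EtAlgPair.WeakField.weaklyEtale_sepSubalgebra
    haveI := Groth.Agent.EtAlgPair.WeakField.isReduced_of_regular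
      (Groth.Agent.EtAlgPair.WeakField.exists_mul_self_mul_of_weaklyEtale K (B := EtAlgD.maxWeaklyEtale K A))
    obtain ⟨n, hn⟩ : x - y ∈ nilradical A := Ideal.Quotient.eq.mp hxy
    have h1 : (⟨x, hx⟩ - ⟨y, hy⟩ : EtAlgD.maxWeaklyEtale K A) = 0 :=
      IsNilpotent.eq_zero ⟨n, Subtype.ext hn⟩
    exact sub_eq_zero.mp (congrArg Subtype.val h1)
  · intro z hz
    obtain ⟨f, hf, hz'⟩ := Groth.Agent.EtAlgPair.WeakField.mem_maxWeaklyEtale_iff.mp hz
    obtain ⟨a, rfl⟩ := Ideal.Quotient.mk_surjective z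
    have hnil : IsNilpotent (Polynomial.aeval a f) := by
      rw [← mem_nilradical, ← Ideal.Quotient.eq_zero_iff_mem, ← Ideal.Quotient.mkₐ_eq_mk K,
        ← Polynomial.aeval_algHom_apply]
      exact hz'
    have hunit : IsUnit (Polynomial.aeval a (Polynomial.derivative f)) := by
      obtain ⟨u, v, huv⟩ := hf
      have h3 := congrArg (Polynomial.aeval a) huv
      rw [map_add, map_mul, map_mul, map_one] at h3
      have h4 : IsUnit (Polynomial.aeval a v * Polynomial.aeval a (Polynomial.derivative f)) := by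
        rw [eq_sub_of_add_eq' h3]
        exact IsNilpotent.isUnit_one_sub ((Commute.all _ _).isNilpotent_mul_left hnil)
      exact isUnit_of_mul_isUnit_right h4
    obtain ⟨r, ⟨hr1, hr2⟩, -⟩ := Polynomial.existsUnique_nilpotent_sub_and_aeval_eq_zero hnil hunit
    refine ⟨r, Groth.Agent.EtAlgPair.WeakField.mem_maxWeaklyEtale_iff.mpr ⟨f, hf, hr2⟩, ?_⟩
    exact (Ideal.Quotient.eq.mpr (mem_nilradical.mpr hr1)).symm
  · intro hidem hnt
    haveI : Algebra.WeaklyEtale K (EtAlgD.maxWeaklyEtale K A) := by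
      rw [Groth.Agent.EtAlgPair.WeakField.maxWeaklyEtale_eq]
      exact Groth.Agent.EtAlgPair.WeakField.weaklyEtale_sepSubalgebra
    refine ⟨⟨⟨0, 1, fun h => zero_ne_one (congrArg Subtype.val h)⟩, mul_comm, fun {x} hx => ?_⟩, ⟨fun x => ?_⟩⟩
    · obtain ⟨c, hc⟩ := Groth.Agent.EtAlgPair.WeakField.exists_mul_self_mul_of_weaklyEtale K x
      have he : IsIdempotentElem ((x * c : EtAlgD.maxWeaklyEtale K A) : A) := by
        show ((x * c : EtAlgD.maxWeaklyEtale K A) : A) * ((x * c : EtAlgD.maxWeaklyEtale K A) : A) = _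
        rw [← MulMemClass.coe_mul, show x * c * (x * c) = x * x * c * c from by ring, ← hc]
      rcases hidem _ he with h0 | h1
      · refine absurd ?_ hx
        rw [hc, mul_assoc, show x * c = 0 from Subtype.ext h0, mul_zero]
      · exact ⟨c, Subtype.ext h1⟩
    · obtain ⟨f, hf, hx⟩ := Groth.Agent.EtAlgPair.WeakField.exists_separable_aeval K x
      exact hf.of_dvd (minpoly.dvd _ _ hx)

end Groth.Agent.S7141
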