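import Groth.Statements.S7143
import Mathlib

set_option autoImplicit false
universe u
open CategoryTheory
open EtAlg

namespace Groth.Agent.S7143

/-- Integrality over the subring generated by the image. -/
lemma isIntegral_trans_of_range {A K : Type u} [CommRing A] [Field K] [Algebra A K] {k : K}
    (hk : IsIntegral (Subring.closure (Set.range (algebraMap A K))) k) : IsIntegral A k := by
  revert hk
  rw [← RingHom.coe_range, Subring.closure_eq]
  rintro ⟨P, hP, hP0⟩
  obtain ⟨Q, hQ, -, hQm⟩ := Polynomial.lifts_and_natDegree_eq_and_monic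
    (Polynomial.map_surjective (algebraMap A K).rangeRestrict (RingHom.rangeRestrict_surjective _) P) hP
  refine ⟨Q, hQm, ?_⟩
  rw [← hQ, Polynomial.eval₂_map] at hP0
  exact hP0

/-- A product of valuation rings has flat ideals. -/
lemma flat_ideal_pi {ι : Type u} (R : ι → Type u) [∀ i, CommRing (R i)] [∀ i, IsDomain (R i)]
    [∀ i, ValuationRing (R i)] (I : Ideal (∀ i, R i)) : Module.Flat (∀ i, R i) I := by
  classical
  have hprinc : ∀ a b : (∀ i, R i), ∃ c : (∀ i, R i), Ideal.span {a, b} = Ideal.span {c} := by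
    intro a b
    have : ∀ i : ι, ∃ (c p q : R i), a i = c * p ∧ b i = c * q ∧ (c = a i ∨ c = b i) := fun i => by
      rcases ValuationRing.dvd_total (a i) (b i) with ⟨q, hq⟩ | ⟨q, hq⟩
      · exact ⟨a i, 1, q, (mul_one _).symm, hq, Or.inl rfl⟩
      · exact ⟨b i, q, 1, hq, (mul_one _).symm, Or.inr rfl⟩
    choose c p q hp hq hc using this
    refine ⟨fun i => c i, le_antisymm (Ideal.span_le.mpr ?_) ((Ideal.span_singleton_le_iff_mem _).mpr ?_)⟩
    · rintro x (rfl | rfl)
      · exact Ideal.mem_span_singleton.mpr ⟨fun i => p i, funext hp⟩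
      · exact Ideal.mem_span_singleton.mpr ⟨fun i => q i, funext hq⟩
    · refine Ideal.mem_span_pair.mpr ⟨fun i => if c i = a i then 1 else 0, fun i => if c i = a i then 0 else 1, funext fun i => ?_⟩
      simp only [Pi.add_apply, Pi.mul_apply]
      by_cases h1 : c i = a i
      · simp [h1]
      · have h2 := (hc i).resolve_left h1
        have h3 : ¬ b i = a i := fun h => h1 (h2.trans h)
        simp [h2, h3]
  have hflat : ∀ a : (∀ i, R i), Module.Flat (∀ i, R i) ↥(Ideal.span {a}) := by
    intro a
    let e : (∀ i, R i) := fun i => if a i = 0 then 0 else 1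
    have hea : ∀ v : (∀ i, R i), e * v * a = v * a := fun v => funext fun i => by
      by_cases h1 : a i = 0 <;> simp [e, h1]
    let r : ↥(Ideal.span {e}) →ₗ[∀ i, R i] ↥(Ideal.span {a}) :=
      (LinearMap.mulRight (∀ i, R i) a).restrict fun x hx => Ideal.mem_span_singleton.mpr (dvd_mul_left a x)
    have hr : Function.Bijective r := by
      constructor
      · rintro ⟨x, hx⟩ ⟨y, hy⟩ hxy
        obtain ⟨v, rfl⟩ := Ideal.mem_span_singleton.mp hx
        obtain ⟨w, rfl⟩ := Ideal.mem_span_singleton.mp hy
        have h2 : e * v * a = e * w * a := congrArg Subtype.val hxy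
        refine Subtype.ext (funext fun i => ?_)
        by_cases h1 : a i = 0
        · simp [e, h1]
        · have h3 := congrFun h2 i
          simp only [Pi.mul_apply] at h3
          exact mul_right_cancel₀ h1 h3
      · rintro ⟨x, hx⟩
        obtain ⟨v, rfl⟩ := Ideal.mem_span_singleton.mp hx
        exact ⟨⟨e * v, Ideal.mem_span_singleton.mpr (dvd_mul_right e v)⟩, Subtype.ext ((hea v).trans (mul_comm v a))⟩
    have hee : e * e = e := funext fun i => by by_cases h1 : a i = 0 <;> simp [e, h1]
    haveI : Module.Flat (∀ i, R i) ↥(Ideal.span {e}) := by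
      refine Module.Flat.of_retract (Ideal.span {e}).subtype
        ((LinearMap.mulLeft (∀ i, R i) e).codRestrict (Ideal.span {e}) fun x => Ideal.mem_span_singleton.mpr (dvd_mul_right e x))
        (LinearMap.ext ?_)
      rintro ⟨x, hx⟩
      obtain ⟨v, rfl⟩ := Ideal.mem_span_singleton.mp hx
      exact Subtype.ext (by simp [← mul_assoc, hee])
    exact Module.Flat.of_linearEquiv (LinearEquiv.ofBijective r hr).symm
  refine Module.Flat.of_forall_isTrivialRelation fun {l F x} hFx => ?_
  have hfg : ∀ J : Ideal (∀ i, R i), J.FG → ∃ c, J = Ideal.span {c} := fun J hJ => by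
    induction J, hJ using Submodule.fg_induction with
    | singleton c => exact ⟨c, rfl⟩
    | sup J₁ J₂ _ _ h1 h2 =>
      obtain ⟨c₁, rfl⟩ := h1; obtain ⟨c₂, rfl⟩ := h2
      obtain ⟨c, hc⟩ := hprinc c₁ c₂
      exact ⟨c, by rw [← hc, Ideal.span_insert]⟩
  obtain ⟨c, hc⟩ := hfg (Ideal.span (Set.range fun k => (x k : ∀ i, R i))) ⟨(Finset.univ.image fun k => (x k : ∀ i, R i)), by simp⟩
  have hle : Ideal.span {c} ≤ I := hc ▸ Ideal.span_le.mpr (by rintro _ ⟨k, rfl⟩; exact (x k).2)
  let x' : Fin l → ↥(Ideal.span {c}) := fun k => ⟨x k, hc ▸ Ideal.subset_span ⟨k, rfl⟩⟩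
  haveI := hflat c
  have hsum : ∑ k, F k • x' k = 0 := Subtype.ext (by
    have := congrArg Subtype.val hFx
    simpa [x'] using this)
  obtain ⟨κ, a, y, hxy, ha⟩ := Module.Flat.isTrivialRelation_of_sum_smul_eq_zero hsum
  refine ⟨κ, a, fun j => ⟨y j, hle (y j).2⟩, fun k => Subtype.ext ?_, ha⟩
  have := congrArg Subtype.val (hxy k)
  simpa [x'] using this


/-- Every normal domain A with fraction field K is the fibre product V ×_L K for suitable rings V and L
with maps A → V, V → L, K → L (together with the given A → K), where every ideal of V is flat (weak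
dimension at most one) and V → L is flat, injective and an epimorphism of rings. -/
theorem result (A K : Type u) [CommRing A] [IsDomain A] [Field K] [Algebra A K]
    [IsFractionRing A K] [IsIntegrallyClosed A] :
    ∃ (V L : Type u) (_ : CommRing V) (_ : CommRing L) (f : A →+* V) (g : V →+* L) (h : K →+* L),
      g.comp f = h.comp (algebraMap A K) ∧
      (∀ I : Ideal V, Module.Flat V I) ∧ g.Flat ∧ Function.Injective g ∧ Epi (CommRingCat.ofHom g) ∧
      ∀ (v : V) (k : K), g v = h k → ∃! a : A, f a = v ∧ algebraMap A K a = k := by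
  classical
  set s : Set K := Set.range (algebraMap A K) with hs
  let ι := {W : ValuationSubring K // s ⊆ W.toSubring}
  let V := ∀ i : ι, i.1
  let L := ι → K
  let g : V →+* L := Pi.ringHom fun i => (i.1.subtype).comp (Pi.evalRingHom (fun i : ι => i.1) i)
  let f : A →+* V := Pi.ringHom fun i => RingHom.codRestrict (algebraMap A K) i.1.toSubring fun a => i.2 ⟨a, rfl⟩
  let h : K →+* L := Pi.ringHom fun _ => RingHom.id K
  have hginj : Function.Injective g := fun v w hvw => funext fun i => Subtype.ext (congrFun hvw i)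
  letI : Algebra V L := g.toAlgebra
  let M : Submonoid V := { carrier := {v | ∀ i, (v i : K) ≠ 0}, mul_mem' := fun hv hw i => mul_ne_zero (hv i) (hw i), one_mem' := fun i => one_ne_zero }
  haveI : IsLocalization M L :=
    { map_units := fun v => Pi.isUnit_iff.mpr fun i => isUnit_iff_ne_zero.mpr (v.2 i)
      surj := fun x => by
        have : ∀ i : ι, ∃ (a b : i.1), (b : K) ≠ 0 ∧ x i * b = a := fun i => by
          rcases i.1.mem_or_inv_mem (x i) with h1 | h1
          · exact ⟨⟨_, h1⟩, 1, one_ne_zero, mul_one _⟩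
          · by_cases h0 : x i = 0
            · exact ⟨0, 1, one_ne_zero, by simp [h0]⟩
            · exact ⟨1, ⟨_, h1⟩, inv_ne_zero h0, by simp [h0]⟩
        choose a b hb hab using this
        exact ⟨(fun i => a i, ⟨fun i => b i, hb⟩), funext hab⟩
      exists_of_eq := fun {x y} hxy => ⟨1, by simp [hginj hxy]⟩ }
  refine ⟨V, L, inferInstance, inferInstance, f, g, h, rfl, ?_, IsLocalization.flat L M, hginj, ?_, ?_⟩
  · exact flat_ideal_pi (fun i : ι => i.1)
  · haveI : IsLocalization M L := inferInstance
    exact ⟨fun {Z} u w huw => CommRingCat.hom_ext (IsLocalization.ringHom_ext M (congrArg CommRingCat.Hom.hom huw))⟩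
  · intro v k hvk
    have hk : k ∈ (⨅ W : ι, W.1.toSubring) := Subring.mem_iInf.mpr fun i => by
      have := congrFun hvk i
      change (v i : K) = k at this
      rw [← this]; exact (v i).2
    rw [iInf_valuationSubring_superset] at hk
    obtain ⟨a, ha⟩ : ∃ a, algebraMap A K a = k := by
      have hk' : IsIntegral (Subring.closure s) k := (mem_integralClosure_iff _ _).1 (Subalgebra.mem_toSubring.mp hk)
      have : IsIntegral A k := by
        refine isIntegral_trans_of_range (A := A) hk'
      exact IsIntegrallyClosed.isIntegral_iff.mp this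
    refine ⟨a, ⟨funext fun i => Subtype.ext ?_, ha⟩, fun b hb => IsFractionRing.injective A K (hb.2.trans ha.symm)⟩
    exact ha.trans (congrFun hvk i).symm

end Groth.Agent.S7143
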