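import Groth.Statements.S7144


set_option autoImplicit false
universe u
open CAlg

namespace Groth.Agent.S7144

/-- (1) ⇔ (2): let R be a nonzero ring. Then for all a, b in R one of a, b divides the other if and only
if R is local and every finitely generated ideal of R is principal. (The further equivalence with
the total ordering of the set of ideals by inclusion is standard and not restated here.) -/
theorem result (R : Type u) [CommRing R] [Nontrivial R] :
    PreValuationRing R ↔ IsLocalRing R ∧ IsBezout R := by
  constructor
  · intro h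
    refine ⟨?_, ?_⟩
    · refine IsLocalRing.of_nonunits_add fun a b ha hb => ?_
      obtain ⟨c, hc | hc⟩ := h.cond a b
      · rw [← hc, mem_nonunits_iff, show a + a * c = a * (1 + c) by ring]
        exact fun hu => ha (isUnit_of_mul_isUnit_left hu)
      · rw [← hc, mem_nonunits_iff, show b * c + b = b * (c + 1) by ring]
        exact fun hu => hb (isUnit_of_mul_isUnit_left hu)
    · refine IsBezout.iff_span_pair_isPrincipal.mpr fun a b => ?_
      obtain ⟨c, hc | hc⟩ := h.cond a b
      · refine ⟨⟨a, le_antisymm ?_ ?_⟩⟩
        · refine Ideal.span_le.mpr ?_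
          rintro x (rfl | rfl)
          · exact Submodule.mem_span_singleton_self _
          · exact Ideal.mem_span_singleton.mpr ⟨c, hc.symm⟩
        · exact Submodule.span_mono (by simp)
      · refine ⟨⟨b, le_antisymm ?_ ?_⟩⟩
        · refine Ideal.span_le.mpr ?_
          rintro x (rfl | rfl)
          · exact Ideal.mem_span_singleton.mpr ⟨c, hc.symm⟩
          · exact Submodule.mem_span_singleton_self _
        · exact Submodule.span_mono (by simp)
  · rintro ⟨hl, hb⟩
    constructor
    intro a b
    obtain ⟨⟨g, hg⟩⟩ := hb.isPrincipal_of_FG (Ideal.span {a, b}) (Submodule.fg_span (by simp))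
    rw [← Ideal.span] at hg
    obtain ⟨a', rfl⟩ : g ∣ a := Ideal.mem_span_singleton.mp (hg ▸ Ideal.subset_span (by simp))
    obtain ⟨b', rfl⟩ : g ∣ b := Ideal.mem_span_singleton.mp (hg ▸ Ideal.subset_span (by simp))
    obtain ⟨x, y, hxy⟩ := Ideal.mem_span_pair.mp (hg ▸ Ideal.mem_span_singleton_self g)
    by_cases hg0 : g = 0
    · exact ⟨0, Or.inl (by simp [hg0])⟩
    · have hu : IsUnit (x * a' + y * b') := by
        refine (IsLocalRing.isUnit_or_isUnit_one_sub_self _).resolve_right fun h => hg0 ?_
        exact h.mul_left_eq_zero.mp (by linear_combination -hxy)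
      rcases IsLocalRing.isUnit_or_isUnit_of_isUnit_add hu with h | h
      · obtain ⟨u, hu⟩ := isUnit_of_mul_isUnit_right h
        exact ⟨↑u⁻¹ * b', Or.inl (by rw [← hu]; rw [mul_assoc, Units.mul_inv_cancel_left])⟩
      · obtain ⟨u, hu⟩ := isUnit_of_mul_isUnit_right h
        exact ⟨↑u⁻¹ * a', Or.inr (by rw [← hu]; rw [mul_assoc, Units.mul_inv_cancel_left])⟩

end Groth.Agent.S7144
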