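import Groth.Statements.S7145
import Mathlib.Algebra.Homology.HomologicalComplex
import Mathlib.Algebra.Category.ModuleCat.Basic
import Mathlib.LinearAlgebra.Basis.Basic
import Mathlib.Data.Int.Interval
import Mathlib.LinearAlgebra.FreeModule.Basic
import Mathlib.RingTheory.Finiteness.Basic

set_option autoImplicit false
universe u
open CategoryTheory CategoryTheory.Limits
open CAlg

namespace Groth.Agent.S7145

/-- Let R be a ring and F a cochain complex of free R-modules that is zero in all sufficiently large
degrees. Given finitely many elements f_i of F, f_i lying in degree n_i, there is a subcomplex G of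
F (a map of complexes G → F injective in every degree) through which every f_i passes, such that G
is zero outside a finite range of degrees and each term of G is a finitely generated free R-module. -/
theorem result (R : Type u) [CommRing R]
    (F : CochainComplex (ModuleCat.{u} R) ℤ) (hfree : ∀ n : ℤ, Module.Free R (F.X n))
    (b : ℤ) (hb : ∀ n : ℤ, b < n → IsZero (F.X n))
    (N : ℕ) (deg : Fin N → ℤ) (f : ∀ i : Fin N, F.X (deg i)) :
    ∃ (G : CochainComplex (ModuleCat.{u} R) ℤ) (ι : G ⟶ F),
      (∀ n : ℤ, Function.Injective (ι.f n)) ∧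
      (∃ a c : ℤ, ∀ n : ℤ, (n < a ∨ c < n) → IsZero (G.X n)) ∧
      (∀ n : ℤ, Module.Finite R (G.X n) ∧ Module.Free R (G.X n)) ∧
      ∀ i : Fin N, f i ∈ Set.range (ι.f (deg i)) := by
  classical
  let B := fun n => (hfree n).chooseBasis (R := R) (M := F.X n)
  obtain ⟨a, ha⟩ : ∃ a : ℤ, ∀ i, a ≤ deg i := ⟨-(∑ i, |deg i|), fun i => by
    have := Finset.single_le_sum (f := fun i => |deg i|) (fun _ _ => abs_nonneg _) (Finset.mem_univ i)
    have := neg_abs_le (deg i)
    lia⟩
  -- supports of the given elements
  let S₀ : ∀ n, Finset (Module.Free.ChooseBasisIndex R (F.X n)) := fun n =>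
    Finset.univ.biUnion fun i => if h : deg i = n then (((B n).repr (h ▸ f i)).support) else ∅
  let rec' : ∀ k : ℕ, Finset (Module.Free.ChooseBasisIndex R (F.X (a + k))) := fun k => Nat.rec (S₀ _)
    (fun k prev => S₀ _ ∪ prev.biUnion fun x => ((B (a + ↑(k + 1))).repr ((F.d (a + ↑k) (a + ↑(k + 1))).hom (B _ x))).support) k
  let S : ∀ n, Finset (Module.Free.ChooseBasisIndex R (F.X n)) := fun n =>
    if h : a ≤ n then (show a + ((n - a).toNat : ℤ) = n by lia) ▸ rec' (n - a).toNat else ∅
  have hcast : ∀ (k : ℕ) (n : ℤ) (h : a + (k : ℤ) = n), S n = h ▸ rec' k := by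
    intro k n h
    subst h
    simp only [S, dif_pos (show a ≤ a + (k : ℤ) by lia)]
    have aux : ∀ (m : ℕ) (e : a + (m : ℤ) = a + k), e ▸ rec' m = rec' k := by
      intro m e
      obtain rfl : m = k := by lia
      rfl
    exact aux _ _
  let W : ∀ n, Submodule R (F.X n) := fun n => Submodule.span R (B n '' (S n : Set _))
  have hmemW : ∀ n (v : F.X n), ((B n).repr v).support ⊆ S n → v ∈ W n := fun n v hv => by
    rw [Module.Basis.mem_span_image]
    exact hv
  have hd : ∀ i j, ∀ v ∈ W i, (F.d i j).hom v ∈ W j := by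
    intro i j
    by_cases hij : i + 1 = j
    swap
    · intro v _
      rw [F.shape i j (by simpa using hij)]
      exact Submodule.zero_mem _
    subst hij
    suffices W i ≤ (W (i + 1)).comap (F.d i (i + 1)).hom from this
    rw [Submodule.span_le]
    rintro _ ⟨x, hx, rfl⟩
    by_cases hai : a ≤ i
    swap
    · simp [S, hai] at hx
    obtain ⟨k, rfl⟩ : ∃ k : ℕ, i = a + k := ⟨(i - a).toNat, by rw [Int.toNat_of_nonneg (sub_nonneg.2 hai)]; ring⟩
    rw [hcast k _ rfl] at hx
    obtain ⟨j, hj⟩ : ∃ j, j = a + (k : ℤ) + 1 := ⟨_, rfl⟩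
    have key : ∀ j (hj : a + ((k + 1 : ℕ) : ℤ) = j), (F.d (a + k) j).hom (B _ x) ∈ W j := by
      intro j hj
      subst hj
      refine hmemW _ _ ?_
      rw [hcast (k + 1) _ rfl]
      exact Finset.Subset.trans (Finset.subset_biUnion_of_mem (fun x => ((B (a + ↑(k + 1))).repr ((F.d (a + ↑k) (a + ↑(k + 1))).hom (B _ x))).support) hx)
        Finset.subset_union_right
    exact key _ (by push_cast; ring)
  let G : CochainComplex (ModuleCat.{u} R) ℤ :=
    { X := fun n => ModuleCat.of R (W n)
      d := fun i j => ModuleCat.ofHom ((F.d i j).hom.restrict (hd i j))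
      shape := fun i j h => by
        ext v
        change ((F.d i j).hom (v : F.X i)) = 0
        rw [F.shape i j h]
        rfl
      d_comp_d' := fun i j l _ _ => by
        ext v
        change ((F.d j l).hom ((F.d i j).hom (v : F.X i))) = 0
        rw [← LinearMap.comp_apply, ← ModuleCat.hom_comp, F.d_comp_d]
        rfl }
  let ι : G ⟶ F :=
    { f := fun n => ModuleCat.ofHom (W n).subtype
      comm' := fun i j _ => by ext v; rfl }
  refine ⟨G, ι, fun n => Subtype.val_injective, ⟨a, b, fun n hn => ?_⟩, fun n => ⟨?_, ?_⟩, fun i => ?_⟩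
  · haveI : Subsingleton (W n) := by
      rcases hn with hn | hn
      · have hW : W n = ⊥ := by simp [W, S, not_le.2 hn]
        exact ⟨fun u v => Subtype.ext
          (((Submodule.mem_bot R).1 (hW.le u.2)).trans ((Submodule.mem_bot R).1 (hW.le v.2)).symm)⟩
      · haveI := ModuleCat.subsingleton_of_isZero (hb n hn)
        exact ⟨fun u v => Subtype.ext (Subsingleton.elim _ _)⟩
    exact ModuleCat.isZero_of_subsingleton _
  · exact Module.Finite.iff_fg.2 (Submodule.fg_span ((S n).finite_toSet.image _))
  · let v : S n → F.X n := fun x => B n x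
    have hv : LinearIndependent R v := (B n).linearIndependent.comp _ Subtype.val_injective
    have : W n = Submodule.span R (Set.range v) := by
      change Submodule.span R _ = _
      congr 1
      ext y
      simp [v]
    change Module.Free R (W n)
    rw [this]
    exact Module.Free.of_basis (Module.Basis.span hv)
  · refine ⟨⟨f i, ?_⟩, rfl⟩
    refine hmemW _ _ ?_
    obtain ⟨k, hk⟩ : ∃ k : ℕ, a + k = deg i := ⟨(deg i - a).toNat, by rw [Int.toNat_of_nonneg (sub_nonneg.2 (ha i))]; ring⟩
    have h0 : ((B (deg i)).repr (f i)).support ⊆ S₀ (deg i) := by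
      refine le_trans ?_ (Finset.subset_biUnion_of_mem
        (fun i' => if h : deg i' = deg i then (((B (deg i)).repr (h ▸ f i')).support) else ∅) (Finset.mem_univ i))
      rw [dif_pos rfl]
    refine h0.trans ?_
    rw [hcast k _ hk]
    have key : ∀ n (h : a + (k : ℤ) = n), S₀ n ⊆ h ▸ rec' k := by
      intro n h
      subst h
      cases k with
      | zero => exact subset_rfl
      | succ k => exact Finset.subset_union_left
    exact key _ hk

end Groth.Agent.S7145
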