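import Groth.Statements.S7146
import Mathlib.Algebra.Algebra.Operations
import Mathlib.Algebra.Group.Pointwise.Set.ListOfFn
import Mathlib.Analysis.SpecificLimits.Basic
import Mathlib.Data.Sym.Card
import Mathlib.Data.Nat.Choose.Basic
import Mathlib.RingTheory.Length
import Mathlib.Tactic.FieldSimp


set_option autoImplicit false
universe u
open Filter
open CAlg
open scoped Pointwise

namespace Groth.Agent.S7146

theorem length_pow_succ_le {R : Type u} [CommRing R] {d : ℕ} (g : Fin d → R) (n : ℕ) :
    Module.length R (R ⧸ Ideal.span (Set.range g) ^ (n + 1)) ≤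
      ((Fintype.card (Fin d) + n - 1).choose n : ℕ∞) * Module.length R (R ⧸ Ideal.span (Set.range g)) +
        Module.length R (R ⧸ Ideal.span (Set.range g) ^ n) := by
  classical
  let I := Ideal.span (Set.range g)
  let mon : Sym (Fin d) n → R := fun s => (s.toMultiset.map g).prod
  have hspan : I ^ n ≤ Submodule.span R (Set.range mon) := by
    rw [show I ^ n = Ideal.span (Set.range g ^ n) from Submodule.span_pow _ _]
    refine Submodule.span_le.mpr fun x hx => ?_
    obtain ⟨f, rfl⟩ := Set.mem_pow.mp hx
    choose i hi using fun j => (f j).2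
    refine Submodule.subset_span ⟨⟨Finset.univ.val.map i, by simp⟩, ?_⟩
    rw [List.prod_ofFn, Finset.prod_eq_multiset_prod]
    simp only [mon, Sym.toMultiset, Multiset.map_map]
    exact congrArg Multiset.prod (Multiset.map_congr rfl fun j _ => hi j)
  let G : (R ⧸ I ^ (n + 1)) →ₗ[R] (R ⧸ I ^ n) := Submodule.factor (Ideal.pow_le_pow_right (Nat.le_succ n))
  have hmon : ∀ s, mon s ∈ I ^ n := fun s => by
    have h : ∀ t : Multiset (Fin d), (t.map g).prod ∈ I ^ t.card := by
      intro t
      induction t using Multiset.induction_on with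
      | empty => simp
      | cons a t ih =>
        rw [Multiset.map_cons, Multiset.prod_cons, Multiset.card_cons, pow_succ']
        exact Ideal.mul_mem_mul (Ideal.subset_span ⟨a, rfl⟩) ih
    have := h s.toMultiset
    convert this using 2
    exact s.2.symm
  let F : (Sym (Fin d) n → R ⧸ I) →ₗ[R] (R ⧸ I ^ (n + 1)) :=
    LinearMap.lsum R (fun _ => R ⧸ I) R fun s =>
      Submodule.liftQ I ((Submodule.mkQ (I ^ (n + 1))).comp (LinearMap.mulRight R (mon s))) (fun x hx => by
        simp only [LinearMap.mem_ker, LinearMap.comp_apply, Submodule.mkQ_apply,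
          Submodule.Quotient.mk_eq_zero, LinearMap.mulRight_apply]
        rw [pow_succ']
        exact Ideal.mul_mem_mul hx (hmon s))
  have hF : LinearMap.ker G ≤ LinearMap.range F := by
    intro z hz
    obtain ⟨z, rfl⟩ := Submodule.Quotient.mk_surjective _ z
    have : Submodule.Quotient.mk z = (0 : R ⧸ I ^ n) := hz
    obtain ⟨c, rfl⟩ := (Submodule.mem_span_range_iff_exists_fun R).mp (hspan ((Submodule.Quotient.mk_eq_zero _).mp this))
    refine ⟨fun s => Submodule.Quotient.mk (c s), ?_⟩
    simp [F, ← Submodule.mkQ_apply, smul_eq_mul]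
    exact Finset.sum_congr rfl fun s _ => by rw [← map_mul]; rfl
  rw [Module.length_eq_add_of_exact (LinearMap.ker G).subtype G (Submodule.injective_subtype _)
    (Submodule.factor_surjective _) (LinearMap.exact_subtype_ker_map G)]
  refine add_le_add ?_ le_rfl
  calc Module.length R (LinearMap.ker G) ≤ Module.length R (LinearMap.range F) :=
        Module.length_le_of_injective (Submodule.inclusion hF) (Submodule.inclusion_injective hF)
    _ ≤ Module.length R (Sym (Fin d) n → R ⧸ I) :=
        Module.length_le_of_surjective F.rangeRestrict F.surjective_rangeRestrict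
    _ = _ := by rw [Module.length_pi, ENat.card_eq_coe_fintype_card, Sym.card_sym_eq_choose]

/-- Let R be a Noetherian local ring of Krull dimension d and I the ideal generated by a system of
parameters g_1, ..., g_d (d elements of the maximal ideal generating an ideal with radical the
maximal ideal); let e_I be the multiplicity of I, i.e. d! times the top coefficient of the numerical
polynomial n ↦ length(R/I^(n+1)), equivalently the limit of d!·length(R/Iⁿ)/n^d. Then e_I ≤
length(R/I). (Stated for a natural number e equal to that limit.) -/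
theorem result (R : Type u) [CommRing R] [IsNoetherianRing R] [IsLocalRing R]
    (d : ℕ) (hd : ringKrullDim R = d) (g : Fin d → R) (hg : ∀ i, g i ∈ IsLocalRing.maximalIdeal R)
    (hsop : IsLocalRing.maximalIdeal R ≤ (Ideal.span (Set.range g)).radical) (e : ℕ)
    (he : Tendsto (fun n : ℕ => (d.factorial : ℝ) * ((Module.length R (R ⧸ Ideal.span (Set.range g) ^ n)).toNat : ℝ) / (n : ℝ) ^ d)
      atTop (nhds (e : ℝ))) :
    (e : ℕ∞) ≤ Module.length R (R ⧸ Ideal.span (Set.range g)) := by
  classical
  set I := Ideal.span (Set.range g)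
  rcases eq_or_ne (Module.length R (R ⧸ I)) ⊤ with h | h
  · rw [h]; exact le_top
  obtain ⟨L, hL⟩ := WithTop.ne_top_iff_exists.mp h
  rw [← hL]
  rcases d with _ | d
  · have hI : I = ⊥ := by simp [I]
    have he' : Tendsto (fun _ : ℕ => ((L : ℕ) : ℝ)) atTop (nhds (e : ℝ)) := by
      refine he.congr' (eventually_atTop.mpr ⟨1, fun n hn => ?_⟩)
      have h0 : I ^ n = I := by rw [hI, ← Ideal.zero_eq_bot, zero_pow (by omega)]
      simp only [Nat.factorial_zero, Nat.cast_one, one_mul, pow_zero, div_one]
      rw [h0, ← hL]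
      rfl
    have := tendsto_nhds_unique he' tendsto_const_nhds
    change (e : ℕ∞) ≤ ((L : ℕ) : ℕ∞)
    exact Nat.cast_le.mpr (Nat.cast_le.mp this.le)
  have hle : ∀ n, Module.length R (R ⧸ I ^ n) ≤ (((n + d).choose (d + 1) : ℕ) : ℕ∞) * (L : ℕ∞) := by
    intro n
    induction n with
    | zero => simp [Module.length_eq_zero_iff, Ideal.one_eq_top]
    | succ n ih =>
      refine (length_pow_succ_le g n).trans ?_
      have e1 : (Fintype.card (Fin (d + 1)) + n - 1).choose n = (n + d).choose d := by
        rw [Fintype.card_fin, show d + 1 + n - 1 = n + d by omega, Nat.choose_symm_add]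
      have e2 : (n + 1 + d).choose (d + 1) = (n + d).choose d + (n + d).choose (d + 1) := by
        rw [show n + 1 + d = (n + d) + 1 by omega, Nat.choose_succ_succ]
      rw [e1, e2, Nat.cast_add, add_mul]
      refine add_le_add (le_of_eq ?_) ih
      change _ = _ * ((L : ℕ) : ℕ∞)
      exact congrArg _ hL.symm
  have hb : ∀ n : ℕ, 0 < n → ((d + 1).factorial : ℝ) * ((Module.length R (R ⧸ I ^ n)).toNat : ℝ) / (n : ℝ) ^ (d + 1)
      ≤ (L : ℝ) * ((1 + (d : ℝ) / n) ^ (d + 1)) := by
    intro n hn
    have h1 : (Module.length R (R ⧸ I ^ n)).toNat ≤ (n + d).choose (d + 1) * L := by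
      refine ENat.toNat_le_of_le_natCast ?_
      rw [Nat.cast_mul]
      exact hle n
    have h2 : (d + 1).factorial * (n + d).choose (d + 1) ≤ (n + d) ^ (d + 1) := by
      rw [← Nat.descFactorial_eq_factorial_mul_choose]
      exact Nat.descFactorial_le_pow _ _
    rw [div_le_iff₀ (by positivity), mul_assoc, ← mul_pow]
    have h3 : (1 + (d : ℝ) / n) * n = ((n + d : ℕ) : ℝ) := by field_simp; push_cast; ring
    rw [h3]
    calc ((d + 1).factorial : ℝ) * ((Module.length R (R ⧸ I ^ n)).toNat : ℝ)
        ≤ ((d + 1).factorial : ℝ) * (((n + d).choose (d + 1) * L : ℕ) : ℝ) := by gcongr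
      _ = (((d + 1).factorial * (n + d).choose (d + 1) : ℕ) : ℝ) * L := by push_cast; ring
      _ ≤ (((n + d) ^ (d + 1) : ℕ) : ℝ) * L := by gcongr
      _ = _ := by push_cast; ring
  have hlim : Tendsto (fun n : ℕ => (L : ℝ) * ((1 + (d : ℝ) / n) ^ (d + 1))) atTop (nhds (L : ℝ)) := by
    have := (((tendsto_const_div_atTop_nhds_zero_nat (d : ℝ)).const_add 1).pow (d + 1)).const_mul (L : ℝ)
    simpa using this
  have := le_of_tendsto_of_tendsto he hlim (eventually_atTop.mpr ⟨1, fun n hn => hb n hn⟩)
  change (e : ℕ∞) ≤ ((L : ℕ) : ℕ∞)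
  exact Nat.cast_le.mpr (Nat.cast_le.mp this)

end Groth.Agent.S7146
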