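import Groth.Statements.S7147
import Groth.Agent.SerreSplit.Basic
import Mathlib.RingTheory.Localization.Module

open Groth.Agent.SerreSplit.Basic


set_option autoImplicit false
universe u
open CAlg

namespace Groth.Agent.S7147

/-- Let R be a ring, M a finitely presented R-module and x a maximal ideal of R with residue field κ(x);
write M(x) = M/xM and let B(x) ⊆ M(x) be the orthogonal of the image of Hom_R(M, R) in the dual of
M(x), i.e. the classes of those m in M with φ(m) in x for every linear form φ on M, and V(x) =
M(x)/B(x). For s_1, ..., s_r in M the following are equivalent: (1) there is f in R, f not in x,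
such that the map R_f^r → M_f given by the s_i is the inclusion of a direct summand; (2) the images
of s_1, ..., s_r in V(x) are linearly independent over κ(x). -/
theorem result (R : Type u) [CommRing R] (M : Type u)
    [AddCommGroup M] [Module R M] [Module.FinitePresentation R M] (x : Ideal R) [x.IsMaximal]
    (r : ℕ) (s : Fin r → M) :
    let Mx := M ⧸ (x • ⊤ : Submodule R M)
    let Bx : Submodule (R ⧸ x) Mx :=
      Submodule.span (R ⧸ x) ((x • ⊤ : Submodule R M).mkQ '' {m : M | ∀ φ : M →ₗ[R] R, φ m ∈ x})
    (∃ f : R, f ∉ x ∧
      ∃ g : LocalizedModule (Submonoid.powers f) M →ₗ[Localization.Away f] (Fin r → Localization.Away f),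
        g ∘ₗ Fintype.linearCombination (Localization.Away f)
            (fun i => LocalizedModule.mkLinearMap (Submonoid.powers f) M (s i)) = LinearMap.id) ↔
    LinearIndependent (R ⧸ x) (fun i => Bx.mkQ ((x • ⊤ : Submodule R M).mkQ (s i))) := by
  classical
  intro Mx Bx
  refine Iff.trans ?_ (linearIndependent_iff_ind x s).symm
  constructor
  · rintro ⟨f, hf, g, hg⟩
    let S := Submonoid.powers f
    let l := LocalizedModule.mkLinearMap S M
    choose p hp using fun j : Fin r => Module.FinitePresentation.exists_lift_of_isLocalizedModule S
      (Algebra.linearMap R (Localization.Away f))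
      ((((LinearMap.proj j).comp g).restrictScalars R).comp l)
    choose σ hσ using hp
    intro c hc i
    have h1 : ∀ k, algebraMap R (Localization.Away f) (p i (s k)) =
        algebraMap R (Localization.Away f) ((σ i : R) * (if k = i then 1 else 0)) := by
      intro k
      have h1 := LinearMap.congr_fun (hσ i) (s k)
      simp only [LinearMap.comp_apply, Algebra.linearMap_apply, LinearMap.smul_apply,
        LinearMap.restrictScalars_apply, LinearMap.proj_apply] at h1
      have h2 : g (l (s k)) = Pi.single k 1 := by
        have := LinearMap.congr_fun hg (Pi.single k 1)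
        rw [LinearMap.comp_apply, LinearMap.id_apply, Fintype.linearCombination_apply_single,
          one_smul] at this
        exact this
      rw [h1, h2, Submonoid.smul_def, Algebra.smul_def, Pi.single_apply, map_mul]
      simp only [eq_comm (a := k) (b := i)]
      split_ifs <;> simp
    have h2 : algebraMap R (Localization.Away f) (p i (∑ k, c k • s k)) =
        algebraMap R (Localization.Away f) (c i * σ i) := by
      simp only [map_sum, map_smul, smul_eq_mul, map_mul, h1]
      rw [Finset.sum_eq_single i (fun j _ hj => by simp [hj]) (by simp)]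
      simp
    obtain ⟨⟨a, n, rfl⟩, ha⟩ := (IsLocalization.eq_iff_exists S _).mp h2
    have h3 : f ^ n * (c i * σ i) ∈ x := ha ▸ x.mul_mem_left _ (hc (p i))
    have hnot : ∀ y : S, (y : R) ∉ x := by
      rintro ⟨y, m, rfl⟩ hy
      exact hf (‹x.IsMaximal›.isPrime.mem_of_pow_mem m hy)
    rcases ‹x.IsMaximal›.isPrime.mem_or_mem h3 with h | h
    · exact absurd (‹x.IsMaximal›.isPrime.mem_of_pow_mem n h) hf
    · exact (‹x.IsMaximal›.isPrime.mem_or_mem h).resolve_right (hnot _)
  · intro hs
    obtain ⟨φ, hφ⟩ := hs.exists_det_notMem
    let A : Matrix (Fin r) (Fin r) R := Matrix.of fun i j => φ j (s i)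
    let ψ : M →ₗ[R] (Fin r → R) := LinearMap.pi fun k => ∑ j, A.adjugate j k • φ j
    have hψ : ∀ i, ψ (s i) = A.det • Pi.single i 1 := by
      intro i
      ext k
      have := congrFun (congrFun (Matrix.mul_adjugate A) i) k
      rw [Matrix.mul_apply, Matrix.smul_apply, Matrix.one_apply] at this
      simp only [ψ, LinearMap.pi_apply, LinearMap.sum_apply, LinearMap.smul_apply, smul_eq_mul,
        Pi.smul_apply, Pi.single_apply, eq_comm (a := k) (b := i)]
      rw [← smul_eq_mul (A.det), ← this]
      exact Finset.sum_congr rfl fun j _ => mul_comm _ _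
    let S := Submonoid.powers A.det
    let d' : Localization.Away A.det := Localization.mk 1 ⟨A.det, 1, pow_one _⟩
    let G : LocalizedModule S M →ₗ[Localization.Away A.det] (Fin r → Localization.Away A.det) :=
      LinearMap.pi fun k => d' • (IsLocalizedModule.mapExtendScalars S (LocalizedModule.mkLinearMap S M)
        (Algebra.linearMap R (Localization.Away A.det)) (Localization.Away A.det)
        ((LinearMap.proj k).comp ψ))
    refine ⟨A.det, hφ, G, LinearMap.pi_ext' fun i => LinearMap.ext_ring ?_⟩
    simp only [LinearMap.comp_apply, LinearMap.coe_single, Fintype.linearCombination_apply_single,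
      one_smul, LinearMap.id_apply]
    ext k
    simp only [G, LinearMap.pi_apply, LinearMap.smul_apply]
    rw [IsLocalizedModule.mapExtendScalars_apply_apply, IsLocalizedModule.map_apply]
    simp only [LinearMap.comp_apply, LinearMap.proj_apply, hψ, Algebra.linearMap_apply,
      Pi.smul_apply, smul_eq_mul, map_mul]
    rw [← mul_assoc, ← Localization.mk_one_eq_algebraMap A.det, Localization.mk_mul]
    simp only [one_mul, mul_one]
    rw [Localization.mk_self (⟨A.det, 1, pow_one _⟩ : S)]
    simp [Pi.single_apply, apply_ite (algebraMap R (Localization.Away A.det))]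

end Groth.Agent.S7147
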