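import Groth.Statements.S7148
import Groth.Agent.ExtAR.Exact
import Mathlib.Algebra.Homology.DerivedCategory.FullyFaithful

set_option autoImplicit false
set_option linter.style.haveILetI false
universe u
open CategoryTheory
attribute [local instance] HasDerivedCategory.standard
open CAlg

namespace Groth.Agent.S7148

open Pretriangulated DerivedCategory

variable {A : Type u} [CommRing A]

/-- `Hom(F, X[q]) = 0` for `F` projective and `q > 0`. -/
lemma hom_free_eq_zero (F : Type u) [AddCommGroup F] [Module A F] [Module.Projective A F]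
    (X : Type u) [AddCommGroup X] [Module A X] (q : ℤ) (hq : 0 < q)
    (e : Dual.inD A F ⟶ (Dual.inD A X)⟦q⟧) : e = 0 := by
  let E : DRing.Cx A := (CochainComplex.singleFunctor (ModuleCat.{u} A) 0).obj (ModuleCat.of A F)
  haveI : CategoryTheory.Projective (ModuleCat.of A F) := inferInstance
  haveI : ∀ i : ℤ, CategoryTheory.Projective (E.X i) := fun i => by
    by_cases h : i = 0
    · subst h
      exact Projective.of_iso
        (HomologicalComplex.singleObjXSelf (ComplexShape.up ℤ) 0 (ModuleCat.of A F)).symm inferInstance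
    · exact Projective.of_iso
        ((HomologicalComplex.isZero_single_obj_X (ComplexShape.up ℤ) 0 (ModuleCat.of A F) i h).iso
          (Limits.isZero_zero _)).symm inferInstance
  haveI : E.IsKProjective := CochainComplex.isKProjective_of_projective E 0
  let α := (singleFunctorIsoCompQ (ModuleCat.{u} A) 0).app (ModuleCat.of A F)
  obtain ⟨χ, hχ⟩ := Groth.Agent.DRing.DBasic.exists_Q_map_eq (P := E)
    (L := (CochainComplex.singleFunctor (ModuleCat.{u} A) (-q)).obj (ModuleCat.of A X))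
    (α.inv ≫ e ≫ (ExtAR.shiftSingleIso q (ModuleCat.of A X)).hom)
  have h0 : χ = 0 := by
    refine HomologicalComplex.to_single_hom_ext ?_
    exact (HomologicalComplex.isZero_single_obj_X (ComplexShape.up ℤ) 0 (ModuleCat.of A F) (-q)
      (by omega)).eq_of_src _ _
  rw [h0, Functor.map_zero] at hχ
  rw [← cancel_epi α.inv, ← cancel_mono (ExtAR.shiftSingleIso q (ModuleCat.of A X)).hom]
  rw [Category.assoc, ← hχ, Limits.comp_zero, Limits.zero_comp]

theorem aux [IsNoetherianRing A] (I : Ideal A) (p : ℕ) :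
    ∀ (M : Type u) [AddCommGroup M] [Module A M], Module.Finite A M → ∃ c : ℕ,
      ∀ (N : Type u) [AddCommGroup N] [Module A N] (n : ℕ), c ≤ n →
      ∀ e : Dual.inD A M ⟶ (Dual.inD A N)⟦(p : ℤ)⟧,
        ∃ e' : Dual.inD A ↥(I ^ n • ⊤ : Submodule A M) ⟶
            (Dual.inD A ↥(I ^ (n - c) • ⊤ : Submodule A N))⟦(p : ℤ)⟧,
          e' ≫ ((singleFunctor (ModuleCat.{u} A) 0).map
                  (ModuleCat.ofHom (I ^ (n - c) • ⊤ : Submodule A N).subtype))⟦(p : ℤ)⟧' =
            (singleFunctor (ModuleCat.{u} A) 0).map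
                (ModuleCat.ofHom (I ^ n • ⊤ : Submodule A M).subtype) ≫ e := by
  induction p with
  | zero =>
    intro M _ _ _
    refine ⟨0, fun N _ _ n _ e => ?_⟩
    let z := shiftFunctorZero' (Dual.D A) ((0 : ℕ) : ℤ) Nat.cast_zero
    obtain ⟨φ, hφ⟩ : ∃ φ : ModuleCat.of A M ⟶ ModuleCat.of A N,
        (singleFunctor (ModuleCat.{u} A) 0).map φ = e ≫ z.hom.app _ :=
      ⟨_, (singleFunctor (ModuleCat.{u} A) 0).map_preimage _⟩
    have hmem : ∀ x : ↥(I ^ n • ⊤ : Submodule A M),
        (φ.hom.comp (I ^ n • ⊤ : Submodule A M).subtype) x ∈ (I ^ (n - 0) • ⊤ : Submodule A N) := by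
      intro x
      have h := Submodule.mem_map_of_mem (f := φ.hom) x.2
      rw [Submodule.map_smul''] at h
      exact Submodule.smul_mono le_rfl le_top h
    refine ⟨(singleFunctor (ModuleCat.{u} A) 0).map
      (ModuleCat.ofHom (LinearMap.codRestrict _ _ hmem)) ≫ z.inv.app _, ?_⟩
    have hz := z.inv.naturality ((singleFunctor (ModuleCat.{u} A) 0).map
      (ModuleCat.ofHom (I ^ (n - 0) • ⊤ : Submodule A N).subtype))
    refine (Category.assoc _ _ _).trans ?_
    refine (congrArg (_ ≫ ·) hz.symm).trans ?_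
    refine (Category.assoc _ _ _).symm.trans ?_
    rw [Functor.id_map, ← Functor.map_comp]
    have hfac : ModuleCat.ofHom (LinearMap.codRestrict _ _ hmem) ≫
        ModuleCat.ofHom (I ^ (n - 0) • ⊤ : Submodule A N).subtype =
          ModuleCat.ofHom (I ^ n • ⊤ : Submodule A M).subtype ≫ φ := rfl
    rw [hfac, Functor.map_comp, hφ, Category.assoc, Category.assoc, Iso.hom_inv_id_app]
    exact congrArg (_ ≫ ·) (Category.comp_id _)
  | succ p ih =>
    intro M _ _ _
    obtain ⟨r, π, hπ⟩ := Module.Finite.exists_fin' A M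
    let K := LinearMap.ker π
    obtain ⟨c₀, hc₀⟩ := ih K inferInstance
    obtain ⟨c₁, hc₁⟩ := Ideal.exists_pow_inf_eq_pow_smul I K
    refine ⟨c₁ + c₀, fun N _ _ n hn e => ?_⟩
    rw [← Nat.sub_sub]
    -- the short exact sequences `0 → K → F → M → 0` and its restriction
    let S : ShortComplex (ModuleCat.{u} A) := ShortComplex.mk (ModuleCat.ofHom K.subtype)
      (ModuleCat.ofHom π) (ModuleCat.hom_ext (LinearMap.ext fun x => x.2))
    have hS : S.ShortExact :=
      { exact := S.moduleCat_exact_iff.2 fun x hx => ⟨⟨x, hx⟩, rfl⟩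
        mono_f := (ModuleCat.mono_iff_injective _).2 Subtype.val_injective
        epi_g := (ModuleCat.epi_iff_surjective _).2 hπ }
    let Fn : Submodule A (Fin r → A) := I ^ n • ⊤
    let Mn : Submodule A M := I ^ n • ⊤
    have hFn : ∀ x : Fn, π x ∈ Mn := fun x => by
      have h := Submodule.mem_map_of_mem (f := π) x.2
      rw [Submodule.map_smul''] at h
      exact Submodule.smul_mono le_rfl le_top h
    let Kn : Submodule A K := Fn.comap K.subtype
    let ι : Kn →ₗ[A] Fn := (K.subtype.comp Kn.subtype).codRestrict Fn fun x => x.2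
    let πn : Fn →ₗ[A] Mn := (π.comp Fn.subtype).codRestrict Mn hFn
    let S' : ShortComplex (ModuleCat.{u} A) := ShortComplex.mk
      (ModuleCat.ofHom (X := ↥Kn) (Y := ↥Fn) ι) (ModuleCat.ofHom (X := ↥Fn) (Y := ↥Mn) πn) (ModuleCat.hom_ext (LinearMap.ext fun x => Subtype.ext x.1.2))
    have hS' : S'.ShortExact :=
      { exact := S'.moduleCat_exact_iff.2 fun x hx =>
          ⟨⟨⟨x.1, congrArg Subtype.val hx⟩, x.2⟩, rfl⟩
        mono_f := (ModuleCat.mono_iff_injective _).2 fun x y h =>
          Subtype.ext (Subtype.ext (congrArg Subtype.val h :))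
        epi_g := (ModuleCat.epi_iff_surjective _).2 fun x => by
          have h : (x : M) ∈ Fn.map π := by
            rw [Submodule.map_smul'', Submodule.map_top, LinearMap.range_eq_top.2 hπ]
            exact x.2
          obtain ⟨y, hy, hy'⟩ := h
          exact ⟨⟨y, hy⟩, Subtype.ext hy'⟩ }
    let f : S' ⟶ S :=
      { τ₁ := ModuleCat.ofHom Kn.subtype
        τ₂ := ModuleCat.ofHom Fn.subtype
        τ₃ := ModuleCat.ofHom Mn.subtype
        comm₁₂ := rfl
        comm₂₃ := rfl }
    -- Artin–Rees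
    have hj : ∀ x : Kn, Kn.subtype x ∈ (I ^ (n - c₁) • ⊤ : Submodule A K) := by
      intro x
      have h1 : ((x : K) : Fin r → A) ∈ (I ^ (n - c₁) • K : Submodule A (Fin r → A)) :=
        Submodule.smul_mono le_rfl inf_le_right ((hc₁ n (by omega)).le ⟨x.2, x.1.2⟩)
      have h2 : (I ^ (n - c₁) • ⊤ : Submodule A K).map K.subtype = I ^ (n - c₁) • K := by
        rw [Submodule.map_smul'', Submodule.map_subtype_top]
      rw [← h2] at h1
      obtain ⟨z, hz, hz'⟩ := h1
      rwa [show z = Kn.subtype x from Subtype.ext hz'] at hz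
    let j : Kn →ₗ[A] ↥(I ^ (n - c₁) • ⊤ : Submodule A K) := Kn.subtype.codRestrict _ hj
    -- factor `e` through `δ`
    let a := shiftFunctorAdd' (Dual.D A) (p : ℤ) 1 ((p + 1 : ℕ) : ℤ) (by push_cast; rfl)
    obtain ⟨g, hg⟩ := Triangle.yoneda_exact₃ _ hS.singleTriangle_distinguished e
      (hom_free_eq_zero (Fin r → A) N _ (by omega) _)
    obtain ⟨g₀, hg₀⟩ : ∃ g₀ : Dual.inD A K ⟶ (Dual.inD A N)⟦(p : ℤ)⟧,
        g₀⟦(1 : ℤ)⟧' = g ≫ a.hom.app _ :=
      ⟨_, (shiftFunctor (Dual.D A) (1 : ℤ)).map_preimage _⟩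
    obtain ⟨e₀, he₀⟩ := hc₀ N (n - c₁) (by omega) g₀
    let J := (singleFunctor (ModuleCat.{u} A) 0).map (ModuleCat.ofHom (X := ↥Kn) (Y := ↥(I ^ (n - c₁) • ⊤ : Submodule A K)) j)
    refine ⟨hS'.singleδ ≫ (J ≫ e₀)⟦(1 : ℤ)⟧' ≫ a.inv.app _, ?_⟩
    have hδ := (ShortComplex.ShortExact.singleTriangle.map hS' hS f).comm₃
    have hτ : (singleFunctor (ModuleCat.{u} A) 0).map f.τ₁ = J ≫
        (singleFunctor (ModuleCat.{u} A) 0).map
          (ModuleCat.ofHom (I ^ (n - c₁) • ⊤ : Submodule A K).subtype) := by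
      rw [← Functor.map_comp]; rfl
    refine ((Category.assoc _ _ _).trans (congrArg (_ ≫ ·) ((Category.assoc _ _ _).trans
      (congrArg (_ ≫ ·) (a.inv.naturality _).symm)))).trans ?_
    rw [Functor.comp_map, ← Category.assoc (((shiftFunctor _ (1 : ℤ))).map _), ← Functor.map_comp,
      Category.assoc, he₀, ← Category.assoc J, ← hτ, Functor.map_comp, hg₀, hg]
    have h1 : (g ≫ a.hom.app (Dual.inD A N)) ≫ a.inv.app (Dual.inD A N) = g := by
      rw [Category.assoc, Iso.hom_inv_id_app]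
      exact Category.comp_id _
    exact (congrArg (hS'.singleδ ≫ ·) ((Category.assoc _ _ _).trans (congrArg (_ ≫ ·) h1))).trans
      ((Category.assoc _ _ _).symm.trans ((congrArg (· ≫ g) hδ).trans (Category.assoc _ _ _)))


/-- Let A be a Noetherian ring, I an ideal, M a finite A-module and N any A-module. For every p > 0
there is c ≥ 0 such that for all n ≥ c the map Ext^p_A(M, N) → Ext^p_A(IⁿM, N) factors through
Ext^p_A(IⁿM, I^(n-c)N) → Ext^p_A(IⁿM, N). Here Ext^p(X, Y) is the group of morphisms X → Y[p] in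
D(A). -/
theorem result (A : Type u) [CommRing A] [IsNoetherianRing A] (I : Ideal A)
    (M N : Type u) [AddCommGroup M] [Module A M] [Module.Finite A M] [AddCommGroup N] [Module A N]
    (p : ℕ) (hp : 0 < p) :
    ∃ c : ℕ, ∀ n : ℕ, c ≤ n →
      ∀ e : Dual.inD A M ⟶ (Dual.inD A N)⟦(p : ℤ)⟧,
        ∃ e' : Dual.inD A ↥(I ^ n • ⊤ : Submodule A M) ⟶ (Dual.inD A ↥(I ^ (n - c) • ⊤ : Submodule A N))⟦(p : ℤ)⟧,
          e' ≫ ((DerivedCategory.singleFunctor (ModuleCat.{u} A) 0).map
                  (ModuleCat.ofHom (I ^ (n - c) • ⊤ : Submodule A N).subtype))⟦(p : ℤ)⟧' =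
            (DerivedCategory.singleFunctor (ModuleCat.{u} A) 0).map
                (ModuleCat.ofHom (I ^ n • ⊤ : Submodule A M).subtype) ≫ e := by
  obtain ⟨c, hc⟩ := aux I p M inferInstance
  exact ⟨c, fun n hn e => hc N n hn e⟩

end Groth.Agent.S7148
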