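import Groth.Statements.S7150
import Mathlib
import Groth.Agent.FieldSep.MacLane

set_option autoImplicit false
universe u
open EtAlg

namespace Groth.Agent.S7150

/-- Suppose p is a prime with p·1 = 0 in the local ring A and some power of the maximal ideal of A is
zero. Then the residue map A → κ_A has a section σ : κ_A → A that is a ring map. If moreover A → A'
is a local homomorphism to another local ring whose maximal ideal has a vanishing power, and the
residue field extension κ_{A'}/κ_A is separable (possibly transcendental, i.e. geometrically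
reduced), then for any such σ there is a section σ' : κ_{A'} → A' compatible with σ. -/
theorem result (p : ℕ) (hp : p.Prime) (A : Type u) [CommRing A]
    [IsLocalRing A] [CharP A p] (hnil : ∃ n : ℕ, IsLocalRing.maximalIdeal A ^ n = ⊥) :
    (∃ σ : IsLocalRing.ResidueField A →+* A, (IsLocalRing.residue A).comp σ = RingHom.id _) ∧
    ∀ (A' : Type u) [CommRing A'] [IsLocalRing A'] [Algebra A A'] [IsLocalHom (algebraMap A A')],
      (∃ n : ℕ, IsLocalRing.maximalIdeal A' ^ n = ⊥) →
      Algebra.IsGeometricallyReduced (IsLocalRing.ResidueField A) (IsLocalRing.ResidueField A') →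
      ∀ σ : IsLocalRing.ResidueField A →+* A, (IsLocalRing.residue A).comp σ = RingHom.id _ →
        ∃ σ' : IsLocalRing.ResidueField A' →+* A', (IsLocalRing.residue A').comp σ' = RingHom.id _ ∧
          σ'.comp (IsLocalRing.ResidueField.map (algebraMap A A')) = (algebraMap A A').comp σ := by
  classical
  haveI : Fact p.Prime := ⟨hp⟩
  refine ⟨?_, ?_⟩
  · obtain ⟨n, hn⟩ := hnil
    let F := ULift.{u} (ZMod p)
    letI : Algebra F A := ((ZMod.castHom dvd_rfl A).comp (ULift.ringEquiv (R := ZMod p)).toRingHom).toAlgebra
    haveI : CharP F p := charP_of_injective_ringHom (f := (ULift.ringEquiv (R := ZMod p)).symm.toRingHom) (ULift.ringEquiv (R := ZMod p)).symm.injective p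
    haveI : CharP (IsLocalRing.ResidueField A) p := by
      refine (CharP.charP_iff_prime_eq_zero hp).mpr ?_
      rw [← map_natCast (IsLocalRing.residue A), CharP.cast_eq_zero, map_zero]
    haveI : Algebra.IsGeometricallyReduced F (IsLocalRing.ResidueField A) := by
      refine FieldSep.MacLane.isGeometricallyReduced_of_powIndep (k := F) p ?_
      intro s hs
      rw [linearIndepOn_finset_iff] at hs ⊢
      intro c hc
      refine hs c ?_
      have h1 : (∑ i ∈ s, c i • i) ^ p = 0 := by
        rw [sum_pow_char]
        exact (Finset.sum_congr rfl fun i _ => by rw [smul_pow, show c i ^ p = c i from ULift.ext _ _ (ZMod.pow_card (c i).down)]).trans hc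
      exact eq_zero_of_pow_eq_zero h1
    haveI := FieldSep.MacLane.formallySmooth_of_isGeometricallyReduced (k := F) (K := IsLocalRing.ResidueField A)
    let e : IsLocalRing.ResidueField A →ₐ[F] A ⧸ IsLocalRing.maximalIdeal A :=
      AlgHom.mk (RingHom.id _) fun x => rfl
    let l := Algebra.FormallySmooth.lift (IsLocalRing.maximalIdeal A) ⟨n, hn⟩ e
    exact ⟨l.toRingHom, RingHom.ext fun x => Algebra.FormallySmooth.mk_lift _ ⟨n, hn⟩ e x⟩
  · intro A' _ _ _ _ hn' hgr σ hσ
    obtain ⟨n, hn⟩ := hn'
    haveI := hgr
    haveI := FieldSep.MacLane.formallySmooth_of_isGeometricallyReduced (k := IsLocalRing.ResidueField A) (K := IsLocalRing.ResidueField A')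
    letI : Algebra (IsLocalRing.ResidueField A) A' := ((algebraMap A A').comp σ).toAlgebra
    have hcomm : ∀ x, algebraMap (IsLocalRing.ResidueField A) (IsLocalRing.ResidueField A') x =
        Ideal.Quotient.mk (IsLocalRing.maximalIdeal A') (algebraMap A A' (σ x)) := fun x => by
      conv_lhs => rw [← RingHom.id_apply x, ← hσ]
      rfl
    let e : IsLocalRing.ResidueField A' →ₐ[IsLocalRing.ResidueField A] A' ⧸ IsLocalRing.maximalIdeal A' :=
      AlgHom.mk (RingHom.id _) hcomm
    let l := Algebra.FormallySmooth.lift (IsLocalRing.maximalIdeal A') ⟨n, hn⟩ e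
    refine ⟨l.toRingHom, RingHom.ext fun x => Algebra.FormallySmooth.mk_lift _ ⟨n, hn⟩ e x, RingHom.ext fun x => ?_⟩
    exact l.commutes x

end Groth.Agent.S7150
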