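import Groth.Statements.S7151
import Groth.Agent.EtRamLib.Perturb
import Groth.Agent.EtRamLib.InsepPerturb
import Groth.Agent.S7158

set_option autoImplicit false
universe u
open EtAlg

namespace Groth.Agent.S7151

open IsLocalRing TensorProduct Groth.Agent.EtRamLib in
theorem local_step (p : ℕ) (hp : p.Prime) (A B K L : Type u)
    [CommRing A] [IsDomain A] [IsDiscreteValuationRing A] [CommRing B] [IsDomain B] [IsDiscreteValuationRing B]
    [Algebra A B] [IsLocalHom (algebraMap A B)] (hinj : Function.Injective (algebraMap A B))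
    [Field K] [Field L] [Algebra A K] [IsFractionRing A K] [Algebra B L] [IsFractionRing B L]
    [Algebra K L] [Algebra A L] [IsScalarTower A K L] [IsScalarTower A B L]
    [Algebra.IsGeometricallyReduced K L] (hN2 : CAlg.IsN2 B)
    (K₁ K₂ : Type u) [Field K₁] [Field K₂] [Algebra K K₁] [Algebra K K₂] [Algebra K₁ K₂] [IsScalarTower K K₁ K₂]
    [FiniteDimensional K K₁] [FiniteDimensional K K₂] [IsPurelyInseparable K₁ K₂] (hchar : CharP K₁ p) (hsol : EtRam.IsSolution B K L K₂)
    [IsReduced (L ⊗[K] K₂)]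
    {π : A} (hπ : Irreducible π)
    {ι₁ : Type u} [Fintype ι₁] (β : Module.Basis ι₁ K K₁)
    (hβ : letI : Algebra A K₁ := ((algebraMap K K₁).comp (algebraMap A K)).toAlgebra; ∀ j, IsIntegral A (β j))
    (a : K₁) (ha : letI : Algebra A K₁ := ((algebraMap K K₁).comp (algebraMap A K)).toAlgebra; IsIntegral A a)
    (x : K₂) (hx : x ^ p = algebraMap K₁ K₂ a) (bx : Module.Basis (Fin p) K₁ K₂) (hbx : ∀ i, bx i = x ^ (i : ℕ))
    (c : ℕ) (hc : ∀ v : L ⊗[K] K₂, IsIntegral B v →
      ∃ d : ι₁ × Fin p → B, algebraMap B (L ⊗[K] K₂) (algebraMap A B π) ^ c * v =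
        ∑ j, algebraMap B (L ⊗[K] K₂) (d j) * ((1 : L) ⊗ₜ[K] (β.smulTower bx) j))
    (K₃ : Type u) [Field K₃] [Algebra K K₃] [Algebra K₁ K₃] [IsScalarTower K K₁ K₃] (y : K₃)
    (hy : y ^ p = algebraMap K₁ K₃ a + algebraMap K₁ K₃ (algebraMap K K₁ (algebraMap A K π)) ^ (2 * c + 2) * y)
    (hy3 : ∀ z : K₃, ∃ co : Fin p → K₁, z = ∑ i, algebraMap K₁ K₃ (co i) * y ^ (i : ℕ))
    (M₃ : Type u) [Field M₃] [Algebra K M₃] [Algebra L M₃] [Algebra K₃ M₃] [IsScalarTower K L M₃] [IsScalarTower K K₃ M₃]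
    (hgen : Algebra.adjoin L (Set.range (algebraMap K₃ M₃)) = ⊤) (W₃ : ValuationSubring M₃)
    (hW₃ : EtRam.Dominates B ((algebraMap L M₃).comp (algebraMap B L)) W₃) :
    letI : Algebra (W₃.comap (algebraMap K₃ M₃)) W₃ := (EtRam.inclOfComap W₃ (algebraMap K₃ M₃)).toAlgebra
    EtRam.IsWeaklyUnramified (W₃.comap (algebraMap K₃ M₃)) W₃ ∧
      @Algebra.IsGeometricallyReduced (ResidueField (W₃.comap (algebraMap K₃ M₃))) (ResidueField W₃) _ _
        (IsLocalRing.ResidueField.map (EtRam.inclOfComap W₃ (algebraMap K₃ M₃))).toAlgebra := by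
  classical
  set g : K₁ →+* M₃ := (algebraMap K₃ M₃).comp (algebraMap K₁ K₃) with hg
  have hgalg : ∀ z : K₁, IsAlgebraic L (g z) := by
    intro z
    letI : Algebra K₁ M₃ := g.toAlgebra
    haveI : IsScalarTower K K₁ M₃ := IsScalarTower.of_algebraMap_eq fun k ↦ by
      change _ = algebraMap K₃ M₃ (algebraMap K₁ K₃ (algebraMap K K₁ k))
      rw [← IsScalarTower.algebraMap_apply K K₁ K₃, ← IsScalarTower.algebraMap_apply K K₃ M₃]
    exact (((IsIntegral.of_finite K z).map (IsScalarTower.toAlgHom K K₁ M₃)).tower_top).isAlgebraic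
  -- the compositum of `L` and `K₁`
  let M : IntermediateField L M₃ := IntermediateField.adjoin L (Set.range g)
  letI : Algebra K₁ M := (g.codRestrict M fun z ↦ IntermediateField.subset_adjoin L _ ⟨z, rfl⟩).toAlgebra
  have hKM : ∀ k : K, (algebraMap K M k : M₃) = algebraMap K M₃ k := fun k ↦ rfl
  haveI : IsScalarTower K K₁ M := IsScalarTower.of_algebraMap_eq fun k ↦ Subtype.ext (by
    rw [hKM]
    change _ = algebraMap K₃ M₃ (algebraMap K₁ K₃ (algebraMap K K₁ k))
    rw [← IsScalarTower.algebraMap_apply K K₁ K₃, ← IsScalarTower.algebraMap_apply K K₃ M₃])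
  have hgenM : Algebra.adjoin L (Set.range (algebraMap K₁ M)) = ⊤ := by
    rw [eq_top_iff]
    intro m hm0
    clear hm0
    have hm : (m : M₃) ∈ Algebra.adjoin L (Set.range g) := by
      rw [← IntermediateField.adjoin_toSubalgebra_of_isAlgebraic (by rintro _ ⟨z, rfl⟩; exact hgalg z)]
      exact m.2
    have hle : Algebra.adjoin L (Set.range g) ≤ (Algebra.adjoin L (Set.range (algebraMap K₁ M))).map M.val := by
      refine Algebra.adjoin_le ?_
      rintro _ ⟨z, rfl⟩
      exact ⟨algebraMap K₁ M z, Algebra.subset_adjoin ⟨z, rfl⟩, rfl⟩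
    obtain ⟨m', hm', hmm⟩ := hle hm
    rw [← show m' = m from Subtype.ext hmm]
    exact hm'
  haveI : FiniteDimensional L M := Module.Finite.of_surjective (Algebra.TensorProduct.lift (Algebra.ofId L M)
    (IsScalarTower.toAlgHom K K₁ M) fun _ _ ↦ Commute.all _ _ : L ⊗[K] K₁ →ₐ[L] M).toLinearMap
    (Solution.surjective_lift K L K₁ M hgenM)
  let W := W₃.comap (algebraMap M M₃)
  have hLM : ∀ l : L, algebraMap M M₃ (algebraMap L M l) = algebraMap L M₃ l := fun l ↦ rfl
  have hW : EtRam.Dominates B ((algebraMap L M).comp (algebraMap B L)) W := (ValTower.dominates_tower B L M M₃ W₃ hW₃).1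
  -- the field `M₂ = M ⊗ K₂`
  have hψs : Function.Surjective (Algebra.TensorProduct.lift (Algebra.ofId L (M ⊗[K₁] K₂))
      ((Algebra.TensorProduct.includeRight : K₂ →ₐ[K₁] M ⊗[K₁] K₂).restrictScalars K) fun _ _ ↦ Commute.all _ _ :
        L ⊗[K] K₂ →ₐ[L] M ⊗[K₁] K₂) := by
    rw [← AlgHom.range_eq_top, eq_top_iff]
    intro z hz0
    clear hz0
    have hM : ∀ m : M, algebraMap M (M ⊗[K₁] K₂) m ∈ AlgHom.range (Algebra.TensorProduct.lift (Algebra.ofId L (M ⊗[K₁] K₂))
        ((Algebra.TensorProduct.includeRight : K₂ →ₐ[K₁] M ⊗[K₁] K₂).restrictScalars K) fun _ _ ↦ Commute.all _ _) := by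
      intro m
      have hm : m ∈ Algebra.adjoin L (Set.range (algebraMap K₁ M)) := hgenM ▸ Algebra.mem_top
      induction hm using Algebra.adjoin_induction with
      | mem z hz =>
        obtain ⟨z, rfl⟩ := hz
        refine ⟨1 ⊗ₜ algebraMap K₁ K₂ z, ?_⟩
        simp only [AlgHom.toRingHom_eq_coe, RingHom.coe_coe, Algebra.TensorProduct.lift_tmul, map_one, one_mul]
        exact ((Algebra.TensorProduct.includeRight : K₂ →ₐ[K₁] M ⊗[K₁] K₂).commutes z).trans
          ((Algebra.TensorProduct.includeLeft : M →ₐ[K₁] M ⊗[K₁] K₂).commutes z).symm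
      | algebraMap r => exact Subalgebra.algebraMap_mem _ r
      | add u v _ _ hu hv => rw [map_add]; exact add_mem hu hv
      | mul u v _ _ hu hv => rw [map_mul]; exact mul_mem hu hv
    induction z using TensorProduct.induction_on with
    | zero => exact zero_mem _
    | add u v hu hv => exact add_mem hu hv
    | tmul m w =>
      rw [show m ⊗ₜ[K₁] w = algebraMap M (M ⊗[K₁] K₂) m * ((1 : M) ⊗ₜ[K₁] w) by
        rw [Algebra.TensorProduct.algebraMap_apply, Algebra.TensorProduct.tmul_mul_tmul, mul_one, one_mul]; rfl]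
      exact mul_mem (hM m) ⟨1 ⊗ₜ w, by simp⟩
  haveI : IsNoetherianRing (L ⊗[K] K₂) := IsNoetherianRing.of_finite L (L ⊗[K] K₂)
  haveI : Algebra.IsIntegral L (L ⊗[K] K₂) := Algebra.IsIntegral.of_finite L (L ⊗[K] K₂)
  have hVNR : ∀ r : L ⊗[K] K₂, ∃ b, r = r * r * b := fun r ↦ CAlgA.VNR.exists_sq_mul (k := L) r
  set ψ : L ⊗[K] K₂ →ₐ[L] M ⊗[K₁] K₂ := Algebra.TensorProduct.lift (Algebra.ofId L (M ⊗[K₁] K₂))
    ((Algebra.TensorProduct.includeRight : K₂ →ₐ[K₁] M ⊗[K₁] K₂).restrictScalars K) fun _ _ ↦ Commute.all _ _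
  haveI : IsReduced (M ⊗[K₁] K₂) := InsepPerturb.isReduced_of_surjective hVNR ψ.toRingHom hψs
  let M₂ := M ⊗[K₁] K₂
  letI : Field M₂ := (InsepPerturb.isField_tensor (k := K₁) (E := M) (F := K₂)).toField
  haveI : FiniteDimensional L M₂ := Module.Finite.of_surjective ψ.toLinearMap hψs
  letI : Algebra K₂ M₂ := (Algebra.TensorProduct.includeRight : K₂ →ₐ[K₁] M₂).toRingHom.toAlgebra
  have hK₁₂ : ∀ z : K₁, algebraMap M M₂ (algebraMap K₁ M z) = algebraMap K₂ M₂ (algebraMap K₁ K₂ z) := fun z ↦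
    ((Algebra.TensorProduct.includeLeft : M →ₐ[K₁] M₂).commutes z).trans
      ((Algebra.TensorProduct.includeRight : K₂ →ₐ[K₁] M₂).commutes z).symm
  haveI : IsScalarTower L M M₂ := IsScalarTower.of_algebraMap_eq fun _ ↦ rfl
  haveI : IsScalarTower K M M₂ := IsScalarTower.of_algebraMap_eq fun _ ↦ rfl
  haveI : IsScalarTower K L M₂ := IsScalarTower.of_algebraMap_eq fun k ↦ by
    rw [IsScalarTower.algebraMap_apply K M M₂, IsScalarTower.algebraMap_apply L M M₂, ← IsScalarTower.algebraMap_apply K L M]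
  haveI : IsScalarTower K K₂ M₂ := IsScalarTower.of_algebraMap_eq fun k ↦ by
    rw [IsScalarTower.algebraMap_apply K M M₂, IsScalarTower.algebraMap_apply K K₁ K₂, ← hK₁₂, ← IsScalarTower.algebraMap_apply K K₁ M]
  have hgen₂ : Algebra.adjoin L (Set.range (algebraMap K₂ M₂)) = ⊤ := by
    rw [eq_top_iff]
    intro z hz0
    clear hz0
    obtain ⟨r, rfl⟩ := hψs z
    induction r using TensorProduct.induction_on with
    | zero => rw [map_zero]; exact zero_mem _
    | add u v hu hv => rw [map_add]; exact add_mem hu hv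
    | tmul l w =>
      rw [Algebra.TensorProduct.lift_tmul]
      exact mul_mem (Subalgebra.algebraMap_mem _ l) (Algebra.subset_adjoin ⟨w, rfl⟩)
  obtain ⟨W₂, hW₂, hcW₂⟩ := ValTower.exists_extension (M := M₂) B _ W hW
  have hW₂' : EtRam.Dominates B ((algebraMap L M₂).comp (algebraMap B L)) W₂ := hW₂
  obtain ⟨hwu, hgr⟩ := hsol M₂ hgen₂ W₂ hW₂'
  haveI : IsDiscreteValuationRing W := Solution.isDVR B L M W hW
  haveI : IsDiscreteValuationRing W₂ := Solution.isDVR B L M₂ W₂ hW₂'
  -- the elements of the perturbation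
  letI : Algebra A K₁ := ((algebraMap K K₁).comp (algebraMap A K)).toAlgebra
  letI : Algebra B M := ((algebraMap L M).comp (algebraMap B L)).toAlgebra
  haveI : IsScalarTower B L M := IsScalarTower.of_algebraMap_eq fun _ ↦ rfl
  have hAM : ∀ r : A, algebraMap B M (algebraMap A B r) = algebraMap K₁ M (algebraMap A K₁ r) := fun r ↦ by
    change algebraMap L M (algebraMap B L (algebraMap A B r)) = algebraMap K₁ M (algebraMap K K₁ (algebraMap A K r))
    rw [← IsScalarTower.algebraMap_apply A B L, IsScalarTower.algebraMap_apply A K L,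
      ← IsScalarTower.algebraMap_apply K L M, ← IsScalarTower.algebraMap_apply K K₁ M]
  have hintW : ∀ z : K₁, IsIntegral A z → algebraMap K₁ M z ∈ W := by
    intro z hz
    letI : Algebra A M := ((algebraMap B M).comp (algebraMap A B)).toAlgebra
    haveI : IsScalarTower A K₁ M := IsScalarTower.of_algebraMap_eq hAM
    exact ValTower.mem_of_isIntegral W (A := A) (fun r ↦ hW.1 _) (hz.map (IsScalarTower.toAlgHom A K₁ M))
  let aW : W := ⟨algebraMap K₁ M a, hintW a ha⟩
  let πW : W := ⟨algebraMap B M (algebraMap A B π), hW.1 _⟩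
  have hπW0 : πW ≠ 0 := fun h ↦ hπ.ne_zero (hinj (IsFractionRing.injective B L ((algebraMap L M).injective
    ((congrArg Subtype.val h).trans (by simp)))))
  have hπWu : ¬ IsUnit πW :=
    (W.valuation_lt_one_iff πW).2 (hW.2 _ (map_nonunit (algebraMap A B) π hπ.not_isUnit))
  set x₂ : M₂ := algebraMap K₂ M₂ x with hx₂
  have hx₂p : x₂ ^ p = algebraMap M M₂ (aW : M) := by rw [hx₂, ← map_pow, hx, ← hK₁₂]
  set y₃ : M₃ := algebraMap K₃ M₃ y with hy₃
  have hgm : ∀ z : K₁, algebraMap M M₃ (algebraMap K₁ M z) = algebraMap K₃ M₃ (algebraMap K₁ K₃ z) := fun _ ↦ rfl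
  have hπM : (πW : M) = algebraMap K₁ M (algebraMap K K₁ (algebraMap A K π)) := hAM π
  have hy₃p : y₃ ^ p = algebraMap M M₃ (aW : M) + algebraMap M M₃ (πW : M) ^ (2 * c + 2) * y₃ := by
    rw [hy₃, ← map_pow, hy, map_add, map_mul, map_pow, hπM, hgm]
    rfl
  have hxW₂ : x₂ ∈ W₂ := by
    rw [← W₂.valuation_le_one_iff, ← pow_le_one_iff hp.ne_zero, ← map_pow, hx₂p, W₂.valuation_le_one_iff,
      ← ValuationSubring.mem_comap, hcW₂]
    exact aW.2
  let bM₂ : Module.Basis (Fin p) M M₂ := Algebra.TensorProduct.basis M bx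
  have hbM₂ : ∀ i, bM₂ i = x₂ ^ (i : ℕ) := fun i ↦ by
    rw [Algebra.TensorProduct.basis_apply, hbx, hx₂, ← map_pow]; rfl
  let φ : M₂ →ₗ[M] M₃ := bM₂.constr M fun i ↦ y₃ ^ (i : ℕ)
  have hφ : ∀ i : ℕ, i < p → φ (x₂ ^ i) = y₃ ^ i := fun i hi ↦ by
    rw [← hbM₂ ⟨i, hi⟩]; exact bM₂.constr_basis M _ _
  have hφK : ∀ w : K₂, φ (algebraMap K₂ M₂ w) = algebraMap K₃ M₃ (bx.constr K₁ (fun i ↦ y ^ (i : ℕ)) w) := by
    intro w
    conv_lhs => rw [← bx.sum_repr w]
    conv_rhs => rw [← bx.sum_repr w]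
    rw [map_sum, map_sum, map_sum, map_sum]
    refine Finset.sum_congr rfl fun i _ ↦ ?_
    have h1 : algebraMap K₂ M₂ (bx.repr w i • bx i) = algebraMap M M₂ (algebraMap K₁ M (bx.repr w i)) * x₂ ^ (i : ℕ) := by
      rw [Algebra.smul_def (R := K₁) (A := K₂), map_mul, hK₁₂, hbx, map_pow]
    rw [h1, ← Algebra.smul_def (R := M) (A := M₂), map_smul φ, hφ i i.2, map_smul (bx.constr K₁ fun i : Fin p ↦ y ^ (i : ℕ)),
      bx.constr_basis, Algebra.smul_def (R := M) (A := M₃), Algebra.smul_def (R := K₁) (A := K₃), map_mul, map_pow, ← hy₃, hgm]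
  have hsurj : Function.Surjective φ := by
    intro m
    have hyint : IsIntegral M y₃ := by
      refine ⟨Polynomial.X ^ p - (Polynomial.C ((πW : M) ^ (2 * c + 2)) * Polynomial.X + Polynomial.C (aW : M)),
        Polynomial.monic_X_pow_sub (lt_of_le_of_lt (Polynomial.degree_linear_le) (by exact_mod_cast hp.one_lt)), ?_⟩
      simp only [← Polynomial.aeval_def, map_sub, map_pow, map_add, map_mul, Polynomial.aeval_X, Polynomial.aeval_C, hy₃p]
      ring
    have htop : IntermediateField.adjoin M {y₃} = ⊤ := by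
      rw [eq_top_iff]
      intro z hz0
      clear hz0
      have hz : z ∈ Algebra.adjoin L (Set.range (algebraMap K₃ M₃)) := hgen ▸ Algebra.mem_top
      induction hz using Algebra.adjoin_induction with
      | mem w hw =>
        obtain ⟨w, rfl⟩ := hw
        obtain ⟨co, rfl⟩ := hy3 w
        rw [map_sum]
        refine sum_mem fun i _ ↦ ?_
        rw [map_mul, map_pow, ← hgm]
        exact mul_mem (IntermediateField.algebraMap_mem _ _) (pow_mem (IntermediateField.mem_adjoin_simple_self M y₃) _)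
      | algebraMap r => rw [← hLM]; exact IntermediateField.algebraMap_mem _ _
      | add u v _ _ hu hv => exact add_mem hu hv
      | mul u v _ _ hu hv => exact mul_mem hu hv
    obtain ⟨co, rfl⟩ := S7158.exists_coeffs (K := M) p y₃
      (Polynomial.X ^ p - (Polynomial.C ((πW : M) ^ (2 * c + 2)) * Polynomial.X + Polynomial.C (aW : M)))
      (Polynomial.monic_X_pow_sub (lt_of_le_of_lt (Polynomial.degree_linear_le) (by exact_mod_cast hp.one_lt)))
      (Polynomial.natDegree_eq_of_degree_eq_some (by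
        rw [Polynomial.degree_sub_eq_left_of_degree_lt, Polynomial.degree_X_pow]
        rw [Polynomial.degree_X_pow]
        exact lt_of_le_of_lt (Polynomial.degree_linear_le) (by exact_mod_cast hp.one_lt)))
      (by
        simp only [map_sub, map_pow, map_add, map_mul, Polynomial.aeval_X, Polynomial.aeval_C, hy₃p]
        ring) htop hp.pos m
    refine ⟨∑ i, co i • x₂ ^ (i : ℕ), ?_⟩
    rw [map_sum]
    exact Finset.sum_congr rfl fun i _ ↦ by rw [map_smul, hφ i i.2, Algebra.smul_def]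
  have hbd : ∀ u ∈ W₂, ∃ d : Fin p → M, (∀ i, d i ∈ W) ∧
      algebraMap M M₂ (πW : M) ^ c * u = ∑ i : Fin p, algebraMap M M₂ (d i) * x₂ ^ (i : ℕ) := by
    intro u hu
    haveI : IsScalarTower B L M₂ := IsScalarTower.of_algebraMap_eq fun r ↦ by
      rw [Algebra.TensorProduct.algebraMap_apply, Algebra.TensorProduct.algebraMap_apply, ← IsScalarTower.algebraMap_apply B L M]
    haveI : IsScalarTower B M M₂ := IsScalarTower.of_algebraMap_eq fun _ ↦ rfl
    -- `u ^ p` is in `W`
    have hexp : ∀ w : M₂, ∃ m : M, algebraMap M M₂ m = w ^ p := by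
      intro w
      obtain ⟨r, rfl⟩ : ∃ r : Fin p → M, w = ∑ i, r i • bM₂ i := ⟨_, (bM₂.sum_repr w).symm⟩
      haveI : Fact p.Prime := ⟨hp⟩
      haveI : CharP K₁ p := hchar
      haveI : CharP M₂ p := charP_of_injective_ringHom ((algebraMap M M₂).comp (algebraMap K₁ M)).injective p
      refine ⟨∑ i, r i ^ p * (aW : M) ^ (i : ℕ), ?_⟩
      rw [map_sum, sum_pow_char]
      refine Finset.sum_congr rfl fun i _ ↦ ?_
      rw [Algebra.smul_def, mul_pow, hbM₂, ← pow_mul, mul_comm (i : ℕ) p, pow_mul, hx₂p, map_mul, map_pow, map_pow]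
    obtain ⟨m, hm⟩ := hexp u
    have hmW : m ∈ W := by
      rw [← hcW₂, ValuationSubring.mem_comap, hm]; exact pow_mem hu p
    haveI : FiniteDimensional L M := inferInstance
    haveI := Props.N2Local.finite_integralClosure hN2 L M
    obtain ⟨s, hsu, hsi, hsm⟩ := InsepLoc.exists_integral_mul B L M inferInstance W hW ⟨m, hmW⟩
    have hint : IsIntegral B (algebraMap M M₂ (s : M) * u) := by
      refine IsIntegral.of_pow hp.pos ?_
      rw [mul_pow, ← hm, ← map_pow, ← map_mul]
      obtain ⟨k, hk⟩ : ∃ k, p = k + 1 := ⟨p - 1, by have := hp.pos; omega⟩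
      rw [hk, pow_succ, mul_assoc]
      exact ((hsi.pow k).mul hsm).map (IsScalarTower.toAlgHom B M M₂)
    obtain ⟨v, hv, hvu⟩ := InsepPerturb.exists_integral_lift (B := B) hVNR (ψ.restrictScalars B) hψs hint
    obtain ⟨d, hd⟩ := hc v hv
    obtain ⟨t, ht⟩ := hsu.exists_right_inv
    refine ⟨fun i ↦ (t : M) * ∑ j, algebraMap B M (d (j, i)) * algebraMap K₁ M (β j),
      fun i ↦ mul_mem t.2 (sum_mem fun j _ ↦ mul_mem (hW.1 _) (hintW _ (hβ j))), ?_⟩
    have h1 := congrArg ψ hd
    change ψ v = _ at hvu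
    rw [map_mul, map_pow, map_sum, hvu] at h1
    have hψB : ∀ b : B, ψ (algebraMap B (L ⊗[K] K₂) b) = algebraMap M M₂ (algebraMap B M b) := fun b ↦ by
      rw [IsScalarTower.algebraMap_apply B L (L ⊗[K] K₂), AlgHom.commutes, ← IsScalarTower.algebraMap_apply B L M₂,
        IsScalarTower.algebraMap_apply B M M₂]
    have ht' : algebraMap M M₂ (t : M) * algebraMap M M₂ (s : M) = 1 := by
      rw [← map_mul, mul_comm]
      exact (congrArg (algebraMap M M₂) (congrArg Subtype.val ht)).trans (map_one _)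
    calc algebraMap M M₂ (πW : M) ^ c * u
        = algebraMap M M₂ (t : M) * (algebraMap M M₂ (πW : M) ^ c * (algebraMap M M₂ (s : M) * u)) := by
          linear_combination -(algebraMap M M₂ (πW : M) ^ c * u) * ht'
      _ = _ := by
        rw [hψB] at h1
        rw [h1, Fintype.sum_prod_type_right, Finset.mul_sum]
        refine Finset.sum_congr rfl fun i _ ↦ ?_
        rw [map_mul, map_sum, Finset.mul_sum, Finset.mul_sum, Finset.sum_mul]
        refine Finset.sum_congr rfl fun j _ ↦ ?_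
        have h2 : ψ ((1 : L) ⊗ₜ[K] (β.smulTower bx) (j, i)) = algebraMap M M₂ (algebraMap K₁ M (β j)) * x₂ ^ (i : ℕ) := by
          rw [Algebra.TensorProduct.lift_tmul, map_one, one_mul, Module.Basis.smulTower_apply, hbx, hK₁₂, hx₂, ← map_pow,
            ← map_mul, Algebra.smul_def]
          rfl
        rw [map_mul, hψB, h2, map_mul]
        ring
  obtain ⟨hinjφ, V₃, hV₃, huniq, hunif, e, he⟩ := Perturb.perturb W W₂ hcW₂ p x₂ y₃ aW πW hπW0 hπWu c (2 * c + 2)
    le_rfl hx₂p hy₃p hxW₂ φ hφ hsurj hp.one_lt hbd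
  obtain rfl : W₃ = V₃ := huniq W₃ (fun m hm ↦ hm) (hW₃.2 _ (map_nonunit (algebraMap A B) π hπ.not_isUnit))
  -- transfer
  let A₂ := W₂.comap (algebraMap K₂ M₂)
  let A₃ := W₃.comap (algebraMap K₃ M₃)
  letI : Algebra A₂ W₂ := (EtRam.inclOfComap W₂ (algebraMap K₂ M₂)).toAlgebra
  letI : Algebra A₃ W₃ := (EtRam.inclOfComap W₃ (algebraMap K₃ M₃)).toAlgebra
  haveI : IsLocalHom (algebraMap A₂ W₂) := inferInstanceAs (IsLocalHom (EtRam.inclOfComap W₂ (algebraMap K₂ M₂)))
  haveI : IsLocalHom (algebraMap A₃ W₃) := inferInstanceAs (IsLocalHom (EtRam.inclOfComap W₃ (algebraMap K₃ M₃)))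
  let θ : K₂ →ₗ[K₁] K₃ := bx.constr K₁ fun i ↦ y ^ (i : ℕ)
  have hθmem : ∀ w : A₂, θ (w : K₂) ∈ A₃ := fun w ↦
    ValuationSubring.mem_comap.2 ((hV₃ _).2 ⟨_, ValuationSubring.mem_comap.1 w.2, hφK _⟩)
  have hθ : ∀ w : A₂, e (residue W₂ (algebraMap A₂ W₂ w)) = algebraMap (ResidueField A₃) (ResidueField W₃) (residue A₃ ⟨θ (w : K₂), hθmem w⟩) := by
    intro w
    have h : φ ((algebraMap A₂ W₂ w : W₂) : M₂) ∈ W₃ := (hV₃ _).2 ⟨_, (algebraMap A₂ W₂ w).2, rfl⟩
    rw [he _ h, ResidueField.algebraMap_residue]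
    congr 1
    exact Subtype.ext (hφK _)
  have hθsurj : ∀ z : A₃, ∃ w : A₂, θ (w : K₂) = z := by
    intro z
    obtain ⟨co, hco⟩ := hy3 (z : K₃)
    obtain ⟨wv, hwv⟩ : ∃ wv : K₂, wv = ∑ i, co i • x ^ (i : ℕ) := ⟨_, rfl⟩
    have hz : θ wv = z := by
      rw [hwv, map_sum, hco]
      exact Finset.sum_congr rfl fun i _ ↦ by rw [map_smul, ← hbx, bx.constr_basis, Algebra.smul_def]
    obtain ⟨u, hu, hu'⟩ := (hV₃ _).1 (ValuationSubring.mem_comap.1 z.2)
    have heq : algebraMap K₂ M₂ wv = u := hinjφ (by rw [hφK, hu']; exact congrArg _ hz)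
    exact ⟨⟨wv, ValuationSubring.mem_comap.2 (heq ▸ hu)⟩, hz⟩
  refine ⟨?_, ?_⟩
  · obtain ⟨π', hπ'⟩ : ∃ π' : A₂, maximalIdeal A₂ = Ideal.span {π'} := by
      haveI : IsDiscreteValuationRing A₂ := Solution.isDVR A K K₂ A₂ (by
        refine (ValTower.dominates_tower A K K₂ M₂ W₂ ⟨fun r ↦ ?_, fun r hr ↦ ?_⟩).1
        · have := hW₂'.1 (algebraMap A B r)
          simp only [RingHom.coe_comp, Function.comp_apply] at this ⊢
          rwa [← IsScalarTower.algebraMap_apply A B L, IsScalarTower.algebraMap_apply A K L,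
            ← IsScalarTower.algebraMap_apply K L M₂] at this
        · have := hW₂'.2 _ (map_nonunit (algebraMap A B) r hr)
          simp only [RingHom.coe_comp, Function.comp_apply] at this ⊢
          rwa [← IsScalarTower.algebraMap_apply A B L, IsScalarTower.algebraMap_apply A K L,
            ← IsScalarTower.algebraMap_apply K L M₂] at this)
      obtain ⟨π', hπ'⟩ := IsDiscreteValuationRing.exists_irreducible A₂
      exact ⟨π', hπ'.maximalIdeal_eq⟩
    have hirr : Irreducible (algebraMap A₂ W₂ π') := by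
      rw [IsDiscreteValuationRing.irreducible_iff_uniformizer, ← hwu, hπ', Ideal.map_span, Set.image_singleton]
    obtain ⟨h, hspan⟩ := hunif _ hirr
    refine le_antisymm (Ideal.map_le_iff_le_comap.2 fun z hz ↦ map_nonunit (algebraMap A₃ W₃) z hz) ?_
    rw [hspan, Ideal.span_singleton_le_iff_mem]
    have hmem : (⟨θ (π' : K₂), hθmem π'⟩ : A₃) ∈ maximalIdeal A₃ := by
      intro hu
      have h0 : algebraMap (ResidueField A₃) (ResidueField W₃) (residue A₃ ⟨θ (π' : K₂), hθmem π'⟩) = 0 := by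
        rw [← hθ, (residue_eq_zero_iff _).2 hirr.not_isUnit, map_zero]
      rw [map_eq_zero] at h0
      exact (residue_eq_zero_iff _).1 h0 hu
    have heqel : algebraMap A₃ W₃ ⟨θ (π' : K₂), hθmem π'⟩ = ⟨φ (algebraMap A₂ W₂ π' : W₂), h⟩ :=
      Subtype.ext (hφK (π' : K₂)).symm
    rw [← heqel]
    exact Ideal.mem_map_of_mem (algebraMap A₃ W₃) hmem
  · suffices hg' : Algebra.IsGeometricallyReduced (ResidueField A₃) (ResidueField W₃) by
      convert hg' using 1
      refine Algebra.algebra_ext _ _ fun z ↦ ?_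
      obtain ⟨z, rfl⟩ := IsLocalRing.residue_surjective z
      rfl
    haveI : Algebra.IsGeometricallyReduced (ResidueField A₂) (ResidueField W₂) := by
      convert hgr using 1
      refine Algebra.algebra_ext _ _ fun z ↦ ?_
      obtain ⟨z, rfl⟩ := IsLocalRing.residue_surjective z
      rfl
    set j := algebraMap (ResidueField A₃) (ResidueField W₃)
    let ek : ResidueField A₂ →+* ResidueField A₃ :=
      j.rangeRestrictFieldEquiv.symm.toRingHom.comp
        (((e : ResidueField W₂ →+* ResidueField W₃).comp (algebraMap (ResidueField A₂) (ResidueField W₂))).codRestrict j.fieldRange fun z ↦ by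
          obtain ⟨w, rfl⟩ := IsLocalRing.residue_surjective z
          refine ⟨residue A₃ ⟨θ (w : K₂), hθmem w⟩, ?_⟩
          change j _ = e (algebraMap (ResidueField A₂) (ResidueField W₂) (residue A₂ w))
          exact (hθ w).symm)
    have hek : ∀ z, j (ek z) = e (algebraMap (ResidueField A₂) (ResidueField W₂) z) := fun z ↦
      congrArg Subtype.val (j.rangeRestrictFieldEquiv.apply_symm_apply _)
    refine Perturb.geometricallyReduced_transport ek (fun z ↦ ?_) e fun z ↦ (hek z).symm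
    obtain ⟨z, rfl⟩ := IsLocalRing.residue_surjective z
    obtain ⟨w, hw⟩ := hθsurj z
    refine ⟨residue A₂ w, j.injective ?_⟩
    rw [hek, ResidueField.algebraMap_residue, hθ]
    congr 2
    exact Subtype.ext hw

/-- Let p be a prime and A → B an injective local homomorphism of discrete valuation rings whose fields
of fractions are K ⊆ L, where K has characteristic p, L is separable (geometrically reduced) over K
and B is a Nagata ring. Let K ⊆ K₁ ⊆ K₂ be finite extensions such that K₂ is a solution for A ⊆ B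
and K₂/K₁ is purely inseparable of degree p. Then some finite separable extension K₃/K₁ is also a
solution for A ⊆ B. -/
theorem result (p : ℕ) (hp : p.Prime) (A B K L : Type u)
    [CommRing A] [IsDomain A] [IsDiscreteValuationRing A] [CommRing B] [IsDomain B] [IsDiscreteValuationRing B]
    [Algebra A B] (hinj : Function.Injective (algebraMap A B)) [IsLocalHom (algebraMap A B)]
    [Field K] [Field L] [Algebra A K] [IsFractionRing A K] [Algebra B L] [IsFractionRing B L]
    [Algebra K L] [Algebra A L] [IsScalarTower A K L] [IsScalarTower A B L] [CharP K p]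
    [Algebra.IsGeometricallyReduced K L] (hB : CAlg.IsNagata B)
    (K₁ K₂ : Type u) [Field K₁] [Field K₂] [Algebra K K₁] [Algebra K K₂] [Algebra K₁ K₂] [IsScalarTower K K₁ K₂]
    [FiniteDimensional K K₁] [FiniteDimensional K₁ K₂] (hsol : EtRam.IsSolution B K L K₂)
    [IsPurelyInseparable K₁ K₂] (hdeg : Module.finrank K₁ K₂ = p) :
    ∃ (K₃ : Type u) (_ : Field K₃) (_ : Algebra K K₃) (_ : Algebra K₁ K₃) (_ : IsScalarTower K K₁ K₃),
      FiniteDimensional K₁ K₃ ∧ Algebra.IsSeparable K₁ K₃ ∧ EtRam.IsSolution B K L K₃ := by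
  classical
  haveI : Fact p.Prime := ⟨hp⟩
  haveI : FiniteDimensional K K₂ := Module.Finite.trans K₁ K₂
  haveI hchar : CharP K₁ p := charP_of_injective_algebraMap (algebraMap K K₁).injective p
  haveI : ExpChar K₁ p := ExpChar.prime hp
  have hN2 : CAlg.IsN2 B := Groth.Agent.Props.N2Local.isN2_of_ringEquiv (RingEquiv.quotientBot B) (hB.2 ⊥)
  haveI : IsReduced (TensorProduct K L K₂) := by
    haveI : IsReduced (TensorProduct K K₂ L) := Groth.Agent.FBase.TensorAlgClosed.isReduced_tensor_of_isGeometricallyReduced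
    exact isReduced_of_injective (Algebra.TensorProduct.comm K L K₂) (AlgEquiv.injective _)
  letI : Algebra A K₁ := ((algebraMap K K₁).comp (algebraMap A K)).toAlgebra
  haveI : IsScalarTower A K K₁ := IsScalarTower.of_algebraMap_eq fun _ ↦ rfl
  letI : Algebra A K₂ := ((algebraMap K₁ K₂).comp (algebraMap A K₁)).toAlgebra
  haveI : IsScalarTower A K₁ K₂ := IsScalarTower.of_algebraMap_eq fun _ ↦ rfl
  obtain ⟨π, hπ⟩ := IsDiscreteValuationRing.exists_irreducible A
  -- a generator with integral `p`-th power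
  obtain ⟨x₀, hx₀⟩ : ∃ x₀ : K₂, x₀ ∉ (algebraMap K₁ K₂).range := by
    by_contra! h
    have h1 : Module.finrank K₁ K₂ = 1 :=
      Subalgebra.bot_eq_top_iff_finrank_eq_one.1 (eq_top_iff.2 fun z _ ↦ by
        obtain ⟨c, hc⟩ := h z
        exact hc ▸ Subalgebra.algebraMap_mem ⊥ c)
    exact hp.ne_one (hdeg.symm.trans h1)
  haveI : IsScalarTower A K K₂ := IsScalarTower.of_algebraMap_eq fun r ↦ by
    change algebraMap K₁ K₂ (algebraMap K K₁ (algebraMap A K r)) = algebraMap K K₂ (algebraMap A K r)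
    rw [← IsScalarTower.algebraMap_apply]
  obtain ⟨m, hm⟩ := IsIntegral.exists_multiple_integral_of_isLocalization (nonZeroDivisors A) x₀
    (IsIntegral.of_finite K x₀)
  set x : K₂ := (m : A) • x₀ with hxdef
  have hxr : x ∉ (algebraMap K₁ K₂).range := by
    rintro ⟨c, hc⟩
    have hm0 : algebraMap A K₁ (m : A) ≠ 0 := fun h ↦ nonZeroDivisors.coe_ne_zero m
      (IsFractionRing.injective A K ((algebraMap K K₁).injective (h.trans (by simp))))
    refine hx₀ ⟨c / algebraMap A K₁ (m : A), ?_⟩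
    rw [map_div₀, hc, hxdef, Algebra.smul_def, IsScalarTower.algebraMap_apply A K₁ K₂,
      mul_div_cancel_left₀ _ ((_root_.map_ne_zero _).2 hm0)]
  have hxint : IsIntegral K₁ x := IsIntegral.of_finite K₁ x
  have hdeg : (minpoly K₁ x).natDegree = p := by
    have h1 : (minpoly K₁ x).natDegree ∣ p := hdeg ▸ minpoly.degree_dvd hxint
    exact ((Nat.dvd_prime hp).1 h1).resolve_left fun h ↦ hxr (minpoly.natDegree_eq_one_iff.1 h)
  obtain ⟨a, hxa⟩ : ∃ a : K₁, algebraMap K₁ K₂ a = x ^ p := by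
    obtain ⟨n, a, hn⟩ := IsPurelyInseparable.minpoly_eq_X_pow_sub_C K₁ p x
    rw [hn, Polynomial.natDegree_X_pow_sub_C] at hdeg
    refine ⟨a, ?_⟩
    have := minpoly.aeval K₁ x
    rw [hn, map_sub, map_pow, Polynomial.aeval_X, Polynomial.aeval_C, hdeg, sub_eq_zero] at this
    exact this.symm
  have ha : IsIntegral A a := by
    refine (isIntegral_algHom_iff (IsScalarTower.toAlgHom A K₁ K₂) (algebraMap K₁ K₂).injective).1 ?_
    change IsIntegral A (algebraMap K₁ K₂ a)
    rw [hxa]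
    exact hm.pow p
  have hli : LinearIndependent K₁ (fun i : Fin p ↦ x ^ (i : ℕ)) := by
    have := linearIndependent_pow (K := K₁) x
    rw [hdeg] at this
    exact this
  haveI : Nonempty (Fin p) := ⟨⟨0, hp.pos⟩⟩
  let bx : Module.Basis (Fin p) K₁ K₂ := basisOfLinearIndependentOfCardEqFinrank hli (by simp [*])
  have hbx : ∀ i, bx i = x ^ (i : ℕ) := fun i ↦ by simp [bx]
  obtain ⟨ι₁, β, hβ⟩ := FiniteDimensional.exists_is_basis_integral A K K₁
  obtain ⟨c, hc⟩ := Groth.Agent.EtRamLib.InsepPerturb.exists_bound A B K L K₂ hinj hN2 hπ (β.smulTower bx)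
  -- the separable extension
  set q : K₁ := algebraMap K K₁ (algebraMap A K π) ^ (2 * c + 2) with hq
  let f : Polynomial K₁ := Polynomial.X ^ p - (Polynomial.C q * Polynomial.X + Polynomial.C a)
  have hlt : (Polynomial.C q * Polynomial.X + Polynomial.C a).degree < (p : WithBot ℕ) :=
    lt_of_le_of_lt Polynomial.degree_linear_le (by exact_mod_cast hp.one_lt)
  have hfm : f.Monic := Polynomial.monic_X_pow_sub hlt
  have hfd : f.natDegree = p := Polynomial.natDegree_eq_of_degree_eq_some (by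
    rw [Polynomial.degree_sub_eq_left_of_degree_lt, Polynomial.degree_X_pow]
    rw [Polynomial.degree_X_pow]; exact hlt)
  have hq0 : q ≠ 0 := pow_ne_zero _ ((_root_.map_ne_zero _).2 ((map_ne_zero_iff _ (IsFractionRing.injective A K)).2 hπ.ne_zero))
  have hfsep : f.Separable := by
    rw [Polynomial.separable_def]
    have hder : Polynomial.derivative f = Polynomial.C (-q) := by
      simp [f, Polynomial.derivative_X_pow, CharP.cast_eq_zero]
    rw [hder]
    exact ⟨0, Polynomial.C (-q)⁻¹, by rw [zero_mul, zero_add, ← Polynomial.C_mul, inv_mul_cancel₀ (neg_ne_zero.2 hq0), Polynomial.C_1]⟩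
  obtain ⟨y₀, hy₀⟩ := IsAlgClosed.exists_aeval_eq_zero (AlgebraicClosure K₁) f
    (by rw [Polynomial.degree_eq_natDegree hfm.ne_zero, hfd]; exact_mod_cast hp.ne_zero)
  let K₃ : IntermediateField K₁ (AlgebraicClosure K₁) := IntermediateField.adjoin K₁ {y₀}
  have hy₀i : IsIntegral K₁ y₀ := ⟨f, hfm, hy₀⟩
  haveI : FiniteDimensional K₁ K₃ := IntermediateField.adjoin.finiteDimensional hy₀i
  haveI : Algebra.IsSeparable K₁ K₃ :=
    (IntermediateField.isSeparable_adjoin_simple_iff_isSeparable K₁ _).2 (hfsep.of_dvd (minpoly.dvd K₁ y₀ hy₀))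
  refine ⟨K₃, inferInstance, inferInstance, inferInstance, inferInstance, inferInstance, inferInstance, ?_⟩
  let y : K₃ := ⟨y₀, IntermediateField.mem_adjoin_simple_self K₁ y₀⟩
  have hy' : y₀ ^ p = algebraMap K₁ _ a + algebraMap K₁ _ q * y₀ := by
    simp only [f, map_sub, map_pow, map_add, map_mul, Polynomial.aeval_X, Polynomial.aeval_C, sub_eq_zero] at hy₀
    rw [hy₀, add_comm]
  have hy : y ^ p = algebraMap K₁ K₃ a +
      algebraMap K₁ K₃ (algebraMap K K₁ (algebraMap A K π)) ^ (2 * c + 2) * y := by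
    apply Subtype.ext
    rw [hq, map_pow] at hy'
    simpa [y] using hy'
  have htop : IntermediateField.adjoin K₁ {y} = ⊤ := by
    apply IntermediateField.map_injective K₃.val
    rw [IntermediateField.adjoin_map, Set.image_singleton, ← AlgHom.fieldRange_eq_map, IntermediateField.fieldRange_val]
    rfl
  have hy3 : ∀ z : K₃, ∃ co : Fin p → K₁, z = ∑ i, algebraMap K₁ K₃ (co i) * y ^ (i : ℕ) :=
    Groth.Agent.S7158.exists_coeffs p y f hfm hfd (Subtype.ext (by rw [← IntermediateField.coe_val, ← Polynomial.aeval_algHom_apply]; simpa [y] using hy₀)) htop hp.pos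
  intro M₃ _ _ _ _ _ _ hgen W₃ hW₃
  exact local_step p hp A B K L hinj hN2 K₁ K₂ hchar hsol hπ β hβ a ha x hxa.symm bx hbx c hc K₃ y hy hy3 M₃ hgen W₃ hW₃

end Groth.Agent.S7151
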