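import Groth.Statements.S7152
import Mathlib

set_option autoImplicit false
universe u
open EtAlg

namespace Groth.Agent.S7152

/-- Let A' ⊆ A be an extension of rings and f an element of A'. Assume A is finite over A', f is a
nonzerodivisor on A, and A'_f = A_f. Then there is n₀ > 0 such that for all n ≥ n₀ the following
holds: given a ring B', a nonzerodivisor g of B' and an isomorphism φ' : A'/fⁿA' → B'/gⁿB' sending
the class of f to the class of g, one can find a ring B containing B' as a subring and finite as a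
B'-module, together with a ring isomorphism φ : A/fA → B/gB that agrees with φ' (i.e. the square
formed by the maps A'/fⁿA' → A/fA and B'/gⁿB' → B/gB commutes). -/
theorem result (A' A : Type u) [CommRing A'] [CommRing A] [Algebra A' A]
    (hinj : Function.Injective (algebraMap A' A)) [Module.Finite A' A] (f : A')
    (hf : algebraMap A' A f ∈ nonZeroDivisors A)
    (hloc : Function.Bijective (IsLocalization.Away.map (Localization.Away f)
      (Localization.Away (algebraMap A' A f)) (algebraMap A' A) f)) :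
    ∃ n₀ : ℕ, 0 < n₀ ∧ ∀ n : ℕ, n₀ ≤ n →
      ∀ (B' : Type u) [CommRing B'] (g : B'), g ∈ nonZeroDivisors B' →
        ∀ φ' : (A' ⧸ Ideal.span {f ^ n}) ≃+* (B' ⧸ Ideal.span {g ^ n}),
        φ' (Ideal.Quotient.mk (Ideal.span {f ^ n}) f) = Ideal.Quotient.mk (Ideal.span {g ^ n}) g →
        ∃ (B : Type u) (_ : CommRing B) (_ : Algebra B' B),
          Function.Injective (algebraMap B' B) ∧ Module.Finite B' B ∧
          ∃ φ : (A ⧸ Ideal.span {algebraMap A' A f}) ≃+* (B ⧸ Ideal.span {algebraMap B' B g}),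
            ∀ (a' : A') (b' : B'),
              φ' (Ideal.Quotient.mk (Ideal.span {f ^ n}) a') = Ideal.Quotient.mk (Ideal.span {g ^ n}) b' →
              φ (Ideal.Quotient.mk (Ideal.span {algebraMap A' A f}) (algebraMap A' A a')) =
                Ideal.Quotient.mk (Ideal.span {algebraMap B' B g}) (algebraMap B' B b') := by
  classical
  set F := algebraMap A' A f with hFdef
  have hF : ∀ {k : ℕ} {x y : A}, F ^ k * x = F ^ k * y → x = y := fun {k x y} h ↦
    (mul_cancel_left_mem_nonZeroDivisors (pow_mem hf k)).1 h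
  -- a conductor exponent
  have hone : ∀ a : A, ∃ k : ℕ, ∃ m : A', algebraMap A' A m = F ^ k * a := by
    intro a
    obtain ⟨x, hx⟩ := hloc.2 (algebraMap A (Localization.Away F) a)
    obtain ⟨k, m, hm⟩ := IsLocalization.Away.surj f x
    refine ⟨k, m, ?_⟩
    have h := congrArg (IsLocalization.Away.map (Localization.Away f) (Localization.Away F) (algebraMap A' A) f) hm
    simp only [IsLocalization.Away.map, map_mul, map_pow, IsLocalization.map_eq] at h
    rw [show IsLocalization.map (Localization.Away F) (algebraMap A' A) _ x = _ from hx] at h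
    rw [← map_pow, ← map_mul] at h
    have := IsLocalization.injective (Localization.Away F) (M := Submonoid.powers F)
      ((Submonoid.powers_le).2 hf) h
    rw [← this, mul_comm]
  obtain ⟨c, hc0, hc⟩ : ∃ c : ℕ, 0 < c ∧ ∀ a : A, ∃ m : A', algebraMap A' A m = F ^ c * a := by
    obtain ⟨s, hs⟩ := (Module.Finite.fg_top : (⊤ : Submodule A' A).FG)
    choose k hk using hone
    refine ⟨s.sup k + 1, Nat.succ_pos _, fun a ↦ ?_⟩
    have ha : a ∈ Submodule.span A' (s : Set A) := hs ▸ Submodule.mem_top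
    induction ha using Submodule.span_induction with
    | mem x hx =>
      obtain ⟨m, hm⟩ := hk x
      refine ⟨f ^ (s.sup k + 1 - k x) * m, ?_⟩
      rw [map_mul, map_pow, ← hFdef, hm, ← mul_assoc, ← pow_add,
        Nat.sub_add_cancel ((Finset.le_sup hx).trans (Nat.le_succ _))]
    | zero => exact ⟨0, by simp⟩
    | add x y _ _ hx hy =>
      obtain ⟨m, hm⟩ := hx
      obtain ⟨m', hm'⟩ := hy
      exact ⟨m + m', by rw [map_add, hm, hm', mul_add]⟩
    | smul r x _ hx =>
      obtain ⟨m, hm⟩ := hx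
      exact ⟨r * m, by rw [map_mul, hm, Algebra.smul_def, mul_left_comm]⟩
  let M : Ideal A' := (Ideal.span {F ^ c}).comap (algebraMap A' A)
  have hM : ∀ {m : A'}, m ∈ M ↔ ∃ a, algebraMap A' A m = F ^ c * a := fun {m} ↦ by
    simp only [M, Ideal.mem_comap, Ideal.mem_span_singleton, dvd_def]
  have hMfg : M.FG := by
    refine Submodule.fg_of_fg_map_injective (Algebra.linearMap A' A) hinj ?_
    have : Submodule.map (Algebra.linearMap A' A) M = Submodule.map (LinearMap.mulLeft A' (F ^ c)) ⊤ := by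
      ext y
      simp only [Submodule.mem_map, Submodule.mem_top, true_and, Algebra.linearMap_apply, LinearMap.mulLeft_apply]
      constructor
      · rintro ⟨m, hm, rfl⟩
        obtain ⟨a, ha⟩ := hM.1 hm
        exact ⟨a, ha.symm⟩
      · rintro ⟨a, rfl⟩
        obtain ⟨m, hm⟩ := hc a
        exact ⟨m, hM.2 ⟨a, hm⟩, hm⟩
    rw [this]
    exact Module.Finite.fg_top.map _
  refine ⟨2 * c + 1, by omega, fun n hn B' _ g hg φ' hφf ↦ ?_⟩
  obtain ⟨d, hd, rfl⟩ : ∃ d, 1 ≤ d ∧ n = c + (c + d) := ⟨n - 2 * c, by omega, by omega⟩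
  set πA := Ideal.Quotient.mk (Ideal.span {f ^ (c + (c + d))})
  set πB := Ideal.Quotient.mk (Ideal.span {g ^ (c + (c + d))})
  let θ : A' →+* (B' ⧸ Ideal.span {g ^ (c + (c + d))}) := φ'.toRingHom.comp πA
  have hθs : Function.Surjective θ := φ'.surjective.comp Ideal.Quotient.mk_surjective
  have hθf : ∀ k : ℕ, θ (f ^ k) = πB (g ^ k) := fun k ↦ by
    simp only [θ, RingHom.comp_apply, map_pow]
    exact congrArg (· ^ k) hφf
  have hθker : ∀ {x : A'}, θ x = 0 → ∃ w, x = f ^ (c + (c + d)) * w := fun {x} hx ↦ by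
    have h1 : πA x = 0 := φ'.injective (by rw [map_zero]; exact hx)
    exact Ideal.mem_span_singleton.1 (Ideal.Quotient.eq_zero_iff_mem.1 h1)
  let N : Ideal B' := (M.map θ).comap πB
  have hN : ∀ {y : B'}, y ∈ N ↔ ∃ m ∈ M, θ m = πB y := fun {y} ↦ by
    simp only [N, Ideal.mem_comap, Ideal.mem_map_iff_of_surjective _ hθs]
  have hgn : g ^ (c + (c + d)) ∈ N := hN.2 ⟨0, zero_mem _, by
    rw [map_zero]; exact (Ideal.Quotient.eq_zero_iff_mem.2 (Ideal.mem_span_singleton_self _)).symm⟩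
  have hgk : ∀ k, g ^ (c + k) ∈ N := fun k ↦ hN.2 ⟨f ^ (c + k),
    hM.2 ⟨F ^ k, by rw [map_pow, ← hFdef, pow_add]⟩, hθf _⟩
  have hNfg : N.FG := by
    obtain ⟨s, hs⟩ := hMfg
    choose l hl using fun m : A' ↦ Ideal.Quotient.mk_surjective (θ m)
    refine ⟨insert (g ^ (c + (c + d))) (s.image l), le_antisymm ?_ fun y hy ↦ ?_⟩
    · rw [Ideal.span_le]
      intro y hy
      rw [Finset.mem_coe, Finset.mem_insert, Finset.mem_image] at hy
      rcases hy with rfl | ⟨m, hm, rfl⟩
      · exact hgn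
      · exact hN.2 ⟨m, hs ▸ Ideal.subset_span hm, (hl m).symm⟩
    · have h1 : πB y ∈ (Ideal.span (s.image l : Set B')).map πB := by
        have h2 : πB y ∈ M.map θ := hy
        rw [← hs, Ideal.map_span] at h2
        rw [Ideal.map_span]
        convert h2 using 2
        rw [Finset.coe_image, Set.image_image]
        exact Set.image_congr fun m _ ↦ hl m
      obtain ⟨y', hy', hyy⟩ := (Ideal.mem_map_iff_of_surjective _ Ideal.Quotient.mk_surjective).1 h1
      have hsub : y - y' ∈ Ideal.span {g ^ (c + (c + d))} := Ideal.Quotient.eq.1 hyy.symm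
      rw [Finset.coe_insert, Ideal.span_insert, show y = (y - y') + y' by ring]
      exact Submodule.add_mem_sup hsub hy'
  let L := Localization.Away g
  let ι : B' →+* L := algebraMap B' L
  have hι : Function.Injective ι := IsLocalization.injective L (M := Submonoid.powers g) ((Submonoid.powers_le).2 hg)
  have hgu : IsUnit (ι g ^ c) := (IsLocalization.map_units L ⟨g, Submonoid.mem_powers g⟩).pow c
  let B : Subalgebra B' L :=
    { carrier := {x | ∃ y ∈ N, ι y = ι g ^ c * x}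
      mul_mem' := by
        rintro x₁ x₂ ⟨y₁, hy₁, h₁⟩ ⟨y₂, hy₂, h₂⟩
        obtain ⟨m₁, hm₁, e₁⟩ := hN.1 hy₁
        obtain ⟨m₂, hm₂, e₂⟩ := hN.1 hy₂
        obtain ⟨a₁, ha₁⟩ := hM.1 hm₁
        obtain ⟨a₂, ha₂⟩ := hM.1 hm₂
        obtain ⟨m, hm⟩ := hc (a₁ * a₂)
        obtain ⟨y, hy⟩ := Ideal.Quotient.mk_surjective (θ m)
        have hmm : m₁ * m₂ = f ^ c * m := hinj (by rw [map_mul, map_mul, map_pow, ha₁, ha₂, hm, ← hFdef]; ring)
        have hdiff : y₁ * y₂ - g ^ c * y ∈ Ideal.span {g ^ (c + (c + d))} := by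
          rw [← Ideal.Quotient.eq, map_mul, map_mul, ← e₁, ← e₂, ← map_mul θ, hmm, map_mul, hθf, hy]
        obtain ⟨w, hw⟩ := Ideal.mem_span_singleton.1 hdiff
        refine ⟨y + g ^ (c + d) * w, add_mem (hN.2 ⟨m, hM.2 ⟨_, hm⟩, hy.symm⟩) (N.mul_mem_right _ (hgk d)),
          hgu.mul_left_cancel ?_⟩
        have hyy : ι (y₁ * y₂) = ι g ^ c * ι (y + g ^ (c + d) * w) := by
          rw [← map_pow, ← map_mul]
          refine congrArg ι ?_
          rw [eq_add_of_sub_eq hw]; ring
        rw [← hyy, map_mul, h₁, h₂]; ring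
      one_mem' := ⟨g ^ (c + 0), hgk 0, by rw [add_zero, map_pow, mul_one]⟩
      add_mem' := by
        rintro x₁ x₂ ⟨y₁, hy₁, h₁⟩ ⟨y₂, hy₂, h₂⟩
        exact ⟨y₁ + y₂, add_mem hy₁ hy₂, by rw [map_add, h₁, h₂, mul_add]⟩
      zero_mem' := ⟨0, zero_mem _, by rw [map_zero, mul_zero]⟩
      algebraMap_mem' := fun b ↦ ⟨g ^ (c + 0) * b, N.mul_mem_right _ (hgk 0), by
        rw [add_zero, map_mul, map_pow]⟩ }
  have hBfin : Module.Finite B' B := by
    refine Module.Finite.iff_fg.2 (Submodule.fg_of_fg_map_injective (N := Subalgebra.toSubmodule B)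
      (LinearMap.mulLeft B' (ι g ^ c)) (fun a b h ↦ hgu.mul_left_cancel h) ?_)
    have : Submodule.map (LinearMap.mulLeft B' (ι g ^ c)) (Subalgebra.toSubmodule B) =
        Submodule.map (Algebra.linearMap B' L) N := by
      ext y
      simp only [Submodule.mem_map, Subalgebra.mem_toSubmodule, Algebra.linearMap_apply, LinearMap.mulLeft_apply]
      constructor
      · rintro ⟨x, ⟨z, hz, hzx⟩, rfl⟩
        exact ⟨z, hz, hzx⟩
      · rintro ⟨z, hz, rfl⟩
        obtain ⟨u, hu⟩ := hgu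
        refine ⟨↑u⁻¹ * ι z, ⟨z, hz, ?_⟩, ?_⟩
        · rw [← hu, ← mul_assoc, Units.mul_inv, one_mul]
        · rw [← hu, ← mul_assoc, Units.mul_inv, one_mul]
    rw [this]
    exact Submodule.FG.map (Algebra.linearMap B' L) hNfg
  have hinjB : Function.Injective (algebraMap B' B) := fun a b h ↦ hι (congrArg Subtype.val h)
  set gB : B := algebraMap B' B g
  -- the relation defining the map
  let R : A → B → Prop := fun a b ↦ ∃ (m : A') (y : B'),
    algebraMap A' A m = F ^ c * a ∧ θ m = πB y ∧ ι y = ι g ^ c * (b : L)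
  have hgd : ∃ e : B, ∀ w : B', (e : L) * ι g * ι w = ι (g ^ (c + d) * w) := by
    refine ⟨algebraMap B' B (g ^ (c + d - 1)), fun w ↦ ?_⟩
    change ι (g ^ (c + d - 1)) * ι g * ι w = _
    rw [← map_mul, ← map_mul, ← pow_succ, Nat.sub_add_cancel (by omega)]
  have huniq : ∀ a b b', R a b → R a b' → Ideal.Quotient.mk (Ideal.span {gB}) b = Ideal.Quotient.mk _ b' := by
    rintro a b b' ⟨m, y, hm, hy, hb⟩ ⟨m', y', hm', hy', hb'⟩
    obtain rfl : m = m' := hinj (hm.trans hm'.symm)
    obtain ⟨w, hw⟩ := Ideal.mem_span_singleton.1 (Ideal.Quotient.eq.1 (hy.symm.trans hy'))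
    obtain ⟨e, he⟩ := hgd
    rw [Ideal.Quotient.eq, Ideal.mem_span_singleton]
    refine ⟨e * algebraMap B' B w, Subtype.ext (hgu.mul_left_cancel ?_)⟩
    change ι g ^ c * ((b : L) - (b' : L)) = ι g ^ c * (ι g * ((e : L) * ι w))
    rw [mul_sub, ← hb, ← hb', ← map_sub, hw, show ι g * ((e : L) * ι w) = (e : L) * ι g * ι w by ring, he,
      ← map_pow, ← map_mul]
    congr 1; ring
  have hex : ∀ a, ∃ b, R a b := by
    intro a
    obtain ⟨m, hm⟩ := hc a
    obtain ⟨y, hy⟩ := Ideal.Quotient.mk_surjective (θ m)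
    obtain ⟨u, hu⟩ := hgu
    have hcan : ι y = ι g ^ c * (↑u⁻¹ * ι y) := by rw [← hu, ← mul_assoc, Units.mul_inv, one_mul]
    exact ⟨⟨↑u⁻¹ * ι y, y, hN.2 ⟨m, hM.2 ⟨a, hm⟩, hy.symm⟩, hcan⟩, m, y, hm, hy.symm, hcan⟩
  choose β hβ using hex
  let Φ : A → B ⧸ Ideal.span {gB} := fun a ↦ Ideal.Quotient.mk _ (β a)
  have hΦ : ∀ {a b}, R a b → Φ a = Ideal.Quotient.mk _ b := fun {a b} h ↦ huniq a _ _ (hβ a) h
  have hRadd : ∀ {a a' b b'}, R a b → R a' b' → R (a + a') (b + b') := by
    rintro a a' b b' ⟨m, y, hm, hy, hb⟩ ⟨m', y', hm', hy', hb'⟩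
    exact ⟨m + m', y + y', by rw [map_add, hm, hm', mul_add], by rw [map_add, hy, hy', map_add],
      by rw [map_add, hb, hb', AddMemClass.coe_add, mul_add]⟩
  have hRmul : ∀ {a a' b b'}, R a b → R a' b' → Φ (a * a') = Ideal.Quotient.mk _ (b * b') := by
    rintro a a' b b' ⟨m, y, hm, hy, hb⟩ ⟨m', y', hm', hy', hb'⟩
    obtain ⟨m'', hm''⟩ := hc (a * a')
    obtain ⟨y'', hy''⟩ := Ideal.Quotient.mk_surjective (θ m'')
    have hmm : m * m' = f ^ c * m'' := hinj (by rw [map_mul, map_mul, map_pow, hm, hm', hm'', ← hFdef]; ring)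
    obtain ⟨w, hw⟩ : ∃ w, y * y' - g ^ c * y'' = g ^ (c + (c + d)) * w := by
      refine Ideal.mem_span_singleton.1 ?_
      rw [← Ideal.Quotient.eq, map_mul, map_mul, ← hy, ← hy', ← map_mul θ, hmm, map_mul, hθf, hy'']
    obtain ⟨u, hu⟩ := id hgu
    have hcan : ι y'' = ι g ^ c * (↑u⁻¹ * ι y'') := by rw [← hu, ← mul_assoc, Units.mul_inv, one_mul]
    let b'' : B := ⟨↑u⁻¹ * ι y'', y'', hN.2 ⟨m'', hM.2 ⟨_, hm''⟩, hy''.symm⟩, hcan⟩
    rw [hΦ (b := b'') ⟨m'', y'', hm'', hy''.symm, hcan⟩, Ideal.Quotient.eq, Ideal.mem_span_singleton]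
    refine ⟨algebraMap B' B (-(g ^ (d - 1) * w)), Subtype.ext ((hgu.mul hgu).mul_left_cancel ?_)⟩
    change ι g ^ c * ι g ^ c * (↑u⁻¹ * ι y'' - (b : L) * (b' : L)) =
      ι g ^ c * ι g ^ c * (ι g * ι (-(g ^ (d - 1) * w)))
    have e1 : ι g ^ c * ι g ^ c * (↑u⁻¹ * ι y'') = ι g ^ c * ι y'' := by rw [mul_assoc, ← hcan]
    have e2 : ι g ^ c * ι g ^ c * ((b : L) * (b' : L)) = ι y * ι y' := by rw [hb, hb']; ring
    have e3 : g ^ c * y'' - y * y' = g ^ c * g ^ c * (g * (-(g ^ (d - 1) * w))) := by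
      have hd' : g ^ c * g ^ c * (g * g ^ (d - 1)) = g ^ (c + (c + d)) := by
        rw [← pow_succ', ← pow_add, ← pow_add]
        exact congrArg (g ^ ·) (by omega)
      linear_combination w * hd' - hw
    rw [mul_sub, e1, e2]
    simpa only [map_sub, map_mul, map_pow] using congrArg ι e3
  have hone' : Φ 1 = 1 := by
    rw [hΦ (b := 1) ⟨f ^ c, g ^ c, by rw [map_pow, mul_one], hθf c, by rw [map_pow, OneMemClass.coe_one, mul_one]⟩, map_one]
  let ΦR : A →+* B ⧸ Ideal.span {gB} :=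
    RingHom.mk' ⟨⟨Φ, hone'⟩, fun a a' ↦ by
      change Φ (a * a') = _
      rw [hRmul (hβ a) (hβ a'), map_mul]⟩ fun a a' ↦ by
      change Φ (a + a') = _
      rw [hΦ (hRadd (hβ a) (hβ a')), map_add]; rfl
  have hsurj : Function.Surjective ΦR := by
    intro q
    obtain ⟨⟨x, y, hy, hyx⟩, rfl⟩ := Ideal.Quotient.mk_surjective q
    obtain ⟨m, hm, hmy⟩ := hN.1 hy
    obtain ⟨a, ha⟩ := hM.1 hm
    exact ⟨a, hΦ ⟨m, y, ha, hmy, hyx⟩⟩
  have hker : RingHom.ker ΦR = Ideal.span {F} := by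
    ext a
    rw [RingHom.mem_ker, Ideal.mem_span_singleton]
    change Φ a = 0 ↔ _
    constructor
    · intro h
      obtain ⟨m, y, hm, hy, hb⟩ := hβ a
      obtain ⟨⟨x, y', hy', hyx⟩, hq⟩ := Ideal.mem_span_singleton.1 (Ideal.Quotient.eq_zero_iff_mem.1 h)
      obtain ⟨m', hm', hmy⟩ := hN.1 hy'
      obtain ⟨a', ha'⟩ := hM.1 hm'
      have hyy : y = g * y' := by
        refine hι ?_
        rw [hb, hq, map_mul]
        change ι g ^ c * (ι g * x) = ι g * ι y'
        rw [hyx]
        ring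
      have h0 : θ (m - f * m') = 0 := by
        rw [map_sub, map_mul, hy, hmy, hyy, map_mul πB]
        have := hθf 1
        rw [pow_one, pow_one] at this
        rw [this, sub_self]
      obtain ⟨w, hw⟩ := hθker h0
      refine ⟨a' + F ^ (c + d - 1) * algebraMap A' A w, hF (k := c) ?_⟩
      have hw' := congrArg (algebraMap A' A) (eq_add_of_sub_eq hw)
      rw [map_add, map_mul, map_mul, map_pow, hm, ha', ← hFdef] at hw'
      have hd' : F ^ c * (F * F ^ (c + d - 1)) = F ^ (c + (c + d)) := by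
        rw [← pow_succ', ← pow_add]
        exact congrArg (F ^ ·) (by omega)
      linear_combination hw' - algebraMap A' A w * hd'
    · rintro ⟨a', rfl⟩
      obtain ⟨m, y, hm, hy, hb⟩ := hβ a'
      have hR : R (F * a') (gB * β a') := ⟨f * m, g * y, by rw [map_mul, hm]; ring, by
        have := hθf 1
        rw [pow_one, pow_one] at this
        rw [map_mul, map_mul, hy, this], by
        rw [map_mul, hb]
        change _ = ι g ^ c * (ι g * _)
        ring⟩
      rw [hΦ hR, Ideal.Quotient.eq_zero_iff_mem, Ideal.mem_span_singleton]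
      exact dvd_mul_right _ _
  refine ⟨B, inferInstance, inferInstance, hinjB, hBfin,
    (Ideal.quotEquivOfEq hker.symm).trans (RingHom.quotientKerEquivOfSurjective hsurj), fun a' b' h ↦ ?_⟩
  change Φ (algebraMap A' A a') = _
  exact hΦ ⟨f ^ c * a', g ^ c * b', by rw [map_mul, map_pow],
    by rw [map_mul, map_mul, hθf]; exact congrArg (πB (g ^ c) * ·) h, by
    rw [map_mul, map_pow]; rfl⟩

end Groth.Agent.S7152
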