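import Groth.Statements.S7154
import Groth.Agent.EtRamLib.Epp.Main

set_option autoImplicit false
universe u
open EtAlg

namespace Groth.Agent.S7154

open Groth.Agent.EtRamLib Groth.Agent.EtRamLib.Epp

/-- Let A → B → C be injective local homomorphisms of discrete valuation rings whose fields of fractions
are K ⊆ L ⊆ M, where A and B are complete, A → B is weakly unramified, M/L is finite, and the
residue field k of A is an algebraically closed field of characteristic p > 0 which, inside the
residue field κ_B of B, is exactly the set of elements admitting a pⁿ-th root for every n. Then some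
finite extension K₁/K is a weak solution for A → C. -/
theorem result (p : ℕ) (hp : p.Prime) (A B C K L M : Type u)
    [CommRing A] [IsDomain A] [IsDiscreteValuationRing A] [CommRing B] [IsDomain B] [IsDiscreteValuationRing B]
    [CommRing C] [IsDomain C] [IsDiscreteValuationRing C]
    [Algebra A B] [Algebra B C] [Algebra A C] [IsScalarTower A B C]
    (hAB : Function.Injective (algebraMap A B)) (hBC : Function.Injective (algebraMap B C))
    [IsLocalHom (algebraMap A B)] [IsLocalHom (algebraMap B C)]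
    [Field K] [Field L] [Field M] [Algebra A K] [IsFractionRing A K] [Algebra B L] [IsFractionRing B L]
    [Algebra C M] [IsFractionRing C M] [Algebra K L] [Algebra L M] [Algebra K M] [IsScalarTower K L M]
    [Algebra A L] [IsScalarTower A K L] [IsScalarTower A B L] [Algebra B M] [IsScalarTower B L M] [IsScalarTower B C M]
    [Algebra A M] [IsScalarTower A K M] [IsScalarTower A C M]
    [IsAlgClosed (IsLocalRing.ResidueField A)] [CharP (IsLocalRing.ResidueField A) p]
    [IsAdicComplete (IsLocalRing.maximalIdeal A) A] [IsAdicComplete (IsLocalRing.maximalIdeal B) B]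
    (hw : EtRam.IsWeaklyUnramified A B) [FiniteDimensional L M]
    (hk : ∀ x : IsLocalRing.ResidueField B, (∀ n : ℕ, ∃ y : IsLocalRing.ResidueField B, y ^ (p ^ n) = x) ↔
      x ∈ Set.range (algebraMap (IsLocalRing.ResidueField A) (IsLocalRing.ResidueField B))) :
    ∃ (K₁ : Type u) (_ : Field K₁) (_ : Algebra K K₁), FiniteDimensional K K₁ ∧ EtRam.IsWeakSolution C K M K₁ := by
  classical
  haveI : Fact p.Prime := ⟨hp⟩
  let Ω := AlgebraicClosure M
  -- the valuation ring of `C` and an extension to the algebraic closure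
  let VC : ValuationSubring M :=
    { (algebraMap C M).range with
      mem_or_inv_mem' := fun x => ValuationRing.isInteger_or_isInteger C x }
  have hVC : EtRam.Dominates C (algebraMap C M) VC := by
    refine ⟨fun c => ⟨c, rfl⟩, fun c hc => ?_⟩
    refine (VC.valuation_lt_one_iff ⟨_, ⟨c, rfl⟩⟩).1 fun hu => hc ?_
    obtain ⟨w, hw⟩ := hu.exists_right_inv
    obtain ⟨d, hd⟩ := w.2
    exact IsUnit.of_mul_eq_one d (IsFractionRing.injective C M
      (by rw [map_mul, map_one, hd]; exact congrArg Subtype.val hw))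
  obtain ⟨O, hO, -⟩ := ValTower.exists_extension (M := Ω) C (algebraMap C M) VC hVC
  let iM : M →+* Ω := algebraMap M Ω
  let iL : L →+* Ω := iM.comp (algebraMap L M)
  let iK : K →+* Ω := iM.comp (algebraMap K M)
  have hC1 : ∀ c : C, iM (algebraMap C M c) ∈ O := hO.1
  have hC2 : ∀ c ∈ IsLocalRing.maximalIdeal C, O.valuation (iM (algebraMap C M c)) < 1 := hO.2
  have hB1 : ∀ b : B, iL (algebraMap B L b) ∈ O := fun b => by
    change iM (algebraMap L M (algebraMap B L b)) ∈ O
    rw [← IsScalarTower.algebraMap_apply B L M, IsScalarTower.algebraMap_apply B C M]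
    exact hC1 _
  have hB2 : ∀ b ∈ IsLocalRing.maximalIdeal B, O.valuation (iL (algebraMap B L b)) < 1 := fun b hb => by
    change O.valuation (iM (algebraMap L M (algebraMap B L b))) < 1
    rw [← IsScalarTower.algebraMap_apply B L M, IsScalarTower.algebraMap_apply B C M]
    exact hC2 _ fun hu => hb (isUnit_of_map_unit (algebraMap B C) b hu)
  have hKL : ∀ x : K, iL (algebraMap K L x) = iK x := fun x => by
    change iM (algebraMap L M (algebraMap K L x)) = iM (algebraMap K M x)
    rw [← IsScalarTower.algebraMap_apply K L M]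
  have hAB' : ∀ a : A, iK (algebraMap A K a) = iL (algebraMap B L (algebraMap A B a)) := fun a => by
    rw [← hKL, ← IsScalarTower.algebraMap_apply A K L, ← IsScalarTower.algebraMap_apply A B L]
  have hA1 : ∀ a : A, iK (algebraMap A K a) ∈ O := fun a => hAB' a ▸ hB1 _
  have hA2 : ∀ a ∈ IsLocalRing.maximalIdeal A, O.valuation (iK (algebraMap A K a)) < 1 := fun a ha =>
    hAB' a ▸ hB2 _ fun hu => ha (isUnit_of_map_unit (algebraMap A B) a hu)
  let K' : Subfield Ω := iK.fieldRange
  let L' : Subfield Ω := iL.fieldRange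
  let M' : Subfield Ω := iM.fieldRange
  -- characteristics
  haveI : IsLocalHom ((iK.comp (algebraMap A K)).codRestrict O hA1) := isLocalHom_toO iK hA1 hA2
  haveI hpO : CharP (IsLocalRing.ResidueField O) p :=
    charP_of_injective_ringHom (kapHom iK hA1 hA2).injective p
  have hchar : CharP Ω p ∨ CharZero Ω := by
    obtain ⟨q, hq⟩ := CharP.exists Ω
    rcases CharP.char_is_prime_or_zero Ω q with hqp | rfl
    · left
      haveI := Fact.mk hqp
      haveI : CharP O q := (RingHom.charP_iff O.subtype Subtype.val_injective q).2 hq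
      haveI hqO : CharP (IsLocalRing.ResidueField O) q := (CharP.charP_iff_prime_eq_zero hqp).2
        (by rw [← map_natCast (IsLocalRing.residue O), CharP.cast_eq_zero, map_zero])
      obtain rfl := CharP.eq (IsLocalRing.ResidueField O) (p := p) (q := q) hpO hqO
      exact hq
    · exact Or.inr (CharP.charP_to_charZero Ω)
  -- the standing hypotheses
  have hK'L' : K' ≤ L' := by rintro _ ⟨x, rfl⟩; exact ⟨_, hKL x⟩
  have hresK : AlgClosedRes O K' := fun z hz => by
    change z ∈ kappa O iK.fieldRange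
    have hz' : IsIntegral (kappa O iK.fieldRange) z := hz
    rw [← fieldRange_kapHom iK hA1 hA2] at hz' ⊢
    exact mem_of_isIntegral_algClosed _ hz'
  have hkap : ∀ w, kapHom iL hB1 hB2 (algebraMap (IsLocalRing.ResidueField A) (IsLocalRing.ResidueField B) w)
      = kapHom iK hA1 hA2 w := by
    intro w
    obtain ⟨a, rfl⟩ := IsLocalRing.residue_surjective w
    exact congrArg (IsLocalRing.residue O) (Subtype.ext (hAB' a).symm)
  have hcore : CoreLE O p K' L' := by
    intro z hz hroot
    change z ∈ kappa O iK.fieldRange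
    have hz' : z ∈ kappa O iL.fieldRange := hz
    rw [← fieldRange_kapHom iL hB1 hB2] at hz'
    rw [← fieldRange_kapHom iK hA1 hA2]
    obtain ⟨w, rfl⟩ := hz'
    obtain ⟨v, rfl⟩ := (hk w).1 fun n => by
      obtain ⟨y, hy, hyn⟩ := hroot n
      have hy' : y ∈ kappa O iL.fieldRange := hy
      rw [← fieldRange_kapHom iL hB1 hB2] at hy'
      obtain ⟨y, rfl⟩ := hy'
      exact ⟨y, (kapHom iL hB1 hB2).injective (by rw [map_pow, hyn])⟩
    exact ⟨v, (hkap v).symm⟩
  have hwu : WU O K' L' := by
    rintro _ ⟨l, rfl⟩ hv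
    obtain ⟨b, rfl⟩ := val_lt_one_of_mem iL hB1 hB2 ((O.valuation_le_one_iff _).1 hv.le)
    have hb : b ∈ IsLocalRing.maximalIdeal B := fun hu => by
      obtain ⟨v, rfl⟩ := hu
      have h1 : O.valuation (iL (algebraMap B L (v : B))) * O.valuation (iL (algebraMap B L (↑v⁻¹ : B))) = 1 := by
        rw [← map_mul, ← map_mul, ← map_mul, Units.mul_inv, map_one, map_one, map_one]
      exact absurd h1 (ne_of_lt ((mul_le_of_le_one_right' ((O.valuation_le_one_iff _).2 (hB1 _))).trans_lt hv))
    obtain ⟨π, hπ⟩ := IsDiscreteValuationRing.exists_irreducible A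
    rw [← hw, hπ.maximalIdeal_eq, Ideal.map_span, Set.image_singleton, Ideal.mem_span_singleton] at hb
    obtain ⟨c, rfl⟩ := hb
    refine ⟨iK (algebraMap A K π), ⟨_, rfl⟩, ?_, hA2 π hπ.not_isUnit⟩
    rw [map_mul, map_mul, map_mul, ← hAB']
    exact mul_le_of_le_one_right' ((O.valuation_le_one_iff _).2 (hB1 _))
  have hctx : Ctx O p K' L' :=
    ⟨hK'L', cpl_image iK hA1 hA2, cpl_image iL hB1 hB2, hwu, hresK, hcore⟩
  -- `M` is a finite extension
  letI : Algebra L L' := iL.rangeRestrictField.toAlgebra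
  haveI : IsScalarTower L L' Ω := IsScalarTower.of_algebraMap_eq fun l => IsScalarTower.algebraMap_apply L M Ω l
  have hFinM : Fin L' M' := by
    let b := Module.finBasis L M
    refine ⟨?_, Finset.univ.image fun i => iM (b i), ?_, ?_⟩
    · rintro _ ⟨l, rfl⟩; exact ⟨_, rfl⟩
    · intro x hx
      obtain ⟨i, -, rfl⟩ := Finset.mem_image.1 hx
      exact ((IsIntegral.of_finite L (b i)).map (IsScalarTower.toAlgHom L M Ω)).tower_top
    · rintro _ ⟨x, rfl⟩
      rw [IntermediateField.mem_toSubfield, ← b.sum_repr x, map_sum]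
      refine sum_mem fun i _ => ?_
      rw [Algebra.smul_def, map_mul]
      exact mul_mem ((IntermediateField.adjoin L' _).algebraMap_mem ⟨iL (b.repr x i), _, rfl⟩)
        (IntermediateField.subset_adjoin _ _ (by simp))
  obtain ⟨K₂, hK₂, hw₂⟩ := goal_main hchar hctx hFinM
  -- a normal extension
  letI : Algebra K K' := iK.rangeRestrictField.toAlgebra
  haveI : IsScalarTower K K' Ω := IsScalarTower.of_algebraMap_eq fun x => IsScalarTower.algebraMap_apply K M Ω x
  haveI : Algebra.IsIntegral K K' := ⟨by rintro ⟨_, x, rfl⟩; exact isIntegral_algebraMap (x := x)⟩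
  obtain ⟨s, hs, hsle⟩ := hK₂.2
  have hsK : ∀ x ∈ s, IsIntegral K x := fun x hx => isIntegral_trans x (hs x hx)
  let P : Polynomial K := ∏ x ∈ s, minpoly K x
  let N₃ : IntermediateField K Ω := IntermediateField.adjoin K (P.rootSet Ω)
  haveI : P.IsSplittingField K N₃ :=
    IntermediateField.adjoin_rootSet_isSplittingField (IsAlgClosed.splits _)
  haveI : FiniteDimensional K N₃ := Polynomial.IsSplittingField.finiteDimensional N₃ P
  haveI : Normal K N₃ := Normal.of_isSplittingField P
  have hK'N : K' ≤ N₃.toSubfield := by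
    rintro _ ⟨x, rfl⟩
    have e : iK x = algebraMap K Ω x := (IsScalarTower.algebraMap_apply K M Ω x).symm
    exact e ▸ N₃.algebraMap_mem x
  have hK₂N : K₂ ≤ N₃.toSubfield := by
    refine hsle.trans ?_
    rw [IntermediateField.adjoin_toSubfield, Subfield.closure_le]
    rintro y (⟨⟨y, hy⟩, rfl⟩ | hy)
    · exact hK'N hy
    · refine IntermediateField.subset_adjoin K _ ((Polynomial.mem_rootSet).mpr ⟨?_, ?_⟩)
      · exact Finset.prod_ne_zero_iff.mpr fun z hz => minpoly.ne_zero (hsK z hz)
      · rw [map_prod, Finset.prod_eq_zero_iff]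
        exact ⟨y, hy, minpoly.aeval K y⟩
  have hN₃ : Fin K' N₃.toSubfield := by
    refine ⟨hK'N, (P.rootSet Ω).toFinset, fun x hx => ?_, ?_⟩
    · exact (IsIntegral.of_finite K (⟨x, IntermediateField.subset_adjoin K _ (Set.mem_toFinset.1 hx)⟩ : N₃)).map N₃.val
        |>.tower_top
    · rw [Set.coe_toFinset, IntermediateField.adjoin_toSubfield, Subfield.closure_le]
      rintro y (⟨x, rfl⟩ | hy)
      · refine (IntermediateField.adjoin K' _).algebraMap_mem ⟨algebraMap K Ω x, x, ?_⟩
        exact (IsScalarTower.algebraMap_apply K M Ω x).symm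
      · exact IntermediateField.subset_adjoin _ _ hy
  have h₂₃ : Fin K₂ N₃.toSubfield := by
    have h1 := hN₃.sup hK₂.1
    rwa [sup_eq_left.mpr hK₂N] at h1
  have hw₃ := wu_enlarge hctx hFinM hK₂ hw₂ h₂₃
  refine ⟨N₃, inferInstance, inferInstance, inferInstance, ?_⟩
  intro M₁ _ _ _ _ _ _ hgen W hW
  haveI : Algebra.IsAlgebraic M M₁ := by
    haveI : Algebra.IsIntegral M M₁ := ⟨fun z => by
      have hz : z ∈ Algebra.adjoin M (Set.range (algebraMap N₃ M₁)) := by rw [hgen]; exact Algebra.mem_top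
      refine (Algebra.adjoin_le (S := integralClosure M M₁) ?_) hz
      rintro _ ⟨k, rfl⟩
      exact ((IsIntegral.of_finite K k).map (IsScalarTower.toAlgHom K N₃ M₁)).tower_top⟩
    exact Algebra.IsIntegral.isAlgebraic
  let j : M₁ →ₐ[M] Ω := IsAlgClosed.lift
  let ι : N₃ →ₐ[K] Ω := (j.restrictScalars K).comp (IsScalarTower.toAlgHom K N₃ M₁)
  have hι : ι.fieldRange = N₃ := AlgHom.fieldRange_of_normal ι
  have hj : ∀ z : M₁, j z ∈ M' ⊔ N₃.toSubfield := by
    intro z
    have hz : z ∈ Algebra.adjoin M (Set.range (algebraMap N₃ M₁)) := by rw [hgen]; exact Algebra.mem_top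
    induction hz using Algebra.adjoin_induction with
    | mem x hx =>
      obtain ⟨k, rfl⟩ := hx
      exact (le_sup_right : N₃.toSubfield ≤ _) (show ι k ∈ N₃ from hι.le ⟨k, rfl⟩)
    | algebraMap r =>
      rw [AlgHom.commutes]
      exact (le_sup_left : M' ≤ _) ⟨r, rfl⟩
    | add x y _ _ hx hy => rw [map_add]; exact add_mem hx hy
    | mul x y _ _ hx hy => rw [map_mul]; exact mul_mem hx hy
  let F : Subfield Ω := j.toRingHom.fieldRange
  have hM'F : M' ≤ F := by rintro _ ⟨m, rfl⟩; exact ⟨algebraMap M M₁ m, j.commutes m⟩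
  have hFfin : Fin M' F := by
    have h1 := hN₃.sup (hK'L'.trans hFinM.1)
    refine h1.of_le hM'F ?_
    rintro _ ⟨z, rfl⟩
    exact (sup_comm M' N₃.toSubfield) ▸ hj z
  let e : M₁ ≃+* F := RingEquiv.ofBijective j.toRingHom.rangeRestrictField
    ⟨fun a b h => j.toRingHom.injective (congrArg Subtype.val h), fun ⟨_, x, hx⟩ => ⟨x, Subtype.ext hx⟩⟩
  have hcplM : Cpl O M' := hctx.cplL.of_fin hFinM
  have hV : EtRam.Dominates (R O M') ((Subfield.inclusion hFfin.1).comp (R O M').subtype)
      (W.comap e.symm.toRingHom) := by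
    have key : ∀ x : R O M', ∃ c : C,
        e.symm (((Subfield.inclusion hFfin.1).comp (R O M').subtype) x) = algebraMap M M₁ (algebraMap C M c) ∧
          (x ∈ IsLocalRing.maximalIdeal (R O M') → c ∈ IsLocalRing.maximalIdeal C) := by
      rintro ⟨⟨_, m, rfl⟩, hm⟩
      obtain ⟨c, rfl⟩ := val_lt_one_of_mem iM hC1 hC2 hm
      refine ⟨c, e.injective (Subtype.ext ?_), fun hx hu => hx ?_⟩
      · rw [RingEquiv.apply_symm_apply]
        exact (j.commutes (algebraMap C M c)).symm
      · exact hu.map (imageHom iM hC1)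
    have hW1 : ∀ c, algebraMap M M₁ (algebraMap C M c) ∈ W := hW.1
    have hW2 : ∀ c ∈ IsLocalRing.maximalIdeal C, W.valuation (algebraMap M M₁ (algebraMap C M c)) < 1 := hW.2
    have hmem : ∀ x : R O M', ((Subfield.inclusion hFfin.1).comp (R O M').subtype) x ∈ W.comap e.symm.toRingHom :=
      fun x => by
        obtain ⟨c, hc, -⟩ := key x
        change e.symm _ ∈ W
        rw [hc]
        exact hW1 c
    refine ⟨hmem, fun x hx => ?_⟩
    obtain ⟨c, hc, hcm⟩ := key x
    refine ((W.comap e.symm.toRingHom).valuation_lt_one_iff ⟨_, hmem x⟩).1 fun hu => ?_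
    have hu' := hu.map (EtRam.inclOfComap W e.symm.toRingHom)
    have h1 : EtRam.inclOfComap W e.symm.toRingHom ⟨_, hmem x⟩ = ⟨_, hW1 c⟩ := Subtype.ext hc
    rw [h1] at hu'
    exact ((W.valuation_lt_one_iff _).2 (hW2 c (hcm hx))) hu'
  have hWeq := eq_of_dominates hcplM hFfin _ hV
  have hWiff : ∀ z : M₁, z ∈ W ↔ j z ∈ O := by
    intro z
    have h1 : e z ∈ W.comap e.symm.toRingHom ↔ e z ∈ R O F := by rw [hWeq]
    have h2 : e z ∈ W.comap e.symm.toRingHom ↔ z ∈ W := by
      change e.symm (e z) ∈ W ↔ _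
      rw [RingEquiv.symm_apply_apply]
    exact h2.symm.trans h1
  letI : Algebra (W.comap (algebraMap N₃ M₁)) W := (EtRam.inclOfComap W (algebraMap N₃ M₁)).toAlgebra
  refine le_antisymm ?_ fun y hy => ?_
  · rw [Ideal.map_le_iff_le_comap]
    exact fun a ha hu => ha (isUnit_of_map_unit (EtRam.inclOfComap W (algebraMap N₃ M₁)) a hu)
  · have hnon : ∀ w : W, ¬ IsUnit w → O.valuation (j (w : M₁)) < 1 := fun w hw' => by
      refine lt_of_le_of_ne ((O.valuation_le_one_iff _).2 ((hWiff _).1 w.2)) fun h1 => hw' ?_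
      have hw0 : (w : M₁) ≠ 0 := fun h0 => by rw [h0, map_zero, map_zero] at h1; exact zero_ne_one h1
      exact IsUnit.of_mul_eq_one ⟨(w : M₁)⁻¹, (hWiff _).2 ((O.valuation_le_one_iff _).1
        (by rw [map_inv₀, map_inv₀, h1, inv_one]))⟩ (Subtype.ext (mul_inv_cancel₀ hw0))
    rcases eq_or_ne (y : M₁) 0 with hy0 | hy0
    · rw [show y = 0 from Subtype.ext hy0]; exact zero_mem _
    obtain ⟨x, hxN, hle, hlt⟩ := hw₃ (j (y : M₁)) (hj _) (hnon y hy)
    obtain ⟨k, hk'⟩ : ∃ k : N₃, ι k = x := by
      have : x ∈ ι.fieldRange := hι.symm ▸ hxN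
      exact this
    have hx0 : x ≠ 0 := fun h0 => hy0 (j.toRingHom.injective (by
      rw [h0, map_zero] at hle
      rw [map_zero]
      exact (Valuation.zero_iff _).1 (le_antisymm hle zero_le)))
    have hjk : j (algebraMap N₃ M₁ k) = x := hk'
    have hkW : algebraMap N₃ M₁ k ∈ W := (hWiff _).2 (hjk ▸ (O.valuation_le_one_iff _).1 hlt.le)
    let a : W.comap (algebraMap N₃ M₁) := ⟨k, hkW⟩
    have ha : a ∈ IsLocalRing.maximalIdeal (W.comap (algebraMap N₃ M₁)) := fun hu => by
      obtain ⟨b, hb⟩ := (hu.map (EtRam.inclOfComap W (algebraMap N₃ M₁))).exists_right_inv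
      have h1 : j (algebraMap N₃ M₁ k) * j (b : M₁) = 1 := by
        rw [← map_mul]; exact (congrArg j (congrArg Subtype.val hb)).trans (map_one j)
      have h2 : O.valuation (j (algebraMap N₃ M₁ k)) * O.valuation (j (b : M₁)) = 1 := by
        rw [← map_mul, h1, map_one]
      rw [hjk] at h2
      exact absurd h2 (ne_of_lt ((mul_le_of_le_one_right' ((O.valuation_le_one_iff _).2 ((hWiff _).1 b.2))).trans_lt hlt))
    have hq : (y : M₁) / algebraMap N₃ M₁ k ∈ W := by
      refine (hWiff _).2 ?_
      rw [← O.valuation_le_one_iff, map_div₀, hjk, map_div₀,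
        div_le_one₀ (zero_lt_iff.2 ((Valuation.ne_zero_iff _).2 hx0))]
      exact hle
    have hk0 : algebraMap N₃ M₁ k ≠ 0 := fun h0 => hx0 (by rw [← hjk, h0, map_zero])
    have ey : y = algebraMap (W.comap (algebraMap N₃ M₁)) W a * ⟨_, hq⟩ :=
      Subtype.ext (mul_div_cancel₀ _ hk0).symm
    rw [ey]
    exact Ideal.mul_mem_right _ _ (Ideal.mem_map_of_mem _ ha)

end Groth.Agent.S7154
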