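import Groth.Statements.S7157
import Mathlib
import Groth.Agent.EtRamLib.Eisenstein

set_option autoImplicit false
universe u
open EtAlg Polynomial

namespace Groth.Agent.S7157

/-- Let A be a discrete valuation ring, π a uniformizer, K its field of fractions, and suppose the
residue field of A has characteristic p > 0. For every n > 1 and every power q of p there is a
separable degree-q extension L/K that is totally ramified with respect to A and whose ring of
integers B (the integral closure of A in L) contains elements π_B, b, b' with π_B^q = π + πⁿ·b and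
π_B^q = π + π_B^(nq)·b' (π_B is then a uniformizer of B and the ramification index is q). -/
theorem result (p : ℕ) (hp : p.Prime) (A K : Type u)
    [CommRing A] [IsDomain A] [IsDiscreteValuationRing A] [Field K] [Algebra A K] [IsFractionRing A K]
    [CharP (IsLocalRing.ResidueField A) p] (π : A) (hπ : IsLocalRing.maximalIdeal A = Ideal.span {π})
    (n : ℕ) (hn : 1 < n) (k : ℕ) :
    ∃ (L : Type u) (_ : Field L) (_ : Algebra K L) (_ : Algebra A L) (_ : IsScalarTower A K L),
      Module.finrank K L = p ^ k ∧ Algebra.IsSeparable K L ∧ EtRam.IsTotallyRamified A (algebraMap A L) ∧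
      ∃ πB b b' : L, πB ∈ integralClosure A L ∧ b ∈ integralClosure A L ∧ b' ∈ integralClosure A L ∧
        πB ^ (p ^ k) = algebraMap A L π + algebraMap A L π ^ n * b ∧
        πB ^ (p ^ k) = algebraMap A L π + πB ^ (n * p ^ k) * b' := by
  classical
  have hπi : Irreducible π := (IsDiscreteValuationRing.irreducible_iff_uniformizer π).2 hπ
  obtain ⟨q, hq⟩ : ∃ q, q = p ^ k := ⟨_, rfl⟩
  rw [← hq]
  have hq0 : 0 < q := hq ▸ Nat.pos_of_ne_zero (pow_ne_zero k hp.ne_zero)
  obtain ⟨c, hc, hc0⟩ : ∃ c : A, c ∈ Ideal.span {π} ∧ ((q = 1 ∧ c = 0) ∨ (2 ≤ q ∧ c = π ^ n)) := by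
    rcases Nat.lt_or_ge q 2 with h | h
    · exact ⟨0, zero_mem _, Or.inl ⟨by omega, rfl⟩⟩
    · exact ⟨π ^ n, Ideal.pow_mem_of_mem _ (Ideal.mem_span_singleton_self π) _ (by omega), Or.inr ⟨h, rfl⟩⟩
  let f : A[X] := X ^ q + C c * X - C π
  have hlow : (C c * X - C π : A[X]).degree < (q : ℕ) := by
    rcases hc0 with ⟨h1, h2⟩ | ⟨h2, -⟩
    · rw [h1, h2, map_zero, zero_mul, zero_sub, degree_neg]
      exact degree_C_le.trans_lt (by exact_mod_cast Nat.one_pos)
    · refine ((degree_sub_le _ _).trans (max_le ((degree_C_mul_X_le _)) ?_)).trans_lt (by exact_mod_cast h2)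
      exact degree_C_le.trans (by exact_mod_cast zero_le_one)
  have hf : f = X ^ q + (C c * X - C π) := by simp only [f]; ring
  have hfm : f.Monic := hf ▸ monic_X_pow_add hlow
  have hdeg : f.natDegree = q :=
    natDegree_eq_of_degree_eq_some (by rw [hf, degree_add_eq_left_of_degree_lt (by rwa [degree_X_pow]), degree_X_pow])
  have hprime : (Ideal.span {π}).IsPrime := by rw [← hπ]; infer_instance
  have hE : f.IsEisensteinAt (Ideal.span {π}) := by
    refine hfm.isEisensteinAt_of_mem_of_notMem hprime.ne_top (fun {i} hi => ?_) ?_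
    · rw [hdeg] at hi
      simp only [f, coeff_sub, coeff_add, coeff_X_pow, coeff_C_mul, coeff_X, coeff_C]
      rw [if_neg (by omega), zero_add]
      refine sub_mem ?_ ?_
      · exact Ideal.mul_mem_right _ _ hc
      · split
        · exact Ideal.mem_span_singleton_self π
        · exact zero_mem _
    · simp only [f, coeff_sub, coeff_add, coeff_X_pow, coeff_C_mul, coeff_X, coeff_C]
      rw [if_neg (by omega), if_neg (by omega), mul_zero, add_zero, zero_sub, if_pos trivial,
        Ideal.neg_mem_iff, Ideal.span_singleton_pow, Ideal.mem_span_singleton]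
      rintro ⟨e, he⟩
      have he' : π * 1 = π * (π * e) := by linear_combination he
      exact hπi.not_isUnit (IsUnit.of_mul_eq_one _ (mul_left_cancel₀ hπi.ne_zero he').symm)
  obtain ⟨hirr, hdom, hdvr, -, ⟨s, hs, hxs⟩, htot⟩ :=
    EtRamLib.Eisenstein.totallyRamified A π hπi f hfm hE q hdeg hq0
  haveI : Module.Finite A (AdjoinRoot f) := hfm.finite_adjoinRoot
  haveI : FaithfulSMul A (AdjoinRoot f) := (faithfulSMul_iff_algebraMap_injective _ _).2
    (AdjoinRoot.of.injective_of_degree_ne_zero (by
      rw [degree_eq_natDegree hfm.ne_zero, hdeg]; exact_mod_cast hq0.ne'))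
  let D := AdjoinRoot f
  let L := FractionRing D
  have hinjAL : Function.Injective (algebraMap A L) := by
    rw [IsScalarTower.algebraMap_eq A D L]
    exact (IsFractionRing.injective D L).comp (FaithfulSMul.algebraMap_injective A D)
  letI : Algebra K L := (IsFractionRing.lift hinjAL).toAlgebra
  haveI : IsScalarTower A K L :=
    IsScalarTower.of_algebraMap_eq fun a ↦ (IsFractionRing.lift_algebraMap hinjAL a).symm
  set x : D := AdjoinRoot.root f
  have hx0 : aeval x f = 0 := by rw [AdjoinRoot.aeval_eq, AdjoinRoot.mk_self]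
  have hsval : x ^ q = algebraMap A D π - algebraMap A D c * x := by
    simp only [f, map_sub, map_add, map_mul, map_pow, aeval_X, aeval_C] at hx0
    linear_combination hx0
  have hfin : Module.finrank K L = q := by
    rw [IsFractionRing.finrank_eq A K D L, (AdjoinRoot.powerBasis' hfm).finrank,
      AdjoinRoot.powerBasis'_dim, hdeg]
  haveI : FiniteDimensional K L := Module.finite_of_finrank_pos (hfin ▸ hq0)
  set xL : L := algebraMap D L x
  have hsepx : IsSeparable K xL := by
    refine Separable.of_dvd ?_ (minpoly.dvd K xL (p := f.map (algebraMap A K))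
      (by rw [aeval_map_algebraMap, aeval_algebraMap_apply, hx0, map_zero]))
    rcases hc0 with ⟨h1, h2⟩ | ⟨h2, h3⟩
    · have : f.map (algebraMap A K) = X - C (algebraMap A K π) := by simp [f, h1, h2]
      rw [this]
      exact separable_X_sub_C
    · refine (separable_iff_derivative_ne_zero ((hfm.irreducible_iff_irreducible_map_fraction_map).1 hirr)).2 ?_
      intro h0
      have := congrArg (fun g : K[X] ↦ g.coeff 0) h0
      have hf1 : f.coeff 1 = π ^ n := by
        simp only [f, coeff_sub, coeff_add, coeff_X_pow, coeff_C_mul, coeff_X, coeff_C]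
        rw [if_neg (by omega), if_pos trivial, if_neg (by omega), h3]
        ring
      simp only [coeff_derivative, zero_add, coeff_zero, coeff_map, hf1] at this
      simp [hπi.ne_zero] at this
  have hgen : IntermediateField.adjoin K {xL} = ⊤ := by
    rw [eq_top_iff]
    intro y _
    obtain ⟨a, b, _, rfl⟩ := IsFractionRing.div_surjective D y
    have hmem : ∀ d : D, algebraMap D L d ∈ IntermediateField.adjoin K {xL} := by
      intro d
      induction d using AdjoinRoot.induction_on with
      | _ r =>
        rw [← AdjoinRoot.aeval_eq, ← aeval_algebraMap_apply, ← aeval_map_algebraMap K]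
        exact IntermediateField.algebra_adjoin_le_adjoin _ _ (aeval_mem_adjoin_singleton _ _)
    exact div_mem (hmem a) (hmem b)
  have hint : ∀ d : D, algebraMap D L d ∈ integralClosure A L := fun d ↦
    (Algebra.IsIntegral.isIntegral (R := A) d).map (IsScalarTower.toAlgHom A D L)
  obtain ⟨u, hu⟩ := hs
  refine ⟨L, inferInstance, inferInstance, inferInstance, inferInstance, hfin, ?_, IsScalarTower.algebraMap_eq A D L ▸ htot L, xL,
    algebraMap D L (if q = 1 then 0 else -x),
    algebraMap D L (if q = 1 then 0 else -x * (↑u⁻¹ : D) ^ n), hint x, hint _, hint _, ?_, ?_⟩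
  · have := (IntermediateField.isSeparable_adjoin_simple_iff_isSeparable K L).2 hsepx
    rw [hgen] at this
    exact AlgEquiv.Algebra.isSeparable IntermediateField.topEquiv
  · simp only [xL]
    rw [← map_pow, hsval, map_sub, map_mul, ← IsScalarTower.algebraMap_apply,
      ← IsScalarTower.algebraMap_apply]
    rcases hc0 with ⟨h1, h2⟩ | ⟨h2, h3⟩
    · simp [h1, h2]
    · rw [if_neg (by omega), h3, map_pow, map_neg]; ring
  · simp only [xL]
    rw [← map_pow, ← map_pow, IsScalarTower.algebraMap_apply A D L, ← map_mul, ← map_add]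
    congr 1
    rcases hc0 with ⟨h1, h2⟩ | ⟨h2, h3⟩
    · rw [if_pos h1, hsval, h2]; simp
    · rw [if_neg (by omega), hsval, h3, map_pow, pow_mul', hxs, ← hu]
      have : (u : D) ^ n * (↑u⁻¹ : D) ^ n = 1 := by rw [← mul_pow, Units.mul_inv, one_pow]
      linear_combination (algebraMap A D π ^ n * x) * this

end Groth.Agent.S7157
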