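import Groth.Statements.S7159
import Groth.Agent.S7140
import Groth.Agent.EtRamLib.PRootCases
import Groth.Agent.EtRamLib.WildFixField

set_option autoImplicit false
universe u
open EtAlg

namespace Groth.Agent.S7159

open Polynomial in
/-- The basic properties of `P`. -/
lemma facts {p : ℕ} (hp : p.Prime) {A : Type u} [CommRing A] [IsDomain A] [IsLocalRing A] [CharZero A]
    [CharP (IsLocalRing.ResidueField A) p] {ζ : A} (hζ : aeval ζ (cyclotomic p ℤ) = 0) {P : A[X]}
    (hP : C ((1 - ζ) ^ p) * P = (1 + C (1 - ζ) * X) ^ p - 1) :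
    (1 - ζ) ≠ 0 ∧ (1 - ζ) ∈ IsLocalRing.maximalIdeal A ∧ IsPrimitiveRoot ζ p ∧ P.Monic ∧ P.natDegree = p ∧
      P.map (IsLocalRing.residue A) = X ^ p - X := by
  haveI := Fact.mk hp
  have hroot : (cyclotomic p A).IsRoot ζ := by
    rw [IsRoot, ← map_cyclotomic p (Int.castRingHom A), eval_map, ← hζ, aeval_def]
    rfl
  haveI : NeZero (p : A) := ⟨Nat.cast_ne_zero.2 hp.ne_zero⟩
  have hprim : IsPrimitiveRoot ζ p := isRoot_cyclotomic_iff.1 hroot
  have hl0 : (1 - ζ) ≠ 0 := sub_ne_zero.2 (hprim.ne_one hp.one_lt).symm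
  have hlm : (1 - ζ) ∈ IsLocalRing.maximalIdeal A := by
    rw [← IsLocalRing.residue_eq_zero_iff, map_sub, map_one, sub_eq_zero, eq_comm,
      ← sub_eq_zero]
    refine pow_eq_zero_iff hp.ne_zero |>.1 ?_
    rw [sub_pow_char, ← map_pow, hprim.pow_eq_one, map_one, one_pow, sub_self]
  obtain ⟨P', hP', ⟨a, ha, hPa⟩, -⟩ := S7140.result p hp A ζ hζ
  obtain rfl : P = P' := mul_left_cancel₀ (C_ne_zero.2 (pow_ne_zero _ hl0)) (hP.trans hP'.symm)
  have hdeg : ((Finset.Ioo 0 p).sum (fun i => C (a i) * X ^ i) - X).degree < (p : WithBot ℕ) := by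
    refine (degree_sub_le _ _).trans_lt (max_lt ?_ (degree_X_le.trans_lt (by exact_mod_cast hp.one_lt)))
    refine (degree_sum_le _ _).trans_lt ((Finset.sup_lt_iff (WithBot.bot_lt_coe p)).2 fun i hi ↦ ?_)
    exact (degree_C_mul_X_pow_le _ _).trans_lt (WithBot.coe_lt_coe.2 (Finset.mem_Ioo.1 hi).2)
  have hPe : P = X ^ p + ((Finset.Ioo 0 p).sum (fun i => C (a i) * X ^ i) - X) := by rw [hPa]; ring
  refine ⟨hl0, hlm, hprim, hPe ▸ monic_X_pow_add hdeg,
    natDegree_eq_of_degree_eq_some (by rw [hPe, degree_add_eq_left_of_degree_lt (by rwa [degree_X_pow]), degree_X_pow]), ?_⟩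
  have hzero : ((Finset.Ioo 0 p).sum (fun i => C (a i) * X ^ i)).map (IsLocalRing.residue A) = 0 := by
    rw [Polynomial.map_sum]
    refine Finset.sum_eq_zero fun i _ ↦ ?_
    rw [Polynomial.map_mul, map_C, (IsLocalRing.residue_eq_zero_iff _).2, map_zero, zero_mul]
    exact (Ideal.span_singleton_le_iff_mem _).2 hlm (ha i)
  rw [hPa, Polynomial.map_add, hzero]
  simp

section

variable {A K L : Type u} [CommRing A] [IsDomain A] [IsDiscreteValuationRing A] [Field K] [Algebra A K]
  [IsFractionRing A K] [Field L] [Algebra K L] [Algebra A L] [IsScalarTower A K L]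
  {p : ℕ} {ζ : A} {P : Polynomial A}

open Polynomial in
lemma pow_eq (hP : C ((1 - ζ) ^ p) * P = (1 + C (1 - ζ) * X) ^ p - 1) (z : L) :
    algebraMap A L (1 - ζ) ^ p * aeval z P = (1 + algebraMap A L (1 - ζ) * z) ^ p - 1 := by
  have := congrArg (aeval z) hP
  simpa only [map_mul, aeval_C, map_pow, map_sub, map_add, map_one, aeval_X] using this

open Polynomial in
/-- changing `y = 1 + λ z` into `y s` -/
lemma scale (hl : (1 - ζ) ≠ 0) (hP : C ((1 - ζ) ^ p) * P = (1 + C (1 - ζ) * X) ^ p - 1) {ξ : K} {z : L}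
    (hz : aeval z P = algebraMap K L ξ) (hgen : IntermediateField.adjoin K {z} = ⊤) {s : K} (hs : s ≠ 0) :
    ∃ z' : L, aeval z' P = algebraMap K L (((1 + algebraMap A K (1 - ζ) ^ p * ξ) * s ^ p - 1) / algebraMap A K (1 - ζ) ^ p) ∧
      IntermediateField.adjoin K {z'} = ⊤ := by
  have hlL : algebraMap A L (1 - ζ) = algebraMap K L (algebraMap A K (1 - ζ)) := IsScalarTower.algebraMap_apply A K L _
  have hlK : algebraMap A K (1 - ζ) ≠ 0 := (map_ne_zero_iff _ (IsFractionRing.injective A K)).2 hl
  set l := algebraMap A K (1 - ζ) with hldef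
  have hl0 : algebraMap K L l ≠ 0 := (_root_.map_ne_zero _).2 hlK
  have hs0 : algebraMap K L s ≠ 0 := (_root_.map_ne_zero _).2 hs
  set z' : L := ((1 + algebraMap K L l * z) * algebraMap K L s - 1) / algebraMap K L l with hz'
  have h1 : 1 + algebraMap K L l * z' = (1 + algebraMap K L l * z) * algebraMap K L s := by
    rw [hz', mul_div_cancel₀ _ hl0]; ring
  refine ⟨z', ?_, ?_⟩
  · have e := pow_eq (L := L) hP z
    have e' := pow_eq (L := L) hP z'
    rw [hlL] at e e'
    rw [h1, mul_pow] at e'
    rw [hz] at e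
    apply mul_left_cancel₀ (pow_ne_zero p hl0)
    rw [e', map_div₀, map_pow, mul_div_cancel₀ _ (pow_ne_zero p hl0), map_sub, map_mul, map_add, map_mul, map_one,
      map_pow, map_pow, e]
    ring
  · rw [eq_top_iff, ← hgen, IntermediateField.adjoin_simple_le_iff]
    have hzz : z = ((1 + algebraMap K L l * z') / algebraMap K L s - 1) / algebraMap K L l := by
      rw [h1, mul_div_cancel_right₀ _ hs0, add_sub_cancel_left, mul_div_cancel_left₀ _ hl0]
    rw [hzz]
    have hm := IntermediateField.mem_adjoin_simple_self K z'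
    exact div_mem (sub_mem (div_mem (add_mem (one_mem _) (mul_mem (IntermediateField.algebraMap_mem _ _) hm))
      (IntermediateField.algebraMap_mem _ _)) (one_mem _)) (IntermediateField.algebraMap_mem _ _)

open Polynomial in
lemma lower_terms (hPm : P.Monic) (hPd : P.natDegree = p) {ξ : K} {z : L}
    (hz : aeval z P = algebraMap K L ξ) :
    z ^ p = algebraMap K L ξ + ∑ i : Fin p, algebraMap K L (algebraMap A K (-P.coeff i)) * z ^ (i : ℕ) := by
  rw [Fin.sum_univ_eq_sum_range (fun i ↦ algebraMap K L (algebraMap A K (-P.coeff i)) * z ^ i) p, ← hz,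
    aeval_eq_sum_range, hPd, Finset.sum_range_succ]
  conv_rhs => arg 1; arg 2; rw [← hPd, hPm.coeff_natDegree, one_smul, hPd]
  simp only [map_neg, neg_mul, Finset.sum_neg_distrib, Algebra.smul_def, ← IsScalarTower.algebraMap_apply]
  ring

open Polynomial in
lemma unramified [FiniteDimensional K L] [IsGalois K L] [CharP (IsLocalRing.ResidueField A) p]
    (hPm : P.Monic) (hPd : P.natDegree = p) (hp : p.Prime)
    (hPmap : P.map (IsLocalRing.residue A) = X ^ p - X) {a : A} {z : L}
    (hz : aeval z P = algebraMap K L (algebraMap A K a)) (hgen : IntermediateField.adjoin K {z} = ⊤) :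
    EtRam.IsUnramifiedExt A ((algebraMap K L).comp (algebraMap A K)) := by
  refine EtRamLib.WildFixField.isUnramifiedExt_of_fixed (N := L) L fun W hW σ hσ ↦ ?_
  have hAW : ∀ b : A, algebraMap A L b ∈ W := fun b ↦ by
    rw [IsScalarTower.algebraMap_apply A K L]; exact hW.1 b
  have hzW : z ∈ W := by
    letI : Algebra A W := (RingHom.codRestrict (algebraMap A L) W hAW).toAlgebra
    haveI : IsScalarTower A W L := IsScalarTower.of_algebraMap_eq fun _ ↦ rfl
    have hint : IsIntegral A z := by
      refine ⟨P - C a, hPm.sub_of_left (degree_C_le.trans_lt ?_), ?_⟩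
      · rw [degree_eq_natDegree hPm.ne_zero, hPd]; exact_mod_cast hp.pos
      · rw [← aeval_def, map_sub, aeval_C, hz, ← IsScalarTower.algebraMap_apply, sub_self]
    obtain ⟨y, hy⟩ := IsIntegrallyClosed.isIntegral_iff.1 (hint.tower_top (A := W))
    exact hy ▸ y.2
  have hd : (derivative P + 1).map (IsLocalRing.residue A) = 0 := by
    rw [Polynomial.map_add, ← derivative_map, hPmap]
    simp [derivative_X_pow, CharP.cast_eq_zero]
  have hlt : W.valuation (aeval z (derivative P + 1)) < 1 := by
    rw [aeval_eq_sum_range]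
    refine Valuation.map_sum_lt _ one_ne_zero fun i _ ↦ ?_
    rw [Algebra.smul_def, map_mul, map_pow]
    refine mul_lt_one_of_lt_of_le ?_ (pow_le_one₀ zero_le ((W.valuation_le_one_iff z).2 hzW))
    rw [IsScalarTower.algebraMap_apply A K L]
    refine hW.2 _ ((IsLocalRing.residue_eq_zero_iff _).1 ?_)
    rw [← coeff_map, hd, coeff_zero]
  have hfix : σ z = z := by
    by_contra hne
    have hyW : σ z - z ∈ W := (W.valuation_le_one_iff _).1 (hσ z hzW).le
    obtain ⟨k, hk⟩ := binomExpansion (P.map ((algebraMap A L).codRestrict W hAW)) ⟨z, hzW⟩ ⟨σ z - z, hyW⟩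
    replace hk := congrArg W.subtype hk
    rw [map_add, map_add, derivative_map] at hk
    simp only [map_mul, map_pow, eval_map, hom_eval₂] at hk
    have hσz : aeval (σ z) P = aeval z P := by
      rw [show σ z = (σ.toAlgHom.restrictScalars A) z from rfl, aeval_algHom_apply, hz]
      exact σ.commutes _
    change aeval (z + (σ z - z)) P = aeval z P + aeval z (derivative P) * (σ z - z) + (k : L) * (σ z - z) ^ 2 at hk
    rw [add_sub_cancel, hσz, sq, ← mul_assoc, add_assoc, ← add_mul, left_eq_add] at hk
    have hk' := (mul_eq_zero.1 hk).resolve_right (sub_ne_zero.2 hne)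
    have hkW : W.valuation (aeval z (derivative P)) < 1 := by
      rw [eq_neg_of_add_eq_zero_left hk', Valuation.map_neg, map_mul]
      exact (mul_le_of_le_one_left' ((W.valuation_le_one_iff _).2 k.2)).trans_lt (hσ z hzW)
    have h1 : W.valuation (aeval z (derivative P + 1) - aeval z (derivative P)) < 1 :=
      (Valuation.map_sub _ _ _).trans_lt (max_lt hlt hkW)
    rw [map_add, map_one, add_sub_cancel_left, map_one] at h1
    exact lt_irrefl _ h1
  intro x
  have hx : x ∈ IntermediateField.adjoin K {z} := hgen ▸ IntermediateField.mem_top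
  change σ x = x
  induction hx using IntermediateField.adjoin_induction with
  | mem y hy => rw [Set.mem_singleton_iff.1 hy]; exact hfix
  | algebraMap c => exact σ.commutes c
  | add y y' _ _ hy hy' => rw [map_add, hy, hy']
  | inv y _ hy => rw [map_inv₀, hy]
  | mul y y' _ _ hy hy' => rw [map_mul, hy, hy']

end

open Polynomial in
/-- Let A be a discrete valuation ring whose fraction field K has characteristic 0 and whose residue
field has characteristic p, and suppose A contains an element ζ with 1 + ζ + ... + ζ^(p-1) = 0 (a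
primitive p-th root of unity); set w = 1 - ζ and let P in A[t] be the polynomial with w^p·P(t) = (1
+ wt)^p - 1. Let ξ be an element of K and let L = K(z) be obtained by adjoining a root z of P(z) =
ξ. Then L/K is a Galois extension, and it falls under one of four cases: (1) L = K; (2) L/K has
degree p and is unramified with respect to A; (3) L/K has degree p and is totally ramified with
respect to A (ramification index p); (4) exactly one valuation ring of L dominates A (so B, the
integral closure of A in L, is itself a discrete valuation ring), the extension A → B is weakly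
unramified, and its residue field extension is purely inseparable of degree p. Moreover, with π a
uniformizer of A: (A) if ξ lies in A, case (1) or (2) holds; (B) if ξ = π⁻ⁿa with n > 0 prime to p
and a a unit of A, case (3) holds; (C) if ξ = π⁻ⁿa with n > 0 divisible by p and the residue class
of a not a p-th power, case (4) holds. -/
theorem result (p : ℕ) (hp : p.Prime) (A K L : Type u) [CommRing A] [IsDomain A]
    [IsDiscreteValuationRing A] [Field K] [Algebra A K] [IsFractionRing A K] [Field L] [Algebra K L] [Algebra A L]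
    [IsScalarTower A K L] [CharZero K] [CharP (IsLocalRing.ResidueField A) p] (ζ : A)
    (hζ : aeval ζ (cyclotomic p ℤ) = 0) (P : A[X]) (hP : C ((1 - ζ) ^ p) * P = (1 + C (1 - ζ) * X) ^ p - 1) (π : A) (hπ : IsLocalRing.maximalIdeal A = Ideal.span {π})
    (ξ : K) (z : L) (hz : aeval z P = algebraMap K L ξ) (hgen : IntermediateField.adjoin K {z} = ⊤) :
    let g : A →+* L := algebraMap A L
    let case1 : Prop := Module.finrank K L = 1
    let case2 : Prop := EtRam.IsUnramifiedExt A g ∧ Module.finrank K L = p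
    let case3 : Prop := EtRam.IsTotallyRamified A g ∧ Module.finrank K L = p
    let case4 : Prop := (∃ V : ValuationSubring L, EtRam.Dominates A g V) ∧
      (∀ V V' : ValuationSubring L, EtRam.Dominates A g V → EtRam.Dominates A g V' → V = V') ∧
      ∀ (V : ValuationSubring L) (h : EtRam.Dominates A g V),
        letI : Algebra A V := (RingHom.codRestrict g V h.1).toAlgebra
        ∀ [IsLocalHom (algebraMap A V)],
          EtRam.IsWeaklyUnramified A V ∧
            IsPurelyInseparable (IsLocalRing.ResidueField A) (IsLocalRing.ResidueField V) ∧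
            Module.finrank (IsLocalRing.ResidueField A) (IsLocalRing.ResidueField V) = p
    IsGalois K L ∧ (case1 ∨ case2 ∨ case3 ∨ case4) ∧
      ((∃ a : A, algebraMap A K a = ξ) → case1 ∨ case2) ∧
      (∀ (n : ℕ) (a : Aˣ), 0 < n → ¬ p ∣ n → ξ * algebraMap A K π ^ n = algebraMap A K a → case3) ∧
      (∀ (n : ℕ) (a : A), 0 < n → p ∣ n → (∀ r : A, IsLocalRing.residue A a ≠ IsLocalRing.residue A r ^ p) →
          ξ * algebraMap A K π ^ n = algebraMap A K a → case4) := by
  intro g case1 case2 case3 case4
  have hg : g = (algebraMap K L).comp (algebraMap A K) := IsScalarTower.algebraMap_eq A K L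
  haveI : CharZero A := (algebraMap A K).charZero
  obtain ⟨hl, hlm, hprim, hPm, hPd, hPmap⟩ := facts hp hζ hP
  set lK : K := algebraMap A K (1 - ζ) with hlK
  have hinj := IsFractionRing.injective A K
  have hl0 : lK ≠ 0 := (map_ne_zero_iff _ hinj).2 hl
  have hl0' : algebraMap K L lK ≠ 0 := (_root_.map_ne_zero _).2 hl0
  have hprimK : IsPrimitiveRoot (algebraMap A K ζ) p := hprim.map_of_injective hinj
  have hπi : Irreducible π := (IsDiscreteValuationRing.irreducible_iff_uniformizer π).2 hπ
  have hπ0 : algebraMap A K π ≠ 0 := (map_ne_zero_iff _ hinj).2 hπi.ne_zero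
  -- `y = 1 + λ z` generates and is a `p`-th root of `c = 1 + λ ^ p ξ`
  set y : L := 1 + algebraMap K L lK * z with hy
  set c : K := 1 + lK ^ p * ξ with hc
  have hyp : y ^ p = algebraMap K L c := by
    have := pow_eq (L := L) hP z
    rw [hz, IsScalarTower.algebraMap_apply A K L] at this
    rw [hy, hc, map_add, map_one, map_mul, map_pow, hlK, this]
    ring
  have hygen : IntermediateField.adjoin K {y} = ⊤ := by
    rw [eq_top_iff, ← hgen, IntermediateField.adjoin_simple_le_iff]
    have : z = (y - 1) / algebraMap K L lK := by rw [hy, add_sub_cancel_left, mul_div_cancel_left₀ _ hl0']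
    rw [this]
    exact div_mem (sub_mem (IntermediateField.mem_adjoin_simple_self K y) (one_mem _))
      (IntermediateField.algebraMap_mem _ _)
  have hgal : IsGalois K L ∧ FiniteDimensional K L ∧ (Module.finrank K L = 1 ∨ Module.finrank K L = p) := by
    have hroot : aeval y (X ^ p - C c : K[X]) = 0 := by simp [hyp]
    have hyi : IsIntegral K y := ⟨X ^ p - C c, monic_X_pow_sub_C c hp.ne_zero, by rwa [← aeval_def]⟩
    have hfin : FiniteDimensional K L := by
      haveI := IntermediateField.adjoin.finiteDimensional (K := K) hyi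
      exact Module.Finite.equiv ((IntermediateField.equivOfEq hygen).trans IntermediateField.topEquiv).toLinearEquiv
    have hdeg : Module.finrank K L = (minpoly K y).natDegree := by
      rw [← IntermediateField.finrank_top', ← hygen, IntermediateField.adjoin.finrank hyi]
    by_cases hb : ∃ b : K, b ^ p = c
    · obtain ⟨b, hb⟩ := hb
      haveI : NeZero p := ⟨hp.ne_zero⟩
      obtain ⟨b', hb'⟩ : ∃ b' : K, algebraMap K L b' = y := by
        rcases eq_or_ne b 0 with rfl | hb0
        · refine ⟨0, ?_⟩
          rw [map_zero, eq_comm, ← pow_eq_zero_iff hp.ne_zero, hyp, ← hb, zero_pow hp.ne_zero, map_zero]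
        · have hb0' : algebraMap K L b ≠ 0 := (_root_.map_ne_zero _).2 hb0
          obtain ⟨i, -, hi⟩ := (hprimK.map_of_injective (algebraMap K L).injective).eq_pow_of_pow_eq_one
            (ξ := y / algebraMap K L b) (by rw [div_pow, hyp, ← hb, map_pow, div_self (pow_ne_zero _ hb0')])
          exact ⟨algebraMap A K ζ ^ i * b, by rw [map_mul, map_pow, hi, div_mul_cancel₀ _ hb0']⟩
      have h1 : Module.finrank K L = 1 := by rw [hdeg, ← hb', minpoly.eq_X_sub_C, natDegree_X_sub_C]
      refine ⟨?_, hfin, Or.inl h1⟩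
      haveI : IsSplittingField K L (X - C b') :=
        ⟨by simp [Polynomial.Splits.X_sub_C],
          eq_top_iff.2 ((Subalgebra.bot_eq_top_iff_finrank_eq_one.2 h1).ge.trans bot_le)⟩
      exact IsGalois.of_separable_splitting_field (separable_X_sub_C (x := b'))
    · push Not at hb
      have hirr := X_pow_sub_C_irreducible_of_prime hp hb
      have hd : Module.finrank K L = p := by
        rw [hdeg, ← minpoly.eq_of_irreducible_of_monic hirr hroot (monic_X_pow_sub_C c hp.ne_zero),
          natDegree_X_pow_sub_C]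
      have hprim' : (primitiveRoots p K).Nonempty := ⟨_, (mem_primitiveRoots hp.pos).2 hprimK⟩
      haveI : IsSplittingField K L (X ^ p - C c) := by
        have := isSplittingField_X_pow_sub_C_of_root_adjoin_eq_top (K := K) (L := L) (by rw [hd]; exact hprim')
          (a := c) (α := y) (by rw [hd]; exact hyp) hygen
        rwa [hd] at this
      exact ⟨isGalois_of_isSplittingField_X_pow_sub_C hprim' hirr L, hfin, Or.inr hd⟩
  obtain ⟨hgal', hfin, hrank⟩ := hgal
  have hA : ∀ (ξ' : K) (z' : L), aeval z' P = algebraMap K L ξ' → IntermediateField.adjoin K {z'} = ⊤ →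
      (∃ a : A, algebraMap A K a = ξ') → case1 ∨ case2 := by
    rintro ξ' z' hz' hgen' ⟨a, rfl⟩
    rcases hrank with h | h
    · exact Or.inl h
    · exact Or.inr ⟨hg ▸ unramified hPm hPd hp hPmap hz' hgen', h⟩
  have hB : ∀ (ξ' : K) (z' : L), aeval z' P = algebraMap K L ξ' → IntermediateField.adjoin K {z'} = ⊤ →
      ∀ (n : ℕ) (a : Aˣ), 0 < n → ¬ p ∣ n → ξ' * algebraMap A K π ^ n = algebraMap A K a → case3 := by
    intro ξ' z' hz' hgen' n a hn hpn h
    change EtRam.IsTotallyRamified A g ∧ _
    rw [hg]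
    exact EtRamLib.PRootCases.totallyRamified A π hπ p hp ξ' z' (fun i ↦ -P.coeff i)
      (lower_terms hPm hPd hz') hgen' n a hn hpn h
  have hC : ∀ (ξ' : K) (z' : L), aeval z' P = algebraMap K L ξ' → IntermediateField.adjoin K {z'} = ⊤ →
      ∀ (n : ℕ) (a : A), 0 < n → p ∣ n → (∀ r : A, IsLocalRing.residue A a ≠ IsLocalRing.residue A r ^ p) →
        ξ' * algebraMap A K π ^ n = algebraMap A K a → case4 := by
    intro ξ' z' hz' hgen' n a hn hpn hr h
    obtain ⟨m, rfl⟩ := hpn
    have hm : 0 < m := pos_of_mul_pos_right hn (Nat.zero_le _)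
    set q : L := algebraMap K L (algebraMap A K π) ^ m with hq
    have hq0 : q ≠ 0 := pow_ne_zero _ ((_root_.map_ne_zero _).2 hπ0)
    change _ ∧ _
    rw [hg]
    refine EtRamLib.PRootCases.inseparable A π hπ p hp (z' * q) a (fun i ↦ -P.coeff i * π ^ (m * (p - i))) (fun i ↦ ?_) ?_ ?_ hr
    · rw [hπ, Ideal.mem_span_singleton]
      exact Dvd.dvd.mul_left (dvd_pow_self π (Nat.mul_ne_zero hm.ne' (Nat.sub_ne_zero_of_lt i.2))) _
    · rw [mul_pow, lower_terms hPm hPd hz', add_mul, Finset.sum_mul]
      congr 1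
      · rw [← h, map_mul, map_pow, hq, ← pow_mul, mul_comm m p]
      · refine Finset.sum_congr rfl fun i _ ↦ ?_
        have hqi : q ^ p = algebraMap K L (algebraMap A K π) ^ (m * (p - i)) * q ^ (i : ℕ) := by
          rw [hq, ← pow_mul, ← pow_mul, ← pow_add, ← Nat.mul_add, Nat.sub_add_cancel i.2.le]
        simp only [map_mul, map_pow, mul_pow, hqi]
        ring
    · rw [eq_top_iff, ← hgen', IntermediateField.adjoin_simple_le_iff]
      have := div_mem (IntermediateField.mem_adjoin_simple_self K (z' * q))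
        (pow_mem (IntermediateField.algebraMap_mem (IntermediateField.adjoin K {z' * q}) (algebraMap A K π)) m)
      rwa [← hq, mul_div_cancel_right₀ _ hq0] at this
  refine ⟨hgal', ?_, hA ξ z hz hgen, hB ξ z hz hgen, hC ξ z hz hgen⟩
  -- reduction to the normal forms
  obtain ⟨e, u, hu⟩ := IsDiscreteValuationRing.eq_unit_mul_pow_irreducible hl hπi
  have hlK' : lK = algebraMap A K u * algebraMap A K π ^ e := by rw [hlK, hu, map_mul, map_pow]
  have he : 0 < e := by
    rcases Nat.eq_zero_or_pos e with rfl | h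
    · rw [pow_zero, mul_one] at hu
      exact absurd (hu ▸ u.isUnit) hlm
    · exact h
  have hu0 : algebraMap A K (u : A) ≠ 0 := (u.isUnit.map _).ne_zero
  have key : ∀ (n : ℕ), n ≤ p * e → ∀ (ξ' : K) (z' : L), aeval z' P = algebraMap K L ξ' →
      IntermediateField.adjoin K {z'} = ⊤ → (∃ cu : Aˣ, 1 + lK ^ p * ξ' = algebraMap A K cu) →
      (∃ a : A, ξ' * algebraMap A K π ^ n = algebraMap A K a) → case1 ∨ case2 ∨ case3 ∨ case4 := by
    intro n
    induction n using Nat.strong_induction_on with
    | _ n ih =>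
      rintro hne ξ' z' hz' hgen' ⟨cu, hcu⟩ ⟨a, ha⟩
      rcases Nat.eq_zero_or_pos n with rfl | hn
      · rw [pow_zero, mul_one] at ha
        rcases hA ξ' z' hz' hgen' ⟨a, ha.symm⟩ with h | h
        · exact Or.inl h
        · exact Or.inr (Or.inl h)
      by_cases hau : IsUnit a
      swap
      · obtain ⟨b, rfl⟩ : π ∣ a := by
          rw [← Ideal.mem_span_singleton, ← hπ]; exact (IsLocalRing.mem_maximalIdeal a).2 hau
        refine ih (n - 1) (by omega) (by omega) ξ' z' hz' hgen' ⟨cu, hcu⟩ ⟨b, ?_⟩
        apply mul_right_cancel₀ hπ0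
        rw [mul_assoc, ← pow_succ, Nat.sub_add_cancel hn, ha, map_mul, mul_comm]
      by_cases hpn : p ∣ n
      swap
      · exact Or.inr (Or.inr (Or.inl (hB ξ' z' hz' hgen' n hau.unit hn hpn ha)))
      by_cases hr : ∀ r : A, IsLocalRing.residue A a ≠ IsLocalRing.residue A r ^ p
      · exact Or.inr (Or.inr (Or.inr (hC ξ' z' hz' hgen' n a hn hpn hr ha)))
      push Not at hr
      obtain ⟨r, hr⟩ := hr
      obtain ⟨m, rfl⟩ := hpn
      have hme : m ≤ e := Nat.le_of_mul_le_mul_left hne hp.pos
      have hm : 0 < m := pos_of_mul_pos_right hn (Nat.zero_le _)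
      -- `η = r / π ^ m`
      set S : A := ∑ i ∈ Finset.range (p + 1), P.coeff i * r ^ i * π ^ (m * (p - i)) with hS
      obtain ⟨b, hb⟩ : π ∣ a - S := by
        have h1 : π ∣ S - r ^ p := by
          rw [hS, Finset.sum_range_succ, ← hPd, hPm.coeff_natDegree, hPd, Nat.sub_self, mul_zero, pow_zero,
            mul_one, one_mul, add_sub_cancel_right]
          refine Finset.dvd_sum fun i hi ↦ Dvd.dvd.mul_left (dvd_pow_self π ?_) _
          exact Nat.mul_ne_zero hm.ne' (Nat.sub_ne_zero_of_lt (Finset.mem_range.1 hi))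
        have h2 : π ∣ a - r ^ p := by
          rw [← Ideal.mem_span_singleton, ← hπ]
          exact (IsLocalRing.residue_eq_zero_iff _).1 (by rw [map_sub, map_pow, hr, sub_self])
        simpa using dvd_sub h2 h1
      set t : A := 1 + u * r * π ^ (e - m) with ht
      have htK : algebraMap A K t = 1 + lK * (algebraMap A K r / algebraMap A K π ^ m) := by
        have hpow : algebraMap A K π ^ (e - m) * algebraMap A K π ^ m = algebraMap A K π ^ e := by
          rw [← pow_add, Nat.sub_add_cancel hme]
        rw [ht, hlK', map_add, map_one, map_mul, map_mul, map_pow, ← hpow]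
        field_simp
      set T : A := (u : A) ^ p * π ^ (p * (e - m)) with hT
      have hTK : algebraMap A K T * algebraMap A K π ^ (p * m) = lK ^ p := by
        rw [hT, hlK', map_mul, map_pow, map_pow, mul_pow, ← pow_mul, mul_assoc, ← pow_add, ← Nat.mul_add,
          Nat.sub_add_cancel hme, mul_comm p e]
      have htp : algebraMap A K (t ^ p) = 1 + algebraMap A K (T * S) := by
        have he1 := pow_eq (L := K) hP (algebraMap A K r / algebraMap A K π ^ m)
        rw [← hlK, ← htK, aeval_eq_sum_range, hPd, eq_sub_iff_add_eq] at he1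
        rw [map_pow, ← he1, add_comm, add_right_inj, hS, map_mul, map_sum, Finset.mul_sum, Finset.mul_sum]
        refine Finset.sum_congr rfl fun i hi ↦ ?_
        have hmi : algebraMap A K π ^ (m * (p - i)) * (algebraMap A K π ^ m) ^ i = algebraMap A K π ^ (p * m) := by
          rw [← pow_mul, ← pow_add, ← Nat.mul_add, Nat.sub_add_cancel (Nat.le_of_lt_succ (Finset.mem_range.1 hi)),
            mul_comm m p]
        rw [Algebra.smul_def, ← hTK, ← hmi, map_mul, map_mul, map_pow, map_pow, div_pow]
        field_simp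
        simp only [map_mul, map_pow]
        ring
      have hcK : algebraMap A K cu = algebraMap A K (1 + T * a) := by
        rw [← hcu, map_add, map_one, map_mul, ← ha, ← hTK]; ring
      have htu : IsUnit t := by
        refine (isUnit_pow_iff hp.ne_zero).1 ?_
        have hval : t ^ p = cu - π * (T * b) := by
          apply hinj
          rw [htp, map_sub, hcK, ← map_sub, ← map_one (algebraMap A K), ← map_add]
          congr 1
          linear_combination -T * hb
        rw [hval]
        by_contra hnu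
        refine (IsLocalRing.mem_maximalIdeal _).1 ?_ cu.isUnit
        have hmem : π * (T * b) ∈ IsLocalRing.maximalIdeal A := by
          rw [hπ]; exact Ideal.mem_span_singleton.2 (dvd_mul_right _ _)
        simpa using add_mem ((IsLocalRing.mem_maximalIdeal _).2 hnu) hmem
      set s : K := algebraMap A K (↑htu.unit⁻¹ : A) with hs
      have hst : s * algebraMap A K t = 1 := by rw [hs, ← map_mul, htu.val_inv_mul, map_one]
      obtain ⟨z'', hz'', hgen''⟩ := scale hl hP hz' hgen' (left_ne_zero_of_mul_eq_one hst)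
      refine ih (p * m - 1) (by omega) (by omega) _ z'' hz'' hgen'' ⟨cu * htu.unit⁻¹ ^ p, ?_⟩
        ⟨b * (↑htu.unit⁻¹ : A) ^ p, ?_⟩
      · rw [mul_div_cancel₀ _ (pow_ne_zero _ hl0), add_sub_cancel, hcu, Units.val_mul, Units.val_pow_eq_pow_val,
          map_mul, map_pow]
      · apply mul_right_cancel₀ hπ0
        rw [mul_assoc, ← pow_succ, Nat.sub_add_cancel hn, div_mul_eq_mul_div, div_eq_iff (pow_ne_zero _ hl0),
          map_mul, map_pow, ← hs]
        have hts : algebraMap A K (t ^ p) * s ^ p = 1 := by rw [map_pow, ← mul_pow, mul_comm, hst, one_pow]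
        have hbK : algebraMap A K a - algebraMap A K S = algebraMap A K π * algebraMap A K b := by
          rw [← map_sub, hb, map_mul]
        rw [htp, map_mul] at hts
        have h1 := hcu.trans hcK
        rw [map_add, map_one, map_mul] at h1
        rw [← hlK]
        linear_combination (algebraMap A K π ^ (p * m)) * hts + (s ^ p * algebraMap A K π ^ (p * m)) * h1 + (s ^ p * lK ^ p) * hbK + (s ^ p * (algebraMap A K a - algebraMap A K S)) * hTK
  -- the valuation of `c`
  by_cases hc0 : c = 0
  · left
    rcases hrank with h | h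
    · exact h
    · exfalso
      have hy0 : y = 0 := by rwa [hc0, map_zero, pow_eq_zero_iff hp.ne_zero] at hyp
      have hbot : (⊤ : IntermediateField K L) = ⊥ := by rw [← hygen, hy0, IntermediateField.adjoin_zero]
      have := IntermediateField.finrank_top' (F := K) (E := L)
      rw [hbot, IntermediateField.finrank_bot, h] at this
      exact hp.one_lt.ne this
  obtain ⟨x, w, hw, hxw⟩ := IsFractionRing.div_surjective A c
  have hx0 : x ≠ 0 := fun h ↦ hc0 (by rw [← hxw, h, map_zero, zero_div])
  obtain ⟨j, ux, hux⟩ := IsDiscreteValuationRing.eq_unit_mul_pow_irreducible hx0 hπi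
  obtain ⟨i, uw, huw⟩ := IsDiscreteValuationRing.eq_unit_mul_pow_irreducible (nonZeroDivisors.ne_zero hw) hπi
  set J : ℕ := j + i * (p - 1) with hJ
  have hcs : ∀ k : ℕ, c * (algebraMap A K π ^ i / algebraMap A K π ^ k) ^ p * algebraMap A K π ^ (k * p) =
      algebraMap A K (ux * uw⁻¹ : Aˣ) * algebraMap A K π ^ J := by
    intro k
    rw [← hxw, hux, huw, map_mul, map_mul, map_pow, map_pow, div_pow, ← pow_mul, ← pow_mul, mul_assoc,
      div_mul_cancel₀ _ (pow_ne_zero _ hπ0), Units.val_mul, map_mul, map_units_inv, hJ, pow_add]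
    have hw0 : algebraMap A K (uw : A) ≠ 0 := (uw.isUnit.map _).ne_zero
    have hip : algebraMap A K π ^ (i * p) = algebraMap A K π ^ i * algebraMap A K π ^ (i * (p - 1)) := by
      rw [← pow_add]; congr 1; rw [Nat.mul_sub, mul_one]; have := Nat.le_mul_of_pos_right i hp.pos; omega
    rw [hip]
    field_simp
  have hs0 : ∀ k : ℕ, algebraMap A K π ^ i / algebraMap A K π ^ k ≠ 0 := fun k ↦
    div_ne_zero (pow_ne_zero _ hπ0) (pow_ne_zero _ hπ0)
  by_cases hpJ : p ∣ J
  · obtain ⟨k, hk⟩ := hpJ
    obtain ⟨z', hz', hgen'⟩ := scale hl hP hz hgen (hs0 k)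
    have h' := hcs k
    rw [hk, mul_comm p k] at h'
    replace h' := mul_right_cancel₀ (pow_ne_zero _ hπ0) h'
    refine key (p * e) le_rfl _ z' hz' hgen' ⟨ux * uw⁻¹, ?_⟩
      ⟨((↑(ux * uw⁻¹) : A) - 1) * (↑(u⁻¹ ^ p) : A), ?_⟩
    · rw [mul_div_cancel₀ _ (pow_ne_zero _ hl0), add_sub_cancel, ← h', hc]
    · rw [← hlK, ← hc, h', hlK', map_mul, map_sub, map_one, Units.val_pow_eq_pow_val, map_pow, map_units_inv, mul_pow,
        ← pow_mul, mul_comm e p, inv_pow]
      field_simp
  · obtain ⟨z', hz', hgen'⟩ := scale hl hP hz hgen (hs0 (J / p + 1))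
    set l : ℕ := p - J % p with hldef
    have hJl : (J / p + 1) * p = J + l := by
      have := Nat.mod_add_div J p
      have := Nat.mod_lt J hp.pos
      rw [add_mul, one_mul, mul_comm, hldef]
      omega
    have hl' : ¬ p ∣ l := by
      intro hd
      have h1 : J % p ≠ 0 := fun h ↦ hpJ (Nat.dvd_of_mod_eq_zero h)
      have := Nat.mod_lt J hp.pos
      have := Nat.le_of_dvd (by omega) hd
      omega
    have hlpos : 0 < l := Nat.pos_of_ne_zero fun h ↦ hl' (h ▸ dvd_zero p)
    have h' := hcs (J / p + 1)
    rw [hJl, pow_add _ J l, ← mul_assoc, mul_right_comm _ (algebraMap A K π ^ J)] at h'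
    replace h' := mul_right_cancel₀ (pow_ne_zero _ hπ0) h'
    have hunit : IsUnit ((↑(ux * uw⁻¹) : A) - π ^ l) := by
      by_contra hnu
      refine (IsLocalRing.mem_maximalIdeal _).1 ?_ (ux * uw⁻¹).isUnit
      have hmem : π ^ l ∈ IsLocalRing.maximalIdeal A := by
        rw [hπ]; exact Ideal.mem_span_singleton.2 (dvd_pow_self π hlpos.ne')
      simpa using add_mem ((IsLocalRing.mem_maximalIdeal _).2 hnu) hmem
    refine Or.inr (Or.inr (Or.inl (hB _ z' hz' hgen' (l + p * e) (hunit.unit * u⁻¹ ^ p) (by omega) ?_ ?_)))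
    · rwa [Nat.dvd_add_left (dvd_mul_right p e)]
    · rw [← hlK, ← hc, hlK', Units.val_mul, IsUnit.unit_spec, map_mul, map_sub, map_pow, ← h', Units.val_pow_eq_pow_val, map_pow,
        map_units_inv, mul_pow, ← pow_mul, mul_comm e p, inv_pow, pow_add]
      field_simp
      ring

end Groth.Agent.S7159
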