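import Groth.Statements.S7160
import Mathlib.Algebra.Homology.DerivedCategory.Linear
import Mathlib.Algebra.Homology.DerivedCategory.HomologySequence
import Mathlib.Algebra.Homology.ShortComplex.Linear
import Mathlib.Algebra.Homology.ShortComplex.ModuleCat


set_option autoImplicit false
universe u
open CategoryTheory CategoryTheory.Pretriangulated
attribute [local instance] HasDerivedCategory.standard
open CAlg

namespace Groth.Agent.S7160

lemma map_smul_id (R : Type u) [CommRing R] (f : R) (M : Dual.D R) (i : ℤ) :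
    (DerivedCategory.homologyFunctor (ModuleCat.{u} R) i).map (f • 𝟙 M) =
      f • 𝟙 ((DerivedCategory.homologyFunctor (ModuleCat.{u} R) i).obj M) := by
  set HF := DerivedCategory.homologyFunctor (ModuleCat.{u} R) i
  let K := DerivedCategory.Q.objPreimage M
  let e : DerivedCategory.Q.obj K ≅ M := DerivedCategory.Q.objObjPreimageIso M
  have h1 : f • 𝟙 M = e.inv ≫ DerivedCategory.Q.map (f • 𝟙 K) ≫ e.hom := by
    rw [Functor.map_smul, CategoryTheory.Functor.map_id]; simp
  have h2 : HomologicalComplex.homologyMap (f • 𝟙 K) i = f • 𝟙 (K.homology i) := by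
    have : (HomologicalComplex.shortComplexFunctor (ModuleCat.{u} R) (ComplexShape.up ℤ) i).map (f • 𝟙 K) =
        f • (HomologicalComplex.shortComplexFunctor (ModuleCat.{u} R) (ComplexShape.up ℤ) i).map (𝟙 K) := by
      ext <;> rfl
    show ShortComplex.homologyMap _ = _
    rw [this, ShortComplex.homologyMap_smul, CategoryTheory.Functor.map_id, ShortComplex.homologyMap_id]
    rfl
  have h3 := DerivedCategory.homologyFunctorFactors_hom_naturality (f • 𝟙 K) i
  rw [h2] at h3
  have h4 : HF.map (DerivedCategory.Q.map (f • 𝟙 K)) = f • 𝟙 _ := by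
    rw [← cancel_mono ((DerivedCategory.homologyFunctorFactors (ModuleCat.{u} R) i).hom.app K), h3]
    erw [Linear.comp_smul, Category.comp_id]
    exact ((Linear.smul_comp _ _ _ _ _ _).trans (congrArg (f • ·) (Category.id_comp _))).symm
  rw [h1, HF.map_comp, HF.map_comp, h4, Linear.smul_comp, Linear.comp_smul, Category.id_comp,
    ← HF.map_comp, e.inv_hom_id, HF.map_id]

/-- Let R be a ring, f an element of R, M an object of D(R) and C the cone of f : M → M. Suppose that
H^i(M)_f = 0 whenever i < 0 (every element of H^i(M) is killed by a power of f) and that H^i(C) = 0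
whenever i < -1. Then H^i(M) vanishes for every i < 0. -/
theorem result (R : Type u) [CommRing R] (f : R) (M C : Dual.D R)
    (g : M ⟶ C) (h : C ⟶ M⟦(1 : ℤ)⟧) (hT : Triangle.mk (f • 𝟙 M) g h ∈ distinguishedTriangles)
    (hloc : ∀ i : ℤ, i < 0 → ∀ x : Dual.HD R M i, ∃ n : ℕ, f ^ n • x = 0)
    (hC : ∀ i : ℤ, i < -1 → Subsingleton (Dual.HD R C i)) :
    ∀ i : ℤ, i < 0 → Subsingleton (Dual.HD R M i) := by
  intro i hi
  let HF := DerivedCategory.homologyFunctor (ModuleCat.{u} R) i
  have h0 : (DerivedCategory.HomologySequence.δ (Triangle.mk (f • 𝟙 M) g h) (i - 1) i (by omega)) = 0 :=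
    (haveI := hC (i - 1) (by omega); ModuleCat.isZero_of_subsingleton _ : Limits.IsZero ((DerivedCategory.homologyFunctor (ModuleCat.{u} R) (i - 1)).obj C)).eq_of_src _ _
  haveI hm : Mono (HF.map (f • 𝟙 M)) :=
    (DerivedCategory.HomologySequence.mono_homologyMap_mor₁_iff _ hT (i - 1) i (by omega)).2 h0
  rw [map_smul_id R f M i] at hm
  have hinj : ∀ x : Dual.HD R M i, f • x = 0 → x = 0 := by
    intro x hx
    apply (ModuleCat.mono_iff_injective _).1 hm
    show f • x = f • (0 : Dual.HD R M i)
    rw [hx, smul_zero]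
  refine ⟨fun a b => ?_⟩
  obtain ⟨n, hn⟩ := hloc i hi (a - b)
  rw [← sub_eq_zero]
  generalize a - b = x at hn ⊢
  induction n generalizing x with
  | zero => simpa using hn
  | succ n ih => exact ih x (hinj _ (by rw [smul_smul, ← pow_succ']; exact hn))

end Groth.Agent.S7160
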