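import Groth.Statements.S7161
import Groth.Agent.ExtAR.Exact
import Mathlib.CategoryTheory.Monoidal.Tor
import Mathlib.Algebra.Category.ModuleCat.Monoidal.Symmetric
import Mathlib.Algebra.Category.ModuleCat.Projective
import Mathlib.Algebra.Homology.HomologicalComplexAbelian
import Mathlib.Algebra.Homology.HomologySequence
import Mathlib.RingTheory.Flat.Basic
import Mathlib.LinearAlgebra.TensorProduct.RightExactness

set_option autoImplicit false
set_option linter.style.haveILetI false
universe u
open CategoryTheory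
open CAlg

namespace Groth.Agent.S7161

open Limits MonoidalCategory

variable {A : Type u} [CommRing A] {N : ModuleCat.{u} A}

/-- `X ↦ X ⊗ P`. -/
noncomputable def tensorCx (P : ChainComplex (ModuleCat.{u} A) ℕ) :
    ModuleCat.{u} A ⥤ ChainComplex (ModuleCat.{u} A) ℕ where
  obj X := (((tensoringLeft (ModuleCat.{u} A)).obj X).mapHomologicalComplex _).obj P
  map f := (NatTrans.mapHomologicalComplex ((tensoringLeft (ModuleCat.{u} A)).map f) _).app P
  map_id X := by ext : 1; simp
  map_comp f g := by ext : 1; simp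

instance (P : ChainComplex (ModuleCat.{u} A) ℕ) : (tensorCx P).Additive where
  map_add {X Y f g} := by
    ext i : 1
    exact MonoidalPreadditive.add_whiskerRight (X := P.X i) f g

/-- `H_p(- ⊗ P)`. -/
noncomputable abbrev HN (P : ProjectiveResolution N) (p : ℕ) : ModuleCat.{u} A ⥤ ModuleCat.{u} A :=
  tensorCx P.complex ⋙ HomologicalComplex.homologyFunctor _ _ p

lemma tor_map_eq_zero (P : ProjectiveResolution N) (p : ℕ) {X Y : ModuleCat.{u} A} (φ : X ⟶ Y)
    (h : (HN P p).map φ = 0) :
    ((CategoryTheory.Tor (ModuleCat.{u} A) p).map φ).app N = 0 := by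
  show (NatTrans.leftDerived ((tensoringLeft (ModuleCat.{u} A)).map φ) p).app N = 0
  rw [ProjectiveResolution.leftDerived_app_eq _ P p]
  erw [show (HomologicalComplex.homologyFunctor (ModuleCat.{u} A) _ p).map
    ((tensorCx P.complex).map φ) = 0 from h]
  erw [zero_comp, comp_zero]

lemma HN_map_smul (P : ProjectiveResolution N) (p : ℕ) (f : A) (hf : ∀ y : N, f • y = 0)
    {X Y : ModuleCat.{u} A} (φ : X ⟶ Y) : (HN P p).map (f • φ) = 0 := by
  let F := (tensoringLeft (ModuleCat.{u} A)).obj X
  have h0 : f • 𝟙 N = 0 := ModuleCat.hom_ext (LinearMap.ext fun y => hf y)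
  have hz : (HomologicalComplex.homologyFunctor (ModuleCat.{u} A) _ p).map
      ((F.mapHomologicalComplex _).map (f • 𝟙 P.complex)) = 0 := by
    have h1 := ProjectiveResolution.isoLeftDerivedObj_hom_naturality (f • 𝟙 N) P P
      (f • 𝟙 P.complex) (by exact ModuleCat.hom_ext (LinearMap.ext fun x => (P.π.f 0).hom.map_smul f x)) F p
    have h2 := ProjectiveResolution.isoLeftDerivedObj_hom_naturality (f • 𝟙 N) P P
      0 (by rw [h0]; exact zero_comp.trans comp_zero.symm) F p
    rw [h1] at h2
    rw [← cancel_epi (P.isoLeftDerivedObj F p).hom, comp_zero]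
    refine h2.trans ?_
    rw [Functor.map_zero]
    exact comp_zero
  have hcx : (tensorCx P.complex).map (f • φ) =
      (F.mapHomologicalComplex _).map (f • 𝟙 P.complex) ≫ (tensorCx P.complex).map φ := by
    ext i : 1
    show (f • φ) ▷ P.complex.X i = (X ◁ (f • 𝟙 (P.complex.X i))) ≫ (φ ▷ P.complex.X i)
    refine ModuleCat.MonoidalCategory.tensor_ext fun x y => ?_
    show (f • φ.hom x) ⊗ₜ[A] y = φ.hom x ⊗ₜ[A] (f • y)
    rw [TensorProduct.smul_tmul]
  show (HomologicalComplex.homologyFunctor _ _ p).map _ = 0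
  rw [hcx]
  exact (Functor.map_comp _ _ _).trans ((congrArg (· ≫ _) hz).trans zero_comp)

lemma HN_map_eq_zero_of_shortExact (P : ProjectiveResolution N) (p : ℕ)
    {S : ShortComplex (ModuleCat.{u} A)} (hS : S.ShortExact) (hf : (HN P p).map S.f = 0)
    {X : ModuleCat.{u} A} (χ : X ⟶ S.X₂) (hχ : (HN P p).map (χ ≫ S.g) = 0) :
    (HN P p).map χ = 0 := by
  have hT : (S.map (tensorCx P.complex)).ShortExact := by
    apply HomologicalComplex.shortExact_of_degreewise_shortExact
    intro i
    haveI : Module.Projective A (P.complex.X i) :=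
      haveI := P.projective i
      (IsProjective.iff_projective (P.complex.X i)).mpr this
    refine
      { exact := (ShortComplex.ShortExact.moduleCat_exact_iff_function_exact _).mpr ?_
        mono_f := (ModuleCat.mono_iff_injective _).2 ?_
        epi_g := (ModuleCat.epi_iff_surjective _).2 ?_ }
    · exact rTensor_exact (P.complex.X i)
        ((ShortComplex.ShortExact.moduleCat_exact_iff_function_exact _).mp hS.exact)
        hS.moduleCat_surjective_g
    · exact Module.Flat.rTensor_preserves_injective_linearMap _ hS.moduleCat_injective_f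
    · exact LinearMap.rTensor_surjective _ hS.moduleCat_surjective_g
  haveI : Mono ((HN P p).map S.g) := (hT.homology_exact₂ p).mono_g hf
  rw [Functor.map_comp] at hχ
  exact zero_of_comp_mono _ hχ

lemma exists_principal [IsNoetherianRing A] (P : ProjectiveResolution N) (f : A)
    (hf : ∀ y : N, f • y = 0) (M : Type u) [AddCommGroup M] [Module A M] [Module.Finite A M] :
    ∃ m : ℕ, 0 < m ∧ ∀ p : ℕ, (HN P p).map
      (ModuleCat.ofHom (LinearMap.range (LinearMap.lsmul A M (f ^ m))).subtype) = 0 := by
  have hmono : Monotone fun k : ℕ => LinearMap.ker (LinearMap.lsmul A M (f ^ k)) := by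
    intro i j hij x hx
    obtain ⟨d, rfl⟩ := Nat.exists_eq_add_of_le hij
    simp only [LinearMap.mem_ker, LinearMap.lsmul_apply] at hx ⊢
    rw [add_comm, pow_add, mul_smul, hx, smul_zero]
  obtain ⟨c, hc⟩ := monotone_stabilizes_iff_noetherian.mpr inferInstance ⟨_, hmono⟩
  refine ⟨c + 1, by omega, fun p => ?_⟩
  let g := LinearMap.lsmul A M (f ^ (c + 1))
  have hle : LinearMap.ker g ≤ LinearMap.ker (LinearMap.lsmul A M (f ^ c)) :=
    (hc (c + 1) (by omega)).ge
  let φ : LinearMap.range g →ₗ[A] M :=
    (Submodule.liftQ _ (LinearMap.lsmul A M (f ^ c)) hle).comp g.quotKerEquivRange.symm.toLinearMap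
  have hfac : ModuleCat.ofHom (LinearMap.range g).subtype = f • ModuleCat.ofHom φ := by
    refine ModuleCat.hom_ext (LinearMap.ext fun w => ?_)
    obtain ⟨q, rfl⟩ := g.quotKerEquivRange.surjective w
    obtain ⟨x, rfl⟩ := Submodule.Quotient.mk_surjective _ q
    show g x = f • φ _
    simp [φ, g, pow_succ', mul_smul]
  rw [hfac]
  exact HN_map_smul P p f hf _

theorem key [IsNoetherianRing A] (P : ProjectiveResolution N) (s : Finset A)
    (hs : ∀ a ∈ s, ∀ y : N, a • y = 0) :
    ∀ (M : Type u) [AddCommGroup M] [Module A M], Module.Finite A M →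
      ∃ n : ℕ, 0 < n ∧ ∀ p : ℕ, (HN P p).map
        (ModuleCat.ofHom (Ideal.span (s : Set A) ^ n • ⊤ : Submodule A M).subtype) = 0 := by
  classical
  induction s using Finset.induction with
  | empty =>
    intro M _ _ _
    refine ⟨1, Nat.one_pos, fun p => ?_⟩
    have h0 : ModuleCat.ofHom
        (Ideal.span ((∅ : Finset A) : Set A) ^ 1 • ⊤ : Submodule A M).subtype = 0 := by
      refine ModuleCat.hom_ext (LinearMap.ext fun x => ?_)
      have := x.2
      simp only [Finset.coe_empty, Ideal.span_empty, pow_one, Submodule.bot_smul,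
        Submodule.mem_bot] at this
      exact this
    rw [h0, Functor.map_zero]
  | @insert f s _ ih =>
    intro M _ _ _
    obtain ⟨m, hm, hm'⟩ := exists_principal P f (hs f (Finset.mem_insert_self f s)) M
    let W := LinearMap.range (LinearMap.lsmul A M (f ^ m))
    obtain ⟨n, hn, hn'⟩ := ih (fun a ha => hs a (Finset.mem_insert_of_mem ha)) (M ⧸ W) inferInstance
    refine ⟨n + m, by omega, fun p => ?_⟩
    set J := Ideal.span (s : Set A)
    let V : Submodule A M := Ideal.span ((insert f s : Finset A) : Set A) ^ (n + m) • ⊤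
    have hV : V ≤ J ^ n • ⊤ ⊔ W := by
      refine (Submodule.smul_mono_left ?_).trans ((Submodule.sup_smul (J ^ n) (Ideal.span {f ^ m}) ⊤).le.trans
        (sup_le_sup le_rfl (Submodule.smul_le.2 fun r hr x _ => ?_)))
      · rw [Finset.coe_insert, Ideal.span_insert, sup_comm, ← Ideal.span_singleton_pow]
        exact Ideal.sup_pow_add_le_pow_sup_pow
      · obtain ⟨a, rfl⟩ := Ideal.mem_span_singleton'.1 hr
        exact ⟨a • x, by simp [mul_smul, smul_comm a]⟩
    have hmem : ∀ v : V, W.mkQ v ∈ (J ^ n • ⊤ : Submodule A (M ⧸ W)) := by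
      intro v
      obtain ⟨a, ha, b, hb, hab⟩ := Submodule.mem_sup.1 (hV v.2)
      rw [← hab, map_add, show W.mkQ b = 0 from (Submodule.Quotient.mk_eq_zero W).2 hb, add_zero]
      have h := Submodule.mem_map_of_mem (f := W.mkQ) ha
      rw [Submodule.map_smul''] at h
      exact Submodule.smul_mono le_rfl le_top h
    refine HN_map_eq_zero_of_shortExact P p (ExtAR.sesQ_shortExact W) (hm' p)
      (ModuleCat.ofHom V.subtype) ?_
    have hfac : ModuleCat.ofHom V.subtype ≫ (ExtAR.sesQ W).g =
        ModuleCat.ofHom (X := ↥V) (Y := ↥(J ^ n • ⊤ : Submodule A (M ⧸ W)))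
          ((W.mkQ.comp V.subtype).codRestrict _ hmem) ≫
          ModuleCat.ofHom (J ^ n • ⊤ : Submodule A (M ⧸ W)).subtype := rfl
    exact (congrArg _ hfac).trans ((Functor.map_comp _ _ _).trans
      ((congrArg (_ ≫ ·) (hn' p)).trans comp_zero))


/-- Let A be a Noetherian ring, I an ideal, M a finite A-module and N an A-module annihilated by I. Then
there is an integer n > 0 such that the maps Tor_p^A(IⁿM, N) → Tor_p^A(M, N) induced by IⁿM ⊆ M are
zero for all p ≥ 0. -/
theorem result (A : Type u) [CommRing A] [IsNoetherianRing A] (I : Ideal A)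
    (M N : Type u) [AddCommGroup M] [Module A M] [Module.Finite A M] [AddCommGroup N] [Module A N]
    (hN : ∀ a ∈ I, ∀ y : N, a • y = 0) :
    ∃ n : ℕ, 0 < n ∧ ∀ p : ℕ,
      ((CategoryTheory.Tor (ModuleCat.{u} A) p).map (ModuleCat.ofHom (I ^ n • ⊤ : Submodule A M).subtype)).app
        (ModuleCat.of A N) = 0 := by
  obtain ⟨s, rfl⟩ := IsNoetherian.noetherian I
  let P := projectiveResolution (ModuleCat.of A N)
  obtain ⟨n, hn, hn'⟩ := key P s (fun a ha => hN a (Ideal.subset_span ha)) M inferInstance
  exact ⟨n, hn, fun p => tor_map_eq_zero P p _ (hn' p)⟩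

end Groth.Agent.S7161
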