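import Groth.Statements.S7162
import Groth.Agent.S0537
import Groth.Agent.EtRamLib.SHDVR
import Groth.Agent.EtRamLib.SolutionDescent

set_option autoImplicit false
universe u
open EtAlg

namespace Groth.Agent.S7162

/-- Let A → B be an injective local homomorphism of discrete valuation rings whose fields of fractions
are K ⊆ L. There is a commutative square of such extensions A ⊆ A', B ⊆ B', A' ⊆ B' (with fraction
fields K', L') such that (1) K'/K and L'/L are separable algebraic, (2) the residue field of A' is a
separable algebraic closure of that of A, and likewise for B' over B, and (3) whenever A' ⊆ B'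
admits a solution (respectively a separable solution), so does A ⊆ B. (The published statement
asserts (3) for weak solutions as well; that clause is left out here: a weak solution for A' ⊆ B'
descends to a finite extension of K but controls only those local extensions attached to embeddings
compatible with K ⊆ K', and weak solutions, unlike solutions, are not preserved under passing to a
normal closure; the clause can fail when the residue field of A is not separably closed in that of
B.) -/
theorem result (A B K L : Type u) [CommRing A] [IsDomain A]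
    [IsDiscreteValuationRing A] [CommRing B] [IsDomain B] [IsDiscreteValuationRing B] [Algebra A B]
    (hinj : Function.Injective (algebraMap A B)) [IsLocalHom (algebraMap A B)]
    [Field K] [Field L] [Algebra A K] [IsFractionRing A K] [Algebra B L] [IsFractionRing B L]
    [Algebra K L] [Algebra A L] [IsScalarTower A K L] [IsScalarTower A B L] :
    ∃ (A' B' K' L' : Type u) (_ : CommRing A') (_ : IsDomain A') (_ : IsDiscreteValuationRing A')
      (_ : CommRing B') (_ : IsDomain B') (_ : IsDiscreteValuationRing B') (_ : Field K') (_ : Field L')
      (_ : Algebra A A') (_ : Algebra B B') (_ : Algebra A' B') (_ : Algebra A B')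
      (_ : IsScalarTower A B B') (_ : IsScalarTower A A' B')
      (_ : Algebra A' K') (_ : IsFractionRing A' K') (_ : Algebra B' L') (_ : IsFractionRing B' L')
      (_ : Algebra K' L') (_ : Algebra A' L') (_ : IsScalarTower A' K' L') (_ : IsScalarTower A' B' L')
      (_ : Algebra K K') (_ : Algebra A K') (_ : IsScalarTower A K K') (_ : IsScalarTower A A' K')
      (_ : Algebra L L') (_ : Algebra B L') (_ : IsScalarTower B L L') (_ : IsScalarTower B B' L')
      (hA : IsLocalHom (algebraMap A A')) (hB : IsLocalHom (algebraMap B B')) (_ : IsLocalHom (algebraMap A' B')),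
      Function.Injective (algebraMap A A') ∧ Function.Injective (algebraMap B B') ∧
      Function.Injective (algebraMap A' B') ∧
      Algebra.IsSeparable K K' ∧ Algebra.IsSeparable L L' ∧
      (letI := (IsLocalRing.ResidueField.map (algebraMap A A')).toAlgebra
       IsSepClosure (IsLocalRing.ResidueField A) (IsLocalRing.ResidueField A')) ∧
      (letI := (IsLocalRing.ResidueField.map (algebraMap B B')).toAlgebra
       IsSepClosure (IsLocalRing.ResidueField B) (IsLocalRing.ResidueField B')) ∧
      ((∃ (K₁ : Type u) (_ : Field K₁) (_ : Algebra K' K₁), FiniteDimensional K' K₁ ∧ EtRam.IsSolution B' K' L' K₁) →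
        ∃ (K₁ : Type u) (_ : Field K₁) (_ : Algebra K K₁), FiniteDimensional K K₁ ∧ EtRam.IsSolution B K L K₁) ∧
      ((∃ (K₁ : Type u) (_ : Field K₁) (_ : Algebra K' K₁), FiniteDimensional K' K₁ ∧ Algebra.IsSeparable K' K₁ ∧
          EtRam.IsSolution B' K' L' K₁) →
        ∃ (K₁ : Type u) (_ : Field K₁) (_ : Algebra K K₁), FiniteDimensional K K₁ ∧ Algebra.IsSeparable K K₁ ∧
          EtRam.IsSolution B K L K₁) := by
  classical
  obtain ⟨A', _, _, _, hlA, hshA⟩ := Groth.Agent.S0537.result A
  obtain ⟨B', _, _, _, hlB, hshB⟩ := Groth.Agent.S0537.result B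
  haveI := hlA; haveI := hlB; haveI := hshA; haveI := hshB
  haveI := hshA.isSepClosure; haveI := hshB.isSepClosure; haveI := hshB.henselian
  haveI : IsSepClosed (IsLocalRing.ResidueField B') := IsSepClosure.sep_closed (IsLocalRing.ResidueField B)
  letI : Algebra (IsLocalRing.ResidueField A) (IsLocalRing.ResidueField B') :=
    ((algebraMap (IsLocalRing.ResidueField B) (IsLocalRing.ResidueField B')).comp
      (IsLocalRing.ResidueField.map (algebraMap A B))).toAlgebra
  haveI : Algebra.IsSeparable (IsLocalRing.ResidueField A) (IsLocalRing.ResidueField A') := IsSepClosure.separable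
  let τ : IsLocalRing.ResidueField A' →ₐ[IsLocalRing.ResidueField A] IsLocalRing.ResidueField B' :=
    IsSepClosed.lift
  obtain ⟨g, ⟨hg, hgres⟩, -⟩ := hshA.universal B' ((algebraMap B B').comp (algebraMap A B)) τ.toRingHom (by
    refine RingHom.ext fun x => ?_
    obtain ⟨a, rfl⟩ := IsLocalRing.residue_surjective x
    exact τ.commutes _)
  letI : Algebra A' B' := g.toAlgebra
  haveI hlg : IsLocalHom (algebraMap A' B') := ⟨fun x hx => by
    have h : IsLocalRing.residue B' (g x) ≠ 0 := fun h0 => (IsLocalRing.residue_eq_zero_iff _).mp h0 hx
    rw [hgres] at h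
    by_contra hnx
    exact h (by rw [(IsLocalRing.residue_eq_zero_iff _).mpr hnx, map_zero])⟩
  letI : Algebra A B' := ((algebraMap B B').comp (algebraMap A B)).toAlgebra
  haveI : IsScalarTower A B B' := IsScalarTower.of_algebraMap_eq fun _ => rfl
  haveI : IsScalarTower A A' B' := IsScalarTower.of_algebraMap_eq fun a => (RingHom.congr_fun hg a).symm
  have hEA := Groth.Agent.Hensel.isEtLike_of_isStrictHenselization A A'
  have hEB := Groth.Agent.Hensel.isEtLike_of_isStrictHenselization B B'
  obtain ⟨_, _⟩ := Groth.Agent.EtRamLib.SHDVR.isDVR hEA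
  obtain ⟨_, _⟩ := Groth.Agent.EtRamLib.SHDVR.isDVR hEB
  have hiA := hEA.algebraMap_injective
  have hiB := hEB.algebraMap_injective
  have hig : Function.Injective (algebraMap A' B') := by
    obtain ⟨π, hπ⟩ := IsDiscreteValuationRing.exists_irreducible A
    have hπ0 : algebraMap A B' π ≠ 0 := fun h => hπ.ne_zero (hinj (hiB (by
      rw [← IsScalarTower.algebraMap_apply A B B', h, map_zero, map_zero])))
    rw [injective_iff_map_eq_zero]
    intro x hx
    by_contra hx0
    obtain ⟨ϖ, hϖ⟩ := IsDiscreteValuationRing.exists_irreducible A'
    obtain ⟨n, u, rfl⟩ := IsDiscreteValuationRing.eq_unit_mul_pow_irreducible hx0 hϖ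
    rw [map_mul, map_pow, mul_eq_zero] at hx
    have hϖ0 : algebraMap A' B' ϖ = 0 :=
      eq_zero_of_pow_eq_zero (hx.resolve_left (u.isUnit.map (algebraMap A' B')).ne_zero)
    have hmem : algebraMap A A' π ∈ IsLocalRing.maximalIdeal A' := map_nonunit _ π hπ.not_isUnit
    rw [hϖ.maximalIdeal_eq, Ideal.mem_span_singleton] at hmem
    obtain ⟨c, hc⟩ := hmem
    exact hπ0 (by rw [IsScalarTower.algebraMap_apply A A' B', hc, map_mul, hϖ0, zero_mul])
  let K' := FractionRing A'
  let L' := FractionRing B'
  have hgAK : Function.Injective (algebraMap A K') := (IsFractionRing.injective A' K').comp hiA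
  have hgBL : Function.Injective (algebraMap B L') := (IsFractionRing.injective B' L').comp hiB
  have hgA'L : Function.Injective (algebraMap A' L') := (IsFractionRing.injective B' L').comp hig
  letI : Algebra K K' := (IsFractionRing.lift (K := K) hgAK).toAlgebra
  letI : Algebra L L' := (IsFractionRing.lift (K := L) hgBL).toAlgebra
  letI : Algebra K' L' := (IsFractionRing.lift (K := K') hgA'L).toAlgebra
  haveI : IsScalarTower A K K' := IsScalarTower.of_algebraMap_eq fun a =>
    (IsFractionRing.lift_algebraMap hgAK a).symm
  haveI : IsScalarTower B L L' := IsScalarTower.of_algebraMap_eq fun a =>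
    (IsFractionRing.lift_algebraMap hgBL a).symm
  haveI : IsScalarTower A' K' L' := IsScalarTower.of_algebraMap_eq fun a =>
    (IsFractionRing.lift_algebraMap hgA'L a).symm
  letI : Algebra K L' := ((algebraMap L L').comp (algebraMap K L)).toAlgebra
  haveI : IsScalarTower K L L' := IsScalarTower.of_algebraMap_eq fun _ => rfl
  haveI : IsScalarTower K K' L' := IsScalarTower.of_algebraMap_eq' (IsLocalization.ringHom_ext
    (nonZeroDivisors A) (RingHom.ext fun a => by
      change algebraMap L L' (algebraMap K L (algebraMap A K a)) = algebraMap K' L' (algebraMap K K' (algebraMap A K a))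
      rw [← IsScalarTower.algebraMap_apply A K L, IsScalarTower.algebraMap_apply A B L,
        ← IsScalarTower.algebraMap_apply B L L', ← IsScalarTower.algebraMap_apply A K K',
        IsScalarTower.algebraMap_apply A A' K', ← IsScalarTower.algebraMap_apply A' K' L',
        IsScalarTower.algebraMap_apply A' B' L', ← IsScalarTower.algebraMap_apply A A' B',
        IsScalarTower.algebraMap_apply B B' L', ← IsScalarTower.algebraMap_apply A B B']))
  haveI hsepK : Algebra.IsSeparable K K' := Groth.Agent.EtRamLib.SHDVR.isSeparable_fraction hEA K K'
  have hsepL : Algebra.IsSeparable L L' := Groth.Agent.EtRamLib.SHDVR.isSeparable_fraction hEB L L'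
  refine ⟨A', B', K', L', inferInstance, inferInstance, inferInstance, inferInstance, inferInstance, inferInstance,
    inferInstance, inferInstance, inferInstance, inferInstance, inferInstance, inferInstance, inferInstance,
    inferInstance, inferInstance, inferInstance, inferInstance, inferInstance, inferInstance, inferInstance,
    inferInstance, inferInstance, inferInstance, inferInstance, inferInstance, inferInstance, inferInstance,
    inferInstance, inferInstance, inferInstance, hlA, hlB, hlg, hiA, hiB, hig, hsepK, hsepL,
    ?_, ?_, ?_, ?_⟩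
  · convert hshA.isSepClosure using 1
    exact Algebra.algebra_ext _ _ fun x => by
      obtain ⟨x, rfl⟩ := IsLocalRing.residue_surjective x
      rfl
  · convert hshB.isSepClosure using 1
    exact Algebra.algebra_ext _ _ fun x => by
      obtain ⟨x, rfl⟩ := IsLocalRing.residue_surjective x
      rfl
  all_goals rintro ⟨K₁', _, _, hrest⟩
  all_goals
    letI : Algebra K K₁' := ((algebraMap K' K₁').comp (algebraMap K K')).toAlgebra
    haveI : IsScalarTower K K' K₁' := IsScalarTower.of_algebraMap_eq fun _ => rfl
    obtain ⟨hfd, hrest⟩ := hrest
    haveI := hfd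
    haveI : Algebra.IsAlgebraic K K₁' := Algebra.IsAlgebraic.trans K K' K₁'
    obtain ⟨t, ht⟩ := IntermediateField.fg_of_noetherian (⊤ : IntermediateField K' K₁')
    let P : Polynomial K := ∏ x ∈ t, minpoly K x
    have hP0 : ∀ x ∈ t, minpoly K x ≠ 0 := fun x _ => minpoly.ne_zero (Algebra.IsIntegral.isIntegral x)
    have hsplit : ∀ x ∈ (t : Set K₁'), ((minpoly K x).map (algebraMap K P.SplittingField)).Splits := fun x hx =>
      (Polynomial.SplittingField.splits P).of_dvd (Polynomial.map_ne_zero (Finset.prod_ne_zero_iff.mpr hP0))
        (Polynomial.map_dvd _ (Finset.dvd_prod_of_mem _ hx))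
  · exact ⟨P.SplittingField, inferInstance, inferInstance, inferInstance,
      Groth.Agent.EtRamLib.SolutionDescent.isSolution_descent A B A' B' K L K' L' hiB
        hEA.map_max inferInstance K₁' hrest P.SplittingField t ht hsplit⟩
  · obtain ⟨hsep, hsol⟩ := hrest
    haveI := hsep
    haveI : Algebra.IsSeparable K K₁' := Algebra.IsSeparable.trans K K' K₁'
    haveI : Algebra.IsSeparable K P.SplittingField := by
      have h1 : Algebra.IsSeparable K (IntermediateField.adjoin K (P.rootSet P.SplittingField)) := by
        rw [IntermediateField.isSeparable_adjoin_iff_isSeparable]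
        intro y hy
        have hy' : Polynomial.aeval y P = 0 := (Polynomial.mem_rootSet.mp hy).2
        rw [map_prod, Finset.prod_eq_zero_iff] at hy'
        obtain ⟨x, -, hx⟩ := hy'
        exact (Algebra.IsSeparable.isSeparable K x).of_dvd (minpoly.dvd K y hx)
      have h2 : IntermediateField.adjoin K (P.rootSet P.SplittingField) = ⊤ := by
        apply IntermediateField.toSubalgebra_injective
        rw [IntermediateField.adjoin_toSubalgebra_of_isAlgebraic fun x _ => Algebra.IsAlgebraic.isAlgebraic x,
          Polynomial.SplittingField.adjoin_rootSet, IntermediateField.top_toSubalgebra]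
      rw [h2] at h1
      exact AlgEquiv.Algebra.isSeparable IntermediateField.topEquiv
    exact ⟨P.SplittingField, inferInstance, inferInstance, inferInstance, inferInstance,
      Groth.Agent.EtRamLib.SolutionDescent.isSolution_descent A B A' B' K L K' L' hiB
        hEA.map_max inferInstance K₁' hsol P.SplittingField t ht hsplit⟩

end Groth.Agent.S7162
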