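import Groth.Statements.S7163
import Groth.Agent.SerreSplit.Basic

open Groth.Agent.SerreSplit.Basic TopologicalSpace


set_option autoImplicit false
universe u
open CAlg

namespace Groth.Agent.S7163

/-- Let R be a ring whose set Ω of closed points of Spec R is a Noetherian topological space and M a
finitely presented R-module; for x in Ω write M(x) = M/xM, B(x) for the classes of elements m with
φ(m) in x for every linear form φ, and V(x) = M(x)/B(x). Let s_1, ..., s_h be elements of M, F ⊆ Ω a
closed subset containing the set Z(s_1, ..., s_h) of points where the images of the s_i in V(x) are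
linearly dependent, x_1, ..., x_n pairwise distinct points of F, v_i elements of M(x_i), and k ≥ 0
an integer with h + k ≤ dim V(x) for all x in Ω. Then there are s in M and a closed F' ⊆ Ω such that
(a) s(x_i) and v_i have the same image in V(x_i), (b) Z(s_1, ..., s_h, s) ⊆ F ∪ F', and (c) each
irreducible component of F′ is of codimension at least k in Ω (equivalently, so is each irreducible
closed subset of Ω lying in F′). -/
theorem result (R : Type u) [CommRing R] [TopologicalSpace.NoetherianSpace (MaximalSpectrum R)]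
    (M : Type u) [AddCommGroup M] [Module R M] [Module.FinitePresentation R M]
    (h : ℕ) (s : Fin h → M) (F : Set (MaximalSpectrum R)) (hF : IsClosed F)
    (n : ℕ) (xs : Fin n → MaximalSpectrum R) (hxs : Function.Injective xs) (hxF : ∀ i, xs i ∈ F)
    (v : ∀ i : Fin n, M ⧸ ((xs i).asIdeal • ⊤ : Submodule R M)) (k : ℕ) :
    let Bq : ∀ x : MaximalSpectrum R, Submodule (R ⧸ x.asIdeal) (M ⧸ (x.asIdeal • ⊤ : Submodule R M)) :=
      fun x => Submodule.span (R ⧸ x.asIdeal)
        ((x.asIdeal • ⊤ : Submodule R M).mkQ '' {m : M | ∀ φ : M →ₗ[R] R, φ m ∈ x.asIdeal})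
    let img : ∀ x : MaximalSpectrum R, M → (M ⧸ (x.asIdeal • ⊤ : Submodule R M)) ⧸ Bq x :=
      fun x m => (Bq x).mkQ ((x.asIdeal • ⊤ : Submodule R M).mkQ m)
    (∀ x : MaximalSpectrum R, h + k ≤ Module.finrank (R ⧸ x.asIdeal) ((M ⧸ (x.asIdeal • ⊤ : Submodule R M)) ⧸ Bq x)) →
    (∀ x : MaximalSpectrum R, ¬ LinearIndependent (R ⧸ x.asIdeal) (fun i => img x (s i)) → x ∈ F) →
    ∃ (t : M) (F' : Set (MaximalSpectrum R)), IsClosed F' ∧
      (∀ i : Fin n, img (xs i) t = (Bq (xs i)).mkQ (v i)) ∧
      (∀ x : MaximalSpectrum R,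
        ¬ LinearIndependent (R ⧸ x.asIdeal) (Fin.snoc (fun i => img x (s i)) (img x t)) → x ∈ F ∪ F') ∧
      ∀ Z : TopologicalSpace.IrreducibleCloseds (MaximalSpectrum R), (Z : Set (MaximalSpectrum R)) ⊆ F' →
        (k : ℕ∞) ≤ Order.coheight Z := by
  intro Bq img hdim hZ
  classical
  choose w hw using fun i : Fin n => Submodule.mkQ_surjective ((xs i).asIdeal • ⊤ : Submodule R M) (v i)
  let W : MaximalSpectrum R → M := fun x => if hx : ∃ i, xs i = x then w hx.choose else 0
  obtain ⟨t, htX, ht⟩ := exists_section (R := R) (M := M) k h s F (Finset.univ.image xs) W hF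
    (by
      intro x hx
      obtain ⟨i, -, rfl⟩ := Finset.mem_image.mp (Finset.mem_coe.mp hx)
      exact hxF i)
    hdim (fun x hx => hZ x fun hli => hx ((linearIndependent_iff_ind _ s).mp hli))
  obtain ⟨S, hS, hS'⟩ := exists_components (isClosed_deg (R := R) (Fin.snoc s t : Fin (h + 1) → M))
  let L := S.filter fun C : IrreducibleCloseds (MaximalSpectrum R) => ¬ (C : Set (MaximalSpectrum R)) ⊆ F
  refine ⟨t, ⋃ C ∈ L, (C : Set (MaximalSpectrum R)),
    Set.Finite.isClosed_biUnion L.finite_toSet (fun C _ => C.isClosed), fun i => ?_, fun x hx => ?_,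
    fun Z hZ' => ?_⟩
  · have hex : ∃ j, xs j = xs i := ⟨i, rfl⟩
    have h1 := htX (xs i) (Finset.mem_image.mpr ⟨i, Finset.mem_univ _, rfl⟩)
    simp only [W, dif_pos hex, hxs hex.choose_spec] at h1
    rw [← hw i]
    exact (cls_eq_iff _ t (w i)).mpr h1
  · have hxd : x ∈ deg (Fin.snoc s t : Fin (h + 1) → M) := by
      intro hi
      refine hx ?_
      have h2 := (linearIndependent_iff_ind _ _).mpr hi
      have h3 : (fun j => cls x.asIdeal ((Fin.snoc s t : Fin (h + 1) → M) j)) =
          Fin.snoc (fun j => img x (s j)) (img x t) := by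
        ext j
        induction j using Fin.lastCases with
        | last =>
          rw [Fin.snoc_last]
          exact (Fin.snoc_last (α := fun _ => _) (img x t) (fun j => img x (s j))).symm
        | cast j =>
          rw [Fin.snoc_castSucc]
          exact (Fin.snoc_castSucc (α := fun _ => _) (img x t) (fun j => img x (s j)) j).symm
      rwa [h3] at h2
    obtain ⟨C, hC, hxC⟩ := hS' ⟨{x}, isIrreducible_singleton, isClosed_singleton⟩
      (Set.singleton_subset_iff.mpr hxd)
    by_cases hCF : (C : Set (MaximalSpectrum R)) ⊆ F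
    · exact Or.inl (hCF (hxC rfl))
    · exact Or.inr (Set.mem_biUnion (Finset.mem_filter.mpr ⟨hC, hCF⟩) (hxC rfl))
  · obtain ⟨z, hz, hZz⟩ := isIrreducible_iff_sUnion_isClosed.mp Z.isIrreducible
      (L.image fun C : IrreducibleCloseds (MaximalSpectrum R) => (C : Set (MaximalSpectrum R)))
      (fun z hz => by obtain ⟨C, -, rfl⟩ := Finset.mem_image.mp hz; exact C.isClosed)
      (by simpa [Set.sUnion_image] using hZ')
    obtain ⟨C, hC, rfl⟩ := Finset.mem_image.mp hz
    obtain ⟨hC, hCF⟩ := Finset.mem_filter.mp hC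
    exact le_trans (ht C (hS C hC) hCF) (Order.coheight_anti hZz)

end Groth.Agent.S7163
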