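import Groth.Statements.S7164
import Groth.Agent.ExtAR.Exact

set_option autoImplicit false
set_option linter.style.haveILetI false
universe u
open CategoryTheory
attribute [local instance] HasDerivedCategory.standard
open CAlg

namespace Groth.Agent.S7164

/-- Let A be a Noetherian ring, I an ideal, K a pseudo-coherent object of D(A) and a an integer. Assume
that for every finite A-module M and every i ≥ a the module Ext^i_A(K, M) is I-power torsion. Then
for i ≥ a and M finite the inverse system (Ext^i_A(K, M/IⁿM))_n is essentially constant with value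
Ext^i_A(K, M) (so that Ext^i_A(K, M) = lim Ext^i_A(K, M/IⁿM)): concretely, some comparison map
Ext^i(K, M) → Ext^i(K, M/I^mM) is injective and for every n there is m' ≥ n such that the image of
the transition map Ext^i(K, M/I^(m')M) → Ext^i(K, M/IⁿM) is contained in the image of Ext^i(K, M).
Here Ext^i(K, X) = Hom_{D(A)}(K, X[i]). -/
theorem result (A : Type u) [CommRing A] [IsNoetherianRing A]
    (I : Ideal A) (K : Dual.D A) (hK : DRing.IsPseudoCoherent' A K) (a : ℤ)
    (htors : ∀ (M : Type u) [AddCommGroup M] [Module A M], Module.Finite A M → ∀ i : ℤ, a ≤ i →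
      ∀ e : K ⟶ (Dual.inD A M)⟦i⟧, ∃ n : ℕ, ∀ x ∈ I ^ n, x • e = 0)
    (M : Type u) [AddCommGroup M] [Module A M] [Module.Finite A M] (i : ℤ) (hi : a ≤ i) :
    let Mq : ℕ → Submodule A M := fun n => I ^ n • ⊤
    let c : ∀ n : ℕ, (K ⟶ (Dual.inD A M)⟦i⟧) → (K ⟶ (Dual.inD A (M ⧸ Mq n))⟦i⟧) :=
      fun n e => e ≫ ((DerivedCategory.singleFunctor (ModuleCat.{u} A) 0).map (ModuleCat.ofHom (Mq n).mkQ))⟦i⟧'
    let t : ∀ n m : ℕ, n ≤ m → (K ⟶ (Dual.inD A (M ⧸ Mq m))⟦i⟧) → (K ⟶ (Dual.inD A (M ⧸ Mq n))⟦i⟧) :=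
      fun n m hnm e => e ≫ ((DerivedCategory.singleFunctor (ModuleCat.{u} A) 0).map (ModuleCat.ofHom
        (Submodule.mapQ (Mq m) (Mq n) (LinearMap.id : M →ₗ[A] M) (Submodule.smul_mono_left (Ideal.pow_le_pow_right hnm)))))⟦i⟧'
    (∃ m : ℕ, Function.Injective (c m)) ∧
      ∀ n : ℕ, ∃ (m' : ℕ) (hnm : n ≤ m'), Set.range (t n m' hnm) ⊆ Set.range (c n) := by
  intro Mq c t
  constructor
  · haveI := ExtAR.finite_hom hK M i
    obtain ⟨N, hN⟩ := ExtAR.exists_pow_smul_top_eq_bot I (htors M inferInstance i hi)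
    obtain ⟨k, hk⟩ := ExtAR.map_mem_smul_top I hK M i
    refine ⟨k + N, fun e e' h => sub_eq_zero.1 ?_⟩
    have hz : (e - e') ≫ ((DerivedCategory.singleFunctor (ModuleCat.{u} A) 0).map
        (ModuleCat.ofHom (Mq (k + N)).mkQ))⟦i⟧' = 0 := by
      rw [Preadditive.sub_comp, sub_eq_zero]
      exact h
    obtain ⟨g, hg⟩ := ExtAR.exact₂_shift _
      (ExtAR.sesQ_shortExact (Mq (k + N))).singleTriangle_distinguished i (e - e') hz
    have hm := hk (k + N) (by omega) (Mq (k + N)) le_rfl g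
    rw [hN _ (by omega), Submodule.mem_bot] at hm
    exact hg.trans hm
  · intro n
    haveI := ExtAR.finite_hom hK ↥(Mq n) (1 + i)
    obtain ⟨N, hN⟩ := ExtAR.exists_pow_smul_top_eq_bot I
      (htors ↥(Mq n) inferInstance (1 + i) (by omega))
    obtain ⟨k, hk⟩ := ExtAR.map_mem_smul_top' I hK ↥(Mq n) (1 + i)
    have hle : n ≤ n + k + N := by omega
    have hsub : Mq (n + k + N) ≤ Mq n := Submodule.smul_mono_left (Ideal.pow_le_pow_right hle)
    refine ⟨n + k + N, hle, ?_⟩
    rintro _ ⟨e, rfl⟩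
    have hmem : ∀ x, Submodule.inclusion hsub x ∈ (I ^ (k + N) • ⊤ : Submodule A (Mq n)) := by
      intro x
      have h1 : ((x : M)) ∈ (I ^ (k + N) • ⊤ : Submodule A (Mq n)).map (Mq n).subtype := by
        rw [Submodule.map_smul'', Submodule.map_subtype_top]
        show (x : M) ∈ (I ^ (k + N) • (I ^ n • ⊤) : Submodule A M)
        rw [← Submodule.smul_assoc, smul_eq_mul, ← pow_add,
          show k + N + n = n + k + N by omega]
        exact x.2
      obtain ⟨z, hz, hz'⟩ := h1
      rwa [show z = Submodule.inclusion hsub x from Subtype.ext hz'] at hz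
    let δ := (ExtAR.sesQ_shortExact (Mq (n + k + N))).singleδ
    let a := shiftFunctorAdd' (Dual.D A) (1 : ℤ) i (1 + i) rfl
    have hm := hk (k + N) (by omega) _ (Submodule.inclusion hsub) hmem
      ((e ≫ δ⟦i⟧') ≫ a.inv.app _)
    rw [hN _ (by omega), Submodule.mem_bot] at hm
    let ι := (DerivedCategory.singleFunctor (ModuleCat.{u} A) 0).map
      (ModuleCat.ofHom (Submodule.inclusion hsub))
    have h2 : (e ≫ δ⟦i⟧') ≫ (ι⟦(1 : ℤ)⟧')⟦i⟧' = 0 := by
      rw [← cancel_mono (a.inv.app _), Limits.zero_comp]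
      exact ((Category.assoc _ _ _).trans
        ((congrArg ((e ≫ δ⟦i⟧') ≫ ·) (a.inv.naturality ι)).trans (Category.assoc _ _ _).symm)).trans hm
    obtain ⟨g, hg⟩ := ExtAR.exact₃_shift _
      (ExtAR.sesQ_shortExact (Mq n)).singleTriangle_distinguished i (t n (n + k + N) hle e) (by
        have hcomm := congrArg (fun f => f⟦i⟧')
          ((CategoryTheory.ShortComplex.ShortExact.singleTriangle.map
            (ExtAR.sesQ_shortExact (Mq (n + k + N))) (ExtAR.sesQ_shortExact (Mq n))
            (ExtAR.sesQMap hsub)).comm₃)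
        simp only [Functor.map_comp] at hcomm
        refine Eq.trans ?_ h2
        refine (Category.assoc _ _ _).trans (Eq.trans ?_ (Category.assoc _ _ _).symm)
        exact congrArg (e ≫ ·) hcomm.symm)
    exact ⟨g, hg.symm⟩

end Groth.Agent.S7164
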