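import Groth.Statements.S7165
import Groth.Agent.RegLoc.KAExt
import Mathlib.RingTheory.EssentialFiniteness
import Mathlib.RingTheory.Ideal.MinimalPrime.Noetherian

set_option autoImplicit false
universe u
open EtAlg

namespace Groth.Agent.S7165

/-- A ring which is a subdirect product of finitely many Noetherian rings is Noetherian. -/
theorem isNoetherianRing_of_subdirect {R : Type u} [CommRing R] {ι : Type u} [Finite ι]
    (S : ι → Type u) [∀ i, CommRing (S i)] (hS : ∀ i, IsNoetherianRing (S i))
    (f : ∀ i, R →+* S i) (hsurj : ∀ i, Function.Surjective (f i))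
    (hinj : ∀ x, (∀ i, f i x = 0) → x = 0) : IsNoetherianRing R := by
  letI : ∀ i, Algebra R (S i) := fun i => (f i).toAlgebra
  haveI : ∀ i, IsNoetherian R (S i) := fun i => by
    refine ⟨fun N => ?_⟩
    let J : Ideal (S i) :=
      { carrier := N
        zero_mem' := N.zero_mem
        add_mem' := N.add_mem
        smul_mem' := fun c x hx => by
          obtain ⟨r, rfl⟩ := hsurj i c
          exact N.smul_mem r hx }
    obtain ⟨s, hs⟩ := (isNoetherianRing_iff_ideal_fg _).mp (hS i) J
    refine ⟨s, le_antisymm (Submodule.span_le.mpr fun x hx => ?_) fun x hx => ?_⟩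
    · exact (hs ▸ Submodule.subset_span hx : x ∈ J)
    · have hx' : x ∈ Submodule.span (S i) (s : Set (S i)) := hs.ge (show x ∈ J from hx)
      clear hx
      induction hx' using Submodule.span_induction with
      | mem y hy => exact Submodule.subset_span hy
      | zero => exact zero_mem _
      | add y z _ _ hy hz => exact add_mem hy hz
      | smul c y _ hy =>
        obtain ⟨r, rfl⟩ := hsurj i c
        exact Submodule.smul_mem _ r hy
  exact isNoetherian_of_injective (LinearMap.pi fun i => Algebra.linearMap R (S i))
    (LinearMap.ker_eq_bot'.mpr (fun x hx => hinj x fun i => congrFun hx i) |> LinearMap.ker_eq_bot.mp)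

open TensorProduct in
/-- Let A → B be an injective local homomorphism of discrete valuation rings whose fields of fractions
are K ⊆ L, the A-algebra B being essentially of finite type. Let K' ⊇ K be an algebraic extension
field for which A', the integral closure of A in K', is a Noetherian ring, and let L' = (L ⊗_K
K')_red. Then B', the integral closure of B in L', is a Noetherian ring. (The published statement
also asserts that Spec B' → Spec A' is surjective and that the residue field extensions are finitely
generated; this row states only that B' is Noetherian.) -/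
theorem result (A B K L : Type u) [CommRing A] [IsDomain A]
    [IsDiscreteValuationRing A] [CommRing B] [IsDomain B] [IsDiscreteValuationRing B] [Algebra A B]
    (hinj : Function.Injective (algebraMap A B)) [IsLocalHom (algebraMap A B)] [Algebra.EssFiniteType A B]
    [Field K] [Field L] [Algebra A K] [IsFractionRing A K] [Algebra B L] [IsFractionRing B L]
    [Algebra K L] [Algebra A L] [IsScalarTower A K L] [IsScalarTower A B L]
    (K' : Type u) [Field K'] [Algebra K K'] [Algebra A K'] [IsScalarTower A K K'] [Algebra.IsAlgebraic K K']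
    (hA' : IsNoetherianRing (integralClosure A K'))
    (L' : Type u) [CommRing L'] [IsReduced L'] [Algebra K L'] [Algebra L L'] [Algebra K' L'] [Algebra B L']
    [IsScalarTower K L L'] [IsScalarTower K K' L'] [IsScalarTower B L L']
    (q : L ⊗[K] K' →ₐ[K] L') (hq : Function.Surjective q) (hker : RingHom.ker q.toRingHom = nilradical (L ⊗[K] K'))
    (hqL : ∀ y : L, q (y ⊗ₜ 1) = algebraMap L L' y) (hqK : ∀ z : K', q (1 ⊗ₜ z) = algebraMap K' L' z) :
    IsNoetherianRing (integralClosure B L') := by
  classical
  letI : Algebra A L' := ((algebraMap B L').comp (algebraMap A B)).toAlgebra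
  haveI : IsScalarTower A B L' := IsScalarTower.of_algebraMap_eq fun _ => rfl
  have hcompat : ∀ a : A, algebraMap K' L' (algebraMap A K' a) = algebraMap A L' a := by
    intro a
    rw [IsScalarTower.algebraMap_apply A K K', ← IsScalarTower.algebraMap_apply K K' L',
      IsScalarTower.algebraMap_apply K L L', ← IsScalarTower.algebraMap_apply A K L,
      IsScalarTower.algebraMap_apply A B L, ← IsScalarTower.algebraMap_apply B L L']
    rfl
  haveI : IsScalarTower A K' L' := IsScalarTower.of_algebraMap_eq fun a => (hcompat a).symm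
  -- the ring generated by `B` and `A'`
  let A' := integralClosure A K'
  let ψ : A' ⊗[A] B →ₐ[A] L' := Algebra.TensorProduct.lift
    ((IsScalarTower.toAlgHom A K' L').comp A'.val) (IsScalarTower.toAlgHom A B L') fun _ _ => .all _ _
  haveI hN : IsNoetherianRing (A' ⊗[A] B) := Algebra.EssFiniteType.isNoetherianRing A' _
  have hψint : ∀ t, IsIntegral B (ψ t) := by
    intro t
    induction t using TensorProduct.induction_on with
    | zero => rw [map_zero]; exact isIntegral_zero
    | add x y hx hy => rw [map_add]; exact hx.add hy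
    | tmul a b =>
      rw [Algebra.TensorProduct.lift_tmul]
      refine IsIntegral.mul ?_ isIntegral_algebraMap
      exact ((show IsIntegral A (a : K') from a.2).map (IsScalarTower.toAlgHom A K' L')).tower_top
  -- every element of `L'` is a fraction
  have hfrac : ∀ x : L', ∃ s : B, s ≠ 0 ∧ ∃ t, algebraMap B L' s * x = ψ t := by
    intro x
    obtain ⟨y, rfl⟩ := hq x
    induction y using TensorProduct.induction_on with
    | zero => exact ⟨1, one_ne_zero, 0, by simp⟩
    | add x y hx hy =>
      obtain ⟨s, hs, t, ht⟩ := hx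
      obtain ⟨s', hs', t', ht'⟩ := hy
      refine ⟨s * s', mul_ne_zero hs hs', (1 ⊗ₜ s') * t + (1 ⊗ₜ s) * t', ?_⟩
      have e : ∀ b : B, ψ ((1 : A') ⊗ₜ[A] b) = algebraMap B L' b := fun b => by
        simp [ψ, Algebra.TensorProduct.lift_tmul]
      rw [map_add, map_add, map_mul, map_mul, map_mul, e, e, ← ht, ← ht']
      ring
    | tmul l z =>
      obtain ⟨b, s, hs, rfl⟩ := IsFractionRing.div_surjective B l
      have hzA : IsAlgebraic A z :=
        (IsFractionRing.isAlgebraic_iff A K K').mpr (Algebra.IsAlgebraic.isAlgebraic z)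
      obtain ⟨a, ha, hint⟩ := hzA.exists_integral_multiple
      have hs0 : s ≠ 0 := nonZeroDivisors.ne_zero hs
      refine ⟨s * algebraMap A B a, mul_ne_zero hs0 ((map_ne_zero_iff _ hinj).mpr ha),
        (⟨a • z, hint⟩ : A') ⊗ₜ b, ?_⟩
      have e1 : q ((algebraMap B L b / algebraMap B L s) ⊗ₜ[K] z) =
          algebraMap L L' (algebraMap B L b / algebraMap B L s) * algebraMap K' L' z := by
        rw [← hqL, ← hqK, ← map_mul, Algebra.TensorProduct.tmul_mul_tmul, mul_one, one_mul]
      have e2 : algebraMap B L' s * algebraMap L L' (algebraMap B L b / algebraMap B L s) =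
          algebraMap B L' b := by
        rw [IsScalarTower.algebraMap_apply B L L', ← map_mul, mul_div_cancel₀,
          ← IsScalarTower.algebraMap_apply B L L']
        exact (map_ne_zero_iff _ (IsFractionRing.injective B L)).mpr hs0
      have e3 : ψ ((⟨a • z, hint⟩ : A') ⊗ₜ b) =
          algebraMap K' L' (algebraMap A K' a) * algebraMap K' L' z * algebraMap B L' b := by
        simp [ψ, Algebra.TensorProduct.lift_tmul, Algebra.smul_def, map_mul]
      rw [e1, e3, hcompat, map_mul, ← e2, IsScalarTower.algebraMap_apply A B L']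
      ring
  -- `L'` is Noetherian and zero-dimensional
  haveI : Algebra.EssFiniteType B L := Algebra.EssFiniteType.of_isLocalization L (nonZeroDivisors B)
  haveI : Algebra.EssFiniteType A L := Algebra.EssFiniteType.comp A B L
  haveI : Algebra.EssFiniteType K L := Algebra.EssFiniteType.of_comp A K L
  haveI : IsNoetherianRing (K' ⊗[K] L) := Algebra.EssFiniteType.isNoetherianRing K' _
  haveI : IsNoetherianRing L' := by
    refine isNoetherianRing_of_surjective (K' ⊗[K] L) L'
      (q.toRingHom.comp (Algebra.TensorProduct.comm K K' L).toAlgHom.toRingHom) ?_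
    exact hq.comp (Algebra.TensorProduct.comm K K' L).surjective
  have hintL : ∀ x : L', IsIntegral L x := by
    intro x
    obtain ⟨y, rfl⟩ := hq x
    induction y using TensorProduct.induction_on with
    | zero => rw [map_zero]; exact isIntegral_zero
    | add x y hx hy => rw [map_add]; exact hx.add hy
    | tmul l z =>
      have e1 : q (l ⊗ₜ[K] z) = algebraMap L L' l * algebraMap K' L' z := by
        rw [← hqL, ← hqK, ← map_mul, Algebra.TensorProduct.tmul_mul_tmul, mul_one, one_mul]
      rw [e1]
      refine IsIntegral.mul isIntegral_algebraMap ?_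
      exact ((Algebra.IsIntegral.isIntegral (R := K) z).map (IsScalarTower.toAlgHom K K' L')).tower_top
  haveI : Algebra.IsIntegral L L' := ⟨hintL⟩
  haveI hfin : Finite (minimalPrimes L') := (minimalPrimes.finite_of_isNoetherianRing L').to_subtype
  have hmax : ∀ P : minimalPrimes L', P.1.IsMaximal := by
    intro P
    haveI : P.1.IsPrime := P.2.1.1
    refine Ideal.isMaximal_of_isIntegral_of_isMaximal_comap (R := L) P.1 ?_
    rw [(Ideal.eq_bot_or_top (P.1.comap (algebraMap L L'))).resolve_right (Ideal.IsPrime.ne_top inferInstance)]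
    exact Ideal.bot_isMaximal
  let π : ∀ P : minimalPrimes L', integralClosure B L' →+* L' ⧸ P.1 := fun P =>
    (Ideal.Quotient.mk P.1).comp (integralClosure B L').val.toRingHom
  refine isNoetherianRing_of_subdirect (fun P => (π P).range) ?_ (fun P => (π P).rangeRestrict)
    (fun P => (π P).rangeRestrict_surjective) fun x hx => ?_
  swap
  · have h : (x : L') ∈ sInf (minimalPrimes L') := by
      rw [Ideal.mem_sInf]
      intro P hP
      exact Ideal.Quotient.eq_zero_iff_mem.mp (congrArg Subtype.val (hx ⟨P, hP⟩))
    rw [minimalPrimes, Ideal.sInf_minimalPrimes] at h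
    have h' : (x : L') ∈ nilradical L' := h
    rw [nilradical_eq_zero, Submodule.zero_eq_bot, Ideal.mem_bot] at h'
    exact Subtype.ext h'
  intro P
  haveI := hmax P
  letI : Field (L' ⧸ P.1) := Ideal.Quotient.field P.1
  let mk : L' →+* L' ⧸ P.1 := Ideal.Quotient.mk P.1
  let R₀ : Subring (L' ⧸ P.1) := (mk.comp ψ.toRingHom).range
  haveI : IsNoetherianRing R₀ := isNoetherianRing_range _
  have hBinj : Function.Injective (mk.comp (algebraMap B L')) := by
    rw [IsScalarTower.algebraMap_eq B L L', ← RingHom.comp_assoc]
    exact (mk.comp (algebraMap L L')).injective.comp (IsFractionRing.injective B L)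
  have hψB : ∀ b : B, ψ ((1 : A') ⊗ₜ[A] b) = algebraMap B L' b := fun b => by
    simp [ψ, Algebra.TensorProduct.lift_tmul]
  let β : B →+* R₀ := (mk.comp (algebraMap B L')).codRestrict R₀ fun b =>
    ⟨(1 : A') ⊗ₜ b, congrArg mk (hψB b)⟩
  letI : Algebra B R₀ := β.toAlgebra
  haveI : FaithfulSMul B R₀ := (faithfulSMul_iff_algebraMap_injective B R₀).mpr fun x y hxy =>
    hBinj (congrArg Subtype.val hxy)
  haveI : Algebra.IsIntegral B R₀ := ⟨fun r => by
    obtain ⟨r, t, rfl⟩ := r
    obtain ⟨p, hp, hev⟩ := hψint t
    refine ⟨p, hp, Subtype.ext ?_⟩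
    have := Polynomial.hom_eval₂ p (algebraMap B R₀) R₀.subtype ⟨mk (ψ t), t, rfl⟩
    change R₀.subtype _ = _
    refine this.trans ?_
    change Polynomial.eval₂ (mk.comp (algebraMap B L')) (mk (ψ t)) p = 0
    rw [← Polynomial.hom_eval₂, hev, map_zero]⟩
  haveI : Ring.KrullDimLE 1 R₀ := by
    rw [Ring.krullDimLE_iff, VarDim.ringKrullDim_eq_of_isIntegral (R := B) (S := R₀)]
    exact Order.KrullDimLE.krullDim_le
  haveI : IsFractionRing R₀ (L' ⧸ P.1) := by
    refine IsFractionRing.of_field (R := R₀) (K := L' ⧸ P.1) fun z => ?_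
    obtain ⟨x, rfl⟩ := Ideal.Quotient.mk_surjective z
    obtain ⟨s, hs, t, ht⟩ := hfrac x
    refine ⟨⟨mk (ψ t), t, rfl⟩, β s, ?_⟩
    change mk x = mk (ψ t) / mk (algebraMap B L' s)
    rw [← ht, map_mul, mul_div_cancel_left₀]
    exact fun h => hs ((map_eq_zero_iff (mk.comp (algebraMap B L')) hBinj).mp h)
  let C : Subalgebra R₀ (L' ⧸ P.1) :=
    { (π P).range.toSubsemiring with
      algebraMap_mem' := fun r => by
        obtain ⟨r, t, rfl⟩ := r
        exact ⟨⟨ψ t, hψint t⟩, rfl⟩ }
  exact RegLoc.isNoetherianRing_of_between (K := L' ⧸ P.1) C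

end Groth.Agent.S7165
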