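import Groth.Statements.S7169
import Groth.Agent.FlatMor.PC.Instances

set_option autoImplicit false
universe u
attribute [local instance] HasDerivedCategory.standard
open FlatMor
open Groth.Agent.FlatMor

namespace Groth.Agent.S7169

open AlgebraicGeometry CategoryTheory Limits in
/-- If X and Y are pseudo-coherent over a base scheme S (via g : Y → S and f ≫ g), then any S-morphism f
: X → Y is pseudo-coherent. -/
theorem result {X Y S : Scheme.{u}} (f : X ⟶ Y) (g : Y ⟶ S)
    (hX : MoreMor.IsPseudoCoherentMor (f ≫ g)) (hY : MoreMor.IsPseudoCoherentMor g) : MoreMor.IsPseudoCoherentMor f := by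
  rw [PC.pcMor_eq, PC.localHom_pc.iff_exists_chart]
  intro x
  obtain ⟨V, hV, hxV, -⟩ := exists_isAffineOpen_mem_and_subset (show g (f x) ∈ (⊤ : S.Opens) from trivial)
  obtain ⟨W, hW, hxW, eW⟩ := exists_isAffineOpen_mem_and_subset (show f x ∈ g ⁻¹ᵁ V from hxV)
  obtain ⟨U, hU, hxU, eU⟩ := exists_isAffineOpen_mem_and_subset (show x ∈ f ⁻¹ᵁ W from hxW)
  have eV : U ≤ (f ≫ g) ⁻¹ᵁ V := fun y hy => eW (eU hy)
  refine ⟨U, W, eU, hU, hW, hxU, ?_⟩
  let := (f.appLE W U eU).hom.toAlgebra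
  let := (g.appLE V W eW).hom.toAlgebra
  let := ((f ≫ g).appLE V U eV).hom.toAlgebra
  have : IsScalarTower Γ(S, V) Γ(Y, W) Γ(X, U) := IsScalarTower.of_algebraMap_eq fun r =>
    (congr($(Scheme.Hom.appLE_comp_appLE f g V W U eW eU).hom r)).symm
  exact PC.pcHom_of_comp (hY W V hW hV eW) (hX U V hU hV eV)

end Groth.Agent.S7169
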