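import Groth.Statements.S7170
import Groth.Agent.FlatMor.PC.Instances

set_option autoImplicit false
universe u
attribute [local instance] HasDerivedCategory.standard
open FlatMor
open Groth.Agent.FlatMor

namespace Groth.Agent.S7170

open AlgebraicGeometry CategoryTheory Limits in
/-- For a finite morphism f : X → S, pseudo-coherence of f is equivalent to pseudo-coherence of the
O_S-module f_* O_X; as f is affine, the latter means that O_X(f⁻¹ V) is a pseudo-coherent
O_S(V)-module for every affine open V of S, the form used here. -/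
theorem result {X S : Scheme.{u}} (f : X ⟶ S) [IsFinite f] :
    MoreMor.IsPseudoCoherentMor f ↔ ∀ (V : S.Opens), IsAffineOpen V →
      (letI := (f.app V).hom.toAlgebra
       DRing.IsPseudoCoherentModule' Γ(S, V) Γ(X, f ⁻¹ᵁ V)) := by
  have key : ∀ (V : S.Opens) (hV : IsAffineOpen V),
      ((letI := (f.appLE V (f ⁻¹ᵁ V) le_rfl).hom.toAlgebra
        MoreMor.IsPseudoCoherentHom Γ(S, V) Γ(X, f ⁻¹ᵁ V)) ↔
       (letI := (f.app V).hom.toAlgebra
        DRing.IsPseudoCoherentModule' Γ(S, V) Γ(X, f ⁻¹ᵁ V))) := fun V hV => by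
    rw [Scheme.Hom.appLE_eq_app]
    let := (f.app V).hom.toAlgebra
    have : Module.Finite Γ(S, V) Γ(X, f ⁻¹ᵁ V) := f.finite_app V hV
    exact PC.pcHom_iff_of_finite
  refine ⟨fun h V hV => (key V hV).1 (h _ V (hV.preimage f) hV le_rfl), fun h => ?_⟩
  rw [PC.pcMor_eq, PC.localHom_pc.iff_exists_chart]
  intro x
  obtain ⟨V, hV, hxV, -⟩ := exists_isAffineOpen_mem_and_subset (show f x ∈ (⊤ : S.Opens) from trivial)
  exact ⟨f ⁻¹ᵁ V, V, le_rfl, hV.preimage f, hV, hxV, (key V hV).2 (h V hV)⟩

end Groth.Agent.S7170
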