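import Groth.Statements.S7173
import Groth.Agent.FlatMor.PC.Regular

set_option autoImplicit false
universe u
attribute [local instance] HasDerivedCategory.standard
open FlatMor
open Groth.Agent.FlatMor

namespace Groth.Agent.S7173

open AlgebraicGeometry CategoryTheory Limits in
/-- A morphism locally of finite type to a regular scheme S (locally Noetherian with all local rings
regular) whose affine opens have finite Krull dimension is perfect. (The published statement carries
no dimension hypothesis; its proof is the ring statement for a finite type algebra over a regular
ring of finite dimension, so finite Krull dimension of the affine opens of S is assumed here.) -/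
theorem result {X S : Scheme.{u}} (f : X ⟶ S) [LocallyOfFiniteType f] [IsLocallyNoetherian S]
    (hreg : ∀ s : S, IsRegularLocalRing (S.presheaf.stalk s))
    (hdim : ∀ V : S.Opens, IsAffineOpen V → ringKrullDim Γ(S, V) < ⊤) :
    MoreMor.IsPerfectMor f := by
  intro U V hU hV e
  have : IsNoetherianRing Γ(S, V) := IsLocallyNoetherian.component_noetherian ⟨V, hV⟩
  have : IsRegularRing Γ(S, V) := ⟨fun p _ => by
    let s : V := ⟨hV.fromSpec ⟨p, inferInstance⟩, by
      have := Set.mem_range_self (f := hV.fromSpec) ⟨p, inferInstance⟩
      rwa [hV.range_fromSpec] at this⟩
    let := S.presheaf.algebra_section_stalk s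
    have hloc : IsLocalization.AtPrime (S.presheaf.stalk (s : S)) p := by
      exact hV.isLocalization_stalk' ⟨p, inferInstance⟩ s.2
    exact @IsRegularLocalRing.of_ringEquiv _ _ (hreg s) _ _
      (IsLocalization.algEquiv p.primeCompl (S.presheaf.stalk (s : S)) (Localization.AtPrime p)).toRingEquiv⟩
  let := (f.appLE V U e).hom.toAlgebra
  have : Algebra.FiniteType Γ(S, V) Γ(X, U) := f.finiteType_appLE hV hU e
  exact PC.perfectHom_of_regular

end Groth.Agent.S7173
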