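import Groth.Statements.S7174
import Groth.Agent.FlatMor.PC.Stalks
import Groth.Agent.FlatMor.PC.Instances

set_option autoImplicit false
universe u
attribute [local instance] HasDerivedCategory.standard
open FlatMor
open Groth.Agent.FlatMor

namespace Groth.Agent.S7174

open AlgebraicGeometry CategoryTheory Limits in
/-- (1) ⇔ (3): for a pseudo-coherent f : X → S, f is perfect exactly when, at every point x of X, the
stalk O_{X,x}, viewed as a module over O_{S,f(x)} through the stalk map, is of finite tor dimension.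
(The intermediate condition on the structure sheaf as a sheaf of f⁻¹O_S-modules is not restated.) -/
theorem result {X S : Scheme.{u}} (f : X ⟶ S) (hf : MoreMor.IsPseudoCoherentMor f) :
    MoreMor.IsPerfectMor f ↔ ∀ x : X,
      (letI := (f.stalkMap x).hom.toAlgebra
       DRing.HasFiniteTorDim ↑(S.presheaf.stalk (f x)) ↑(X.presheaf.stalk x)) := by
  constructor
  · intro h x
    obtain ⟨V, hV, hxV, -⟩ := exists_isAffineOpen_mem_and_subset (show f x ∈ (⊤ : S.Opens) from trivial)
    obtain ⟨U, hU, hxU, e⟩ := exists_isAffineOpen_mem_and_subset (show x ∈ f ⁻¹ᵁ V from hxV)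
    let := (f.appLE V U e).hom.toAlgebra
    let := S.presheaf.algebra_section_stalk (⟨f x, hxV⟩ : V)
    let := X.presheaf.algebra_section_stalk (⟨x, hxU⟩ : U)
    let := (f.stalkMap x).hom.toAlgebra
    let : Algebra Γ(S, V) ↑(X.presheaf.stalk x) :=
      ((algebraMap Γ(X, U) ↑(X.presheaf.stalk x)).comp (f.appLE V U e).hom).toAlgebra
    have : IsScalarTower Γ(S, V) Γ(X, U) ↑(X.presheaf.stalk x) :=
      IsScalarTower.of_algebraMap_eq fun _ => rfl
    have : IsScalarTower Γ(S, V) ↑(S.presheaf.stalk (f x)) ↑(X.presheaf.stalk x) := by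
      refine IsScalarTower.of_algebraMap_eq fun r => ?_
      exact (congr($(Scheme.Hom.germ_stalkMap f V x hxV).hom r).trans
        (by simp [RingHom.algebraMap_toAlgebra, Scheme.Hom.appLE, TopCat.Presheaf.germ_res_apply])).symm
    have : IsLocalization.AtPrime ↑(S.presheaf.stalk (f x)) (hV.primeIdealOf ⟨f x, hxV⟩).asIdeal :=
      hV.isLocalization_stalk ⟨f x, hxV⟩
    have : IsLocalization.AtPrime ↑(X.presheaf.stalk x) (hU.primeIdealOf ⟨x, hxU⟩).asIdeal :=
      hU.isLocalization_stalk ⟨x, hxU⟩
    have : Module.Flat Γ(X, U) ↑(X.presheaf.stalk x) :=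
      IsLocalization.flat _ (hU.primeIdealOf ⟨x, hxU⟩).asIdeal.primeCompl
    exact PC.finTorDim_of_localization_base (hV.primeIdealOf ⟨f x, hxV⟩).asIdeal.primeCompl
      (PC.finTorDim_trans (h U V hU hV e).2 PC.finTorDim_of_flat)
  · intro h U V hU hV e
    let := (f.appLE V U e).hom.toAlgebra
    refine PC.perfectHom_of_localizations (hf U V hU hV e) fun q => ?_
    have hxU : hU.fromSpec q ∈ U := by
      have := Set.mem_range_self (f := hU.fromSpec) q
      rwa [hU.range_fromSpec] at this
    generalize hx : hU.fromSpec q = x at hxU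
    have hxV : f x ∈ V := e hxU
    let := S.presheaf.algebra_section_stalk (⟨f x, hxV⟩ : V)
    let := X.presheaf.algebra_section_stalk (⟨x, hxU⟩ : U)
    let := (f.stalkMap x).hom.toAlgebra
    let : Algebra Γ(S, V) ↑(X.presheaf.stalk x) :=
      ((algebraMap Γ(X, U) ↑(X.presheaf.stalk x)).comp (f.appLE V U e).hom).toAlgebra
    have : IsScalarTower Γ(S, V) Γ(X, U) ↑(X.presheaf.stalk x) :=
      IsScalarTower.of_algebraMap_eq fun _ => rfl
    have : IsScalarTower Γ(S, V) ↑(S.presheaf.stalk (f x)) ↑(X.presheaf.stalk x) := by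
      refine IsScalarTower.of_algebraMap_eq fun r => ?_
      exact (congr($(Scheme.Hom.germ_stalkMap f V x hxV).hom r).trans
        (by simp [RingHom.algebraMap_toAlgebra, Scheme.Hom.appLE, TopCat.Presheaf.germ_res_apply])).symm
    have : IsLocalization.AtPrime ↑(S.presheaf.stalk (f x)) (hV.primeIdealOf ⟨f x, hxV⟩).asIdeal :=
      hV.isLocalization_stalk ⟨f x, hxV⟩
    have : Module.Flat Γ(S, V) ↑(S.presheaf.stalk (f x)) :=
      IsLocalization.flat _ (hV.primeIdealOf ⟨f x, hxV⟩).asIdeal.primeCompl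
    have : IsLocalization.AtPrime ↑(X.presheaf.stalk x) q.asIdeal := by
      subst hx
      exact hU.isLocalization_stalk' q hxU
    obtain ⟨d, hd⟩ := PC.finTorDim_trans (A := Γ(S, V)) PC.finTorDim_of_flat (h x)
    exact ⟨d, PC.hasTorDimLE_congr ((IsLocalization.algEquiv q.asIdeal.primeCompl
      ↑(X.presheaf.stalk x) (Localization.AtPrime q.asIdeal)).toLinearEquiv.restrictScalars Γ(S, V)) hd⟩

end Groth.Agent.S7174
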