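import Groth.Statements.S7180
import Groth.Agent.Fibres16.WENormal.Ring
import Groth.Agent.S7178
import Groth.Agent.FBase.PointScheme

set_option autoImplicit false
universe u
open FlatMor

namespace Groth.Agent.S7180

open AlgebraicGeometry CategoryTheory Limits in
/-- The source of a weakly étale morphism with normal target (all local rings integrally closed domains)
is normal. -/
theorem result {X Y : Scheme.{u}} (f : X ⟶ Y) [WeaklyEtale f] (hY : Pi1.IsNormalScheme Y) :
    Pi1.IsNormalScheme X := by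
  intro x
  obtain ⟨V, hV, hxV, -⟩ := exists_isAffineOpen_mem_and_subset (x := f x) (U := ⊤) trivial
  obtain ⟨U, hU, hxU, hUV⟩ := exists_isAffineOpen_mem_and_subset (x := x) (U := f ⁻¹ᵁ V) hxV
  letI := (f.appLE V U hUV).hom.toAlgebra
  haveI : Algebra.WeaklyEtale Γ(Y, V) Γ(X, U) := (S7178.result f).1 ‹_› U V hU hV hUV
  have hA : EGA4.IsNormalRing Γ(Y, V) := fun p hp => by
    obtain ⟨hd, hc⟩ := hY (hV.fromSpec ⟨p, hp⟩)
    let e := FBase.PointScheme.chartStalkEquiv hV.fromSpec ⟨p, hp⟩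
    haveI := hd; haveI := hc
    exact ⟨MulEquiv.isDomain _ e.symm.toMulEquiv, IsIntegrallyClosed.of_equiv e⟩
  obtain ⟨hd, hc⟩ := Fibres16.WENormal.isNormalRing_of_weaklyEtale Γ(Y, V) Γ(X, U) hA (hU.primeIdealOf ⟨x, hxU⟩).asIdeal
  rw [show x = hU.fromSpec (hU.primeIdealOf ⟨x, hxU⟩) from (hU.fromSpec_primeIdealOf ⟨x, hxU⟩).symm]
  let e := FBase.PointScheme.chartStalkEquiv hU.fromSpec (hU.primeIdealOf ⟨x, hxU⟩)
  haveI := hd; haveI := hc
  exact ⟨MulEquiv.isDomain _ e.toMulEquiv, IsIntegrallyClosed.of_equiv e.symm⟩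

end Groth.Agent.S7180
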