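import Groth.Statements.S7186
import Groth.Agent.S1431
import Groth.Agent.ResK0.Rank

set_option autoImplicit false
universe u
open FlatMor

namespace Groth.Agent.S7186

open AlgebraicGeometry CategoryTheory Limits in
/-- Let f : X → S be flat, proper and of finite presentation such that O_T → (f_T)_* O_{X_T} is an
isomorphism for every base change T → S. Suppose E is an O_X-module that is finite locally free and
whose restriction to each fibre X_s is free, and let S be reduced. Then E is isomorphic to the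
pullback of a finite locally free O_S-module. -/
theorem result {X S : Scheme.{u}} (f : X ⟶ S) [Flat f] [IsProper f] [LocallyOfFinitePresentation f]
    (hO : ∀ (T : Scheme.{u}) (g : T ⟶ S) (U : T.Opens), IsIso ((pullback.snd f g).app U))
    (E : X.Modules) (hE : FlatMod.IsFinLocFree E)
    (hfib : ∀ s : S, ∃ r : ℕ, Nonempty ((Scheme.Modules.pullback (f.fiberι s)).obj E ≅ FlatMod.freeMod (f.fiber s) r))
    [IsReduced S] :
    ∃ N : S.Modules, FlatMod.IsFinLocFree N ∧ Nonempty ((Scheme.Modules.pullback f).obj N ≅ E) := by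
  obtain ⟨Z, j, hj, -, hZ⟩ := S1431.result f hO E hE
  haveI := hj
  haveI : Surjective j := ⟨fun s => by
    obtain ⟨r, ⟨e⟩⟩ := hfib s
    obtain ⟨g', hg'⟩ := (hZ _ (S.fromSpecResidueField s)).2 ⟨FlatMod.freeMod _ r, ResK0.Rank.isFinLocFree_freeMod (X := Spec (S.residueField s)) r,
      ⟨(PreservesCoproduct.iso (Scheme.Modules.pullback (f.fiberToSpecResidueField s)) _ ≪≫
        Sigma.mapIso fun _ => QCoh.pullbackUnitIso (f.fiberToSpecResidueField s)) ≪≫ e.symm⟩⟩
    refine ⟨g' (IsLocalRing.closedPoint (S.residueField s)), ?_⟩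
    rw [← Scheme.Hom.comp_apply, hg']
    exact Scheme.fromSpecResidueField_apply s _⟩
  haveI : IsClosedImmersion j := IsClosedImmersion.of_isPreimmersion _ (by
    rw [Set.range_eq_univ.2 ‹Surjective j›.surj]; exact isClosed_univ)
  haveI : IsIso j := isIso_of_isClosedImmersion_of_surjective j
  obtain ⟨N, hN, ⟨φ⟩⟩ := (hZ S (𝟙 S)).1 ⟨inv j, IsIso.inv_hom_id j⟩
  let p := pullback.fst f (𝟙 S)
  have hp : inv p ≫ pullback.snd f (𝟙 S) = f := by
    rw [IsIso.inv_comp_eq]
    exact ((pullback.condition (f := f) (g := 𝟙 S)).trans (Category.comp_id _)).symm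
  exact ⟨N, hN, ⟨(Scheme.Modules.pullbackCongr hp.symm).app N ≪≫
    ((Scheme.Modules.pullbackComp (inv p) (pullback.snd f (𝟙 S))).app N).symm ≪≫
    (Scheme.Modules.pullback (inv p)).mapIso φ ≪≫
    (Scheme.Modules.pullbackComp (inv p) p).app E ≪≫
    (Scheme.Modules.pullbackCongr (IsIso.inv_hom_id p)).app E ≪≫
    (Scheme.Modules.pullbackId _).app E⟩⟩

end Groth.Agent.S7186
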