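import Groth.Statements.S7187
import Groth.Agent.FlatMor.FibTriv

set_option autoImplicit false
universe u
open FlatMor

namespace Groth.Agent.S7187

open AlgebraicGeometry CategoryTheory Limits in
/-- Let X and Y be Noetherian schemes and f : X → Y a proper morphism with O_Y → f_* O_X an isomorphism,
fibres of dimension at most 1, and H^1(X_y, O_{X_y}) = 0 for all y. Then f^* is injective on
isomorphism classes of invertible modules, and for every invertible O_X-module L whose restriction
to each fibre X_y is trivial the direct image f_* L is an invertible O_Y-module. (The published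
statement asserts moreover that such an L is isomorphic to f^* f_* L, so that f^* is a bijection
onto the classes of fibrewise trivial invertible modules; that last step is not stated here.) -/
theorem result {X Y : Scheme.{u}} (f : X ⟶ Y) [IsProper f] [IsNoetherian X] [IsNoetherian Y]
    (hO : ∀ U : Y.Opens, IsIso (f.app U))
    (hdim : ∀ y : Y, topologicalKrullDim ↥(f.fiber y) ≤ 1)
    (hH1 : ∀ y : Y, Subsingleton (Coh.HH (f.fiber y) (Coh.structureModule (f.fiber y)) 1)) :
    (∀ N N' : Y.Modules, PicF.IsInvertible N → PicF.IsInvertible N' →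
        Nonempty ((Scheme.Modules.pullback f).obj N ≅ (Scheme.Modules.pullback f).obj N') → Nonempty (N ≅ N')) ∧
    (∀ L : X.Modules, PicF.IsInvertible L →
        (∀ y : Y, Nonempty ((Scheme.Modules.pullback (f.fiberι y)).obj L ≅ Coh.structureModule (f.fiber y))) →
          PicF.IsInvertible ((Scheme.Modules.pushforward f).obj L)) := by
  have hb : ∀ U : Y.Opens, Function.Bijective (f.app U) := fun U => by
    haveI := hO U
    exact ConcreteCategory.bijective_of_isIso (f.app U)
  refine ⟨fun N N' hN hN' hiso => ?_, fun L hL hfib y => ?_⟩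
  · obtain ⟨e⟩ := hiso
    have hu : ∀ M : Y.Modules, PicF.IsInvertible M →
        IsIso ((Scheme.Modules.pullbackPushforwardAdjunction f).unit.app M) := fun M hM =>
      Groth.Agent.LFFrame.isIso_unit f hb M fun z => by
        obtain ⟨U, n, e, hz, he⟩ := Groth.Agent.LFFrame.exists_isFrame_of_isFinLocFree
          (Groth.Agent.ProjForm.isFinLocFree_of_isInvertible hM) z
        exact ⟨U, n, e, hz, he⟩
    have := hu N hN
    have := hu N' hN'
    exact ⟨asIso ((Scheme.Modules.pullbackPushforwardAdjunction f).unit.app N) ≪≫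
      (Scheme.Modules.pushforward f).mapIso e ≪≫
      (asIso ((Scheme.Modules.pullbackPushforwardAdjunction f).unit.app N')).symm⟩
  · obtain ⟨y₀, hy₀, hclosed⟩ := (isClosed_closure (s := ({y} : Set ↥Y))).exists_closed_singleton
      ⟨y, subset_closure rfl⟩
    obtain ⟨V, hyV, ⟨φ⟩⟩ := Groth.Agent.FlatMor.FibTriv.exists_trivial_nhd f hdim hH1 hL hfib y₀ hclosed
    have hy : y ∈ V := (specializes_iff_mem_closure.2 hy₀).mem_open V.2 hyV
    obtain ⟨e, he⟩ := Groth.Agent.VBLib.exists_isFrame_of_iso (M := L) (n := 1)
      ((Scheme.Modules.restrictFunctorIsoPullback _).app L ≪≫ φ ≪≫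
        (coproductUniqueIso fun _ : Fin 1 => Coh.structureModule ((f ⁻¹ᵁ V) : Scheme.{u})).symm)
    obtain ⟨ψ⟩ := Groth.Agent.FinCov71.IsFrame.nonempty_iso_freeMod
      (Groth.Agent.LFFrame.IsFrame.pushforward f hb he)
    exact ⟨V, hy, ⟨ψ ≪≫ coproductUniqueIso fun _ : Fin 1 => Coh.structureModule (V : Scheme.{u})⟩⟩

end Groth.Agent.S7187
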