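import Groth.Statements.S7188
import Groth.Agent.CBC.SeesawConn
import Groth.Agent.LFDesc.Invertible
import Groth.Agent.PicLaw.Swap
-- import your own Groth.Agent.* helpers here

set_option autoImplicit false
universe u
open FlatMor

namespace Groth.Agent.S7188

open AlgebraicGeometry CategoryTheory Limits in
/-- Let f : X → S be flat, proper and of finite presentation with O_T → (f_T)_* O_{X_T} an isomorphism
for every base change, let E be an invertible O_X-module, and let j : Z → S be the immersion of
finite presentation representing the locus of those T → S over which the pullback of E comes from a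
finite locally free O_T-module. If every geometric fibre of f is an integral scheme, j is a closed
immersion (the locus is a closed subscheme of S). -/
theorem result {X S Z : Scheme.{u}} (f : X ⟶ S) [Flat f] [IsProper f] [LocallyOfFinitePresentation f]
    (hO : ∀ (T : Scheme.{u}) (g : T ⟶ S) (U : T.Opens), IsIso ((pullback.snd f g).app U))
    (E : X.Modules) (hE : PicF.IsInvertible E)
    (j : Z ⟶ S) [IsImmersion j] [LocallyOfFinitePresentation j]
    (hZ : ∀ (T : Scheme.{u}) (g : T ⟶ S), (∃ g' : T ⟶ Z, g' ≫ j = g) ↔
        ∃ N : T.Modules, FlatMod.IsFinLocFree N ∧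
          Nonempty ((Scheme.Modules.pullback (pullback.snd f g)).obj N ≅ (Scheme.Modules.pullback (pullback.fst f g)).obj E))
    (hgeo : ∀ (K : Type u) [Field K] (x : Spec (CommRingCat.of K) ⟶ S), IsIntegral (pullback f x)) :
    IsClosedImmersion j := by
  have hint : ∀ s : S, IsIntegral (f.fiber s) := fun s =>
    hgeo (S.residueField s) (S.fromSpecResidueField s)
  suffices h : Set.range j =
      {s : S | Nonempty (CohIII.fiberMod f E s ≅ Coh.structureModule (f.fiber s))} from
    IsClosedImmersion.of_isPreimmersion j (h ▸ CBC.SeesawConn.isClosed_trivial f hint hE)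
  ext s
  constructor
  · rintro ⟨z, rfl⟩
    haveI : IsIso (j.residueFieldMap z) := by
      refine (ConcreteCategory.isIso_iff_bijective _).2 ⟨(j.residueFieldMap z).hom.injective, fun a => ?_⟩
      obtain ⟨b, rfl⟩ := Z.residue_surjective z a
      obtain ⟨c, rfl⟩ := j.stalkMap_surjective z b
      exact ⟨S.residue (j z) c, congr($(Scheme.residue_residueFieldMap j z) c)⟩
    obtain ⟨N, hN, ⟨e⟩⟩ := (hZ _ (S.fromSpecResidueField (j z))).1
      ⟨inv (Spec.map (j.residueFieldMap z)) ≫ Z.fromSpecResidueField z, by
        rw [Category.assoc, IsIso.inv_comp_eq]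
        exact (j.SpecMap_residueFieldMap_fromSpecResidueField z).symm⟩
    let π := pullback.snd f (S.fromSpecResidueField (j z))
    haveI : IsIntegral (pullback f (S.fromSpecResidueField (j z))) := hint (j z)
    haveI : Subsingleton ↥(Spec (S.residueField (j z))) :=
      inferInstanceAs (Subsingleton (PrimeSpectrum (S.residueField (j z))))
    haveI : Nonempty ↥(Spec (S.residueField (j z))) :=
      inferInstanceAs (Nonempty (PrimeSpectrum (S.residueField (j z))))
    haveI : Surjective π := ⟨fun t => ⟨Classical.arbitrary _, Subsingleton.elim _ _⟩⟩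
    haveI : Flat π := inferInstance
    haveI : QuasiCompact π := inferInstance
    haveI : N.IsQuasicoherent := (VBLib.isCoh_of_isFinLocFree hN).1
    have hNi : PicF.IsInvertible N := LFDesc.isInvertible_of_pullback π N
      (PicCl.isInvertible_of_iso e.symm (PicCl.isInvertible_pullback _ hE))
    obtain ⟨u⟩ := PicLaw.nonempty_iso_of_subsingleton hNi
    exact ⟨e.symm ≪≫ (Scheme.Modules.pullback π).mapIso u ≪≫ QCoh.pullbackUnitIso π⟩
  · rintro ⟨φ⟩
    obtain ⟨g', hg'⟩ := (hZ _ (S.fromSpecResidueField s)).2
      ⟨Coh.structureModule _, CBC.SeesawConn.finLocFree_of_invertible (fun x => ⟨⊤, trivial, ⟨(Scheme.Modules.restrictFunctorIsoPullback (⊤ : (Spec (S.residueField s)).Opens).ι).app _ ≪≫ QCoh.pullbackUnitIso _⟩⟩),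
        ⟨QCoh.pullbackUnitIso _ ≪≫ φ.symm⟩⟩
    refine ⟨g' (IsLocalRing.closedPoint (S.residueField s)), ?_⟩
    rw [← Scheme.Hom.comp_apply, hg']
    exact Scheme.fromSpecResidueField_apply s _

end Groth.Agent.S7188
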