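import Groth.Statements.S7191
import Groth.Agent.CDLim.Basic
-- import your own Groth.Agent.* helpers here

set_option autoImplicit false
universe u
open CategoryTheory AlgebraicGeometry
open FlatMor

namespace Groth.Agent.S7191

/-- Let S = lim S_i be a cofiltered limit of schemes with affine transition morphisms, f₀ : X₀ → Y₀ a
morphism over some S_{i₀} with Y₀ quasi-compact and quasi-separated and f₀ locally of finite
presentation, and f : X → Y its base change to S. If f is completely decomposed (every point of Y is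
the image of a point of X with the same residue field), then some base change f_i : X_i → Y_i of f₀
to an S_i, i → i₀, is completely decomposed. -/
theorem result {I : Type u} [SmallCategory I] [IsCofiltered I]
    (D : I ⥤ Scheme.{u}) (c : Limits.Cone D) (hc : Limits.IsLimit c)
    [∀ (i j : I) (a : i ⟶ j), IsAffineHom (D.map a)]
    (i0 : I) {X0 Y0 X Y : Scheme.{u}} (f0 : X0 ⟶ Y0) (q0 : Y0 ⟶ D.obj i0) [CompactSpace ↥Y0] [QuasiSeparatedSpace ↥Y0]
    [LocallyOfFinitePresentation f0]
    (f : X ⟶ Y) (q : Y ⟶ c.pt) (pY : Y ⟶ Y0) (pX : X ⟶ X0)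
    (hY : IsPullback pY q q0 (c.π.app i0)) (hX : IsPullback pX f f0 pY)
    (hcd : ∀ y : Y, ∃ x : X, f x = y ∧ Function.Bijective (f.residueFieldMap x)) :
    ∃ (i : I) (a : i ⟶ i0) (Xi Yi : Scheme.{u}) (fi : Xi ⟶ Yi) (qi : Yi ⟶ D.obj i) (pYi : Yi ⟶ Y0) (pXi : Xi ⟶ X0),
      IsPullback pYi qi q0 (D.map a) ∧ IsPullback pXi fi f0 pYi ∧
      ∀ y : Yi, ∃ x : Xi, fi x = y ∧ Function.Bijective (fi.residueFieldMap x) := by
  
  let top : CategoryTheory.Over i0 := CategoryTheory.Over.mk (CategoryTheory.CategoryStruct.id i0)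
  obtain ⟨q', hq⟩ := Groth.Agent.LimLib.isPullback_bc_top f0 hY hX
  let f1 : _ ⟶ (Groth.Agent.LimLib.bcDiag D i0 q0).obj top :=
    Limits.pullback.snd f0 (Limits.pullback.fst q0 (D.map top.hom))
  have hlfp : LocallyOfFinitePresentation f1 := MorphismProperty.pullback_snd _ _ ‹_›
  obtain ⟨j, φ, h⟩ := Groth.Agent.CDLim.exists_stage_sections
    (Groth.Agent.LimLib.isLimitBcCone hc hY) (i := top) f1 (fun s => by
      obtain ⟨x₀, rfl, hx₀⟩ := hcd s
      obtain ⟨x, hx⟩ := Groth.Agent.CDLim.exists_section_of_bijective f x₀ hx₀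
      exact ⟨x ≫ q', (Category.assoc _ _ _).trans ((congrArg (x ≫ ·) hq.w).trans
        ((Category.assoc _ _ _).symm.trans (congrArg (· ≫ _) hx)))⟩)
  refine ⟨j.left, j.hom, _, Limits.pullback q0 (D.map j.hom),
    Limits.pullback.snd _ ((Groth.Agent.LimLib.bcDiag D i0 q0).map φ),
    Limits.pullback.snd _ _, Limits.pullback.fst _ _,
    Limits.pullback.fst (Limits.pullback.snd f0 (Limits.pullback.fst q0 (D.map top.hom)))
      ((Groth.Agent.LimLib.bcDiag D i0 q0).map φ) ≫ Limits.pullback.fst _ _,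
    IsPullback.of_hasPullback _ _, ?_, fun y => ?_⟩
  · have e : (Groth.Agent.LimLib.bcDiag D i0 q0).map φ ≫ Limits.pullback.fst q0 (D.map top.hom) =
        Limits.pullback.fst q0 (D.map j.hom) := Limits.pullback.lift_fst _ _ _
    exact e ▸ (IsPullback.of_hasPullback _
      ((Groth.Agent.LimLib.bcDiag D i0 q0).map φ)).paste_horiz
      (IsPullback.of_hasPullback f0 (Limits.pullback.fst q0 (D.map top.hom)))
  · obtain ⟨x, hx⟩ := h y
    exact Groth.Agent.CDLim.exists_bijective_of_section _ y (Limits.pullback.lift x _ hx)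
      (Limits.pullback.lift_snd _ _ _)

end Groth.Agent.S7191
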