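import Groth.Statements.S7196
import Groth.Agent.MorSGlue.Basic

set_option autoImplicit false
set_option backward.isDefEq.respectTransparency false
universe u
open CategoryTheory AlgebraicGeometry
open FlatMor

namespace Groth.Agent.S7196

/-- For Z → S finite locally free and X → S separated, locally of finite type and with discrete fibres
(locally quasi-finite), the functor T ↦ {S-morphisms T ×_S Z → X} on S-schemes is represented by
some S-scheme. -/
theorem result {Z X S : Scheme.{u}} (g : Z ⟶ S) (f : X ⟶ S) (hg : Mor2.IsFinLocFree g)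
    [IsSeparated f] [LocallyQuasiFinite f] [LocallyOfFiniteType f] :
    (Flatn.morS g f).IsRepresentable :=
  Groth.Agent.MorSGlue.representable g f hg fun s d x hx => by
    obtain ⟨V, hV, hsV, -⟩ := exists_isAffineOpen_mem_and_subset (x := s) (U := ⊤) trivial
    have : IsAffine (V : Scheme) := hV
    obtain ⟨W, hW, hFW⟩ := GrpdLib.exists_affine_of_finite_of_lqf (f ∣_ V)
      (F := Set.range fun k => (⟨x k, show f (x k) ∈ V from (hx k).symm ▸ hsV⟩ : (f ⁻¹ᵁ V : X.Opens)))
      (Set.finite_range _)
    exact ⟨(f ⁻¹ᵁ V).ι ''ᵁ W, hW.image_of_isOpenImmersion _, fun k => ⟨_, hFW ⟨k, rfl⟩, rfl⟩⟩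

end Groth.Agent.S7196
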