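import Groth.Statements.S7198
import Groth.Agent.S1375
import Groth.Agent.S1353
import Groth.Agent.S1390
-- import your own Groth.Agent.* helpers here

set_option autoImplicit false
universe w u
open FlatMor

namespace Groth.Agent.S7198

set_option backward.isDefEq.respectTransparency.types false in
open AlgebraicGeometry CategoryTheory Limits in
/-- Near a point in the image of an fppf morphism there are an elementary etale neighbourhood and a
finite flat cover of it factoring through the morphism. -/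
theorem exists_nbhd_fp {Y X : Scheme.{u}} (w : Y ⟶ X) [Flat w] [LocallyOfFinitePresentation w]
    (y : Y) :
    ∃ (U V : Scheme.{u}) (g : U ⟶ X) (v : V ⟶ U), Etale g ∧
      (∃ u : U, g.base u = w y ∧ IsIso (g.residueFieldMap u)) ∧
      (IsFinite v ∧ Flat v ∧ Surjective v ∧ LocallyOfFinitePresentation v) ∧ ∃ r : V ⟶ Y, r ≫ w = v ≫ g := by
  classical
  let O : X.Opens := ⟨Set.range w, w.isOpenMap.isOpen_range⟩
  have hO : w ⁻¹ᵁ O = ⊤ := TopologicalSpace.Opens.ext (Set.eq_univ_of_forall fun z => ⟨z, rfl⟩)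
  let w' := w ∣_ O
  haveI : Surjective w' := ⟨fun o => by
    obtain ⟨z, hz⟩ := (show o.1 ∈ Set.range w from o.2)
    refine ⟨⟨z, show z ∈ w ⁻¹ᵁ O from ⟨z, rfl⟩⟩, Subtype.ext ?_⟩
    exact (morphismRestrict_base_coe w O _).trans hz⟩
  obtain ⟨U₀, hU₀, hy, -⟩ := exists_isAffineOpen_mem_and_subset
    (show (⟨w y, y, rfl⟩ : O.toScheme) ∈ (⊤ : O.toScheme.Opens) from trivial)
  obtain ⟨T, π, r, -, _, _, _, _, hr⟩ := S1375.exists_affine_refinement w' U₀ hU₀
  let f : T ⟶ X := π ≫ U₀.ι ≫ O.ι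
  obtain ⟨t, ht⟩ := π.surjective ⟨_, hy⟩
  have hft : f t = w y := by
    show (π ≫ U₀.ι ≫ O.ι) t = _
    rw [Scheme.Hom.comp_apply, ht]
    rfl
  obtain ⟨U, g, u, hn, W, z, hzW, hfin, hzu, -, -, -⟩ :=
    S1353.result f t (f.quasiFiniteAt t)
  haveI := hn.etale
  haveI := hfin
  let v₀ := W.ι ≫ pullback.snd f g
  haveI : Flat v₀ := inferInstance
  haveI : LocallyOfFinitePresentation v₀ := inferInstance
  let U' : U.Opens := ⟨Set.range v₀, v₀.isOpenMap.isOpen_range⟩
  let v := v₀ ∣_ U'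
  haveI : Surjective v := ⟨fun a => by
    obtain ⟨x, hx⟩ := (show a.1 ∈ Set.range v₀ from a.2)
    exact ⟨⟨x, show v₀ x ∈ U' from ⟨x, rfl⟩⟩, Subtype.ext ((morphismRestrict_base_coe v₀ U' _).trans hx)⟩⟩
  haveI : IsFinite v := MorphismProperty.of_isPullback (isPullback_morphismRestrict v₀ U').flip ‹_›
  haveI : Flat v := MorphismProperty.of_isPullback (isPullback_morphismRestrict v₀ U').flip ‹_›
  haveI : LocallyOfFinitePresentation v := MorphismProperty.of_isPullback (isPullback_morphismRestrict v₀ U').flip ‹_›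
  have hu : u ∈ U' := ⟨⟨z, hzW⟩, hzu⟩
  refine ⟨U'.toScheme, _, U'.ι ≫ g, v, inferInstance, ⟨⟨u, hu⟩, ?_, ?_⟩,
    ⟨inferInstance, inferInstance, inferInstance, inferInstance⟩,
    (v₀ ⁻¹ᵁ U').ι ≫ W.ι ≫ pullback.fst f g ≫ r ≫ (w ⁻¹ᵁ O).ι, ?_⟩
  · show g u = w y
    rw [show g u = f t from hn.base_eq, hft]
  · rw [Scheme.residueFieldMap_comp]
    have h1 : IsIso (g.residueFieldMap (U'.ι (⟨u, hu⟩ : U'.toScheme))) :=
      (ConcreteCategory.isIso_iff_bijective _).mpr hn.residue_bijective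
    haveI : IsIso (U'.ι.residueFieldMap (⟨u, hu⟩ : U'.toScheme)) := inferInstance
    exact @IsIso.comp_isIso _ _ _ _ _ _ _ h1 this
  · simp only [Category.assoc]
    rw [← morphismRestrict_ι, reassoc_of% hr, morphismRestrict_ι_assoc]
    show (v₀ ⁻¹ᵁ U').ι ≫ W.ι ≫ pullback.fst f g ≫ f = _
    rw [pullback.condition]
    simp only [v₀, Category.assoc]

open AlgebraicGeometry CategoryTheory Limits in
/-- Any fppf covering {S_i → S} is refined by a family built in four steps — cover S by Zariski opens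
U_j; over each U_j take a surjective finite locally free W_j → U_j; cover each W_j by Zariski opens
W_{j,k}; over each of those take a surjective finite locally free T_{j,k} → W_{j,k} — where every
composite T_{j,k} → S factors through some S_i. Stated pointwise: around every point of S, and then
around every point of the finite locally free cover, such data exist. -/
theorem result {S : Scheme.{u}} (E : PreZeroHypercover.{w} S)
    (hflat : ∀ i, Flat (E.f i)) (hfp : ∀ i, LocallyOfFinitePresentation (E.f i))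
    (hsurj : ∀ s : S, ∃ (i : E.I₀) (x : E.X i), E.f i x = s) (s : S) :
    ∃ (U : S.Opens) (W : Scheme.{u}) (π : W ⟶ U.toScheme), s ∈ U ∧ Mor2.IsFinLocFree π ∧ Surjective π ∧
      ∀ w : W, ∃ (W' : W.Opens) (T : Scheme.{u}) (ρ : T ⟶ W'.toScheme) (i : E.I₀) (r : T ⟶ E.X i),
        w ∈ W' ∧ Mor2.IsFinLocFree ρ ∧ Surjective ρ ∧ r ≫ E.f i = ρ ≫ W'.ι ≫ π ≫ U.ι := by
  classical
  obtain ⟨i, x, hx⟩ := hsurj s
  haveI := hflat i
  haveI := hfp i
  obtain ⟨U₁, V₁, g, v, hg, ⟨u, hu, -⟩, ⟨hv₁, hv₂, hv₃, hv₄⟩, r, hr⟩ := exists_nbhd_fp (E.f i) x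
  haveI := hg
  haveI := hv₁
  haveI := hv₂
  haveI := hv₃
  haveI := hv₄
  obtain ⟨V, T, π, hsV, -, hπs, hπf, hπflat, hπfp, hloc⟩ := S1390.result g u s (hu.trans hx)
  haveI := hπs
  haveI := hπf
  haveI := hπflat
  haveI := hπfp
  choose O h hmem hfac _hu using hloc
  let Ω : T.Opens := ⨆ (t : T) (ht : V.ι (π t) = s), O t ht
  let C : Set V := π '' (Ω : Set T)ᶜ
  have hC : IsClosed C := π.isClosedMap _ Ω.2.isClosed_compl
  let U : V.toScheme.Opens := ⟨Cᶜ, hC.isOpen_compl⟩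
  have hs : (⟨s, hsV⟩ : V) ∈ U := by
    rintro ⟨t, ht, hts⟩
    have h' : V.ι (π t) = s := by rw [hts]; rfl
    exact ht (TopologicalSpace.Opens.mem_iSup.2 ⟨t, TopologicalSpace.Opens.mem_iSup.2 ⟨h', hmem t h'⟩⟩)
  let W := π ⁻¹ᵁ U
  let e := V.ι.isoImage U
  let p : (W : Scheme.{u}) ⟶ (V.ι ''ᵁ U).toScheme := (π ∣_ U) ≫ e.hom
  have hp : p ≫ (V.ι ''ᵁ U).ι = W.ι ≫ π ≫ V.ι := by
    show ((π ∣_ U) ≫ e.hom) ≫ (V.ι ''ᵁ U).ι = _
    rw [Category.assoc, Scheme.Hom.isoImage_hom_ι, morphismRestrict_ι_assoc]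
  haveI : IsFinite (π ∣_ U) := MorphismProperty.of_isPullback (isPullback_morphismRestrict π U).flip hπf
  haveI : Flat (π ∣_ U) := MorphismProperty.of_isPullback (isPullback_morphismRestrict π U).flip hπflat
  haveI : LocallyOfFinitePresentation (π ∣_ U) :=
    MorphismProperty.of_isPullback (isPullback_morphismRestrict π U).flip hπfp
  haveI : Surjective (π ∣_ U) := MorphismProperty.of_isPullback (isPullback_morphismRestrict π U).flip hπs
  refine ⟨V.ι ''ᵁ U, W, p, ⟨⟨s, hsV⟩, hs, rfl⟩, ⟨inferInstance, inferInstance, inferInstance⟩, inferInstance,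
    fun w => ?_⟩
  have hwΩ : W.ι w ∈ Ω := by
    by_contra hn
    exact (show π (W.ι w) ∈ U from w.2) ⟨W.ι w, hn, rfl⟩
  obtain ⟨t, ht'⟩ := TopologicalSpace.Opens.mem_iSup.1 hwΩ
  obtain ⟨ht, hw⟩ := TopologicalSpace.Opens.mem_iSup.1 ht'
  let W' : W.toScheme.Opens := W.ι ⁻¹ᵁ O t ht
  let k : (W' : Scheme.{u}) ⟶ U₁ := (W.ι ∣_ O t ht) ≫ h t ht
  have hk : k ≫ g = W'.ι ≫ p ≫ (V.ι ''ᵁ U).ι := by
    show ((W.ι ∣_ O t ht) ≫ h t ht) ≫ g = _
    rw [Category.assoc, hfac t ht, morphismRestrict_ι_assoc, hp]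
  refine ⟨W', pullback v k, pullback.snd v k, i, pullback.fst v k ≫ r, hw,
    ⟨MorphismProperty.pullback_snd _ _ hv₁, MorphismProperty.pullback_snd _ _ hv₂,
      MorphismProperty.pullback_snd _ _ hv₄⟩, MorphismProperty.pullback_snd _ _ hv₃, ?_⟩
  rw [Category.assoc, hr, pullback.condition_assoc, hk]

end Groth.Agent.S7198
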