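import Mathlib
import Groth.Agent.VarDim.Algebra

set_option autoImplicit false
set_option linter.style.haveILetI false
universe u

namespace Groth.Agent.S7199

open MvPolynomial in
/-- If two elements of a finitely generated domain cut out a component of codimension two, they
are algebraically independent. -/
lemma algebraicIndependent_pair {k A : Type u} [Field k] [CommRing A] [IsDomain A] [Algebra k A]
    [Algebra.FiniteType k A] (a b : A) (p : Ideal A)
    (hp : p ∈ (Ideal.span {a, b}).minimalPrimes)
    (hdim : ringKrullDim (A ⧸ p) + 2 = ringKrullDim A) :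
    AlgebraicIndependent k ![a, b] := by
  haveI : p.IsPrime := hp.1.1
  haveI : IsNoetherianRing A := Algebra.FiniteType.isNoetherianRing k A
  haveI := VarDim.finiteType_quotient k A p
  obtain ⟨d, hd, -, -⟩ := VarDim.exists_ringKrullDim_eq_trdeg k (A ⧸ p)
  obtain ⟨n, hn, -⟩ := VarDim.trdeg_quotient_add_height k A p
  have hsum := VarDim.ringKrullDim_quotient_add_height k A p
  rw [← hdim, hd, hn] at hsum
  have hn2 : n = 2 := by
    have h' : ((d + n : ℕ∞) : WithBot ℕ∞) = ((d + 2 : ℕ∞) : WithBot ℕ∞) := hsum
    rw [WithBot.coe_inj] at h'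
    have : d + n = d + 2 := by exact_mod_cast h'
    omega
  subst hn2
  rw [algebraicIndependent_iff_injective_aeval]
  set φ : MvPolynomial (Fin 2) k →ₐ[k] A := aeval ![a, b]
  by_contra hinj
  set P : Ideal (MvPolynomial (Fin 2) k) := RingHom.ker φ
  have hPbot : P ≠ ⊥ := fun h => hinj ((RingHom.injective_iff_ker_eq_bot φ).mpr h)
  haveI : P.IsPrime := RingHom.ker_isPrime φ
  set M := p.comap φ
  have hPM : P ≤ M := fun z hz => by
    rw [Ideal.mem_comap, RingHom.mem_ker.mp hz]; exact zero_mem _
  have hab : ∀ {q : Ideal A}, M ≤ q.comap φ → Ideal.span {a, b} ≤ q := by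
    intro q hq
    have hxa : (X 0 : MvPolynomial (Fin 2) k) ∈ M := by
      have : a ∈ p := hp.1.2 (Ideal.subset_span (by simp))
      simpa [M, φ] using this
    have hxb : (X 1 : MvPolynomial (Fin 2) k) ∈ M := by
      have : b ∈ p := hp.1.2 (Ideal.subset_span (by simp))
      simpa [M, φ] using this
    rw [Ideal.span_le]
    rintro z (rfl | rfl)
    · simpa [φ] using hq hxa
    · simpa [φ] using hq hxb
  rcases hPM.eq_or_lt with h | h
  · have h0 : Ideal.span {a, b} ≤ (⊥ : Ideal A) := hab (q := ⊥) (by rw [← h]; exact le_rfl)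
    have hp0 : p ≤ ⊥ := hp.2 ⟨Ideal.isPrime_bot, h0⟩ bot_le
    rw [le_bot_iff.mp hp0, Ideal.height_eq_zero_iff_eq_bot.mpr rfl] at hn
    exact absurd hn (by decide)
  · obtain ⟨t, htM, htP⟩ := SetLike.exists_of_lt h
    have hmin : p ∈ (Ideal.span {φ t}).minimalPrimes := by
      refine ⟨⟨inferInstance, by simpa [Ideal.span_le, M] using htM⟩, ?_⟩
      rintro q ⟨hq, hqt⟩ hqp
      haveI : q.IsPrime := hq
      set Q := q.comap φ
      have hPQ : P < Q := lt_of_le_of_ne
        (fun z hz => by rw [Ideal.mem_comap, RingHom.mem_ker.mp hz]; exact zero_mem _)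
        (fun he => htP (he ▸ hqt (Ideal.mem_span_singleton_self _)))
      have hQM : Q ≤ M := Ideal.comap_mono hqp
      have hQ : M ≤ Q := by
        by_contra hne
        have hlt : Q < M := lt_of_le_not_ge hQM hne
        have h1 : P.height + 1 ≤ Q.height := Ideal.height_add_one_le_of_lt_of_isPrime hPQ
        have h2 : Q.height + 1 ≤ M.height := Ideal.height_add_one_le_of_lt_of_isPrime hlt
        have h0 : (⊥ : Ideal (MvPolynomial (Fin 2) k)).height + 1 ≤ P.height :=
          Ideal.height_add_one_le_of_lt_of_isPrime (bot_lt_iff_ne_bot.mpr hPbot)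
        have h3 : (M.height : WithBot ℕ∞) ≤ ringKrullDim (MvPolynomial (Fin 2) k) :=
          Ideal.height_le_ringKrullDim_of_isPrime
        rw [MvPolynomial.ringKrullDim_of_isNoetherianRing, ringKrullDim_eq_zero_of_field] at h3
        simp only [Nat.card_eq_fintype_card, Fintype.card_fin, zero_add] at h3
        have h4 : M.height ≤ 2 := WithBot.coe_le_coe.mp h3
        have h5 : (3 : ℕ∞) ≤ M.height := calc
          (3 : ℕ∞) = 0 + 1 + 1 + 1 := by norm_num
          _ ≤ (⊥ : Ideal (MvPolynomial (Fin 2) k)).height + 1 + 1 + 1 := by gcongr; exact zero_le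
          _ ≤ P.height + 1 + 1 := by gcongr
          _ ≤ Q.height + 1 := by gcongr
          _ ≤ M.height := h2
        exact absurd (h5.trans h4) (by decide)
      exact hp.2 ⟨hq, hab hQ⟩ hqp
    have := Ideal.height_le_one_of_isPrincipal_of_mem_minimalPrimes (Ideal.span {φ t}) p hmin
    rw [hn] at this
    exact absurd this (by decide)

open MvPolynomial in
/-- The generic linear form `∑ gᵢ xᵢ` is independent of the variables and of `g i₀`, as soon as
`g i₀`, `g i₁` are algebraically independent. -/
lemma algebraicIndependent_linearForm {k K : Type u} [Field k] [Field K] [Algebra k K]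
    {ι : Type} [Fintype ι] [DecidableEq ι] (g : ι → K) (i₀ i₁ : ι)
    (h : AlgebraicIndependent k ![g i₀, g i₁]) :
    AlgebraicIndependent k (Sum.elim (fun i => (X i : MvPolynomial ι K))
      ![∑ i, C (g i) * X i, C (g i₀)]) := by
  have hB : AlgebraicIndependent k (Sum.elim (fun i => (X i : MvPolynomial ι K))
      (algebraMap K (MvPolynomial ι K) ∘ ![g i₀, g i₁])) :=
    h.sumElim_comp (algebraicIndependent_X ι K)
  set x : ι ⊕ Fin 1 → MvPolynomial ι K := Sum.elim (fun i => X i) (fun _ => C (g i₀))
  let e : Option (ι ⊕ Fin 1) → ι ⊕ Fin 2 := fun o => o.elim (Sum.inr 1) (Sum.map id (fun _ => 0))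
  have he : Function.Injective e := by
    rintro (_ | (i | i)) (_ | (j | j)) hij <;> simp [e] at hij ⊢
    · exact hij
    · exact Subsingleton.elim _ _
  have hopt : AlgebraicIndependent k
      (fun o : Option (ι ⊕ Fin 1) => o.elim (C (g i₁)) x) := by
    convert hB.comp e he using 1
    ext1 o
    rcases o with _ | (i | i) <;> simp [e, x, MvPolynomial.algebraMap_eq]
  obtain ⟨hx, htr⟩ := AlgebraicIndependent.option_iff.mp hopt
  set S := Algebra.adjoin k (Set.range x)
  set G : MvPolynomial ι K := ∑ i, C (g i) * X i
  -- the translation `x_{i₁} ↦ x_{i₁} + 1`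
  let σ : MvPolynomial ι K →ₐ[K] MvPolynomial ι K :=
    aeval (fun i => if i = i₁ then X i + 1 else X i)
  let τ : MvPolynomial ι K →ₐ[K] MvPolynomial ι K :=
    aeval (fun i => if i = i₁ then X i - 1 else X i)
  have hστ : τ.comp σ = AlgHom.id K _ := by
    ext i
    by_cases hi : i = i₁ <;> simp [σ, τ, hi]
  have hσinj : Function.Injective σ :=
    Function.LeftInverse.injective (g := τ) fun z => AlgHom.congr_fun hστ z
  have hσS : S ≤ S.comap (σ.restrictScalars k) := by
    refine Algebra.adjoin_le ?_
    rintro _ ⟨(i | i), rfl⟩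
    · show σ (X i) ∈ S
      have hi : (X i : MvPolynomial ι K) ∈ S := Algebra.subset_adjoin ⟨Sum.inl i, rfl⟩
      by_cases h' : i = i₁
      · simpa [σ, h'] using add_mem (h' ▸ hi) (one_mem S)
      · simpa [σ, h'] using hi
    · show σ (C (g i₀)) ∈ S
      rw [← MvPolynomial.algebraMap_eq, AlgHom.commutes]
      exact Algebra.subset_adjoin ⟨Sum.inr i, rfl⟩
  have hG : Transcendental S G := by
    intro halg
    let f : S →+* S := (σ.restrictScalars k).toRingHom.restrict S S fun z hz => hσS hz
    have hf : Function.Injective f := fun u v huv =>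
      Subtype.ext (hσinj (congrArg Subtype.val huv))
    have halg' : IsAlgebraic S (σ.toRingHom G) :=
      halg.ringHom_of_comp_eq f σ.toRingHom hf (RingHom.ext fun _ => rfl)
    have hσG : σ G = G + C (g i₁) := by
      have : σ G = ∑ i, (C (g i) * X i + if i = i₁ then C (g i) else 0) := by
        simp only [G, map_sum]
        refine Finset.sum_congr rfl fun i _ => ?_
        by_cases hi : i = i₁ <;> simp [σ, hi, mul_add]
      rw [this, Finset.sum_add_distrib, Finset.sum_ite_eq' Finset.univ i₁ fun i => C (g i)]
      simp [G]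
    have h2 := halg'.sub halg
    rw [show σ.toRingHom G = σ G from rfl, hσG, add_sub_cancel_left] at h2
    exact htr h2
  have hfin := (hx.option_iff_transcendental G).mpr hG
  let e' : ι ⊕ Fin 2 → Option (ι ⊕ Fin 1) :=
    Sum.elim (fun i => some (Sum.inl i)) ![none, some (Sum.inr 0)]
  have he' : Function.Injective e' := by
    rintro (i | i) (j | j) hij
    · simpa [e'] using hij
    · fin_cases j <;> simp [e'] at hij
    · fin_cases i <;> simp [e'] at hij
    · fin_cases i <;> fin_cases j <;> simp [e'] at hij ⊢
  convert hfin.comp e' he' using 1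
  ext1 o
  rcases o with i | i
  · rfl
  · fin_cases i <;> rfl

/-- Take a field k, an integral domain A that is a finitely generated k-algebra, n ≥ 2 and g_1, …, g_n ∈
A, and suppose some irreducible component of the common zero locus of g_1 and g_2 in Spec A has
dimension dim A − 2. Then for suitable c_1, …, c_n ∈ k the n + 2 elements x_1, …, x_n, Σ g_i x_i, Σ
c_i g_i of the rational function field Frac(A)(x_1, …, x_n) form an algebraically independent family
over k. -/
theorem result {k A : Type u} [Field k] [CommRing A] [IsDomain A] [Algebra k A]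
    [Algebra.FiniteType k A] (m : ℕ) (g : Fin (m + 2) → A)
    (p : Ideal A) (hp : p ∈ (Ideal.span {g 0, g 1}).minimalPrimes) (hdim : ringKrullDim (A ⧸ p) + 2 = ringKrullDim A) :
    ∃ c : Fin (m + 2) → k,
      AlgebraicIndependent k
        (Sum.elim
          (fun i : Fin (m + 2) => algebraMap (MvPolynomial (Fin (m + 2)) (FractionRing A)) (FractionRing (MvPolynomial (Fin (m + 2)) (FractionRing A))) (MvPolynomial.X i))
          ![∑ i, algebraMap A (FractionRing (MvPolynomial (Fin (m + 2)) (FractionRing A))) (g i) *
              algebraMap (MvPolynomial (Fin (m + 2)) (FractionRing A)) (FractionRing (MvPolynomial (Fin (m + 2)) (FractionRing A))) (MvPolynomial.X i),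
            algebraMap A (FractionRing (MvPolynomial (Fin (m + 2)) (FractionRing A))) (∑ i, c i • g i)]) := by
  classical
  refine ⟨Pi.single 0 1, ?_⟩
  have h1 : AlgebraicIndependent k ![g 0, g 1] := algebraicIndependent_pair (g 0) (g 1) p hp hdim
  have h2 : AlgebraicIndependent k
      ![algebraMap A (FractionRing A) (g 0), algebraMap A (FractionRing A) (g 1)] := by
    convert h1.map' (f := IsScalarTower.toAlgHom k A (FractionRing A))
      (IsFractionRing.injective A (FractionRing A)) using 1
    ext i; fin_cases i <;> rfl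
  have h3 := (algebraicIndependent_linearForm (fun i => algebraMap A (FractionRing A) (g i)) 0 1
      h2).map' (f := IsScalarTower.toAlgHom k _
        (FractionRing (MvPolynomial (Fin (m + 2)) (FractionRing A))))
      (IsFractionRing.injective (MvPolynomial (Fin (m + 2)) (FractionRing A)) _)
  convert h3 using 1
  have hA : ∀ z : A, algebraMap (MvPolynomial (Fin (m + 2)) (FractionRing A))
      (FractionRing (MvPolynomial (Fin (m + 2)) (FractionRing A)))
      (MvPolynomial.C (algebraMap A (FractionRing A) z)) =
      algebraMap A (FractionRing (MvPolynomial (Fin (m + 2)) (FractionRing A))) z := by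
    intro z
    rw [IsScalarTower.algebraMap_apply A (MvPolynomial (Fin (m + 2)) (FractionRing A))
      (FractionRing (MvPolynomial (Fin (m + 2)) (FractionRing A))) z]
    rfl
  ext1 o
  rcases o with i | i
  · rfl
  · fin_cases i <;>
      simp [map_sum, hA, Pi.single_apply, ite_smul]

end Groth.Agent.S7199
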