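import Groth.Statements.S7200
import Groth.Agent.GeomIrredField.Core

set_option autoImplicit false
universe u
open FlatMor

namespace Groth.Agent.S7200

open GeomIrredField

/-- A polynomial substitution with a left inverse preserves algebraic independence. -/
theorem indep_of_subst {F E ι : Type*} [Field F] [CommRing E] [Algebra F E] {f f' : ι → E}
    (s t : ι → MvPolynomial ι F) (hs : ∀ i, MvPolynomial.aeval f (s i) = f' i)
    (hts : ∀ i, MvPolynomial.aeval t (s i) = MvPolynomial.X i) (hf : AlgebraicIndependent F f) :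
    AlgebraicIndependent F f' := by
  rw [algebraicIndependent_iff_injective_aeval] at hf ⊢
  have hcomp : (MvPolynomial.aeval f' : MvPolynomial ι F →ₐ[F] E) =
      (MvPolynomial.aeval f).comp (MvPolynomial.aeval s) :=
    MvPolynomial.algHom_ext fun i ↦ by simp [hs i]
  have hinv : (MvPolynomial.aeval t).comp (MvPolynomial.aeval s) = AlgHom.id F (MvPolynomial ι F) :=
    MvPolynomial.algHom_ext fun i ↦ by rw [AlgHom.comp_apply, MvPolynomial.aeval_X, hts, AlgHom.id_apply]
  rw [hcomp]
  exact hf.comp (Function.LeftInverse.injective (g := MvPolynomial.aeval t) fun p ↦ congr($hinv p))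

section
variable {F E : Type*} [Field F] [CommRing E] [Algebra F E] {m : ℕ} (j : Fin (m + 1)) (a : Fin (m + 1) → F)

/-- `X_j ↦ a_j X_j`, `X_i ↦ X_i + a_i X_j`. -/
theorem indep_linChange (ha : a j ≠ 0) (τ : E) (y : Fin m → E) (h : AlgebraicIndependent F (j.insertNth τ y)) :
    AlgebraicIndependent F (j.insertNth (algebraMap F E (a j) * τ)
      (fun i ↦ y i + algebraMap F E (a (j.succAbove i)) * τ)) := by
  refine indep_of_subst
    (j.insertNth (MvPolynomial.C (a j) * .X j)
      (fun i ↦ .X (j.succAbove i) + MvPolynomial.C (a (j.succAbove i)) * .X j))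
    (j.insertNth (MvPolynomial.C (a j)⁻¹ * .X j)
      (fun i ↦ .X (j.succAbove i) - MvPolynomial.C (a (j.succAbove i)) * (MvPolynomial.C (a j)⁻¹ * .X j)))
    (fun i ↦ ?_) (fun i ↦ ?_) h
  · rcases Fin.eq_self_or_eq_succAbove j i with rfl | ⟨i, rfl⟩ <;> simp
  · rcases Fin.eq_self_or_eq_succAbove j i with rfl | ⟨i, rfl⟩
    · simp only [Fin.insertNth_apply_same, map_mul, MvPolynomial.aeval_C, MvPolynomial.aeval_X]
      rw [← mul_assoc, MvPolynomial.algebraMap_eq, ← map_mul, mul_inv_cancel₀ ha, map_one, one_mul]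
    · simp only [Fin.insertNth_apply_succAbove, map_add, map_mul, MvPolynomial.aeval_C, MvPolynomial.aeval_X,
        Fin.insertNth_apply_same, MvPolynomial.algebraMap_eq, sub_add_cancel]

omit [Field F] [Algebra F E] in
theorem sum_linChange (g a : Fin (m + 1) → E) (τ : E) (y : Fin m → E) :
    ∑ i, g i * j.insertNth (α := fun _ ↦ E) (a j * τ) (fun i ↦ y i + a (j.succAbove i) * τ) i =
      ∑ i, g (j.succAbove i) * y i + τ * ∑ i, a i * g i := by
  simp only [Fin.sum_univ_succAbove _ j, Fin.insertNth_apply_same, Fin.insertNth_apply_succAbove, mul_add,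
    Finset.sum_add_distrib, Finset.mul_sum]
  rw [Finset.sum_congr rfl fun i _ ↦ (by ring :
    g (j.succAbove i) * (a (j.succAbove i) * τ) = τ * (a (j.succAbove i) * g (j.succAbove i)))]
  ring

/-- Undoing the change of variables. -/
theorem indep_unChange (ha : a j ≠ 0) (τ : E) (y : Fin m → E) (v u : E)
    (h : AlgebraicIndependent F (Sum.elim (j.insertNth (α := fun _ ↦ E) (algebraMap F E (a j) * τ)
      (fun i ↦ y i + algebraMap F E (a (j.succAbove i)) * τ)) ![v + τ * u, u])) :
    AlgebraicIndependent F (Sum.elim (j.insertNth (α := fun _ ↦ E) τ y) ![v, u]) := by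
  let P := MvPolynomial (Fin (m + 1) ⊕ Fin 2) F
  have hcc : MvPolynomial.C (a j)⁻¹ * MvPolynomial.C (a j) = (1 : P) := by
    rw [← map_mul, inv_mul_cancel₀ ha, map_one]
  have hcτ : algebraMap F E (a j)⁻¹ * (algebraMap F E (a j) * τ) = τ := by
    rw [← mul_assoc, ← map_mul, inv_mul_cancel₀ ha, map_one, one_mul]
  refine indep_of_subst
    (Sum.elim (j.insertNth (α := fun _ ↦ P) (MvPolynomial.C (a j)⁻¹ * .X (.inl j))
      (fun i ↦ .X (.inl (j.succAbove i)) - MvPolynomial.C (a (j.succAbove i)) *
        (MvPolynomial.C (a j)⁻¹ * .X (.inl j))))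
      ![.X (.inr 0) - MvPolynomial.C (a j)⁻¹ * .X (.inl j) * .X (.inr 1), .X (.inr 1)])
    (Sum.elim (j.insertNth (α := fun _ ↦ P) (MvPolynomial.C (a j) * .X (.inl j))
      (fun i ↦ .X (.inl (j.succAbove i)) + MvPolynomial.C (a (j.succAbove i)) * .X (.inl j)))
      ![.X (.inr 0) + .X (.inl j) * .X (.inr 1), .X (.inr 1)])
    (fun x ↦ ?_) (fun x ↦ ?_) h
  · rcases x with i | i
    · rcases Fin.eq_self_or_eq_succAbove j i with rfl | ⟨i, rfl⟩
      · simpa using hcτ
      · simp only [Sum.elim_inl, Fin.insertNth_apply_succAbove, map_sub, map_mul, MvPolynomial.aeval_X,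
          MvPolynomial.aeval_C, Fin.insertNth_apply_same, hcτ]
        ring
    · fin_cases i
      · simp only [Fin.zero_eta, Sum.elim_inr, Matrix.cons_val_zero, Matrix.cons_val_one, map_sub, map_mul,
          MvPolynomial.aeval_X, MvPolynomial.aeval_C, Sum.elim_inl, Fin.insertNth_apply_same, hcτ]
        ring
      · simp
  · rcases x with i | i
    · rcases Fin.eq_self_or_eq_succAbove j i with rfl | ⟨i, rfl⟩
      · simp only [Sum.elim_inl, Fin.insertNth_apply_same, map_mul, MvPolynomial.aeval_C, MvPolynomial.aeval_X,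
          MvPolynomial.algebraMap_eq]
        linear_combination (MvPolynomial.X (Sum.inl i) : P) * hcc
      · simp only [Sum.elim_inl, Fin.insertNth_apply_succAbove, Fin.insertNth_apply_same, map_sub, map_mul,
          MvPolynomial.aeval_C, MvPolynomial.aeval_X, MvPolynomial.algebraMap_eq]
        linear_combination (-(MvPolynomial.C (a (j.succAbove i)) * MvPolynomial.X (Sum.inl j)) : P) * hcc
    · fin_cases i
      · simp only [Fin.zero_eta, Sum.elim_inr, Matrix.cons_val_zero, Matrix.cons_val_one, map_sub, map_mul,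
          MvPolynomial.aeval_X, MvPolynomial.aeval_C, Sum.elim_inl, Fin.insertNth_apply_same,
          MvPolynomial.algebraMap_eq]
        linear_combination (-(MvPolynomial.X (Sum.inl j) * MvPolynomial.X (Sum.inr 1)) : P) * hcc
      · simp
end

variable {k K : Type u} [Field k] [Field K] [Algebra k K]

theorem sepClosedIn_of_change {K1 E Om : Type u} [Field K1] [Field E] [Field Om]
    [Algebra K K1] [Algebra k K1] [IsScalarTower k K K1] [Algebra K1 E] [Algebra K E] [Algebra k E]
    [IsScalarTower K K1 E] [IsScalarTower k K E] [IsScalarTower k K1 E]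
    [Algebra K Om] [Algebra k Om] [IsScalarTower k K Om]
    {m : ℕ} (g : Fin (m + 1) → K) (c : Fin (m + 1) → k) (j : Fin (m + 1)) (hj : c j ≠ 0)
    (X : Fin (m + 1) → Om) (x1 : ULift.{u} (Fin m) → K1) (τ : E) (ψ : Om →ₐ[K] E)
    (hψX : ∀ i, ψ (X i) = j.insertNth (α := fun _ ↦ E) (algebraMap K E (algebraMap k K (c j)) * τ)
      (fun i ↦ algebraMap K1 E (x1 ⟨i⟩) + algebraMap K E (algebraMap k K (c (j.succAbove i))) * τ) i)
    (hind : AlgebraicIndependent k (Sum.elim X ![∑ i, algebraMap K Om (g i) * X i,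
      algebraMap K Om (∑ i, c i • g i)]))
    (hcore : ∀ u v : K1, AlgebraicIndependent (IntermediateField.adjoin k (Set.range x1)) ![v, u] →
      SepClosedIn (IntermediateField.adjoin (IntermediateField.adjoin k (Set.range x1))
        ({τ, algebraMap K1 E v + τ * algebraMap K1 E u} : Set E)) E) :
    SepClosedIn (IntermediateField.adjoin k (Set.range X ∪ {∑ i, algebraMap K Om (g i) * X i})) Om := by
  let y : Fin m → E := fun i ↦ algebraMap K1 E (x1 ⟨i⟩)
  have hck : ∀ x : k, algebraMap K E (algebraMap k K x) = algebraMap k E x := fun x ↦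
    (IsScalarTower.algebraMap_apply k K E x).symm
  let f : Fin (m + 1) → E := j.insertNth (α := fun _ ↦ E) (algebraMap k E (c j) * τ)
    (fun i ↦ y i + algebraMap k E (c (j.succAbove i)) * τ)
  replace hψX : ∀ i, ψ (X i) = f i := fun i ↦ by simpa only [f, y, hck] using hψX i
  let k1 := IntermediateField.adjoin k (Set.range x1)
  let u' : K1 := algebraMap K K1 (∑ i, c i • g i)
  let v' : K1 := ∑ i : Fin m, algebraMap K K1 (g (j.succAbove i)) * x1 ⟨i⟩
  have hv : algebraMap K1 E v' = ∑ i, algebraMap K E (g (j.succAbove i)) * y i := by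
    simp only [v', y, map_sum, map_mul, ← IsScalarTower.algebraMap_apply]
  have hu : algebraMap K1 E u' = ∑ i, algebraMap k E (c i) * algebraMap K E (g i) := by
    simp only [u', map_sum, Algebra.smul_def, map_mul, ← IsScalarTower.algebraMap_apply]
  let ξ : Om := ∑ i, algebraMap K Om (g i) * X i
  have hξ : ψ ξ = algebraMap K1 E v' + τ * algebraMap K1 E u' := by
    simp only [ξ, map_sum, map_mul, AlgHom.commutes, hψX, f]
    rw [hv, hu]
    exact sum_linChange j (fun i ↦ algebraMap K E (g i)) (fun i ↦ algebraMap k E (c i)) τ y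
  have hη : ψ (algebraMap K Om (∑ i, c i • g i)) = algebraMap K1 E u' := by
    rw [AlgHom.commutes]; exact IsScalarTower.algebraMap_apply K K1 E _
  have huv : AlgebraicIndependent k1 ![v', u'] := by
    have h1 : AlgebraicIndependent k
        (Sum.elim f ![algebraMap K1 E v' + τ * algebraMap K1 E u', algebraMap K1 E u']) := by
      have h := hind.map' (f := ψ.restrictScalars k) ψ.injective
      convert h using 1
      funext x
      rcases x with i | i
      · exact (hψX i).symm
      · fin_cases i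
        · exact hξ.symm
        · exact hη.symm
    have h2 := indep_unChange j c hj τ y _ _ h1
    let e : Fin 2 ⊕ ULift.{u} (Fin m) → Fin (m + 1) ⊕ Fin 2 :=
      Sum.elim Sum.inr fun i ↦ Sum.inl (j.succAbove i.down)
    have he : Function.Injective e := by
      rintro (a | ⟨a⟩) (b | ⟨b⟩) h <;> simp_all [e]
    have h3 := h2.comp e he
    rw [show Sum.elim (j.insertNth (α := fun _ ↦ E) τ y) ![algebraMap K1 E v', algebraMap K1 E u'] ∘ e =
        (IsScalarTower.toAlgHom k K1 E) ∘ Sum.elim ![v', u'] x1 by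
      funext x
      rcases x with i | ⟨i⟩
      · fin_cases i <;> rfl
      · simp [e, y]] at h3
    exact IntermediateField.algebraicIndependent_adjoin_iff.mpr
      (AlgebraicIndependent.sumElim_iff.mp (h3.of_comp _)).2
  have hcore' := hcore u' v' huv
  let L₁ := IntermediateField.adjoin k1 ({τ, algebraMap K1 E v' + τ * algebraMap K1 E u'} : Set E)
  let L := IntermediateField.adjoin k (Set.range X ∪ {ξ})
  have hτ₁ : τ ∈ L₁ := IntermediateField.subset_adjoin _ _ (Or.inl rfl)
  have hk₁ : ∀ x : k, algebraMap k E x ∈ L₁ := fun x ↦ (L₁.restrictScalars k).algebraMap_mem x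
  have hy₁ : ∀ i, y i ∈ L₁ := fun i ↦ L₁.algebraMap_mem ⟨_, IntermediateField.subset_adjoin k _ ⟨⟨i⟩, rfl⟩⟩
  have hfwd : ∀ x ∈ L, ψ x ∈ L₁ := by
    have : L ≤ (L₁.restrictScalars k).comap (ψ.restrictScalars k) :=
      IntermediateField.adjoin_le_iff.mpr (by
        rintro _ (⟨i, rfl⟩ | rfl)
        · change ψ (X i) ∈ L₁
          rw [hψX]
          rcases Fin.eq_self_or_eq_succAbove j i with rfl | ⟨i, rfl⟩
          · simp only [f, Fin.insertNth_apply_same]; exact mul_mem (hk₁ _) hτ₁
          · simp only [f, Fin.insertNth_apply_succAbove]; exact add_mem (hy₁ i) (mul_mem (hk₁ _) hτ₁)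
        · change ψ ξ ∈ L₁
          rw [hξ]; exact IntermediateField.subset_adjoin _ _ (Or.inr rfl))
    exact fun x hx ↦ this hx
  have hbwd : ∀ z ∈ L₁, z ∈ L.map (ψ.restrictScalars k) := by
    let L' := L.map (ψ.restrictScalars k)
    have hX : ∀ i, f i ∈ L' := fun i ↦ ⟨_, IntermediateField.subset_adjoin k _ (Or.inl ⟨i, rfl⟩), hψX i⟩
    have hk' : ∀ x : k, algebraMap k E x ∈ L' := fun x ↦ L'.algebraMap_mem x
    have hτ' : τ ∈ L' := by
      have h := mul_mem (hk' (c j)⁻¹) (hX j)
      rwa [show algebraMap k E (c j)⁻¹ * f j = τ by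
        simp only [f, Fin.insertNth_apply_same]
        rw [← mul_assoc, ← map_mul, inv_mul_cancel₀ hj, map_one, one_mul]] at h
    have hy' : ∀ i, y i ∈ L' := fun i ↦ by
      have h := sub_mem (hX (j.succAbove i)) (mul_mem (hk' (c (j.succAbove i))) hτ')
      rwa [show f (j.succAbove i) - algebraMap k E (c (j.succAbove i)) * τ = y i by
        simp only [f, Fin.insertNth_apply_succAbove]; ring] at h
    have hk1 : k1 ≤ L'.comap (IsScalarTower.toAlgHom k K1 E) :=
      IntermediateField.adjoin_le_iff.mpr (by rintro _ ⟨⟨i⟩, rfl⟩; exact hy' i)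
    intro z hz
    induction hz using IntermediateField.adjoin_induction with
    | mem z hz =>
      obtain rfl | rfl := hz
      · exact hτ'
      · exact ⟨_, IntermediateField.subset_adjoin k _ (Or.inr rfl), hξ⟩
    | algebraMap x => exact hk1 x.2
    | add x y _ _ h1 h2 => exact add_mem h1 h2
    | inv x _ h1 => exact inv_mem h1
    | mul x y _ _ h1 h2 => exact mul_mem h1 h2
  intro θ hθ
  obtain ⟨⟨z, hz⟩, hze⟩ := hcore' (ψ θ) (isSeparable_of_square (F' := L₁) (E' := E)
    { toFun := fun x ↦ (⟨ψ x.1, hfwd x.1 x.2⟩ : L₁), map_one' := Subtype.ext (map_one ψ),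
      map_mul' := fun _ _ ↦ Subtype.ext (map_mul ψ _ _), map_zero' := Subtype.ext (map_zero ψ),
      map_add' := fun _ _ ↦ Subtype.ext (map_add ψ _ _) } ψ.toRingHom (fun _ ↦ rfl) hθ)
  obtain ⟨w, hw, hwe⟩ := hbwd z hz
  exact ⟨⟨w, hw⟩, ψ.injective (hwe.trans hze)⟩

theorem indep_insertNth {σ' K1 E : Type u} {m : ℕ} [CommRing K1] [CommRing E] [Algebra K K1] [Algebra K1 E]
    [Algebra K E] [IsScalarTower K K1 E] (e : σ' ≃ Fin m) (x1 : σ' → K1) (τ : PUnit.{u+1} → E)
    (h1 : AlgebraicIndependent K x1) (h2 : AlgebraicIndependent K1 τ) (j : Fin (m + 1)) :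
    AlgebraicIndependent K (j.insertNth (α := fun _ ↦ E) (τ PUnit.unit)
      fun i ↦ algebraMap K1 E (x1 (e.symm i))) := by
  have h := AlgebraicIndependent.sumElim_comp h1 h2
  have he : j.insertNth (α := fun _ ↦ E) (τ PUnit.unit) (fun i ↦ algebraMap K1 E (x1 (e.symm i))) =
      Sum.elim τ (algebraMap K1 E ∘ x1) ∘
        j.insertNth (α := fun _ ↦ PUnit.{u+1} ⊕ σ') (Sum.inl PUnit.unit) fun i ↦ Sum.inr (e.symm i) := by
    funext i
    rcases Fin.eq_self_or_eq_succAbove j i with rfl | ⟨i, rfl⟩ <;> simp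
  rw [he]
  refine h.comp _ (Function.LeftInverse.injective (g := Sum.elim (fun _ ↦ j) (j.succAbove ∘ e)) fun i ↦ ?_)
  rcases Fin.eq_self_or_eq_succAbove j i with rfl | ⟨i, rfl⟩ <;> simp

theorem sepClosedIn_linear_section (hk : SepClosedIn k K)
    (m : ℕ) (g : Fin (m + 1) → K) (c : Fin (m + 1) → k)
    (hind : AlgebraicIndependent k
      (Sum.elim
        (fun i : Fin (m + 1) => algebraMap (MvPolynomial (Fin (m + 1)) K) (FractionRing (MvPolynomial (Fin (m + 1)) K)) (MvPolynomial.X i))
        ![∑ i, algebraMap K (FractionRing (MvPolynomial (Fin (m + 1)) K)) (g i) * algebraMap (MvPolynomial (Fin (m + 1)) K) (FractionRing (MvPolynomial (Fin (m + 1)) K)) (MvPolynomial.X i),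
          algebraMap K (FractionRing (MvPolynomial (Fin (m + 1)) K)) (∑ i, c i • g i)])) :
    SepClosedIn
      ↥(IntermediateField.adjoin k
        (Set.range (fun i : Fin (m + 1) => algebraMap (MvPolynomial (Fin (m + 1)) K) (FractionRing (MvPolynomial (Fin (m + 1)) K)) (MvPolynomial.X i)) ∪
          {∑ i, algebraMap K (FractionRing (MvPolynomial (Fin (m + 1)) K)) (g i) * algebraMap (MvPolynomial (Fin (m + 1)) K) (FractionRing (MvPolynomial (Fin (m + 1)) K)) (MvPolynomial.X i)}))
      (FractionRing (MvPolynomial (Fin (m + 1)) K)) := by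
  obtain ⟨j, hj⟩ : ∃ j, c j ≠ 0 := by
    by_contra h
    push Not at h
    exact hind.ne_zero (Sum.inr 1) (by simp [h])
  have hτy := indep_insertNth Equiv.ulift (Xf (σ := ULift.{u} (Fin m)) K)
    (Xf (σ := PUnit.{u+1}) (FractionRing (MvPolynomial (ULift.{u} (Fin m)) K)))
    algebraicIndependent_Xf algebraicIndependent_Xf j
  have hfind := indep_linChange j (fun i ↦ algebraMap k K (c i)) ((map_ne_zero _).mpr hj) _ _ hτy
  refine sepClosedIn_of_change g c j hj _ (Xf (σ := ULift.{u} (Fin m)) K) _
    (IsFractionRing.liftAlgHom (algebraicIndependent_iff_injective_aeval.mp hfind)) (fun i ↦ ?_) hind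
    fun u v huv ↦ sepClosedIn_core u v (sepClosedIn_adjoin_X k hk) huv
  rw [IsFractionRing.liftAlgHom_apply, IsFractionRing.lift_algebraMap]
  exact MvPolynomial.aeval_X _ _

open AlgebraicGeometry in
/-- Suppose K/k is a finitely generated field extension with K geometrically irreducible over k; let n ≥
1 and g_1, …, g_n ∈ K, and suppose some c ∈ kⁿ makes the n + 2 elements x_1, …, x_n, ξ = Σ g_i x_i,
Σ c_i g_i of Ω = K(x_1, …, x_n) algebraically independent over k. Then Ω remains geometrically
irreducible over its subfield generated over k by x_1, …, x_n and ξ. -/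
theorem result {k K : Type u} [Field k] [Field K] [Algebra k K]
    (hfg : (⊤ : IntermediateField k K).FG)
    [GeometricallyIrreducible (Spec.map (CommRingCat.ofHom (algebraMap k K)))]
    (m : ℕ) (g : Fin (m + 1) → K) (c : Fin (m + 1) → k)
    (hind : AlgebraicIndependent k
      (Sum.elim
        (fun i : Fin (m + 1) => algebraMap (MvPolynomial (Fin (m + 1)) K) (FractionRing (MvPolynomial (Fin (m + 1)) K)) (MvPolynomial.X i))
        ![∑ i, algebraMap K (FractionRing (MvPolynomial (Fin (m + 1)) K)) (g i) * algebraMap (MvPolynomial (Fin (m + 1)) K) (FractionRing (MvPolynomial (Fin (m + 1)) K)) (MvPolynomial.X i),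
          algebraMap K (FractionRing (MvPolynomial (Fin (m + 1)) K)) (∑ i, c i • g i)])) :
    GeometricallyIrreducible (Spec.map (CommRingCat.ofHom (algebraMap
      ↥(IntermediateField.adjoin k
        (Set.range (fun i : Fin (m + 1) => algebraMap (MvPolynomial (Fin (m + 1)) K) (FractionRing (MvPolynomial (Fin (m + 1)) K)) (MvPolynomial.X i)) ∪
          {∑ i, algebraMap K (FractionRing (MvPolynomial (Fin (m + 1)) K)) (g i) * algebraMap (MvPolynomial (Fin (m + 1)) K) (FractionRing (MvPolynomial (Fin (m + 1)) K)) (MvPolynomial.X i)}))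
      (FractionRing (MvPolynomial (Fin (m + 1)) K))))) :=
  (sepClosedIn_linear_section (sepClosedIn_of_geometricallyIrreducible) m g c hind).geometricallyIrreducible

end Groth.Agent.S7200
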