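import Groth.Statements.S7201
import Groth.Agent.FlatMor62.CplRefine
import Groth.Agent.EGA4Lib.AdicFibres

set_option autoImplicit false
set_option linter.style.haveILetI false
set_option backward.isDefEq.respectTransparency false
set_option backward.isDefEq.respectTransparency.types false
universe u
open FlatMor

namespace Groth.Agent.S7201

open AlgebraicGeometry CategoryTheory Limits in
/-- Let h : T → S be a morphism of finite type between Noetherian schemes, t a point of T with image s,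
and σ : O_{T,t} → O_{S,s}^∧ a local O_{S,s}-algebra map to the completion. For every N ≥ 1 there is
a morphism of finite type g : T' → T and a point t' over t such that σ factors through O_{T,t} →
O_{T',t'}, and any local O_{S,s}-algebra map σ' : O_{T,t} → O_{S,s}^∧ factoring through O_{T,t} →
O_{T',t'} agrees with σ modulo m_s^N. -/
theorem result {T S : Scheme.{u}} [IsNoetherian T] [IsNoetherian S]
    (h : T ⟶ S) [LocallyOfFiniteType h] [QuasiCompact h] (t : T)
    (σ : ↑(T.presheaf.stalk t) →+* (AdicCompletion (IsLocalRing.maximalIdeal ↑(S.presheaf.stalk (h t))) ↑(S.presheaf.stalk (h t))))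
    (hσ : σ.comp (h.stalkMap t).hom = algebraMap ↑(S.presheaf.stalk (h t)) (AdicCompletion (IsLocalRing.maximalIdeal ↑(S.presheaf.stalk (h t))) ↑(S.presheaf.stalk (h t))))
    (hloc : ∀ a ∈ IsLocalRing.maximalIdeal ↑(T.presheaf.stalk t),
      σ a ∈ (IsLocalRing.maximalIdeal ↑(S.presheaf.stalk (h t))).map (algebraMap ↑(S.presheaf.stalk (h t)) (AdicCompletion (IsLocalRing.maximalIdeal ↑(S.presheaf.stalk (h t))) ↑(S.presheaf.stalk (h t)))))
    (N : ℕ) (hN : 1 ≤ N) :
    ∃ (T' : Scheme.{u}) (g : T' ⟶ T) (t' : T') (hg : g t' = t) (τ : ↑(T'.presheaf.stalk t') →+* (AdicCompletion (IsLocalRing.maximalIdeal ↑(S.presheaf.stalk (h t))) ↑(S.presheaf.stalk (h t)))),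
      LocallyOfFiniteType g ∧ QuasiCompact g ∧
      τ.comp ((g.stalkMap t').hom.comp (T.presheaf.stalkCongr (Inseparable.of_eq hg)).inv.hom) = σ ∧
      ∀ (σ' : ↑(T.presheaf.stalk t) →+* (AdicCompletion (IsLocalRing.maximalIdeal ↑(S.presheaf.stalk (h t))) ↑(S.presheaf.stalk (h t)))),
        σ'.comp (h.stalkMap t).hom = algebraMap ↑(S.presheaf.stalk (h t)) (AdicCompletion (IsLocalRing.maximalIdeal ↑(S.presheaf.stalk (h t))) ↑(S.presheaf.stalk (h t))) →
        (∀ a ∈ IsLocalRing.maximalIdeal ↑(T.presheaf.stalk t),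
          σ' a ∈ (IsLocalRing.maximalIdeal ↑(S.presheaf.stalk (h t))).map (algebraMap ↑(S.presheaf.stalk (h t)) (AdicCompletion (IsLocalRing.maximalIdeal ↑(S.presheaf.stalk (h t))) ↑(S.presheaf.stalk (h t))))) →
        (∃ τ' : ↑(T'.presheaf.stalk t') →+* (AdicCompletion (IsLocalRing.maximalIdeal ↑(S.presheaf.stalk (h t))) ↑(S.presheaf.stalk (h t))),
          τ'.comp ((g.stalkMap t').hom.comp (T.presheaf.stalkCongr (Inseparable.of_eq hg)).inv.hom) = σ') →
        ∀ a : ↑(T.presheaf.stalk t), σ a - σ' a ∈ (IsLocalRing.maximalIdeal ↑(S.presheaf.stalk (h t)) ^ N).map (algebraMap ↑(S.presheaf.stalk (h t)) (AdicCompletion (IsLocalRing.maximalIdeal ↑(S.presheaf.stalk (h t))) ↑(S.presheaf.stalk (h t)))) := by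
  classical
  obtain ⟨W, hW, hsW, -⟩ := exists_isAffineOpen_mem_and_subset (U := (⊤ : S.Opens)) (x := h t) trivial
  obtain ⟨V, hV, htV, hVW⟩ := exists_isAffineOpen_mem_and_subset (U := h ⁻¹ᵁ W) (x := t) hsW
  replace hVW : V ≤ h ⁻¹ᵁ W := hVW
  haveI : IsNoetherianRing Γ(S, W) := IsLocallyNoetherian.component_noetherian ⟨W, hW⟩
  let O := S.presheaf.stalk (h t)
  let C := AdicCompletion (IsLocalRing.maximalIdeal O) O
  let gS : Γ(S, W) →+* O := (S.presheaf.germ W (h t) hsW).hom
  let gT : Γ(T, V) →+* T.presheaf.stalk t := (T.presheaf.germ V t htV).hom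
  letI : Algebra Γ(S, W) O := gS.toAlgebra
  haveI : IsLocalization.AtPrime O (hW.primeIdealOf ⟨h t, hsW⟩).asIdeal := hW.isLocalization_stalk ⟨h t, hsW⟩
  letI : Algebra Γ(T, V) (T.presheaf.stalk t) := gT.toAlgebra
  haveI : IsLocalization.AtPrime (T.presheaf.stalk t) (hV.primeIdealOf ⟨t, htV⟩).asIdeal := hV.isLocalization_stalk ⟨t, htV⟩
  letI : Algebra Γ(S, W) Γ(T, V) := (h.appLE W V hVW).hom.toAlgebra
  haveI : Algebra.FiniteType Γ(S, W) Γ(T, V) := RingHom.finiteType_algebraMap.mp (h.finiteType_appLE hW hV hVW)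
  let α : Γ(S, W) →+* C := (algebraMap O C).comp gS
  let β : Γ(T, V) →+* C := σ.comp gT
  have hgerm : ∀ a, gT ((h.appLE W V hVW).hom a) = (h.stalkMap t).hom (gS a) := fun a => by
    show T.presheaf.germ V t htV ((h.appLE W V hVW) a) = h.stalkMap t (S.presheaf.germ W (h t) hsW a)
    rw [Scheme.Hom.germ_stalkMap_apply, Scheme.Hom.appLE, CommRingCat.comp_apply, TopCat.Presheaf.germ_res_apply]
  have hβ : β.comp (algebraMap Γ(S, W) Γ(T, V)) = α := RingHom.ext fun a => by
    show σ (gT ((h.appLE W V hVW).hom a)) = _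
    rw [hgerm]
    exact RingHom.congr_fun hσ (gS a)
  let P := (hW.primeIdealOf ⟨h t, hsW⟩).asIdeal
  have hP : (P ^ N).map α = (IsLocalRing.maximalIdeal O ^ N).map (algebraMap O C) := by
    rw [← Ideal.map_map, Ideal.map_pow gS]
    exact congrArg (fun J => Ideal.map (algebraMap O C) (J ^ N)) (IsLocalization.AtPrime.map_eq_maximalIdeal P O)
  obtain ⟨B', _, _, φ, hft, hφ, hrigid⟩ := Groth.Agent.FlatMor62.CplRefine.exists_refinement α β hβ (P ^ N) fun c => by
    obtain ⟨o, ho⟩ := Groth.Agent.EGA4Lib.completion_exists_sub_mem_pow (IsLocalRing.maximalIdeal O) N c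
    obtain ⟨⟨x, s⟩, hxs⟩ := IsLocalization.surj P.primeCompl o
    refine ⟨x, s, (IsLocalization.map_units O s).map (algebraMap O C), ?_⟩
    have e : α x = α s * algebraMap O C o := by
      show algebraMap O C (algebraMap Γ(S, W) O x) = algebraMap O C (algebraMap Γ(S, W) O s) * _
      rw [← map_mul, ← hxs, mul_comm]
    rw [e, ← mul_sub, hP]
    exact Ideal.mul_mem_left _ _ ho
  let M : Ideal C := IsLocalRing.maximalIdeal C
  let ψ : Spec (CommRingCat.of B') ⟶ Spec Γ(T, V) := Spec.map (CommRingCat.ofHom (algebraMap Γ(T, V) B'))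
  let g : Spec (CommRingCat.of B') ⟶ T := ψ ≫ hV.fromSpec
  let t' : Spec (CommRingCat.of B') := (⟨M.comap φ, inferInstance⟩ : PrimeSpectrum B')
  have hMσ : ∀ z, σ z ∈ M ↔ z ∈ IsLocalRing.maximalIdeal (T.presheaf.stalk t) := fun z => by
    refine ⟨fun hz => by_contra fun hn => ?_, fun hz => ?_⟩
    · exact (IsLocalRing.mem_maximalIdeal _).mp hz ((IsLocalRing.notMem_maximalIdeal.mp hn).map σ)
    · rw [show M = _ from AdicCompletion.maximalIdeal_eq_map]
      exact hloc z hz
  have hψt : ψ t' = hV.primeIdealOf ⟨t, htV⟩ := by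
    refine PrimeSpectrum.ext (Ideal.ext fun b => ?_)
    show φ (algebraMap Γ(T, V) B' b) ∈ M ↔ b ∈ (hV.primeIdealOf ⟨t, htV⟩).asIdeal
    rw [show φ (algebraMap Γ(T, V) B' b) = σ (gT b) from RingHom.congr_fun hφ b, hMσ]
    exact IsLocalization.AtPrime.to_map_mem_maximal_iff (T.presheaf.stalk t) (hV.primeIdealOf ⟨t, htV⟩).asIdeal b
  have hg : g t' = t := by
    show hV.fromSpec (ψ t') = t
    rw [hψt, IsAffineOpen.fromSpec_primeIdealOf]
  let γ : B' →+* (Spec (CommRingCat.of B')).presheaf.stalk t' :=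
    ((Scheme.ΓSpecIso (CommRingCat.of B')).inv ≫ (Spec (CommRingCat.of B')).presheaf.germ ⊤ t' trivial).hom
  letI : Algebra B' ((Spec (CommRingCat.of B')).presheaf.stalk t') := γ.toAlgebra
  haveI : IsLocalization.AtPrime ((Spec (CommRingCat.of B')).presheaf.stalk t') (M.comap φ) := by
    exact StructureSheaf.IsLocalization.to_stalk (CommRingCat.of B') t'
  have hu : ∀ y : (M.comap φ).primeCompl, IsUnit (φ y) := fun y => IsLocalRing.notMem_maximalIdeal.mp y.2
  let τ : (Spec (CommRingCat.of B')).presheaf.stalk t' →+* C := IsLocalization.lift hu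
  let G : T.presheaf.stalk t →+* (Spec (CommRingCat.of B')).presheaf.stalk t' :=
    (g.stalkMap t').hom.comp (T.presheaf.stalkCongr (Inseparable.of_eq hg)).inv.hom
  have hkey : ∀ b, G (gT b) = γ (algebraMap Γ(T, V) B' b) := fun b => by
    have hgV : g t' ∈ V := hg ▸ htV
    have e1 : (T.presheaf.stalkCongr (Inseparable.of_eq hg)).inv (T.presheaf.germ V t htV b) = T.presheaf.germ V (g t') hgV b := by
      simp only [TopCat.Presheaf.stalkCongr]
      exact T.presheaf.germ_stalkSpecializes_apply htV _ b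
    show (g.stalkMap t') ((T.presheaf.stalkCongr (Inseparable.of_eq hg)).inv (T.presheaf.germ V t htV b)) = _
    rw [e1, Scheme.Hom.germ_stalkMap_apply]
    have hle : (⊤ : (Spec (CommRingCat.of B')).Opens) ≤ g ⁻¹ᵁ V := fun z _ => by
      show hV.fromSpec (ψ z) ∈ V
      exact hV.range_fromSpec.le ⟨ψ z, rfl⟩
    have e2 : g.appLE V ⊤ hle = CommRingCat.ofHom (algebraMap Γ(T, V) B') ≫ (Scheme.ΓSpecIso (CommRingCat.of B')).inv := by
      rw [Scheme.Hom.comp_appLE, IsAffineOpen.fromSpec_app_self, Category.assoc, Scheme.Hom.map_appLE]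
      show _ ≫ ψ.appLE ⊤ ⊤ le_rfl = _
      refine Eq.trans ?_ (Scheme.ΓSpecIso_inv_naturality (CommRingCat.ofHom (algebraMap Γ(T, V) B'))).symm
      simp [Scheme.Hom.appLE, ψ]
      rfl
    show _ = ((CommRingCat.ofHom (algebraMap Γ(T, V) B') ≫ (Scheme.ΓSpecIso (CommRingCat.of B')).inv) ≫
      (Spec (CommRingCat.of B')).presheaf.germ ⊤ t' trivial) b
    rw [← e2, Scheme.Hom.appLE, Category.assoc, TopCat.Presheaf.germ_res]
    rfl
  have hτγ : ∀ y, τ (γ y) = φ y := fun y => IsLocalization.lift_eq hu y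
  haveI : LocallyOfFiniteType g := by
    haveI : LocallyOfFiniteType ψ :=
      (HasRingHomProperty.Spec_iff (P := @LocallyOfFiniteType)).2 (RingHom.finiteType_algebraMap.mpr hft)
    infer_instance
  haveI : QuasiCompact g := quasiCompact_of_compactSpace g
  refine ⟨_, g, t', hg, τ, inferInstance, inferInstance, ?_, ?_⟩
  · refine IsLocalization.ringHom_ext (hV.primeIdealOf ⟨t, htV⟩).asIdeal.primeCompl (RingHom.ext fun b => ?_)
    show τ (G (gT b)) = σ (gT b)
    rw [hkey, hτγ]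
    exact RingHom.congr_fun hφ b
  intro σ' hσ' hloc' hτ' a
  obtain ⟨τ', hτ'⟩ := hτ'
  have hb : ∀ b, σ (gT b) - σ' (gT b) ∈ (P ^ N).map α := by
    refine hrigid (σ'.comp gT) (τ'.comp γ) (RingHom.ext fun a => ?_) (RingHom.ext fun b => ?_)
    · show σ' (gT ((h.appLE W V hVW).hom a)) = _
      rw [hgerm]
      exact RingHom.congr_fun hσ' (gS a)
    · show τ' (γ (algebraMap Γ(T, V) B' b)) = σ' (gT b)
      rw [← hkey]
      exact RingHom.congr_fun hτ' (gT b)
  rw [← hP]
  have hq : (Ideal.Quotient.mk ((P ^ N).map α)).comp σ = (Ideal.Quotient.mk ((P ^ N).map α)).comp σ' :=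
    IsLocalization.ringHom_ext (hV.primeIdealOf ⟨t, htV⟩).asIdeal.primeCompl
      (RingHom.ext fun b => Ideal.Quotient.eq.mpr (hb b))
  exact Ideal.Quotient.eq.mp (RingHom.congr_fun hq a)

end Groth.Agent.S7201
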