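import Groth.Statements.S7202
import Groth.Agent.SmoothingLib.ApproxNbhd
import Groth.Agent.Hensel.ExcellentHens

set_option autoImplicit false
universe u
open FlatMor

namespace Groth.Agent.S7202

open AlgebraicGeometry CategoryTheory Limits in
/-- Let S be locally Noetherian, p : X → S and q : Y → S locally of finite type, x in X and y in Y over
the same point s of S with O_{S,s} a G-ring, and φ : O_{Y,y} → O_{X,x}^∧ a local O_{S,s}-algebra map
into the completion. For every N ≥ 1 there are an elementary étale neighbourhood e : (U, u) → (X, x)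
(étale, e(u) = x, κ(x) = κ(u)) and an S-morphism f : U → Y with f(u) = y such that O_{Y,y} → O_{U,u}
(induced by f) and O_{Y,y} → O_{X,x}^∧ → O_{U,u}^∧ (φ followed by the map induced by e) agree modulo
m_u^N; the last condition is written on the quotients by the N-th powers of the maximal ideals. -/
theorem result {X Y S : Scheme.{u}} [IsLocallyNoetherian S]
    (p : X ⟶ S) (q : Y ⟶ S) [LocallyOfFiniteType p] [LocallyOfFiniteType q] (x : X) (y : Y) (hxy : p x = q y)
    (hG : CAlg.IsGRing ↑(S.presheaf.stalk (p x)))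
    (φ : ↑(Y.presheaf.stalk y) →+* (AdicCompletion (IsLocalRing.maximalIdeal ↑(X.presheaf.stalk x)) ↑(X.presheaf.stalk x)))
    (hφ : φ.comp ((q.stalkMap y).hom.comp (S.presheaf.stalkCongr (Inseparable.of_eq hxy)).hom.hom) =
      (algebraMap ↑(X.presheaf.stalk x) (AdicCompletion (IsLocalRing.maximalIdeal ↑(X.presheaf.stalk x)) ↑(X.presheaf.stalk x))).comp (p.stalkMap x).hom)
    (hloc : ∀ b ∈ IsLocalRing.maximalIdeal ↑(Y.presheaf.stalk y),
      φ b ∈ (IsLocalRing.maximalIdeal ↑(X.presheaf.stalk x)).map (algebraMap ↑(X.presheaf.stalk x) (AdicCompletion (IsLocalRing.maximalIdeal ↑(X.presheaf.stalk x)) ↑(X.presheaf.stalk x))))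
    (N : ℕ) (hN : 1 ≤ N) :
    ∃ (U : Scheme.{u}) (e : U ⟶ X) (u : U) (heu : e u = x) (f : U ⟶ Y) (hfu : f u = y),
      Etale e ∧ Function.Bijective (e.residueFieldMap u) ∧ f ≫ q = e ≫ p ∧
      ∀ (b : ↑(Y.presheaf.stalk y)) (c : ↑(X.presheaf.stalk x)),
        AdicCompletion.evalₐ (IsLocalRing.maximalIdeal ↑(X.presheaf.stalk x)) N (φ b) =
          Ideal.Quotient.mk (IsLocalRing.maximalIdeal ↑(X.presheaf.stalk x) ^ N) c →
        Ideal.Quotient.mk (IsLocalRing.maximalIdeal ↑(U.presheaf.stalk u) ^ N)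
            ((f.stalkMap u).hom ((Y.presheaf.stalkCongr (Inseparable.of_eq hfu)).inv.hom b)) =
          Ideal.Quotient.mk (IsLocalRing.maximalIdeal ↑(U.presheaf.stalk u) ^ N)
            ((e.stalkMap u).hom ((X.presheaf.stalkCongr (Inseparable.of_eq heu)).inv.hom c)) := by
  classical
  obtain ⟨_, ⟨V, hV, rfl⟩, hsV, -⟩ := S.isBasis_affineOpens.exists_subset_of_mem_open
    (Set.mem_univ (p x)) isOpen_univ
  obtain ⟨_, ⟨Z, hZ, rfl⟩, hxZ, hZV⟩ := X.isBasis_affineOpens.exists_subset_of_mem_open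
    (show x ∈ (p ⁻¹ᵁ V : Set X) from hsV) (p ⁻¹ᵁ V).2
  obtain ⟨_, ⟨W, hW, rfl⟩, hyW, hWV⟩ := Y.isBasis_affineOpens.exists_subset_of_mem_open
    (show y ∈ (q ⁻¹ᵁ V : Set Y) from (show q y ∈ V from hxy ▸ hsV)) (q ⁻¹ᵁ V).2
  haveI : IsNoetherianRing Γ(S, V) := IsLocallyNoetherian.component_noetherian ⟨V, hV⟩
  let pC := p.appLE V Z hZV
  let qB := q.appLE V W hWV
  letI : Algebra Γ(S, V) Γ(X, Z) := pC.hom.toAlgebra
  letI : Algebra Γ(S, V) Γ(Y, W) := qB.hom.toAlgebra
  haveI : Algebra.FiniteType Γ(S, V) Γ(X, Z) := LocallyOfFiniteType.finiteType_appLE p hV hZ hZV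
  haveI : Algebra.FiniteType Γ(S, V) Γ(Y, W) := LocallyOfFiniteType.finiteType_appLE q hV hW hWV
  haveI : IsNoetherianRing Γ(X, Z) := Algebra.FiniteType.isNoetherianRing Γ(S, V) Γ(X, Z)
  haveI : Algebra.FinitePresentation Γ(S, V) Γ(Y, W) := Algebra.FinitePresentation.of_finiteType.1 ‹_›
  letI algL : Algebra Γ(X, Z) (X.presheaf.stalk x) := (X.presheaf.germ Z x hxZ).hom.toAlgebra
  haveI hlocL : IsLocalization.AtPrime (X.presheaf.stalk x) (hZ.primeIdealOf ⟨x, hxZ⟩).asIdeal :=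
    hZ.isLocalization_stalk ⟨x, hxZ⟩
  letI : Algebra Γ(S, V) (X.presheaf.stalk x) := ((X.presheaf.germ Z x hxZ).hom.comp pC.hom).toAlgebra
  haveI : IsScalarTower Γ(S, V) Γ(X, Z) (X.presheaf.stalk x) := IsScalarTower.of_algebraMap_eq fun _ => rfl
  have hgermp : S.presheaf.germ V (p x) hsV ≫ p.stalkMap x = pC ≫ X.presheaf.germ Z x hxZ := by
    simp only [pC, Scheme.Hom.germ_stalkMap, Scheme.Hom.appLE, Category.assoc, TopCat.Presheaf.germ_res]
  letI : Algebra (S.presheaf.stalk (p x)) (X.presheaf.stalk x) := (p.stalkMap x).hom.toAlgebra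
  letI : Algebra Γ(S, V) (S.presheaf.stalk (p x)) := (S.presheaf.germ V (p x) hsV).hom.toAlgebra
  haveI : IsScalarTower Γ(S, V) (S.presheaf.stalk (p x)) (X.presheaf.stalk x) :=
    IsScalarTower.of_algebraMap_eq' (congrArg CommRingCat.Hom.hom hgermp).symm
  haveI : Algebra.EssFiniteType Γ(X, Z) (X.presheaf.stalk x) :=
    Algebra.EssFiniteType.of_isLocalization _ (hZ.primeIdealOf ⟨x, hxZ⟩).asIdeal.primeCompl
  haveI : Algebra.EssFiniteType Γ(S, V) (X.presheaf.stalk x) := Algebra.EssFiniteType.comp _ Γ(X, Z) _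
  haveI : Algebra.EssFiniteType (S.presheaf.stalk (p x)) (X.presheaf.stalk x) :=
    Algebra.EssFiniteType.of_comp Γ(S, V) _ _
  have hGL : CAlg.IsGRing (X.presheaf.stalk x) :=
    Groth.Agent.SmoothingLib.ApproxNbhd.isGRing_of_essFiniteType hG
  haveI : IsNoetherianRing (X.presheaf.stalk x) := hGL.1
  haveI : IsNoetherianRing (AdicCompletion (IsLocalRing.maximalIdeal (X.presheaf.stalk x)) (X.presheaf.stalk x)) :=
    Groth.Agent.RegLoc.Completion.isNoetherianRing_adicCompletion' _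
  let φB : Γ(Y, W) →ₐ[Γ(S, V)] AdicCompletion (IsLocalRing.maximalIdeal (X.presheaf.stalk x)) (X.presheaf.stalk x) :=
    { φ.comp (Y.presheaf.germ W y hyW).hom with
      commutes' := fun r => by
        have h1 : qB ≫ Y.presheaf.germ W y hyW = S.presheaf.germ V (p x) hsV ≫
            (S.presheaf.stalkCongr (Inseparable.of_eq hxy)).hom ≫ q.stalkMap y := by
          simp only [qB, TopCat.Presheaf.stalkCongr_hom, TopCat.Presheaf.germ_stalkSpecializes_assoc,
            Scheme.Hom.germ_stalkMap, Scheme.Hom.appLE, Category.assoc, TopCat.Presheaf.germ_res]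
        show φ ((qB ≫ Y.presheaf.germ W y hyW).hom r) = _
        rw [h1]
        refine (DFunLike.congr_fun hφ _).trans ?_
        rw [IsScalarTower.algebraMap_apply Γ(S, V) (X.presheaf.stalk x)
          (AdicCompletion (IsLocalRing.maximalIdeal (X.presheaf.stalk x)) (X.presheaf.stalk x))]
        exact congrArg (algebraMap (X.presheaf.stalk x)
          (AdicCompletion (IsLocalRing.maximalIdeal (X.presheaf.stalk x)) (X.presheaf.stalk x)))
          (DFunLike.congr_fun (congrArg CommRingCat.Hom.hom hgermp) r) }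
  open TensorProduct in
  let fT : Γ(X, Z) ⊗[Γ(S, V)] Γ(Y, W) →ₐ[Γ(X, Z)]
      AdicCompletion (IsLocalRing.maximalIdeal (X.presheaf.stalk x)) (X.presheaf.stalk x) :=
    Algebra.TensorProduct.lift (Algebra.ofId Γ(X, Z) _) φB fun _ _ => Commute.all _ _
  have hN0 : N ≠ 0 := by omega
  obtain ⟨D, _, _, hD, ψ, ρ, hρ⟩ := Groth.Agent.SmoothingLib.ApproxEtale.exists_etale_nbhd
    (R := Γ(X, Z)) (L := X.presheaf.stalk x)
    (Groth.Agent.SmoothingLib.ApproxEtale.indSmooth_of_localization (hZ.primeIdealOf ⟨x, hxZ⟩).asIdeal.primeCompl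
      (Groth.Agent.SmoothingLib.Popescu.indSmooth
        ((Groth.Agent.Hensel.isGRing_iff_isRegularHom_cpl _).1 hGL)))
    (fun z => by
      obtain ⟨⟨r, s⟩, h⟩ := IsLocalization.surj (hZ.primeIdealOf ⟨x, hxZ⟩).asIdeal.primeCompl z
      exact ⟨r, s, IsLocalization.map_units _ s, by rw [mul_comm]; exact h⟩) fT N hN0
  haveI := hD
  have hfg : (IsLocalRing.maximalIdeal (X.presheaf.stalk x)).FG := IsNoetherian.noetherian _
  have hdown : ∀ a : AdicCompletion (IsLocalRing.maximalIdeal (X.presheaf.stalk x)) (X.presheaf.stalk x),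
      AdicCompletion.evalₐ (IsLocalRing.maximalIdeal (X.presheaf.stalk x)) N a = 0 →
      AdicCompletion.evalₐ (IsLocalRing.maximalIdeal (X.presheaf.stalk x)) 1 a = 0 := fun a ha =>
    (Groth.Agent.Adic.Rig.mem_pow_map_iff hfg 1 a).1
      (Ideal.map_mono (Ideal.pow_le_pow_right hN) ((Groth.Agent.Adic.Rig.mem_pow_map_iff hfg N a).2 ha))
  let ε : D →+* X.presheaf.stalk x ⧸ IsLocalRing.maximalIdeal (X.presheaf.stalk x) ^ 1 :=
    (AdicCompletion.evalₐ (IsLocalRing.maximalIdeal (X.presheaf.stalk x)) 1).toRingHom.comp ψ.toRingHom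
  haveI hp1 : (IsLocalRing.maximalIdeal (X.presheaf.stalk x) ^ 1).IsPrime := by
    rw [pow_one]; infer_instance
  haveI : (⊥ : Ideal (X.presheaf.stalk x ⧸ IsLocalRing.maximalIdeal (X.presheaf.stalk x) ^ 1)).IsPrime :=
    Ideal.isPrime_bot
  let u : Spec (CommRingCat.of D) := ⟨RingHom.ker ε, Ideal.IsPrime.comap ε⟩
  haveI hup : u.asIdeal.IsPrime := Ideal.IsPrime.comap ε
  let e : Spec (CommRingCat.of D) ⟶ X :=
    Spec.map (CommRingCat.ofHom (algebraMap Γ(X, Z) D)) ≫ hZ.fromSpec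
  let gB : Γ(Y, W) →+* D := ρ.toRingHom.comp
    (Algebra.TensorProduct.includeRight : Γ(Y, W) →ₐ[Γ(S, V)] _).toRingHom
  let f : Spec (CommRingCat.of D) ⟶ Y := Spec.map (CommRingCat.ofHom gB) ≫ hW.fromSpec
  haveI : Etale e := by
    haveI : Etale (Spec.map (CommRingCat.ofHom (algebraMap Γ(X, Z) D))) :=
      (HasRingHomProperty.Spec_iff (P := @Etale)).2 (RingHom.etale_algebraMap.2 hD)
    infer_instance
  have hevB : ∀ b : Γ(Y, W), AdicCompletion.evalₐ (IsLocalRing.maximalIdeal (X.presheaf.stalk x)) N (ψ (gB b)) =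
      AdicCompletion.evalₐ (IsLocalRing.maximalIdeal (X.presheaf.stalk x)) N (φ (Y.presheaf.germ W y hyW b)) :=
    fun b => by
      refine (hρ _).trans ?_
      congr 1
      show Algebra.ofId Γ(X, Z) _ 1 * φB b = _
      rw [map_one, one_mul]
      rfl
  have hεB : ∀ b : Γ(Y, W), ε (gB b) =
      AdicCompletion.evalₐ (IsLocalRing.maximalIdeal (X.presheaf.stalk x)) 1 (φ (Y.presheaf.germ W y hyW b)) :=
    fun b => by
      have h1 := hdown (ψ (gB b) - φ (Y.presheaf.germ W y hyW b)) (by rw [map_sub, hevB, sub_self])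
      rw [map_sub, sub_eq_zero] at h1
      exact h1
  have hεC : ∀ c : Γ(X, Z), ε (algebraMap Γ(X, Z) D c) =
      Ideal.Quotient.mk _ (X.presheaf.germ Z x hxZ c) := fun c => by
    show AdicCompletion.evalₐ _ 1 (ψ (algebraMap Γ(X, Z) D c)) = _
    rw [ψ.commutes]
    exact Groth.Agent.SmoothingLib.ApproxEtale.evalₐ_algebraMap (R := Γ(X, Z)) 1 c
  have heu : e u = x := by
    show hZ.fromSpec (Spec.map (CommRingCat.ofHom (algebraMap Γ(X, Z) D)) u) = x
    have h1 : Spec.map (CommRingCat.ofHom (algebraMap Γ(X, Z) D)) u = hZ.primeIdealOf ⟨x, hxZ⟩ := by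
      rw [hZ.primeIdealOf_eq_map_closedPoint]
      refine PrimeSpectrum.ext (Ideal.ext fun c => ?_)
      show ε (algebraMap Γ(X, Z) D c) = 0 ↔ X.presheaf.germ Z x hxZ c ∈ IsLocalRing.maximalIdeal _
      rw [hεC, Ideal.Quotient.eq_zero_iff_mem, pow_one]
    rw [h1]
    exact hZ.fromSpec_primeIdealOf ⟨x, hxZ⟩
  have hfu : f u = y := by
    show hW.fromSpec (Spec.map (CommRingCat.ofHom gB) u) = y
    have h1 : Spec.map (CommRingCat.ofHom gB) u = hW.primeIdealOf ⟨y, hyW⟩ := by
      rw [hW.primeIdealOf_eq_map_closedPoint]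
      refine PrimeSpectrum.ext (Ideal.ext fun b => ?_)
      show ε (gB b) = 0 ↔ Y.presheaf.germ W y hyW b ∈ IsLocalRing.maximalIdeal _
      rw [hεB]
      refine ⟨fun h0 => ?_, fun hm => ?_⟩
      · by_contra hm
        have hu := ((IsLocalRing.notMem_maximalIdeal.1 hm).map φ).map
          (AdicCompletion.evalₐ (IsLocalRing.maximalIdeal (X.presheaf.stalk x)) 1)
        rw [h0] at hu
        haveI : Nontrivial (X.presheaf.stalk x ⧸ IsLocalRing.maximalIdeal (X.presheaf.stalk x) ^ 1) :=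
          Ideal.Quotient.nontrivial_iff.2 hp1.ne_top
        exact not_isUnit_zero hu
      · exact (Groth.Agent.Adic.Rig.mem_pow_map_iff hfg 1 _).1 (by rw [pow_one]; exact hloc _ hm)
    rw [h1]
    exact hW.fromSpec_primeIdealOf ⟨y, hyW⟩
  -- the stalk at the new point
  letI algE : Algebra D ((Spec (CommRingCat.of D)).presheaf.stalk u) :=
    (StructureSheaf.toStalk (CommRingCat.of D) u).hom.toAlgebra
  haveI hlocE : IsLocalization.AtPrime ((Spec (CommRingCat.of D)).presheaf.stalk u) u.asIdeal :=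
    StructureSheaf.IsLocalization.to_stalk (CommRingCat.of D) u
  letI algLE : Algebra (X.presheaf.stalk x) ((Spec (CommRingCat.of D)).presheaf.stalk u) :=
    ((X.presheaf.stalkCongr (Inseparable.of_eq heu)).inv ≫ e.stalkMap u).hom.toAlgebra
  letI algCE : Algebra Γ(X, Z) ((Spec (CommRingCat.of D)).presheaf.stalk u) :=
    ((StructureSheaf.toStalk (CommRingCat.of D) u).hom.comp (algebraMap Γ(X, Z) D)).toAlgebra
  haveI : IsScalarTower Γ(X, Z) D ((Spec (CommRingCat.of D)).presheaf.stalk u) :=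
    IsScalarTower.of_algebraMap_eq fun _ => rfl
  have hgermC := Groth.Agent.SmoothingLib.ApproxNbhd.stalkMap_germ_spec hZ
    (CommRingCat.ofHom (algebraMap Γ(X, Z) D)) e rfl u x heu hxZ
  have hgermB := Groth.Agent.SmoothingLib.ApproxNbhd.stalkMap_germ_spec hW
    (CommRingCat.ofHom gB) f rfl u y hfu hyW
  haveI : IsScalarTower Γ(X, Z) (X.presheaf.stalk x) ((Spec (CommRingCat.of D)).presheaf.stalk u) :=
    IsScalarTower.of_algebraMap_eq' (congrArg CommRingCat.Hom.hom hgermC).symm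
  let ψN : D →+* X.presheaf.stalk x ⧸ IsLocalRing.maximalIdeal (X.presheaf.stalk x) ^ N :=
    (AdicCompletion.evalₐ (IsLocalRing.maximalIdeal (X.presheaf.stalk x)) N).toRingHom.comp ψ.toRingHom
  have hunit : ∀ d : u.asIdeal.primeCompl, IsUnit (ψN d) := by
    rintro ⟨d, hd⟩
    obtain ⟨l, hl⟩ := Ideal.Quotient.mk_surjective (ψN d)
    have h1 := hdown (ψ d - algebraMap _ _ l) (by
      rw [map_sub, AlgHom.commutes, sub_eq_zero]
      exact hl.symm)
    rw [map_sub, AlgHom.commutes, sub_eq_zero] at h1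
    have hlu : IsUnit l := IsLocalRing.notMem_maximalIdeal.1 fun hm => hd (by
      show ε d = 0
      refine h1.trans ?_
      rw [Ideal.Quotient.algebraMap_eq, Ideal.Quotient.eq_zero_iff_mem, pow_one]
      exact hm)
    exact hl ▸ hlu.map _
  let θ : (Spec (CommRingCat.of D)).presheaf.stalk u →+*
      X.presheaf.stalk x ⧸ IsLocalRing.maximalIdeal (X.presheaf.stalk x) ^ N :=
    IsLocalization.lift (M := u.asIdeal.primeCompl) hunit
  have hθD : ∀ d : D, θ (StructureSheaf.toStalk (CommRingCat.of D) u d) = ψN d := fun d =>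
    IsLocalization.lift_eq hunit d
  have hθ : ∀ c, θ (algebraMap (X.presheaf.stalk x) _ c) = Ideal.Quotient.mk _ c := by
    have h1 : θ.comp (algebraMap (X.presheaf.stalk x) _) = Ideal.Quotient.mk _ := by
      refine IsLocalization.ringHom_ext (hZ.primeIdealOf ⟨x, hxZ⟩).asIdeal.primeCompl (RingHom.ext fun c => ?_)
      show θ (algebraMap (X.presheaf.stalk x) _ (algebraMap Γ(X, Z) (X.presheaf.stalk x) c)) = _
      rw [← IsScalarTower.algebraMap_apply]
      refine (hθD _).trans ?_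
      show AdicCompletion.evalₐ _ N (ψ (algebraMap Γ(X, Z) D c)) = _
      rw [ψ.commutes]
      exact Groth.Agent.SmoothingLib.ApproxEtale.evalₐ_algebraMap (R := Γ(X, Z)) N c
    exact fun c => DFunLike.congr_fun h1 c
  haveI : IsLocalHom (algebraMap (X.presheaf.stalk x) ((Spec (CommRingCat.of D)).presheaf.stalk u)) := by
    refine ⟨fun c hc => IsLocalRing.notMem_maximalIdeal.1 fun hm => ?_⟩
    have h1 : IsUnit (Ideal.Quotient.mk (IsLocalRing.maximalIdeal (X.presheaf.stalk x) ^ N) c) :=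
      hθ c ▸ hc.map θ
    haveI : Nontrivial (X.presheaf.stalk x ⧸ IsLocalRing.maximalIdeal (X.presheaf.stalk x) ^ N) :=
      Ideal.Quotient.nontrivial_iff.2 fun h =>
        (IsLocalRing.maximalIdeal.isMaximal (X.presheaf.stalk x)).ne_top (top_le_iff.1 (h ▸ Ideal.pow_le_self hN0))
    have h2 : IsNilpotent (Ideal.Quotient.mk (IsLocalRing.maximalIdeal (X.presheaf.stalk x) ^ N) c) :=
      ⟨N, by rw [← map_pow, Ideal.Quotient.eq_zero_iff_mem]; exact Ideal.pow_mem_pow hm N⟩
    exact h2.not_isUnit h1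
  haveI : Algebra.FormallyUnramified D ((Spec (CommRingCat.of D)).presheaf.stalk u) :=
    Algebra.FormallyUnramified.of_isLocalization u.asIdeal.primeCompl
  haveI : Algebra.FormallyUnramified Γ(X, Z) ((Spec (CommRingCat.of D)).presheaf.stalk u) :=
    Algebra.FormallyUnramified.comp _ D _
  haveI : Algebra.FormallyUnramified (X.presheaf.stalk x) ((Spec (CommRingCat.of D)).presheaf.stalk u) :=
    Algebra.FormallyUnramified.of_restrictScalars Γ(X, Z) _ _
  haveI : Algebra.EssFiniteType D ((Spec (CommRingCat.of D)).presheaf.stalk u) :=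
    Algebra.EssFiniteType.of_isLocalization _ u.asIdeal.primeCompl
  haveI : Algebra.EssFiniteType Γ(X, Z) ((Spec (CommRingCat.of D)).presheaf.stalk u) :=
    Algebra.EssFiniteType.comp _ D _
  haveI : Algebra.EssFiniteType (X.presheaf.stalk x) ((Spec (CommRingCat.of D)).presheaf.stalk u) :=
    Algebra.EssFiniteType.of_comp Γ(X, Z) _ _
  refine ⟨Spec (CommRingCat.of D), e, u, heu, f, hfu, inferInstance, ?_, ?_, fun b c hbc => ?_⟩
  · refine ⟨RingHom.injective _, fun z => ?_⟩
    obtain ⟨w, rfl⟩ := IsLocalRing.residue_surjective z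
    obtain ⟨c, hc⟩ := Groth.Agent.SmoothingLib.ApproxNbhd.exists_sub_mem hN0 θ hθ w
    refine ⟨X.residue (e u) ((X.presheaf.stalkCongr (Inseparable.of_eq heu)).inv c), ?_⟩
    refine (DFunLike.congr_fun (congrArg CommRingCat.Hom.hom (Scheme.residue_residueFieldMap e u))
      ((X.presheaf.stalkCongr (Inseparable.of_eq heu)).inv c)).trans ?_
    exact ((Ideal.Quotient.eq).2 hc).symm
  · have h1 : qB ≫ CommRingCat.ofHom gB = pC ≫ CommRingCat.ofHom (algebraMap Γ(X, Z) D) := by
      refine CommRingCat.hom_ext (RingHom.ext fun r => ?_)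
      show ρ ((1 : Γ(X, Z)) ⊗ₜ[Γ(S, V)] algebraMap Γ(S, V) Γ(Y, W) r) = algebraMap Γ(X, Z) D (algebraMap Γ(S, V) Γ(X, Z) r)
      rw [← ρ.commutes]
      congr 1
      rw [Algebra.TensorProduct.algebraMap_apply, Algebra.algebraMap_self_apply,
        Algebra.algebraMap_eq_smul_one, Algebra.algebraMap_eq_smul_one, TensorProduct.tmul_smul,
        TensorProduct.smul_tmul']
    show (Spec.map (CommRingCat.ofHom gB) ≫ hW.fromSpec) ≫ q =
      (Spec.map (CommRingCat.ofHom (algebraMap Γ(X, Z) D)) ≫ hZ.fromSpec) ≫ p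
    rw [Category.assoc, Category.assoc, ← IsAffineOpen.SpecMap_appLE_fromSpec q hV hW hWV,
      ← IsAffineOpen.SpecMap_appLE_fromSpec p hV hZ hZV, ← Spec.map_comp_assoc, ← Spec.map_comp_assoc]
    exact congrArg (fun g => Spec.map g ≫ hV.fromSpec) h1
  · refine Ideal.Quotient.eq.2 (Groth.Agent.SmoothingLib.ApproxNbhd.sub_mem_pow hN0 θ hθ _ c ?_)
    rw [← hbc]
    have h1 : θ.comp ((Y.presheaf.stalkCongr (Inseparable.of_eq hfu)).inv ≫ f.stalkMap u).hom =
        (AdicCompletion.evalₐ (IsLocalRing.maximalIdeal (X.presheaf.stalk x)) N).toRingHom.comp φ := by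
      letI := (Y.presheaf.germ W y hyW).hom.toAlgebra
      haveI : IsLocalization.AtPrime (Y.presheaf.stalk y) (hW.primeIdealOf ⟨y, hyW⟩).asIdeal :=
        hW.isLocalization_stalk ⟨y, hyW⟩
      refine IsLocalization.ringHom_ext (hW.primeIdealOf ⟨y, hyW⟩).asIdeal.primeCompl (RingHom.ext fun b' => ?_)
      show θ ((Y.presheaf.germ W y hyW ≫ (Y.presheaf.stalkCongr (Inseparable.of_eq hfu)).inv ≫ f.stalkMap u).hom b') = _
      rw [hgermB]
      exact (hθD _).trans (hevB b')
    exact DFunLike.congr_fun h1 b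

end Groth.Agent.S7202
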