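import Groth.Statements.S7203
import Groth.Agent.SmoothingLib.ApproxIso
import Groth.Agent.S7202
import Groth.Agent.S9566

set_option autoImplicit false
universe u
open FlatMor

namespace Groth.Agent.S7203

section
open AlgebraicGeometry CategoryTheory IsLocalRing

theorem stalkCongr_refl {X : Scheme.{u}} (z : X) (h : Inseparable z z) (c : X.presheaf.stalk z) :
    (X.presheaf.stalkCongr h).inv c = c := by
  rw [show (X.presheaf.stalkCongr h).inv = 𝟙 _ from X.presheaf.stalkSpecializes_refl z]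
  rfl

theorem open_etale {U X Y : Scheme.{u}} [IsLocallyNoetherian X] [IsLocallyNoetherian Y] (e : U ⟶ X) (f : U ⟶ Y)
    [Etale e] [LocallyOfFiniteType f] (u : U) (hres : Function.Bijective (e.residueFieldMap u))
    (φ : AdicCompletion (maximalIdeal (Y.presheaf.stalk (f u))) (Y.presheaf.stalk (f u)) ≃+*
      AdicCompletion (maximalIdeal (X.presheaf.stalk (e u))) (X.presheaf.stalk (e u))) {N : ℕ} (hN : 2 ≤ N)
    (hag : ∀ a l, Groth.Agent.SmoothingLib.ApproxIso.trunc φ N a = Ideal.Quotient.mk _ l →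
      (f.stalkMap u).hom a - (e.stalkMap u).hom l ∈ maximalIdeal (U.presheaf.stalk u) ^ N) :
    Function.Bijective (f.residueFieldMap u) ∧ ∃ W : U.Opens, u ∈ W ∧ Etale (W.ι ≫ f) := by
  haveI : IsLocallyNoetherian U := LocallyOfFiniteType.isLocallyNoetherian e
  letI : Algebra (Y.presheaf.stalk (f u)) (U.presheaf.stalk u) := (f.stalkMap u).hom.toAlgebra
  letI : Algebra (X.presheaf.stalk (e u)) (U.presheaf.stalk u) := (e.stalkMap u).hom.toAlgebra
  haveI : IsLocalHom (algebraMap (Y.presheaf.stalk (f u)) (U.presheaf.stalk u)) :=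
    inferInstanceAs (IsLocalHom (f.stalkMap u).hom)
  haveI : IsLocalHom (algebraMap (X.presheaf.stalk (e u)) (U.presheaf.stalk u)) :=
    inferInstanceAs (IsLocalHom (e.stalkMap u).hom)
  haveI : Algebra.EssFiniteType (Y.presheaf.stalk (f u)) (U.presheaf.stalk u) :=
    LocallyOfFiniteType.stalkMap f u
  obtain ⟨hflE, hmE, -⟩ := (Groth.Agent.S9566.result e u).1 ⟨⊤, trivial, inferInstance⟩
  haveI : Module.Flat (X.presheaf.stalk (e u)) (U.presheaf.stalk u) := hflE
  have hresL : ∀ b : U.presheaf.stalk u, ∃ l : X.presheaf.stalk (e u),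
      b - algebraMap _ _ l ∈ maximalIdeal (U.presheaf.stalk u) :=
    Groth.Agent.EtStruct.residueField_surjective_iff.2 hres.2
  obtain ⟨hfl, hm, hresA⟩ := Groth.Agent.SmoothingLib.ApproxIso.flat_unramified φ hN hmE hresL hag
  have hbij : Function.Bijective (f.residueFieldMap u) :=
    ⟨RingHom.injective _, Groth.Agent.EtStruct.residueField_surjective_iff.1 hresA⟩
  refine ⟨hbij, (Groth.Agent.S9566.result f u).2 ⟨hfl, hm, ?_⟩⟩
  letI := (f.residueFieldMap u).hom.toAlgebra
  refine ⟨Module.Finite.of_surjective (Algebra.linearMap _ _) hbij.2, ⟨fun z => ?_⟩⟩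
  obtain ⟨w, rfl⟩ := hbij.2 z
  exact isSeparable_algebraMap _

end

open AlgebraicGeometry CategoryTheory Limits in
/-- Let S be locally Noetherian, p : X → S and q : Y → S locally of finite type, x in X and y in Y over
the same point s with O_{S,s} a G-ring, and φ : O_{Y,y}^∧ ≅ O_{X,x}^∧ an isomorphism of
O_{S,s}-algebras between the completed local rings. For every N ≥ 1 there are a scheme U, a point u
and morphisms e : U → X, f : U → Y over S which are both elementary étale neighbourhoods (of (X, x)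
and of (Y, y)) such that O_{Y,y}^∧ → O_{U,u}^∧ and O_{Y,y}^∧ → O_{X,x}^∧ → O_{U,u}^∧ (φ followed by
the map induced by e) agree modulo m_u^N; the last condition is written on O_{U,u}/m_u^N through
lifts modulo the N-th powers of the maximal ideals. -/
theorem result {X Y S : Scheme.{u}} [IsLocallyNoetherian S]
    (p : X ⟶ S) (q : Y ⟶ S) [LocallyOfFiniteType p] [LocallyOfFiniteType q] (x : X) (y : Y) (hxy : p x = q y)
    (hG : CAlg.IsGRing ↑(S.presheaf.stalk (p x)))
    (φ : (AdicCompletion (IsLocalRing.maximalIdeal ↑(Y.presheaf.stalk y)) ↑(Y.presheaf.stalk y)) ≃+* (AdicCompletion (IsLocalRing.maximalIdeal ↑(X.presheaf.stalk x)) ↑(X.presheaf.stalk x)))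
    (hφ : φ.toRingHom.comp ((algebraMap ↑(Y.presheaf.stalk y) (AdicCompletion (IsLocalRing.maximalIdeal ↑(Y.presheaf.stalk y)) ↑(Y.presheaf.stalk y))).comp
        ((q.stalkMap y).hom.comp (S.presheaf.stalkCongr (Inseparable.of_eq hxy)).hom.hom)) =
      (algebraMap ↑(X.presheaf.stalk x) (AdicCompletion (IsLocalRing.maximalIdeal ↑(X.presheaf.stalk x)) ↑(X.presheaf.stalk x))).comp (p.stalkMap x).hom)
    (N : ℕ) (hN : 1 ≤ N) :
    ∃ (U : Scheme.{u}) (u : U) (e : U ⟶ X) (heu : e u = x) (f : U ⟶ Y) (hfu : f u = y),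
      Etale e ∧ Function.Bijective (e.residueFieldMap u) ∧ Etale f ∧ Function.Bijective (f.residueFieldMap u) ∧
      f ≫ q = e ≫ p ∧
      ∀ (b : (AdicCompletion (IsLocalRing.maximalIdeal ↑(Y.presheaf.stalk y)) ↑(Y.presheaf.stalk y))) (cY : ↑(Y.presheaf.stalk y)) (cX : ↑(X.presheaf.stalk x)),
        AdicCompletion.evalₐ (IsLocalRing.maximalIdeal ↑(Y.presheaf.stalk y)) N b =
          Ideal.Quotient.mk (IsLocalRing.maximalIdeal ↑(Y.presheaf.stalk y) ^ N) cY →
        AdicCompletion.evalₐ (IsLocalRing.maximalIdeal ↑(X.presheaf.stalk x)) N (φ b) =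
          Ideal.Quotient.mk (IsLocalRing.maximalIdeal ↑(X.presheaf.stalk x) ^ N) cX →
        Ideal.Quotient.mk (IsLocalRing.maximalIdeal ↑(U.presheaf.stalk u) ^ N)
            ((f.stalkMap u).hom ((Y.presheaf.stalkCongr (Inseparable.of_eq hfu)).inv.hom cY)) =
          Ideal.Quotient.mk (IsLocalRing.maximalIdeal ↑(U.presheaf.stalk u) ^ N)
            ((e.stalkMap u).hom ((X.presheaf.stalkCongr (Inseparable.of_eq heu)).inv.hom cX)) := by
  haveI : IsLocallyNoetherian X := LocallyOfFiniteType.isLocallyNoetherian p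
  haveI : IsLocallyNoetherian Y := LocallyOfFiniteType.isLocallyNoetherian q
  have hloc : ∀ b ∈ IsLocalRing.maximalIdeal ↑(Y.presheaf.stalk y),
      (φ.toRingHom.comp (algebraMap ↑(Y.presheaf.stalk y) _)) b ∈ (IsLocalRing.maximalIdeal ↑(X.presheaf.stalk x)).map
        (algebraMap ↑(X.presheaf.stalk x) (AdicCompletion (IsLocalRing.maximalIdeal ↑(X.presheaf.stalk x)) ↑(X.presheaf.stalk x))) := by
    intro b hb
    have h1 := Groth.Agent.SmoothingLib.ApproxIso.map_pow_eq φ 1
    rw [pow_one, pow_one] at h1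
    rw [← h1]
    exact Ideal.mem_map_of_mem φ.toRingHom (Ideal.mem_map_of_mem _ hb)
  obtain ⟨U, e, u, heu, f, hfu, he, hres, hcomm, hag⟩ := Groth.Agent.S7202.result p q x y hxy hG
    (φ.toRingHom.comp (algebraMap ↑(Y.presheaf.stalk y) _)) hφ hloc (max N 2) (le_trans hN (le_max_left _ _))
  subst heu hfu
  haveI := he
  haveI : LocallyOfFiniteType f := by
    haveI : LocallyOfFiniteType (f ≫ q) := by rw [hcomm]; infer_instance
    exact locallyOfFiniteType_of_comp f q
  simp only [stalkCongr_refl] at hag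
  obtain ⟨hresf, W, huW, hW⟩ := open_etale e f u hres φ (le_max_right N 2)
    (fun a l h => Ideal.Quotient.eq.1 (hag a l h))
  haveI := hW
  have hι : Function.Bijective (W.ι.residueFieldMap ⟨u, huW⟩) := ConcreteCategory.bijective_of_isIso _
  refine ⟨W.toScheme, ⟨u, huW⟩, W.ι ≫ e, rfl, W.ι ≫ f, rfl, inferInstance, ?_, hW, ?_,
    by rw [Category.assoc, Category.assoc, hcomm], fun b cY cX hb hc => ?_⟩
  · rw [Scheme.residueFieldMap_comp]
    exact hι.comp hres
  · rw [Scheme.residueFieldMap_comp]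
    exact hι.comp hresf
  have hfgY : (IsLocalRing.maximalIdeal ↑(Y.presheaf.stalk (f u))).FG := IsNoetherian.noetherian _
  have hfgX : (IsLocalRing.maximalIdeal ↑(X.presheaf.stalk (e u))).FG := IsNoetherian.noetherian _
  obtain ⟨c', hc'⟩ := Ideal.Quotient.mk_surjective
    (Groth.Agent.SmoothingLib.ApproxIso.trunc φ (max N 2) cY)
  have key := Ideal.Quotient.eq.1 (hag cY c' hc'.symm)
  have hd : c' - cX ∈ IsLocalRing.maximalIdeal ↑(X.presheaf.stalk (e u)) ^ N := by
    have h1 : φ (algebraMap _ _ cY) - algebraMap _ _ c' ∈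
        (IsLocalRing.maximalIdeal ↑(X.presheaf.stalk (e u)) ^ N).map (algebraMap _
          (AdicCompletion (IsLocalRing.maximalIdeal ↑(X.presheaf.stalk (e u))) ↑(X.presheaf.stalk (e u)))) :=
      Ideal.map_mono (Ideal.pow_le_pow_right (le_max_left N 2))
        ((Groth.Agent.Adic.Rig.mem_pow_map_iff hfgX _ _).2 (by
          rw [map_sub, AlgHom.commutes, sub_eq_zero]
          exact hc'.symm))
    have h2 : φ b - φ (algebraMap _ _ cY) ∈
        (IsLocalRing.maximalIdeal ↑(X.presheaf.stalk (e u)) ^ N).map (algebraMap _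
          (AdicCompletion (IsLocalRing.maximalIdeal ↑(X.presheaf.stalk (e u))) ↑(X.presheaf.stalk (e u)))) := by
      rw [← map_sub, ← Groth.Agent.SmoothingLib.ApproxIso.map_pow_eq φ N]
      refine Ideal.mem_map_of_mem φ.toRingHom ((Groth.Agent.Adic.Rig.mem_pow_map_iff hfgY _ _).2 ?_)
      rw [map_sub, AlgHom.commutes, sub_eq_zero]
      exact hb
    have h3 := (Groth.Agent.Adic.Rig.mem_pow_map_iff hfgX _ _).1 (add_mem h2 h1)
    rw [sub_add_sub_cancel, map_sub, AlgHom.commutes, sub_eq_zero, hc, Ideal.Quotient.algebraMap_eq] at h3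
    rw [← neg_sub]
    exact neg_mem (Ideal.Quotient.eq.1 h3)
  have hmax : ∀ z ∈ IsLocalRing.maximalIdeal ↑(X.presheaf.stalk (e u)) ^ N,
      (e.stalkMap u).hom z ∈ IsLocalRing.maximalIdeal ↑(U.presheaf.stalk u) ^ N := fun z hz => by
    have hle : (IsLocalRing.maximalIdeal ↑(X.presheaf.stalk (e u))).map (e.stalkMap u).hom ≤
        IsLocalRing.maximalIdeal ↑(U.presheaf.stalk u) :=
      ((IsLocalRing.local_hom_TFAE (e.stalkMap u).hom).out 0 2 rfl rfl).mp inferInstance
    have h1 := Ideal.mem_map_of_mem (e.stalkMap u).hom hz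
    rw [Ideal.map_pow] at h1
    exact Ideal.pow_right_mono hle N h1
  have key2 : (f.stalkMap u).hom cY - (e.stalkMap u).hom cX ∈
      IsLocalRing.maximalIdeal ↑(U.presheaf.stalk u) ^ N := by
    have := add_mem (Ideal.pow_le_pow_right (le_max_left N 2) key) (hmax _ hd)
    rwa [map_sub, sub_add_sub_cancel] at this
  refine Ideal.Quotient.eq.2 ?_
  rw [Scheme.Hom.stalkMap_comp, Scheme.Hom.stalkMap_comp]
  show (W.ι.stalkMap ⟨u, huW⟩).hom ((f.stalkMap u).hom ((Y.presheaf.stalkCongr _).inv.hom cY)) -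
    (W.ι.stalkMap ⟨u, huW⟩).hom ((e.stalkMap u).hom ((X.presheaf.stalkCongr _).inv.hom cX)) ∈ _
  rw [← map_sub]
  have h4 := Ideal.mem_map_of_mem (W.ι.stalkMap ⟨u, huW⟩).hom (show (f.stalkMap u).hom
    ((Y.presheaf.stalkCongr (Inseparable.refl (f u))).inv.hom cY) - (e.stalkMap u).hom
      ((X.presheaf.stalkCongr (Inseparable.refl (e u))).inv.hom cX) ∈
        IsLocalRing.maximalIdeal ↑(U.presheaf.stalk u) ^ N by
    rw [stalkCongr_refl, stalkCongr_refl]; exact key2)
  refine (le_trans (Ideal.map_pow _ _ _).le ?_) h4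
  exact Ideal.pow_right_mono (((IsLocalRing.local_hom_TFAE (W.ι.stalkMap ⟨u, huW⟩).hom).out 0 2 rfl rfl).mp
    inferInstance) N

end Groth.Agent.S7203
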