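import Groth.Statements.S7204
-- import your own Groth.Agent.* helpers here

set_option autoImplicit false
universe w u
open FlatMor

namespace Groth.Agent.S7204

open AlgebraicGeometry CategoryTheory Limits in
theorem isColimit_of_fpqc {J : Type u} [SmallCategory J] (D : J ⥤ Scheme.{u}) (c : Cocone D)
    (F : PreZeroHypercover.{w} c.pt) (hF : F.presieve₀ ∈ Scheme.fpqcPrecoverage c.pt)
    (h1 : ∀ a : F.I₀, IsColimit ((Over.forgetCocone (F.X a)).whisker
      (D.toOver c.pt (fun j => c.ι.app j) (fun g => c.w g) ⋙ Over.pullback (F.f a))))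
    (h2 : ∀ a b : F.I₀, IsColimit ((Over.forgetCocone (pullback (F.f a) (F.f b))).whisker
      (D.toOver c.pt (fun j => c.ι.app j) (fun g => c.w g) ⋙ Over.pullback (pullback.fst (F.f a) (F.f b) ≫ F.f a)))) :
    Nonempty (IsColimit c) := by
  have key : ∀ s : Cocone D, ∃! m : c.pt ⟶ s.pt, ∀ j, c.ι.app j ≫ m = s.ι.app j := by
    intro s
    let Gd : F.I₀ → (J ⥤ Scheme.{u}) := fun a =>
      (D.toOver c.pt (fun j => c.ι.app j) (fun g => c.w g) ⋙ Over.pullback (F.f a)) ⋙ Over.forget _
    let sa : ∀ a, Cocone (Gd a) := fun a =>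
      { pt := s.pt
        ι :=
          { app := fun j => pullback.fst (c.ι.app j) (F.f a) ≫ s.ι.app j
            naturality := fun i j g => by
              show pullback.lift (pullback.fst (c.ι.app i) (F.f a) ≫ D.map g) (pullback.snd (c.ι.app i) (F.f a)) _ ≫
                pullback.fst (c.ι.app j) (F.f a) ≫ s.ι.app j =
                (pullback.fst (c.ι.app i) (F.f a) ≫ s.ι.app i) ≫ 𝟙 s.pt
              refine ((pullback.lift_fst_assoc _ _ _ _).trans ?_).trans (Category.comp_id _).symm
              rw [Category.assoc, s.w g] } }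
    let g : ∀ a, F.X a ⟶ s.pt := fun a => (h1 a).desc (sa a)
    have hg : ∀ a j, pullback.snd (c.ι.app j) (F.f a) ≫ g a =
        pullback.fst (c.ι.app j) (F.f a) ≫ s.ι.app j := fun a j => (h1 a).fac (sa a) j
    have hcompat : ∀ a b, pullback.fst (F.f a) (F.f b) ≫ g a = pullback.snd (F.f a) (F.f b) ≫ g b := by
      intro a b
      refine (h2 a b).hom_ext fun j => ?_
      show pullback.snd (c.ι.app j) (pullback.fst (F.f a) (F.f b) ≫ F.f a) ≫ _ =
        pullback.snd (c.ι.app j) (pullback.fst (F.f a) (F.f b) ≫ F.f a) ≫ _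
      let p := pullback.fst (c.ι.app j) (pullback.fst (F.f a) (F.f b) ≫ F.f a)
      let q := pullback.snd (c.ι.app j) (pullback.fst (F.f a) (F.f b) ≫ F.f a)
      have ea : p ≫ c.ι.app j = (q ≫ pullback.fst (F.f a) (F.f b)) ≫ F.f a :=
        pullback.condition.trans (Category.assoc _ _ _).symm
      have eb : p ≫ c.ι.app j = (q ≫ pullback.snd (F.f a) (F.f b)) ≫ F.f b := by
        rw [ea, Category.assoc, Category.assoc]
        exact congrArg (fun z => q ≫ z) pullback.condition
      have ha := congrArg (fun z => pullback.lift p (q ≫ pullback.fst (F.f a) (F.f b)) ea ≫ z) (hg a j)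
      have hb := congrArg (fun z => pullback.lift p (q ≫ pullback.snd (F.f a) (F.f b)) eb ≫ z) (hg b j)
      simp only [pullback.lift_snd_assoc, pullback.lift_fst_assoc, Category.assoc] at ha hb
      exact ha.trans hb.symm
    have hsheaf : Presieve.IsSheafFor (yoneda.obj s.pt) F.presieve₀ :=
      ((Presieve.isSheafFor_iff_generate _).2
        (GrothendieckTopology.Subcanonical.isSheaf_of_isRepresentable (J := Scheme.fpqcTopology) _
          _ (Precoverage.generate_mem_toGrothendieck hF)))
    obtain ⟨m, hm, hu⟩ := (Presieve.isSheafFor_arrows_iff _ _).1 hsheaf g (fun a b Z ga gb h => by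
      show ga ≫ g a = gb ≫ g b
      rw [← pullback.lift_fst ga gb h, Category.assoc, hcompat, pullback.lift_snd_assoc])
    refine ⟨m, fun j => ?_, fun m' hm' => hu m' fun a => (h1 a).hom_ext fun j => ?_⟩
    · let Pc : PreZeroHypercover.{w} (D.obj j) := F.pullback₁ (c.ι.app j)
      have hmem : Pc.presieve₀ ∈ Scheme.fpqcPrecoverage (D.obj j) :=
        Scheme.fpqcPrecoverage.mem_coverings_of_isPullback F.f hF (c.ι.app j) _
          (fun _ => pullback.snd _ _) fun i => IsPullback.of_hasPullback (c.ι.app j) (F.f i)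
      have hP : Presieve.IsSeparatedFor (yoneda.obj s.pt) Pc.presieve₀ :=
        ((Presieve.isSheafFor_iff_generate _).2
          (GrothendieckTopology.Subcanonical.isSheaf_of_isRepresentable (J := Scheme.fpqcTopology) _
            _ (Precoverage.generate_mem_toGrothendieck hmem))).isSeparatedFor
      refine hP.ext ?_
      rintro _ _ ⟨a⟩
      show pullback.fst (c.ι.app j) (F.f a) ≫ c.ι.app j ≫ m = pullback.fst (c.ι.app j) (F.f a) ≫ s.ι.app j
      have hma : F.f a ≫ m = g a := hm a
      rw [pullback.condition_assoc, hma]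
      exact hg a j
    · show pullback.snd (c.ι.app j) (F.f a) ≫ F.f a ≫ m' = pullback.snd (c.ι.app j) (F.f a) ≫ g a
      rw [← pullback.condition_assoc, hm', hg]
  choose m hm hu using key
  exact ⟨{ desc := m, fac := hm, uniq := hu }⟩

open AlgebraicGeometry CategoryTheory Limits in
/-- Let (X_i)_{i ∈ I} be a diagram of schemes and (W, X_i → W) a cocone under it. If there is an fpqc
covering {W_a → W} such that each W_a is the colimit (in schemes) of the base-changed diagram (X_i
×_W W_a), and each W_a ×_W W_b is the colimit of (X_i ×_W W_a ×_W W_b), then W is the colimit of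
(X_i) in the category of schemes. -/
theorem result {J : Type u} [SmallCategory J] (D : J ⥤ Scheme.{u}) (c : Cocone D)
    (F : PreZeroHypercover.{w} c.pt) (hF : F.presieve₀ ∈ Scheme.fpqcPrecoverage c.pt)
    (h1 : ∀ a : F.I₀, Nonempty (IsColimit ((Over.forgetCocone (F.X a)).whisker
      (D.toOver c.pt (fun j => c.ι.app j) (fun g => c.w g) ⋙ Over.pullback (F.f a)))))
    (h2 : ∀ a b : F.I₀, Nonempty (IsColimit ((Over.forgetCocone (pullback (F.f a) (F.f b))).whisker
      (D.toOver c.pt (fun j => c.ι.app j) (fun g => c.w g) ⋙ Over.pullback (pullback.fst (F.f a) (F.f b) ≫ F.f a))))) :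
    Nonempty (IsColimit c) := by
  exact isColimit_of_fpqc D c F hF (fun a => (h1 a).some) (fun a b => (h2 a b).some)

end Groth.Agent.S7204
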