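import Groth.Statements.S7210
import Groth.Agent.PCohD.RpushAffine
import Groth.Agent.DRing.RelPCFinite

set_option autoImplicit false
universe u
open CategoryTheory CategoryTheory.Limits AlgebraicGeometry Opposite TopologicalSpace
attribute [local instance] HasDerivedCategory.standard
open FlatMor

namespace Groth.Agent.S7210

open Groth.Agent.PCohD in
theorem P_push_iff {X Y S : Scheme.{u}} (p : X ⟶ S) (q : Y ⟶ S)
    [LocallyOfFiniteType p] [LocallyOfFiniteType q] (π : X ⟶ Y) [IsFinite π] (w : π ≫ q = p)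
    [DCoh.HasRpush π] (m : ℤ) (E : DCoh.D X) (hE : DCoh.IsQCohD E) {W : Y.Opens} (hW : IsAffineOpen W)
    {V : S.Opens} (hV : IsAffineOpen V) (h : W ≤ q ⁻¹ᵁ V) :
    P p m E (π ⁻¹ᵁ W) V ↔ P q m ((DCoh.Rpush π).obj E) W V := by
  subst w
  have hU := hW.preimage π
  have h' : π ⁻¹ᵁ W ≤ (π ≫ q) ⁻¹ᵁ V := fun x hx => h hx
  have := KFlat.TildeExact.preservesFiniteLimits_tilde Γ(X, π ⁻¹ᵁ W)
  have := KFlat.TildeExact.preservesFiniteLimits_tilde Γ(Y, W)
  obtain ⟨M, ⟨e⟩⟩ := KFlat.TildeD.exists_iso_of_isQCohD (R := Γ(X, π ⁻¹ᵁ W)) _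
    (isQCohD_pushD_isoSpec hE hU)
  obtain ⟨eR⟩ := nonempty_rpush_restrict π E hW hU M e
  rw [P_iff_isRel hU hV h' M e, P_iff_isRel hW hV h _ eR]
  let _ := (q.appLE V W h).hom.toAlgebra
  let _ := (π.app W).hom.toAlgebra
  let _ := ((π ≫ q).appLE V (π ⁻¹ᵁ W) h').hom.toAlgebra
  have : IsScalarTower Γ(S, V) Γ(Y, W) Γ(X, π ⁻¹ᵁ W) := IsScalarTower.of_algebraMap_eq fun x => by
    simp only [RingHom.algebraMap_toAlgebra, Scheme.Hom.app_eq_appLE]
    rw [← RingHom.comp_apply, ← CommRingCat.hom_comp, Scheme.Hom.appLE_comp_appLE]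
  have : Algebra.FiniteType Γ(S, V) Γ(Y, W) :=
    HasRingHomProperty.appLE @LocallyOfFiniteType q inferInstance ⟨V, hV⟩ ⟨W, hW⟩ h
  have : Module.Finite Γ(Y, W) Γ(X, π ⁻¹ᵁ W) := π.finite_app W hW
  exact DRing.RelPC.relPC_restrict_finite M m

/-- Let p : X ⟶ S and q : Y ⟶ S be locally of finite type and π : X ⟶ Y a finite morphism over S (π ≫ q
= p). Let E be an object of D(O_X) all of whose cohomology sheaves are quasi-coherent, and m an
integer. Then, Rπ_* being assumed to exist, relative m-pseudo-coherence of E with respect to p is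
equivalent to relative m-pseudo-coherence of Rπ_* E with respect to q (chart form). -/
theorem result {X Y S : Scheme.{u}} (p : X ⟶ S) (q : Y ⟶ S)
    [LocallyOfFiniteType p] [LocallyOfFiniteType q] (π : X ⟶ Y) [IsFinite π] (w : π ≫ q = p)
    [DCoh.HasRpush π] (m : ℤ) (E : DCoh.D X) (hE : DCoh.IsQCohD E) :
    DerSch.IsPseudoCoherentRel p m E ↔ DerSch.IsPseudoCoherentRel q m ((DCoh.Rpush π).obj E) := by
  constructor
  · intro h
    refine PCohD.rel_iff.2 fun W V hWV => ?_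
    exact (P_push_iff p q π w m E hE W.2 V.2 hWV).1
      (PCohD.P_of_rel h (W.2.preimage π) V.2 (by subst w; exact fun x hx => hWV hx))
  · intro h
    refine ⟨inferInstance, Set.univ, ?_, fun V _ => ?_⟩
    · exact eq_top_iff.2 fun y _ => by
        obtain ⟨W, hW, hy, -⟩ := exists_isAffineOpen_mem_and_subset (x := y) (U := ⊤) trivial
        simp only [TopologicalSpace.Opens.mem_iSup, exists_prop]
        exact ⟨⟨W, hW⟩, trivial, hy⟩
    · subst w
      refine ⟨{U | ∃ W : Y.affineOpens, (W : Y.Opens) ≤ q ⁻¹ᵁ (V : S.Opens) ∧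
        (U : X.Opens) = π ⁻¹ᵁ (W : Y.Opens)}, le_antisymm ?_ ?_, ?_⟩
      · refine iSup₂_le ?_
        rintro U ⟨W, hW, e⟩ x hx
        rw [e] at hx
        exact hW hx
      · intro x hx
        obtain ⟨W, hW, hx', hle⟩ := exists_isAffineOpen_mem_and_subset (x := π x) (U := q ⁻¹ᵁ (V : S.Opens)) hx
        simp only [TopologicalSpace.Opens.mem_iSup, exists_prop]
        exact ⟨⟨π ⁻¹ᵁ W, hW.preimage π⟩, ⟨⟨W, hW⟩, hle, rfl⟩, hx'⟩
      · rintro ⟨U, hU⟩ ⟨⟨W, hW⟩, hle, rfl : U = π ⁻¹ᵁ W⟩ h'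
        exact (PCohD.P_iff_chartPC hU h').1 ((P_push_iff (π ≫ q) q π rfl m E hE hW V.2 hle).2
          (PCohD.P_of_rel h hW V.2 hle))

end Groth.Agent.S7210
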