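import Groth.Statements.S7217
import Groth.Agent.PCohD.RelCrit

set_option autoImplicit false
universe u
open CategoryTheory CategoryTheory.Limits AlgebraicGeometry Opposite TopologicalSpace
attribute [local instance] HasDerivedCategory.standard
open FlatMor

namespace Groth.Agent.S7217

/-- Let f : X ⟶ S be a morphism of schemes, U ⊆ X and V ⊆ S affine opens with f(U) ⊆ V such that Γ(S, V)
→ Γ(X, U) is of finite type, E an object of D(O_X), m an integer, and g_1, …, g_k ∈ Γ(X, U) elements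
generating the unit ideal, so that the basic opens D(g_j) form a standard affine open covering of U.
Then the following are equivalent: for every j there is a surjection from a polynomial ring Γ(S,
V)[x_1, …, x_n] onto Γ(X, D(g_j)), compatible with f, along whose closed immersion into affine space
over V the direct image of E restricted to D(g_j) is m-pseudo-coherent; there is such a surjection
onto Γ(X, U) along whose closed immersion the direct image of E|_U is m-pseudo-coherent. -/
theorem result {X S : Scheme.{u}} (f : X ⟶ S) (U : X.affineOpens)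
    (V : S.affineOpens) (h : (U : X.Opens) ≤ f ⁻¹ᵁ (V : S.Opens))
    (hft : (f.appLE (V : S.Opens) (U : X.Opens) h).hom.FiniteType) (m : ℤ) (E : DCoh.D X)
    {k : ℕ} (g : Fin k → Γ(X, (U : X.Opens))) (hg : Ideal.span (Set.range g) = ⊤) :
    (∀ j : Fin k, ∃ (n : ℕ) (φ : MvPolynomial (Fin n) Γ(S, (V : S.Opens)) →+* Γ(X, X.basicOpen (g j))),
        DerSch.IsChart f (X.basicOpen (g j)) (V : S.Opens) ((X.basicOpen_le (g j)).trans h) φ ∧
          DerSch.ChartPC m E (X.basicOpen (g j)) (V : S.Opens) φ) ↔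
      ∃ (n : ℕ) (φ : MvPolynomial (Fin n) Γ(S, (V : S.Opens)) →+* Γ(X, (U : X.Opens))),
        DerSch.IsChart f (U : X.Opens) (V : S.Opens) h φ ∧ DerSch.ChartPC m E (U : X.Opens) (V : S.Opens) φ := by
  constructor
  · intro hj
    let _ := (f.appLE (V : S.Opens) (U : X.Opens) h).hom.toAlgebra
    have : Algebra.FiniteType Γ(S, (V : S.Opens)) Γ(X, (U : X.Opens)) := hft
    obtain ⟨n, φ₀, hφ₀⟩ := Algebra.FiniteType.iff_quotient_mvPolynomial''.1 this
    have hc : DerSch.IsChart f (U : X.Opens) (V : S.Opens) h φ₀.toRingHom :=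
      ⟨hφ₀, RingHom.ext fun r => φ₀.commutes r⟩
    refine ⟨n, φ₀.toRingHom, hc, (Groth.Agent.PCohD.chartPC_iff U.2 hc.1).2 ?_⟩
    refine Groth.Agent.PCohD.tc_of_cover U.2 _ hc.1 fun x hx => ?_
    obtain ⟨j, hxj⟩ : ∃ j, x ∈ X.basicOpen (g j) := by
      have := (U.2.iSup_basicOpen_eq_self_iff).2 hg
      rw [← this] at hx
      simp only [TopologicalSpace.Opens.mem_iSup] at hx
      obtain ⟨⟨_, ⟨j, rfl⟩⟩, hxj⟩ := hx
      exact ⟨j, hxj⟩
    obtain ⟨a, ha⟩ := hc.1 (g j)
    have hP : Groth.Agent.PCohD.P f m E (X.basicOpen (φ₀.toRingHom a)) V := by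
      rw [ha]
      exact (Groth.Agent.PCohD.P_iff_chartPC (U.2.basicOpen _) ((X.basicOpen_le _).trans h)).2 (hj j)
    obtain ⟨hf1, hf2⟩ := Groth.Agent.PCohD.flat_fp_away a
    refine ⟨a, by rw [ha]; exact hxj, ?_⟩
    obtain ⟨k, ψ, hψ, hψc⟩ := Groth.Agent.PCohD.exists_poly (R := Γ(S, (V : S.Opens)))
      (Groth.Agent.PCohD.θAway φ₀.toRingHom a) (Groth.Agent.PCohD.θAway_surjective U.2 _ hc.1 a)
    exact (Groth.Agent.PCohD.tc_iff_poly (U.2.basicOpen _) _
      (Groth.Agent.PCohD.θAway_surjective U.2 _ hc.1 a) ψ hψ hψc).2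
      (hP.tc (U.2.basicOpen _) ((X.basicOpen_le _).trans h) ψ
        ⟨hψ, hψc.trans (Groth.Agent.PCohD.θAway_algebraMap h _ hc a)⟩)
  · intro hU j
    have hP := (Groth.Agent.PCohD.P_iff_chartPC (f := f) U.2 h).2 hU
    exact (Groth.Agent.PCohD.P_iff_chartPC (U.2.basicOpen _) _).1 (hP.basic U.2 (g j))

end Groth.Agent.S7217
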