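import Groth.Statements.S7222
import Groth.Agent.FlatMor.NLComplex
import Groth.Agent.Synt44.NLAmp
import Groth.Agent.DRing.BaseChangeAmp

set_option autoImplicit false
set_option backward.isDefEq.respectTransparency.types false
universe u
open CategoryTheory CategoryTheory.Limits TensorProduct
attribute [local instance] HasDerivedCategory.standard
open FlatMor

namespace Groth.Agent.S7222

open CategoryTheory CategoryTheory.Limits in
attribute [local instance] HasDerivedCategory.standard in
/-- Extension of scalars of the complex of an extension. -/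
theorem nonempty_extCx_iso {A B B' : Type u} [CommRing A] [CommRing B] [CommRing B'] [Algebra A B]
    [ia : Algebra B B'] (φ : B →+* B') (h : φ.toAlgebra = ia) (P : Algebra.Extension.{u} A B) :
    Nonempty ((Groth.Agent.DRing.LTensor.extCx φ).obj (NLCx.cx P) ≅ NLCx.bcCx P B') := by
  subst h
  letI : Algebra B B' := φ.toAlgebra
  let F := ModuleCat.extendScalars.{u, u, u} φ
  let hobj : ∀ (M : Type u) [AddCommGroup M] [Module B M],
      F.obj (ModuleCat.of B M) ≅ ModuleCat.of B' (TensorProduct B B' M) := fun M _ _ =>
    LinearEquiv.toModuleIso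
      (show (F.obj (ModuleCat.of B M) : ModuleCat.{u} B') ≃ₗ[B'] TensorProduct B B' M from
      { toFun := fun x => x
        invFun := fun x => x
        left_inv := fun _ => rfl
        right_inv := fun _ => rfl
        map_add' := fun _ _ => rfl
        map_smul' := fun _ _ => rfl })
  let K := (Groth.Agent.DRing.LTensor.extCx φ).obj (NLCx.cx P)
  let φ₀ : ModuleCat.of B' (TensorProduct B B' P.Cotangent) ≅ K.X (-1) :=
    (hobj P.Cotangent).symm ≪≫ F.mapIso (HomologicalComplex.doubleXIso₀ _ _).symm
  let φ₁ : ModuleCat.of B' (TensorProduct B B' P.CotangentSpace) ≅ K.X 0 :=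
    (hobj P.CotangentSpace).symm ≪≫ F.mapIso (HomologicalComplex.doubleXIso₁ _ _ (by decide)).symm
  have hzero : ∀ k : ℤ, k ≠ -1 → k ≠ 0 → IsZero (K.X k) := fun k h0 h1 =>
    F.map_isZero (HomologicalComplex.isZero_double_X _ _ k h0 h1)
  let ψ : NLCx.bcCx P B' ⟶ K := HomologicalComplex.mkHomFromDouble _ (by decide) φ₀.hom φ₁.hom
    (by
      have hd : K.d (-1) 0 = F.map (HomologicalComplex.doubleXIso₀ (ModuleCat.ofHom P.cotangentComplex) _).hom ≫
          F.map (ModuleCat.ofHom P.cotangentComplex) ≫
          F.map (HomologicalComplex.doubleXIso₁ (ModuleCat.ofHom P.cotangentComplex) _ (by decide)).inv :=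
        ((congrArg F.map (HomologicalComplex.double_d _ _ (by decide))).trans (F.map_comp _ _)).trans
          (congrArg (fun t => F.map _ ≫ t) (F.map_comp _ _))
      rw [hd]
      simp only [φ₀, φ₁, Iso.trans_hom, Functor.mapIso_hom, Iso.symm_hom, Category.assoc]
      erw [← F.map_comp_assoc, Iso.inv_hom_id, F.map_id, Category.id_comp])
    (fun k hk => (hzero k (by change 0 + 1 = k at hk; omega) (by change 0 + 1 = k at hk; omega)).eq_of_tgt _ _)
  have : ∀ i, IsIso (ψ.f i) := fun i => by
    by_cases h0 : i = -1
    · subst h0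
      simp only [ψ, HomologicalComplex.mkHomFromDouble_f₀]
      exact @IsIso.comp_isIso _ _ _ _ _ _ _ (Iso.isIso_hom _) (Iso.isIso_hom _)
    by_cases h1 : i = 0
    · subst h1
      simp only [ψ, HomologicalComplex.mkHomFromDouble_f₁]
      exact @IsIso.comp_isIso _ _ _ _ _ _ _ (Iso.isIso_hom _) (Iso.isIso_hom _)
    exact (HomologicalComplex.isZero_double_X _ _ i h0 h1).isIso (hzero i h0 h1) _
  have := HomologicalComplex.Hom.isIso_of_components ψ
  exact ⟨(asIso ψ).symm⟩

/-- Let A → B and A → A' be ring homomorphisms and B' an algebra over A' and over B making the square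
cocartesian, B' = B ⊗_A A'. If B is flat over A, then the canonical chain map NL_{B/A} ⊗_B B' →
NL_{B'/A'} (for the presentations by the polynomial algebras on all elements) is a
quasi-isomorphism. If moreover NL_{B/A} has tor-amplitude in [-1, 0], then, the derived base change
functor along B → B' being assumed to exist, NL_{B/A} ⊗^L_B B' is isomorphic to NL_{B'/A'} in D(B')
(existence of an isomorphism only: the derived comparison map is not named here). -/
theorem result (A B A' B' : Type u) [CommRing A] [CommRing B]
    [CommRing A'] [CommRing B'] [Algebra A B] [Algebra A' B'] [Algebra A A'] [Algebra B B'] [Algebra A B']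
    [IsScalarTower A A' B'] [IsScalarTower A B B'] [Algebra.IsPushout A A' B B'] [Module.Flat A B] :
    QuasiIso (NLCx.bcMapSelf A B A' B') ∧
      (DRing.HasTorAmplitudeIn B (-1) 0 (LCI.NL A B) → ∀ [DRing.HasLBaseChange (algebraMap B B')],
        Nonempty ((DRing.LBaseChange (algebraMap B B')).obj (LCI.NL A B) ≅ LCI.NL A' B')) := by
  obtain ⟨e, he⟩ := Groth.Agent.NLBC.exists_homotopyEquiv_self (R := A) (S := B) (R' := A') (S' := B')
    (Groth.Agent.NLBC.lTensor_ker_injective_of_flat_quotient _)
  have hq : QuasiIso (NLCx.bcMapSelf A B A' B') := he ▸ inferInstance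
  refine ⟨hq, ?_⟩
  intro hT _
  let P := (Algebra.Generators.self A B).toExtension
  have hN : Module.Flat B P.CotangentSpace := inferInstance
  have hM : Module.Flat B P.Cotangent :=
    Groth.Agent.Synt44.NLAmp.flat_of_hasTorAmp_double (ModuleCat.ofHom P.cotangentComplex) _ hN hT
  have hK : Groth.Agent.DRing.KFlat.IsKFlat (NLCx.cx P) :=
    Groth.Agent.DRing.TorAmp.isKFlat_of_flat (Groth.Agent.Synt44.NLAmp.vanishesOutside_double _ _)
      (Groth.Agent.Synt44.NLAmp.termwise_double _ _ (fun X => Module.Flat B X)
        (fun e hY => have := hY; Module.Flat.of_linearEquiv e.toLinearEquiv) hM hN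
        (fun X hX => have := ModuleCat.subsingleton_of_isZero hX; inferInstance))
  obtain ⟨i⟩ := nonempty_extCx_iso (ia := ‹Algebra B B'›) (algebraMap B B') (Algebra.algebra_ext _ _ fun _ => rfl) P
  have : IsIso (DerivedCategory.Q.map (NLCx.bcMapSelf A B A' B')) :=
    (DerivedCategory.isIso_Q_map_iff_quasiIso (C := ModuleCat.{u} B') _).2 hq
  exact ⟨(Groth.Agent.DRing.Perfect.baseChangeIsoOfRep (algebraMap B B') hK (Iso.refl _)).symm ≪≫
    DerivedCategory.Q.mapIso i ≪≫ @asIso _ _ _ _ (DerivedCategory.Q.map (NLCx.bcMapSelf A B A' B')) this⟩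

end Groth.Agent.S7222
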