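import Groth.Statements.S7223
import Groth.Agent.FlatMor.NLComplex
import Groth.Agent.Synt44.NLAmp

set_option autoImplicit false
universe u
open CategoryTheory CategoryTheory.Limits TensorProduct
attribute [local instance] HasDerivedCategory.standard
open FlatMor

namespace Groth.Agent.S7223

open TensorProduct Algebra.Extension

variable {R S R' S' : Type u} [CommRing R] [CommRing S] [CommRing R'] [CommRing S'] [Algebra R S]
  [Algebra R' S'] [Algebra R R'] [Algebra S S'] [Algebra R S'] [IsScalarTower R R' S'] [IsScalarTower R S S']

theorem bc_comp {P Q : Algebra.Extension.{u} R S} {P' : Algebra.Extension.{u} R' S'} (p : P.Hom Q)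
    (h : Q.Hom P') (x : S' ⊗[S] P.Cotangent) :
    LinearMap.liftBaseChange S' (Cotangent.map (h.comp p)) x =
      LinearMap.liftBaseChange S' (Cotangent.map h) ((Cotangent.map p).baseChange S' x) := by
  induction x with
  | zero => simp
  | tmul s c => simp [Cotangent.map_comp]
  | add a b ha hb => simp only [map_add, ha, hb]

theorem comp_bc {P : Algebra.Extension.{u} R S} {P' P'' : Algebra.Extension.{u} R' S'} (h : P.Hom P')
    (k : P'.Hom P'') (x : S' ⊗[S] P.Cotangent) :
    LinearMap.liftBaseChange S' (Cotangent.map (k.comp h)) x =
      Cotangent.map k (LinearMap.liftBaseChange S' (Cotangent.map h) x) := by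
  induction x with
  | zero => simp
  | tmul s c => simp [Cotangent.map_comp]
  | add a b ha hb => simp only [map_add, ha, hb]

theorem bc_cotangentComplex {P Q : Algebra.Extension.{u} R S} (p : P.Hom Q) (x : S' ⊗[S] P.Cotangent) :
    Q.cotangentComplex.baseChange S' ((Cotangent.map p).baseChange S' x) =
      (CotangentSpace.map p).baseChange S' (P.cotangentComplex.baseChange S' x) := by
  induction x with
  | zero => simp
  | tmul s c => simp [CotangentSpace.map_cotangentComplex]
  | add a b ha hb => simp only [map_add, ha, hb]

theorem bc_eq_self {P : Algebra.Extension.{u} R S} (p : P.Hom P) (x : S' ⊗[S] P.Cotangent)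
    (hx : P.cotangentComplex.baseChange S' x = 0) : (Cotangent.map p).baseChange S' x = x := by
  have key : ∀ y, (Cotangent.map p).baseChange S' y - y =
      ((p.sub (Algebra.Extension.Hom.id P)).baseChange S') (P.cotangentComplex.baseChange S' y) := fun y => by
    induction y with
    | zero => simp
    | tmul s c =>
      have h := LinearMap.congr_fun (Cotangent.map_sub_map p (Algebra.Extension.Hom.id P)) c
      simp only [LinearMap.sub_apply, Cotangent.map_id, LinearMap.id_apply, LinearMap.comp_apply] at h
      simp only [LinearMap.baseChange_tmul, ← TensorProduct.tmul_sub, h]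
    | add a b ha hb => simp only [map_add, ← ha, ← hb]; abel
  have := key x
  rw [hx, map_zero, sub_eq_zero] at this
  exact this

theorem bcH1Map_apply_eq {P : Algebra.Extension.{u} R S} {P' : Algebra.Extension.{u} R' S'}
    (f g : P.Hom P') (x : S' ⊗[S] P.Cotangent) (hx : P.cotangentComplex.baseChange S' x = 0) :
    LinearMap.liftBaseChange S' (Cotangent.map f) x = LinearMap.liftBaseChange S' (Cotangent.map g) x :=
  congrArg (fun φ => ((φ : NLCx.bcH1 P S' →ₗ[S'] P'.H1Cotangent) ⟨x, hx⟩).1) (NLBC.bcH1Map_eq f g)

/-- A presentation of an l.c.i. algebra with finitely many variables has finite projective conormal module. -/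
theorem finite_projective_cotangent {A B : Type u} [CommRing A] [CommRing B] [Algebra A B]
    (h : LCI.IsLCI A B) {ι : Type u} [Finite ι] (G : Algebra.Generators A B ι) :
    Module.Finite B G.toExtension.Cotangent ∧ Module.Projective B G.toExtension.Cotangent := by
  have := Synt44.finitePresentation_of_isLCI h
  obtain ⟨-, n, f, hf, hker⟩ := h
  obtain ⟨G₀, hG⟩ := Synt44.NLAmp.exists_generators f hf
  have hP₀ : Module.Projective B G₀.toExtension.Cotangent :=
    Synt44.projective_extension_cotangent G₀.toExtension (by change LCI.IsKoszulRegularIdeal G₀.ker; rw [hG]; exact hker)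
  have := Module.Free.of_basis G.cotangentSpaceBasis
  have hfin : Module.Finite B G.toExtension.Cotangent :=
    Algebra.Extension.Cotangent.finite (P := G.toExtension) G.fg_ker_of_finitePresentation
  let a := (G.defaultHom G₀).toExtensionHom
  let b := (G₀.defaultHom G).toExtensionHom
  let i : G.toExtension.Cotangent →ₗ[B] G₀.toExtension.Cotangent × G.toExtension.CotangentSpace :=
    (Cotangent.map a).prod G.toExtension.cotangentComplex
  let r : G₀.toExtension.Cotangent × G.toExtension.CotangentSpace →ₗ[B] G.toExtension.Cotangent :=
    (Cotangent.map b).coprod ((Algebra.Extension.Hom.id G.toExtension).sub (b.comp a))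
  refine ⟨hfin, Module.Projective.of_split i r (LinearMap.ext fun x => ?_)⟩
  have h := LinearMap.congr_fun (Cotangent.map_sub_map (Algebra.Extension.Hom.id G.toExtension) (b.comp a)) x
  simp only [LinearMap.sub_apply, Cotangent.map_id, LinearMap.id_apply, LinearMap.comp_apply] at h
  have hc : Cotangent.map (b.comp a) x = Cotangent.map b (Cotangent.map a x) := by
    simp [Cotangent.map_comp]
  change Cotangent.map b (Cotangent.map a x) +
    ((Algebra.Extension.Hom.id G.toExtension).sub (b.comp a)) (G.toExtension.cotangentComplex x) = x
  rw [← h, hc]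
  abel

/-- Let A → B and A → A' be ring homomorphisms and B' an algebra over A' and over B making the square
cocartesian, B' = B ⊗_A A'. If A → B and A' → B' are both local complete intersection homomorphisms
(of finite type, with Koszul-regular kernel for a polynomial presentation), then the kernel of the
canonical map H^{-1}(NL_{B/A} ⊗_B B') → H^{-1}(NL_{B'/A'}) (presentations on all elements) is a
finite projective B'-module. -/
theorem result (A B A' B' : Type u) [CommRing A] [CommRing B]
    [CommRing A'] [CommRing B'] [Algebra A B] [Algebra A' B'] [Algebra A A'] [Algebra B B'] [Algebra A B']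
    [IsScalarTower A A' B'] [IsScalarTower A B B'] [Algebra.IsPushout A A' B B']
    (hB : LCI.IsLCI A B) (hB' : LCI.IsLCI A' B') :
    Module.Finite B' (LinearMap.ker (NLCx.bcH1Map
        ((Algebra.Generators.self A B).defaultHom (Algebra.Generators.self A' B')).toExtensionHom)) ∧
      Module.Projective B' (LinearMap.ker (NLCx.bcH1Map
        ((Algebra.Generators.self A B).defaultHom (Algebra.Generators.self A' B')).toExtensionHom)) := by
  haveI := Synt44.finitePresentation_of_isLCI hB
  obtain ⟨-, n, f, hf, -⟩ := id hB
  have hval : Function.Surjective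
      (MvPolynomial.aeval (R := A) (fun i : ULift.{u} (Fin n) => f (MvPolynomial.X i.down))) := by
    intro b
    obtain ⟨x, rfl⟩ := hf b
    refine ⟨MvPolynomial.rename ULift.up x, ?_⟩
    rw [MvPolynomial.aeval_rename]
    exact AlgHom.congr_fun (MvPolynomial.algHom_ext fun i => by simp) x
  let G := Algebra.Generators.ofSurjective _ hval
  let G' : Algebra.Generators A' B' (ULift.{u} (Fin n)) :=
    Algebra.Generators.ofSurjective (fun i => algebraMap B B' (G.val i)) (NLBC.aeval_surjective_of_isPushout G)
  have h : ∀ i, G'.val i = algebraMap B B' (G.val i) := fun i => rfl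
  let T := Algebra.Generators.self A B
  let T' := Algebra.Generators.self A' B'
  let f₁ := (NLCx.sameVarsHom G G' h).toExtensionHom
  let f₀ := (T.defaultHom T').toExtensionHom
  let α := (T.defaultHom G).toExtensionHom
  let β := (G.defaultHom T).toExtensionHom
  let k := (G'.defaultHom T').toExtensionHom
  let k' := (T'.defaultHom G').toExtensionHom
  let Φ := LinearMap.liftBaseChange B' (Algebra.Extension.Cotangent.map f₁)
  obtain ⟨hfin₁, hproj₁⟩ := finite_projective_cotangent hB G
  obtain ⟨hfin₂, hproj₂⟩ := finite_projective_cotangent hB' G'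
  have hsurj : Function.Surjective Φ := NLBC.surjective_cotangent G G' h
  obtain ⟨σ, hσ⟩ := Module.projective_lifting_property Φ LinearMap.id hsurj
  let π : B' ⊗[B] G.toExtension.Cotangent →ₗ[B'] LinearMap.ker Φ :=
    (LinearMap.id - σ ∘ₗ Φ).codRestrict (LinearMap.ker Φ) fun x => by
      have := LinearMap.congr_fun hσ (Φ x)
      simp only [LinearMap.comp_apply, LinearMap.id_apply] at this
      simp [this]
  have hπ : π ∘ₗ (LinearMap.ker Φ).subtype = LinearMap.id := LinearMap.ext fun x => Subtype.ext (by
    have := x.2
    simp only [LinearMap.mem_ker] at this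
    simp [π, this])
  haveI : Module.Projective B' (LinearMap.ker Φ) := Module.Projective.of_split _ π hπ
  haveI : Module.Finite B' (LinearMap.ker Φ) := Module.Finite.of_surjective π
    (fun x => ⟨x.1, LinearMap.congr_fun hπ x⟩)
  have hd : ∀ y : LinearMap.ker Φ, G.toExtension.cotangentComplex.baseChange B' y.1 = 0 := fun y => by
    apply (NLBC.bijective_cotangentSpace G G' h).1
    rw [map_zero]
    have key : G'.toExtension.cotangentComplex ∘ₗ Φ =
        LinearMap.liftBaseChange B' (Algebra.Extension.CotangentSpace.map f₁) ∘ₗ
          G.toExtension.cotangentComplex.baseChange B' := by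
      ext z
      simpa [Φ] using (Algebra.Extension.CotangentSpace.map_cotangentComplex f₁ z).symm
    have h2 := congr($key y.1)
    simp only [LinearMap.comp_apply, LinearMap.mem_ker.1 y.2, map_zero] at h2
    exact h2.symm
  let fwd : LinearMap.ker (NLCx.bcH1Map f₀) →ₗ[B'] LinearMap.ker Φ :=
    LinearMap.codRestrict (LinearMap.ker Φ) (((Algebra.Extension.Cotangent.map α).baseChange B') ∘ₗ
      (NLCx.bcH1 T.toExtension B').subtype ∘ₗ (LinearMap.ker (NLCx.bcH1Map f₀)).subtype) fun x => by
      rw [LinearMap.mem_ker]
      change Φ ((Algebra.Extension.Cotangent.map α).baseChange B' x.1.1) = 0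
      rw [← bc_comp, bcH1Map_apply_eq _ (k'.comp f₀) _ x.1.2, comp_bc,
        show LinearMap.liftBaseChange B' (Algebra.Extension.Cotangent.map f₀) x.1.1 = 0 from congrArg Subtype.val x.2,
        map_zero]
  let inv : LinearMap.ker Φ →ₗ[B'] LinearMap.ker (NLCx.bcH1Map f₀) :=
    LinearMap.codRestrict _ (LinearMap.codRestrict (NLCx.bcH1 T.toExtension B')
      (((Algebra.Extension.Cotangent.map β).baseChange B') ∘ₗ (LinearMap.ker Φ).subtype) fun y => by
        show T.toExtension.cotangentComplex.baseChange B' _ = 0
        rw [LinearMap.comp_apply, bc_cotangentComplex]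
        exact (congrArg _ (hd y)).trans (map_zero _)) fun y => by
      refine LinearMap.mem_ker.2 (Subtype.ext ?_)
      change LinearMap.liftBaseChange B' (Algebra.Extension.Cotangent.map f₀)
        ((Algebra.Extension.Cotangent.map β).baseChange B' y.1) = 0
      rw [← bc_comp, bcH1Map_apply_eq _ (k.comp f₁) _ (hd y), comp_bc]
      exact (congrArg _ (LinearMap.mem_ker.1 y.2)).trans (map_zero _)
  let e : LinearMap.ker (NLCx.bcH1Map f₀) ≃ₗ[B'] LinearMap.ker Φ :=
    LinearEquiv.ofLinear fwd inv
      (LinearMap.ext fun y => Subtype.ext (by
        change (Algebra.Extension.Cotangent.map α).baseChange B' ((Algebra.Extension.Cotangent.map β).baseChange B' y.1) = y.1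
        rw [← LinearMap.comp_apply, ← LinearMap.baseChange_comp,
          show Algebra.Extension.Cotangent.map α ∘ₗ Algebra.Extension.Cotangent.map β =
            Algebra.Extension.Cotangent.map (α.comp β) from LinearMap.ext fun c => by simp [Algebra.Extension.Cotangent.map_comp]]
        exact bc_eq_self _ _ (hd y)))
      (LinearMap.ext fun x => Subtype.ext (Subtype.ext (by
        change (Algebra.Extension.Cotangent.map β).baseChange B' ((Algebra.Extension.Cotangent.map α).baseChange B' x.1.1) = x.1.1
        rw [← LinearMap.comp_apply, ← LinearMap.baseChange_comp,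
          show Algebra.Extension.Cotangent.map β ∘ₗ Algebra.Extension.Cotangent.map α =
            Algebra.Extension.Cotangent.map (β.comp α) from LinearMap.ext fun c => by simp [Algebra.Extension.Cotangent.map_comp]]
        exact bc_eq_self _ _ x.1.2)))
  exact ⟨Module.Finite.equiv e.symm, Module.Projective.of_equiv e.symm⟩

end Groth.Agent.S7223
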