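import Groth.Statements.S7225
import Groth.Agent.FlatMor.NLComplex

set_option autoImplicit false
universe u
open CategoryTheory CategoryTheory.Limits TensorProduct
attribute [local instance] HasDerivedCategory.standard
open FlatMor

namespace Groth.Agent.S7225

/-- Let A be a ring, M a submonoid of A, A' a localization of A at M and B an A'-algebra, viewed also as
an A-algebra. Let G be a presentation of B over A by a polynomial algebra and G' the presentation of
B over A' with the same generators (G'(i) = G(i), written through the identity algebra map of B).
Then the canonical chain map NL(G) → NL(G') from the naive cotangent complex of the presentation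
over A to that of the presentation over A' is an isomorphism of complexes (so that NL_{B/A} →
NL_{B/A'} is a homotopy equivalence). -/
theorem result (A A' B : Type u) [CommRing A] [CommRing A'] [CommRing B]
    [Algebra A A'] (M : Submonoid A) [IsLocalization M A'] [Algebra A' B] [Algebra A B] [IsScalarTower A A' B]
    {ι : Type u} (G : Algebra.Generators A B ι) (G' : Algebra.Generators A' B ι) (h : ∀ i, G'.val i = algebraMap B B (G.val i)) :
    IsIso (NLCx.map (NLCx.sameVarsHom (S' := B) G G' h).toExtensionHom) := by
  have : Module.Flat A A' := IsLocalization.flat A' M
  have : IsLocalization (Algebra.algebraMapSubmonoid B M) B := by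
    refine IsLocalization.self ?_
    rintro _ ⟨m, hm, rfl⟩
    rw [IsUnit.mem_submonoid_iff, IsScalarTower.algebraMap_apply A A' B]
    exact (IsLocalization.map_units A' ⟨m, hm⟩).map _
  have : Algebra.IsPushout A A' B B := (Algebra.isPushout_of_isLocalization M A' B B).symm
  let f := (NLCx.sameVarsHom (S' := B) G G' h).toExtensionHom
  have hc : Function.Bijective (Algebra.Extension.Cotangent.map f) := by
    have h1 := Groth.Agent.NLBC.bijective_cotangent G G' h
      (Groth.Agent.NLBC.lTensor_ker_injective_of_flat_base G)
    have h2 := h1.comp (TensorProduct.lid B G.toExtension.Cotangent).symm.bijective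
    convert h2 using 1
    ext x
    simp [f]
  have hs : Function.Bijective (Algebra.Extension.CotangentSpace.map f) := by
    have h1 := Groth.Agent.NLBC.bijective_cotangentSpace G G' h
    have h2 := h1.comp (TensorProduct.lid B G.toExtension.CotangentSpace).symm.bijective
    convert h2 using 1
    ext x
    simp [f]
  have := (ConcreteCategory.isIso_iff_bijective
    (ModuleCat.ofHom (Algebra.Extension.Cotangent.map f))).mpr hc
  have := (ConcreteCategory.isIso_iff_bijective
    (ModuleCat.ofHom (Algebra.Extension.CotangentSpace.map f))).mpr hs
  refine Groth.Agent.NLBC.isIso_double _ ?_ ?_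
  · rw [Groth.Agent.NLBC.map_f₀]; infer_instance
  · rw [Groth.Agent.NLBC.map_f₁]; infer_instance

end Groth.Agent.S7225
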