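import Groth.Statements.S7226
import Groth.Agent.PCohD.RelCrit

set_option autoImplicit false
universe u
open CategoryTheory CategoryTheory.Limits AlgebraicGeometry Opposite TopologicalSpace
attribute [local instance] HasDerivedCategory.standard
open FlatMor

namespace Groth.Agent.S7226

open Groth.Agent.PCohD in
theorem P_comp_iff {X T S : Scheme.{u}} (a : X ⟶ T) (b : T ⟶ S) [LocallyOfFiniteType a] [Flat b]
    [LocallyOfFinitePresentation b] (m : ℤ) (E : DCoh.D X) {U : X.Opens} (hU : IsAffineOpen U)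
    {W : T.Opens} (hW : IsAffineOpen W) {V : S.Opens} (hV : IsAffineOpen V) (hWV : W ≤ b ⁻¹ᵁ V)
    (hUW : U ≤ a ⁻¹ᵁ W) : P a m E U W ↔ P (a ≫ b) m E U V := by
  have hUV : U ≤ (a ≫ b) ⁻¹ᵁ V := fun x hx => hWV (hUW hx)
  have hcomp : (a.appLE W U hUW).hom.comp (b.appLE V W hWV).hom = ((a ≫ b).appLE V U hUV).hom := by
    rw [← CommRingCat.hom_comp, Scheme.Hom.appLE_comp_appLE]
  let _ := (b.appLE V W hWV).hom.toAlgebra
  have : Module.Flat Γ(S, V) Γ(T, W) :=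
    HasRingHomProperty.appLE @Flat b inferInstance ⟨V, hV⟩ ⟨W, hW⟩ hWV
  have : Algebra.FinitePresentation Γ(S, V) Γ(T, W) :=
    HasRingHomProperty.appLE @LocallyOfFinitePresentation b inferInstance ⟨V, hV⟩ ⟨W, hW⟩ hWV
  have key : ∀ (n : ℕ) (φ : MvPolynomial (Fin n) Γ(T, W) →+* Γ(X, U)),
      φ.comp MvPolynomial.C = (a.appLE W U hUW).hom →
        φ.comp (algebraMap Γ(S, V) (MvPolynomial (Fin n) Γ(T, W))) = ((a ≫ b).appLE V U hUV).hom := by
    intro n φ hc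
    rw [IsScalarTower.algebraMap_eq Γ(S, V) Γ(T, W), MvPolynomial.algebraMap_eq, ← RingHom.comp_assoc,
      hc, RingHom.algebraMap_toAlgebra, hcomp]
  constructor
  · rintro ⟨_, n, φ, hc, ht⟩
    have : Module.Flat Γ(S, V) (MvPolynomial (Fin n) Γ(T, W)) :=
      Module.Flat.trans Γ(S, V) Γ(T, W) _
    have : Algebra.FinitePresentation Γ(S, V) (MvPolynomial (Fin n) Γ(T, W)) :=
      Algebra.FinitePresentation.trans Γ(S, V) Γ(T, W) _
    exact P_of_tc hU hUV φ hc.1 (key n φ hc.2) ht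
  · intro hP
    obtain ⟨n, φ, hc⟩ := exists_chart hU hW hUW
    have : Module.Flat Γ(S, V) (MvPolynomial (Fin n) Γ(T, W)) :=
      Module.Flat.trans Γ(S, V) Γ(T, W) _
    have : Algebra.FinitePresentation Γ(S, V) (MvPolynomial (Fin n) Γ(T, W)) :=
      Algebra.FinitePresentation.trans Γ(S, V) Γ(T, W) _
    obtain ⟨k, ψ, hψ, hψc⟩ := exists_poly (R := Γ(S, V)) φ hc.1
    exact ⟨hUW, n, φ, hc, (tc_iff_poly hU φ hc.1 ψ hψ hψc).2
      (hP.tc hU hUV ψ ⟨hψ, hψc.trans (key n φ hc.2)⟩)⟩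

/-- Suppose a : X ⟶ T is locally of finite type, and b : T ⟶ S is a flat morphism that is locally of
finite presentation. Fix an integer m and an object E in D(O_X). Then m-pseudo-coherence of E
relative to a holds exactly when E is m-pseudo-coherent relative to the composite a ≫ b : X ⟶ S
(relative pseudo-coherence in chart form). -/
theorem result {X T S : Scheme.{u}}
    (a : X ⟶ T) (b : T ⟶ S) [LocallyOfFiniteType a] [Flat b] [LocallyOfFinitePresentation b]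
    (m : ℤ) (E : DCoh.D X) :
    DerSch.IsPseudoCoherentRel (a ≫ b) m E ↔ DerSch.IsPseudoCoherentRel a m E := by
  rw [PCohD.rel_iff, PCohD.rel_iff]
  constructor
  · intro h U W hUW
    refine PCohD.P_of_cover U.2 W.2 hUW fun x hx => ?_
    obtain ⟨V, hV, hxV, -⟩ := exists_isAffineOpen_mem_and_subset (x := b (a x)) (U := ⊤) trivial
    have hxW : a x ∈ (W : T.Opens) := hUW hx
    obtain ⟨r, hr, hxr⟩ := W.2.exists_basicOpen_le (V := b ⁻¹ᵁ V) ⟨a x, hxV⟩ hxW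
    obtain ⟨g, hg, hxg⟩ := U.2.exists_basicOpen_le (V := a ⁻¹ᵁ T.basicOpen r) ⟨x, hxr⟩ hx
    exact ⟨g, hxg, (PCohD.P_basicOpen_base (U.2.basicOpen g) W.2 r hg).1
      ((P_comp_iff a b m E (U.2.basicOpen g) (W.2.basicOpen r) hV hr hg).2
        (h ⟨_, U.2.basicOpen g⟩ ⟨V, hV⟩ fun y hy => hr (hg hy)))⟩
  · intro h U V hUV
    refine PCohD.P_of_cover U.2 V.2 hUV fun x hx => ?_
    obtain ⟨W, hW, hxW, hWV⟩ := exists_isAffineOpen_mem_and_subset (x := a x)
      (U := b ⁻¹ᵁ (V : S.Opens)) (hUV hx)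
    obtain ⟨g, hg, hxg⟩ := U.2.exists_basicOpen_le (V := a ⁻¹ᵁ W) ⟨x, hxW⟩ hx
    exact ⟨g, hxg, (P_comp_iff a b m E (U.2.basicOpen g) hW V.2 hWV hg).1
      (h ⟨_, U.2.basicOpen g⟩ ⟨W, hW⟩ hg)⟩

end Groth.Agent.S7226
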