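import Groth.Statements.S7227
import Groth.Agent.PCohD.RelLpull
import Groth.Agent.PCohD.RelDescentC
import Groth.Agent.DiagRig.FppfTwConst

set_option autoImplicit false
universe u
open CategoryTheory CategoryTheory.Limits AlgebraicGeometry Opposite TopologicalSpace
attribute [local instance] HasDerivedCategory.standard
open FlatMor

namespace Groth.Agent.S7227

open Groth.Agent.PCohD in
theorem P_lpull {X Y S : Scheme.{u}} (p : X ⟶ S) [LocallyOfFiniteType p] (g : Y ⟶ X) [Flat g]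
    [LocallyOfFinitePresentation g] [DCoh.HasLpull g] (m : ℤ) (E : DCoh.D X) (hE : DCoh.IsQCohD E)
    {V : S.Opens} (hV : IsAffineOpen V) {W : X.Opens} (hW : IsAffineOpen W) (hWV : W ≤ p ⁻¹ᵁ V)
    {U : Y.Opens} (hU : IsAffineOpen U) (hUW : U ≤ g ⁻¹ᵁ W) (h : P p m E W V) :
    P (g ≫ p) m ((DCoh.Lpull g).obj E) U V := by
  have hUV : U ≤ (g ≫ p) ⁻¹ᵁ V := fun y hy => hWV (hUW hy)
  have := KFlat.TildeExact.preservesFiniteLimits_tilde Γ(X, W)
  have := KFlat.TildeExact.preservesFiniteLimits_tilde Γ(Y, U)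
  obtain ⟨M, ⟨e⟩⟩ := KFlat.TildeD.exists_iso_of_isQCohD (R := Γ(X, W)) _ (isQCohD_pushD_isoSpec hE hW)
  let _ := (p.appLE V W hWV).hom.toAlgebra
  let _ := (g.appLE W U hUW).hom.toAlgebra
  let _ := ((g ≫ p).appLE V U hUV).hom.toAlgebra
  have : IsScalarTower Γ(S, V) Γ(X, W) Γ(Y, U) := IsScalarTower.of_algebraMap_eq fun x => by
    simp only [RingHom.algebraMap_toAlgebra]
    rw [← RingHom.comp_apply, ← CommRingCat.hom_comp, Scheme.Hom.appLE_comp_appLE]
  have : Algebra.FiniteType Γ(S, V) Γ(X, W) := p.finiteType_appLE hV hW hWV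
  have : Module.Flat Γ(X, W) Γ(Y, U) := g.flat_appLE hW hU hUW
  have : Algebra.FinitePresentation Γ(X, W) Γ(Y, U) := g.finitePresentation_appLE hW hU hUW
  have := DRing.LTensor.hasLBaseChange (g.appLE W U hUW).hom
  have := DRing.LTensor.hasLBaseChange (algebraMap Γ(X, W) Γ(Y, U))
  obtain ⟨e'⟩ := nonempty_sections_lpull g E hW hU hUW M e
  exact (P_iff_isRel hU hV hUV _ e').2
    (DRing.RelPC.isRel_baseChange (RelDescent.isRelAll_of_flat_fp _ _) M ((P_iff_isRel hW hV hWV M e).1 h))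

open Groth.Agent.PCohD in
theorem locRel_of_P {X Y S : Scheme.{u}} (p : X ⟶ S) [LocallyOfFiniteType p] (g : Y ⟶ X) [Flat g]
    [LocallyOfFinitePresentation g] [DCoh.HasLpull g] (m : ℤ) (E : DCoh.D X)
    {V : S.Opens} (hV : IsAffineOpen V) {W : X.Opens} (hW : IsAffineOpen W) (hWV : W ≤ p ⁻¹ᵁ V)
    [PreservesFiniteLimits (tilde.functor Γ(X, W))] (M : Dual.D Γ(X, W))
    (e : (DCoh.tildeD Γ(X, W)).obj M ≅ (pushD hW.isoSpec.hom).obj ((DCoh.restrictD W.ι).obj E))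
    (hrel : DerSch.IsPseudoCoherentRel (g ≫ p) m ((DCoh.Lpull g).obj E)) (x : X) (hxW : x ∈ W)
    (hx : x ∈ Set.range g.base) :
    letI := (p.appLE V W hWV).hom.toAlgebra
    RelDescent.LocRel Γ(S, V) m M (hW.primeIdealOf ⟨x, hxW⟩) := by
  let _ := (p.appLE V W hWV).hom.toAlgebra
  obtain ⟨Z, j, z, h1, h2, h3, hz⟩ := DiagRig.exists_qf_slice g x hx
  obtain ⟨U, hU, hzU, hUW⟩ := exists_isAffineOpen_mem_and_subset (x := j z) (U := g ⁻¹ᵁ W)
    (show g (j z) ∈ W by rw [← Scheme.Hom.comp_apply]; exact hz.symm ▸ hxW)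
  obtain ⟨U', hU', hzU', hU'U⟩ := exists_isAffineOpen_mem_and_subset (x := z) (U := j ⁻¹ᵁ U) hzU
  have hU'W : U' ≤ (j ≫ g) ⁻¹ᵁ W := fun y hy => hUW (hU'U hy)
  have hUV : U ≤ (g ≫ p) ⁻¹ᵁ V := fun y hy => hWV (hUW hy)
  let A := Γ(X, W)
  let B := Γ(Y, U)
  let B' := Γ(Z, U')
  let _ : Algebra Γ(X, W) Γ(Y, U) := (g.appLE W U hUW).hom.toAlgebra
  let _ : Algebra Γ(X, W) Γ(Z, U') := ((j ≫ g).appLE W U' hU'W).hom.toAlgebra
  let _ : Algebra Γ(Y, U) Γ(Z, U') := (j.appLE U U' hU'U).hom.toAlgebra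
  let _ : Algebra Γ(S, V) Γ(Y, U) := ((g ≫ p).appLE V U hUV).hom.toAlgebra
  let _ : Algebra Γ(S, V) Γ(Z, U') :=
    ((algebraMap Γ(X, W) Γ(Z, U')).comp (algebraMap Γ(S, V) Γ(X, W))).toAlgebra
  have : IsScalarTower Γ(S, V) Γ(X, W) Γ(Y, U) := IsScalarTower.of_algebraMap_eq fun r => by
    simp only [RingHom.algebraMap_toAlgebra]
    rw [← RingHom.comp_apply, ← CommRingCat.hom_comp, Scheme.Hom.appLE_comp_appLE]
  have : IsScalarTower Γ(S, V) Γ(X, W) Γ(Z, U') := IsScalarTower.of_algebraMap_eq fun _ => rfl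
  have hXYZ : IsScalarTower Γ(X, W) Γ(Y, U) Γ(Z, U') := IsScalarTower.of_algebraMap_eq fun r => by
    simp only [RingHom.algebraMap_toAlgebra]
    rw [← RingHom.comp_apply, ← CommRingCat.hom_comp, Scheme.Hom.appLE_comp_appLE]
  have : IsScalarTower Γ(S, V) Γ(Y, U) Γ(Z, U') := IsScalarTower.of_algebraMap_eq fun r => by
    rw [IsScalarTower.algebraMap_apply Γ(S, V) Γ(X, W) Γ(Y, U),
      ← IsScalarTower.algebraMap_apply Γ(X, W) Γ(Y, U) Γ(Z, U'), ← IsScalarTower.algebraMap_apply]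
  have : Algebra.FiniteType Γ(S, V) Γ(X, W) := p.finiteType_appLE hV hW hWV
  have : Module.Flat Γ(X, W) Γ(Y, U) := g.flat_appLE hW hU hUW
  have : Algebra.FinitePresentation Γ(X, W) Γ(Y, U) := g.finitePresentation_appLE hW hU hUW
  have : Module.Flat Γ(X, W) Γ(Z, U') := (j ≫ g).flat_appLE hW hU' hU'W
  have : Algebra.FinitePresentation Γ(X, W) Γ(Z, U') := (j ≫ g).finitePresentation_appLE hW hU' hU'W
  have : Algebra.QuasiFinite Γ(X, W) Γ(Z, U') := LocallyQuasiFinite.quasiFinite_appLE (f := j ≫ g) hW hU' hU'W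
  have : Algebra.FiniteType Γ(S, V) Γ(Y, U) := Algebra.FiniteType.trans (S := Γ(X, W)) inferInstance inferInstance
  have := KFlat.TildeExact.preservesFiniteLimits_tilde Γ(Y, U)
  have := DRing.LTensor.hasLBaseChange (g.appLE W U hUW).hom
  have := DRing.LTensor.hasLBaseChange (algebraMap Γ(X, W) Γ(Y, U))
  have := DRing.LTensor.hasLBaseChange (algebraMap Γ(X, W) Γ(Z, U'))
  have := DRing.LTensor.hasLBaseChange (algebraMap Γ(Y, U) Γ(Z, U'))
  obtain ⟨e'⟩ := nonempty_sections_lpull g E hW hU hUW M e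
  have hB := (P_iff_isRel hU hV hUV _ e').1 (P_of_rel hrel hU hV hUV)
  have hB' : DerCA.IsRelPseudoCoherent Γ(S, V) Γ(Z, U') m
      ((DRing.LBaseChange (algebraMap Γ(X, W) Γ(Z, U'))).obj M) :=
    RelDescent.isRel_bc (B := Γ(Y, U)) (C := Γ(Z, U'))
      (FlatMor.PC.pcHom_of_comp (R := Γ(X, W)) (A := Γ(Y, U)) (B := Γ(Z, U'))
        FlatMor.PC.pcHom_of_flat_fp FlatMor.PC.pcHom_of_flat_fp) M hB
  refine RelDescent.locRel_of_quasiFinite (A' := Γ(Z, U')) _ ⟨hU'.primeIdealOf ⟨z, hzU'⟩, ?_⟩ M m hB'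
  apply hW.fromSpec.isOpenEmbedding.injective
  rw [hW.fromSpec_primeIdealOf]
  have h4 := congr($(IsAffineOpen.SpecMap_appLE_fromSpec (j ≫ g) hW hU' hU'W) (hU'.primeIdealOf ⟨z, hzU'⟩))
  rw [Scheme.Hom.comp_apply, Scheme.Hom.comp_apply, hU'.fromSpec_primeIdealOf] at h4
  exact h4.trans hz

/-- Let p : X ⟶ S be locally of finite type and let (g_i : X_i ⟶ X) be an fppf covering: every g_i is
flat and locally of finite presentation and the g_i are jointly surjective. Let E be an object of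
D(O_X) with quasi-coherent cohomology sheaves and m an integer. Then, the derived pullbacks Lg_i^*
being assumed to exist, E is m-pseudo-coherent relative to p if and only if for every i the object
Lg_i^* E is m-pseudo-coherent relative to g_i ≫ p : X_i ⟶ S (chart form). -/
theorem result {X S : Scheme.{u}} (p : X ⟶ S)
    [LocallyOfFiniteType p] {ι : Type u} (Xi : ι → Scheme.{u}) (g : ∀ i, Xi i ⟶ X) [∀ i, Flat (g i)]
    [∀ i, LocallyOfFinitePresentation (g i)] (hcov : ∀ x : X, ∃ (i : ι) (y : Xi i), (g i).base y = x)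
    [∀ i, DCoh.HasLpull (g i)] (m : ℤ) (E : DCoh.D X) (hE : DCoh.IsQCohD E) :
    DerSch.IsPseudoCoherentRel p m E ↔
      ∀ i, DerSch.IsPseudoCoherentRel (g i ≫ p) m ((DCoh.Lpull (g i)).obj E) := by
  constructor
  · intro h i
    refine PCohD.rel_iff.2 fun U V hUV => ?_
    refine PCohD.P_of_cover U.2 V.2 hUV fun y hy => ?_
    obtain ⟨W, hW, hxW, hWV⟩ := exists_isAffineOpen_mem_and_subset (x := g i y)
      (U := p ⁻¹ᵁ (V : S.Opens)) (hUV hy)
    obtain ⟨a, ha, hya⟩ := U.2.exists_basicOpen_le (V := g i ⁻¹ᵁ W) ⟨y, hxW⟩ hy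
    exact ⟨a, hya, P_lpull p (g i) m E hE V.2 hW hWV (U.2.basicOpen a) ha (PCohD.P_of_rel h hW V.2 hWV)⟩
  · intro h
    refine PCohD.rel_iff.2 fun W V hWV => ?_
    have hW := W.2
    have := KFlat.TildeExact.preservesFiniteLimits_tilde Γ(X, (W : X.Opens))
    obtain ⟨M, ⟨e⟩⟩ := KFlat.TildeD.exists_iso_of_isQCohD (R := Γ(X, (W : X.Opens))) _
      (PCohD.isQCohD_pushD_isoSpec hE hW)
    let _ := (p.appLE (V : S.Opens) (W : X.Opens) hWV).hom.toAlgebra
    have : Algebra.FiniteType Γ(S, (V : S.Opens)) Γ(X, (W : X.Opens)) := p.finiteType_appLE V.2 hW hWV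
    refine (PCohD.P_iff_isRel hW V.2 hWV M e).2 (PCohD.RelDescent.isRel_of_locRel M m fun q => ?_)
    have hxW : hW.fromSpec q ∈ (W : X.Opens) := hW.range_fromSpec.le ⟨q, rfl⟩
    obtain ⟨i, y, hy⟩ := hcov (hW.fromSpec q)
    have hloc := locRel_of_P p (g i) m E V.2 hW hWV M e (h i) _ hxW ⟨y, hy⟩
    have hq : hW.primeIdealOf ⟨hW.fromSpec q, hxW⟩ = q :=
      hW.fromSpec.isOpenEmbedding.injective (hW.fromSpec_primeIdealOf _)
    rwa [hq] at hloc

end Groth.Agent.S7227
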