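import Groth.Statements.S7231
import Groth.Agent.PCohD.ThickPC

set_option autoImplicit false
universe u
open CategoryTheory CategoryTheory.Limits AlgebraicGeometry Opposite TopologicalSpace
attribute [local instance] HasDerivedCategory.standard
open FlatMor

namespace Groth.Agent.S7231

/-- Let i : X ⟶ X' be a finite order thickening (a surjective closed immersion whose ideal sheaf is
nilpotent) and K' an object of D(O_{X'}). If, the derived pullback Li^* being assumed to exist, Li^*
K' is pseudo-coherent on X (m-pseudo-coherent for every integer m), then K' is pseudo-coherent on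
X'. -/
theorem result {X X' : Scheme.{u}} (i : X ⟶ X')
    (hi : MoreMor.IsFiniteOrderThickening i) [DCoh.HasLpull i] (K' : DCoh.D X')
    (hK : ∀ m : ℤ, DCoh.IsPseudoCoherentD m ((DCoh.Lpull i).obj K')) (m : ℤ) :
    DCoh.IsPseudoCoherentD m K' := by
  let F₀ := DerivedCategory.Q.objPreimage K'
  let P := (Agent.KFlat.Pull.resY X').obj F₀
  have hP : DCoh.IsKFlat P := Agent.KFlat.Pull.isKFlat_resY F₀
  have := Agent.KFlat.Pull.quasiIso_resYπ F₀
  let eP : DCoh.toD X' P ≅ K' :=
    asIso (DerivedCategory.Q.map ((Agent.KFlat.Pull.resYπ X').app F₀)) ≪≫ DerivedCategory.Q.objObjPreimageIso K'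
  refine PCohD.pc_of_iso eP (PCohD.Thick.pc_of_pull (PCohD.Thick.isNilThick_of_finiteOrder hi) P hP
    (fun k => PCohD.pc_of_iso ((@asIso _ _ _ _ ((Agent.KFlat.Pull.toPull i).app P)
      (Agent.KFlat.Pull.isIso_toPull i hP)).symm ≪≫ (DCoh.Lpull i).mapIso eP).symm (hK k)) m)

end Groth.Agent.S7231
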