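import Groth.Statements.S7232
import Groth.Agent.PCohD.ThickTor

set_option autoImplicit false
universe u
open CategoryTheory CategoryTheory.Limits AlgebraicGeometry Opposite TopologicalSpace
attribute [local instance] HasDerivedCategory.standard
open FlatMor

namespace Groth.Agent.S7232

/-- Consider a cartesian square of schemes with sides f : X ⟶ Y, f' : X' ⟶ Y', i : X ⟶ X' and j : Y ⟶ Y'
(so i ≫ f' = f ≫ j and X = X' ×_{Y'} Y), where f' is flat and locally of finite presentation and j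
is a finite order thickening. Let E' be an object of D(O_{X'}) and assume the derived pullback Li^*
exists. Suppose Li^* E' is perfect relative to Y: it is represented by a cochain complex whose class
is pseudo-coherent and which, locally on X, has finite tor amplitude stalkwise over the local rings
of Y. Then E' is perfect relative to Y': it is pseudo-coherent and, locally on X', every cochain
complex representing it has finite tor amplitude stalkwise over the local rings of Y'. -/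
theorem result {X X' Y Y' : Scheme.{u}} (f : X ⟶ Y) (f' : X' ⟶ Y')
    (i : X ⟶ X') (j : Y ⟶ Y') (sq : IsPullback i f f' j) [Flat f'] [LocallyOfFinitePresentation f']
    (hj : MoreMor.IsFiniteOrderThickening j) [DCoh.HasLpull i] (E' : DCoh.D X')
    (hE : ∃ F : CochainComplex X.Modules ℤ, Nonempty (DCoh.toD X F ≅ (DCoh.Lpull i).obj E') ∧
      (∀ m : ℤ, DCoh.IsPseudoCoherentD m (DCoh.toD X F)) ∧ DerSch.LocFiniteTorAmplitude f F) :
    (∀ m : ℤ, DCoh.IsPseudoCoherentD m E') ∧ DerSch.LocFiniteTorAmplitudeD f' E' := by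
  have hjn := PCohD.Thick.isNilThick_of_finiteOrder hj
  have hin := PCohD.Thick.isNilThick_of_isPullback sq hjn
  obtain ⟨F, ⟨eF⟩, hpc, htor⟩ := hE
  have key : ∀ G : CochainComplex X'.Modules ℤ, (DCoh.toD X' G ≅ E') →
      ∃ P : CochainComplex X'.Modules ℤ, DCoh.IsKFlat P ∧ Nonempty (DCoh.toD X' P ≅ DCoh.toD X' G) ∧
        Nonempty (DCoh.toD X ((Agent.KFlat.Pull.pullCx i).obj P) ≅ DCoh.toD X F) := fun G eG => by
    have hP : DCoh.IsKFlat ((Agent.KFlat.Pull.resY X').obj G) := Agent.KFlat.Pull.isKFlat_resY G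
    have := Agent.KFlat.Pull.quasiIso_resYπ G
    let eP := asIso (DerivedCategory.Q.map ((Agent.KFlat.Pull.resYπ X').app G))
    exact ⟨_, hP, ⟨eP⟩, ⟨(@asIso _ _ _ _ ((Agent.KFlat.Pull.toPull i).app _)
      (Agent.KFlat.Pull.isIso_toPull i hP)).symm ≪≫ (DCoh.Lpull i).mapIso (eP ≪≫ eG) ≪≫ eF.symm⟩⟩
  refine ⟨fun m => ?_, fun G hG => ?_⟩
  · obtain ⟨P, hP, ⟨eP⟩, ⟨eQ⟩⟩ := key _ (DerivedCategory.Q.objObjPreimageIso E')
    exact PCohD.pc_of_iso (eP ≪≫ DerivedCategory.Q.objObjPreimageIso E')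
      (PCohD.Thick.pc_of_pull hin P hP (fun k => PCohD.pc_of_iso eQ.symm (hpc k)) m)
  · obtain ⟨eG⟩ := hG
    obtain ⟨P, hP, ⟨eP⟩, ⟨eQ⟩⟩ := key G eG
    intro y
    obtain ⟨x, rfl⟩ := hin.surj.surj y
    obtain ⟨V, a, b, hxV, hV⟩ := htor x
    have := hin.closed
    obtain ⟨O', hO', hO'eq⟩ := i.isEmbedding.isInducing.isOpen_iff.1 V.2
    refine ⟨⟨O', hO'⟩, a, b, show x ∈ i ⁻¹' O' from hO'eq ▸ hxV, fun y hy => ?_⟩
    obtain ⟨z, rfl⟩ := hin.surj.surj y
    have hz : z ∈ i ⁻¹' O' := hy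
    rw [hO'eq] at hz
    exact Agent.DRing.TorAmp.torAmp_of_iso (PCohD.Thick.stalkCxOverIso f' (i z) eP)
      (PCohD.Thick.torAmpAt_of_pull sq hjn hP z
        (Agent.DRing.TorAmp.torAmp_of_iso (PCohD.Thick.stalkCxOverIso f z eQ).symm (hV z hz)))

end Groth.Agent.S7232
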