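import Groth.Statements.S7233
import Groth.Agent.PCohD.FibreGeom

set_option autoImplicit false
universe u
open CategoryTheory CategoryTheory.Limits AlgebraicGeometry Opposite TopologicalSpace
attribute [local instance] HasDerivedCategory.standard
open FlatMor

namespace Groth.Agent.S7233

/-- Let R be a ring and I an ideal of R contained in the Jacobson radical of R. Let f : X ⟶ Spec R be
proper, flat and of finite presentation, and let X₀ = X ×_{Spec R} Spec(R/I) with projections i : X₀
⟶ X and f₀ : X₀ ⟶ Spec(R/I). Let E be a pseudo-coherent object of D(O_X) (m-pseudo-coherent for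
every m) and assume the derived pullback Li^* exists. Suppose Li^* E is perfect relative to
Spec(R/I): it is represented by a cochain complex whose class is pseudo-coherent and which, locally
on X₀, has finite tor amplitude stalkwise over the local rings of Spec(R/I). Then E is perfect
relative to Spec R: locally on X, every cochain complex representing E has finite tor amplitude
stalkwise over the local rings of Spec R. -/
theorem result (R : Type u) [CommRing R] (I : Ideal R)
    (hI : I ≤ Ideal.jacobson ⊥) {X : Scheme.{u}} (f : X ⟶ Spec (CommRingCat.of R)) [IsProper f] [Flat f]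
    [LocallyOfFinitePresentation f]
    [DCoh.HasLpull (pullback.fst f (Spec.map (CommRingCat.ofHom (Ideal.Quotient.mk I))))]
    (E : DCoh.D X) (hpc : ∀ m : ℤ, DCoh.IsPseudoCoherentD m E)
    (h₀ : ∃ F₀ : CochainComplex (pullback f (Spec.map (CommRingCat.ofHom (Ideal.Quotient.mk I)))).Modules ℤ,
      Nonempty (DCoh.toD _ F₀ ≅ (DCoh.Lpull (pullback.fst f (Spec.map (CommRingCat.ofHom (Ideal.Quotient.mk I))))).obj E) ∧
        (∀ m : ℤ, DCoh.IsPseudoCoherentD m (DCoh.toD _ F₀)) ∧
        DerSch.LocFiniteTorAmplitude (pullback.snd f (Spec.map (CommRingCat.ofHom (Ideal.Quotient.mk I)))) F₀) :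
    DerSch.LocFiniteTorAmplitudeD f E := by
  let π := Spec.map (CommRingCat.ofHom (Ideal.Quotient.mk I))
  let i := pullback.fst f π
  have : IsClosedImmersion π := IsClosedImmersion.spec_of_surjective _ Ideal.Quotient.mk_surjective
  have hsq : IsPullback i (pullback.snd f π) f π := IsPullback.of_hasPullback f π
  have hcl : IsClosedImmersion i := MorphismProperty.of_isPullback hsq.flip ‹_›
  have : CompactSpace X := (quasiCompact_iff_compactSpace f).1 inferInstance
  have : CompactSpace ↥(pullback f π) := (i.isClosedEmbedding).compactSpace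
  obtain ⟨F₀, ⟨e₀⟩, -, htor⟩ := h₀
  intro G hG
  obtain ⟨eG⟩ := hG
  let P := (Agent.KFlat.Pull.resY X).obj G
  have hP : DCoh.IsKFlat P := Agent.KFlat.Pull.isKFlat_resY G
  have := Agent.KFlat.Pull.quasiIso_resYπ G
  let eP : DCoh.toD X P ≅ DCoh.toD X G :=
    asIso (DerivedCategory.Q.map ((Agent.KFlat.Pull.resYπ X).app G))
  let eQ : DCoh.toD _ ((Agent.KFlat.Pull.pullCx i).obj P) ≅ DCoh.toD _ F₀ :=
    (@asIso _ _ _ _ ((Agent.KFlat.Pull.toPull i).app _) (Agent.KFlat.Pull.isIso_toPull i hP)).symm ≪≫
      (DCoh.Lpull i).mapIso (eP ≪≫ eG) ≪≫ e₀.symm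
  have hPpc : ∀ m : ℤ, DCoh.IsPseudoCoherentD m (DCoh.toD X P) := fun m =>
    PCohD.pc_of_iso (eP ≪≫ eG).symm (hpc m)
  -- a uniform lower bound on the closed fibre
  choose V a₁ b₁ hzV hV using htor
  obtain ⟨t, ht⟩ := isCompact_univ.elim_finite_subcover (fun z => (V z : Set ↥(pullback f π)))
    (fun z => (V z).2) (fun z _ => Set.mem_iUnion.2 ⟨z, hzV z⟩)
  obtain ⟨a, ha⟩ := (t.image a₁).bddBelow
  have hres : ∀ z, PCohD.FibreGeom.ExactResidue f P a (i.base z) := fun z => by
    obtain ⟨w, hw, hzw⟩ : ∃ w ∈ t, z ∈ V w := by simpa using ht (Set.mem_univ z)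
    intro k hk
    exact PCohD.FibreGeom.exactResidue_of_pull f hsq hP z
      (Agent.DRing.TorAmp.torAmp_of_iso (PCohD.Thick.stalkCxOverIso (pullback.snd f π) z eQ).symm
        (hV w z hzw)) k (lt_of_lt_of_le hk (ha (Finset.mem_image_of_mem a₁ hw)))
  -- a uniform upper bound
  choose U hU hxU hUtop using fun x : X => exists_isAffineOpen_mem_and_subset (x := x) (U := ⊤) trivial
  choose bU hbU using fun x : X => PCohD.FibreGeom.exists_bound_open f (hU x) P hP hPpc
  obtain ⟨t', ht'⟩ := isCompact_univ.elim_finite_subcover (fun x => (U x : Set X))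
    (fun x => (U x).2) (fun x _ => Set.mem_iUnion.2 ⟨x, hxU x⟩)
  obtain ⟨b, hb⟩ := (t'.image bU).bddAbove
  intro x
  refine ⟨⊤, a, b, trivial, fun y _ => ?_⟩
  -- a closed specialisation in the closed fibre
  obtain ⟨y₀, hy₀, hy₀c⟩ := (isClosed_closure (s := ({y} : Set X))).exists_closed_singleton
    ⟨y, subset_closure rfl⟩
  have hyy : y ⤳ y₀ := specializes_iff_mem_closure.2 hy₀
  have hfc : IsClosed ({f.base y₀} : Set (Spec (CommRingCat.of R))) := by
    have h := f.isClosedMap _ hy₀c
    rwa [Set.image_singleton] at h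
  obtain ⟨z, rfl⟩ : y₀ ∈ Set.range i.base := by
    refine (Scheme.Pullback.range_fst f π).symm ▸ ?_
    change f.base y₀ ∈ Set.range π.base
    have hm := (PrimeSpectrum.isClosed_singleton_iff_isMaximal _).1 hfc
    change f.base y₀ ∈ Set.range (PrimeSpectrum.comap (Ideal.Quotient.mk I))
    rw [range_comap_of_surjective _ _ Ideal.Quotient.mk_surjective, Ideal.mk_ker]
    exact (PrimeSpectrum.mem_zeroLocus _ _).2
      (hI.trans (Ideal.jacobson_bot (R := R) ▸ Ring.jacobson_le_of_isMaximal _))
  obtain ⟨w, hw, hzw⟩ : ∃ w ∈ t', i.base z ∈ U w := by simpa using ht' (Set.mem_univ (i.base z))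
  exact Agent.DRing.TorAmp.torAmp_mono
    (Agent.DRing.TorAmp.torAmp_of_iso (PCohD.Thick.stalkCxOverIso f y eP) (hbU w a y _ hyy hzw (hres z)))
    le_rfl (hb (Finset.mem_image_of_mem bU hw))

end Groth.Agent.S7233
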