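import Groth.Statements.S7237
import Mathlib.Algebra.TrivSqZeroExt.Basic
import Mathlib.RingTheory.Kaehler.Basic
-- helpers

set_option autoImplicit false
universe u
open TensorProduct
open FlatMor

namespace Groth.Agent.S7237

/-- Let A be a ring and M a finitely generated A-module, and let C = Sym_A(M) be the symmetric algebra
of M with its canonical A-linear map ι : M → C. Then Ω_{C/A} = M ⊗_A C: the C-linear map C ⊗_A M →
Ω_{C/A} obtained by extending scalars in the A-linear map m ↦ d(ι m), d being the universal
A-derivation of C, is bijective. (The published lemma also computes the whole naive cotangent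
complex of the presentation of C attached to a surjection A^m → M with kernel K, namely as K ⊗_A C →
⊕_j C dy_j; only its consequence for Ω is asserted here.) -/
theorem result (A : Type u) [CommRing A] (M : Type u)
    [AddCommGroup M] [Module A M] [Module.Finite A M] :
    Function.Bijective (LinearMap.liftBaseChange (SymmetricAlgebra A M)
      ((KaehlerDifferential.D A (SymmetricAlgebra A M)).toLinearMap.restrictScalars A ∘ₗ SymmetricAlgebra.ι A M)) := by
  let C := SymmetricAlgebra A M
  let N := C ⊗[A] M
  have : IsCentralScalar C N := ⟨fun a n ↦ by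
    induction n using TensorProduct.induction_on with
    | zero => rw [smul_zero, smul_zero]
    | tmul c m => rw [TensorProduct.smul_tmul', TensorProduct.smul_tmul', op_smul_eq_smul]
    | add x y hx hy => rw [smul_add, smul_add, hx, hy]⟩
  let g : M →ₗ[A] TrivSqZeroExt C N :=
    { toFun := fun m ↦ TrivSqZeroExt.inl (SymmetricAlgebra.ι A M m) + TrivSqZeroExt.inr ((1 : C) ⊗ₜ[A] m)
      map_add' := fun x y ↦ TrivSqZeroExt.ext (by simp) (by simp [TensorProduct.tmul_add])
      map_smul' := fun r x ↦ TrivSqZeroExt.ext (by simp) (by simp [TensorProduct.tmul_smul]) }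
  let φ : C →ₐ[A] TrivSqZeroExt C N := SymmetricAlgebra.lift g
  have hφ : ∀ m, φ (SymmetricAlgebra.ι A M m) = g m := fun m ↦ SymmetricAlgebra.lift_ι_apply g m
  have hfst : (TrivSqZeroExt.fstHom A C N).comp φ = AlgHom.id A C := by
    apply SymmetricAlgebra.algHom_ext
    ext m
    show (φ (SymmetricAlgebra.ι A M m)).fst = SymmetricAlgebra.ι A M m
    rw [hφ]
    simp [g]
  have hf : ∀ c, (φ c).fst = c := fun c ↦ AlgHom.congr_fun hfst c
  let δ : Derivation A C N :=
    { toFun := fun c ↦ (φ c).snd
      map_add' := fun x y ↦ by simp
      map_smul' := fun r x ↦ by simp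
      map_one_eq_zero' := by simp
      leibniz' := fun a b ↦ by
        show (φ (a * b)).snd = a • (φ b).snd + b • (φ a).snd
        rw [map_mul, TrivSqZeroExt.snd_mul, hf, hf, op_smul_eq_smul] }
  let L := LinearMap.liftBaseChange C
    ((KaehlerDifferential.D A C).toLinearMap.restrictScalars A ∘ₗ SymmetricAlgebra.ι A M)
  have h1 : L.comp δ.liftKaehlerDifferential = LinearMap.id := by
    apply Derivation.liftKaehlerDifferential_unique
    ext c
    show L (δ.liftKaehlerDifferential (KaehlerDifferential.D A C c)) = KaehlerDifferential.D A C c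
    rw [Derivation.liftKaehlerDifferential_comp_D]
    induction c using SymmetricAlgebra.induction with
    | algebraMap r => rw [Derivation.map_algebraMap, Derivation.map_algebraMap, map_zero]
    | ι x =>
      show L ((φ (SymmetricAlgebra.ι A M x)).snd) = _
      rw [hφ]
      simp [L, g]
    | mul a b ha hb => simp [Derivation.leibniz, ha, hb]
    | add a b ha hb => simp [ha, hb]
  have h2 : δ.liftKaehlerDifferential.comp L = LinearMap.id := by
    ext m
    show δ.liftKaehlerDifferential (L ((1 : C) ⊗ₜ[A] m)) = (1 : C) ⊗ₜ[A] m
    have : L ((1 : C) ⊗ₜ[A] m) = KaehlerDifferential.D A C (SymmetricAlgebra.ι A M m) := by simp [L]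
    rw [this, Derivation.liftKaehlerDifferential_comp_D]
    show (φ (SymmetricAlgebra.ι A M m)).snd = _
    rw [hφ]
    simp [g]
  exact ⟨Function.LeftInverse.injective (g := δ.liftKaehlerDifferential) fun x ↦ LinearMap.congr_fun h2 x,
    fun x ↦ ⟨δ.liftKaehlerDifferential x, LinearMap.congr_fun h1 x⟩⟩

end Groth.Agent.S7237
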