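import Groth.Statements.S7238
import Groth.Agent.S7203
import Groth.Agent.SmoothingLib.MatchCpl
import Groth.Agent.SmoothingLib.MatchNbhd
import Groth.Agent.EGA4Lib.GRingPoly
import Groth.Agent.S0598

set_option autoImplicit false
set_option backward.isDefEq.respectTransparency false
set_option backward.isDefEq.respectTransparency.types false
universe u
open FlatMor

namespace Groth.Agent.S7238

open AlgebraicGeometry CategoryTheory Limits IsLocalRing in
/-- Let S be a locally Noetherian scheme and T a scheme of finite type over ℤ; let p : X ⟶ S and q : Y ⟶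
T be locally of finite type; let x ∈ X with image s ∈ S such that O_{S,s} is a G-ring, and y ∈ Y
with image t ∈ T. Let σ : O_{T,t} → O_{S,s}^∧ be a local homomorphism into the completion, let Y_σ =
Y ×_T Spec(O_{S,s}^∧) be the base change of q along Spec(O_{S,s}^∧) → Spec(O_{T,t}) → T, let y_σ ∈
Y_σ be a point lying over y and over the closed point of Spec(O_{S,s}^∧), and let φ : O_{X,x}^∧ ≅
O_{Y_σ,y_σ}^∧ be an isomorphism of completed local rings compatible with the two O_{S,s}-algebra
structures. Then there are: an elementary étale neighbourhood e : (V, v) ⟶ (S, s) (étale, v ↦ s,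
trivial residue field extension) together with τ : V ⟶ T with τ(v) = t; an elementary étale
neighbourhood a : (W, w) ⟶ (X, x); and a morphism b : W ⟶ Y ×_{T,τ} V with W ⟶ X ⟶ S equal to W ⟶ Y
×_T V ⟶ V ⟶ S, such that b is étale and b(w) lies over y and over v with trivial residue field
extension. (The published statement says more precisely that (W, w) is an elementary étale
neighbourhood of the point y_τ of Y ×_T V corresponding to y_σ under the identification of the fibre
of Y_σ over the closed point with the fibre of Y ×_T V over v; that identification is not expressed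
here, only that b(w) lies over y and v.) -/
theorem result {X Y S T : Scheme.{u}} [IsLocallyNoetherian S]
    (p : X ⟶ S) (q : Y ⟶ T) [LocallyOfFiniteType p] [LocallyOfFiniteType q]
    [LocallyOfFiniteType (specULiftZIsTerminal.from T)] [CompactSpace T]
    (x : X) (hG : CAlg.IsGRing ↑(S.presheaf.stalk (p x))) (y : Y)
    (σ : ↑(T.presheaf.stalk (q y)) →+*
      AdicCompletion (maximalIdeal ↑(S.presheaf.stalk (p x))) ↑(S.presheaf.stalk (p x)))
    [IsLocalHom σ]
    (yσ : ↑(pullback q (Spec.map (CommRingCat.ofHom σ) ≫ T.fromSpecStalk (q y))))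
    (hyσ : (pullback.fst q (Spec.map (CommRingCat.ofHom σ) ≫ T.fromSpecStalk (q y))) yσ = y)
    (hyσc : (pullback.snd q (Spec.map (CommRingCat.ofHom σ) ≫ T.fromSpecStalk (q y))) yσ =
      closedPoint (AdicCompletion (maximalIdeal ↑(S.presheaf.stalk (p x))) ↑(S.presheaf.stalk (p x))))
    (φ : AdicCompletion (maximalIdeal ↑(X.presheaf.stalk x)) ↑(X.presheaf.stalk x) ≃+*
      AdicCompletion (maximalIdeal ↑((pullback q (Spec.map (CommRingCat.ofHom σ) ≫ T.fromSpecStalk (q y))).presheaf.stalk yσ))
        ↑((pullback q (Spec.map (CommRingCat.ofHom σ) ≫ T.fromSpecStalk (q y))).presheaf.stalk yσ))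
    (hφ : φ.toRingHom.comp ((algebraMap ↑(X.presheaf.stalk x)
        (AdicCompletion (maximalIdeal ↑(X.presheaf.stalk x)) ↑(X.presheaf.stalk x))).comp (p.stalkMap x).hom) =
      ((algebraMap _ (AdicCompletion (maximalIdeal
          ↑((pullback q (Spec.map (CommRingCat.ofHom σ) ≫ T.fromSpecStalk (q y))).presheaf.stalk yσ)) _)).comp
        ((pullback.snd q (Spec.map (CommRingCat.ofHom σ) ≫ T.fromSpecStalk (q y))).stalkMap yσ).hom).comp
        ((((Spec (CommRingCat.of (AdicCompletion (maximalIdeal ↑(S.presheaf.stalk (p x))) ↑(S.presheaf.stalk (p x))))).presheaf.germ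
            ⊤ ((pullback.snd q (Spec.map (CommRingCat.ofHom σ) ≫ T.fromSpecStalk (q y))) yσ) trivial).hom.comp
          ((Scheme.ΓSpecIso (CommRingCat.of (AdicCompletion (maximalIdeal ↑(S.presheaf.stalk (p x)))
            ↑(S.presheaf.stalk (p x))))).inv.hom.comp
            (algebraMap ↑(S.presheaf.stalk (p x))
              (AdicCompletion (maximalIdeal ↑(S.presheaf.stalk (p x))) ↑(S.presheaf.stalk (p x)))))))) :
    ∃ (V : Scheme.{u}) (v : V) (e : V ⟶ S) (τ : V ⟶ T) (W : Scheme.{u}) (w : W) (a : W ⟶ X)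
      (b : W ⟶ pullback q τ),
      Etale e ∧ e v = p x ∧ Function.Bijective (e.residueFieldMap v) ∧ τ v = q y ∧
      Etale a ∧ a w = x ∧ Function.Bijective (a.residueFieldMap w) ∧
      a ≫ p = b ≫ pullback.snd q τ ≫ e ∧
      Etale b ∧ (pullback.fst q τ) (b w) = y ∧ (pullback.snd q τ) (b w) = v ∧
      Function.Bijective (b.residueFieldMap w) := by
  classical
  let L : Type u := S.presheaf.stalk (p x)
  let Lh : Type u := AdicCompletion (maximalIdeal L) L
  haveI : IsNoetherianRing L := hG.1
  haveI : IsNoetherianRing Lh := Groth.Agent.RegLoc.Completion.isNoetherianRing_adicCompletion' _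
  haveI : IsLocalHom (algebraMap L Lh) :=
    inferInstanceAs (IsLocalHom (algebraMap L (AdicCompletion (maximalIdeal L) L)))
  haveI : IsLocallyNoetherian X := LocallyOfFiniteType.isLocallyNoetherian p
  obtain ⟨Xh, gX, hX, xh, hx, hpb, hxc, hresg, μ, hμ⟩ := Groth.Agent.SmoothingLib.MatchCpl.exists_point p x
  haveI : LocallyOfFiniteType hX := MorphismProperty.of_isPullback hpb inferInstance
  haveI : IsLocallyNoetherian Xh := LocallyOfFiniteType.isLocallyNoetherian hX
  have hxy : hX xh = (pullback.snd q (Spec.map (CommRingCat.ofHom σ) ≫ T.fromSpecStalk (q y))) yσ :=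
    hxc.trans hyσc.symm
  let gl : ∀ z : Spec (CommRingCat.of Lh), Lh →+* (Spec (CommRingCat.of Lh)).presheaf.stalk z := fun z =>
    ((Spec (CommRingCat.of Lh)).presheaf.germ ⊤ z trivial).hom.comp (Scheme.ΓSpecIso (CommRingCat.of Lh)).inv.hom
  have hgl : Function.Bijective (gl (hX xh)) := by
    have h2 : Function.Bijective ((stalkClosedPointIso (CommRingCat.of Lh)).inv).hom :=
      ConcreteCategory.bijective_of_isIso _
    rw [stalkClosedPointIso_inv] at h2
    rw [hxc]
    exact h2
  haveI : IsAdicComplete (maximalIdeal Lh) Lh :=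
    inferInstanceAs (IsAdicComplete (maximalIdeal (AdicCompletion (maximalIdeal L) L))
      (AdicCompletion (maximalIdeal L) L))
  have hGh : CAlg.IsGRing ↑((Spec (CommRingCat.of Lh)).presheaf.stalk (hX xh)) :=
    Groth.Agent.EGA4Lib.Jac.isGRing_of_ringEquiv (RingEquiv.ofBijective _ hgl)
      (Groth.Agent.S0598.result Lh)
  -- the isomorphism of completions over the completed base
  let φ' := φ.symm.trans μ
  let J := maximalIdeal L
  have hloc : ∀ a : L, a ∈ J → (gX.stalkMap xh).hom ((X.presheaf.stalkCongr (Inseparable.of_eq hx.symm)).hom.hom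
      ((p.stalkMap x).hom a)) ∈ maximalIdeal ↑(Xh.presheaf.stalk xh) := fun a ha =>
    map_nonunit (gX.stalkMap xh).hom _ (map_nonunit (X.presheaf.stalkCongr (Inseparable.of_eq hx.symm)).hom.hom _
      (map_nonunit (p.stalkMap x).hom a ha))
  have hbase : ∀ a : L, (hX.stalkMap xh).hom (gl (hX xh) (algebraMap L Lh a)) =
      (gX.stalkMap xh).hom ((X.presheaf.stalkCongr (Inseparable.of_eq hx.symm)).hom.hom ((p.stalkMap x).hom a)) := by
    have h : CommRingCat.ofHom (algebraMap L Lh) ≫ CommRingCat.ofHom (gl (hX xh)) ≫ hX.stalkMap xh =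
        p.stalkMap x ≫ (X.presheaf.stalkCongr (Inseparable.of_eq hx.symm)).hom ≫ gX.stalkMap xh := by
      apply Spec.map_injective
      rw [← cancel_mono (S.fromSpecStalk (p x)), Groth.Agent.SmoothingLib.MatchCpl.comp_stalkMap_eq p x gX xh hx,
        hpb.w, Spec.map_comp, Spec.map_comp, Category.assoc, Category.assoc,
        ← Scheme.SpecMap_stalkMap_fromSpecStalk_assoc hX]
      congr 1
      rw [Spec.fromSpecStalk_eq]
      rfl
    intro a
    exact congr($(h).hom a)
  have hgl' : ∀ (z z' : Spec (CommRingCat.of Lh)) (h : z = z') (r : Lh),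
      ((Spec (CommRingCat.of Lh)).presheaf.stalkCongr (Inseparable.of_eq h)).hom.hom (gl z r) = gl z' r := by
    rintro z _ rfl r
    rw [show ((Spec (CommRingCat.of Lh)).presheaf.stalkCongr (Inseparable.of_eq (rfl : z = z))).hom = 𝟙 _ from
      (Spec (CommRingCat.of Lh)).presheaf.stalkSpecializes_refl z]
    rfl
  have hφ' : φ'.toRingHom.comp ((algebraMap _ (AdicCompletion (maximalIdeal
        ↑((pullback q (Spec.map (CommRingCat.ofHom σ) ≫ T.fromSpecStalk (q y))).presheaf.stalk yσ)) _)).comp
        (((pullback.snd q (Spec.map (CommRingCat.ofHom σ) ≫ T.fromSpecStalk (q y))).stalkMap yσ).hom.comp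
          ((Spec (CommRingCat.of Lh)).presheaf.stalkCongr (Inseparable.of_eq hxy)).hom.hom)) =
      (algebraMap _ (AdicCompletion (maximalIdeal ↑(Xh.presheaf.stalk xh)) ↑(Xh.presheaf.stalk xh))).comp
        (hX.stalkMap xh).hom := by
    have hfg : (maximalIdeal ↑(Xh.presheaf.stalk xh)).FG := IsNoetherian.noetherian _
    haveI := Groth.Agent.Adic.Rig.isAdicComplete_map hfg
    refine RingHom.ext fun z => ?_
    obtain ⟨r, rfl⟩ := hgl.2 z
    have key := Groth.Agent.Adic.Rig.hom_ext (J := maximalIdeal L) (IsNoetherian.noetherian _)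
      ((maximalIdeal ↑(Xh.presheaf.stalk xh)).map
        (algebraMap _ (AdicCompletion (maximalIdeal ↑(Xh.presheaf.stalk xh)) ↑(Xh.presheaf.stalk xh))))
      (((algebraMap _ (AdicCompletion (maximalIdeal ↑(Xh.presheaf.stalk xh)) ↑(Xh.presheaf.stalk xh))).comp
        (hX.stalkMap xh).hom).comp (gl (hX xh)))
      (φ'.toRingHom.comp ((algebraMap _ (AdicCompletion (maximalIdeal
        ↑((pullback q (Spec.map (CommRingCat.ofHom σ) ≫ T.fromSpecStalk (q y))).presheaf.stalk yσ)) _)).comp
        (((pullback.snd q (Spec.map (CommRingCat.ofHom σ) ≫ T.fromSpecStalk (q y))).stalkMap yσ).hom.comp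
          (gl ((pullback.snd q (Spec.map (CommRingCat.ofHom σ) ≫ T.fromSpecStalk (q y))) yσ)))))
      ?_ ?_
    · have := RingHom.congr_fun key r
      simp only [RingHom.comp_apply] at this ⊢
      rw [hgl' _ _ hxy r]
      exact this.symm
    · rw [Ideal.map_le_iff_le_comap]
      intro a ha
      simp only [Ideal.mem_comap, RingHom.comp_apply]
      erw [hbase a]
      exact Ideal.mem_map_of_mem _ (hloc a ha)
    · refine RingHom.ext fun a => ?_
      have h := congrArg φ'.toRingHom (RingHom.congr_fun hφ a)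
      simp only [RingHom.comp_apply, φ', RingEquiv.toRingHom_eq_coe, RingHom.coe_coe, RingEquiv.trans_apply,
        RingEquiv.symm_apply_apply, hμ] at h ⊢
      erw [hbase a]
      exact h
  obtain ⟨W, w, eX, heX, fY, hfY, heE, hreX, hfE, hreY, hcomm, -⟩ := Groth.Agent.S7203.result
    hX (pullback.snd q (Spec.map (CommRingCat.ofHom σ) ≫ T.fromSpecStalk (q y))) xh yσ hxy hGh φ' hφ' 1 le_rfl
  -- affine neighbourhoods
  obtain ⟨V0, hV0, hs, -⟩ := exists_isAffineOpen_mem_and_subset (X := S) (x := p x) (U := ⊤) trivial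
  obtain ⟨U, hU, hxU, hUV⟩ := exists_isAffineOpen_mem_and_subset (X := X) (x := x) (U := p ⁻¹ᵁ V0) hs
  obtain ⟨T0, hT0, ht, -⟩ := exists_isAffineOpen_mem_and_subset (X := T) (x := q y) (U := ⊤) trivial
  obtain ⟨U', hU', hyU, hU'T⟩ := exists_isAffineOpen_mem_and_subset (X := Y) (x := y) (U := q ⁻¹ᵁ T0) ht
  have hgx : (eX ≫ gX) w = x := by rw [Scheme.Hom.comp_apply, heX, hx]
  have hgy : (fY ≫ pullback.fst q (Spec.map (CommRingCat.ofHom σ) ≫ T.fromSpecStalk (q y))) w = y := by
    rw [Scheme.Hom.comp_apply, hfY, hyσ]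
  obtain ⟨W₀, hW₀, hwW, hW₀U⟩ := exists_isAffineOpen_mem_and_subset (X := W) (x := w)
    (U := (eX ≫ gX) ⁻¹ᵁ U ⊓ (fY ≫ pullback.fst q (Spec.map (CommRingCat.ofHom σ) ≫ T.fromSpecStalk (q y))) ⁻¹ᵁ U')
    ⟨show (eX ≫ gX) w ∈ U by rw [hgx]; exact hxU,
      show (fY ≫ pullback.fst q (Spec.map (CommRingCat.ofHom σ) ≫ T.fromSpecStalk (q y))) w ∈ U' by
        rw [hgy]; exact hyU⟩
  haveI : IsAffine W₀.toScheme := hW₀
  have hι : Function.Bijective (W₀.ι.residueFieldMap ⟨w, hwW⟩) := ConcreteCategory.bijective_of_isIso _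
  obtain ⟨V, v, e, τ, W', w', a, b, he, hev, hre, hτv, ha, haw, hra, hcommab, hb, hb1, hb2, hrb⟩ :=
    Groth.Agent.SmoothingLib.MatchNbhd.exists_matching p q (p x) hG (q y) σ hpb (W₀.ι ≫ eX) (W₀.ι ≫ fY)
      (by rw [Category.assoc, Category.assoc, hcomm]) hU hV0 hs hUV
      (by
        rintro _ ⟨z, rfl⟩
        exact (hW₀U z.2).1)
      hU' hT0 ht hU'T
      (by
        rintro _ ⟨z, rfl⟩
        exact (hW₀U z.2).2)
      ⟨w, hwW⟩
      (by
        show hX (eX w) = _
        rw [heX]
        exact hxc)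
      (Groth.Agent.Wt.EtNbhd.residueFieldMap_bijective_comp _ _ _
        (Groth.Agent.Wt.EtNbhd.residueFieldMap_bijective_comp _ _ _ hι hreX) (by
          rw [show (W₀.ι ≫ eX) ⟨w, hwW⟩ = xh from heX]
          exact hresg))
      (Groth.Agent.Wt.EtNbhd.residueFieldMap_bijective_comp _ _ _ hι hreY)
  exact ⟨V, v, e, τ, W', w', a, b, he, hev, hre, hτv, ha, haw.trans hgx, hra, hcommab, hb, hb1.trans hgy, hb2, hrb⟩

end Groth.Agent.S7238
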