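import Groth.Statements.S7244
import Groth.Agent.PCohD.PerfAmp
import Groth.Agent.KFlat.Lpull
import Groth.Agent.DRing.Descent
import Groth.Agent.FDesc.Stalk

set_option autoImplicit false
universe u
open CategoryTheory CategoryTheory.Limits AlgebraicGeometry
attribute [local instance] HasDerivedCategory.standard
open Perf

namespace Groth.Agent.S7244

/-- Let f : X ⟶ Y be a flat and surjective morphism of schemes, E ∈ D(O_Y) and a, b ∈ ℤ. Assuming the
derived pullback Lf^* exists, if Lf^*E has tor amplitude in [a, b] then so does E; tor amplitude is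
stated in the flat-representative form (isomorphic to a complex of flat modules vanishing outside
[a, b]), equivalent to the derived-tensor form. (The converse, that derived pullback preserves tor
amplitude, holds for any f.) -/
theorem result {X Y : Scheme.{u}} (f : X ⟶ Y) [Flat f] [Surjective f]
    [DCoh.HasLpull f] (E : DCoh.D Y) (a b : ℤ) (h : DCoh.HasFlatAmplitudeIn a b ((DCoh.Lpull f).obj E)) :
    DCoh.HasFlatAmplitudeIn a b E := by
  let F := DerivedCategory.Q.objPreimage E
  let P := (Groth.Agent.KFlat.Pull.resY Y).obj F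
  have hP : DCoh.IsKFlat P := Groth.Agent.KFlat.Pull.isKFlat_resY F
  have := Groth.Agent.KFlat.Pull.quasiIso_resYπ F
  let e : DerivedCategory.Q.obj P ≅ E :=
    asIso (DerivedCategory.Q.map ((Groth.Agent.KFlat.Pull.resYπ Y).app F)) ≪≫
      DerivedCategory.Q.objObjPreimageIso E
  refine Groth.Agent.PCohD.PerfTor.flatAmp_of_iso e (Groth.Agent.PCohD.PerfAmp.flatAmp_of_stalk hP fun y => ?_)
  obtain ⟨x, rfl⟩ := f.surjective y
  have hpull : DCoh.HasFlatAmplitudeIn a b
      (DerivedCategory.Q.obj ((Groth.Agent.KFlat.Pull.pullCx f).obj P)) :=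
    Groth.Agent.PCohD.PerfTor.flatAmp_of_iso ((DCoh.Lpull f).mapIso e.symm ≪≫
      @asIso _ _ _ _ ((Groth.Agent.KFlat.Pull.toPull f).app P) (Groth.Agent.KFlat.Pull.isIso_toPull f hP)) h
  let φ := (f.stalkMap x).hom
  have hφ : φ.Flat := Flat.stalkMap f x
  refine Groth.Agent.DRing.Descent.torAmp_of_detects (ψ := fun _ : Unit => φ) (fun _ => hφ) ?_ _ a b fun _ =>
    Groth.Agent.DRing.TorAmp.torAmp_of_iso
      (DerivedCategory.Q.mapIso (Groth.Agent.KFlat.Pull.stPullIso f x P))
      (Groth.Agent.PCohD.PerfAmp.stalk_torAmp hpull x)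
  letI := φ.toAlgebra
  have : Module.FaithfullyFlat (Y.presheaf.stalk (f x)) (X.presheaf.stalk x) :=
    Groth.Agent.FDesc.Stalk.faithfullyFlat_stalkMap f x hφ
  exact Groth.Agent.DRing.Descent.detects_faithfullyFlat

end Groth.Agent.S7244
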