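import Groth.Statements.S7247
import Groth.Agent.GammaLib.HocolimPC
-- import your own Groth.Agent.* helpers here

set_option autoImplicit false
universe u
open CategoryTheory CategoryTheory.Limits AlgebraicGeometry
attribute [local instance] HasDerivedCategory.standard
open Perf

attribute [-instance] CategoryTheory.ReflQuiver.toQuiver

namespace Groth.Agent.S7247

/-- Let X be a quasi-compact and quasi-separated scheme, T ⊆ X a closed subset whose complement is
quasi-compact, and K ∈ D(O_X) supported on T (every cohomology sheaf of K has support contained in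
T). Assuming countable direct sums exist in D(O_X) (they do), K is pseudo-coherent if and only if K
is a homotopy colimit of a sequence of perfect objects Kₙ supported on T whose structure maps Kₙ ⟶ K
induce isomorphisms τ_{≥ -n}Kₙ ⟶ τ_{≥ -n}K for every n. -/
theorem result (X : Scheme.{u}) [CompactSpace ↥X] [QuasiSeparatedSpace ↥X]
    [HasColimitsOfShape (Discrete ℕ) (DCoh.D X)] (T : Set ↥X) (hT : IsClosed T) (hTc : IsCompact Tᶜ)
    (K : DCoh.D X) (hK : ∀ i : ℤ, CohB1.support (DCoh.HD K i) ⊆ T) :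
    (∀ m : ℤ, DCoh.IsPseudoCoherentD m K) ↔
    ∃ (E : ℕ → DCoh.D X) (f : ∀ n, E n ⟶ E (n + 1)) (i : ∀ n, E n ⟶ K),
      (∀ n, DCoh.IsPerfect (E n)) ∧ (∀ (n : ℕ) (j : ℤ), CohB1.support (DCoh.HD (E n) j) ⊆ T) ∧
      DerLim.IsHocolim E f K i ∧
      ∀ n : ℕ, IsIso (((DerivedCategory.TStructure.t : CategoryTheory.Triangulated.TStructure (DCoh.D X)).truncGE (-(n : ℤ))).map (i n)) := by
  refine ⟨fun h => ?_, fun ⟨E, f, i, hE, _, _, hi⟩ m => GammaLib.HocolimPC.pc_of_system E i hE hi m⟩
  let W : X.Opens := ⟨Tᶜ, hT.isOpen_compl⟩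
  have hWT : (W : Set X)ᶜ = T := compl_compl T
  obtain ⟨E, f, i, hE, hEW, hf, hi⟩ := GammaLib.HocolimPC.exists_system (W := W) hTc h
    (GammaLib.HocolimPC.isZero_restrict_of_supp W fun j => by rw [hWT]; exact hK j)
  exact ⟨E, f, i, hE, fun n j => hWT ▸ PerfExt.support_subset_of_isZero_restrict W (hEW n) j,
    GammaLib.HocolimPC.isHocolim_of_iso_eventually E f i hf hi, GammaLib.HocolimPC.isIso_truncGE i hi⟩

end Groth.Agent.S7247
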