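import Groth.Statements.S7248
import Groth.Agent.PCohD.Basic
import Groth.Agent.FormalFun.HomMonoEpi

set_option autoImplicit false
universe u
open CategoryTheory CategoryTheory.Limits AlgebraicGeometry
attribute [local instance] HasDerivedCategory.standard
open Perf

namespace Groth.Agent.S7248

/-- Let f : X ⟶ S be flat and locally of finite presentation. Then a perfect object E of D(O_X) is
S-perfect, that is, E is pseudo-coherent (m-pseudo-coherent for every m) and, locally on X, the tor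
dimension of E over the sheaf of rings f⁻¹O_S is finite (locally represented by a bounded complex of
O_X-modules flat over S). -/
theorem result {X S : Scheme.{u}} (f : X ⟶ S) [Flat f] [LocallyOfFinitePresentation f]
    (E : DCoh.D X) (hE : DCoh.IsPerfect E) :
    (∀ m : ℤ, DCoh.IsPseudoCoherentD m E) ∧ DCoh.LocHasFiniteRelTorDim f E := by
  refine ⟨Groth.Agent.PCohD.pc_of_perfect hE, fun x => ?_⟩
  obtain ⟨V, hx, hV⟩ := hE x
  obtain ⟨G, hG, ⟨e⟩⟩ := hV _ ⟨DerivedCategory.Q.objObjPreimageIso E⟩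
  obtain ⟨⟨a, b, hv⟩, hfree⟩ := hG
  refine ⟨V, a, b, hx, fun F' ⟨eF⟩ => ⟨G, hv,
    fun i => Groth.Agent.FormalFun.isFlatOver_of_isFinLocFree' (V.ι ≫ f) (hfree i), ⟨e.symm ≪≫ ?_⟩⟩⟩
  exact (Groth.Agent.PerfTri.Perfect.restrQ V.ι _).symm ≪≫ (DCoh.restrictD V.ι).mapIso
    (DerivedCategory.Q.objObjPreimageIso E ≪≫ eF.symm) ≪≫ Groth.Agent.PerfTri.Perfect.restrQ V.ι F'

end Groth.Agent.S7248
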