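import Groth.Statements.S7264
import Groth.Agent.S1101
import Groth.Agent.S2394
import Groth.Agent.KFlat.TildeAmp
-- import your own Groth.Agent.* helpers here

set_option autoImplicit false
universe u
open CategoryTheory CategoryTheory.Limits AlgebraicGeometry
attribute [local instance] HasDerivedCategory.standard
open Perf

namespace Groth.Agent.S7264

open Groth.Agent Groth.Agent.DRing Groth.Agent.KFlat MonoidalCategory
open Groth.Agent.PerfTri (Perfect.restrQ)

/-- Terms flat over a flat algebra are flat over the base. -/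
theorem flat_res {A L : Type u} [CommRing A] [CommRing L] (β : A →+* L) (hβ : β.Flat) (E : DRing.Cx L)
    (hE : ∀ i, Module.Flat L (E.X i)) (i : ℤ) : Module.Flat A (((BaseChange.resCx β).obj E).X i) := by
  letI : Algebra A L := β.toAlgebra
  letI : Module A (E.X i) := Module.compHom (E.X i) β
  haveI : IsScalarTower A L (E.X i) := IsScalarTower.of_algebraMap_smul fun _ _ => rfl
  haveI : Module.Flat A L := hβ
  haveI := hE i
  exact Module.Flat.trans A L (E.X i)

variable {R A : CommRingCat.{u}} (φ : R ⟶ A) [PreservesFiniteLimits (tilde.functor A)]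

/-- The cokernel of a differential, as a sheaf. -/
noncomputable def cokerIso (E : DRing.Cx A) (c : ℤ) :
    cokernel ((((tilde.functor A).mapHomologicalComplex (ComplexShape.up ℤ)).obj E).d (c - 1) c) ≅
      tilde (R := A)
        (ModuleCat.of A (E.X c ⧸ LinearMap.range (E.d (c - 1) c).hom)) :=
  (PreservesCokernel.iso (tilde.functor A) (E.d (c - 1) c)).symm ≪≫
    (tilde.functor A).mapIso (ModuleCat.cokernelIsoRangeQuotient _)

theorem locRel_of_amp (hα : φ.hom.Flat) (M : Dual.D A) (E : DRing.Cx A) (b : ℤ)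
    (hb : DRing.VanishesAbove E b) (hE : DRing.TermwiseFiniteFree E) (eE : DRing.toD E ≅ M)
    (a b' : ℤ) (h : DRing.HasTorAmplitudeIn R a b' ((DRing.restrictD φ.hom).obj M)) :
    DCoh.LocHasFiniteRelTorDim (Spec.map φ)
      ((DCoh.tildeD A).obj M) := by
  have hEflat : ∀ i, Module.Flat A (E.X i) := fun i => have := (hE i).2; inferInstance
  let T := (BaseChange.resCx φ.hom).obj E
  have hTflat := flat_res φ.hom hα E hEflat
  have hTK : DRing.IsKFlat R T := PCohD.Thick.isKFlat_restrict_flat _ hα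
    (KFlat.isKFlat_of_boundedAbove_flat _ b hb hEflat)
  have hvan := (TorAmp.hasTorAmp_iff hTK (TensorAmp.restrictDIso φ.hom eE) a b').1 h
  have hcok := TorAmp.flat_coker hTflat a fun N => hvan N (a - 1) (Or.inl (by omega))
  letI : Algebra R A := φ.hom.toAlgebra
  letI : Module R (E.X a) := Module.compHom (E.X a) φ.hom
  haveI : IsScalarTower R A (E.X a) := IsScalarTower.of_algebraMap_smul fun _ _ => rfl
  have hQ : Module.Flat R (E.X a ⧸ LinearMap.range (E.d (a - 1) a).hom) :=
    haveI : Module.Flat R (E.X a ⧸ (LinearMap.range (E.d (a - 1) a).hom).restrictScalars R) := hcok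
    Module.Flat.of_linearEquiv (Submodule.Quotient.restrictScalarsEquiv R _).symm
  let tE : CochainComplex (Spec A).Modules ℤ :=
    ((tilde.functor A).mapHomologicalComplex (ComplexShape.up ℤ)).obj E
  have hGge : tE.IsGE a := (CochainComplex.isGE_iff _ _).mpr fun i hi => by
    have hres := (TorAmp.exactAt_tensor_self T i).1 (hvan _ i (Or.inl hi))
    have hex : E.ExactAt i := by
      rw [HomologicalComplex.exactAt_iff] at hres ⊢
      exact (ShortComplex.exact_map_iff_of_faithful _ (ModuleCat.restrictScalars φ.hom)).1 hres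
    exact ShortComplex.Exact.map hex (tilde.functor A)
  let G' := tE.truncGE a
  let f := Spec.map φ
  haveI : Flat f := (HasRingHomProperty.Spec_iff (P := @Flat)).2 hα
  have hflf : ∀ i, FlatMod.IsFinLocFree (tE.X i) := fun i =>
    (Groth.Agent.S12451.result (E.X i)).2 ⟨(hE i).1, have := (hE i).2; inferInstance⟩
  have hG : ∀ i, FlatMod.IsFlatOver f (G'.X i) := fun i => by
    rcases lt_trichotomy i a with h | rfl | h
    · exact FlatBC.flatOver_isZero _ (G'.isZero_of_isStrictlyGE a i h)
    · exact FlatBC.flatOver_of_iso _ ((cokerIso E i).symm ≪≫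
        (cokernelIsCokernel _).coconePointUniqueUpToIso (tE.opcyclesIsCokernel (i - 1) i (by simp)) ≪≫
        (tE.truncGEXIsoOpcycles i).symm) ((Groth.Agent.S2394.result R A _).2 hQ)
    · exact FlatBC.flatOver_of_flat _ (PCohD.PerfTor.isFlat_of_iso (tE.truncGEXIso a i h).symm
        (PCohD.PerfTor.isFlat_of_isFinLocFree (hflf i)))
  intro x
  let V : (Spec A).Opens := ⊤
  refine ⟨V, a, max b a, trivial, fun F' ⟨eF⟩ => ⟨(DCoh.restrictCx V).obj G', fun i hi => ?_, fun i z => ?_, ⟨?_⟩⟩⟩
  · refine (Scheme.Modules.restrictFunctor V.ι).map_isZero ?_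
    rcases hi with hi | hi
    · exact G'.isZero_of_isStrictlyGE a i hi
    · exact ((tilde.functor _).map_isZero (hb i (by omega))).of_iso (tE.truncGEXIso a i (by omega))
  · exact (CBC.isFlatOverAt_congr_iso _ ((Scheme.Modules.restrictFunctorIsoPullback V.ι).app _) z).2
      ((FDesc.Stalk.flatOverAt_pullback_iff V.ι f _ z (Flat.stalkMap V.ι z)).2 (hG i _))
  · exact LocalD.restrictQIso V ((asIso (DerivedCategory.Q.map (tE.πTruncGE a))).symm ≪≫
      ((tilde.functor A).mapDerivedCategoryFactors.app E).symm ≪≫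
      (DCoh.tildeD A).mapIso eE ≪≫ eF.symm)

/-- A flat representative on an open controls exactness and flatness of the cokernel at its points. -/
theorem at_point (hα : φ.hom.Flat) (E : DRing.Cx A) (b : ℤ) (hb : DRing.VanishesAbove E b)
    (hE : DRing.TermwiseFiniteFree E) (W : (Spec A).Opens) (aw bw a : ℤ) (haw : a ≤ aw)
    (h : DCoh.HasRelFlatAmplitudeIn (W.ι ≫ Spec.map φ) aw bw (DerivedCategory.Q.obj ((DCoh.restrictCx W).obj
      (((tilde.functor A).mapHomologicalComplex (ComplexShape.up ℤ)).obj E)))) (x : Spec A) (hxw : x ∈ W) :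
    (∀ i < a, ((StalkCx.stCx x).obj (((tilde.functor A).mapHomologicalComplex (ComplexShape.up ℤ)).obj E)).ExactAt i) ∧
      FlatMod.IsFlatOverAt (Spec.map φ) (cokernel
        ((((tilde.functor A).mapHomologicalComplex (ComplexShape.up ℤ)).obj E).d (a - 1) a)) x := by
  let tE : CochainComplex (Spec A).Modules ℤ :=
    ((tilde.functor A).mapHomologicalComplex (ComplexShape.up ℤ)).obj E
  let f := Spec.map φ
  haveI : Flat f := (HasRingHomProperty.Spec_iff (P := @Flat)).2 hα
  obtain ⟨E'', hv'', hfl'', ⟨e''⟩⟩ := h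
  let v : (W : Scheme.{u}) := ⟨x, hxw⟩
  let β := (f.stalkMap (W.ι v)).hom
  let σ := (W.ι.stalkMap v).hom
  let β' := ((W.ι ≫ f).stalkMap v).hom
  let E₁ := (BaseChange.resCx β').obj ((StalkCx.stCx v).obj E'')
  let T := (BaseChange.resCx β).obj ((StalkCx.stCx (W.ι v)).obj tE)
  have hfl₁ : ∀ i, Module.Flat _ (E₁.X i) := fun i => hfl'' i v
  have e₁ : DRing.toD E₁ ≅ DRing.toD T := by
    have hcomp : β' = σ.comp β := by
      simp only [β', Scheme.Hom.stalkMap_comp]
      rfl
    let u := (PCohD.FibreGeom.nonempty_unit_iso σ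
      (ConcreteCategory.bijective_of_isIso (W.ι.stalkMap v)) ((StalkCx.stCx (W.ι v)).obj tE)).some
    refine TensorAmp.restrictDIso β'
        (PCohD.FibreGeom.stCxIso v e'' ≪≫
          DerivedCategory.Q.mapIso (PCohD.StalkExt.stResCx W.ι v tE)) ≪≫
      (TensorAmp.restrictDIso β' (Iso.refl _)).symm ≪≫ DerivedCategory.Q.mapIso ?_
    exact eqToIso (by rw [hcomp]; rfl) ≪≫ (NatIso.mapHomologicalComplex
      (ModuleCat.restrictScalarsComp'.{u} β σ _ rfl)
      (ComplexShape.up ℤ)).app _ ≪≫ ((BaseChange.resCx β).mapIso u.symm)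
  have hflL : ∀ i, Module.Flat _ (((StalkCx.stCx (W.ι v)).obj tE).X i) := fun i =>
    PCohD.PerfTor.isFlat_of_isFinLocFree ((Groth.Agent.S12451.result (E.X i)).2
      ⟨(hE i).1, have := (hE i).2; inferInstance⟩) _
  have hTflat := flat_res β (Flat.stalkMap f _) _ hflL
  have hTK : DRing.IsKFlat _ T := PCohD.Thick.isKFlat_restrict_flat _ (Flat.stalkMap f _)
    (KFlat.isKFlat_of_boundedAbove_flat _ b
      (fun i hi => (DerSch.stalkFunctor _ _).map_isZero ((tilde.functor _).map_isZero (hb i hi))) hflL)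
  have hvan := (TorAmp.hasTorAmp_iff hTK e₁.symm aw bw).1
    ⟨E₁, fun i hi => (ModuleCat.restrictScalars β').map_isZero
      ((DerSch.stalkFunctor _ v).map_isZero (hv'' i hi)), hfl₁, ⟨Iso.refl _⟩⟩
  refine ⟨fun i hi => ?_, ?_⟩
  · have hres := (TorAmp.exactAt_tensor_self T i).1 (hvan _ i (Or.inl (by omega)))
    rw [HomologicalComplex.exactAt_iff] at hres ⊢
    exact (ShortComplex.exact_map_iff_of_faithful _ (ModuleCat.restrictScalars β)).1 hres
  · have hcok := TorAmp.flat_coker hTflat a fun N => hvan N (a - 1) (Or.inl (by omega))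
    let Φ := DerSch.stalkFunctor (Spec A) (W.ι v) ⋙ ModuleCat.restrictScalars.{u} β
    let eD : Φ.obj (cokernel (tE.d (a - 1) a)) ≅
        ModuleCat.of _ (T.X a ⧸ LinearMap.range (T.d (a - 1) a).hom) :=
      PreservesCokernel.iso Φ (tE.d (a - 1) a) ≪≫ ModuleCat.cokernelIsoRangeQuotient _
    letI := FlatMod.moduleStalkOver f (cokernel (tE.d (a - 1) a)) (W.ι v)
    show FlatMod.IsFlatOverAt f _ (W.ι v)
    unfold FlatMod.IsFlatOverAt
    haveI := hcok
    exact Module.Flat.of_linearEquiv (R := (Spec R).presheaf.stalk (f.base (W.ι v)))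
      eD.toLinearEquiv

theorem amp_of_locRel (hα : φ.hom.Flat) (M : Dual.D A) (E : DRing.Cx A) (b : ℤ)
    (hb : DRing.VanishesAbove E b) (hE : DRing.TermwiseFiniteFree E) (eE : DRing.toD E ≅ M)
    (h : DCoh.LocHasFiniteRelTorDim (Spec.map φ)
      ((DCoh.tildeD A).obj M)) :
    DRing.HasFiniteTorDimCx R ((DRing.restrictD φ.hom).obj M) := by
  have hEflat : ∀ i, Module.Flat A (E.X i) := fun i => have := (hE i).2; inferInstance
  let tE : CochainComplex (Spec A).Modules ℤ :=
    ((tilde.functor A).mapHomologicalComplex (ComplexShape.up ℤ)).obj E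
  let eT : DerivedCategory.Q.obj tE ≅ (DCoh.tildeD A).obj M :=
    ((tilde.functor A).mapDerivedCategoryFactors.app E).symm ≪≫
      (DCoh.tildeD A).mapIso eE
  let f := Spec.map φ
  haveI : Flat f := (HasRingHomProperty.Spec_iff (P := @Flat)).2 hα
  choose V a₁ b₁ hzV hV using h
  obtain ⟨t, ht⟩ := isCompact_univ.elim_finite_subcover
    (fun z => (V z : Set (Spec A)))
    (fun z => (V z).2) (fun z _ => Set.mem_iUnion.2 ⟨z, hzV z⟩)
  obtain ⟨a, ha⟩ := (t.image a₁).bddBelow
  have key : ∀ x, (∀ i < a, ((StalkCx.stCx x).obj tE).ExactAt i) ∧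
      FlatMod.IsFlatOverAt f (cokernel (tE.d (a - 1) a)) x := fun x => by
    obtain ⟨w, hw, hxw⟩ : ∃ w ∈ t, x ∈ V w := by simpa using ht (Set.mem_univ x)
    exact at_point φ hα E b hb hE (V w) (a₁ w) (b₁ w) a (ha (Finset.mem_image_of_mem a₁ hw))
      (hV w tE ⟨eT⟩) x hxw
  have hex : ∀ i < a, E.ExactAt i := fun i hi => by
    have hz : IsZero (tE.homology i) := (HomologicalComplex.exactAt_iff_isZero_homology _ _).1
      ((SchemeTor.exactAt_iff_stalk tE i).2 fun y => (key y).1 i hi)
    refine (HomologicalComplex.exactAt_iff_isZero_homology _ _).2 ?_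
    have hz' := hz.of_iso ((MapHomology.cxIso (tilde.functor A) i).app E).symm
    rw [IsZero.iff_id_eq_zero]
    apply (tilde.functor A).map_injective
    rw [CategoryTheory.Functor.map_id, Functor.map_zero]
    exact (IsZero.iff_id_eq_zero _).1 hz'
  letI : Algebra R A := φ.hom.toAlgebra
  letI : Module R (E.X a) := Module.compHom (E.X a) φ.hom
  haveI : IsScalarTower R A (E.X a) := IsScalarTower.of_algebraMap_smul fun _ _ => rfl
  have hQ : Module.Flat R (E.X a ⧸ LinearMap.range (E.d (a - 1) a).hom) :=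
    (Groth.Agent.S2394.result R A _).1 (FlatBC.flatOver_of_iso _ (cokerIso E a) fun x => (key x).2)
  let T := (BaseChange.resCx φ.hom).obj E
  have hexT : ∀ i < a, T.ExactAt i := fun i hi =>
    ShortComplex.Exact.map (hex i hi) (ModuleCat.restrictScalars φ.hom)
  have : QuasiIso (Trunc.tauGEπ T a) := Trunc.quasiIso_tauGEπ T a hexT
  refine ⟨a, max a b, Trunc.tauGE T a, fun i hi => ?_, fun i => ?_,
    ⟨(asIso (DerivedCategory.Q.map (Trunc.tauGEπ T a))).symm ≪≫
      TensorAmp.restrictDIso φ.hom eE⟩⟩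
  · rcases hi with hi | hi
    · exact Trunc.tauGE_X_isZero T a hi
    · exact ((ModuleCat.restrictScalars φ.hom).map_isZero (hb i (by omega))).of_iso
        (Trunc.tauGE_XIso T a (by omega))
  · rcases lt_trichotomy i a with hi | rfl | hi
    · have := ModuleCat.subsingleton_of_isZero (Trunc.tauGE_X_isZero T a hi)
      infer_instance
    · haveI : Module.Flat R (T.X i ⧸ LinearMap.range (T.d (i - 1) i).hom) :=
        haveI := hQ
        (Module.Flat.of_linearEquiv (Submodule.Quotient.restrictScalarsEquiv R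
          (LinearMap.range (E.d (i - 1) i).hom)) :
          Module.Flat R (E.X i ⧸ (LinearMap.range (E.d (i - 1) i).hom).restrictScalars R))
      exact Module.Flat.of_linearEquiv (R := R)
        (Submodule.quotEquivOfEq _ _ (Trunc.killSub_eq_range T i))
    · haveI := flat_res φ.hom hα E hEflat i
      exact Module.Flat.of_linearEquiv (R := R) (Trunc.tauGE_XIso T a hi).toLinearEquiv

end Groth.Agent.S7264

namespace Groth.Agent.S7264

/-- (1) ⇔ (2) in the affine case to which the proof reduces: let R → A be flat and of finite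
presentation, f : X = Spec A ⟶ S = Spec R, M ∈ D(A) and E = M~ ∈ D(O_X) (tilde recorded as exact),
so that RΓ(X, E) = M. Then E is S-perfect (pseudo-coherent, and locally on X represented by a
bounded complex of O_X-modules flat over S) if and only if M is R-perfect (pseudo-coherent as a
complex of A-modules and of finite tor dimension as a complex of R-modules). -/
theorem result (R A : Type u) [CommRing R] [CommRing A] [Algebra R A]
    [Module.Flat R A] [Algebra.FinitePresentation R A]
    [PreservesFiniteLimits (tilde.functor (CommRingCat.of A))] (M : Dual.D A) :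
    ((∀ m : ℤ, DCoh.IsPseudoCoherentD m ((DCoh.tildeD (CommRingCat.of A)).obj M)) ∧
      DCoh.LocHasFiniteRelTorDim (Spec.map (CommRingCat.ofHom (algebraMap R A))) ((DCoh.tildeD (CommRingCat.of A)).obj M)) ↔
    Dual2.IsRelPerfect R A M := by
  have hα : (CommRingCat.ofHom (algebraMap R A)).hom.Flat := RingHom.flat_algebraMap_iff.2 ‹_›
  open Groth.Agent Groth.Agent.KFlat in
  constructor
  · rintro ⟨hpc, htor⟩
    have h' : DRing.IsPseudoCoherent' A M := (Groth.Agent.DRing.PC.pc'_iff M).2 fun m =>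
      TildePC.isPseudoCoherent_of_tildeD (A := CommRingCat.of A) M m (hpc m)
    obtain ⟨E, b, hb, hE, ⟨eE⟩⟩ := id h'
    exact ⟨h', Groth.Agent.S7264.amp_of_locRel (CommRingCat.ofHom (algebraMap R A)) hα M E b hb hE eE htor⟩
  · rintro ⟨h', a, b', h⟩
    obtain ⟨E, b, hb, hE, ⟨eE⟩⟩ := id h'
    exact ⟨fun m => TildePC.isPseudoCoherentD_tildeD (A := CommRingCat.of A) M m
      ((Groth.Agent.DRing.PC.pc'_iff M).1 h' m),
      Groth.Agent.S7264.locRel_of_amp (CommRingCat.ofHom (algebraMap R A)) hα M E b hb hE eE a b' h⟩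

end Groth.Agent.S7264
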