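import Groth.Statements.S7278
import Groth.Agent.S7264
import Groth.Agent.FibCodepth.FibFlat
import Groth.Agent.KFlat.PCNoeth
-- import your own Groth.Agent.* helpers here

set_option autoImplicit false
universe u
open CategoryTheory CategoryTheory.Limits AlgebraicGeometry Opposite
attribute [local instance] HasDerivedCategory.standard
open Perf

namespace Groth.Agent.S7278

open Groth.Agent Groth.Agent.KFlat
open Groth.Agent.PerfTri (Perfect.restrQ Perfect.restrComp)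
open Groth.Agent.PerfTri.Nullhom (resC)

variable {X W S T : Scheme.{u}}

theorem relAmp_of_iso {g : X ⟶ S} {a b : ℤ} {K L : DCoh.D X} (e : K ≅ L)
    (h : DCoh.HasRelFlatAmplitudeIn g a b K) : DCoh.HasRelFlatAmplitudeIn g a b L := by
  obtain ⟨E, h1, h2, ⟨e'⟩⟩ := h
  exact ⟨E, h1, h2, ⟨e' ≪≫ e⟩⟩

/-- Relative flat amplitude restricts along open immersions of the source. -/
theorem relAmp_restrict {g : X ⟶ S} {a b : ℤ} {K : DCoh.D X} (t : W ⟶ X) [IsOpenImmersion t]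
    (h : DCoh.HasRelFlatAmplitudeIn g a b K) :
    DCoh.HasRelFlatAmplitudeIn (t ≫ g) a b ((DCoh.restrictD t).obj K) := by
  obtain ⟨E, h1, h2, ⟨e⟩⟩ := h
  refine ⟨(resC t).obj E, fun i hi => (Scheme.Modules.restrictFunctor t).map_isZero (h1 i hi),
    fun i z => ?_, ⟨(Perfect.restrQ t E).symm ≪≫ (DCoh.restrictD t).mapIso e⟩⟩
  exact (CBC.isFlatOverAt_congr_iso _ ((Scheme.Modules.restrictFunctorIsoPullback t).app _) z).2
    ((FDesc.Stalk.flatOverAt_pullback_iff t g _ z (Flat.stalkMap t z)).2 (h2 i (t z)))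

/-- Relative flat amplitude does not see open immersions of the base. -/
theorem relAmp_comp_iff {g : X ⟶ T} (k : T ⟶ S) [IsOpenImmersion k] {a b : ℤ} {K : DCoh.D X} :
    DCoh.HasRelFlatAmplitudeIn (g ≫ k) a b K ↔ DCoh.HasRelFlatAmplitudeIn g a b K := by
  constructor <;> rintro ⟨E, h1, h2, he⟩ <;> refine ⟨E, h1, fun i z => ?_, he⟩
  · exact (FibCodepth.isFlatOverAt_comp_iff g k _ z).1 (h2 i z)
  · exact (FibCodepth.isFlatOverAt_comp_iff g k _ z).2 (h2 i z)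

variable {f : X ⟶ S} {g : W ⟶ T} {j : W ⟶ X} {k : T ⟶ S} [IsOpenImmersion j] [IsOpenImmersion k]

/-- Finite relative tor dimension passes to open pieces. -/
theorem locRel_restrict (w : g ≫ k = j ≫ f) {K : DCoh.D X} (h : DCoh.LocHasFiniteRelTorDim f K) :
    DCoh.LocHasFiniteRelTorDim g ((DCoh.restrictD j).obj K) := fun p => by
  obtain ⟨V, a, b, hx, hV⟩ := h (j p)
  refine ⟨j ⁻¹ᵁ V, a, b, hx, fun F' ⟨eF⟩ => ?_⟩
  let t := j.resLE V (j ⁻¹ᵁ V) le_rfl
  have ht : t ≫ V.ι = (j ⁻¹ᵁ V).ι ≫ j := Scheme.Hom.resLE_comp_ι _ _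
  have : IsOpenImmersion (t ≫ V.ι) := by rw [ht]; infer_instance
  have : IsOpenImmersion t := IsOpenImmersion.of_comp t V.ι
  have h0 := relAmp_restrict t (relAmp_of_iso ((Perfect.restrQ V.ι _).symm ≪≫
    (DCoh.restrictD V.ι).mapIso (DerivedCategory.Q.objObjPreimageIso K))
    (hV _ ⟨DerivedCategory.Q.objObjPreimageIso K⟩))
  have e : t ≫ V.ι ≫ f = ((j ⁻¹ᵁ V).ι ≫ g) ≫ k := by
    rw [← Category.assoc, ht, Category.assoc, Category.assoc, w]
  rw [e] at h0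
  exact relAmp_of_iso (Perfect.restrComp t V.ι ((j ⁻¹ᵁ V).ι ≫ j) ht K ≪≫
    (Perfect.restrComp (j ⁻¹ᵁ V).ι j _ rfl K).symm ≪≫ (DCoh.restrictD (j ⁻¹ᵁ V).ι).mapIso eF.symm ≪≫
    Perfect.restrQ _ F') ((relAmp_comp_iff k).1 h0)

/-- Finite relative tor dimension on an open piece gives it near its points. -/
theorem locRel_of_piece (w : g ≫ k = j ≫ f) {K : DCoh.D X}
    (h : DCoh.LocHasFiniteRelTorDim g ((DCoh.restrictD j).obj K)) (p : W) :
    ∃ (V : X.Opens) (a b : ℤ), j p ∈ V ∧ ∀ F' : CochainComplex X.Modules ℤ,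
      Nonempty (DCoh.toD X F' ≅ K) → DCoh.HasRelFlatAmplitudeIn (V.ι ≫ f) a b
        (DerivedCategory.Q.obj ((DCoh.restrictCx V).obj F')) := by
  obtain ⟨V, a, b, hp, hV⟩ := h p
  refine ⟨j ''ᵁ V, a, b, ⟨p, hp, rfl⟩, fun F' ⟨eF⟩ => ?_⟩
  have hr : Set.range (j ''ᵁ V).ι ⊆ Set.range (V.ι ≫ j) := by
    rintro _ ⟨⟨_, q, hq, rfl⟩, rfl⟩
    exact ⟨⟨q, hq⟩, rfl⟩
  let t := IsOpenImmersion.lift (V.ι ≫ j) (j ''ᵁ V).ι hr
  have ht : t ≫ V.ι ≫ j = (j ''ᵁ V).ι := IsOpenImmersion.lift_fac _ _ hr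
  have h0 := relAmp_restrict t ((relAmp_comp_iff k).2 (relAmp_of_iso ((Perfect.restrQ V.ι _).symm ≪≫
    (DCoh.restrictD V.ι).mapIso (DerivedCategory.Q.objObjPreimageIso _))
    (hV _ ⟨DerivedCategory.Q.objObjPreimageIso _⟩)))
  have e : t ≫ (V.ι ≫ g) ≫ k = (j ''ᵁ V).ι ≫ f := by
    rw [Category.assoc, w, ← ht]; simp only [Category.assoc]
  rw [e] at h0
  exact relAmp_of_iso ((DCoh.restrictD t).mapIso (Perfect.restrComp V.ι j _ rfl K) ≪≫
    Perfect.restrComp t (V.ι ≫ j) (j ''ᵁ V).ι ht K ≪≫ (DCoh.restrictD (j ''ᵁ V).ι).mapIso eF.symm ≪≫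
    Perfect.restrQ _ F') h0

/-- The affine criterion on a chart. -/
theorem chart_iff (f : X ⟶ S) [Flat f] [LocallyOfFinitePresentation f]
    [∀ R : CommRingCat.{u}, PreservesFiniteLimits (tilde.functor R)]
    {U : X.Opens} (hU : IsAffineOpen U) {V : S.Opens} (hV : IsAffineOpen V) (hUV : U ≤ f ⁻¹ᵁ V)
    (E : DCoh.D X) (M : DerivedCategory (ModuleCat.{u} Γ(X, U)))
    (e : (DCoh.restrictD hU.fromSpec).obj E ≅ (DCoh.tildeD Γ(X, U)).obj M) :
    ((∀ m : ℤ, DCoh.IsPseudoCoherentD m ((DCoh.restrictD hU.fromSpec).obj E)) ∧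
      DCoh.LocHasFiniteRelTorDim (Spec.map (f.appLE V U hUV)) ((DCoh.restrictD hU.fromSpec).obj E)) ↔
    @Dual2.IsRelPerfect Γ(S, V) Γ(X, U) _ _ (f.appLE V U hUV).hom.toAlgebra M := by
  letI := (f.appLE V U hUV).hom.toAlgebra
  haveI : Module.Flat Γ(S, V) Γ(X, U) := HasRingHomProperty.appLE @Flat f ‹_› ⟨V, hV⟩ ⟨U, hU⟩ hUV
  haveI : Algebra.FinitePresentation Γ(S, V) Γ(X, U) := f.finitePresentation_appLE hV hU hUV
  haveI : PreservesFiniteLimits (tilde.functor (CommRingCat.of Γ(X, U))) :=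
    ‹∀ R : CommRingCat.{u}, PreservesFiniteLimits (tilde.functor R)› _
  refine Iff.trans ?_ (Groth.Agent.S7264.result Γ(S, V) Γ(X, U) M)
  constructor
  · rintro ⟨h1, h2⟩
    refine ⟨fun m => PCohD.pc_of_iso e (h1 m), fun x => ?_⟩
    obtain ⟨O, a, b, hx, hO⟩ := h2 x
    exact ⟨O, a, b, hx, fun F' ⟨eF⟩ => hO F' ⟨eF ≪≫ e.symm⟩⟩
  · rintro ⟨h1, h2⟩
    refine ⟨fun m => PCohD.pc_of_iso e.symm (h1 m), fun x => ?_⟩
    obtain ⟨O, a, b, hx, hO⟩ := h2 x
    exact ⟨O, a, b, hx, fun F' ⟨eF⟩ => hO F' ⟨eF ≪≫ e⟩⟩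

end Groth.Agent.S7278

namespace Groth.Agent.S7278

/-- Let f : X ⟶ S be flat and locally of finite presentation and E an object of D(O_X) with
quasi-coherent cohomology sheaves (tilde recorded as exact). For affine opens U ⊆ X and V ⊆ S with
f(U) ⊆ V, say that E is algebraically perfect on U over V when every M ∈ D(Γ(U, O_X)) whose
associated object M~ on Spec Γ(U, O_X) is isomorphic to the restriction E|_U (transported along U ≅
Spec Γ(U, O_X)) is Γ(V, O_S)-perfect: pseudo-coherent as a complex of Γ(U, O_X)-modules and of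
finite tor dimension over Γ(V, O_S) through f^♯ (such M exist and are unique up to isomorphism,
namely RΓ(U, E)). Then: E is S-perfect (pseudo-coherent, and locally on X represented by a bounded
complex of O_X-modules flat over S) if and only if E is algebraically perfect on every affine open U
over every affine open V with U ⊆ f⁻¹V; and E is S-perfect as soon as this holds for the members
U_ij of affine open coverings f⁻¹V_i = ⋃ U_ij attached to an affine open covering S = ⋃ V_i. -/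
theorem result {X S : Scheme.{u}} (f : X ⟶ S) [Flat f] [LocallyOfFinitePresentation f]
    [∀ R : CommRingCat.{u}, PreservesFiniteLimits (tilde.functor R)]
    (E : DCoh.D X) (hE : DCoh.IsQCohD E) :
    (((∀ m : ℤ, DCoh.IsPseudoCoherentD m E) ∧ DCoh.LocHasFiniteRelTorDim f E) ↔
      ∀ (U : X.Opens) (hU : IsAffineOpen U) (V : S.Opens) (hV : IsAffineOpen V) (hUV : U ≤ f ⁻¹ᵁ V)
        (M : DerivedCategory (ModuleCat.{u} Γ(X, U))),
        Nonempty ((DCoh.restrictD hU.isoSpec.inv).obj ((DCoh.restrictD U.ι).obj E) ≅ (DCoh.tildeD Γ(X, U)).obj M) →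
          @Dual2.IsRelPerfect Γ(S, V) Γ(X, U) _ _ (f.appLE V U hUV).hom.toAlgebra M) ∧
    (∀ (ι : Type u) (V : ι → S.Opens) (hV : ∀ i, IsAffineOpen (V i)) (hVcov : ⨆ i, V i = ⊤)
        (κ : ι → Type u) (U : ∀ i, κ i → X.Opens) (hU : ∀ i j, IsAffineOpen (U i j))
        (hUV : ∀ i j, U i j ≤ f ⁻¹ᵁ V i) (hUcov : ∀ i, ⨆ j, U i j = f ⁻¹ᵁ V i),
        (∀ (i : ι) (j : κ i) (M : DerivedCategory (ModuleCat.{u} Γ(X, U i j))),
          Nonempty ((DCoh.restrictD (hU i j).isoSpec.inv).obj ((DCoh.restrictD (U i j).ι).obj E) ≅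
              (DCoh.tildeD Γ(X, U i j)).obj M) →
            @Dual2.IsRelPerfect Γ(S, V i) Γ(X, U i j) _ _ (f.appLE (V i) (U i j) (hUV i j)).hom.toAlgebra M) →
        (∀ m : ℤ, DCoh.IsPseudoCoherentD m E) ∧ DCoh.LocHasFiniteRelTorDim f E) := by
  open Groth.Agent Groth.Agent.KFlat in
  have hiso : ∀ (U : X.Opens) (hU : IsAffineOpen U),
      Nonempty ((DCoh.restrictD hU.isoSpec.inv).obj ((DCoh.restrictD U.ι).obj E) ≅
        (DCoh.restrictD hU.fromSpec).obj E) := fun U hU =>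
    ⟨PerfTri.Perfect.restrComp hU.isoSpec.inv U.ι hU.fromSpec hU.isoSpec_inv_ι E⟩
  refine ⟨⟨fun h U hU V hV hUV M ⟨eM⟩ => ?_, fun h => ?_⟩, fun ι V hV hVcov κ U hU hUV hUcov h => ?_⟩
  · obtain ⟨ei⟩ := hiso U hU
    exact (Groth.Agent.S7278.chart_iff f hU hV hUV E M (ei.symm ≪≫ eM)).1
      ⟨fun m => PCohD.pc_restrict _ (h.1 m),
        Groth.Agent.S7278.locRel_restrict (IsAffineOpen.SpecMap_appLE_fromSpec f hV hU hUV) h.2⟩
  · have hloc : ∀ x : X, ∃ (U : X.Opens) (hU : IsAffineOpen U) (V : S.Opens) (_ : IsAffineOpen V)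
        (hUV : U ≤ f ⁻¹ᵁ V), x ∈ U := fun x => by
      obtain ⟨V, hV, hxV, -⟩ := exists_isAffineOpen_mem_and_subset (TopologicalSpace.Opens.mem_top (f x))
      obtain ⟨U, hU, hxU, hUV⟩ := exists_isAffineOpen_mem_and_subset
        (x := x) (U := f ⁻¹ᵁ V) hxV
      exact ⟨U, hU, V, hV, hUV, hxU⟩
    choose U hU V hV hUV hxU using hloc
    have key : ∀ x : X, (∀ m : ℤ, DCoh.IsPseudoCoherentD m ((DCoh.restrictD (hU x).fromSpec).obj E)) ∧
        DCoh.LocHasFiniteRelTorDim (Spec.map (f.appLE (V x) (U x) (hUV x)))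
          ((DCoh.restrictD (hU x).fromSpec).obj E) := fun x => by
      obtain ⟨M, ⟨eM⟩⟩ := Groth.Agent.KFlat.TildeD.exists_iso_of_isQCohD (R := Γ(X, U x)) _
        (Groth.Agent.KFlat.PCNoeth.isQCohD_restrictD (hU x).fromSpec hE)
      obtain ⟨ei⟩ := hiso _ (hU x)
      exact (Groth.Agent.S7278.chart_iff f (hU x) (hV x) (hUV x) E M eM.symm).2
        (h _ (hU x) _ (hV x) (hUV x) M ⟨ei ≪≫ eM.symm⟩)
    refine ⟨fun m => PCohD.pc_of_local fun x => ⟨_, (hU x).fromSpec, inferInstance,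
      by rw [(hU x).range_fromSpec]; exact hxU x, (key x).1 m⟩, fun x => ?_⟩
    obtain ⟨p, hp⟩ : ∃ p, (hU x).fromSpec p = x := by
      rw [← Set.mem_range, (hU x).range_fromSpec]; exact hxU x
    have := Groth.Agent.S7278.locRel_of_piece
      (IsAffineOpen.SpecMap_appLE_fromSpec f (hV x) (hU x) (hUV x)) (key x).2 p
    rwa [hp] at this
  · have hloc : ∀ x : X, ∃ (i : ι) (j : κ i), x ∈ U i j := fun x => by
      obtain ⟨i, hi⟩ := TopologicalSpace.Opens.mem_iSup.1 (hVcov ▸ TopologicalSpace.Opens.mem_top (f x))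
      obtain ⟨j, hj⟩ := TopologicalSpace.Opens.mem_iSup.1 ((hUcov i).symm ▸ (show x ∈ f ⁻¹ᵁ V i from hi))
      exact ⟨i, j, hj⟩
    choose i j hxU using hloc
    have key : ∀ x : X, (∀ m : ℤ,
          DCoh.IsPseudoCoherentD m ((DCoh.restrictD (hU (i x) (j x)).fromSpec).obj E)) ∧
        DCoh.LocHasFiniteRelTorDim (Spec.map (f.appLE (V (i x)) (U (i x) (j x)) (hUV (i x) (j x))))
          ((DCoh.restrictD (hU (i x) (j x)).fromSpec).obj E) := fun x => by
      obtain ⟨M, ⟨eM⟩⟩ := Groth.Agent.KFlat.TildeD.exists_iso_of_isQCohD (R := Γ(X, U (i x) (j x))) _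
        (Groth.Agent.KFlat.PCNoeth.isQCohD_restrictD (hU (i x) (j x)).fromSpec hE)
      obtain ⟨ei⟩ := hiso _ (hU (i x) (j x))
      exact (Groth.Agent.S7278.chart_iff f (hU (i x) (j x)) (hV (i x)) (hUV (i x) (j x)) E M eM.symm).2
        (h (i x) (j x) M ⟨ei ≪≫ eM.symm⟩)
    refine ⟨fun m => PCohD.pc_of_local fun x => ⟨_, (hU (i x) (j x)).fromSpec, inferInstance,
      by rw [(hU (i x) (j x)).range_fromSpec]; exact hxU x, (key x).1 m⟩, fun x => ?_⟩
    obtain ⟨p, hp⟩ : ∃ p, (hU (i x) (j x)).fromSpec p = x := by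
      rw [← Set.mem_range, (hU (i x) (j x)).range_fromSpec]; exact hxU x
    have := Groth.Agent.S7278.locRel_of_piece
      (IsAffineOpen.SpecMap_appLE_fromSpec f (hV (i x)) (hU (i x) (j x)) (hUV (i x) (j x))) (key x).2 p
    rwa [hp] at this

end Groth.Agent.S7278
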