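import Groth.Statements.S7249
import Groth.Agent.S7278
import Groth.Agent.KFlat.TensorTestPC
import Groth.Agent.KFlat.PerfectTensor
import Groth.Agent.KFlat.RpushTensor
-- import your own Groth.Agent.* helpers here

set_option autoImplicit false
universe u
open CategoryTheory CategoryTheory.Limits AlgebraicGeometry
attribute [local instance] HasDerivedCategory.standard
open Perf

namespace Groth.Agent.S7249

open Groth.Agent Groth.Agent.KFlat Groth.Agent.KFlat.Pull Pretriangulated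
open Groth.Agent.PerfTri (Perfect.restrQ Perfect.restrComp)

variable {X Y : Scheme.{u}}

/-- Finite sums of modules flat over the base are flat over the base. -/
theorem flatOver_sigma (g : X ⟶ Y) {ι : Type} (F : ι → X.Modules) (s : Finset ι)
    (hz : ∀ i, i ∉ s → IsZero (F i)) (h : ∀ i, FlatMod.IsFlatOver g (F i)) :
    FlatMod.IsFlatOver g (∐ F) := by
  classical
  refine FlatBC.flatOver_of_iso g (TensorLocFree.sigmaSupportIso F (· ∈ s) hz).symm fun x => ?_
  haveI : PreservesFiniteColimits (DerSch.stalkOver g x) :=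
    comp_preservesFiniteColimits (DerSch.stalkFunctor X x) (ModuleCat.restrictScalars (g.stalkMap x).hom)
  haveI : ∀ i : {i // i ∈ s}, Module.Flat (Y.presheaf.stalk (g.base x)) ((DerSch.stalkOver g x).obj (F i.1)) :=
    fun i => h i.1 x
  letI := FlatMod.moduleStalkOver g (∐ fun i : {i // i ∈ s} => F i.1) x
  let e := PreservesCoproduct.iso (DerSch.stalkOver g x) (fun i : {i // i ∈ s} => F i.1) ≪≫
    ModuleCat.coprodIsoDirectSum _
  show Module.Flat (Y.presheaf.stalk (g.base x)) ((∐ fun i : {i // i ∈ s} => F i.1).presheaf.stalk x)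
  exact Module.Flat.of_linearEquiv (R := Y.presheaf.stalk (g.base x)) e.toLinearEquiv

/-- The tensor product of a strictly perfect complex and a bounded complex flat over the base. -/
theorem relAmp_tensor (g : X ⟶ Y) {S E : CochainComplex X.Modules ℤ} (hS : DCoh.IsStrictlyPerfect S)
    {c d : ℤ} (hv : DCoh.VanishesOutside E c d) (hE : ∀ i, FlatMod.IsFlatOver g (E.X i)) :
    ∃ a b : ℤ, DCoh.HasRelFlatAmplitudeIn g a b (DerivedCategory.Q.obj ((DCoh.tensorCx.obj S).obj E)) := by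
  classical
  obtain ⟨⟨a, b, hu⟩, hSf⟩ := hS
  let I := fun n : ℤ => {i : ℤ × ℤ //
    ComplexShape.π (ComplexShape.up ℤ) (ComplexShape.up ℤ) (ComplexShape.up ℤ) i = n}
  let F := fun n (i : I n) => ((DCoh.tensorBi (X := X)).obj (S.X i.1.1)).obj (E.X i.1.2)
  have hz : ∀ n (i : I n), (i.1.1 < a ∨ b < i.1.1) ∨ (i.1.2 < c ∨ d < i.1.2) → IsZero (F n i) := by
    rintro n i (h | h)
    · exact ((DCoh.tensorBi (X := X)).flip.obj (E.X i.1.2)).map_isZero (hu _ h)
    · exact ((DCoh.tensorBi (X := X)).obj (S.X i.1.1)).map_isZero (hv _ h)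
  let s : ∀ n, Finset (I n) := fun n => (Finset.Icc a b ×ˢ Finset.Icc c d).subtype _
  have key : ∀ n, FlatMod.IsFlatOver g (∐ F n) := fun n =>
    flatOver_sigma g (F n) (s n) (fun i hi => hz n i (by
      by_contra hc
      refine hi (Finset.mem_subtype.2 (Finset.mem_product.2 ⟨Finset.mem_Icc.2 ?_, Finset.mem_Icc.2 ?_⟩)) <;>
        omega)) fun i x =>
      RpushTensor.flat_stalkOver_tensor g (LocalD.flat_of_isFinLocFree (hSf i.1.1)) (hE i.1.2) x
  refine ⟨a + c, b + d, (DCoh.tensorCx.obj S).obj E, fun n hn => ?_, fun n => key n, ⟨Iso.refl _⟩⟩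
  change IsZero (∐ F n)
  rw [IsZero.iff_id_eq_zero]
  refine Sigma.hom_ext _ _ fun i => (hz n i ?_).eq_of_src _ _
  have : i.1.1 + i.1.2 = n := i.2
  omega

theorem isPerfect_Q_of_sp {E : CochainComplex X.Modules ℤ} (hE : DCoh.IsStrictlyPerfect E) :
    DCoh.IsPerfect (DerivedCategory.Q.obj E) :=
  (PerfTri.Perfect.near_iff _).mpr fun x => ⟨X, 𝟙 X, inferInstance, ⟨x, rfl⟩,
    PerfTri.Perfect.isSP_restrict_hom ⟨E, hE, ⟨Iso.refl _⟩⟩ (𝟙 X)⟩

/-- Tensoring with a strictly perfect complex an object with a strictly perfect approximation. -/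
theorem pc_tensor_of_isAp (G L : CochainComplex X.Modules ℤ) (hG : DCoh.IsStrictlyPerfect G) (b : ℤ)
    (hb : ∀ i, b < i → IsZero (G.X i)) (m : ℤ) (h : PCohD.IsAp (m - b) (DerivedCategory.Q.obj L)) :
    DCoh.IsPseudoCoherentD m (DerivedCategory.Q.obj ((DCoh.tensorCx.obj L).obj G)) := by
  obtain ⟨E, α, hE, hα⟩ := h
  obtain ⟨C, β, γ, hT⟩ := distinguished_cocone_triangle α
  have hC : C.IsLE (m - b - 1) := (DerivedCategory.isLE_iff C _).2 fun i hi => by
    have hepi := PCohD.appr_epi hα (show m - b ≤ i by omega)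
    have := hα.1 (i + 1) (by omega)
    refine (DerivedCategory.HomologySequence.exact₃ _ hT i (i + 1) rfl).isZero_of_both_zeros ?_ ?_
    · exact (DerivedCategory.HomologySequence.epi_homologyMap_mor₁_iff _ hT i).1 hepi
    · exact (DerivedCategory.HomologySequence.mono_homologyMap_mor₁_iff _ hT i (i + 1) rfl).1
        (inferInstanceAs (Mono ((DerivedCategory.homologyFunctor _ (i + 1)).map α)))
  have hT' := inv_rot_of_distTriang _ hT
  obtain ⟨A, A', r, ⟨w⟩⟩ := TorTriangle.exists_kflat_cone _ hT'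
  have hGK : DCoh.IsKFlat G := LocalD.isKFlat_of_isStrictlyPerfect hG
  have := LTensor.hasLTensorCx G
  let S₀ := (CochainComplex.mappingCone.triangleRotateShortComplex r).map ((DCoh.tensorCx (X := X)).flip.obj G)
  have hS : S₀.ShortExact := Groth.Agent.KFlat.shortExact_tens_flip (O := X.sheaf)
    (CochainComplex.mappingCone.triangleRotateShortComplexSplitting r) G
  let i₁ := Triangle.π₁.mapIso w
  let i₂ : DerivedCategory.Q.obj A'.1 ≅ DerivedCategory.Q.obj E := Triangle.π₂.mapIso w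
  let i₃ : DerivedCategory.Q.obj (CochainComplex.mappingCone r) ≅ DerivedCategory.Q.obj L :=
    Triangle.π₃.mapIso w
  let k : DerivedCategory.Q.obj (A.1⟦(1 : ℤ)⟧) ≅ C :=
    (DerivedCategory.Q.commShiftIso (1 : ℤ)).app A.1 ≪≫ (shiftFunctor (DCoh.D X) (1 : ℤ)).mapIso i₁ ≪≫
      (shiftEquiv (DCoh.D X) (1 : ℤ)).counitIso.app C
  have t : ∀ K : CochainComplex X.Modules ℤ, Nonempty ((DCoh.LTensorCx G).obj (DerivedCategory.Q.obj K) ≅
      DerivedCategory.Q.obj ((DCoh.tensorCx.obj K).obj G)) := fun K =>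
    ⟨@asIso _ _ _ _ ((LTensor.toTensor G).app K) (LTensor.isIso_toTensor_of_kflat G hGK K)⟩
  obtain ⟨t₀⟩ := t L
  obtain ⟨t₁⟩ := t A'.1
  obtain ⟨t₂⟩ := t (CochainComplex.mappingCone r)
  obtain ⟨t₃⟩ := t (A.1⟦(1 : ℤ)⟧)
  refine PCohD.pc_of_iso (t₂.symm ≪≫ (DCoh.LTensorCx G).mapIso i₃ ≪≫ t₀) ?_
  refine PCohD.pc₂ _ (DerivedCategory.triangleOfSES_distinguished hS)
    (PCohD.pc_of_iso ((DCoh.LTensorCx G).mapIso i₂.symm ≪≫ t₁)
      (PCohD.pc_of_perfect (PerfectTensor.isPerfect_LTensor G hGK (isPerfect_Q_of_sp hG) (isPerfect_Q_of_sp hE)) m))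
    (PCohD.pc_of_iso ((DCoh.LTensorCx G).mapIso k.symm ≪≫ t₃) ?_)
  have hle : ((DCoh.LTensorCx G).obj C).IsLE (m - b - 1 + b) := TensorTest.isLE_LTensor G b hb C _
  exact PCohD.pc_of_vanish fun i hi => DerivedCategory.isZero_of_isLE _ (m - b - 1 + b) i (by omega)

/-- Tensoring a pseudo-coherent complex with a strictly perfect one. -/
theorem pc_tensor (G L : CochainComplex X.Modules ℤ) (hG : DCoh.IsStrictlyPerfect G)
    (hL : ∀ m : ℤ, DCoh.IsPseudoCoherentD m (DerivedCategory.Q.obj L)) (m : ℤ) :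
    DCoh.IsPseudoCoherentD m (DerivedCategory.Q.obj ((DCoh.tensorCx.obj G).obj L)) := by
  obtain ⟨⟨a, b, hv⟩, -⟩ := id hG
  refine PCohD.pc_of_iso (DerivedCategory.Q.mapIso (PerfectTensor.flipIso L G)) (PCohD.pc_of_local fun x => ?_)
  obtain ⟨U, j, hj, hx, hA⟩ := (PCohD.pc_iff _).1 (hL (m - b)) x
  refine ⟨U, j, hj, hx, ?_⟩
  let e := Perfect.restrQ j ((DCoh.tensorCx.obj L).obj G) ≪≫ DerivedCategory.Q.mapIso
    ((QCohModel.restrJIso j).app _ ≪≫ PullTensor.pullTensorCxIso j L G)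
  refine PCohD.pc_of_iso e.symm (pc_tensor_of_isAp _ _ (LocFree.isStrictlyPerfect_pullCx j hG) b
    (fun i hi => (Scheme.Modules.pullback j).map_isZero (hv i (Or.inr hi))) m
    (PCohD.isAp_of_iso (Perfect.restrQ j L ≪≫ DerivedCategory.Q.mapIso ((QCohModel.restrJIso j).app L)) hA))

variable (f : X ⟶ Y)

theorem main (P L : CochainComplex X.Modules ℤ) (hP : DCoh.IsKFlat P) (hL : DCoh.IsKFlat L)
    (hPp : DCoh.IsPerfect (DerivedCategory.Q.obj P))
    (hLpc : ∀ m : ℤ, DCoh.IsPseudoCoherentD m (DerivedCategory.Q.obj L))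
    (hLtor : DCoh.LocHasFiniteRelTorDim f (DerivedCategory.Q.obj L)) :
    (∀ m : ℤ, DCoh.IsPseudoCoherentD m (DerivedCategory.Q.obj ((DCoh.tensorCx.obj P).obj L))) ∧
      DCoh.LocHasFiniteRelTorDim f (DerivedCategory.Q.obj ((DCoh.tensorCx.obj P).obj L)) := by
  have key : ∀ x : X, ∃ (W : X.Opens) (S : CochainComplex (W : Scheme.{u}).Modules ℤ), x ∈ W ∧
      DCoh.IsStrictlyPerfect S ∧ Nonempty (DerivedCategory.Q.obj ((DCoh.restrictCx W).obj
          ((DCoh.tensorCx.obj P).obj L)) ≅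
        DerivedCategory.Q.obj ((DCoh.tensorCx.obj S).obj ((DCoh.restrictCx W).obj L))) ∧
      ∃ a b : ℤ, DCoh.HasRelFlatAmplitudeIn (W.ι ≫ f) a b
        (DerivedCategory.Q.obj ((DCoh.restrictCx W).obj L)) := fun x => by
    obtain ⟨U, hU, hF⟩ := hPp x
    obtain ⟨S, hS, ⟨e⟩⟩ := hF P ⟨Iso.refl _⟩
    obtain ⟨U', a, b, hU', hF'⟩ := hLtor x
    have hL' := hF' L ⟨Iso.refl _⟩
    obtain ⟨e'⟩ := PerfectTensor.model_mono (inf_le_left : U ⊓ U' ≤ U) hP hS e
    have hT := LocFree.isStrictlyPerfect_pullCx (X.homOfLE (inf_le_left : U ⊓ U' ≤ U)) hS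
    refine ⟨U ⊓ U', _, ⟨hU, hU'⟩, hT, ⟨DerivedCategory.Q.mapIso ((FlatPull.restrictCxIso _).app _ ≪≫
        PullTensor.pullTensorCxIso (U ⊓ U').ι P L ≪≫
        (DCoh.tensorCx.mapIso ((FlatPull.restrictCxIso _).app P).symm).app _ ≪≫
        (DCoh.tensorCx.obj _).mapIso ((FlatPull.restrictCxIso _).app L).symm) ≪≫
      PerfectTensor.tensorQIso _ (LocalD.isKFlat_restrict hP _) (LocalD.isKFlat_of_isStrictlyPerfect hT) e'⟩,
      a, b, ?_⟩
    have h0 := S7278.relAmp_restrict (X.homOfLE (inf_le_right : U ⊓ U' ≤ U'))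
      (S7278.relAmp_of_iso (Perfect.restrQ U'.ι L).symm hL')
    rw [← Category.assoc, X.homOfLE_ι] at h0
    exact S7278.relAmp_of_iso (Perfect.restrComp _ U'.ι (U ⊓ U').ι (X.homOfLE_ι _) _ ≪≫
      Perfect.restrQ _ L) h0
  refine ⟨fun m => PCohD.pc_of_local fun x => ?_, fun x => ?_⟩
  · obtain ⟨W, S, hx, hS, ⟨e⟩, -⟩ := key x
    exact ⟨W, W.ι, inferInstance, ⟨⟨x, hx⟩, rfl⟩, PCohD.pc_of_iso ((Perfect.restrQ W.ι _) ≪≫ e).symm
      (pc_tensor S _ hS (fun k => PCohD.pc_of_iso (Perfect.restrQ W.ι L) (PCohD.pc_restrict W.ι (hLpc k))) m)⟩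
  · obtain ⟨W, S, hx, hS, ⟨e⟩, c, d, E', hv, hfl, ⟨e'⟩⟩ := key x
    obtain ⟨a, b, hab⟩ := relAmp_tensor (W.ι ≫ f) hS hv hfl
    obtain ⟨e''⟩ := QCohTensor.exists_tensor_iso (LocalD.isKFlat_of_isStrictlyPerfect hS) e'
    refine ⟨W, a, b, hx, fun F' ⟨eF⟩ => S7278.relAmp_of_iso (e'' ≪≫ e.symm ≪≫
      LocalD.restrictQIso W eF.symm) hab⟩

end Groth.Agent.S7249

namespace Groth.Agent.S7249

/-- Let f : X ⟶ S be flat and locally of finite presentation, K a perfect object of D(O_X), and M a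
cochain complex of O_X-modules whose image in D(O_X) is S-perfect (pseudo-coherent, and locally on X
represented by a bounded complex of O_X-modules flat over S). Assuming the derived functor - ⊗^L M
exists, K ⊗^L_{O_X} M is S-perfect. -/
theorem result {X S : Scheme.{u}} (f : X ⟶ S) [Flat f] [LocallyOfFinitePresentation f]
    (K : DCoh.D X) (hK : DCoh.IsPerfect K) (M : CochainComplex X.Modules ℤ)
    (hMpc : ∀ m : ℤ, DCoh.IsPseudoCoherentD m (DCoh.toD X M)) (hMtor : DCoh.LocHasFiniteRelTorDim f (DCoh.toD X M))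
    [DCoh.HasLTensorCx M] :
    (∀ m : ℤ, DCoh.IsPseudoCoherentD m ((DCoh.LTensorCx M).obj K)) ∧
      DCoh.LocHasFiniteRelTorDim f ((DCoh.LTensorCx M).obj K) := by
  open Groth.Agent Groth.Agent.KFlat Groth.Agent.KFlat.Pull in
  let F₀ := DerivedCategory.Q.objPreimage K
  have := quasiIso_resYπ F₀
  have := quasiIso_resYπ M
  let P := (resY X).obj F₀
  let L := (resY X).obj M
  have hP : DCoh.IsKFlat P := isKFlat_resY F₀
  have hL : DCoh.IsKFlat L := isKFlat_resY M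
  have := LTensor.hasLTensorCx L
  let eP : DCoh.toD X P ≅ K :=
    asIso (DerivedCategory.Q.map ((resYπ X).app F₀)) ≪≫ DerivedCategory.Q.objObjPreimageIso K
  let eL : DerivedCategory.Q.obj M ≅ DerivedCategory.Q.obj L :=
    (asIso (DerivedCategory.Q.map ((resYπ X).app M))).symm
  obtain ⟨eC⟩ := TensorTest.nonempty_LTensor_congr M L eL K
  let e : DerivedCategory.Q.obj ((DCoh.tensorCx.obj P).obj L) ≅ (DCoh.LTensorCx M).obj K :=
    (@asIso _ _ _ _ ((LTensor.toTensor L).app P) (LTensor.isIso_toTensor L hP)).symm ≪≫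
      (DCoh.LTensorCx L).mapIso eP ≪≫ eC.symm
  obtain ⟨h1, h2⟩ := Groth.Agent.S7249.main f P L hP hL
    (PerfTri.Perfect.isPerfect_of_iso eP.symm hK) (fun m => PCohD.pc_of_iso eL (hMpc m)) (fun x => by
      obtain ⟨V, a, b, hx, hV⟩ := hMtor x
      exact ⟨V, a, b, hx, fun F' ⟨eF⟩ => hV F' ⟨eF ≪≫ eL.symm⟩⟩)
  refine ⟨fun m => PCohD.pc_of_iso e (h1 m), fun x => ?_⟩
  obtain ⟨V, a, b, hx, hV⟩ := h2 x
  exact ⟨V, a, b, hx, fun F' ⟨eF⟩ => hV F' ⟨eF ≪≫ e.symm⟩⟩

end Groth.Agent.S7249
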