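import Groth.Statements.S7250
import Groth.Agent.S1101
import Groth.Agent.PCohD.Summand
-- import your own Groth.Agent.* helpers here

set_option autoImplicit false
universe u
open CategoryTheory CategoryTheory.Limits AlgebraicGeometry
attribute [local instance] HasDerivedCategory.standard
open Perf

namespace Groth.Agent.S7250

open Groth.Agent Groth.Agent.KFlat Pretriangulated ZeroObject

variable {X Y S : Scheme.{u}}

/-- Locally bounded below. -/
def Bdd (K : DCoh.D X) : Prop :=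
  ∀ x : X, ∃ (V : X.Opens) (a : ℤ), x ∈ V ∧ ((DCoh.restrictD V.ι).obj K).IsGE a

theorem bdd_of_isZero {K : DCoh.D X} (h : IsZero K) : Bdd K := fun x =>
  ⟨⊤, 0, trivial, (DerivedCategory.isGE_iff _ 0).2 fun i _ =>
    (DerivedCategory.homologyFunctor _ i).map_isZero ((DCoh.restrictD (⊤ : X.Opens).ι).map_isZero h)⟩

theorem bdd_of_retract {K L : DCoh.D X} (r : Retract K L) (h : Bdd L) : Bdd K := fun x => by
  obtain ⟨V, a, hx, hV⟩ := h x
  refine ⟨V, a, hx, (DerivedCategory.isGE_iff _ a).2 fun i hi => ?_⟩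
  let r' := r.map (DCoh.restrictD V.ι ⋙ DerivedCategory.homologyFunctor _ i)
  rw [IsZero.iff_id_eq_zero]
  refine r'.retract.symm.trans ?_
  rw [
    (S1101.isZero_HD_of_isGE hV hi).eq_of_tgt r'.i 0, zero_comp]

theorem bdd_iso {K L : DCoh.D X} (e : K ≅ L) (h : Bdd L) : Bdd K := bdd_of_retract (Retract.ofIso e) h

/-- Vanishing in low degrees near a point, for two objects at once. -/
theorem exists_common {K L : DCoh.D X} (hK : Bdd K) (hL : Bdd L) (x : X) :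
    ∃ (V : X.Opens) (a : ℤ), x ∈ V ∧
      (∀ i < a, IsZero ((DerivedCategory.homologyFunctor _ i).obj ((DCoh.restrictD V.ι).obj K))) ∧
      (∀ i < a, IsZero ((DerivedCategory.homologyFunctor _ i).obj ((DCoh.restrictD V.ι).obj L))) := by
  obtain ⟨V, a, hx, hV⟩ := hK x
  obtain ⟨W, b, hx', hW⟩ := hL x
  exact ⟨V ⊓ W, min a b, ⟨hx, hx'⟩,
    fun i hi => S1101.isZero_HD_of_isGE (S1101.isGE_of_isGE_le inf_le_left (min_le_left a b) hV) hi,
    fun i hi => S1101.isZero_HD_of_isGE (S1101.isGE_of_isGE_le inf_le_right (min_le_right a b) hW) hi⟩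

theorem bdd₂ {T : Triangle (DCoh.D X)} (hT : T ∈ distTriang _) (h₁ : Bdd T.obj₁) (h₃ : Bdd T.obj₃) :
    Bdd T.obj₂ := fun x => by
  obtain ⟨V, a, hx, hV₁, hV₃⟩ := exists_common h₁ h₃ x
  refine ⟨V, a, hx, (DerivedCategory.isGE_iff _ a).2 fun i hi => ?_⟩
  exact (DerivedCategory.HomologySequence.exact₂ _ ((DCoh.restrictD V.ι).map_distinguished T hT) i)
    |>.isZero_of_both_zeros ((hV₁ i hi).eq_of_src _ _) ((hV₃ i hi).eq_of_tgt _ _)

theorem bdd₁ {T : Triangle (DCoh.D X)} (hT : T ∈ distTriang _) (h₂ : Bdd T.obj₂) (h₃ : Bdd T.obj₃) :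
    Bdd T.obj₁ := fun x => by
  obtain ⟨V, a, hx, hV₂, hV₃⟩ := exists_common h₂ h₃ x
  refine ⟨V, a, hx, (DerivedCategory.isGE_iff _ a).2 fun i hi => ?_⟩
  exact (DerivedCategory.HomologySequence.exact₁ _ ((DCoh.restrictD V.ι).map_distinguished T hT)
    (i - 1) i (by omega)).isZero_of_both_zeros
    ((hV₃ (i - 1) (by omega)).eq_of_src _ _) ((hV₂ i hi).eq_of_tgt _ _)

theorem bdd₃ {T : Triangle (DCoh.D X)} (hT : T ∈ distTriang _) (h₁ : Bdd T.obj₁) (h₂ : Bdd T.obj₂) :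
    Bdd T.obj₃ := fun x => by
  obtain ⟨V, a, hx, hV₁, hV₂⟩ := exists_common h₁ h₂ x
  refine ⟨V, a - 1, hx, (DerivedCategory.isGE_iff _ _).2 fun i hi => ?_⟩
  exact (DerivedCategory.HomologySequence.exact₃ _ ((DCoh.restrictD V.ι).map_distinguished T hT)
    i (i + 1) rfl).isZero_of_both_zeros
    ((hV₂ i (by omega)).eq_of_src _ _) ((hV₁ (i + 1) (by omega)).eq_of_tgt _ _)

/-- Derived inverse image carries distinguished triangles to distinguished ones, objectwise. -/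
theorem exists_pull_triangle (g : X ⟶ Y) [DCoh.HasLpull g] (T : Triangle (DCoh.D Y))
    (hT : T ∈ distTriang _) : ∃ T' : Triangle (DCoh.D X), T' ∈ distTriang _ ∧
      Nonempty (T'.obj₁ ≅ (DCoh.Lpull g).obj T.obj₁) ∧ Nonempty (T'.obj₂ ≅ (DCoh.Lpull g).obj T.obj₂) ∧
      Nonempty (T'.obj₃ ≅ (DCoh.Lpull g).obj T.obj₃) := by
  have := fun K => Pull.quasiIso_resYπ (Y := Y) K
  let F₁ := DerivedCategory.Q.objPreimage T.obj₁
  let P₂ := (Pull.resY Y).obj (DerivedCategory.Q.objPreimage T.obj₂)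
  let e₁ := DerivedCategory.Q.objObjPreimageIso T.obj₁
  let e₂ : DerivedCategory.Q.obj P₂ ≅ T.obj₂ :=
    asIso (DerivedCategory.Q.map ((Pull.resYπ Y).app (DerivedCategory.Q.objPreimage T.obj₂))) ≪≫
      DerivedCategory.Q.objObjPreimageIso T.obj₂
  obtain ⟨X', s, hs, u, hu⟩ := DerivedCategory.right_fac (e₁.hom ≫ T.mor₁ ≫ e₂.inv)
  let P₁ := (Pull.resY Y).obj X'
  let ψ : P₁ ⟶ P₂ := (Pull.resYπ Y).app X' ≫ u
  let e₁' : DerivedCategory.Q.obj P₁ ≅ T.obj₁ :=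
    asIso (DerivedCategory.Q.map ((Pull.resYπ Y).app X')) ≪≫ asIso (DerivedCategory.Q.map s) ≪≫ e₁
  have hP₁ : DCoh.IsKFlat P₁ := Pull.isKFlat_resY _
  have hP₂ : DCoh.IsKFlat P₂ := Pull.isKFlat_resY _
  have hC : DCoh.IsKFlat (CochainComplex.mappingCone ψ) :=
    Groth.Agent.KFlat.isKFlat_mappingCone (O := Y.sheaf) ψ hP₁ hP₂
  let e := isoTriangleOfIso₁₂ _ T (DerivedCategory.mappingCone_triangle_distinguished ψ) hT e₁' e₂ (by
    show DerivedCategory.Q.map ψ ≫ e₂.hom = e₁'.hom ≫ T.mor₁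
    have h : DerivedCategory.Q.map u = DerivedCategory.Q.map s ≫ e₁.hom ≫ T.mor₁ ≫ e₂.inv := by
      rw [hu, IsIso.hom_inv_id_assoc]
    simp [ψ, e₁', h])
  have iso : ∀ {P : CochainComplex Y.Modules ℤ}, DCoh.IsKFlat P →
      (DerivedCategory.Q.obj ((Pull.pullCx g).obj P) ≅ (DCoh.Lpull g).obj (DerivedCategory.Q.obj P)) :=
    fun {P} hP => (@asIso _ _ _ _ ((Pull.toPull g).app P) (Pull.isIso_toPull g hP)).symm
  refine ⟨_, DerivedCategory.mappingCone_triangle_distinguished ((Pull.pullCx g).map ψ),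
    ⟨iso hP₁ ≪≫ (DCoh.Lpull g).mapIso e₁'⟩, ⟨iso hP₂ ≪≫ (DCoh.Lpull g).mapIso e₂⟩,
    ⟨DerivedCategory.Q.mapIso
      (CochainComplex.mappingCone.mapHomologicalComplexIso ψ (Scheme.Modules.pullback g)).symm ≪≫
      iso hC ≪≫ (DCoh.Lpull g).mapIso (Triangle.π₃.mapIso e)⟩⟩

variable (f : X ⟶ S)

/-- Bounded below on `X` and on all fibres. -/
def Crit [∀ s : S, DCoh.HasLpull (f.fiberι s)] (K : DCoh.D X) : Prop :=
  Bdd K ∧ ∀ s : S, Bdd ((DCoh.Lpull (f.fiberι s)).obj K)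

variable [∀ s : S, DCoh.HasLpull (f.fiberι s)]

theorem crit_of_retract {K L : DCoh.D X} (r : Retract K L) (h : Crit f L) : Crit f K :=
  ⟨bdd_of_retract r h.1, fun s => bdd_of_retract (r.map _) (h.2 s)⟩

theorem crit_of_isZero {K : DCoh.D X} (h : IsZero K) : Crit f K := by
  refine ⟨bdd_of_isZero h, fun s => ?_⟩
  let Z : CochainComplex X.Modules ℤ := 0
  have hZ : DCoh.IsKFlat Z := LocalD.isKFlat_of_isStrictlyPerfect PCohD.isStrictlyPerfect_zero
  let e : K ≅ DerivedCategory.Q.obj Z := h.iso (DerivedCategory.Q.map_isZero (isZero_zero _))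
  exact bdd_of_isZero ((DerivedCategory.Q.map_isZero
    ((Pull.pullCx (f.fiberι s)).map_isZero (isZero_zero _))).of_iso
    ((DCoh.Lpull (f.fiberι s)).mapIso e ≪≫
      @asIso _ _ _ _ ((Pull.toPull (f.fiberι s)).app Z) (Pull.isIso_toPull _ hZ)))

theorem crit₁ {T : Triangle (DCoh.D X)} (hT : T ∈ distTriang _) (h₂ : Crit f T.obj₂) (h₃ : Crit f T.obj₃) :
    Crit f T.obj₁ := by
  refine ⟨bdd₁ hT h₂.1 h₃.1, fun s => ?_⟩
  obtain ⟨T', hT', ⟨e₁⟩, ⟨e₂⟩, ⟨e₃⟩⟩ := exists_pull_triangle (f.fiberι s) T hT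
  exact bdd_iso e₁.symm (bdd₁ hT' (bdd_iso e₂ (h₂.2 s)) (bdd_iso e₃ (h₃.2 s)))

theorem crit₂ {T : Triangle (DCoh.D X)} (hT : T ∈ distTriang _) (h₁ : Crit f T.obj₁) (h₃ : Crit f T.obj₃) :
    Crit f T.obj₂ := by
  refine ⟨bdd₂ hT h₁.1 h₃.1, fun s => ?_⟩
  obtain ⟨T', hT', ⟨e₁⟩, ⟨e₂⟩, ⟨e₃⟩⟩ := exists_pull_triangle (f.fiberι s) T hT
  exact bdd_iso e₂.symm (bdd₂ hT' (bdd_iso e₁ (h₁.2 s)) (bdd_iso e₃ (h₃.2 s)))

theorem crit₃ {T : Triangle (DCoh.D X)} (hT : T ∈ distTriang _) (h₁ : Crit f T.obj₁) (h₂ : Crit f T.obj₂) :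
    Crit f T.obj₃ := by
  refine ⟨bdd₃ hT h₁.1 h₂.1, fun s => ?_⟩
  obtain ⟨T', hT', ⟨e₁⟩, ⟨e₂⟩, ⟨e₃⟩⟩ := exists_pull_triangle (f.fiberι s) T hT
  exact bdd_iso e₃.symm (bdd₃ hT' (bdd_iso e₁ (h₁.2 s)) (bdd_iso e₂ (h₂.2 s)))

theorem crit_shift {K : DCoh.D X} (h : Crit f K) (n : ℤ) : Crit f (K⟦n⟧) := by
  induction n using Int.induction_on with
  | zero => exact crit_of_retract f (Retract.ofIso ((shiftFunctorZero _ ℤ).app K)) h
  | succ n ih =>
    refine crit_of_retract f (Retract.ofIso ((shiftFunctorAdd' _ (n : ℤ) 1 _ rfl).app K)) ?_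
    exact crit₃ f (rot_of_distTriang _ (contractible_distinguished (K⟦(n : ℤ)⟧))) ih
      (crit_of_isZero f (isZero_zero _))
  | pred n ih =>
    refine crit_of_retract f (Retract.ofIso ((shiftFunctorAdd' _ (-(n : ℤ)) (-1) _ (by omega)).app K)) ?_
    exact crit₁ f (inv_rot_of_distTriang _ (inv_rot_of_distTriang _
      (contractible_distinguished (K⟦-(n : ℤ)⟧)))) (crit_of_isZero f ((shiftFunctor _ (-1 : ℤ)).map_isZero (isZero_zero _))) ih

end Groth.Agent.S7250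

namespace Groth.Agent.S7250

/-- Let f : X ⟶ S be flat and locally of finite presentation. The S-perfect objects of D(O_X)
(pseudo-coherent and locally of finite tor dimension over f⁻¹O_S, the latter in the form: locally
represented by a bounded complex of O_X-modules flat over S) form a saturated triangulated
subcategory: the property contains zero, is stable under all shifts, is closed under the middle term
of distinguished triangles, and is stable under retracts. -/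
theorem result {X S : Scheme.{u}} (f : X ⟶ S) [Flat f] [LocallyOfFinitePresentation f] :
    ObjectProperty.IsTriangulated (fun E : DCoh.D X => (∀ m : ℤ, DCoh.IsPseudoCoherentD m E) ∧ DCoh.LocHasFiniteRelTorDim f E) ∧
    ObjectProperty.IsStableUnderRetracts (fun E : DCoh.D X => (∀ m : ℤ, DCoh.IsPseudoCoherentD m E) ∧ DCoh.LocHasFiniteRelTorDim f E) := by
  open Groth.Agent Groth.Agent.KFlat Pretriangulated ZeroObject in
  haveI : ∀ s : S, DCoh.HasLpull (f.fiberι s) := fun s => Pull.hasLpull _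
  have key : ∀ E : DCoh.D X, (∀ m : ℤ, DCoh.IsPseudoCoherentD m E) →
      (DCoh.LocHasFiniteRelTorDim f E ↔ Groth.Agent.S7250.Crit f E) :=
    fun E hE => Groth.Agent.S1101.result f E hE
  let Pr : ObjectProperty (DCoh.D X) :=
    fun E => (∀ m : ℤ, DCoh.IsPseudoCoherentD m E) ∧ DCoh.LocHasFiniteRelTorDim f E
  have hret : ∀ {K L : DCoh.D X}, Retract K L → Pr L → Pr K := fun {K L} r hL => by
    have hpc : ∀ m : ℤ, DCoh.IsPseudoCoherentD m K := fun m => by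
      obtain ⟨Z, g, h, hT⟩ := Pretriangulated.distinguished_cocone_triangle r.i
      have h0 : h = 0 := by
        have hm : Mono (r.i⟦(1 : ℤ)⟧') := inferInstance
        exact (cancel_mono (r.i⟦(1 : ℤ)⟧')).1 (by
          rw [zero_comp]; exact comp_distTriang_mor_zero₃₁ _ hT)
      obtain ⟨e, -⟩ := exists_iso_binaryBiproduct_of_distTriang _ hT h0
      exact (PCohD.pc_biprod (PCohD.pc_of_iso e (hL.1 m))).1
    exact ⟨hpc, (key K hpc).2 (Groth.Agent.S7250.crit_of_retract f r ((key L hL.1).1 hL.2))⟩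
  refine ⟨{ exists_zero := ?_, isStableUnderShiftBy := fun n => ⟨fun K hK => ?_⟩,
            ext₂' := fun T hT h₁ h₃ => ?_ }, ⟨fun r h => hret r h⟩⟩
  · exact ⟨0, isZero_zero _, fun m => PCohD.pc_of_isZero (isZero_zero _),
      (key 0 fun m => PCohD.pc_of_isZero (isZero_zero _)).2
        (Groth.Agent.S7250.crit_of_isZero f (isZero_zero _))⟩
  · have hpc : ∀ m : ℤ, DCoh.IsPseudoCoherentD m (K⟦n⟧) := fun m => by
      simpa using PCohD.pc_shift (hK.1 (m + n)) n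
    exact ⟨hpc, (key _ hpc).2 (Groth.Agent.S7250.crit_shift f ((key K hK.1).1 hK.2) n)⟩
  · have hpc : ∀ m : ℤ, DCoh.IsPseudoCoherentD m T.obj₂ := fun m => PCohD.pc₂ T hT (h₁.1 m) (h₃.1 m)
    exact ObjectProperty.le_isoClosure _ _ ⟨hpc, (key _ hpc).2
      (Groth.Agent.S7250.crit₂ f hT ((key _ h₁.1).1 h₁.2) ((key _ h₃.1).1 h₃.2))⟩

end Groth.Agent.S7250
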