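import Groth.Statements.S7251
import Groth.Agent.KFlat.QCohModel

set_option autoImplicit false
universe u
open CategoryTheory CategoryTheory.Limits AlgebraicGeometry
attribute [local instance] HasDerivedCategory.standard
open Perf

attribute [-instance] CategoryTheory.ReflQuiver.toQuiver

namespace Groth.Agent.S7251

theorem isIso_of_forall_bijective {C : Type*} [Category C] {A B : C} (θ : A ⟶ B)
    (h : ∀ Z : C, Function.Bijective fun z : Z ⟶ A => z ≫ θ) : IsIso θ := by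
  obtain ⟨s, hs⟩ := (h B).2 (𝟙 B)
  exact ⟨s, (h A).1 (by simp only [Category.assoc, Category.id_comp]; rw [show s ≫ θ = 𝟙 B from hs]; simp), hs⟩

/-- Let f : X ⟶ Y be a quasi-compact and quasi-separated morphism of schemes. Assume Rf_* exists and
sends D_QCoh(O_X) into D_QCoh(O_Y), let an adjunction Lf^* ⊣ Rf_* be given as data, and assume the
inclusion functors D_QCoh ⥤ D have (chosen) right adjoints DQ_X and DQ_Y. Then Rf_* ∘ DQ_X = DQ_Y ∘
Rf_*: for every K ∈ D(O_X) the comparison map Rf_*(DQ_X K) ⟶ DQ_Y(Rf_* K) in D_QCoh(O_Y),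
corresponding under the adjunction to Rf_* applied to the counit DQ_X K ⟶ K, is an isomorphism. -/
theorem result {X Y : Scheme.{u}} (f : X ⟶ Y) [QuasiCompact f] [QuasiSeparated f]
    [DCoh.HasRpush f] (h : DCoh.RpushPreservesQCoh f) [DCoh.HasLpull f] (adj : DCoh.Lpull f ⊣ DCoh.Rpush f)
    [(ObjectProperty.ι (DCoh.IsQCohD (X := X))).IsLeftAdjoint] [(ObjectProperty.ι (DCoh.IsQCohD (X := Y))).IsLeftAdjoint]
    (K : DCoh.D X) :
    IsIso ((Adjunction.ofIsLeftAdjoint (ObjectProperty.ι (DCoh.IsQCohD (X := Y)))).homEquiv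
      (⟨(DCoh.Rpush f).obj (((ObjectProperty.ι (DCoh.IsQCohD (X := X))).rightAdjoint.obj K).obj),
        h _ (((ObjectProperty.ι (DCoh.IsQCohD (X := X))).rightAdjoint.obj K).property)⟩ : DCoh.DQCoh Y)
      ((DCoh.Rpush f).obj K)
      ((DCoh.Rpush f).map ((Adjunction.ofIsLeftAdjoint (ObjectProperty.ι (DCoh.IsQCohD (X := X)))).counit.app K))) := by
  let ιX := ObjectProperty.ι (DCoh.IsQCohD (X := X))
  let ιY := ObjectProperty.ι (DCoh.IsQCohD (X := Y))
  let aX := Adjunction.ofIsLeftAdjoint ιX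
  let aY := Adjunction.ofIsLeftAdjoint ιY
  refine isIso_of_forall_bijective _ fun Z => ?_
  let LZ : DCoh.DQCoh X := ⟨(DCoh.Lpull f).obj Z.obj, Groth.Agent.KFlat.QCohModel.isQCohD_Lpull f _ Z.property⟩
  let D := ιX.rightAdjoint.obj K
  let e₁ : (Z.obj ⟶ (DCoh.Rpush f).obj D.obj) ≃ ((DCoh.Lpull f).obj Z.obj ⟶ D.obj) := (adj.homEquiv _ _).symm
  let e₂ : (LZ ⟶ D) ≃ (LZ.obj ⟶ K) := (aX.homEquiv LZ K).symm
  let e₃ : (LZ.obj ⟶ K) ≃ (Z.obj ⟶ (DCoh.Rpush f).obj K) := adj.homEquiv _ _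
  let e₄ : (ιY.obj Z ⟶ (DCoh.Rpush f).obj K) ≃ (Z ⟶ ιY.rightAdjoint.obj ((DCoh.Rpush f).obj K)) :=
    aY.homEquiv Z _
  let ξ : (Z ⟶ (⟨(DCoh.Rpush f).obj D.obj, h _ D.property⟩ : DCoh.DQCoh Y)) ≃
      (Z ⟶ ιY.rightAdjoint.obj ((DCoh.Rpush f).obj K)) :=
    InducedCategory.homEquiv.trans (e₁.trans ((InducedCategory.homEquiv (X := LZ) (Y := D)).symm.trans
      (e₂.trans (e₃.trans e₄))))
  convert ξ.bijective using 1
  funext z
  change z ≫ aY.homEquiv _ _ ((DCoh.Rpush f).map (aX.counit.app K)) = _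
  rw [← aY.homEquiv_naturality_left]
  refine congrArg (aY.homEquiv _ _) ?_
  change z.hom ≫ (DCoh.Rpush f).map (aX.counit.app K) = _
  refine Eq.trans ?_ (congrArg (adj.homEquiv Z.obj K) (aX.homEquiv_counit LZ K
    (InducedCategory.homEquiv.symm ((adj.homEquiv Z.obj D.obj).symm z.hom))).symm)
  change _ = adj.homEquiv _ _ ((adj.homEquiv _ _).symm z.hom ≫ aX.counit.app K)
  rw [adj.homEquiv_naturality_right, Equiv.apply_symm_apply]

end Groth.Agent.S7251
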