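import Groth.Statements.S7252
import Groth.Agent.LocCohZW.SheafM
import Groth.Agent.AmpCrit.RelVan
import Groth.Agent.S0010
import Groth.Agent.KFlat.StalkCx

set_option autoImplicit false
universe u
open CategoryTheory CategoryTheory.Limits AlgebraicGeometry
attribute [local instance] HasDerivedCategory.standard
open Perf

attribute [-instance] CategoryTheory.ReflQuiver.toQuiver

namespace Groth.Agent.S7252

/-- Let X be a scheme, U ⊆ X an open subscheme and T = X ∖ U. Assume that, locally on X, T is the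
vanishing set of no more than c functions from O_X: every point of X has an open neighbourhood V and
finitely many, at most c, sections of O_X over V whose common zero locus meets V exactly in T ∩ V.
Then the local cohomology sheaves ℋ^i_T(F) (the right derived functors, computed with injective
resolutions, of the sheaf of sections with support in T, F ↦ ker(F → j_*(F|_U))) vanish for every i
> c and every quasi-coherent O_X-module F. -/
theorem result {X : Scheme.{u}} (U : X.Opens) [HasInjectiveResolutions X.Modules]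
    (c : ℕ) (hT : ∀ x : X, ∃ (V : X.Opens) (fs : Finset Γ(X, V)), x ∈ V ∧ fs.card ≤ c ∧
      X.zeroLocus (U := V) (↑fs : Set Γ(X, V)) ∩ (V : Set ↥X) = (U : Set ↥X)ᶜ ∩ (V : Set ↥X))
    (F : X.Modules) (hF : Coh.IsQCoh F) (i : ℕ) (hi : c < i) :
    IsZero (((DCoh.gammaZ U.ι).rightDerived i).obj F) := by
  classical
  have hmemU : ∀ (V : X.Opens) (fs : Finset Γ(X, V)),
      X.zeroLocus (U := V) (↑fs : Set Γ(X, V)) ∩ (V : Set ↥X) = (U : Set ↥X)ᶜ ∩ (V : Set ↥X) →
      ∀ y, y ∈ V → (y ∈ U ↔ ∃ g ∈ fs, y ∈ X.basicOpen g) := by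
    intro V fs h y hyV
    have h1 := Set.ext_iff.1 h y
    simp only [Set.mem_inter_iff, Scheme.mem_zeroLocus_iff, Set.mem_compl_iff, SetLike.mem_coe,
      Finset.mem_coe, hyV, and_true] at h1
    constructor
    · intro hy
      by_contra hn
      push_neg at hn
      exact h1.1 hn hy
    · rintro ⟨g, hg, hgy⟩
      by_contra hn
      exact h1.2 hn g hg hgy
  choose V fs hxV hfc hfs using hT
  choose W hW hxW hWV using fun x => exists_isAffineOpen_mem_and_subset (X := X) (x := x) (U := V x) (hxV x)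
  rcases Nat.eq_zero_or_pos c with rfl | hc
  · -- no equation: the support is everything
    have hUbot : ∀ y : X, y ∉ U := fun y hy => by
      obtain ⟨g, hg, -⟩ := (hmemU _ _ (hfs y) y (hxV y)).1 hy
      rw [Finset.card_eq_zero.1 (Nat.le_zero.1 (hfc y))] at hg
      exact absurd hg (Finset.notMem_empty g)
    have hz : ∀ M : X.Modules, IsZero ((Groth.Agent.LocCohZW.SheafM.P U.ι).obj M) := fun M => by
      refine (Scheme.Modules.pushforward U.ι).map_isZero (Groth.Agent.KFlat.StalkCx.isZero_of_isZero_stalk fun x => ?_)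
      exact absurd x.2 (hUbot x.1)
    have hi' : ∀ M : X.Modules, IsIso ((Groth.Agent.LocCohZW.SheafM.incl U.ι).app M) := fun M => by
      have h0 : (Scheme.Modules.restrictAdjunction U.ι).unit.app M = 0 := (hz M).eq_of_tgt _ _
      show IsIso (kernel.ι ((Scheme.Modules.restrictAdjunction U.ι).unit.app M))
      exact ⟨kernel.lift _ (𝟙 M) (by rw [h0, comp_zero]), (cancel_mono (kernel.ι _)).1 (by simp), kernel.lift_ι _ _ _⟩
    obtain ⟨m, rfl⟩ : ∃ m, i = m + 1 := ⟨i - 1, by omega⟩
    exact Groth.Agent.LocCohZW.isZero_rightDerived_of_good (DCoh.gammaZ U.ι) (P := fun _ => True)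
      { of_injective := fun _ _ => trivial, coker := fun _ _ _ _ => trivial, epi := fun S hS _ => by
          have := hi' S.X₂
          have := hi' S.X₃
          have := hS.epi_g
          have h := (Groth.Agent.LocCohZW.SheafM.incl U.ι).naturality S.g
          have : Epi ((DCoh.gammaZ U.ι).map S.g ≫ (Groth.Agent.LocCohZW.SheafM.incl U.ι).app S.X₃) :=
            h ▸ (inferInstanceAs (Epi ((Groth.Agent.LocCohZW.SheafM.incl U.ι).app S.X₂ ≫ S.g)))
          exact (MorphismProperty.epimorphisms _).of_postcomp (W' := MorphismProperty.isomorphisms _) _ _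
            (inferInstanceAs (IsIso ((Groth.Agent.LocCohZW.SheafM.incl U.ι).app S.X₃))) this } trivial m
  · obtain ⟨n, rfl⟩ : ∃ n, i = n + 2 := ⟨i - 2, by omega⟩
    -- a cover of each trace by few affine opens
    let D : ∀ x : X, Fin (fs x).card → X.Opens := fun x k => W x ⊓ X.basicOpen ((fs x).equivFin.symm k).1
    have hDU : ∀ x k, D x k ≤ U := fun x k y hy =>
      (hmemU _ _ (hfs x) y (hWV x hy.1)).2 ⟨_, ((fs x).equivFin.symm k).2, hy.2⟩
    have hDaff : ∀ x k, IsAffineOpen (D x k) := fun x k => by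
      show IsAffineOpen (W x ⊓ X.basicOpen _)
      rw [← X.basicOpen_res _ (homOfLE (hWV x)).op]
      exact (hW x).basicOpen _
    have hUW : ∀ x, U ⊓ W x = ⨆ k, D x k := fun x => by
      refine le_antisymm (fun y hy => ?_) (iSup_le fun k => le_inf (hDU x k) inf_le_left)
      obtain ⟨g, hg, hgy⟩ := (hmemU _ _ (hfs x) y (hWV x hy.2)).1 hy.1
      exact TopologicalSpace.Opens.mem_iSup.2 ⟨(fs x).equivFin ⟨g, hg⟩, hy.2, by simpa using hgy⟩
    have hWtop : ⨆ x, W x = ⊤ := top_le_iff.1 fun x _ => TopologicalSpace.Opens.mem_iSup.2 ⟨x, hxW x⟩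
    have : QuasiCompact U.ι := by
      refine IsZariskiLocalAtTarget.of_iSup_eq_top (P := @QuasiCompact) W hWtop fun x => ?_
      have : IsAffine (W x : Scheme.{u}) := hW x
      refine (quasiCompact_iff_compactSpace _).2 (isCompact_iff_compactSpace.1 ?_)
      rw [U.ι.isOpenEmbedding.isInducing.isCompact_iff]
      have : U.ι '' ((U.ι ⁻¹ᵁ W x : (U : Scheme.{u}).Opens) : Set ↥(U : Scheme.{u})) = ⋃ k, (D x k : Set ↥X) := by
        rw [← TopologicalSpace.Opens.coe_iSup, ← hUW x]
        ext y
        exact ⟨fun ⟨z, hz, e⟩ => e ▸ ⟨z.2, hz⟩, fun hy => ⟨⟨y, hy.1⟩, hy.2, rfl⟩⟩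
      rw [this]
      exact isCompact_iUnion fun k => (hDaff x k).isCompact
    have hq : Coh.IsQCoh ((Scheme.Modules.restrictFunctor U.ι).obj F) :=
      @Scheme.Modules.isQuasicoherent_restrictFunctor _ _ U.ι _ _ hF
    have hR : IsZero ((Coh.Rpush U.ι (n + 1)).obj ((Scheme.Modules.restrictFunctor U.ι).obj F)) := by
      have : ((Scheme.Modules.restrictFunctor U.ι).obj F).IsQuasicoherent := hq
      refine Groth.Agent.AmpCrit.RelVan.isZero_rpush_of_cover U.ι _ W hW (fun x => ⟨x, hxW x⟩) fun x => ?_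
      let Z : (U : Scheme.{u}).Opens := U.ι ⁻¹ᵁ W x
      have hq' : Coh.IsQCoh (((Scheme.Modules.restrictFunctor U.ι).obj F).restrict Z.ι) :=
        @Scheme.Modules.isQuasicoherent_restrictFunctor _ _ Z.ι _ _ hq
      have : IsAffine (W x : Scheme.{u}) := hW x
      have : (Z : Scheme.{u}).IsSeparated := ⟨by
        rw [← Limits.terminal.comp_from (U.ι ∣_ W x)]
        infer_instance⟩
      refine @S0010.result (Z : Scheme.{u}) (fs x).card (fun k => Z.ι ⁻¹ᵁ (U.ι ⁻¹ᵁ D x k))
        (fun k => ((hDaff x k).preimage_of_isOpenImmersion U.ι (by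
            rw [Scheme.Opens.opensRange_ι]; exact hDU x k)).preimage_of_isOpenImmersion Z.ι (by
            rw [Scheme.Opens.opensRange_ι]; exact fun y hy => hy.1))
        (top_le_iff.1 fun y _ => ?_) (fun _ _ h₁ h₂ => h₁.inf h₂) _ hq' (n + 1) (by
          have := hfc x; omega)
      have hy : U.ι (Z.ι y) ∈ U ⊓ W x := ⟨(Z.ι y).2, y.2⟩
      rw [hUW x] at hy
      obtain ⟨k, hk⟩ := TopologicalSpace.Opens.mem_iSup.1 hy
      exact TopologicalSpace.Opens.mem_iSup.2 ⟨k, hk⟩
    have h2 : ∀ (m : ℕ) (M : X.Modules), IsZero (((𝟭 X.Modules).rightDerived (m + 1)).obj M) :=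
      fun m M => Groth.Agent.LocCohZW.isZero_rightDerived_of_good (𝟭 X.Modules) (P := fun _ => True)
        { of_injective := fun _ _ => trivial, coker := fun _ _ _ _ => trivial, epi := fun S hS _ => hS.epi_g } trivial m
    obtain ⟨e⟩ := Groth.Agent.LocCohZW.FunSeq.nonempty_δ_iso (Groth.Agent.LocCohZW.SheafM.incl U.ι)
      (Scheme.Modules.restrictAdjunction U.ι).unit (Groth.Agent.LocCohZW.SheafM.incl_unit U.ι)
      (Groth.Agent.LocCohZW.SheafM.shortExact U.ι) (n + 1) (fun M => h2 n M) (fun M => h2 (n + 1) M)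
    let cI := Groth.Agent.ModShf.AcyclicRes.compareIso (Scheme.Modules.restrictFunctor U.ι)
      (Scheme.Modules.pushforward U.ι) (Groth.Agent.LocCohZW.SheafM.goodClass_injective _)
      (fun Q hQ => Groth.Agent.LocCohZW.SheafM.injective_restrictFunctor U.ι Q hQ) (n + 1)
    exact IsZero.of_iso hR ((cI.symm ≪≫ e).app F).symm

end Groth.Agent.S7252
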