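import Groth.Statements.S7253
import Groth.Agent.LocKReg.Restrict
import Groth.Agent.LocKReg.Affine
import Groth.Agent.PinchLib.Modules
import Groth.Agent.KFlat.StalkCx
import Groth.Agent.KFlat.Pull
import Groth.Agent.PCohD.PerfTor
import Groth.Agent.FlatSect.Basic
import Groth.Agent.Props.QTilde

set_option autoImplicit false
universe u
open CategoryTheory CategoryTheory.Limits AlgebraicGeometry
attribute [local instance] HasDerivedCategory.standard
open Perf

attribute [-instance] CategoryTheory.ReflQuiver.toQuiver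

namespace Groth.Agent.S7253

theorem flat_gammaTop {X : Scheme.{u}} {V : X.Opens} (hV : IsAffineOpen V) (F : X.Modules) (hF : Coh.IsQCoh F)
    (hFl : FlatMod.IsFlat F) :
    ∃ M : ModuleCat.{u} Γ(X, V), Module.Flat Γ(X, V) M ∧
      Nonempty ((Scheme.Modules.restrictFunctor hV.fromSpec).obj F ≅ (tilde.functor Γ(X, V)).obj M) := by
  let G := (Scheme.Modules.restrictFunctor hV.fromSpec).obj F
  have hG : G.IsQuasicoherent := @Scheme.Modules.isQuasicoherent_restrictFunctor _ _ hV.fromSpec _ _ hF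
  obtain ⟨M, ⟨e⟩⟩ := KFlat.TildeD.essImage_of_isQuasicoherent hG
  refine ⟨M, ?_, ⟨e.symm⟩⟩
  have hGf : FlatMod.IsFlat ((tilde.functor Γ(X, V)).obj M) :=
    PCohD.PerfTor.isFlat_of_iso (((Scheme.Modules.restrictFunctorIsoPullback hV.fromSpec).app F).symm ≪≫ e.symm)
      (KFlat.Pull.flat_pull hV.fromSpec hFl)
  have h1 : Module.Flat Γ(Spec Γ(X, V), ⊤) Γ(tilde M, ⊤) := PinchLib.flat_sections hGf (isAffineOpen_top _)
  have h2 : Module.Flat Γ(X, V) Γ(tilde M, ⊤) :=
    (FlatSect.flat_iff_of_ringEquiv _ (Props.QTilde.topRingEquiv Γ(X, V))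
      (Props.QTilde.topRingEquiv_smul _)).mpr h1
  exact Module.Flat.of_linearEquiv (Props.QTilde.topEquiv M)

theorem isZero_restrict_aux {X : Scheme.{u}} (U : X.Opens) [HasInjectiveResolutions X.Modules]
    (R : CommRingCat.{u}) (φ : Spec R ⟶ X) [IsOpenImmersion φ] (fs : List R)
    (hreg : LCI.IsKoszulRegularSeq R fs)
    (hU : ∀ y : Spec R, y ∈ LocCoh.puncturedOpen R (Ideal.span {a | a ∈ fs}) ↔ φ.base y ∈ U)
    (F : X.Modules) (M : ModuleCat.{u} R) [Module.Flat R M]
    (eM : (Scheme.Modules.restrictFunctor φ).obj F ≅ (tilde.functor R).obj M) (i : ℕ) (hi : i ≠ fs.length) :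
    IsZero ((Scheme.Modules.restrictFunctor φ).obj (((DCoh.gammaZ U.ι).rightDerived i).obj F)) := by
  obtain ⟨e⟩ := LocKReg.nonempty_rightDerived_restrict φ U (LocCoh.puncturedOpen R (Ideal.span {a | a ∈ fs})) hU F i
  exact IsZero.of_iso (LocKReg.isZero_rightDerived_tilde R fs hreg M i hi)
    (e ≪≫ ((DCoh.gammaZ _).rightDerived i).mapIso eM)

/-- Let X be a scheme, U ⊆ X an open subscheme and Z = X ∖ U. Assume that, locally on X, Z is the
vanishing set of a Koszul-regular sequence having c elements: every point of X has an affine open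
neighbourhood V and a sequence f₁, …, f_c in O_X(V), Koszul-regular in the ring O_X(V), whose common
zero locus meets V exactly in Z ∩ V. Then the local cohomology sheaves ℋ^i_Z(F) (right derived
functors, computed with injective resolutions, of F ↦ ker(F → j_*(F|_U))) vanish for every i ≠ c and
every flat quasi-coherent O_X-module F. -/
theorem result {X : Scheme.{u}} (U : X.Opens) [HasInjectiveResolutions X.Modules]
    (c : ℕ) (hZ : ∀ x : X, ∃ (V : X.Opens) (fs : List Γ(X, V)), x ∈ V ∧ IsAffineOpen V ∧ fs.length = c ∧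
      LCI.IsKoszulRegularSeq Γ(X, V) fs ∧
      X.zeroLocus (U := V) {a | a ∈ fs} ∩ (V : Set ↥X) = (U : Set ↥X)ᶜ ∩ (V : Set ↥X))
    (F : X.Modules) (hF : Coh.IsQCoh F) (hFl : FlatMod.IsFlat F) (i : ℕ) (hi : i ≠ c) :
    IsZero (((DCoh.gammaZ U.ι).rightDerived i).obj F) := by
  refine Groth.Agent.KFlat.StalkCx.isZero_of_isZero_stalk fun x => ?_
  obtain ⟨V, fs, hxV, hV, hlen, hreg, hz⟩ := hZ x
  obtain ⟨p, rfl⟩ : x ∈ Set.range hV.fromSpec := by rw [hV.range_fromSpec]; exact hxV
  let A := Γ(X, V)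
  let U' := LocCoh.puncturedOpen A (Ideal.span {a | a ∈ fs})
  have hU : ∀ y : Spec Γ(X, V), y ∈ U' ↔ hV.fromSpec.base y ∈ U := fun y => by
    have hyV : hV.fromSpec.base y ∈ V := hV.range_fromSpec.le ⟨y, rfl⟩
    have h1 := Set.ext_iff.1 hz (hV.fromSpec.base y)
    simp only [Set.mem_inter_iff, Scheme.mem_zeroLocus_iff, Set.mem_compl_iff, SetLike.mem_coe,
      Set.mem_setOf_eq, hyV, and_true] at h1
    have hb : ∀ g : Γ(X, V), hV.fromSpec.base y ∈ X.basicOpen g ↔ g ∉ y.asIdeal := fun g =>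
      (SetLike.ext_iff.1 (hV.fromSpec_preimage_basicOpen g) y).trans (PrimeSpectrum.mem_basicOpen g y)
    have h2 : y ∈ U' ↔ ¬ (∀ g ∈ fs, g ∈ y.asIdeal) := by
      exact not_congr ⟨fun h g hg => h (Ideal.subset_span hg),
        fun h => Ideal.span_le.2 (fun g hg => h g hg)⟩
    rw [h2]
    simp only [hb, not_not] at h1
    rw [h1, not_not]
  obtain ⟨M, hM, ⟨eM⟩⟩ := flat_gammaTop hV F hF hFl
  have hz0 := isZero_restrict_aux U Γ(X, V) hV.fromSpec fs hreg hU F M eM i (hlen ▸ hi)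
  have h4 : IsZero ((Scheme.Modules.toPresheaf X ⋙ TopCat.Presheaf.stalkFunctor AddCommGrpCat.{u} (hV.fromSpec.base p)).obj
      (((DCoh.gammaZ U.ι).rightDerived i).obj F)) :=
    ((Scheme.Modules.toPresheaf _ ⋙ TopCat.Presheaf.stalkFunctor AddCommGrpCat.{u} p).map_isZero hz0).of_iso
      ((Scheme.Modules.restrictStalkNatIso hV.fromSpec p).app _).symm
  exact @ModuleCat.isZero_of_subsingleton _ _ _ (AddCommGrpCat.subsingleton_of_isZero h4)

end Groth.Agent.S7253
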