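import Groth.Statements.S7254
import Groth.Agent.AlgSpEN.RFBounds
import Groth.Agent.ModShf.GrothAb

set_option autoImplicit false
universe u
open CategoryTheory CategoryTheory.Limits AlgebraicGeometry
attribute [local instance] HasDerivedCategory.standard
open Perf

namespace Groth.Agent.S7254

/-- Let X be a scheme, F an additive functor from O_X-modules to abelian groups and N ≥ 0 an integer
such that F commutes with countable direct products and RᵖF(G) = 0 (right derived functors computed
with injective resolutions) for every p ≥ N and every quasi-coherent O_X-module G. Assume the total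
right derived functor RF : D(O_X) ⥤ D(Ab) exists. If E ∈ D(O_X) has quasi-coherent cohomology
sheaves and Hⁱ(E) = 0 for i ∉ [a, b], then Hⁱ(RF(E)) = 0 for i ∉ [a, b + N - 1]. -/
theorem result {X : Scheme.{u}} (F : X.Modules ⥤ AddCommGrpCat.{u}) [F.Additive]
    [PreservesLimitsOfShape (Discrete ℕ) F] [HasInjectiveResolutions X.Modules] (N : ℕ)
    (hF : ∀ G : X.Modules, Coh.IsQCoh G → ∀ p : ℕ, N ≤ p → IsZero ((F.rightDerived p).obj G))
    [(F.mapHomotopyCategory (ComplexShape.up ℤ) ⋙ DerivedCategory.Qh).HasRightDerivedFunctor (HomotopyCategory.quasiIso X.Modules (ComplexShape.up ℤ))]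
    (E : DCoh.D X) (hE : DCoh.IsQCohD E) (a b : ℤ) (hab : ∀ i : ℤ, i < a ∨ b < i → IsZero (DCoh.HD E i))
    (i : ℤ) (hi : i < a ∨ b + N - 1 < i) :
    IsZero ((DerivedCategory.homologyFunctor AddCommGrpCat.{u} i).obj
      (((F.mapHomotopyCategory (ComplexShape.up ℤ) ⋙ DerivedCategory.Qh).totalRightDerived DerivedCategory.Qh
        (HomotopyCategory.quasiIso X.Modules (ComplexShape.up ℤ))).obj E)) := by
  haveI : E.IsGE a := (DerivedCategory.isGE_iff E a).2 fun q hq => hab q (Or.inl hq)
  rcases hi with hi | hi
  · have := Groth.Agent.SitePull.isGE_RF F E a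
    exact DerivedCategory.isZero_of_isGE _ a i hi
  · refine Groth.Agent.AlgSpEN.RFBounds.isZero_of_isGE F (i - a + 1).toNat a i E (by omega) inferInstance
      fun q => ?_
    by_cases hq : a ≤ q ∧ q ≤ b
    · obtain ⟨e⟩ := Groth.Agent.SitePull.exists_iso_rightDerived F
        ((DerivedCategory.homologyFunctor X.Modules q).obj E) q i (i - q).toNat (by omega)
      exact (hF _ (hE q) _ (by omega)).of_iso e
    · have h0 : IsZero ((DerivedCategory.homologyFunctor X.Modules q).obj E) := hab q (by omega)
      exact (DerivedCategory.homologyFunctor AddCommGrpCat.{u} i).map_isZero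
        (Functor.map_isZero _ ((DerivedCategory.singleFunctor X.Modules q).map_isZero h0))

end Groth.Agent.S7254
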