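import Groth.Statements.S7258
import Groth.Agent.PerfModel.Limit

set_option autoImplicit false
universe u
open CategoryTheory AlgebraicGeometry
open Perf

namespace Groth.Agent.S7258

/-- Let X = lim X_i, where the X_i form a cofiltered diagram of quasi-compact, quasi-separated schemes
and every transition map X_i → X_j is affine. The resolution property (every quasi-coherent
O_X-module of finite type is a quotient of a finite locally free O_X-module) holds for X if and only
if X_i has the resolution property for some index i. -/
theorem result {I : Type u} [SmallCategory I] [IsCofiltered I]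
    (D : I ⥤ Scheme.{u}) (c : Limits.Cone D) (hc : Limits.IsLimit c)
    [∀ (i j : I) (a : i ⟶ j), IsAffineHom (D.map a)] [∀ i, CompactSpace ↥(D.obj i)]
    [∀ i, QuasiSeparatedSpace ↥(D.obj i)] :
    PerfAux.HasResolutionProperty c.pt ↔ ∃ i : I, PerfAux.HasResolutionProperty (D.obj i) := by
  refine ⟨fun h => PerfModel.Limit.exists_stage hc h, fun ⟨i, hi⟩ => ?_⟩
  haveI : IsAffineHom (c.π.app i) := isAffineHom_π_app _ _ hc i
  exact Groth.Agent.S1110.result (c.π.app i) hi

end Groth.Agent.S7258
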