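import Groth.Statements.S7259
import Groth.Agent.PCohD.Generise
import Groth.Agent.PCohD.ThickTor
import Groth.Agent.KFlat.TildeAmp
import Groth.Agent.DRing.TorAmpLocal

set_option autoImplicit false
universe u
open CategoryTheory CategoryTheory.Limits AlgebraicGeometry
attribute [local instance] HasDerivedCategory.standard
open Perf

namespace Groth.Agent.S7259

open Groth.Agent Groth.Agent.DRing Groth.Agent.KFlat Groth.Agent.DRing.DBasic Groth.Agent.DRing.Homology
  Groth.Agent.DRing.TorAmp MonoidalCategory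

section Ring

variable {A₀ A L₀ L : Type u} [CommRing A₀] [CommRing A] [CommRing L₀] [CommRing L]

/-- Any two K-flat resolutions test the same exactness. -/
theorem exactAt_res_congr (β : A →+* L) (X : DRing.Cx L) {M : ModuleCat.{u} A} {F G : DRing.Cx A}
    (hF : DRing.IsKFlat A F) (hG : DRing.IsKFlat A G) (α : F ⟶ SingleTensor.S0 M) [QuasiIso α]
    (γ : G ⟶ SingleTensor.S0 M) [QuasiIso γ] (i : ℤ) :
    (X ⊗ (BaseChange.extCx β).obj F).ExactAt i ↔ (X ⊗ (BaseChange.extCx β).obj G).ExactAt i := by
  obtain ⟨P, π, hP, -, hq, -⟩ := KProjRes.exists_resolution ((DRing.restrictCx β).obj X)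
  have hbc : ∀ (F : DRing.Cx A), (X ⊗ (BaseChange.extCx β).obj F).ExactAt i ↔
      ((DRing.restrictCx β).obj X ⊗ F).ExactAt i := fun F =>
    (TensorAmp.exactAt_restrictCx_iff β _ i).symm.trans
      (exactAt_iff_of_quasiIso (BaseChange.projCxIso β X F).hom i)
  rw [hbc, hbc, TensorAmp.exactAt_tensor_res π (DRing.KFlat.isKFlat_of_isKProjective P) hF α,
    TensorAmp.exactAt_tensor_res π (DRing.KFlat.isKFlat_of_isKProjective P) hG γ]

variable {β₀ : A₀ →+* L₀} {β : A →+* L} {π : A₀ →+* A} {σ : L₀ →+* L}

/-- Relative tor amplitude passes to localisations. -/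
theorem torAmp_loc (hsq : σ.comp β₀ = β.comp π) (hσ : σ.Flat)
    (hπ : ∃ S : Submonoid A₀, @IsLocalization A₀ _ S A _ π.toAlgebra) {P : DRing.Cx L₀} {a b : ℤ}
    (h : DRing.HasTorAmplitudeIn A₀ a b (DRing.toD ((DRing.restrictCx β₀).obj P))) :
    DRing.HasTorAmplitudeIn A a b
      (DRing.toD ((DRing.restrictCx β).obj ((BaseChange.extCx σ).obj P))) := by
  have hπflat : π.Flat := by
    obtain ⟨S, hS⟩ := hπ
    letI := π.toAlgebra
    haveI := hS
    exact IsLocalization.flat A S
  refine (RelTor.torAmp_restrict_iff β _ a b).2 fun M F' α' hF' hα' i hi => ?_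
  let N := (ModuleCat.restrictScalars π).obj M
  obtain ⟨F, α, hFb, hFp, hα⟩ := Trunc.exists_projRes (SingleTensor.S0 N) 0
    fun j hj => HomologicalComplex.exactAt_single_obj _ _ _ _ (by omega)
  have hF : DRing.IsKFlat A₀ F := isKFlat_of_projective hFb hFp
  let Y := (BaseChange.extCx β₀).obj F
  have hN : (P ⊗ Y).ExactAt i := (RelTor.torAmp_restrict_iff β₀ P a b).1 h N F α hF hα i hi
  have hext : ((LTensor.extCx σ).obj (P ⊗ Y)).ExactAt i := by
    rw [HomologicalComplex.exactAt_iff_isZero_homology] at hN ⊢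
    exact ((ModuleCat.extendScalars.{u, u, u} σ).map_isZero hN).of_iso (PCDescent.homologyExtIso σ hσ _ i)
  have h2 : ((BaseChange.extCx σ).obj P ⊗ (BaseChange.extCx σ).obj Y).ExactAt i :=
    (TensorAmp.exactAt_restrictCx_iff σ _ i).1
      ((exactAt_iff_of_quasiIso (TorAmpLocal.extTensorExtIso σ P Y).hom i).2
        ((TensorAmp.exactAt_restrictCx_iff σ _ i).2 hext))
  have := PCohD.Generise.isIso_counit π hπ M
  let e0 : (BaseChange.extCx π).obj (SingleTensor.S0 N) ≅ SingleTensor.S0 M :=
    (HomologicalComplex.singleMapHomologicalComplex (ModuleCat.extendScalars.{u, u, u} π)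
        (ComplexShape.up ℤ) 0).app N ≪≫
      (HomologicalComplex.single (ModuleCat.{u} A) (ComplexShape.up ℤ) 0).mapIso
        (asIso ((ModuleCat.extendRestrictScalarsAdj.{u} π).counit.app M))
  have : QuasiIso ((BaseChange.extCx π).map α) := Descent.quasiIso_extCx π hπflat α
  let γ : (BaseChange.extCx π).obj F ⟶ SingleTensor.S0 M := (BaseChange.extCx π).map α ≫ e0.hom
  let e1 : (BaseChange.extCx σ).obj Y ≅ (BaseChange.extCx β).obj ((BaseChange.extCx π).obj F) :=
    (NatIso.mapHomologicalComplex ((ModuleCat.extendScalarsComp.{u} β₀ σ).symm ≪≫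
      eqToIso (by rw [hsq]) ≪≫ ModuleCat.extendScalarsComp.{u} π β) (ComplexShape.up ℤ)).app _
  have h3 := (exactAt_iff_of_quasiIso (MonoidalCategory.whiskerLeftIso _ e1).hom i).1 h2
  exact (exactAt_res_congr β _ hF' (BaseChange.isKFlat_extCx π hF) α' γ i).2 h3

end Ring

variable {R A : Type u} [CommRing R] [CommRing A] (φ : R →+* A)

/-- The localisation map at a point of `Spec`. -/
theorem isLocalization_toLocal (B : CommRingCat.{u}) (x : Spec B) :
    ∃ S : Submonoid B, @IsLocalization B _ S ((Spec B).presheaf.stalk x) _ (TildeKFlat.toLocal B x).toAlgebra := by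
  letI := TopCat.Presheaf.algebra_section_stalk (Spec B).presheaf (U := ⊤) ⟨x, trivial⟩
  haveI := (isAffineOpen_top (Spec B)).isLocalization_stalk ⟨x, trivial⟩
  let e := (Scheme.ΓSpecIso B).commRingCatIsoToRingEquiv
  exact ⟨_, IsLocalization.isLocalization_of_base_ringEquiv
    ((isAffineOpen_top (Spec B)).primeIdealOf ⟨x, trivial⟩).asIdeal.primeCompl
    ((Spec B).presheaf.stalk x) e⟩

theorem toLocal_comp (x : Spec (CommRingCat.of A)) :
    (TildeKFlat.toLocal (CommRingCat.of A) x).comp φ =
      ((Spec.map (CommRingCat.ofHom φ)).stalkMap x).hom.comp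
        (TildeKFlat.toLocal (CommRingCat.of R) ((Spec.map (CommRingCat.ofHom φ)) x)) := by
  refine RingHom.ext fun r => ?_
  have h := congrArg (fun g => g.hom r) (Scheme.ΓSpecIso_inv_naturality (CommRingCat.ofHom φ))
  refine Eq.trans ?_ (Scheme.Hom.germ_stalkMap_apply (Spec.map (CommRingCat.ofHom φ)) ⊤ x trivial _).symm
  exact congrArg ((Spec (CommRingCat.of A)).presheaf.germ ⊤ x trivial).hom h

/-- Relative tor amplitude can be checked at the local rings. -/
theorem torAmp_of_stalks (K : DRing.Cx A) (a b : ℤ)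
    (h : ∀ x : Spec (CommRingCat.of A), DRing.HasTorAmplitudeIn _ a b
      (DRing.toD ((DRing.restrictCx ((Spec.map (CommRingCat.ofHom φ)).stalkMap x).hom).obj
        ((BaseChange.extCx (TildeKFlat.toLocal (CommRingCat.of A) x)).obj K)))) :
    DRing.HasTorAmplitudeIn R a b (DRing.toD ((DRing.restrictCx φ).obj K)) := by
  refine (RelTor.torAmp_restrict_iff φ K a b).2 fun M F α hF hα i hi => ?_
  rw [HomologicalComplex.exactAt_iff_isZero_homology]
  have : Subsingleton (((K ⊗ (BaseChange.extCx φ).obj F) : DRing.Cx A).homology i) :=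
    TildeAmp.subsingleton_of_toLocal (CommRingCat.of A) _ fun x => by
    let σ := TildeKFlat.toLocal (CommRingCat.of A) x
    let π := TildeKFlat.toLocal (CommRingCat.of R) ((Spec.map (CommRingCat.ofHom φ)) x)
    let χ := ((Spec.map (CommRingCat.ofHom φ)).stalkMap x).hom
    have hσ : σ.Flat := TildeAmp.flat_toLocal _ x
    let G := (BaseChange.extCx φ).obj F
    refine ModuleCat.subsingleton_of_isZero (IsZero.of_iso ?_ (PCDescent.homologyExtIso σ hσ _ i).symm)
    rw [← HomologicalComplex.exactAt_iff_isZero_homology]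
    refine (TensorAmp.exactAt_restrictCx_iff σ _ i).1
      ((exactAt_iff_of_quasiIso (TorAmpLocal.extTensorExtIso σ K G).hom i).1
        ((TensorAmp.exactAt_restrictCx_iff σ _ i).2 ?_))
    let j : (BaseChange.extCx σ).obj G ≅ (BaseChange.extCx χ).obj ((LTensor.extCx π).obj F) :=
      (NatIso.mapHomologicalComplex ((ModuleCat.extendScalarsComp.{u} φ σ).symm ≪≫
        eqToIso (by rw [toLocal_comp φ x]) ≪≫ ModuleCat.extendScalarsComp.{u} π χ) (ComplexShape.up ℤ)).app F
    refine (exactAt_iff_of_quasiIso (MonoidalCategory.whiskerLeftIso ((LTensor.extCx σ).obj K) j).hom i).2 ?_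
    have hπ : π.Flat := TildeAmp.flat_toLocal _ _
    have := Descent.quasiIso_extCx π hπ α
    exact (RelTor.torAmp_restrict_iff χ ((LTensor.extCx σ).obj K) a b).1 (h x)
      ((ModuleCat.extendScalars.{u, u, u} π).obj M) ((LTensor.extCx π).obj F)
      ((LTensor.extCx π).map α ≫ ((HomologicalComplex.singleMapHomologicalComplex
        (ModuleCat.extendScalars.{u, u, u} π) (ComplexShape.up ℤ) 0).app M).hom)
      (BaseChange.isKFlat_extCx π hF) inferInstance i hi
  exact ModuleCat.isZero_of_subsingleton _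


end Groth.Agent.S7259

namespace Groth.Agent.S7259

/-- Let R → A be a ring map, f : X = Spec A ⟶ S = Spec R the induced morphism, M an object of D(A), and
F a cochain complex of O_X-modules representing the associated object E = M~ of D(O_X) (tilde
recorded as exact). Then, viewed over f⁻¹O_S, the object E is of tor amplitude [a, b], in the
stalkwise form (at every x ∈ X the complex of stalks F_x has tor amplitude in [a, b] over the local
ring O_{S, f(x)}), precisely when the R-module complex obtained from M is of tor amplitude [a, b]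
(its restriction of scalars is isomorphic in D(R) to a complex of flat R-modules vanishing outside
[a, b]). -/
theorem result {R A : Type u} [CommRing R] [CommRing A] (φ : R →+* A)
    [PreservesFiniteLimits (tilde.functor (CommRingCat.of A))] (M : Dual.D A)
    (F : CochainComplex (Spec (CommRingCat.of A)).Modules ℤ)
    (hF : Nonempty (DCoh.toD (Spec (CommRingCat.of A)) F ≅ (DCoh.tildeD (CommRingCat.of A)).obj M)) (a b : ℤ) :
    DerSch.HasTorAmplitude (Spec.map (CommRingCat.ofHom φ)) a b F ↔
      DRing.HasTorAmplitudeIn R a b ((DRing.restrictD φ).obj M) := by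
  open Groth.Agent Groth.Agent.KFlat Groth.Agent.DRing Groth.Agent.DRing.TorAmp in
  let K := DerivedCategory.Q.objPreimage M
  let eK : DerivedCategory.Q.obj K ≅ M := DerivedCategory.Q.objObjPreimageIso M
  obtain ⟨eF⟩ := hF
  let f := Spec.map (CommRingCat.ofHom φ)
  haveI : (tilde.functor (CommRingCat.of A)).Additive :=
    (inferInstance : ∀ B : CommRingCat.{u}, (tilde.functor B).Additive) _
  haveI : (tilde.functor (CommRingCat.of A)).IsLeftAdjoint :=
    (inferInstance : ∀ B : CommRingCat.{u}, (tilde.functor B).IsLeftAdjoint) _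
  let tK := ((tilde.functor (CommRingCat.of A)).mapHomologicalComplex (ComplexShape.up ℤ)).obj K
  let e : DCoh.toD _ F ≅ DCoh.toD _ tK :=
    eF ≪≫ (DCoh.tildeD (CommRingCat.of A)).mapIso eK.symm ≪≫
      (tilde.functor (CommRingCat.of A)).mapDerivedCategoryFactors.app K
  have key : ∀ x, Nonempty (DRing.toD ((DerSch.stalkCxOver f x).obj F) ≅
      DRing.toD ((DRing.restrictCx (f.stalkMap x).hom).obj
        ((BaseChange.extCx (TildeKFlat.toLocal (CommRingCat.of A) x)).obj K))) := fun x =>
    ⟨PCohD.Thick.stalkCxOverIso f x e ≪≫ DerivedCategory.Q.mapIso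
      ((DRing.restrictCx (f.stalkMap x).hom).mapIso (TildeKFlat.stTildeIso (CommRingCat.of A) x K))⟩
  constructor
  · intro h
    exact torAmp_of_iso (TensorAmp.restrictDIso φ eK) (Groth.Agent.S7259.torAmp_of_stalks φ K a b fun x =>
      torAmp_of_iso (key x).some (h x))
  · intro h x
    refine torAmp_of_iso (key x).some.symm ?_
    exact Groth.Agent.S7259.torAmp_loc (Groth.Agent.S7259.toLocal_comp φ x)
      (TildeAmp.flat_toLocal _ x) (Groth.Agent.S7259.isLocalization_toLocal (CommRingCat.of R) ((Spec.map (CommRingCat.ofHom φ)) x))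
      (torAmp_of_iso (TensorAmp.restrictDIso φ eK).symm h)

end Groth.Agent.S7259
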