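import Groth.Statements.S7260
import Groth.Agent.GammaLib.QLim
import Groth.Agent.AmpCrit.AffineHom

set_option autoImplicit false
universe u
open CategoryTheory CategoryTheory.Limits AlgebraicGeometry
attribute [local instance] HasDerivedCategory.standard
open Perf

attribute [-instance] CategoryTheory.ReflQuiver.toQuiver

namespace Groth.Agent.S7260

/-- Let X be a scheme and (F_n)_{n ≥ 0} an inverse system of quasi-coherent O_X-modules whose transition
maps F_{n+1} ⟶ F_n are surjective for n ≥ 1. Then R lim F_n = lim F_n, that is, lim F_n placed in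
degree 0 is a derived limit in D(O_X) of the system (F_n[0]) (granted the countable product exists
there), and H^p(U, lim F_n) = 0 for every affine open U ⊆ X and every p > 0. (The published
statement is phrased for the system of q-th cohomology sheaves of an inverse system in D_QCoh(O_X);
the proof uses only that these form an inverse system of quasi-coherent modules with surjective
transition maps, which is the form stated here.) -/
theorem result {X : Scheme.{u}} (F : ℕ → X.Modules)
    (hF : ∀ n, Coh.IsQCoh (F n)) (t : ∀ n, F (n + 1) ⟶ F n) (ht : ∀ n, 1 ≤ n → Epi (t n))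
    [HasProduct fun n => DCoh.inD X (F n)] :
    DCoh.IsRlim (fun n => DCoh.inD X (F n)) (fun n => (DerivedCategory.singleFunctor X.Modules 0).map (t n))
        (DCoh.inD X (Limits.limit (Functor.ofOpSequence t))) ∧
      ∀ (U : X.Opens), IsAffineOpen U → ∀ p : ℕ, 0 < p →
        Subsingleton (Coh.HHon X (Limits.limit (Functor.ofOpSequence t)) U p) := by
  refine ⟨?_, fun U hU p hp => ?_⟩
  · obtain ⟨c, hc⟩ := Groth.Agent.GammaLib.RlimEpi1.exists_triangle_single
      (P₀ := fun U : X.affineOpens => Groth.Agent.KFlat.QCohAcy.free U.1)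
      (fun f h => Groth.Agent.KFlat.QCohAcy.eq_zero_of_free_comp f h) t
      (Groth.Agent.GammaLib.QLim.rlim_good hF t ht)
    exact ⟨_, c, hc⟩
  · obtain ⟨n, rfl⟩ := Nat.exists_eq_add_of_le' hp
    let R := Scheme.Modules.restrictFunctor U.ι
    have : PreservesLimitsOfSize.{0, 0} R := (CxOX.extZeroAdj U.ι).rightAdjoint_preservesLimits
    let FU : ℕ → (U : Scheme.{u}).Modules := fun n => R.obj (F n)
    let tU : ∀ n, FU (n + 1) ⟶ FU n := fun n => R.map (t n)
    let η : Functor.ofOpSequence t ⋙ R ⟶ Functor.ofOpSequence tU :=
      NatTrans.ofOpSequence (fun n => 𝟙 (FU n)) fun n => by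
        simp only [Functor.comp_map, Functor.ofOpSequence_map_homOfLE_succ]
        exact (Category.comp_id _).trans (Category.id_comp _).symm
    have : ∀ k, IsIso (η.app k) := fun k => by
      obtain ⟨k⟩ := k
      exact inferInstanceAs (IsIso (𝟙 (FU k)))
    have := NatIso.isIso_of_isIso_app η
    let e : (limit (Functor.ofOpSequence t)).restrict U.ι ≅ limit (Functor.ofOpSequence tU) :=
      preservesLimitIso R (Functor.ofOpSequence t) ≪≫ Limits.HasLimit.isoOfNatIso (asIso η)
    have hg := Groth.Agent.GammaLib.QLim.good_limit (F := FU)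
      (fun n => @Scheme.Modules.isQuasicoherent_restrictFunctor _ _ U.ι _ _ (hF n)) tU
      (fun n hn => have := ht n hn; inferInstanceAs (Epi (R.map (t n))))
    have : IsAffine (U : Scheme.{u}) := hU
    have := Groth.Agent.CohAff.CovSys.Good.subsingleton_H
      (C := Groth.Agent.CohAff.affCov (U : Scheme.{u})) (isAffineOpen_top (U : Scheme.{u})) hg n
    exact @Groth.Agent.AmpCrit.subsingleton_HH_of_iso _ _ _ e.symm (n + 1) this

end Groth.Agent.S7260
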