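import Groth.Statements.S7266
import Groth.Agent.GammaLib.ApproxGlue

set_option autoImplicit false
universe u
open CategoryTheory CategoryTheory.Limits AlgebraicGeometry
attribute [local instance] HasDerivedCategory.standard
open Perf

attribute [-instance] CategoryTheory.ReflQuiver.toQuiver

namespace Groth.Agent.S7266

open Groth.Agent.KFlat.Approx in
/-- approximation in the shape of the statement gives `Good` -/
theorem good_of_hyp {Y : Scheme.{u}} (W : Y.Opens) (hW : IsRetrocompact (W : Set ↥Y))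
    (h : ∀ (T : Set ↥Y), IsClosed T → IsRetrocompact Tᶜ → ∃ r : ℤ, ∀ (m : ℤ) (E : DCoh.D Y), DCoh.IsQCohD E →
        DCoh.IsPseudoCoherentD (m - r) E → (∀ i : ℤ, m - r ≤ i → CohB1.support (DCoh.HD E i) ⊆ T) →
        ∃ (P : DCoh.D Y) (α : P ⟶ E), DCoh.IsPerfect P ∧ (∀ i : ℤ, CohB1.support (DCoh.HD P i) ⊆ T) ∧
          (∀ i : ℤ, m < i → IsIso ((DerivedCategory.homologyFunctor _ i).map α)) ∧
          Epi ((DerivedCategory.homologyFunctor _ m).map α)) :
    ∃ r, 0 ≤ r ∧ Good Y W r := by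
  obtain ⟨r, hr⟩ := h (W : Set ↥Y)ᶜ W.isOpen.isClosed_compl (by rwa [compl_compl])
  refine ⟨max r 0, le_max_right _ _, fun m E hq hpc hW => ?_⟩
  have hle : m - max r 0 ≤ m - r := by omega
  obtain ⟨P, α, hP, hPT, h₁, h₂⟩ := hr m E hq (Groth.Agent.PCohD.pc_mono hpc hle)
    fun i hi => support_subset_of_vanGE W hW i (hle.trans hi)
  exact appx_of_map α hP hPT h₁ h₂

/-- Let X be a scheme written as X = U ∪ V with U, V open, where V is affine and both U and the
intersection U ∩ V are quasi-compact. Suppose approximation by perfect complexes is valid on U; it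
is then also valid on X. Here 'approximation by perfect complexes holds on Y' means: for every
closed T ⊆ Y with retrocompact complement there is an integer r such that for every m ∈ ℤ and every
(m - r)-pseudo-coherent E ∈ D(O_Y) with quasi-coherent cohomology sheaves and Hⁱ(E) supported on T
for i ≥ m - r, there are a perfect P ∈ D(O_Y) supported on T and P ⟶ E inducing isomorphisms on Hⁱ
for i > m and a surjection on Hᵐ. -/
theorem result {X : Scheme.{u}} (U V : X.Opens)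
    (hU : IsCompact (U : Set ↥X)) (hV : IsAffineOpen V) (hUV : IsCompact ((U ⊓ V : X.Opens) : Set ↥X)) (hcov : U ⊔ V = ⊤)
    (hAU : (∀ (T : Set ↥(U : Scheme.{u})), IsClosed T → IsRetrocompact Tᶜ → ∃ r : ℤ, ∀ (m : ℤ) (E : DCoh.D (U : Scheme.{u})), DCoh.IsQCohD E →
        DCoh.IsPseudoCoherentD (m - r) E → (∀ i : ℤ, m - r ≤ i → CohB1.support (DCoh.HD E i) ⊆ T) →
        ∃ (P : DCoh.D (U : Scheme.{u})) (α : P ⟶ E), DCoh.IsPerfect P ∧ (∀ i : ℤ, CohB1.support (DCoh.HD P i) ⊆ T) ∧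
          (∀ i : ℤ, m < i → IsIso ((DerivedCategory.homologyFunctor _ i).map α)) ∧
          Epi ((DerivedCategory.homologyFunctor _ m).map α))) :
    (∀ (T : Set ↥X), IsClosed T → IsRetrocompact Tᶜ → ∃ r : ℤ, ∀ (m : ℤ) (E : DCoh.D X), DCoh.IsQCohD E →
        DCoh.IsPseudoCoherentD (m - r) E → (∀ i : ℤ, m - r ≤ i → CohB1.support (DCoh.HD E i) ⊆ T) →
        ∃ (P : DCoh.D X) (α : P ⟶ E), DCoh.IsPerfect P ∧ (∀ i : ℤ, CohB1.support (DCoh.HD P i) ⊆ T) ∧
          (∀ i : ℤ, m < i → IsIso ((DerivedCategory.homologyFunctor _ i).map α)) ∧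
          Epi ((DerivedCategory.homologyFunctor _ m).map α)) := by
  have : IsAffine (V : Scheme.{u}) := hV
  have hUt : (U : Set ↥X) ∪ V = Set.univ := by
    rw [← TopologicalSpace.Opens.coe_sup, hcov]; rfl
  have : CompactSpace ↥X := ⟨hUt ▸ hU.union hV.isCompact⟩
  have : CompactSpace ↥(U.ι ⁻¹ᵁ V : (U : Scheme.{u}).Opens).toScheme := isCompact_iff_compactSpace.1
    (U.ι.isOpenEmbedding.isInducing.isCompact_iff.2 (by
      convert hUV using 1
      ext x
      exact ⟨fun ⟨y, hy, e⟩ => e ▸ ⟨y.2, hy⟩, fun hx => ⟨⟨x, hx.1⟩, hx.2, rfl⟩⟩))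
  have : QuasiCompact U.ι := by
    refine IsZariskiLocalAtTarget.of_iSup_eq_top (P := @QuasiCompact) (fun b : Bool => cond b U V)
      (by rw [iSup_bool_eq]; exact hcov) fun b => ?_
    cases b
    · exact @AlgebraicGeometry.quasiCompact_of_compactSpace _ _ (U.ι ∣_ V) inferInstance inferInstance
    · show QuasiCompact (U.ι ∣_ U)
      have : Surjective (U.ι ∣_ U) := ⟨fun x => by
        refine ⟨⟨⟨x.1, x.2⟩, x.2⟩, Subtype.ext ?_⟩
        exact morphismRestrict_base_coe U.ι U _⟩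
      have : IsIso (U.ι ∣_ U) := (isIso_iff_isOpenImmersion_and_epi_base _).2 ⟨inferInstance, by
        rw [TopCat.epi_iff_surjective]; exact Surjective.surj⟩
      infer_instance
  intro T hT hTc
  let W : X.Opens := ⟨Tᶜ, hT.isOpen_compl⟩
  have hWU : IsRetrocompact ((U.ι ⁻¹ᵁ W : (U : Scheme.{u}).Opens) : Set ↥(U : Scheme.{u})) :=
    fun A hA hAo => by
      rw [U.ι.isOpenEmbedding.isInducing.isCompact_iff, Set.inter_comm, Scheme.Hom.coe_preimage,
        Set.image_inter_preimage, Set.inter_comm]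
      exact hTc (hA.image U.ι.continuous) (U.ι.isOpenEmbedding.isOpenMap A hAo)
  obtain ⟨r, hr0, hr⟩ := good_of_hyp (U.ι ⁻¹ᵁ W) hWU hAU
  obtain ⟨r', -, h'⟩ := Groth.Agent.GammaLib.ApproxGlue.good_two U V W hcov hU
    (V.ι.isOpenEmbedding.isInducing.isCompact_iff.2 (by
      convert hUV using 1
      ext x
      exact ⟨fun ⟨y, hy, e⟩ => e ▸ ⟨hy, y.2⟩, fun hx => ⟨⟨x, hx.2⟩, hx.1, rfl⟩⟩))
    (V.ι.isOpenEmbedding.isInducing.isCompact_iff.2 (by
      convert hTc hV.isCompact V.isOpen using 1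
      ext x
      exact ⟨fun ⟨y, hy, e⟩ => e ▸ ⟨hy, y.2⟩, fun hx => ⟨⟨x, hx.2⟩, hx.1, rfl⟩⟩)) hr hr0
  refine ⟨r', fun m E hq hpc hs => ?_⟩
  obtain ⟨P, α, hP, hPT, h₁, h₂⟩ := Groth.Agent.KFlat.Approx.exists_map (h' m E hq hpc
    (Groth.Agent.KFlat.Approx.vanGE_restrict_of_support W fun i hi x hx hxW => hxW (hs i hi hx)))
  exact ⟨P, α, hP, fun i x hx => not_not.1 (hPT i hx), h₁, h₂⟩

end Groth.Agent.S7266
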