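import Groth.Statements.S7268
import Groth.Agent.PCohD.RpushAffine
import Groth.Agent.PCohD.RelRing
import Groth.Agent.KFlat.RPushBase

set_option autoImplicit false
universe u
open CategoryTheory CategoryTheory.Limits AlgebraicGeometry
attribute [local instance] HasDerivedCategory.standard
open Perf

attribute [-instance] CategoryTheory.ReflQuiver.toQuiver

namespace Groth.Agent.S7268

/-- Let A → B be a ring map and f : X = Spec B ⟶ Y = Spec A the corresponding morphism of affine
schemes. Assuming Rf_* exists on the unbounded derived category (and tilde is recorded as exact over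
A and over B), the square formed by D(B) ⟶ D(A) (restriction of scalars), the tilde functors D(B) ⟶
D_QCoh(O_X), D(A) ⟶ D_QCoh(O_Y) and Rf_* commutes: the functors M ↦ Rf_*(M~) and M ↦ (M_A)~ from
D(B) to D(O_Y) are isomorphic (existence of a natural isomorphism only). -/
theorem result {A B : Type u} [CommRing A] [CommRing B] (φ : A →+* B)
    [PreservesFiniteLimits (tilde.functor (CommRingCat.of A))] [PreservesFiniteLimits (tilde.functor (CommRingCat.of B))]
    [DCoh.HasRpush (Spec.map (CommRingCat.ofHom φ))] :
    Nonempty (DCoh.tildeD (CommRingCat.of B) ⋙ DCoh.Rpush (Spec.map (CommRingCat.ofHom φ)) ≅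
      DRing.restrictD φ ⋙ DCoh.tildeD (CommRingCat.of A)) := by
  have : PreservesColimitsOfSize.{0, 0} (tilde.functor (CommRingCat.of B)) :=
    (tilde.adjunction (R := CommRingCat.of B)).leftAdjoint_preservesColimits
  have : PreservesColimitsOfSize.{0, 0} (tilde.functor (CommRingCat.of A)) :=
    (tilde.adjunction (R := CommRingCat.of A)).leftAdjoint_preservesColimits
  have := PreservesColimitsOfSize0.preservesFiniteColimits (tilde.functor (CommRingCat.of B))
  have := PreservesColimitsOfSize0.preservesFiniteColimits (tilde.functor (CommRingCat.of A))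
  haveI : (tilde.functor (CommRingCat.of B)).Additive := Functor.additive_of_preserves_binary_products _
  haveI : (tilde.functor (CommRingCat.of A)).Additive := Functor.additive_of_preserves_binary_products _
  let f := Spec.map (CommRingCat.ofHom φ)
  let TB := (tilde.functor (CommRingCat.of B)).mapHomologicalComplex (ComplexShape.up ℤ)
  have : IsIso (Functor.whiskerLeft TB (Groth.Agent.KFlat.RPush.toRpush f)) := by
    have : ∀ K, IsIso ((Functor.whiskerLeft TB (Groth.Agent.KFlat.RPush.toRpush f)).app K) := fun K =>
      Groth.Agent.PCohD.isIso_toRpush_affine f _ fun m =>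
        Groth.Agent.KFlat.TildeD.isQuasicoherent_of_essImage (R := CommRingCat.of B) ⟨K.X m, ⟨Iso.refl _⟩⟩
    exact NatIso.isIso_of_isIso_app _
  let RA := (ModuleCat.restrictScalars.{u} φ).mapHomologicalComplex (ComplexShape.up ℤ)
  let TA := (tilde.functor (CommRingCat.of A)).mapHomologicalComplex (ComplexShape.up ℤ)
  exact ⟨CategoryTheory.Localization.liftNatIso DerivedCategory.Q
    (HomologicalComplex.quasiIso (ModuleCat.{u} B) (ComplexShape.up ℤ))
    (DerivedCategory.Q ⋙ (DCoh.tildeD (CommRingCat.of B) ⋙ DCoh.Rpush f))
    (DerivedCategory.Q ⋙ (DRing.restrictD φ ⋙ DCoh.tildeD (CommRingCat.of A))) _ _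
    ((Functor.associator _ _ _).symm ≪≫
      Functor.isoWhiskerRight (tilde.functor (CommRingCat.of B)).mapDerivedCategoryFactors _ ≪≫
      Functor.associator _ _ _ ≪≫
      (asIso (Functor.whiskerLeft TB (Groth.Agent.KFlat.RPush.toRpush f))).symm ≪≫
      (Functor.associator _ _ _).symm ≪≫
      Functor.isoWhiskerRight (Groth.Agent.KFlat.RPushBase.mapCxComp _ _ _ ≪≫
        NatIso.mapHomologicalComplex (Groth.Agent.PCohD.pushTildeIso (CommRingCat.ofHom φ)) _ ≪≫
        (Groth.Agent.KFlat.RPushBase.mapCxComp (ModuleCat.restrictScalars.{u} φ)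
          (tilde.functor (CommRingCat.of A)) _).symm) _ ≪≫
      Functor.associator _ _ _ ≪≫
      Functor.isoWhiskerLeft RA (tilde.functor (CommRingCat.of A)).mapDerivedCategoryFactors.symm ≪≫
      (Functor.associator _ _ _).symm ≪≫
      Functor.isoWhiskerRight (ModuleCat.restrictScalars.{u} φ).mapDerivedCategoryFactors.symm _ ≪≫
      Functor.associator _ _ _)⟩

end Groth.Agent.S7268
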