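import Groth.Statements.S7271
import Groth.Agent.EtSixLib.DerivedComp
import Groth.Agent.QCohGen.Groth
import Groth.Agent.KFlat.FlatPull
import Groth.Agent.QCoh.Pullback
import Groth.Agent.DHA.KInjectiveResolution
-- import your own Groth.Agent.* helpers here

set_option backward.isDefEq.respectTransparency false
set_option backward.isDefEq.respectTransparency.types false

set_option autoImplicit false
universe u
open CategoryTheory CategoryTheory.Limits AlgebraicGeometry
attribute [local instance] HasDerivedCategory.standard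
open Perf

namespace Groth.Agent.S7271

attribute [local instance] HasDerivedCategory.standard

section
variable {A B C : Type*} [Category A] [Category B] [Category C] [Abelian A] [Abelian B] [Abelian C]
  [HasDerivedCategory A] [HasDerivedCategory B] [HasDerivedCategory C]
  (F : A ⥤ B) (G : B ⥤ C) (H : A ⥤ C) [F.Additive] [G.Additive] [H.Additive] (e : H ≅ F ⋙ G)
  (RF : DerivedCategory A ⥤ DerivedCategory B)
  (α : F.mapHomotopyCategory (ComplexShape.up ℤ) ⋙ DerivedCategory.Qh ⟶ DerivedCategory.Qh ⋙ RF)
  (RG : DerivedCategory B ⥤ DerivedCategory C)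
  (β : G.mapHomotopyCategory (ComplexShape.up ℤ) ⋙ DerivedCategory.Qh ⟶ DerivedCategory.Qh ⋙ RG)

noncomputable def compUnit : H.mapHomotopyCategory (ComplexShape.up ℤ) ⋙ DerivedCategory.Qh ⟶
    DerivedCategory.Qh ⋙ (RF ⋙ RG) :=
  Functor.whiskerRight (Functor.mapHomotopyCategoryCompIso e.symm (ComplexShape.up ℤ)).inv DerivedCategory.Qh ≫
    (Functor.associator _ _ _).hom ≫
    Functor.whiskerLeft (F.mapHomotopyCategory (ComplexShape.up ℤ)) β ≫
    (Functor.associator _ _ _).inv ≫ Functor.whiskerRight α RG ≫ (Functor.associator _ _ _).hom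

theorem isRightDerivedFunctor_compUnit
    (h : ∀ X : HomotopyCategory A (ComplexShape.up ℤ), ∃ (P : HomotopyCategory A (ComplexShape.up ℤ))
      (s : X ⟶ P), Groth.Agent.DTrunc.RightDerived.IsGood DerivedCategory.Qh
        (H.mapHomotopyCategory (ComplexShape.up ℤ) ⋙ DerivedCategory.Qh) P ∧ IsIso (DerivedCategory.Qh.map s) ∧
        IsIso (α.app P) ∧ IsIso (β.app ((F.mapHomotopyCategory (ComplexShape.up ℤ)).obj P))) :
    (RF ⋙ RG).IsRightDerivedFunctor (compUnit F G H e RF α RG β)
      (HomotopyCategory.quasiIso A (ComplexShape.up ℤ)) := by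
  refine Groth.Agent.DTrunc.RightDerived.isRightDerivedFunctor_of_isIso _ _ _ fun X => ?_
  obtain ⟨P, s, hP, hs, hα, hβ⟩ := h X
  refine ⟨P, s, hP, hs, ?_⟩
  simp only [compUnit, NatTrans.comp_app, Functor.whiskerRight_app, Functor.whiskerLeft_app,
    Functor.associator_hom_app, Functor.associator_inv_app, Category.id_comp, Category.comp_id]
  infer_instance

end

/-- Let f : X ⟶ Y be a quasi-compact, quasi-separated and flat morphism of schemes. Granting that
quasi-coherent modules on X and on Y contain zero and are closed under kernels, cokernels and finite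
products, with exact inclusions (instance hypotheses making QCoh abelian), let Q_X and Q_Y be
coherators (right adjoints of the inclusions QCoh ⥤ Mod, given with their adjunctions), let RQ_X,
RQ_Y be their total right derived functors and Φ the total right derived functor of f_* : QCoh(O_X)
⥤ QCoh(O_Y) (existence binders; f_* preserves quasi-coherence by hypothesis hf). Then RQ_Y ∘ Rf_* =
Φ ∘ RQ_X as functors D(O_X) ⥤ D(QCoh(O_Y)) (existence of a natural isomorphism only). -/
theorem result {X Y : Scheme.{u}} (f : X ⟶ Y)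
    [QuasiCompact f] [QuasiSeparated f] [Flat f] [DCoh.HasRpush f]
    [ObjectProperty.ContainsZero (fun M : X.Modules => Coh.IsQCoh M)] [ObjectProperty.IsClosedUnderKernels (fun M : X.Modules => Coh.IsQCoh M)]
    [ObjectProperty.IsClosedUnderCokernels (fun M : X.Modules => Coh.IsQCoh M)] [ObjectProperty.IsClosedUnderFiniteProducts (fun M : X.Modules => Coh.IsQCoh M)]
    [PreservesFiniteLimits (ObjectProperty.ι (fun M : X.Modules => Coh.IsQCoh M))] [PreservesFiniteColimits (ObjectProperty.ι (fun M : X.Modules => Coh.IsQCoh M))]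
    [ObjectProperty.ContainsZero (fun M : Y.Modules => Coh.IsQCoh M)] [ObjectProperty.IsClosedUnderKernels (fun M : Y.Modules => Coh.IsQCoh M)]
    [ObjectProperty.IsClosedUnderCokernels (fun M : Y.Modules => Coh.IsQCoh M)] [ObjectProperty.IsClosedUnderFiniteProducts (fun M : Y.Modules => Coh.IsQCoh M)]
    [PreservesFiniteLimits (ObjectProperty.ι (fun M : Y.Modules => Coh.IsQCoh M))] [PreservesFiniteColimits (ObjectProperty.ι (fun M : Y.Modules => Coh.IsQCoh M))]
    (QX : X.Modules ⥤ ObjectProperty.FullSubcategory (fun M : X.Modules => Coh.IsQCoh M)) (adjX : ObjectProperty.ι (fun M : X.Modules => Coh.IsQCoh M) ⊣ QX)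
    (QY : Y.Modules ⥤ ObjectProperty.FullSubcategory (fun M : Y.Modules => Coh.IsQCoh M)) (adjY : ObjectProperty.ι (fun M : Y.Modules => Coh.IsQCoh M) ⊣ QY)
    [QX.Additive] [QY.Additive]
    [(QX.mapHomotopyCategory (ComplexShape.up ℤ) ⋙ DerivedCategory.Qh).HasRightDerivedFunctor (HomotopyCategory.quasiIso X.Modules (ComplexShape.up ℤ))] [(QY.mapHomotopyCategory (ComplexShape.up ℤ) ⋙ DerivedCategory.Qh).HasRightDerivedFunctor (HomotopyCategory.quasiIso Y.Modules (ComplexShape.up ℤ))]
    (hf : ∀ M : X.Modules, Coh.IsQCoh M → Coh.IsQCoh ((Scheme.Modules.pushforward f).obj M))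
    [(ObjectProperty.lift (fun M : Y.Modules => Coh.IsQCoh M) (ObjectProperty.ι (fun M : X.Modules => Coh.IsQCoh M) ⋙ Scheme.Modules.pushforward f) (fun M => hf M.obj M.property)).Additive]
    [((ObjectProperty.lift (fun M : Y.Modules => Coh.IsQCoh M) (ObjectProperty.ι (fun M : X.Modules => Coh.IsQCoh M) ⋙ Scheme.Modules.pushforward f) (fun M => hf M.obj M.property)).mapHomotopyCategory (ComplexShape.up ℤ) ⋙ DerivedCategory.Qh).HasRightDerivedFunctor (HomotopyCategory.quasiIso (ObjectProperty.FullSubcategory (fun M : X.Modules => Coh.IsQCoh M)) (ComplexShape.up ℤ))] :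
    Nonempty (DCoh.Rpush f ⋙ (QY.mapHomotopyCategory (ComplexShape.up ℤ) ⋙ DerivedCategory.Qh).totalRightDerived DerivedCategory.Qh (HomotopyCategory.quasiIso Y.Modules (ComplexShape.up ℤ)) ≅
      (QX.mapHomotopyCategory (ComplexShape.up ℤ) ⋙ DerivedCategory.Qh).totalRightDerived DerivedCategory.Qh (HomotopyCategory.quasiIso X.Modules (ComplexShape.up ℤ)) ⋙
        ((ObjectProperty.lift (fun M : Y.Modules => Coh.IsQCoh M) (ObjectProperty.ι (fun M : X.Modules => Coh.IsQCoh M) ⋙ Scheme.Modules.pushforward f) (fun M => hf M.obj M.property)).mapHomotopyCategory (ComplexShape.up ℤ) ⋙ DerivedCategory.Qh).totalRightDerived DerivedCategory.Qh (HomotopyCategory.quasiIso (ObjectProperty.FullSubcategory (fun M : X.Modules => Coh.IsQCoh M)) (ComplexShape.up ℤ))) := by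
  let PX : ObjectProperty X.Modules := fun M => Coh.IsQCoh M
  let PY : ObjectProperty Y.Modules := fun M => Coh.IsQCoh M
  let push := Scheme.Modules.pushforward f
  let pp := Scheme.Modules.pullbackPushforwardAdjunction f
  let G := ObjectProperty.lift PY (PX.ι ⋙ push) (fun M => hf M.obj M.property)
  let L : PY.FullSubcategory ⥤ PX.FullSubcategory := ObjectProperty.lift PX (PY.ι ⋙ Scheme.Modules.pullback f)
    (fun M => haveI : M.obj.IsQuasicoherent := M.property
      Groth.Agent.QCoh.isQuasicoherent_pullback f M.obj)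
  let adjG : L ⊣ G := pp.restrictFullyFaithful PY.fullyFaithfulι PX.fullyFaithfulι
    (Iso.refl _) (Iso.refl _)
  let τ : push ⋙ QY ≅ QX ⋙ G :=
    Adjunction.rightAdjointUniq (adjY.comp pp) (adjG.comp adjX)
  haveI : (Scheme.Modules.pullback f).Additive := pp.left_adjoint_additive
  haveI : (QX ⋙ G).Additive := inferInstance
  haveI : (push ⋙ QY).Additive := inferInstance
  haveI : IsGrothendieckAbelian.{u} PX.FullSubcategory :=
    { locallySmall := (Groth.Agent.QCohGen.instGrothendieck X).locallySmall
      hasFilteredColimitsOfSize := (Groth.Agent.QCohGen.instGrothendieck X).hasFilteredColimitsOfSize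
      ab5OfSize := (Groth.Agent.QCohGen.instGrothendieck X).ab5OfSize
      hasSeparator := (Groth.Agent.QCohGen.instGrothendieck X).hasSeparator }
  let W := HomotopyCategory.quasiIso X.Modules (ComplexShape.up ℤ)
  let H := QX ⋙ G
  let RFp := DCoh.Rpush f
  let αp := (DCoh.pushKh f).totalRightDerivedUnit DerivedCategory.Qh W
  let RY := (QY.mapHomotopyCategory (ComplexShape.up ℤ) ⋙ DerivedCategory.Qh).totalRightDerived DerivedCategory.Qh
    (HomotopyCategory.quasiIso Y.Modules (ComplexShape.up ℤ))
  let βY := (QY.mapHomotopyCategory (ComplexShape.up ℤ) ⋙ DerivedCategory.Qh).totalRightDerivedUnit DerivedCategory.Qh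
    (HomotopyCategory.quasiIso Y.Modules (ComplexShape.up ℤ))
  let RX := (QX.mapHomotopyCategory (ComplexShape.up ℤ) ⋙ DerivedCategory.Qh).totalRightDerived DerivedCategory.Qh W
  let αX := (QX.mapHomotopyCategory (ComplexShape.up ℤ) ⋙ DerivedCategory.Qh).totalRightDerivedUnit DerivedCategory.Qh W
  let RG := (G.mapHomotopyCategory (ComplexShape.up ℤ) ⋙ DerivedCategory.Qh).totalRightDerived DerivedCategory.Qh
    (HomotopyCategory.quasiIso PX.FullSubcategory (ComplexShape.up ℤ))
  let βG := (G.mapHomotopyCategory (ComplexShape.up ℤ) ⋙ DerivedCategory.Qh).totalRightDerivedUnit DerivedCategory.Qh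
    (HomotopyCategory.quasiIso PX.FullSubcategory (ComplexShape.up ℤ))
  haveI h1 : (RX ⋙ RG).IsRightDerivedFunctor (compUnit QX G H (Iso.refl _) RX αX RG βG) W := by
    refine isRightDerivedFunctor_compUnit _ _ _ _ _ _ _ _ fun K => ?_
    obtain ⟨C, rfl⟩ := HomotopyCategory.quotient_obj_surjective K
    obtain ⟨I, s, hI, hs, -, -⟩ := Groth.Agent.DHA.KInj.exists_resolution X.Modules C
    refine ⟨_, (HomotopyCategory.quotient _ _).map s,
      Groth.Agent.DTrunc.RightDerived.isGood_quotient _ I,
      (NatIso.isIso_map_iff (DerivedCategory.quotientCompQhIso X.Modules) s).2 inferInstance,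
      Groth.Agent.EtSixLib.isIso_app_of_kInjective RX αX I, ?_⟩
    haveI := Groth.Agent.EtSixLib.isKInjective_map adjX I
    exact (NatTrans.isIso_app_iff_of_iso βG
      ((QX.mapHomotopyCategoryFactors (ComplexShape.up ℤ)).app I)).2
        (Groth.Agent.EtSixLib.isIso_app_of_kInjective RG βG _)
  haveI h2 : (RFp ⋙ RY).IsRightDerivedFunctor (compUnit push QY H τ.symm RFp αp RY βY) W := by
    refine isRightDerivedFunctor_compUnit _ _ _ _ _ _ _ _ fun K => ?_
    obtain ⟨C, rfl⟩ := HomotopyCategory.quotient_obj_surjective K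
    obtain ⟨I, s, hI, hs, -, -⟩ := Groth.Agent.DHA.KInj.exists_resolution X.Modules C
    refine ⟨_, (HomotopyCategory.quotient _ _).map s,
      Groth.Agent.DTrunc.RightDerived.isGood_quotient _ I,
      (NatIso.isIso_map_iff (DerivedCategory.quotientCompQhIso X.Modules) s).2 inferInstance,
      Groth.Agent.EtSixLib.isIso_app_of_kInjective RFp αp I, ?_⟩
    haveI := Groth.Agent.EtSixLib.isKInjective_map pp I
    exact (NatTrans.isIso_app_iff_of_iso βY
      ((push.mapHomotopyCategoryFactors (ComplexShape.up ℤ)).app I)).2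
        (Groth.Agent.EtSixLib.isIso_app_of_kInjective RY βY _)
  exact ⟨Functor.rightDerivedUnique (RFp ⋙ RY) (RX ⋙ RG) (compUnit push QY H τ.symm RFp αp RY βY)
    (compUnit QX G H (Iso.refl _) RX αX RG βG) W⟩

end Groth.Agent.S7271
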