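import Groth.Statements.S7275
import Groth.Agent.S7264
import Groth.Agent.PCohD.Terms
import Groth.Agent.PCohD.RelAbs
import Groth.Agent.PCohD.RelFlatModule
import Groth.Agent.PCohD.FreeLocus

set_option autoImplicit false
universe u
open CategoryTheory CategoryTheory.Limits AlgebraicGeometry
attribute [local instance] HasDerivedCategory.standard
open Perf

namespace Groth.Agent.S7275

open Groth.Agent Groth.Agent.KFlat Groth.Agent.PerfTri

variable {X S : Scheme.{u}}

theorem isFP_of_iso {M N : X.Modules} (e : M ≅ N) (h : CohB1.IsFP M) : CohB1.IsFP N :=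
  (PCohD.FTFP.pc_neg_one_iff N).1 (PCohD.pc_of_iso
    ((DerivedCategory.singleFunctor X.Modules 0).mapIso e) ((PCohD.FTFP.pc_neg_one_iff M).2 h))

theorem isFP_isZero {M : X.Modules} (h : IsZero M) : CohB1.IsFP M :=
  (PCohD.FTFP.pc_neg_one_iff M).1 (PCohD.pc_of_isZero
    ((DerivedCategory.singleFunctor X.Modules 0).map_isZero h))

/-- An `S`-flat module of finite presentation on a flat finitely presented scheme is pseudo-coherent. -/
theorem pc_of_flat_isFP (g : X ⟶ S) [Flat g] [LocallyOfFinitePresentation g] (M : X.Modules)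
    (hfp : CohB1.IsFP M) (hfl : FlatMod.IsFlatOver g M) (m : ℤ) :
    DCoh.IsPseudoCoherentD m (DCoh.inD X M) :=
  (PCohD.rel_iff_pc g _).1
    (PCohD.rel_inD_of_flat M hfl ((PCohD.rel_iff_pc g _).2 ((PCohD.FTFP.pc_neg_one_iff M).2 hfp)) m)

/-- Truncating a complex of vector bundles below the tor amplitude gives flat finitely presented terms. -/
theorem trunc_terms (g : X ⟶ S) [Flat g] (G E' : CochainComplex X.Modules ℤ) (a b' b : ℤ)
    (hG : ∀ i, FlatMod.IsFinLocFree (G.X i)) (hGb : ∀ i, b < i → IsZero (G.X i))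
    (hv : DCoh.VanishesOutside E' a b') (hfl : ∀ i, FlatMod.IsFlatOver g (E'.X i))
    (e : DerivedCategory.Q.obj G ≅ DerivedCategory.Q.obj E') :
    DCoh.VanishesOutside (G.truncGE a) a (max b a) ∧
      (∀ i, CohB1.IsFP ((G.truncGE a).X i) ∧ FlatMod.IsFlatOver g ((G.truncGE a).X i)) ∧
      Nonempty (DerivedCategory.Q.obj G ≅ DerivedCategory.Q.obj (G.truncGE a)) := by
  have hGge : G.IsGE a := (CochainComplex.isGE_iff _ _).mpr fun i hi =>
    (HomologicalComplex.exactAt_iff_isZero_homology _ _).mpr ((PCohD.isZero_homology_Q _ i).mp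
      (((PCohD.isZero_homology_Q E' i).mpr
        ((HomologicalComplex.exactAt_iff_isZero_homology E' i).1
          ((E'.exactAt_iff i).2 (ShortComplex.exact_of_isZero_X₂ _ (hv i (Or.inl hi)))))).of_iso
        ((DerivedCategory.homologyFunctor _ i).mapIso e)))
  have hGq : ∀ i, (G.X i).IsQuasicoherent := fun i =>
    PerfTri.Betti.isQuasicoherent_of_isFinLocFree (hG i)
  have hGfl : ∀ i, FlatMod.IsFlat (G.X i) := fun i => PCohD.PerfTor.isFlat_of_isFinLocFree (hG i)
  let D := cokernel (G.d (a - 1) a)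
  have hD : CohB1.IsFP D := by
    have := hGq (a - 1)
    have := hGq a
    have : SheafOfModules.IsFinitePresentation.{u} (R := X.ringCatSheaf) (G.X (a - 1)) :=
      Props.QProj.isFP _ (hG (a - 1))
    exact LimTop.isFP_cokernel inferInstance (Props.QProj.isFP _ (hG a)) _
  have hDfl : FlatMod.IsFlatOver g D := fun z => by
    let β := (g.stalkMap z).hom
    let T := (BaseChange.resCx β).obj ((StalkCx.stCx z).obj G)
    let E₁ := (BaseChange.resCx β).obj ((StalkCx.stCx z).obj E')
    have hfl₁ : ∀ i, Module.Flat _ (E₁.X i) := fun i => hfl i z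
    have hTflat := S7264.flat_res β (Flat.stalkMap g z) ((StalkCx.stCx z).obj G) fun i => hGfl i z
    have hTK : DRing.IsKFlat _ T := PCohD.Thick.isKFlat_restrict_flat _ (Flat.stalkMap g z)
      (DRing.KFlat.isKFlat_of_boundedAbove_flat _ b
        (fun i hi => (DerSch.stalkFunctor _ _).map_isZero (hGb i hi)) fun i => hGfl i z)
    have e₁ : DRing.toD E₁ ≅ DRing.toD T :=
      DRing.TensorAmp.restrictDIso β (PCohD.FibreGeom.stCxIso z e.symm) ≪≫
        (DRing.TensorAmp.restrictDIso β (Iso.refl _)).symm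
    have hvan := (DRing.TorAmp.hasTorAmp_iff hTK e₁.symm a b').1
      ⟨E₁, fun i hi => (ModuleCat.restrictScalars β).map_isZero
        ((DerSch.stalkFunctor _ z).map_isZero (hv i hi)), hfl₁, ⟨Iso.refl _⟩⟩
    have hcok := DRing.TorAmp.flat_coker hTflat a fun N => hvan N (a - 1) (Or.inl (by omega))
    let Φ := DerSch.stalkFunctor X z ⋙ ModuleCat.restrictScalars.{u} β
    let eD : Φ.obj D ≅ ModuleCat.of _ (T.X a ⧸ LinearMap.range (T.d (a - 1) a).hom) :=
      PreservesCokernel.iso Φ (G.d (a - 1) a) ≪≫ ModuleCat.cokernelIsoRangeQuotient _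
    letI := FlatMod.moduleStalkOver g D z
    show FlatMod.IsFlatOverAt g D z
    unfold FlatMod.IsFlatOverAt
    haveI := hcok
    exact Module.Flat.of_linearEquiv (R := S.presheaf.stalk (g.base z)) eD.toLinearEquiv
  let eb : (G.truncGE a).X a ≅ D :=
    (G.truncGEXIsoOpcycles a) ≪≫
      ((cokernelIsCokernel _).coconePointUniqueUpToIso (G.opcyclesIsCokernel (a - 1) a (by simp))).symm
  refine ⟨fun i hi => ?_, fun i => ?_, ⟨asIso (DerivedCategory.Q.map (G.πTruncGE a))⟩⟩
  · rcases hi with hi | hi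
    · exact (G.truncGE a).isZero_of_isStrictlyGE a i hi
    · exact (hGb i (by omega)).of_iso (G.truncGEXIso a i (by omega))
  · rcases lt_trichotomy i a with h | rfl | h
    · have hz := (G.truncGE a).isZero_of_isStrictlyGE a i h
      exact ⟨isFP_isZero hz, FlatBC.flatOver_isZero _ hz⟩
    · exact ⟨isFP_of_iso eb.symm hD, FlatBC.flatOver_of_iso _ eb.symm hDfl⟩
    · exact ⟨isFP_of_iso (G.truncGEXIso a i h).symm (Props.QProj.isFP _ (hG i)),
        FlatBC.flatOver_of_flat _ (PCohD.PerfTor.isFlat_of_iso (G.truncGEXIso a i h).symm (hGfl i))⟩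


end Groth.Agent.S7275

namespace Groth.Agent.S7275

/-- Let f : X ⟶ S be flat and locally of finite presentation and E ∈ D(O_X). Then E is S-perfect
(pseudo-coherent, and locally on X represented by a bounded complex of O_X-modules flat over S) if
and only if E satisfies the alternative definition of relative perfectness: locally on X, E becomes
isomorphic in the derived category to a bounded complex whose terms are O_X-modules of finite
presentation that are S-flat (every point has an open neighbourhood V such that the restriction to V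
of any representing complex is isomorphic in D(O_V) to such a complex). -/
theorem result {X S : Scheme.{u}} (f : X ⟶ S)
    [Flat f] [LocallyOfFinitePresentation f] (E : DCoh.D X) :
    ((∀ m : ℤ, DCoh.IsPseudoCoherentD m E) ∧ DCoh.LocHasFiniteRelTorDim f E) ↔
      ∀ x : X, ∃ V : X.Opens, x ∈ V ∧ ∀ F : CochainComplex X.Modules ℤ, Nonempty (DCoh.toD X F ≅ E) →
        ∃ (G : CochainComplex (V : Scheme.{u}).Modules ℤ) (a b : ℤ), DCoh.VanishesOutside G a b ∧
          (∀ i : ℤ, CohB1.IsFP (G.X i) ∧ FlatMod.IsFlatOver (V.ι ≫ f) (G.X i)) ∧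
          Nonempty (DerivedCategory.Q.obj ((DCoh.restrictCx V).obj F) ≅ DerivedCategory.Q.obj G) := by
  open Groth.Agent Groth.Agent.KFlat Groth.Agent.PerfTri in
  let P := DerivedCategory.Q.objPreimage E
  let eP : DCoh.toD X P ≅ E := DerivedCategory.Q.objObjPreimageIso E
  constructor
  · rintro ⟨hpc, htor⟩ x
    obtain ⟨V, a, b', hxV, hV⟩ := htor x
    obtain ⟨U, hU, hxU, hUV⟩ := exists_isAffineOpen_mem_and_subset hxV
    let j := hU.fromSpec
    obtain ⟨E₀, b, hEb, hEf, ⟨eE⟩⟩ :=
      Groth.Agent.S1101.exists_tilde_rep j P fun m => PCohD.pc_of_iso eP.symm (hpc m)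
    let tE := ((tilde.functor Γ(X, U)).mapHomologicalComplex (ComplexShape.up ℤ)).obj E₀
    have hr : Set.range U.ι ⊆ Set.range j := by
      rw [Scheme.Opens.range_ι, hU.range_fromSpec]
    let t := IsOpenImmersion.lift j U.ι hr
    have ht : t ≫ j = U.ι := IsOpenImmersion.lift_fac _ _ hr
    let G := (PerfTri.Nullhom.resC t).obj tE
    let eG : DerivedCategory.Q.obj G ≅ DerivedCategory.Q.obj ((DCoh.restrictCx U).obj P) :=
      (Perfect.restrQ t tE).symm ≪≫
        (DCoh.restrictD t).mapIso (eE ≪≫ (DerivedCategory.Q.mapIso ((QCohModel.restrJIso j).app P)).symm ≪≫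
          (Perfect.restrQ j P).symm) ≪≫
        Perfect.restrComp t j U.ι ht (DerivedCategory.Q.obj P) ≪≫ Perfect.restrQ U.ι P
    obtain ⟨E'', hv, hfl, ⟨e''⟩⟩ := hV P ⟨eP⟩
    let h := X.homOfLE hUV
    have hι : h ≫ V.ι = U.ι := X.homOfLE_ι hUV
    let E' := (PerfTri.Nullhom.resC h).obj E''
    let eE' : DerivedCategory.Q.obj E' ≅ DerivedCategory.Q.obj ((DCoh.restrictCx U).obj P) :=
      (Perfect.restrQ h E'').symm ≪≫
        (DCoh.restrictD h).mapIso (e'' ≪≫ (Perfect.restrQ V.ι P).symm) ≪≫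
        Perfect.restrComp h V.ι U.ι hι (DerivedCategory.Q.obj P) ≪≫ Perfect.restrQ U.ι P
    have hflf : ∀ i, FlatMod.IsFinLocFree (tE.X i) := fun i =>
      (Groth.Agent.S12451.result (E₀.X i)).2 ⟨(hEf i).1, have := (hEf i).2; inferInstance⟩
    obtain ⟨hv', hterms, ⟨eT⟩⟩ := Groth.Agent.S7275.trunc_terms (U.ι ≫ f) G E' a b' b
      (fun i => PCohD.FreeLocus.isFinLocFree_restrict t (hflf i))
      (fun i hi => (Scheme.Modules.restrictFunctor t).map_isZero ((tilde.functor _).map_isZero (hEb i hi)))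
      (fun i hi => (Scheme.Modules.restrictFunctor h).map_isZero (hv i hi))
      (fun i z => by
        refine (CBC.isFlatOverAt_congr_iso _ ((Scheme.Modules.restrictFunctorIsoPullback h).app _) z).2 ?_
        have h' := (FDesc.Stalk.flatOverAt_pullback_iff h (V.ι ≫ f) (E''.X i) z (Flat.stalkMap h z)).2
          (hfl i _)
        rwa [← Category.assoc, hι] at h')
      (eG ≪≫ eE'.symm)
    refine ⟨U, hxU, fun F hF => ?_⟩
    obtain ⟨eF⟩ := hF
    exact ⟨_, a, max b a, hv', hterms,
      ⟨LocalD.restrictQIso U (eF ≪≫ eP.symm) ≪≫ eG.symm ≪≫ eT⟩⟩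
  · intro H
    choose V hxV hV using H
    choose G a b hv hG e using fun x => hV x P ⟨eP⟩
    refine ⟨fun m => PCohD.pc_of_local fun x => ⟨V x, (V x).ι, inferInstance, ⟨⟨x, hxV x⟩, rfl⟩, ?_⟩,
      fun x => ⟨V x, a x, b x, hxV x, fun F' hF' => ?_⟩⟩
    · exact PCohD.pc_of_iso
        ((e x).some.symm ≪≫ (Perfect.restrQ (V x).ι P).symm ≪≫ (DCoh.restrictD (V x).ι).mapIso eP)
        (PCohD.pc_of_terms (G x) (a x) (b x) (hv x)
          (fun q m' => Groth.Agent.S7275.pc_of_flat_isFP ((V x).ι ≫ f) _ (hG x q).1 (hG x q).2 m') m)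
    · obtain ⟨eF⟩ := hF'
      exact ⟨G x, hv x, fun i => (hG x i).2,
        ⟨(e x).some.symm ≪≫ LocalD.restrictQIso (V x) (eP ≪≫ eF.symm)⟩⟩

end Groth.Agent.S7275
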