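import Groth.Statements.S7276
import Groth.Agent.PerfExt.Local
import Groth.Agent.PerfExt.Compact
import Groth.Agent.PerfExt.Affine
import Groth.Agent.S1040
import Groth.Agent.CohAff.QCohAffine
import Groth.Agent.PerfExt.Gen

set_option autoImplicit false
universe u
open CategoryTheory CategoryTheory.Limits AlgebraicGeometry
attribute [local instance] HasDerivedCategory.standard
open Perf

attribute [-instance] CategoryTheory.ReflQuiver.toQuiver

namespace Groth.Agent.S7276

open DerivedCategory Pretriangulated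

variable {A : Type u} [CommRing A] {X : Scheme.{u}} [X.Over (Spec (CommRingCat.of A))]

/-- cohomology sheaves are linear -/
theorem homology_smul_id (M : DCoh.D X) (m : ℤ) (r : A) :
    (homologyFunctor X.Modules m).map (r • 𝟙 M) = r • 𝟙 _ := by
  let K := Q.objPreimage M
  let e : Q.obj K ≅ M := Q.objObjPreimageIso M
  have hK : (homologyFunctor X.Modules m).map (Q.map (r • 𝟙 K)) = r • 𝟙 _ := by
    let ι := (homologyFunctorFactors X.Modules m).app K
    have h1 := (homologyFunctorFactors X.Modules m).hom.naturality (r • 𝟙 K)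
    have h2 : (HomologicalComplex.homologyFunctor X.Modules (ComplexShape.up ℤ) m).map (r • 𝟙 K) = r • 𝟙 _ := by
      change ShortComplex.homologyMap
        ((HomologicalComplex.shortComplexFunctor X.Modules (ComplexShape.up ℤ) m).map (r • 𝟙 K)) = _
      let S : ShortComplex X.Modules := K.sc m
      have hS : ((HomologicalComplex.shortComplexFunctor X.Modules (ComplexShape.up ℤ) m).map (r • 𝟙 K) :
          S ⟶ S) = r • 𝟙 S := by ext <;> rfl
      refine (congrArg (fun φ : S ⟶ S => ShortComplex.homologyMap φ) hS).trans ?_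
      rw [ShortComplex.homologyMap_smul, ShortComplex.homologyMap_id]
      rfl
    apply (cancel_mono ι.hom).1
    refine h1.trans ?_
    rw [h2]
    simp [ι]
  have he : r • 𝟙 M = e.inv ≫ Q.map (r • 𝟙 K) ≫ e.hom := by
    rw [Functor.map_smul, CategoryTheory.Functor.map_id]
    simp [e]
  rw [he, Functor.map_comp, Functor.map_comp, hK]
  simp [← Functor.map_comp]

/-- a supported quasi-coherent module on which `a` is invertible vanishes -/
theorem isZero_of_isIso_smul (a : A) (H : X.Modules) [H.IsQuasicoherent] [IsIso (a • 𝟙 H)]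
    (hD : IsZero ((Scheme.Modules.restrictFunctor
      (X.basicOpen (Coh.toGlobal (X ↘ Spec (CommRingCat.of A)) a)).ι).obj H)) : IsZero H := by
  let D := X.basicOpen (Coh.toGlobal (X ↘ Spec (CommRingCat.of A)) a)
  have hv : ∀ V : X.Opens, IsAffineOpen V → ∀ t : Γ(H, V), t = 0 := by
    intro V hV t
    let f : Γ(X, V) := X.presheaf.map (homOfLE (le_top : V ≤ ⊤)).op (Coh.toGlobal (X ↘ Spec (CommRingCat.of A)) a)
    have hle : X.basicOpen f ≤ D := (Scheme.basicOpen_res _ _ _).trans_le inf_le_right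
    have hW : D.ι ''ᵁ (D.ι ⁻¹ᵁ X.basicOpen f) = X.basicOpen f := by
      rw [Scheme.Hom.image_preimage_eq_opensRange_inf, Scheme.Opens.opensRange_ι]
      exact inf_eq_right.2 hle
    have hs : Subsingleton Γ(H.restrict D.ι, D.ι ⁻¹ᵁ X.basicOpen f) :=
      AddCommGrpCat.subsingleton_of_isZero
        ((QCoh.sectionsFunctor (D : Scheme.{u}) (D.ι ⁻¹ᵁ X.basicOpen f)).map_isZero hD)
    have hs' : Subsingleton Γ(H, X.basicOpen f) := hW ▸ hs
    obtain ⟨n, hn⟩ := Groth.Agent.CohAff.exists_pow_smul_eq_zero H hV f t (@Subsingleton.elim _ hs' _ _)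
    induction n with
    | zero => simpa using hn
    | succ n ih =>
      refine ih ?_
      have h1 : (a • 𝟙 H).app V (f ^ n • t) = 0 := by
        rw [KLin.smul_app_apply]
        change f • (f ^ n • t) = 0
        rw [smul_smul, ← pow_succ']
        exact hn
      have h2 : (inv (a • 𝟙 H)).app V ((a • 𝟙 H).app V (f ^ n • t)) = (𝟙 H : H ⟶ H).app V (f ^ n • t) :=
        congrArg (fun ψ : H ⟶ H => ψ.app V (f ^ n • t)) (IsIso.hom_inv_id (a • 𝟙 H))
      rw [h1, map_zero] at h2
      exact h2.symm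
  rw [IsZero.iff_id_eq_zero]
  refine Scheme.Modules.hom_ext _ _ fun W => ?_
  ext s
  change s = 0
  refine TopCat.Presheaf.section_ext ⟨H.presheaf, H.isSheaf⟩ W _ _ fun x hx => ?_
  obtain ⟨V, hV, hxV, hVW⟩ := TopologicalSpace.Opens.isBasis_iff_nbhd.1 X.isBasis_affineOpens hx
  have h0 : H.presheaf.map (homOfLE hVW).op s = 0 := hv V hV _
  exact (TopCat.Presheaf.germ_res_apply H.presheaf (homOfLE hVW) x hxV s).symm.trans
    ((congrArg (H.presheaf.germ V x hxV) h0).trans ((map_zero _).trans (map_zero _).symm))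

/-- the telescope of multiplication by `a` on a supported object vanishes -/
theorem isIso_telescope (a : A) {E' : DCoh.D X} (hq : DCoh.IsQCohD E')
    (hD : IsZero ((DCoh.restrictD (X.basicOpen (Coh.toGlobal (X ↘ Spec (CommRingCat.of A)) a)).ι).obj E'))
    [HasCoproduct fun _ : ULift.{u} ℕ => E'] :
    IsIso (𝟙 _ - a • (Limits.Sigma.desc fun j : ULift.{u} ℕ =>
      Sigma.ι (fun _ : ULift.{u} ℕ => E') ⟨j.down + 1⟩)) := by
  let D := X.basicOpen (Coh.toGlobal (X ↘ Spec (CommRingCat.of A)) a)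
  let fam : ULift.{u} ℕ → DCoh.D X := fun _ => E'
  let s : ∐ fam ⟶ ∐ fam := Limits.Sigma.desc fun j => Sigma.ι fam ⟨j.down + 1⟩
  let d : ∐ fam ⟶ ∐ fam := 𝟙 _ - a • s
  change IsIso d
  have := KFlat.RPush.hasRpush D.ι
  obtain ⟨M, g, δ, hT⟩ := distinguished_cocone_triangle d
  refine (Triangle.isZero₃_iff_isIso₁ _ hT).1 ?_
  change IsZero M
  have hsd : d ≫ s = s ≫ d := by simp [d]
  obtain ⟨h, h₁, h₂⟩ : ∃ h : M ⟶ M, g ≫ h = s ≫ g ∧ δ ≫ s⟦(1 : ℤ)⟧' = h ≫ δ :=
    complete_distinguished_triangle_morphism (Triangle.mk d g δ) (Triangle.mk d g δ) hT hT s s hsd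
  let e : M ⟶ M := a • h - 𝟙 M
  have hdg : d ≫ g = 0 := comp_distTriang_mor_zero₁₂ _ hT
  have hδd : δ ≫ d⟦(1 : ℤ)⟧' = 0 := comp_distTriang_mor_zero₃₁ _ hT
  have hge : g ≫ e = 0 := by
    simp only [d, Preadditive.sub_comp, Category.id_comp, Linear.smul_comp, sub_eq_zero] at hdg
    simp only [e, Preadditive.comp_sub, Category.comp_id, Linear.comp_smul, sub_eq_zero, h₁]
    exact hdg.symm
  have heδ : e ≫ δ = 0 := by
    simp only [d, Functor.map_sub, CategoryTheory.Functor.map_id, Functor.map_smul, Preadditive.comp_sub,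
      Category.comp_id, Linear.comp_smul, sub_eq_zero] at hδd
    simp only [e, Preadditive.sub_comp, Category.id_comp, Linear.smul_comp, sub_eq_zero, ← h₂]
    exact hδd.symm
  obtain ⟨w, hw⟩ : ∃ w : (∐ fam)⟦(1 : ℤ)⟧ ⟶ M, e = δ ≫ w := Triangle.yoneda_exact₃ _ hT e hge
  have hee : e ≫ e = 0 := by
    conv_lhs => arg 2; rw [hw]
    exact (Category.assoc _ _ _).symm.trans ((congrArg (· ≫ w) heδ).trans zero_comp)
  have hah : a • h = 𝟙 M + e := by simp [e]
  have : IsIso (a • h) := ⟨𝟙 M - e, by simp [hah, hee], by simp [hah, hee]⟩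
  have : IsIso (a • 𝟙 M) := by
    have h3 : (a • 𝟙 M) ≫ h = a • h := by simp
    have h4 : h ≫ (a • 𝟙 M) = a • h := by simp
    refine ⟨h ≫ inv (a • h), by rw [← Category.assoc, h3, IsIso.hom_inv_id], ?_⟩
    have h5 : h ≫ inv (a • h) = inv (a • h) ≫ h := by
      rw [IsIso.eq_inv_comp, ← Category.assoc, IsIso.comp_inv_eq]
      simp
    rw [h5, Category.assoc, h4, IsIso.inv_hom_id]
  have hsum : IsZero ((DCoh.restrictD D.ι).obj (∐ fam)) := by
    obtain ⟨adj⟩ := PerfExt.exists_adj (X := X) D.ι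
    rw [IsZero.iff_id_eq_zero]
    refine (adj.homEquiv _ _).injective (Sigma.hom_ext _ _ fun j => ?_)
    exact (adj.homEquiv _ _).symm.injective (hD.eq_of_src _ _)
  have hM : IsZero ((DCoh.restrictD D.ι).obj M) :=
    ((DCoh.restrictD D.ι).mapTriangle.obj (Triangle.mk d g δ)).isZero₃_of_isZero₁₂
      ((DCoh.restrictD D.ι).map_distinguished _ hT) hsum hsum
  have hMq : DCoh.IsQCohD M :=
    Groth.Agent.PCohD.isQCohD_obj₃ _ hT (Groth.Agent.S1040.result X fam fun _ => hq)
      (Groth.Agent.S1040.result X fam fun _ => hq)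
  have hz : ∀ i, IsZero ((homologyFunctor X.Modules i).obj M) := fun i => by
    have : ((homologyFunctor X.Modules i).obj M).IsQuasicoherent := hMq i
    have : IsIso (a • 𝟙 ((homologyFunctor X.Modules i).obj M)) := by
      rw [← homology_smul_id]
      infer_instance
    exact isZero_of_isIso_smul a _
      (((homologyFunctor _ i).map_isZero hM).of_iso (CohDerLib.Kosz.homologyRestrictIso D M i).symm)
  have : IsIso (0 : M ⟶ M) := by
    rw [DerivedCategory.isIso_iff]
    exact fun i => isIso_of_isInitial (hz i).isInitial (hz i).isInitial _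
  rw [IsZero.iff_id_eq_zero]
  exact (cancel_epi (0 : M ⟶ M)).1 (by simp)

/-- Let X be a quasi-compact and quasi-separated scheme over Spec A for a ring A, let a ∈ A with image ā
∈ Γ(X, O_X), and let α : E ⟶ E' be a morphism in D(O_X) where E is perfect and E' has quasi-coherent
cohomology sheaves, all supported on the zero locus T = V(ā). Then aⁿ α = 0 for some n ≥ 0; here A
acts on morphisms of D(O_X) through A → Γ(X, O_X) (for A = Γ(X, O_X) over itself this is the
statement for a global function ā = a). -/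
theorem result (A : Type u) [CommRing A] (X : Scheme.{u})
    [X.Over (Spec (CommRingCat.of A))] [CompactSpace ↥X] [QuasiSeparatedSpace ↥X] (a : A) {E E' : DCoh.D X}
    (hE : DCoh.IsPerfect E) (hE'q : DCoh.IsQCohD E')
    (hsupp : ∀ i : ℤ, CohB1.support (DCoh.HD E' i) ⊆
      (X.zeroLocus (U := ⊤) {Coh.toGlobal (X ↘ Spec (CommRingCat.of A)) a} : Set X))
    (α : E ⟶ E') : ∃ n : ℕ, (a ^ n) • α = 0 := by
  classical
  let r : Γ(X, ⊤) := Coh.toGlobal (X ↘ Spec (CommRingCat.of A)) a
  have hD : IsZero ((DCoh.restrictD (X.basicOpen r).ι).obj E') :=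
    PerfExt.isZero_restrict_of_support _ fun i =>
      (hsupp i).trans (Scheme.zeroLocus_singleton (X := X) r).subset
  have := QCohD.instHasCoproductsD (X := X)
  let fam : ULift.{u} ℕ → DCoh.D X := fun _ => E'
  let s : ∐ fam ⟶ ∐ fam := Limits.Sigma.desc fun j => Sigma.ι fam ⟨j.down + 1⟩
  let d : ∐ fam ⟶ ∐ fam := 𝟙 (∐ fam) - a • s
  have : IsIso d := isIso_telescope a hE'q hD
  obtain ⟨S, t, ht⟩ := (PerfExt.finSum_of_isPerfect hE fam (fun _ => hE'q) _ (coproductIsCoproduct fam)).1
    ((α ≫ Sigma.ι fam ⟨0⟩) ≫ inv d)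
  let N := (S.image ULift.down).sup id + 1
  let φ : ∐ fam ⟶ E' := Limits.Sigma.desc fun j => if j.down ≤ N then a ^ (N - j.down) • 𝟙 E' else 0
  have hφ : ∀ j : ULift.{u} ℕ, j.down < N → Sigma.ι fam j ≫ d ≫ φ = 0 := fun j hj => by
    simp only [d, s, φ, Preadditive.sub_comp, Preadditive.comp_sub, Category.id_comp, Linear.smul_comp,
      Linear.comp_smul, Sigma.ι_desc_assoc, Sigma.ι_desc, if_pos hj.le]
    rw [if_pos (by change j.down + 1 ≤ N; omega), smul_smul, ← pow_succ', sub_eq_zero]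
    congr 2
    change N - j.down = N - (j.down + 1) + 1
    omega
  refine ⟨N, ?_⟩
  have h0 : (α ≫ Sigma.ι fam ⟨0⟩) ≫ φ = 0 := by
    have h1 := congrArg (fun x => x ≫ d ≫ φ) ht
    simp only [Category.assoc, IsIso.inv_hom_id_assoc, Preadditive.sum_comp] at h1
    rw [Category.assoc, h1]
    refine Finset.sum_eq_zero fun j hj => ?_
    have := Finset.le_sup (f := id) (Finset.mem_image_of_mem ULift.down hj)
    refine (congrArg (t j ≫ ·) (hφ j ?_)).trans comp_zero
    change j.down ≤ _ at this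
    omega
  simpa [φ] using h0

end Groth.Agent.S7276
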