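import Groth.Statements.S7280
import Groth.Agent.GammaLib.Local
import Groth.Agent.CohDerLib.QC.PushSums
import Groth.Agent.QCohD.DQ
import Groth.Agent.DHA.Brown.Coprod

set_option autoImplicit false
universe u
open CategoryTheory CategoryTheory.Limits AlgebraicGeometry
attribute [local instance] HasDerivedCategory.standard
open Perf

attribute [-instance] CategoryTheory.ReflQuiver.toQuiver

namespace Groth.Agent.S7280

/-- Let X be a scheme, j : U ⟶ X an open immersion which is quasi-compact, and T = X ∖ U (a closed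
subset with retrocompact complement). Assuming the unbounded derived functor RΓ_T = i_* RH_T of
sections with support in T exists on D(O_X): for every family Eᵢ of objects of D_QCoh(O_X) indexed
by a small type whose direct sums ∐ Eᵢ and ∐ RΓ_T(Eᵢ) exist in D(O_X), the canonical map ∐ RΓ_T(Eᵢ)
⟶ RΓ_T(∐ Eᵢ) is an isomorphism. (The published statement is RH_T(⊕ Eᵢ) = ⊕ RH_T(Eᵢ) in D(i⁻¹O_X) for
the inclusion i : T → X; since i_* identifies D(i⁻¹O_X) with the objects of D(O_X) supported on T
and commutes with direct sums, this is the same assertion for i_* RH_T = RΓ_T.) -/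
theorem result {U X : Scheme.{u}} (j : U ⟶ X) [IsOpenImmersion j] [QuasiCompact j]
    [CxOX.HasRgammaZ j] {ι : Type u} (E : ι → DCoh.D X) (hE : ∀ i, DCoh.IsQCohD (E i)) [HasCoproduct E]
    [HasCoproduct (fun i => (CxOX.RgammaZ j).obj (E i))] :
    IsIso (Sigma.desc (fun i => (CxOX.RgammaZ j).map (Sigma.ι E i))) := by
  classical
  have := QCohD.instHasCoproductsD (X := X)
  have := QCohD.instHasCoproductsD (X := U)
  have := KFlat.RPush.hasRpush j
  obtain ⟨adj⟩ := PerfExt.exists_adj (X := X) j
  choose hS C g d hT hC using fun i => GammaLib.exists_triangle j (E i)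
  let T := fun i => Pretriangulated.Triangle.mk ((CxOX.RgammaZToId j).app (E i)) (g i) (d i)
  have hT₀ := DHA.Brown.coproductTriangle_distinguished T hT
  have hS₀ : IsZero ((DCoh.restrictD j).obj (∐ fun i => (T i).obj₁)) := by
    rw [IsZero.iff_id_eq_zero]
    refine (adj.homEquiv _ _).injective (Limits.Sigma.hom_ext _ _ fun i => ?_)
    exact (adj.homEquiv _ _).symm.injective ((hS i).eq_of_src _ _)
  have hD : ∀ i, DCoh.IsQCohD ((DCoh.restrictD j).obj (C i)) := fun i => by
    have : IsIso ((DCoh.restrictD j).map (g i)) :=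
      (Pretriangulated.Triangle.isZero₁_iff_isIso₂ _ ((DCoh.restrictD j).map_distinguished _ (hT i))).1 (hS i)
    exact CohDerLib.QC.isQCohD_iso (asIso ((DCoh.restrictD j).map (g i))) (PerfExt.isQCohD_restrict j (hE i))
  have hC₀ : GammaLib.Local j (∐ fun i => (T i).obj₃) := by
    let D := fun i => (DCoh.restrictD j).obj (C i)
    have := CohDerLib.QC.isIso_sigmaComparison_Rpush j D hD
    have := fun i => GammaLib.isIso_unit_of_local j adj (hC i)
    exact GammaLib.local_of_iso j ((Limits.Sigma.mapIso fun i => asIso (adj.unit.app (C i))) ≪≫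
      asIso (sigmaComparison (DCoh.Rpush j) D)).symm (GammaLib.local_Rpush j adj (∐ D))
  refine GammaLib.isIso_lift j _ _ _ hT₀ hS₀ hC₀ _ (Limits.Sigma.hom_ext _ _ fun i => ?_)
  refine (Category.assoc _ _ _).symm.trans ?_
  refine (congrArg (· ≫ (CxOX.RgammaZToId j).app (∐ E))
    (Sigma.ι_desc (fun i => (CxOX.RgammaZ j).map (Sigma.ι E i)) i)).trans ?_
  refine ((CxOX.RgammaZToId j).naturality (Sigma.ι E i)).trans ?_
  exact (Sigma.ι_map (fun i => (T i).mor₁) i).symm

end Groth.Agent.S7280
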