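import Groth.Statements.S7282
import Groth.Agent.ProEtS.SectLim

-- import your own Groth.Agent.* helpers here

set_option autoImplicit false
open CategoryTheory CategoryTheory.Limits AlgebraicGeometry Opposite
universe u
open ProEtS

namespace Groth.Agent.S7282

/-- Let X be a scheme and F an abelian sheaf on the small etale site of X. Let (Y_i) be a cofiltered
system of objects of the small pro-etale site of X, each quasi-compact and quasi-separated, with
affine transition morphisms, and let Y be a cone over it which is a limit of the Y_i as schemes.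
Then the restriction maps exhibit the sections of the pro-etale pullback of F over Y as the colimit
of its sections over the Y_i. (Continuity of the inclusion of the etale site into the pro-etale site
is carried as a binder.) -/
theorem result (X : Scheme.{u}) [ProEtS.EpsCont X]
    {I : Type u} [SmallCategory I] [IsCofiltered I] (D : I ⥤ X.ProEt)
    [∀ (i j : I) (a : i ⟶ j), IsAffineHom (D.map a).left]
    [∀ i, CompactSpace ↥(D.obj i).left] [∀ i, QuasiSeparatedSpace ↥(D.obj i).left]
    (c : Cone D) (hc : IsLimit ((Scheme.ProEt.forget X ⋙ Over.forget X).mapCone c))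
    (F : EtCoh.Ab X) :
    Nonempty (IsColimit (((ProEtS.epsPull X).obj F).obj.mapCocone c.op)) := by
  classical
  let G := ((ProEtS.epsPull X).obj F).obj
  let e : (ProEtS.epsPull X).obj F ≅ Groth.Agent.ProEtS.EpsElem.shf F :=
    (Functor.sheafPullbackConstruction.sheafPullbackIso (ProEtS.eps X) AddCommGrpCat.{u + 1}
      X.smallEtaleTopology (Scheme.ProEt.topology X)).app F
  have hb : ∀ V, Function.Bijective (e.hom.hom.app V) := fun V =>
    (ConcreteCategory.isIso_iff_bijective _).1
      (((sheafToPresheaf _ _).mapIso e).app V).isIso_hom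
  have hn : ∀ {V W : (X.ProEt)ᵒᵖ} (f : V ⟶ W) (x : G.obj V),
      e.hom.hom.app W (G.map f x) = (Groth.Agent.ProEtS.EpsElem.shf F).obj.map f (e.hom.hom.app V x) :=
    fun f x => NatTrans.naturality_apply e.hom.hom f x
  have hrep : ∀ d : G.obj (op c.pt), ∃ (i : I) (z : G.obj (op (D.obj i))),
      G.map (c.π.app i).op z = d := fun d => by
    obtain ⟨i, z, hz⟩ := Groth.Agent.ProEtS.SectLim.exists_stage F D c hc (e.hom.hom.app (op c.pt) d)
    obtain ⟨z', rfl⟩ := (hb _).2 z
    exact ⟨i, z', (hb _).1 ((hn _ _).trans hz)⟩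
  have hzero : ∀ (j : I) (z : G.obj (op (D.obj j))), G.map (c.π.app j).op z = 0 →
      ∃ (k : I) (a : k ⟶ j), G.map (D.map a).op z = 0 := fun j z hz => by
    obtain ⟨k, a, ha⟩ := Groth.Agent.ProEtS.SectLim.exists_eq_zero F D c hc (e.hom.hom.app _ z)
      ((hn _ _).symm.trans ((congrArg _ hz).trans (map_zero _)))
    exact ⟨k, a, (hb _).1 ((hn _ _).trans (ha.trans (map_zero _).symm))⟩
  have : PreservesFilteredColimitsOfSize.{u, u} (forget AddCommGrpCat.{u + 1}) :=
    preservesFilteredColimitsOfSize_shrink.{u, u+1, u, u+1} _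
  have := reflectsColimitsOfShape_of_reflectsIsomorphisms (J := Iᵒᵖ) (G := forget AddCommGrpCat.{u + 1})
  refine ⟨isColimitOfReflects (forget AddCommGrpCat.{u + 1}) ?_⟩
  refine Types.FilteredColimit.isColimitOf' _ _ (fun d => ?_) (fun i x y hxy => ?_)
  · obtain ⟨i, z, hz⟩ := hrep d
    exact ⟨op i, z, hz.symm⟩
  · let x' : G.obj (op (D.obj i.unop)) := x
    let y' : G.obj (op (D.obj i.unop)) := y
    have hxy' : G.map (c.π.app i.unop).op x' = G.map (c.π.app i.unop).op y' := hxy
    obtain ⟨k, a, ha⟩ := hzero i.unop (x' - y') ((map_sub _ x' y').trans (sub_eq_zero.2 hxy'))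
    exact ⟨op k, a.op, sub_eq_zero.1 ((map_sub (G.map (D.map a).op).hom x' y').symm.trans ha)⟩

end Groth.Agent.S7282
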