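import Groth.Statements.S7283
import Groth.Agent.FEtCat.Full
import Groth.Agent.EtaleSite.EtaleStalkHens
import Groth.Agent.Hens.Unique
import Groth.Agent.Hens.FibreIdempotent
import Groth.Agent.NeronMap.Sections
import Mathlib.AlgebraicGeometry.Morphisms.UniversallyOpen
-- import your own Groth.Agent.* helpers here

set_option backward.isDefEq.respectTransparency.types false

set_option autoImplicit false
universe u
open Pi1

namespace Groth.Agent.S7283

open CategoryTheory CategoryTheory.Limits AlgebraicGeometry Topology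

/-- A nonempty closed subset of a quasi-sober space has a point without proper generalization in it. -/
theorem exists_generic_mem {T : Type*} [TopologicalSpace T] [QuasiSober T] [T0Space T] {F : Set T}
    (hF : IsClosed F) {y : T} (hy : y ∈ F) : ∃ η ∈ F, η ⤳ y ∧ ∀ z ∈ F, z ⤳ η → z = η := by
  let y' : F := ⟨y, hy⟩
  let C : Set T := Subtype.val '' irreducibleComponent y'
  have hCirr : IsIrreducible C := isIrreducible_irreducibleComponent.image _ continuous_subtype_val.continuousOn
  have hCcl : IsClosed C := hF.isClosedEmbedding_subtypeVal.isClosedMap _ isClosed_irreducibleComponent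
  obtain ⟨η, hη⟩ := QuasiSober.sober hCirr hCcl
  have hηC : η ∈ C := hη.mem
  obtain ⟨η', hη', rfl⟩ := hηC
  refine ⟨η', η'.2, hη.specializes ⟨y', mem_irreducibleComponent, rfl⟩, fun z hz hzη => ?_⟩
  let z' : F := ⟨z, hz⟩
  have hsub : C ⊆ closure {z} := by
    intro c hc
    exact ((hzη.trans (hη.specializes hc))).mem_closure
  have heq : irreducibleComponent y' = closure {z'} := by
    refine subset_antisymm ?_ ?_
    · intro c hc
      rw [← specializes_iff_mem_closure, subtype_specializes_iff]
      exact (hsub ⟨c, hc, rfl⟩) |> specializes_iff_mem_closure.mpr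
    · refine (eq_irreducibleComponent (isIrreducible_singleton.closure).isPreirreducible ?_).le
      intro c hc
      rw [← specializes_iff_mem_closure, subtype_specializes_iff]
      exact (hsub ⟨c, hc, rfl⟩) |> specializes_iff_mem_closure.mpr
  have hzC : z ∈ C := ⟨z', heq.ge (subset_closure rfl), rfl⟩
  exact (hzη.antisymm (hη.specializes hzC)).eq

theorem minimal_of_generalizing {A B : Type*} [TopologicalSpace A] [TopologicalSpace B] {f : A → B}
    (hf : GeneralizingMap f) {a : A} (ha : ∀ a', a' ⤳ a → a' = a) {b : B} (hb : b ⤳ f a) : b = f a := by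
  obtain ⟨a', ha', rfl⟩ := hf hb
  rw [ha a' ha']

/-- A quasi-compact open meets only finitely many closures of points without generalizations. -/
theorem finite_minimal {T : Type*} [TopologicalSpace T] [T0Space T] [QuasiSober T] (V : Set T) (hV : IsOpen V)
    (hfin : (irreducibleComponents ↥V).Finite) : {x : T | x ∈ V ∧ ∀ z, z ⤳ x → z = x}.Finite := by
  haveI : QuasiSober ↥V := hV.isOpenEmbedding_subtypeVal.quasiSober
  refine Set.Finite.of_finite_image (f := fun x => closure (Subtype.val ⁻¹' {x} : Set ↥V)) ?_ ?_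
  · refine hfin.subset ?_
    rintro _ ⟨x, ⟨hxV, hx⟩, rfl⟩
    let x' : ↥V := ⟨x, hxV⟩
    have h1 : (Subtype.val ⁻¹' {x} : Set ↥V) = {x'} := by ext z; simp [x', Subtype.ext_iff]
    dsimp only
    rw [h1]
    obtain ⟨g, hg⟩ := QuasiSober.sober (α := ↥V) isIrreducible_irreducibleComponent
      (isClosed_irreducibleComponent (x := x'))
    have hgx : g = x' := Subtype.ext
      (hx _ ((subtype_specializes_iff _ _).mp (hg.specializes mem_irreducibleComponent)))
    rw [← hgx, hg.def]
    exact irreducibleComponent_mem_irreducibleComponents x'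
  · intro x hx y hy hxy
    have hx' : (⟨x, hx.1⟩ : ↥V) ∈ closure (Subtype.val ⁻¹' {y} : Set ↥V) :=
      (show closure (Subtype.val ⁻¹' {x} : Set ↥V) = closure (Subtype.val ⁻¹' {y}) from hxy).le
        (subset_closure (show (⟨x, hx.1⟩ : ↥V) ∈ (Subtype.val ⁻¹' {x} : Set ↥V) from rfl))
    rw [closure_subtype] at hx'
    have : y ⤳ x := by
      rw [specializes_iff_mem_closure]
      refine closure_mono ?_ hx'
      rintro _ ⟨z, hz, rfl⟩
      exact hz
    exact (hx.2 y this).symm

set_option maxHeartbeats 800000 in
theorem clopenSurj {X : Scheme.{u}} (U : X.Opens) (hU : Dense (U : Set X))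
    (hirr : ∀ V : X.Opens, IsCompact (V : Set X) → (irreducibleComponents ↥V).Finite)
    (hsh : ∀ x : X, x ∉ U → ∀ (R : Type u) [CommRing R] [IsLocalRing R] [Algebra (X.presheaf.stalk x) R]
      [IsLocalHom (algebraMap (X.presheaf.stalk x) R)] [Hensel.IsStrictHenselization (X.presheaf.stalk x) R],
      ConnectedSpace (FEt.puncturedSpec R : Scheme.{u})) :
    FEtCat.Full.ClopenInj U.ι ∧ FEtCat.Full.ClopenSurj U.ι := by
  classical
  have hopen : ∀ Y : FEt.Cat X, IsOpenMap Y.hom := fun Y => by
    haveI : Etale Y.hom := Y.prop.2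
    exact Y.hom.isOpenMap
  have hdense : ∀ Y : FEt.Cat X, Dense (Y.hom ⁻¹' (U : Set X) : Set Y.left) := fun Y => hU.preimage (hopen Y)
  have hrange : ∀ Y : FEt.Cat X, Set.range (pullback.fst Y.hom U.ι) = Y.hom ⁻¹' (U : Set X) := fun Y => by
    rw [Scheme.Pullback.range_fst, Scheme.Opens.range_ι]
  refine ⟨fun Y W hW h => ?_, fun Y W' hW' => ?_⟩
  · by_contra hne
    obtain ⟨w, hwW, hwU⟩ := (hdense Y).inter_open_nonempty W hW.2 (Set.nonempty_iff_ne_empty.mpr hne)
    obtain ⟨z, rfl⟩ := (hrange Y).ge hwU
    exact Set.eq_empty_iff_forall_notMem.mp h z hwW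
  haveI : IsFinite Y.hom := Y.prop.1
  haveI : Etale Y.hom := Y.prop.2
  let f := pullback.fst Y.hom U.ι
  have hf : IsOpenEmbedding f := f.isOpenEmbedding
  let V₁ := f '' W'
  let V₂ := f '' W'ᶜ
  have hV₁ : IsOpen V₁ := hf.isOpenMap _ hW'.2
  have hV₂ : IsOpen V₂ := hf.isOpenMap _ hW'.1.isOpen_compl
  have hdisj : Disjoint V₁ V₂ := (Set.disjoint_image_iff hf.injective).mpr disjoint_compl_right
  have hunion : V₁ ∪ V₂ = Y.hom ⁻¹' (U : Set X) := by
    rw [← Set.image_union, Set.union_compl_self, Set.image_univ]
    exact hrange Y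
  have hcl : closure V₁ ∪ closure V₂ = Set.univ := by
    rw [← closure_union, hunion]
    exact (hdense Y).closure_eq
  have hempty : closure V₁ ∩ closure V₂ = ∅ := by
    by_contra hne
    obtain ⟨y, hy⟩ := Set.nonempty_iff_ne_empty.mpr hne
    obtain ⟨η, hη, -, hmin⟩ := exists_generic_mem (isClosed_closure.inter isClosed_closure) hy
    have hηU : Y.hom η ∉ U := fun h => by
      have hη' : η ∈ V₁ ∪ V₂ := hunion.ge h
      rcases hη' with h1 | h2
      · exact Set.disjoint_left.mp (hdisj.closure_right hV₁) h1 hη.2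
      · exact Set.disjoint_right.mp (hdisj.closure_left hV₂) h2 hη.1
    -- the strictly henselian neighbourhood
    let x := Y.hom η
    let ξ : Spec (CommRingCat.of (AlgebraicClosure (X.residueField x))) ⟶ X :=
      Spec.map (CommRingCat.ofHom (algebraMap (X.residueField x) _)) ≫ X.fromSpecResidueField x
    have hξ : ξ default = x := by
      rw [Scheme.Hom.comp_apply]
      exact Scheme.fromSpecResidueField_apply _ _
    obtain ⟨_, _, _, hR⟩ := EtaleSite.EtaleLocalRing.exists_isStrictHenselization ξ
    haveI := hR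
    let R : Type u := EtBase.etaleLocalRing ξ
    let L : Type u := X.presheaf.stalk (ξ default)
    haveI hconn := hsh (ξ default) (hξ.symm ▸ hηU) R
    haveI : HenselianLocalRing R := hR.henselian
    haveI : IsSepClosed (IsLocalRing.ResidueField R) :=
      (hR.isSepClosure).sep_closed
    haveI : Module.FaithfullyFlat L R := Hens.faithfullyFlat_of_isStrictHenselization (R := L) (S := R)
    have hmax := Hens.map_maximalIdeal_of_isStrictHenselization (R := L) (S := R)
    let t : Spec (CommRingCat.of R) ⟶ X :=
      Spec.map (CommRingCat.ofHom (algebraMap L R)) ≫ X.fromSpecStalk (ξ default)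
    haveI : Flat (Spec.map (CommRingCat.ofHom (algebraMap L R))) :=
      (HasRingHomProperty.Spec_iff (P := @Flat)).mpr (RingHom.flat_algebraMap_iff.mpr inferInstance)
    haveI : Flat (X.fromSpecStalk (ξ default)) := Hens.FibreIdempotent.flat_fromSpecStalk _
    have htc : t (IsLocalRing.closedPoint R) = x := by
      refine Eq.trans ?_ hξ
      rw [Scheme.Hom.comp_apply]
      refine Eq.trans (congrArg _ (IsLocalRing.comap_closedPoint (algebraMap L R))) ?_
      exact Scheme.fromSpecStalk_closedPoint
    have hclosed : ∀ p : Spec (CommRingCat.of R), t p = x → p = IsLocalRing.closedPoint R := by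
      intro p hp
      have h1 : Spec.map (CommRingCat.ofHom (algebraMap L R)) p = IsLocalRing.closedPoint L := by
        refine (X.fromSpecStalk (ξ default)).isEmbedding.injective ?_
        refine Eq.trans ?_ Scheme.fromSpecStalk_closedPoint.symm
        rw [← Scheme.Hom.comp_apply]
        exact hp.trans hξ.symm
      refine PrimeSpectrum.ext (le_antisymm (IsLocalRing.le_maximalIdeal p.isPrime.ne_top) ?_)
      show IsLocalRing.maximalIdeal R ≤ p.asIdeal
      rw [← hmax, Ideal.map_le_iff_le_comap]
      exact (congrArg PrimeSpectrum.asIdeal h1).ge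
    let P := pullback Y.hom t
    let g : P ⟶ Spec (CommRingCat.of R) := pullback.snd Y.hom t
    obtain ⟨v, hv, hvc⟩ := Scheme.Pullback.exists_preimage_pullback (f := Y.hom) (g := t) η (IsLocalRing.closedPoint R) htc.symm
    haveI : IsFinite g := inferInstance
    have hfib : (g ⁻¹' {IsLocalRing.closedPoint R}).Finite := g.finite_preimage_singleton _
    have hclfib : ∀ q ∈ g ⁻¹' {IsLocalRing.closedPoint R}, IsClosed ({q} : Set P) := fun q hq => by
      have hcl' : IsClosed (g ⁻¹' {IsLocalRing.closedPoint R}) :=
        (IsLocalRing.isClosed_singleton_closedPoint (R := R)).preimage g.continuous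
      refine isClosed_of_closure_subset fun q' hq' => ?_
      have hspec : q ⤳ q' := specializes_iff_mem_closure.mpr hq'
      have hq'' : q' ∈ g ⁻¹' {IsLocalRing.closedPoint R} :=
        hcl'.closure_subset_iff.mpr (Set.singleton_subset_iff.mpr hq) hq'
      obtain ⟨N, hN, hNeq⟩ := isDiscrete_iff_forall_exists_isOpen.mp
        (g.isDiscrete_preimage_singleton (IsLocalRing.closedPoint R)) q' hq''
      have : q ∈ N ∩ (g ⁻¹' {IsLocalRing.closedPoint R}) :=
        ⟨hspec.mem_open hN (hNeq.ge rfl).1, hq⟩
      exact Set.mem_singleton_iff.mpr (Set.mem_singleton_iff.mp (hNeq.le this)).symm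
    let O : (P : Scheme.{u}).Opens := ⟨(⋃ q ∈ (g ⁻¹' {IsLocalRing.closedPoint R}) \ {v}, {q})ᶜ,
      (Set.Finite.isClosed_biUnion (hfib.subset Set.diff_subset) fun q hq => hclfib q hq.1).isOpen_compl⟩
    obtain ⟨σ, hσ, hσO⟩ := NeronMap.Sections.exists_section_mem g O (z := v) (by
      intro h
      simp only [Set.mem_iUnion, Set.mem_singleton_iff] at h
      obtain ⟨q, hq, rfl⟩ := h
      exact hq.2 rfl) hvc
    have hσv : σ (IsLocalRing.closedPoint R) = v := by
      by_contra h
      refine hσO ?_
      simp only [Set.mem_iUnion, Set.mem_singleton_iff]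
      refine ⟨σ (IsLocalRing.closedPoint R), ⟨?_, h⟩, rfl⟩
      show g (σ (IsLocalRing.closedPoint R)) = IsLocalRing.closedPoint R
      rw [← Scheme.Hom.comp_apply, hσ]
      rfl
    haveI : Etale (σ ≫ g) := by rw [hσ]; infer_instance
    haveI : Etale σ := Etale.of_comp σ g
    let r := σ ≫ pullback.fst Y.hom t
    haveI : Flat r := inferInstance
    have hr : r ≫ Y.hom = t := by
      rw [Category.assoc, pullback.condition, ← Category.assoc, hσ, Category.id_comp]
    have hrc : r (IsLocalRing.closedPoint R) = η := by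
      rw [Scheme.Hom.comp_apply, hσv, hv]
    have hgen : ∀ p : Spec (CommRingCat.of R), p ≠ IsLocalRing.closedPoint R →
        r p ∉ closure V₁ ∩ closure V₂ := by
      intro p hp hpF
      refine hp (hclosed p ?_)
      have h1 : r p = η := hmin _ hpF <| by
        rw [← hrc]
        exact ((PrimeSpectrum.le_iff_specializes p (IsLocalRing.closedPoint R)).mp
          (IsLocalRing.le_maximalIdeal p.isPrime.ne_top)).map r.continuous
      rw [← hr, Scheme.Hom.comp_apply, h1]
    -- each of the two sides reaches the punctured spectrum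
    obtain ⟨_, ⟨(A : X.Opens), hA, rfl⟩, hxA, -⟩ :=
      X.isBasis_affineOpens.exists_subset_of_mem_open (Set.mem_univ x) isOpen_univ
    let M : Set Y.left := {m | Y.hom m ∈ A ∧ ∀ z, z ⤳ m → z = m}
    have hM : M.Finite := by
      refine Set.Finite.subset ((finite_minimal (A : Set X) A.2 (hirr A hA.isCompact)).biUnion
        fun a _ => Y.hom.finite_preimage_singleton a) fun m hm => ?_
      refine Set.mem_biUnion (x := Y.hom m) ⟨hm.1, fun z hz => ?_⟩ rfl
      exact minimal_of_generalizing (Flat.generalizingMap Y.hom) hm.2 hz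
    have hreach : ∀ V : Set Y.left, IsOpen V → η ∈ closure V → η ∉ V →
        ∃ p, p ≠ IsLocalRing.closedPoint R ∧ r p ∈ V := by
      intro V hV hηV hηnV
      have hsub : V ∩ Y.hom ⁻¹' (A : Set X) ⊆ ⋃ m ∈ M ∩ V, closure {m} := by
        rintro w ⟨hwV, hwA⟩
        obtain ⟨m, hm⟩ := QuasiSober.sober isIrreducible_irreducibleComponent
          (isClosed_irreducibleComponent (x := w))
        have hmw : m ⤳ w := hm.specializes mem_irreducibleComponent
        refine Set.mem_biUnion ⟨⟨hmw.mem_open (A.2.preimage Y.hom.continuous) hwA, fun z hz => ?_⟩,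
          hmw.mem_open hV hwV⟩ hmw.mem_closure
        have hle : irreducibleComponent w ⊆ closure {z} := hm.def.ge.trans
          (closure_minimal (Set.singleton_subset_iff.mpr hz.mem_closure) isClosed_closure)
        have := eq_irreducibleComponent (isIrreducible_singleton (x := z)).closure.isPreirreducible hle
        exact (hz.antisymm (hm.specializes (this.le (subset_closure rfl)))).eq
      have hηc : η ∈ closure (V ∩ Y.hom ⁻¹' (A : Set X)) := by
        rw [Set.inter_comm]
        exact (A.2.preimage Y.hom.continuous).inter_closure ⟨hxA, hηV⟩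
      have := closure_minimal hsub ((hM.subset Set.inter_subset_left).isClosed_biUnion fun _ _ => isClosed_closure) hηc
      simp only [Set.mem_iUnion] at this
      obtain ⟨m, ⟨-, hmV⟩, hmη⟩ := this
      have hmη' : m ⤳ r (IsLocalRing.closedPoint R) := hrc.symm ▸ specializes_iff_mem_closure.mpr hmη
      obtain ⟨p, -, hpm⟩ := Flat.generalizingMap r hmη'
      refine ⟨p, fun h => hηnV ?_, hpm ▸ hmV⟩
      rw [← hrc, ← h, hpm]
      exact hmV
    have hP : _root_.IsPreconnected (FEt.puncturedSpec R : Set (Spec (CommRingCat.of R))) := by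
      haveI := hconn
      exact isPreconnected_iff_preconnectedSpace.mpr
        (inferInstanceAs (PreconnectedSpace ↥(FEt.puncturedSpec R : Scheme.{u})))
    have hηn : η ∉ V₁ ∧ η ∉ V₂ := ⟨fun h => hηU (hunion.le (Or.inl h)), fun h => hηU (hunion.le (Or.inr h))⟩
    obtain ⟨p₁, hp₁, hp₁V⟩ := hreach V₁ hV₁ hη.1 hηn.1
    obtain ⟨p₂, hp₂, hp₂V⟩ := hreach V₂ hV₂ hη.2 hηn.2
    obtain ⟨p, hpP, hp1, hp2⟩ := isPreconnected_closed_iff.mp hP (r ⁻¹' closure V₁) (r ⁻¹' closure V₂)
      (isClosed_closure.preimage r.continuous) (isClosed_closure.preimage r.continuous)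
      (fun p _ => hcl.ge (Set.mem_univ (r p))) ⟨p₁, hp₁, subset_closure hp₁V⟩ ⟨p₂, hp₂, subset_closure hp₂V⟩
    exact hgen p hpP ⟨hp1, hp2⟩
  refine ⟨closure V₁, ⟨isClosed_closure, ?_⟩, ?_⟩
  · have : closure V₁ = (closure V₂)ᶜ :=
      Set.Subset.antisymm (fun z h1 h2 => Set.eq_empty_iff_forall_notMem.mp hempty z ⟨h1, h2⟩)
        (fun z h => (hcl.ge (Set.mem_univ z)).resolve_right h)
    rw [this]
    exact isClosed_closure.isOpen_compl
  · ext w
    constructor
    · intro hw
      by_contra h
      exact Set.eq_empty_iff_forall_notMem.mp hempty (f w) ⟨hw, subset_closure ⟨w, h, rfl⟩⟩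
    · intro hw
      exact subset_closure ⟨w, hw, rfl⟩

open AlgebraicGeometry CategoryTheory CategoryTheory.Limits in
/-- Let X be a scheme and U a dense open subscheme such that every quasi-compact open subset of X has
finitely many irreducible components and, for every point x of the complement of U and every strict
henselization R of the local ring at x, the punctured spectrum of R is connected. Then restriction
of finite etale covers from X to U is fully faithful. -/
theorem result {X : Scheme.{u}} (U : X.Opens)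
    (hU : Dense (U : Set X))
    (hirr : ∀ V : X.Opens, IsCompact (V : Set X) → (irreducibleComponents ↥V).Finite)
    (hsh : ∀ x : X, x ∉ U → ∀ (R : Type u) [CommRing R] [IsLocalRing R] [Algebra (X.presheaf.stalk x) R]
      [IsLocalHom (algebraMap (X.presheaf.stalk x) R)] [Hensel.IsStrictHenselization (X.presheaf.stalk x) R],
      ConnectedSpace (FEt.puncturedSpec R : Scheme.{u})) :
    (FEt.restrict U.ι).Full ∧ (FEt.restrict U.ι).Faithful := by
  obtain ⟨h1, h2⟩ := clopenSurj U hU hirr hsh
  exact FEtCat.Full.full_faithful _ h1 h2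

end Groth.Agent.S7283
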