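import Groth.Statements.S7286
import Groth.Agent.ProEtS.Covers

set_option autoImplicit false
open CategoryTheory CategoryTheory.Limits AlgebraicGeometry Opposite
universe u
open ProEtS

namespace Groth.Agent.S7286

/-- Transposed to the small pro-etale site: every object U of the small pro-etale site of a scheme X has
a covering family all of whose members are affine schemes whose rings of global functions are
w-contractible. -/
theorem result {X : Scheme.{u}} (U : X.ProEt) :
    ∃ (ι : Type u) (V : ι → X.ProEt) (g : ∀ i, V i ⟶ U),
      Sieve.generate (Presieve.ofArrows V g) ∈ Scheme.ProEt.topology X U ∧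
        ∀ i, IsAffine (V i).left ∧ EtPBC.IsWContractible ↥(Γ((V i).left, ⊤)) := by
  obtain ⟨V, g, hg, h⟩ := Groth.Agent.ProEtS.Covers.exists_wc_family U
    (fun i : U.left.affineOpens => i.1) (fun i => i.2)
    (Groth.Agent.ProEtS.Covers.affineOpens_cover U.left)
  exact ⟨_, V, g, hg, h⟩

end Groth.Agent.S7286
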