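import Groth.Statements.S7287
import Groth.Agent.TrdegPair47.Gen

set_option autoImplicit false
open CategoryTheory CategoryTheory.Limits AlgebraicGeometry Opposite
universe u
open RelCyc

namespace Groth.Agent.S7287

/-- Let f from X to S be locally of finite type, r a natural number and g from S' to S a surjective
morphism. Let S'' be the fibre product of S' with itself over S (projections p, q), X' the base
change of X along g (structure map f', projection g' to X), and X'' the base change of X along S''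
with structure map f'' and the two projections p', q' to X' lying over p and q and compatible with
the projections to X. Let x be a point of X whose residue field has transcendence degree r over that
of f(x). If x1 and x2 are points of X' mapping to x whose residue fields have transcendence degree r
over those of their images in S', then there is a point of X'' whose residue field has transcendence
degree r over that of its image in S'' and whose two projections are x1 and x2. -/
theorem result {X S S' S'' X' X'' : Scheme.{u}}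
    (f : X ⟶ S) [LocallyOfFiniteType f] (r : ℕ) (g : S' ⟶ S) [Surjective g]
    (p q : S'' ⟶ S') (hS : IsPullback p q g g)
    (f' : X' ⟶ S') (g' : X' ⟶ X) (hX : IsPullback g' f' f g)
    (f'' : X'' ⟶ S'') (p' q' : X'' ⟶ X') (hp : IsPullback p' f'' f' p) (hq : IsPullback q' f'' f' q)
    (hpq : p' ≫ g' = q' ≫ g')
    (x : ↥X) (hx : Dual3.resTrdeg f x = r)
    (x₁ x₂ : ↥X') (h₁ : g'.base x₁ = x) (h₂ : g'.base x₂ = x)
    (hx₁ : Dual3.resTrdeg f' x₁ = r) (hx₂ : Dual3.resTrdeg f' x₂ = r) :
    ∃ x'' : ↥X'', Dual3.resTrdeg f'' x'' = r ∧ p'.base x'' = x₁ ∧ q'.base x'' = x₂ := by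
  open TrdegPair47 in
  let s : ↥S := f x
  have e₁ : g (f' x₁) = f x := by
    subst h₁
    rw [← Scheme.Hom.comp_apply, ← hX.w, Scheme.Hom.comp_apply]
  have e₂ : g (f' x₂) = f x := by
    subst h₂
    rw [← Scheme.Hom.comp_apply, ← hX.w, Scheme.Hom.comp_apply]
  letI : Algebra (S.residueField s) (X.residueField x) := (f.residueFieldMap x).hom.toAlgebra
  letI : Algebra (S.residueField s) (S'.residueField (f' x₁)) := (res g (f' x₁) s e₁).hom.toAlgebra
  letI : Algebra (S.residueField s) (S'.residueField (f' x₂)) := (res g (f' x₂) s e₂).hom.toAlgebra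
  letI : Algebra (X.residueField x) (X'.residueField x₁) := (res g' x₁ x h₁).hom.toAlgebra
  letI : Algebra (X.residueField x) (X'.residueField x₂) := (res g' x₂ x h₂).hom.toAlgebra
  letI : Algebra (S'.residueField (f' x₁)) (X'.residueField x₁) :=
    (f'.residueFieldMap x₁).hom.toAlgebra
  letI : Algebra (S'.residueField (f' x₂)) (X'.residueField x₂) :=
    (f'.residueFieldMap x₂).hom.toAlgebra
  letI : Algebra (S.residueField s) (X'.residueField x₁) :=
    (f.residueFieldMap x ≫ res g' x₁ x h₁).hom.toAlgebra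
  letI : Algebra (S.residueField s) (X'.residueField x₂) :=
    (f.residueFieldMap x ≫ res g' x₂ x h₂).hom.toAlgebra
  haveI : IsScalarTower (S.residueField s) (X.residueField x) (X'.residueField x₁) :=
    .of_algebraMap_eq' rfl
  haveI : IsScalarTower (S.residueField s) (X.residueField x) (X'.residueField x₂) :=
    .of_algebraMap_eq' rfl
  haveI : IsScalarTower (S.residueField s) (S'.residueField (f' x₁)) (X'.residueField x₁) :=
    .of_algebraMap_eq' (congrArg CommRingCat.Hom.hom
      (res_rfl f x ▸ res_comm hX.w x₁ x h₁ (f x) rfl e₁))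
  haveI : IsScalarTower (S.residueField s) (S'.residueField (f' x₂)) (X'.residueField x₂) :=
    .of_algebraMap_eq' (congrArg CommRingCat.Hom.hom
      (res_rfl f x ▸ res_comm hX.w x₂ x h₂ (f x) rfl e₂))
  obtain ⟨T, hT⟩ := exists_isTranscendenceBasis (S.residueField s) (X.residueField x)
  have hTr : Cardinal.mk T = r := hT.cardinalMk_eq_trdeg.trans hx
  haveI : Finite T := Cardinal.lt_aleph0_iff_finite.1 (hTr ▸ Cardinal.natCast_lt_aleph0)
  have hb₁ := isTranscendenceBasis_of_adjoin_eq_top
    (M := S'.residueField (f' x₁)) (K := X'.residueField x₁)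
    (adjoin_eq_top_of_isPullback hX x₁ x h₁) hT (hTr.trans hx₁.symm).le
  have hb₂ := isTranscendenceBasis_of_adjoin_eq_top
    (M := S'.residueField (f' x₂)) (K := X'.residueField x₂)
    (adjoin_eq_top_of_isPullback hX x₂ x h₂) hT (hTr.trans hx₂.symm).le
  obtain ⟨M, E, _, _, j, ψ₁, ψ₂, φ₁, φ₂, hk, hj₁, hj₂, hL, hind⟩ := exists_amalgam hT hb₁ hb₂
  let η₁ : Spec (.of E) ⟶ X' := Spec.map (CommRingCat.ofHom φ₁) ≫ X'.fromSpecResidueField x₁
  let η₂ : Spec (.of E) ⟶ X' := Spec.map (CommRingCat.ofHom φ₂) ≫ X'.fromSpecResidueField x₂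
  let μ₁ : Spec (.of M) ⟶ S' := Spec.map (CommRingCat.ofHom ψ₁) ≫ S'.fromSpecResidueField (f' x₁)
  let μ₂ : Spec (.of M) ⟶ S' := Spec.map (CommRingCat.ofHom ψ₂) ≫ S'.fromSpecResidueField (f' x₂)
  let jj : Spec (.of E) ⟶ Spec (.of M) := Spec.map (CommRingCat.ofHom j)
  have hμ : μ₁ ≫ g = μ₂ ≫ g := by
    simp only [μ₁, μ₂, Category.assoc]
    rw [← specMap_res g (f' x₁) s e₁, ← specMap_res g (f' x₂) s e₂, ← Spec.map_comp_assoc,
      ← Spec.map_comp_assoc]
    congr 2
    exact CommRingCat.hom_ext hk
  have hη₁ : η₁ ≫ f' = jj ≫ μ₁ := by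
    simp only [η₁, μ₁, jj, Category.assoc]
    rw [← Scheme.Hom.SpecMap_residueFieldMap_fromSpecResidueField, ← Spec.map_comp_assoc,
      ← Spec.map_comp_assoc]
    congr 2
    exact CommRingCat.hom_ext hj₁
  have hη₂ : η₂ ≫ f' = jj ≫ μ₂ := by
    simp only [η₂, μ₂, jj, Category.assoc]
    rw [← Scheme.Hom.SpecMap_residueFieldMap_fromSpecResidueField, ← Spec.map_comp_assoc,
      ← Spec.map_comp_assoc]
    congr 2
    exact CommRingCat.hom_ext hj₂
  have hη : η₁ ≫ g' = η₂ ≫ g' := by
    simp only [η₁, η₂, Category.assoc]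
    rw [← specMap_res g' x₁ x h₁, ← specMap_res g' x₂ x h₂, ← Spec.map_comp_assoc,
      ← Spec.map_comp_assoc]
    congr 2
    exact CommRingCat.hom_ext hL
  let σ : Spec (.of M) ⟶ S'' := hS.lift μ₁ μ₂ hμ
  have hw : η₁ ≫ f' = (jj ≫ σ) ≫ p := by
    rw [hη₁, Category.assoc, hS.lift_fst]
  let ε : Spec (.of E) ⟶ X'' := hp.lift η₁ (jj ≫ σ) hw
  have hεp : ε ≫ p' = η₁ := hp.lift_fst _ _ _
  have hεf : ε ≫ f'' = jj ≫ σ := hp.lift_snd _ _ _
  have hεq : ε ≫ q' = η₂ := by
    apply hX.hom_ext
    · rw [Category.assoc, ← hpq, ← Category.assoc, hεp, hη]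
    · rw [Category.assoc, hq.w, ← Category.assoc, hεf, Category.assoc, hS.lift_snd, hη₂]
  obtain ⟨x'', ε₀, hε⟩ := exists_eq_fromSpec E ε
  obtain ⟨s'', σ₀, hσ⟩ := exists_eq_fromSpec M σ
  let z : ↥(Spec (CommRingCat.of E)) := IsLocalRing.closedPoint E
  have hpt : ε z = x'' := by rw [hε]; exact fromSpec_comp_apply ε₀ z
  have hp₁ : p' x'' = x₁ := by
    rw [← hpt, ← Scheme.Hom.comp_apply, hεp]
    exact fromSpec_comp_apply _ z
  have hp₂ : q' x'' = x₂ := by
    rw [← hpt, ← Scheme.Hom.comp_apply, hεq]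
    exact fromSpec_comp_apply _ z
  obtain rfl : f'' x'' = s'' := by
    rw [← hpt, ← Scheme.Hom.comp_apply, hεf, hσ, Scheme.Hom.comp_apply]
    exact fromSpec_comp_apply σ₀ _
  refine ⟨x'', ?_, hp₁, hp₂⟩
  have hX'' : IsPullback (p' ≫ g') f'' f (p ≫ g) := hp.paste_horiz hX
  have hx'' : (p' ≫ g') x'' = x := by
    rw [Scheme.Hom.comp_apply, hp₁]
    exact h₁
  have e'' : (p ≫ g) (f'' x'') = f x := by
    rw [← Scheme.Hom.comp_apply, ← hX''.w, Scheme.Hom.comp_apply, hx'']
  letI : Algebra (S.residueField s) (S''.residueField (f'' x'')) :=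
    (res (p ≫ g) (f'' x'') s e'').hom.toAlgebra
  letI : Algebra (X.residueField x) (X''.residueField x'') :=
    (res (p' ≫ g') x'' x hx'').hom.toAlgebra
  letI : Algebra (S''.residueField (f'' x'')) (X''.residueField x'') :=
    (f''.residueFieldMap x'').hom.toAlgebra
  letI : Algebra (S.residueField s) (X''.residueField x'') :=
    (f.residueFieldMap x ≫ res (p' ≫ g') x'' x hx'').hom.toAlgebra
  haveI : IsScalarTower (S.residueField s) (X.residueField x) (X''.residueField x'') :=
    .of_algebraMap_eq' rfl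
  haveI : IsScalarTower (S.residueField s) (S''.residueField (f'' x'')) (X''.residueField x'') :=
    .of_algebraMap_eq' (congrArg CommRingCat.Hom.hom
      (res_rfl f x ▸ res_comm hX''.w x'' x hx'' (f x) rfl e''))
  have hσε : f''.residueFieldMap x'' ≫ ε₀ = σ₀ ≫ CommRingCat.ofHom j := by
    refine residueField_hom_ext ?_
    rw [Spec.map_comp, Spec.map_comp, Category.assoc, Category.assoc,
      Scheme.Hom.SpecMap_residueFieldMap_fromSpecResidueField, ← Category.assoc, ← hε, hεf, hσ]
  have hεx : res (p' ≫ g') x'' x hx'' ≫ ε₀ = res g' x₁ x h₁ ≫ CommRingCat.ofHom φ₁ := by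
    refine residueField_hom_ext ?_
    rw [Spec.map_comp, Spec.map_comp, Category.assoc, Category.assoc, specMap_res, specMap_res,
      ← Category.assoc, ← hε, ← Category.assoc ε, hεp]
    exact Category.assoc _ _ _
  refine le_antisymm ?_ ?_
  · rw [← hx]
    exact Groth.Agent.TrdegBC.trdeg_le_of_adjoin_eq_top (k := S.residueField s)
      (K := S''.residueField (f'' x'')) (L := X.residueField x) (F := X''.residueField x'')
      (adjoin_eq_top_of_isPullback hX'' x'' x hx'')
  · rw [← hTr]
    letI := j.toAlgebra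
    refine AlgebraicIndependent.cardinalMk_le_trdeg
      (x := fun i : T => algebraMap (X.residueField x) (X''.residueField x'') i) ?_
    refine AlgebraicIndependent.of_ringHom_of_comp_eq (f := σ₀.hom) (g := ε₀.hom) (S := M) (B := E)
      ?_ σ₀.hom.injective (congrArg CommRingCat.Hom.hom hσε).symm
    convert hind using 1
    funext i
    exact congrArg (fun m : X.residueField x ⟶ CommRingCat.of E => m.hom (i : X.residueField x)) hεx

end Groth.Agent.S7287
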