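import Groth.Statements.S7288
import Groth.Agent.EtModWLib.EpsExt

set_option autoImplicit false
open CategoryTheory CategoryTheory.Limits AlgebraicGeometry Opposite
universe u
open EtModW

namespace Groth.Agent.S7288

/-- Let X be a scheme and Λ a ring. The essential image of the pullback functor from sheaves of
Λ-modules on the small etale site of X to sheaves of Λ-modules on the small pro-etale site is a weak
Serre subcategory: the kernel and the cokernel of a morphism between objects of the essential image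
lie in it, and an extension of two objects of the essential image lies in it. (Continuity of the
inclusion of the etale site into the pro-etale site is carried as a binder.) -/
theorem result (Λ : Type (u + 1)) [CommRing Λ] (X : Scheme.{u})
    [ProEtS.EpsCont X] :
    (∀ (F G : EtModW.ModP Λ X) (φ : F ⟶ G), (EtModW.epsPullMod Λ X).essImage F →
      (EtModW.epsPullMod Λ X).essImage G →
        (EtModW.epsPullMod Λ X).essImage (kernel φ) ∧ (EtModW.epsPullMod Λ X).essImage (cokernel φ)) ∧
    ∀ (T : ShortComplex (EtModW.ModP Λ X)), T.ShortExact →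
      (EtModW.epsPullMod Λ X).essImage T.X₁ → (EtModW.epsPullMod Λ X).essImage T.X₃ →
        (EtModW.epsPullMod Λ X).essImage T.X₂ := by
  have hW := Groth.Agent.EtModWLib.isWeakSerre_image_epsPullMod (Λ := Λ) (X := X) ⊤
  have hi : ∀ {F : EtModW.ModP Λ X}, (∃ E : EtModW.Mod Λ X, (⊤ : ObjectProperty (EtModW.Mod Λ X)) E ∧
      Nonempty ((EtModW.epsPullMod Λ X).obj E ≅ F)) ↔ (EtModW.epsPullMod Λ X).essImage F :=
    ⟨fun ⟨E, _, h⟩ => ⟨E, h⟩, fun ⟨E, h⟩ => ⟨E, trivial, h⟩⟩
  let P : ObjectProperty (EtModW.ModP Λ X) := fun F => ∃ E : EtModW.Mod Λ X,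
    (⊤ : ObjectProperty (EtModW.Mod Λ X)) E ∧ Nonempty ((EtModW.epsPullMod Λ X).obj E ≅ F)
  have : WSerre.IsWeakSerre P := hW
  refine ⟨fun F G φ hF hG => ⟨hi.1 ?_, hi.1 ?_⟩, fun T hT h₁ h₃ => hi.1 ?_⟩
  · exact P.prop_kernel φ (hi.2 hF) (hi.2 hG)
  · exact P.prop_cokernel φ (hi.2 hF) (hi.2 hG)
  · exact P.prop_X₂_of_shortExact hT (hi.2 h₁) (hi.2 h₃)

end Groth.Agent.S7288
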