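import Groth.Statements.S7292
import Groth.Agent.HTopUltra.Refine
import Groth.Agent.LimLib.FPSystem
-- import your own Groth.Agent.* helpers here

set_option autoImplicit false
open CategoryTheory CategoryTheory.Limits AlgebraicGeometry Opposite
universe w u
open HTop

namespace Groth.Agent.S7292

/-- Let f be a morphism of affine schemes from X to Y. The following are equivalent: (1) the one-member
family given by f is a standard V covering; (2) X (with f) is the limit, as a scheme over Y, of a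
cofiltered system of affine schemes X_i over Y such that each one-member family X_i over Y is a ph
covering; (3) the same with each X_i over Y an h covering. -/
theorem result {X Y : Scheme.{u}} [IsAffine X] [IsAffine Y] (f : X ⟶ Y) :
    List.TFAE
      [HTop.IsStandardV (PreZeroHypercover.singleton.{w} f),
       ∃ (I : Type u) (_ : SmallCategory I) (_ : IsCofiltered I) (D : I ⥤ Over Y) (c : Cone D)
          (_ : IsLimit ((Over.forget Y).mapCone c)) (_ : c.pt ≅ Over.mk f),
          (∀ i, IsAffine (D.obj i).left) ∧ ∀ i, HTop.IsPhCover (PreZeroHypercover.singleton.{w} (D.obj i).hom),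
       ∃ (I : Type u) (_ : SmallCategory I) (_ : IsCofiltered I) (D : I ⥤ Over Y) (c : Cone D)
          (_ : IsLimit ((Over.forget Y).mapCone c)) (_ : c.pt ≅ Over.mk f),
          (∀ i, IsAffine (D.obj i).left) ∧ ∀ i, HTop.IsHCover (PreZeroHypercover.singleton.{w} (D.obj i).hom)] := by
  have out : HTop.IsStandardV (PreZeroHypercover.singleton.{w} f) →
      ∃ (I : Type u) (_ : SmallCategory I) (_ : IsCofiltered I) (D : I ⥤ Over Y) (c : Cone D)
        (_ : IsLimit ((Over.forget Y).mapCone c)) (_ : c.pt ≅ Over.mk f),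
        (∀ i, IsAffine (D.obj i).left) ∧ (∀ i, LocallyOfFinitePresentation (D.obj i).hom) ∧
          ∀ i, HTop.IsVCover (PreZeroHypercover.singleton.{w} (D.obj i).hom) := by
    intro hf
    obtain ⟨P⟩ := Groth.Agent.LimLib.nonempty_fpSystem f
    obtain ⟨i₀, hi₀⟩ := P.eventually_isAffineHom
    obtain ⟨I, _, _, _, σ, c, hσ, ⟨hc⟩, ⟨e⟩⟩ := P.exists_tail i₀
    let D : Iᵒᵖ ⥤ Over Y := σ.monotone.functor.op ⋙ P.D
    let c' : Cone D := c.extend e.inv
    have hc' : IsLimit ((Over.forget Y).mapCone c') :=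
      (Groth.Agent.LimLib.isLimitForget (hc.extendIso e.inv)).some
    have hDa : ∀ i, IsAffine (D.obj i).left := fun i => by
      have hhom : IsAffineHom (P.D.obj (op (σ i.unop))).hom := hi₀ _ (homOfLE (hσ i.unop)).op
      exact @isAffine_of_isAffineHom _ _ (P.D.obj (op (σ i.unop))).hom hhom ‹IsAffine Y›
    exact ⟨Iᵒᵖ, inferInstance, inferInstance, D, c', hc', Iso.refl _, hDa, fun i => P.lfp _, fun i =>
      Groth.Agent.HTopLib.isVCover_of_isStandardV ⟨‹_›, inferInstanceAs (Finite PUnit), fun _ => hDa i,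
        Groth.Agent.HTopLib.hasValLift_of_cone D c' hf.lift i⟩⟩
  have back : ∀ (I : Type u) [SmallCategory I] [IsCofiltered I] (D : I ⥤ Over Y) (c : Cone D),
      IsLimit ((Over.forget Y).mapCone c) → (c.pt ≅ Over.mk f) → (∀ i, IsAffine (D.obj i).left) →
      (∀ i, HTop.IsVCover (PreZeroHypercover.singleton.{w} (D.obj i).hom)) →
      HTop.IsStandardV (PreZeroHypercover.singleton.{w} f) := by
    intro I _ _ D c hc e hDa hV
    haveI := hDa
    have h := Groth.Agent.HTopLib.hasValLift_of_limit D c hc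
      fun i => Groth.Agent.HTopUltra.hasValLift_of_isVCover (hV i)
    refine ⟨inferInstance, inferInstanceAs (Finite PUnit), fun _ => inferInstanceAs (IsAffine X), fun V _ _ g => ?_⟩
    obtain ⟨W, hW, hW', φ, hφ, _j, g', hg'⟩ := h V g
    let g₁ : Spec W ⟶ c.pt.left := g'
    have hg₁ : g₁ ≫ c.pt.hom = Spec.map φ ≫ g := hg'
    refine ⟨W, hW, hW', φ, hφ, PUnit.unit, g₁ ≫ e.hom.left, ?_⟩
    show (g₁ ≫ e.hom.left) ≫ f = _
    rw [Category.assoc, show e.hom.left ≫ f = c.pt.hom from Over.w e.hom, hg₁]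
  tfae_have 1 → 2
  | hf => by
    obtain ⟨I, _, _, D, c, hc, e, hDa, hlfp, hV⟩ := out hf
    exact ⟨I, inferInstance, inferInstance, D, c, hc, e, hDa,
      fun i => Groth.Agent.HTopUltra.isPhCover_of_isVCover (fun _ => hlfp i) (hV i)⟩
  tfae_have 1 → 3
  | hf => by
    obtain ⟨I, _, _, D, c, hc, e, hDa, hlfp, hV⟩ := out hf
    exact ⟨I, inferInstance, inferInstance, D, c, hc, e, hDa, fun i => ⟨fun _ => hlfp i, hV i⟩⟩
  tfae_have 2 → 1
  | ⟨I, _, _, D, c, hc, e, hDa, hph⟩ =>
    back I D c hc e hDa fun i => Groth.Agent.HTopUltra.isVCover_of_isPhCover (hph i)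
  tfae_have 3 → 1
  | ⟨I, _, _, D, c, hc, e, hDa, hh⟩ => back I D c hc e hDa fun i => (hh i).2
  tfae_finish

end Groth.Agent.S7292
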