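import Groth.Statements.S7303
import Groth.Agent.ConormalTriv.Basic
import Groth.Agent.S15544
import Groth.Agent.S9821

set_option linter.style.haveILetI false
set_option backward.isDefEq.respectTransparency false
set_option backward.isDefEq.respectTransparency.types false
set_option maxHeartbeats 2000000

set_option autoImplicit false
universe u
open CategoryTheory CategoryTheory.Limits AlgebraicGeometry
open Resolve

namespace Groth.Agent.S7303

open Groth.Agent.IdealSh Groth.Agent.ConormalTriv TopologicalSpace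

theorem isNormalScheme_Spec (A : Type u) [CommRing A] [IsDomain A] [IsIntegrallyClosed A] :
    Pi1.IsNormalScheme (Spec (CommRingCat.of A)) := fun x => by
  let e := (StructureSheaf.stalkIso A (x : PrimeSpectrum A)).toRingEquiv
  have : IsIntegrallyClosed (Localization.AtPrime (x : PrimeSpectrum A).asIdeal) :=
    isIntegrallyClosed_of_isLocalization _ (x : PrimeSpectrum A).asIdeal.primeCompl
      (Ideal.primeCompl_le_nonZeroDivisors _)
  exact ⟨e.symm.toMulEquiv.isDomain _, IsIntegrallyClosed.of_equiv e⟩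


/-- Let (A, m) be a local Noetherian normal domain of dimension two, f : X → Spec A a proper morphism
from an integral normal scheme which is an isomorphism over some nonempty open, and Z ⊂ X a nonempty
effective Cartier divisor, with ideal sheaf I, whose support lies in the closed fibre of f. Then the
conormal sheaf of Z in X, namely the pullback of I to Z, is not isomorphic to O_Z. (The published
statement adds that the restriction of the conormal sheaf to some irreducible component of the
closed fibre contained in Z has positive degree; this row states only that the conormal sheaf is not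
trivial.) -/
theorem result (A : Type u) [CommRing A] [IsDomain A] [IsLocalRing A] [IsNoetherianRing A]
    [IsIntegrallyClosed A] (hdim : ringKrullDim A = 2)
    (X : Scheme.{u}) (f : X ⟶ Spec (CommRingCat.of A)) [IsProper f] [IsIntegral X]
    (hbir : ∃ U : (Spec (CommRingCat.of A)).Opens, (U : Set (Spec (CommRingCat.of A))).Nonempty ∧ IsIso (f ∣_ U)) (hXn : Pi1.IsNormalScheme X)
    (I : X.IdealSheafData) (hI : BlowUp.IsEffCartierIdeal I) (hne : (I.support : Set X).Nonempty)
    (hZ : (I.support : Set X) ⊆ f.base ⁻¹' {IsLocalRing.closedPoint A}) :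
    IsEmpty ((Scheme.Modules.pullback I.subschemeι).obj (ClSub.idealMod I) ≅ Coh.structureModule I.subscheme) := by
  classical
  refine ⟨fun φ => ?_⟩
  haveI : IsLocallyNoetherian (Spec (CommRingCat.of A)) := inferInstance
  haveI : IsLocallyNoetherian X := LocallyOfFiniteType.isLocallyNoetherian f
  haveI : CompactSpace X := QuasiCompact.compactSpace_of_compactSpace f
  haveI : IsNoetherian X := {}
  haveI : IsNoetherian I.subscheme := {
    toIsLocallyNoetherian := LocallyOfFiniteType.isLocallyNoetherian I.subschemeι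
    toCompactSpace := QuasiCompact.compactSpace_of_compactSpace I.subschemeι }
  -- birationality
  obtain ⟨U₀, hU₀, hU₀iso⟩ := hbir
  haveI := hU₀iso
  have hgU : genericPoint (Spec (CommRingCat.of A)) ∈ U₀ :=
    ((genericPoint_spec _).mem_open_set_iff U₀.2).mpr ⟨hU₀.some, trivial, hU₀.some_mem⟩
  obtain ⟨x₀, hx₀⟩ := (f ∣_ U₀).homeomorph.surjective ⟨_, hgU⟩
  have hx₀U : x₀.1 ∈ f ⁻¹ᵁ U₀ := x₀.2
  have hgX : genericPoint X ∈ f ⁻¹ᵁ U₀ := (genericPoint_specializes x₀.1).mem_open (f ⁻¹ᵁ U₀).2 hx₀U
  have hfx₀ : f x₀.1 = genericPoint (Spec (CommRingCat.of A)) := by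
    rw [← morphismRestrict_base_coe f U₀ x₀]
    exact congrArg Subtype.val hx₀
  have hgen : f (genericPoint X) = genericPoint (Spec (CommRingCat.of A)) := by
    have h1 : f (genericPoint X) ⤳ genericPoint (Spec (CommRingCat.of A)) :=
      hfx₀ ▸ (genericPoint_specializes x₀.1).map f.continuous
    exact (h1.antisymm (genericPoint_specializes _)).eq
  have hstalk : IsIso (f.stalkMap (genericPoint X)) :=
    ((MorphismProperty.isomorphisms CommRingCat).arrow_mk_iso_iff
      (morphismRestrictStalkMap f U₀ ⟨genericPoint X, hgX⟩)).mp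
      (inferInstance : IsIso ((f ∣_ U₀).stalkMap ⟨genericPoint X, hgX⟩))
  have hconn := fun y => S15544.result (isNormalScheme_Spec A) f hgen hstalk y
  have hsurj : Function.Surjective f := fun y => by
    obtain ⟨p⟩ := (hconn y).toNonempty
    exact ⟨f.fiberι y p, (f.range_fiberι y).le (Set.mem_range_self p)⟩
  -- an element of the maximal ideal
  have hm : IsLocalRing.maximalIdeal A ≠ ⊥ := fun h => by
    have := IsLocalRing.maximalIdeal_height_eq_ringKrullDim (R := A)
    rw [hdim, h, Ideal.height_bot] at this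
    exact absurd this (by decide)
  obtain ⟨a, ham, ha0⟩ := Submodule.exists_mem_ne_zero_of_ne_bot hm
  let α : Γ(X, ⊤) := f.appTop ((Scheme.ΓSpecIso (CommRingCat.of A)).inv a)
  have hα : ∀ x : X, x ∈ X.basicOpen α ↔ a ∉ (f x : PrimeSpectrum A).asIdeal := by
    intro x
    change x ∈ X.basicOpen (f.appTop ((Scheme.ΓSpecIso (CommRingCat.of A)).inv a)) ↔ _
    rw [← Scheme.preimage_basicOpen_top]
    exact Iff.of_eq (congrArg (fun O => (f x : PrimeSpectrum A) ∈ O) (basicOpen_eq_of_affine (R := CommRingCat.of A) a))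
  have hαgen : genericPoint X ∈ X.basicOpen α := by
    rw [hα, hgen]
    have : ((genericPoint (Spec (CommRingCat.of A))) : PrimeSpectrum A).asIdeal = ⊥ := by
      have h1 := (genericPoint_specializes (⟨⊥, Ideal.isPrime_bot⟩ : PrimeSpectrum A) : genericPoint (Spec (CommRingCat.of A)) ⤳ _)
      exact le_bot_iff.1 ((PrimeSpectrum.le_iff_specializes _ _).2 h1)
    rw [this]
    exact ha0
  have hαF : ∀ x : X, f x = IsLocalRing.closedPoint A → x ∉ X.basicOpen α := fun x hx h => by
    rw [hα, hx] at h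
    exact h ham
  have hZF : ∀ z : I.subscheme, f (I.subschemeι z) = IsLocalRing.closedPoint A := fun z =>
    hZ (I.range_subschemeι ▸ Set.mem_range_self z)
  have hsub : ∀ x ∈ I.support, ∃ z : I.subscheme, I.subschemeι z = x := fun x hx => by
    rw [← SetLike.mem_coe, ← I.range_subschemeι] at hx
    exact hx
  -- equations
  have hch : ∀ x : X, ∃ U : X.affineOpens, x ∈ U.1 ∧ ∃ t : Γ(X, U.1), t ∈ nonZeroDivisors Γ(X, U.1) ∧
      I.ideal U = Ideal.span {t} := hI
  choose U hxU t htnz hte using hch
  -- codimension one points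
  let H : Set I.subscheme := {z | ringKrullDim (X.presheaf.stalk (I.subschemeι z)) = 1}
  have hord : ∀ z ∈ H, ∃ (π : X.presheaf.stalk (I.subschemeι z)) (n m : ℕ), Irreducible π ∧ 1 ≤ n ∧ 1 ≤ m ∧
      Associated (X.presheaf.germ _ _ (hxU (I.subschemeι z)) (t (I.subschemeι z))) (π ^ n) ∧
      Associated (X.presheaf.germ ⊤ (I.subschemeι z) trivial α) (π ^ m) := by
    intro z (hz : ringKrullDim _ = 1)
    set x := I.subschemeι z
    haveI := (hXn x).1
    haveI := (hXn x).2
    haveI : Ring.KrullDimLE 1 (X.presheaf.stalk x) := Ring.krullDimLE_iff.mpr hz.le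
    haveI : Ring.DimensionLEOne (X.presheaf.stalk x) := ⟨fun {p} hp hp' => hp'.isMaximal_of_ne_bot hp⟩
    haveI : IsDedekindDomain (X.presheaf.stalk x) := {}
    have hnf : ¬ IsField (X.presheaf.stalk x) := fun h => by
      rw [ringKrullDim_eq_zero_of_isField h] at hz
      exact zero_ne_one hz
    haveI : IsDiscreteValuationRing (X.presheaf.stalk x) :=
      (show IsDiscreteValuationRing (X.presheaf.stalk x) ↔ IsDedekindDomain (X.presheaf.stalk x) from
        (IsDiscreteValuationRing.TFAE (X.presheaf.stalk x) hnf).out 0 2).mpr inferInstance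
    obtain ⟨π, hπ⟩ := IsDiscreteValuationRing.exists_irreducible (X.presheaf.stalk x)
    have ht0 : X.presheaf.germ _ x (hxU x) (t x) ≠ 0 :=
      nonZeroDivisors.ne_zero (Regular.germ_mem_nonZeroDivisors (U x).2 x (hxU x) (htnz x))
    have hα0 : X.presheaf.germ ⊤ x trivial α ≠ 0 := fun h => by
      have h1 := congrArg (X.presheaf.stalkSpecializes (genericPoint_specializes x)) h
      rw [TopCat.Presheaf.germ_stalkSpecializes_apply, map_zero] at h1
      have h2 := (X.mem_basicOpen α (genericPoint X) trivial).1 hαgen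
      rw [h1] at h2
      exact not_isUnit_zero h2
    obtain ⟨n, hn⟩ := IsDiscreteValuationRing.associated_pow_irreducible ht0 hπ
    obtain ⟨m, hm⟩ := IsDiscreteValuationRing.associated_pow_irreducible hα0 hπ
    refine ⟨π, n, m, hπ, Nat.one_le_iff_ne_zero.2 ?_, Nat.one_le_iff_ne_zero.2 ?_, hn, hm⟩
    · rintro rfl
      rw [pow_zero, associated_one_iff_isUnit, ← X.mem_basicOpen (t x) x (hxU x)] at hn
      exact (mem_support_iff I (hte x) (hxU x)).1 (I.range_subschemeι.subset (Set.mem_range_self z)) hn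
    · rintro rfl
      rw [pow_zero, associated_one_iff_isUnit, ← X.mem_basicOpen α x trivial] at hm
      exact hαF x (hZF z) hm
  choose π n m hπ hn hm hnt hmα using hord
  have hHfin : H.Finite := by
    refine Set.Finite.of_finite_image (f := fun z => closure {z})
      ((TopologicalSpace.NoetherianSpace.finite_irreducibleComponents (α := I.subscheme)).subset ?_) ?_
    · rintro _ ⟨z, hz, rfl⟩
      refine ⟨isIrreducible_singleton.closure, fun C hC hle => ?_⟩
      obtain ⟨g, hg⟩ := QuasiSober.sober (hC.closure) isClosed_closure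
      have hgz : g ⤳ z := hg.specializes (subset_closure (hle (subset_closure rfl)))
      suffices g = z by
        subst this
        exact fun c hc => (hg.specializes (subset_closure hc)).mem_closed isClosed_closure (subset_closure rfl)
      by_contra hne
      have hx : I.subschemeι g ⤳ I.subschemeι z := hgz.map I.subschemeι.continuous
      obtain ⟨p, hp⟩ : I.subschemeι g ∈ Set.range (X.fromSpecStalk (I.subschemeι z)) := by
        rw [Scheme.range_fromSpecStalk]
        exact hx
      obtain ⟨q, hq⟩ : genericPoint X ∈ Set.range (X.fromSpecStalk (I.subschemeι z)) := by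
        rw [Scheme.range_fromSpecStalk]
        exact genericPoint_specializes _
      haveI := (hXn (I.subschemeι z)).1
      have hpne : (p : PrimeSpectrum _).asIdeal ≠ IsLocalRing.maximalIdeal _ := fun h => hne (by
        apply I.subschemeι.isClosedEmbedding.injective
        rw [← hp, show p = IsLocalRing.closedPoint _ from PrimeSpectrum.ext h, Scheme.fromSpecStalk_closedPoint])
      haveI : Ring.KrullDimLE 1 (X.presheaf.stalk (I.subschemeι z)) := Ring.krullDimLE_iff.mpr hz.le
      have hpbot : (p : PrimeSpectrum _).asIdeal = ⊥ := by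
        by_contra h
        exact hpne (IsLocalRing.eq_maximalIdeal ((p : PrimeSpectrum _).isPrime.isMaximal_of_ne_bot h))
      have hqp : X.fromSpecStalk (I.subschemeι z) p = genericPoint X := by
        have h1 : (p : PrimeSpectrum _) ⤳ q :=
          (PrimeSpectrum.le_iff_specializes _ _).1 (show (p : PrimeSpectrum _).asIdeal ≤ _ from hpbot ▸ bot_le)
        have h2 := h1.map (X.fromSpecStalk (I.subschemeι z)).continuous
        rw [hq] at h2
        exact (h2.antisymm (genericPoint_specializes _)).eq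
      exact hαF _ (hZF g) ((hp.symm.trans hqp) ▸ hαgen)
    · intro z _ z' _ h
      have h' : closure ({z} : Set I.subscheme) = closure {z'} := h
      exact isGenericPoint_closure.eq (h' ▸ isGenericPoint_closure (x := z'))
  -- height one primes containing an equation
  have hH1 : ∀ (x : X) (p : Ideal Γ(X, (U x).1)) (hp : p.IsPrime), p.height = 1 → t x ∈ p →
      ∃ z ∈ H, ∃ hzU : I.subschemeι z ∈ (U x).1, @IsLocalization.AtPrime Γ(X, (U x).1) _
        (X.presheaf.stalk (I.subschemeι z)) _
        (TopCat.Presheaf.algebra_section_stalk X.presheaf ⟨_, hzU⟩) p hp := by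
    intro x p hp hp1 htp
    let y := (U x).2.fromSpec ⟨p, hp⟩
    have hyU : y ∈ (U x).1 := by
      have h := Set.mem_range_self (f := (U x).2.fromSpec) ⟨p, hp⟩
      rwa [(U x).2.range_fromSpec] at h
    have hloc := (U x).2.isLocalization_stalk' ⟨p, hp⟩ hyU
    have hy : y ∈ I.support := by
      refine (mem_support_iff I (hte x) hyU).2 fun hb => ?_
      have h2 : (⟨p, hp⟩ : PrimeSpectrum _) ∈ (U x).2.fromSpec ⁻¹ᵁ X.basicOpen (t x) := hb
      rw [(U x).2.fromSpec_preimage_basicOpen] at h2
      exact h2 htp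
    obtain ⟨z, hzy⟩ := hsub y hy
    have hloc' : ∀ y' : X, y' = y → ∀ h : y' ∈ (U x).1, @IsLocalization.AtPrime Γ(X, (U x).1) _
        (X.presheaf.stalk y') _ (TopCat.Presheaf.algebra_section_stalk X.presheaf ⟨_, h⟩) p hp := by
      rintro _ rfl h
      exact hloc
    have hzU : I.subschemeι z ∈ (U x).1 := hzy ▸ hyU
    have hloc := hloc' _ hzy hzU
    refine ⟨z, ?_, hzU, hloc⟩
    letI := TopCat.Presheaf.algebra_section_stalk X.presheaf ⟨I.subschemeι z, hzU⟩
    haveI := hloc
    show ringKrullDim _ = 1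
    rw [IsLocalization.AtPrime.ringKrullDim_eq_height p (X.presheaf.stalk (I.subschemeι z)), hp1]
    rfl
  -- the maximal ratio
  have hHne : H.Nonempty := by
    obtain ⟨x, hx⟩ := hne
    haveI : Nonempty (U x).1 := ⟨⟨x, hxU x⟩⟩
    haveI : IsNoetherianRing Γ(X, (U x).1) := IsLocallyNoetherian.component_noetherian (U x)
    have hxb := (mem_support_iff I (hte x) (hxU x)).1 hx
    have htop : Ideal.span {t x} ≠ ⊤ := by
      rw [Ne, Ideal.span_singleton_eq_top]
      exact fun h => hxb (by rw [X.basicOpen_of_isUnit h]; exact hxU x)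
    obtain ⟨p, hp⟩ := Ideal.nonempty_minimalPrimes htop
    haveI hpp : p.IsPrime := hp.1.1
    have h1 : p.height = 1 := by
      refine le_antisymm (Ideal.height_le_one_of_isPrincipal_of_mem_minimalPrimes (Ideal.span {t x}) p hp) ?_
      refine Order.one_le_iff_pos.2 (pos_iff_ne_zero.2 fun h0 => ?_)
      rw [Ideal.height_eq_zero_iff_eq_bot] at h0
      exact nonZeroDivisors.ne_zero (htnz x) ((Submodule.mem_bot _).1 (h0 ▸ hp.1.2 (Ideal.subset_span rfl)))
    obtain ⟨z, hz, -⟩ := hH1 x p hpp h1 (hp.1.2 (Ideal.subset_span rfl))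
    exact ⟨z, hz⟩
  haveI : Finite H := hHfin
  haveI : Nonempty H := hHne.to_subtype
  obtain ⟨⟨z₀, hz₀⟩, hmax⟩ := Finite.exists_max fun z : H => (n z.1 z.2 : ℚ) / m z.1 z.2
  let P := n z₀ hz₀
  let q := m z₀ hz₀
  have hcross : ∀ z (hz : z ∈ H), n z hz * q ≤ m z hz * P := by
    intro z hz
    have h := hmax ⟨z, hz⟩
    rw [div_le_div_iff₀ (by exact_mod_cast hm z hz) (by exact_mod_cast hm z₀ hz₀)] at h
    rw [mul_comm (m z hz)]
    exact_mod_cast h
  -- the quotient `α ^ P / t ^ q`
  have hw : ∀ x, ∃ w : Γ(X, (U x).1), t x ^ q * w = X.presheaf.map (homOfLE le_top).op α ^ P := by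
    intro x
    haveI : Nonempty (U x).1 := ⟨⟨x, hxU x⟩⟩
    haveI : IsNoetherianRing Γ(X, (U x).1) := IsLocallyNoetherian.component_noetherian (U x)
    haveI : IsIntegrallyClosed Γ(X, (U x).1) := (S9821.result X).1 hXn (U x).1 (U x).2
    suffices t x ^ q ∣ X.presheaf.map (homOfLE le_top).op α ^ P by
      obtain ⟨w, hw⟩ := this
      exact ⟨w, hw.symm⟩
    refine dvd_of_height_one (pow_ne_zero _ (nonZeroDivisors.ne_zero (htnz x))) fun p hp hp1 htp => ?_
    obtain ⟨z, hz, hzU, hloc⟩ := hH1 x p hp hp1 (hp.mem_of_pow_mem _ htp)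
    letI := TopCat.Presheaf.algebra_section_stalk X.presheaf ⟨I.subschemeι z, hzU⟩
    haveI := hloc
    let L := X.presheaf.stalk (I.subschemeι z)
    have hd : algebraMap Γ(X, (U x).1) L (t x ^ q) ∣ algebraMap Γ(X, (U x).1) L (X.presheaf.map (homOfLE le_top).op α ^ P : Γ(X, (U x).1)) := by
      rw [map_pow, map_pow]
      change X.presheaf.germ _ _ hzU (t x) ^ q ∣ X.presheaf.germ _ _ hzU (X.presheaf.map (homOfLE le_top).op α) ^ P
      rw [TopCat.Presheaf.germ_res_apply]
      have h1 := ((associated_germ I (hte x) (hte (I.subschemeι z)) hzU (hxU _)).trans (hnt z hz)).pow_pow (n := q)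
      have h2 := (hmα z hz).pow_pow (n := P)
      rw [← pow_mul] at h1 h2
      exact (h1.dvd.trans (pow_dvd_pow _ (hcross z hz))).trans h2.symm.dvd
    obtain ⟨c, hc⟩ := hd
    obtain ⟨⟨r, s⟩, hrs⟩ := IsLocalization.surj p.primeCompl c
    refine ⟨s, s.2, r, IsLocalization.injective L p.primeCompl_le_nonZeroDivisors ?_⟩
    rw [map_mul, map_mul, hc, ← hrs]
    ring
  choose w hw using hw
  -- the function on `Z`
  set ψ := (Scheme.Modules.pullbackPushforwardAdjunction I.subschemeι).homEquiv _ _ φ.hom with hψ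
  have hs : ∀ x, ∃ s : Γ(ClSub.idealMod I, (U x).1), OmegaSh.idealSect I (U x).1 s = t x := fun x =>
    IdealMod.exists_sect I (U x).1 (t x)
      ((IdealMod.mem_ideal_iff I (U x) (t x)).mp (hte x ▸ Ideal.subset_span rfl))
  choose s hs using hs
  let V : I.subscheme → I.subscheme.Opens := fun z => I.subschemeι ⁻¹ᵁ (U (I.subschemeι z)).1
  let hl : ∀ z, Γ(I.subscheme, V z) := fun z =>
    I.subschemeι.app _ (w (I.subschemeι z)) * cmap I ψ _ (s (I.subschemeι z)) ^ q
  have hcompat : ∀ z z' y (hy : y ∈ V z) (hy' : y ∈ V z'),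
      I.subscheme.presheaf.germ _ y hy (hl z) = I.subscheme.presheaf.germ _ y hy' (hl z') := by
    intro z z' y hy hy'
    set x := I.subschemeι z
    set x' := I.subschemeι z'
    obtain ⟨W, hyW, hW⟩ := Comap.exists_affine_le (I.subschemeι y) ((U x).1 ⊓ (U x').1) ⟨hy, hy'⟩
    have hWU : W.1 ≤ (U x).1 := hW.trans inf_le_left
    have hWU' : W.1 ≤ (U x').1 := hW.trans inf_le_right
    have hmem := EffCartier.restrict_eq hWU (hte x) ▸
      ((EffCartier.restrict_eq hWU' (hte x')).symm ▸ Ideal.subset_span rfl :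
        X.presheaf.map (homOfLE hWU').op (t x') ∈ I.ideal W)
    rw [Ideal.mem_span_singleton'] at hmem
    obtain ⟨v, hv⟩ := hmem
    have hsv : (ClSub.idealMod I).presheaf.map (homOfLE hWU').op (s x') =
        v • (ClSub.idealMod I).presheaf.map (homOfLE hWU).op (s x) := by
      apply Omega.Stalks.idealSect_injective I W.1
      rw [Omega.Stalks.idealSect_smul, Omega.Stalks.idealSect_map, Omega.Stalks.idealSect_map, hs, hs, hv]
    have hc := congrArg (cmap I ψ W.1) hsv
    rw [cmap_map, cmap_smul, cmap_map] at hc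
    haveI : Nonempty W.1 := ⟨⟨_, hyW⟩⟩
    have hww : X.presheaf.map (homOfLE hWU).op (w x) = X.presheaf.map (homOfLE hWU').op (w x') * v ^ q := by
      have h1 := congrArg (X.presheaf.map (homOfLE hWU).op) (hw x)
      have h2 := congrArg (X.presheaf.map (homOfLE hWU').op) (hw x')
      simp only [map_mul, map_pow, ← CommRingCat.comp_apply, ← Functor.map_comp] at h1 h2
      rw [← hv, mul_pow] at h2
      refine mul_left_cancel₀ (pow_ne_zero q (nonZeroDivisors.ne_zero
        (EffCartier.map_res_mem_nonZeroDivisors hWU (htnz x)))) (h1.trans (h2.symm.trans ?_))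
      ring
    have hyW' : y ∈ I.subschemeι ⁻¹ᵁ W.1 := hyW
    rw [← I.subscheme.presheaf.germ_res_apply ((Opens.map I.subschemeι.base).map (homOfLE hWU)) y hyW' (hl z),
      ← I.subscheme.presheaf.germ_res_apply ((Opens.map I.subschemeι.base).map (homOfLE hWU')) y hyW' (hl z')]
    congr 1
    simp only [hl, map_mul, map_pow]
    have n1 := congr($(I.subschemeι.naturality (homOfLE hWU).op) (w x))
    have n2 := congr($(I.subschemeι.naturality (homOfLE hWU').op) (w x'))
    simp only [CommRingCat.comp_apply, Quiver.Hom.unop_op, x, x'] at n1 n2 hww hc ⊢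
    rw [hc, ← n1, ← n2, hww, map_mul, map_pow]
    ring
  obtain ⟨h, hh, -⟩ := TopCat.Sheaf.existsUnique_gluing' I.subscheme.sheaf V ⊤ (fun z => homOfLE le_top)
    (fun z _ => Opens.mem_iSup.mpr ⟨z, hxU _⟩) hl (fun z z' => by
      refine TopCat.Presheaf.section_ext I.subscheme.sheaf _ _ _ fun y hy => ?_
      rw [TopCat.Presheaf.germ_res_apply, TopCat.Presheaf.germ_res_apply]
      exact hcompat z z' y hy.1 hy.2)
  have hhmem : ∀ z y, I.subschemeι y ∈ (U (I.subschemeι z)).1 →
      (y ∈ I.subscheme.basicOpen h ↔ I.subschemeι y ∈ X.basicOpen (w (I.subschemeι z))) := by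
    intro z y hy
    have hy' : y ∈ V z := hy
    have h1 : (y ∈ I.subscheme.basicOpen h) ↔ y ∈ I.subscheme.basicOpen (hl z) := by
      rw [← hh z]
      refine Iff.trans ?_ (Iff.of_eq (congrArg (y ∈ ·) (I.subscheme.basicOpen_res h (homOfLE le_top).op))).symm
      exact ⟨fun hb => ⟨hy', hb⟩, fun hb => hb.2⟩
    rw [h1]
    simp only [hl, Scheme.basicOpen_mul, Opens.mem_inf, ← Scheme.preimage_basicOpen]
    have hu := mem_basicOpen_cmap I φ (hte (I.subschemeι z)) (hs _) y hy
    rw [← hψ] at hu
    have hu' : y ∈ I.subscheme.basicOpen (cmap I ψ _ (s (I.subschemeι z)) ^ q) :=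
      (I.subscheme.mem_basicOpen _ y hy').2 (by
        rw [map_pow]
        exact ((I.subscheme.mem_basicOpen _ y hy').1 hu).pow q)
    exact ⟨fun hb => hb.1, fun hb => ⟨hb, hu'⟩⟩
  -- the unit locus is clopen in the closed fibre
  haveI : UniversallyClosed (I.subschemeι ≫ f) := inferInstance
  have hclosed := isClosed_basicOpen (I.subschemeι ≫ f) (fun z => by
    rw [Scheme.Hom.comp_apply]; exact hZF z) h
  let F : Set X := f ⁻¹' {IsLocalRing.closedPoint A}
  let G : Set X := I.subschemeι '' (I.subscheme.basicOpen h : Set I.subscheme)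
  have hGclosed : IsClosed G := I.subschemeι.isClosedEmbedding.isClosedMap _ hclosed
  have hFconn : _root_.IsPreconnected F := by
    haveI := hconn (IsLocalRing.closedPoint A)
    have h1 := isPreconnected_range (f.fiberι (IsLocalRing.closedPoint A)).continuous
    rwa [Scheme.Hom.range_fiberι] at h1
  have hunit : ∀ x y, y ∈ (U x).1 → y ∈ X.basicOpen (w x) → y ∉ I.support → y ∈ X.basicOpen α := by
    intro x y hy hyw hys
    have hyt : y ∈ X.basicOpen (t x) := by
      by_contra hyt
      exact hys ((mem_support_iff I (hte x) hy).2 hyt)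
    have h1 := congrArg (X.presheaf.germ _ y hy) (hw x)
    rw [map_mul, map_pow, map_pow, TopCat.Presheaf.germ_res_apply] at h1
    refine (X.mem_basicOpen α y trivial).2 ((isUnit_pow_iff (Nat.one_le_iff_ne_zero.1 (hn z₀ hz₀))).1 ?_)
    rw [← h1]
    exact (((X.mem_basicOpen (t x) y hy).1 hyt).pow q).mul ((X.mem_basicOpen (w x) y hy).1 hyw)
  have hz₀G : z₀ ∈ I.subscheme.basicOpen h := by
    rw [hhmem z₀ z₀ (hxU _), X.mem_basicOpen _ _ (hxU _)]
    haveI := (hXn (I.subschemeι z₀)).1
    have h1 := congrArg (X.presheaf.germ _ _ (hxU (I.subschemeι z₀))) (hw (I.subschemeι z₀))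
    rw [map_mul, map_pow, map_pow, TopCat.Presheaf.germ_res_apply] at h1
    have h2 := (hnt z₀ hz₀).pow_pow (n := q)
    have h3 := (hmα z₀ hz₀).pow_pow (n := P)
    rw [← pow_mul] at h2 h3
    rw [show m z₀ hz₀ * P = n z₀ hz₀ * q from mul_comm _ _] at h3
    have h4 := h2.trans h3.symm
    obtain ⟨u, hu⟩ := h4
    rw [← h1] at hu
    have ht0 : X.presheaf.germ _ _ (hxU (I.subschemeι z₀)) (t (I.subschemeι z₀)) ^ q ≠ 0 :=
      pow_ne_zero _ (nonZeroDivisors.ne_zero
        (Regular.germ_mem_nonZeroDivisors (U _).2 _ (hxU _) (htnz _)))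
    exact mul_left_cancel₀ ht0 hu ▸ u.isUnit
  let O : Set X := ⋃ (z : I.subscheme) (_ : z ∈ I.subscheme.basicOpen h), (X.basicOpen (w (I.subschemeι z)) : Set X)
  have hFG : F ⊆ G := by
    have hOF : O ∩ F ⊆ G := by
      rintro x ⟨hxO, hxF⟩
      simp only [O, Set.mem_iUnion] at hxO
      obtain ⟨z, hz, hxw⟩ := hxO
      have hxUz : x ∈ (U (I.subschemeι z)).1 := X.basicOpen_le _ hxw
      obtain ⟨y, rfl⟩ := hsub x (by
        by_contra hxs
        exact hαF x hxF (hunit _ x hxUz hxw hxs))
      exact ⟨y, (hhmem z y hxUz).2 hxw, rfl⟩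
    have hGO : G ⊆ O := by
      rintro _ ⟨z, hz, rfl⟩
      simp only [O, Set.mem_iUnion]
      exact ⟨z, hz, (hhmem z z (hxU _)).1 hz⟩
    intro x hx
    by_contra hxG
    obtain ⟨y, hyF, hyO, hyG⟩ := hFconn O Gᶜ (isOpen_iUnion fun _ => isOpen_iUnion fun _ => (X.basicOpen _).2)
      hGclosed.isOpen_compl
      (fun y _ => (em (y ∈ G)).elim (fun h => Or.inl (hGO h)) Or.inr)
      ⟨I.subschemeι z₀, hZF z₀, hGO ⟨z₀, hz₀G, rfl⟩⟩ ⟨x, hx, hxG⟩
    exact hyG (hOF ⟨hyO, hyF⟩)
  -- a curve leaving the closed fibre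
  obtain ⟨p, hp⟩ := Ideal.nonempty_minimalPrimes (I := Ideal.span {a}) (by
    rw [Ne, Ideal.span_singleton_eq_top]; exact ham)
  haveI hpp : p.IsPrime := hp.1.1
  have hpm : p ≠ IsLocalRing.maximalIdeal A := fun h => by
    have h1 := Ideal.height_le_one_of_isPrincipal_of_mem_minimalPrimes (Ideal.span {a}) p hp
    have h2 := IsLocalRing.maximalIdeal_height_eq_ringKrullDim (R := A)
    rw [hdim, ← h] at h2
    have h3 : (p.height : WithBot ℕ∞) ≤ 1 := WithBot.coe_le_coe.2 h1
    rw [h2] at h3
    exact absurd h3 (by decide)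
  obtain ⟨x, hx⟩ := hsurj (⟨p, hpp⟩ : PrimeSpectrum A)
  have hspec : f x ⤳ (IsLocalRing.closedPoint A : PrimeSpectrum A) := by
    rw [hx]
    exact (PrimeSpectrum.le_iff_specializes _ _).1 (IsLocalRing.le_maximalIdeal hpp.ne_top)
  obtain ⟨x', hxx', hx'⟩ := f.isClosedMap.specializingMap hspec
  obtain ⟨z, hz, rfl⟩ := hFG hx'
  have hxw : x ∈ X.basicOpen (w (I.subschemeι z)) :=
    hxx'.mem_open (X.basicOpen _).2 ((hhmem z z (hxU _)).1 hz)
  have hxs : x ∉ I.support := fun h => by
    have h1 : f x = IsLocalRing.closedPoint A := hZ h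
    rw [hx] at h1
    exact hpm (congrArg PrimeSpectrum.asIdeal h1)
  have := hunit _ x (X.basicOpen_le _ hxw) hxw hxs
  rw [hα, hx] at this
  exact this (hp.1.2 (Ideal.subset_span rfl))

end Groth.Agent.S7303
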