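import Groth.Statements.S7304
import Groth.Agent.CplBC.Scheme
import Groth.Agent.BlowPerf.Global
-- import your own Groth.Agent.* helpers here

set_option linter.style.haveILetI false
set_option backward.isDefEq.respectTransparency false
set_option backward.isDefEq.respectTransparency.types false
set_option autoImplicit false
universe u
open CategoryTheory CategoryTheory.Limits AlgebraicGeometry
open Resolve
open TopologicalSpace Groth.Agent.BlowUp

namespace Groth.Agent.S7304

/-- The centre of the extended ideal is the inverse image of the centre. -/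
theorem centre_comap_Spec {A B : Type u} [CommRing A] [CommRing B] (φ : A →+* B) (I : Ideal A) :
    (Existence.centre I).comap (Spec.map (CommRingCat.ofHom φ)) = Existence.centre (I.map φ) := by
  refine Scheme.IdealSheafData.ext_of_isAffine ?_
  rw [Existence.centre_comap]
  show Ideal.map _ I = (Scheme.IdealSheafData.ofIdealTop _).ideal ⟨⊤, _⟩
  rw [Scheme.IdealSheafData.ofIdealTop_ideal, Ideal.map_map, Ideal.map_map]
  congr 1
  ext a
  show (Spec (CommRingCat.of B)).presheaf.map _ (AffineChart.glob (Spec.map (CommRingCat.ofHom φ)) a) =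
    (Spec (CommRingCat.of B)).presheaf.map _ ((Scheme.ΓSpecIso (CommRingCat.of B)).inv (φ a))
  congr 1
  exact congr($((Scheme.ΓSpecIso_inv_naturality (CommRingCat.ofHom φ)).symm) a)

/-- The points of the support of a centre. -/
theorem mem_support_centre {A : Type u} [CommRing A] (I : Ideal A) (p : Spec (CommRingCat.of A)) :
    p ∈ (Existence.centre I).support ↔ I ≤ (p : PrimeSpectrum A).asIdeal := by
  rw [Scheme.IdealSheafData.mem_support_iff_of_mem (U := ⟨⊤, isAffineOpen_top _⟩) trivial, Scheme.mem_zeroLocus_iff]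
  rw [show (Existence.centre I).ideal ⟨⊤, isAffineOpen_top _⟩ = I.map (Scheme.ΓSpecIso (CommRingCat.of A)).inv.hom by
    rw [Existence.centre, Scheme.IdealSheafData.ofIdealTop_ideal]
    simp]
  constructor
  · intro h a ha
    have h1 := h _ (Ideal.mem_map_of_mem _ ha)
    rw [basicOpen_eq_of_affine] at h1
    exact not_not.1 h1
  · intro h f hf
    obtain ⟨a, ha, rfl⟩ := (Ideal.mem_map_iff_of_surjective _
      (ConcreteCategory.bijective_of_isIso (Scheme.ΓSpecIso (CommRingCat.of A)).inv).2).1 hf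
    rw [basicOpen_eq_of_affine]
    exact not_not.2 (h ha)


/-- Let (A, m) be a Noetherian local ring with m-adic completion A^, and U ⊂ Spec A, U^ ⊂ Spec A^ the
punctured spectra. If c : Y → Spec A^ is a U^-admissible blowing up (a blowing up in a
quasi-coherent ideal of finite type whose support misses U^), then there is a U-admissible blowing
up b : X → Spec A such that Y is isomorphic, over Spec A^, to the base change of X to Spec A^. -/
theorem result (A : Type u) [CommRing A] [IsLocalRing A] [IsNoetherianRing A]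
    (Y : Scheme.{u}) (c : Y ⟶ Spec (CommRingCat.of (Curv2.cpl A)))
    (J : (Spec (CommRingCat.of (Curv2.cpl A))).IdealSheafData)
    (hJ : BlowUp.IsAdmissibleFor (FEt.puncturedSpec (Curv2.cpl A)) J) (hc : BlowUp.IsBlowUp c J) :
    ∃ (I : (Spec (CommRingCat.of A)).IdealSheafData) (X : Scheme.{u}) (b : X ⟶ Spec (CommRingCat.of A)),
      BlowUp.IsAdmissibleFor (FEt.puncturedSpec A) I ∧ BlowUp.IsBlowUp b I ∧
      ∃ e : Y ≅ Curv2.bcCpl A b, e.hom ≫ Curv2.bcCplSnd A b = c := by
  obtain ⟨-, hdisj⟩ := hJ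
  let Ah := Curv2.cpl A
  let φ : A →+* Ah := algebraMap A Ah
  let m := IsLocalRing.maximalIdeal A
  have hm : m.FG := IsNoetherian.noetherian _
  set J₀ := (J.ideal ⟨⊤, isAffineOpen_top _⟩).comap (Scheme.ΓSpecIso (CommRingCat.of Ah)).inv.hom
  have hJ₀ : J = Existence.centre J₀ := BlowPerf.Global.eq_centre J
  have hclosed : ∀ p : PrimeSpectrum Ah, J₀ ≤ p.asIdeal → p = IsLocalRing.closedPoint Ah := fun p hp => by
    by_contra hne
    exact Set.disjoint_left.1 hdisj ((hJ₀ ▸ (mem_support_centre J₀ p).2 hp : (p : Spec (CommRingCat.of Ah)) ∈ J.support)) hne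
  have hle : m.map φ ≤ J₀.radical := by
    rw [Ideal.radical_eq_sInf]
    refine le_sInf fun P ⟨hP, hPp⟩ => ?_
    have hPeq := congrArg PrimeSpectrum.asIdeal (hclosed ⟨P, hPp⟩ hP)
    refine (Ideal.map_le_iff_le_comap.2 fun a ha => ?_).trans hPeq.ge
    show φ a ∈ IsLocalRing.maximalIdeal Ah
    rw [IsLocalRing.mem_maximalIdeal]
    intro hu
    have hu' := hu.map (AdicCompletion.evalₐ m 1)
    rw [AlgHom.commutes] at hu'
    obtain ⟨c, hc⟩ := hu'.exists_right_inv
    obtain ⟨c', rfl⟩ := Ideal.Quotient.mk_surjective c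
    rw [Ideal.Quotient.algebraMap_eq, ← map_mul, ← map_one (Ideal.Quotient.mk (m ^ 1)), Ideal.Quotient.eq, pow_one] at hc
    have h1 : (1 : A) ∈ m := by
      have := m.sub_mem (m.mul_mem_right c' ha) hc
      rwa [sub_sub_cancel] at this
    exact (IsLocalRing.maximalIdeal.isMaximal A).ne_top ((Ideal.eq_top_iff_one _).2 h1)
  obtain ⟨N, hN⟩ := Ideal.exists_pow_le_of_le_radical_of_fg hle (hm.map φ)
  rw [← Ideal.map_pow] at hN
  let I := J₀.comap φ
  have hI : I.map φ = J₀ := by
    refine le_antisymm Ideal.map_comap_le fun y hy => ?_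
    obtain ⟨a, ha⟩ := CplBC.exists_sub_mem A hm N y
    have haI : a ∈ I := by
      show φ a ∈ J₀
      have := J₀.sub_mem hy (hN ha)
      rwa [sub_sub_cancel] at this
    have hNI : (m ^ N).map φ ≤ I.map φ := Ideal.map_mono (Ideal.map_le_iff_le_comap.1 hN)
    have := (I.map φ).add_mem (hNI ha) (Ideal.mem_map_of_mem φ haI)
    rwa [sub_add_cancel] at this
  obtain ⟨X, b, hb⟩ : ∃ (X : Scheme.{u}) (b : X ⟶ Spec (CommRingCat.of A)), _root_.BlowUp.IsBlowUp b (Existence.centre I) :=
    ⟨_, _, Existence.isBlowUp_proj I⟩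
  refine ⟨Existence.centre I, X, b, ⟨fun U => ?_, ?_⟩, hb, ?_⟩
  · haveI : IsNoetherianRing Γ(Spec (CommRingCat.of A), U.1) := IsLocallyNoetherian.component_noetherian U
    exact IsNoetherian.noetherian _
  · rw [Set.disjoint_left]
    intro p hp hpU
    refine hpU ?_
    have h1 : I ≤ (p : PrimeSpectrum A).asIdeal := (mem_support_centre I p).1 hp
    have h2 : m ≤ (p : PrimeSpectrum A).asIdeal :=
      (Ideal.IsPrime.pow_le_iff (hP := (p : PrimeSpectrum A).isPrime) (n := N + 1) (by omega)).1
        (((Ideal.pow_le_pow_right (Nat.le_succ N)).trans (Ideal.map_le_iff_le_comap.1 hN)).trans h1)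
    exact PrimeSpectrum.ext (le_antisymm (IsLocalRing.le_maximalIdeal (p : PrimeSpectrum A).isPrime.ne_top) h2)
  · haveI : Flat (Spec.map (CommRingCat.ofHom φ)) := Flat.SpecMap_iff.2 (RingHom.flat_algebraMap_iff.2 (AdicCompletion.flat_of_isNoetherian m))
    have h1 := Basic.flat_baseChange (Spec.map (CommRingCat.ofHom φ)) hb
    rw [centre_comap_Spec, hI, ← hJ₀] at h1
    obtain ⟨e, he⟩ := Basic.exists_iso h1 hc
    refine ⟨e ≪≫ pullbackSymmetry _ _, ?_⟩
    show (e.hom ≫ (pullbackSymmetry _ _).hom) ≫ pullback.snd b (Spec.map (CommRingCat.ofHom φ)) = c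
    rw [Category.assoc, pullbackSymmetry_hom_comp_snd, he]

end Groth.Agent.S7304
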