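import Groth.Statements.S7307
import Groth.Agent.BlowH1.Contraction
import Groth.Agent.IdealSh.Regular
import Groth.Agent.S14357
-- import your own Groth.Agent.* helpers here

set_option linter.style.haveILetI false
set_option backward.isDefEq.respectTransparency false
set_option backward.isDefEq.respectTransparency.types false
set_option autoImplicit false
universe u
open CategoryTheory CategoryTheory.Limits AlgebraicGeometry
open Resolve
open Groth.Agent.BlowUp TopologicalSpace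

namespace Groth.Agent.S7307

open Groth.Agent.IdealSh Groth.Agent.IdealSh.Comap in
/-- Sections of the structure sheaf are determined off an effective Cartier divisor. -/
theorem section_ext_of_effCartier {X : Scheme.{u}} {I : X.IdealSheafData} (h : _root_.BlowUp.IsEffCartierIdeal I)
    {V O : X.Opens} (hOV : O ≤ V) (hO : (V : Set X) \ (I.support : Set X) ⊆ O) (s t : Γ(X, V))
    (hst : X.presheaf.map (homOfLE hOV).op s = X.presheaf.map (homOfLE hOV).op t) : s = t := by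
  refine TopCat.Presheaf.section_ext X.sheaf V _ _ fun x hx => ?_
  obtain ⟨U, hxU, hUV, f, hf, he⟩ := EffCartier.exists_equation h x V hx
  have hle : X.basicOpen f ≤ O := fun y hy => by
    have hy' : y ∈ (U.1 : Set X) \ (I.support : Set X) := by rw [← Regular.basicOpen_eq_compl_support he]; exact hy
    exact hO ⟨hUV hy'.1, hy'.2⟩
  have h0 : X.presheaf.map (homOfLE hUV).op s - X.presheaf.map (homOfLE hUV).op t = 0 := by
    refine Regular.eq_zero_of_restrict_basicOpen U.2 hf ?_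
    rw [map_sub, sub_eq_zero]
    have e := congrArg (X.presheaf.map (homOfLE hle).op) hst
    simp only [← ConcreteCategory.comp_apply, ← Functor.map_comp] at e ⊢
    exact e
  rw [sub_eq_zero] at h0
  have e := congrArg (X.presheaf.germ U.1 x hxU) h0
  rw [TopCat.Presheaf.germ_res_apply, TopCat.Presheaf.germ_res_apply] at e
  exact e

/-- Morphisms from an open into an affine scheme are determined off an effective Cartier divisor. -/
theorem hom_ext_of_effCartier {X V : Scheme.{u}} [IsAffine V] {I : X.IdealSheafData}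
    (h : _root_.BlowUp.IsEffCartierIdeal I) {P O : X.Opens} (hOP : O ≤ P)
    (hO : (P : Set X) \ (I.support : Set X) ⊆ O) (m₁ m₂ : (P : Scheme.{u}) ⟶ V)
    (e : X.homOfLE hOP ≫ m₁ = X.homOfLE hOP ≫ m₂) : m₁ = m₂ := by
  refine ext_of_isAffine ?_
  ext a
  have e' := congrArg (fun f : (O : Scheme.{u}) ⟶ V => f.appTop a) e
  simp only [Scheme.Hom.comp_appTop] at e'
  refine section_ext_of_effCartier h (X.ι_image_homOfLE_le_ι_image hOP ⊤) ?_ _ _ ?_
  · rw [Scheme.Hom.preimage_top, Scheme.Opens.ι_image_top, Scheme.Opens.ι_image_top]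
    exact hO
  · simpa only [CommRingCat.comp_apply, Scheme.Hom.appTop, Scheme.homOfLE_app] using! e'

/-- Let X be a Noetherian scheme, ι : E → X a closed immersion which is an exceptional curve of the
first kind, and b : X → X' a contraction of E. Then b has the following universal property: every
morphism φ : X → Y which maps E to a single point of Y factors uniquely as b followed by a morphism
X' → Y. -/
theorem result {E X X' : Scheme.{u}} [IsNoetherian X] (ι : E ⟶ X) [IsClosedImmersion ι]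
    (hE : Models.IsExcCurve ι) (b : X ⟶ X') (hb : Models.IsContractionOf ι b)
    {Y : Scheme.{u}} (φ : X ⟶ Y) (y : Y) (hφ : Set.range ((ι ≫ φ).base : E → Y) = {y}) :
    ∃! ψ : X' ⟶ Y, b ≫ ψ = φ := by
  classical
  obtain ⟨hNX', hbp, x', hx', hrange, hreg, hdim, hbu⟩ := hb
  haveI := hNX'; haveI := hbp; haveI := hreg
  set A := X'.presheaf.stalk x'
  obtain ⟨a, c, hm⟩ : ∃ a c : A, IsLocalRing.maximalIdeal A = Ideal.ofList [a, c] := by
    obtain ⟨s, hcard, hs⟩ := Submodule.FG.exists_span_set_encard_eq_spanFinrank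
      (Ideal.fg_of_isNoetherianRing (IsLocalRing.maximalIdeal A))
    have htwo : (IsLocalRing.maximalIdeal A).spanFinrank = 2 := by
      have h := IsRegularLocalRing.spanFinrank_maximalIdeal (R := A)
      rw [hdim] at h
      exact_mod_cast h
    rw [htwo, Nat.cast_ofNat, Set.encard_eq_two] at hcard
    obtain ⟨x, z, -, rfl⟩ := hcard
    refine ⟨x, z, ?_⟩
    rw [← hs, Ideal.ofList]
    congr 1
    ext r
    simp
  -- the exceptional curve has a non-closed point
  obtain ⟨k, hk, e, -⟩ := hE.2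
  letI := hk
  obtain ⟨p, q, hpq, hne⟩ := S14357.exists_pair k
  let η := (e.hom ≫ ι) p
  let ζ := (e.hom ≫ ι) q
  have hηζ : η ⤳ ζ := hpq.map (e.hom ≫ ι).continuous
  have hne' : η ≠ ζ := fun h => hne ((e.hom ≫ ι).isClosedEmbedding.injective h)
  have hbι : ∀ z : E, b (ι z) = x' := fun z => by
    have h : (ι ≫ b) z ∈ ({x'} : Set X') := hrange ▸ ⟨z, rfl⟩
    exact h
  have hfib : ∀ w : X, b w = x' → w ∈ Set.range ι := fun w hw =>
    (BlowH1.specializes_of_pointBlowUp b x' hx' hbu hm hηζ hne' (hbι _) (hbι _) hw).mem_closed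
      ι.isClosedEmbedding.isClosed_range ⟨e.hom p, rfl⟩
  have hφw : ∀ w : X, b w = x' → φ w = y := fun w hw => by
    obtain ⟨z, rfl⟩ := hfib w hw
    have h : (ι ≫ φ) z ∈ ({y} : Set Y) := hφ ▸ ⟨z, rfl⟩
    exact h
  -- neighbourhoods
  obtain ⟨_, ⟨⟨V, hV, rfl⟩, hyV, -⟩⟩ :=
    Y.isBasis_affineOpens.exists_subset_of_mem_open (Set.mem_univ y) isOpen_univ
  haveI : IsAffine (V : Scheme.{u}) := hV
  obtain ⟨_, ⟨⟨W, hW, rfl⟩, hxW, hWsub⟩⟩ :=
    X'.isBasis_affineOpens.exists_subset_of_mem_open (a := x')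
      (show x' ∈ (b '' ((φ ⁻¹' (V : Set Y))ᶜ))ᶜ from fun ⟨w, hw, hbw⟩ => hw (by
        show φ w ∈ V
        rw [hφw w hbw]; exact hyV))
      (b.isClosedMap _ (V.2.preimage φ.continuous).isClosed_compl).isOpen_compl
  haveI : IsAffine (W : Scheme.{u}) := hW
  have hbW : b ⁻¹ᵁ W ≤ φ ⁻¹ᵁ V := fun w hw => by
    by_contra h
    exact hWsub hw ⟨w, h, rfl⟩
  let U0 : X'.Opens := ⟨({x'} : Set X')ᶜ, hx'.isOpen_compl⟩
  have hsupp : ((Scheme.IdealSheafData.vanishingIdeal ⟨{x'}, hx'⟩).support : Set X') = {x'} :=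
    Scheme.IdealSheafData.coe_support_vanishingIdeal _
  haveI : IsIso (b ∣_ U0) := BlowUp.Basic.isIso_restrict hbu U0 (by
    rw [hsupp, Set.disjoint_left]; exact fun a ha => ha)
  let ψ₀ : (U0 : Scheme.{u}) ⟶ Y := inv (b ∣_ U0) ≫ (b ⁻¹ᵁ U0).ι ≫ φ
  let O : X'.Opens := W ⊓ U0
  let j := X'.homOfLE (inf_le_left : O ≤ W)
  haveI : IsIso j.appTop := by
    refine TorsorClos.isIso_appTop_of_isOpenImmersion j fun w hw => ?_
    have hw' : Scheme.Opens.ι W w = x' := by
      by_contra h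
      exact hw ⟨⟨w.1, w.2, h⟩, Subtype.ext (X'.homOfLE_apply _ _)⟩
    let σ := (Scheme.Opens.stalkIso W w).commRingCatIsoToRingEquiv
    have hN : IsNoetherianRing (X'.presheaf.stalk w.1) := by rw [show w.1 = x' from hw']; infer_instance
    haveI : IsNoetherianRing ((W : Scheme.{u}).presheaf.stalk w) := isNoetherianRing_of_ringEquiv _ σ.symm
    refine ⟨inferInstance, ?_⟩
    refine (HartogsAffine.depth_congr_ringEquiv σ).symm ▸ ?_
    show (2 : ℕ∞) ≤ LocCoh.depth (X'.presheaf.stalk w.1) (X'.presheaf.stalk w.1)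
    rw [show w.1 = x' from hw']
    exact TorsorClos.depth_ge_two_of_regular A hdim.ge
  let f₀ : (O : Scheme.{u}) ⟶ Y := X'.homOfLE (inf_le_right : O ≤ U0) ≫ ψ₀
  have hback : ∀ u : (U0 : Scheme.{u}), b ((inv (b ∣_ U0) ≫ (b ⁻¹ᵁ U0).ι) u) = U0.ι u := fun u => by
    rw [← Scheme.Hom.comp_apply, Category.assoc, ← morphismRestrict_ι, IsIso.inv_hom_id_assoc]
  have hf₀ : Set.range f₀ ⊆ Set.range (Scheme.Opens.ι V) := by
    rw [Scheme.Opens.range_ι]
    rintro _ ⟨u, rfl⟩
    show φ ((inv (b ∣_ U0) ≫ (b ⁻¹ᵁ U0).ι) (X'.homOfLE _ u)) ∈ V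
    refine hbW ?_
    show b _ ∈ W
    rw [hback, Scheme.Opens.ι_apply, X'.homOfLE_apply]
    exact u.2.1
  obtain ⟨g, hg, hguniq⟩ := BlowH1.existsUnique_ext_affine j (IsOpenImmersion.lift (Scheme.Opens.ι V) f₀ hf₀)
  have hcov : IsOpenCover (fun i : Bool => bif i then U0 else W) :=
    IsOpenCover.mk (top_unique fun w _ => by
      rcases eq_or_ne w x' with rfl | h
      · exact Opens.mem_iSup.2 ⟨false, hxW⟩
      · exact Opens.mem_iSup.2 ⟨true, h⟩)
  let 𝒰 := X'.openCoverOfIsOpenCover _ hcov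
  let ψW : (W : Scheme.{u}) ⟶ Y := g ≫ Scheme.Opens.ι V
  have hglue : X'.homOfLE (inf_le_left : O ≤ W) ≫ ψW = X'.homOfLE (inf_le_right : O ≤ U0) ≫ ψ₀ := by
    show j ≫ g ≫ Scheme.Opens.ι V = f₀
    rw [← Category.assoc, hg, IsOpenImmersion.lift_fac]
  have hcompat : pullback.fst (Scheme.Opens.ι W) U0.ι ≫ ψW = pullback.snd (Scheme.Opens.ι W) U0.ι ≫ ψ₀ := by
    rw [← cancel_epi (isPullback_opens_inf W U0).isoPullback.hom, IsPullback.isoPullback_hom_fst_assoc,
      IsPullback.isoPullback_hom_snd_assoc]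
    exact hglue
  let f : ∀ i, 𝒰.X i ⟶ Y := fun i => match i with
    | true => ψ₀
    | false => ψW
  let ψ : X' ⟶ Y := 𝒰.glueMorphisms f (by
    rintro (_ | _) (_ | _)
    · show pullback.fst (Scheme.Opens.ι W) (Scheme.Opens.ι W) ≫ ψW = pullback.snd (Scheme.Opens.ι W) (Scheme.Opens.ι W) ≫ ψW
      rw [(cancel_mono (Scheme.Opens.ι W)).1 pullback.condition]
    · exact hcompat
    · show pullback.fst U0.ι (Scheme.Opens.ι W) ≫ ψ₀ = pullback.snd U0.ι (Scheme.Opens.ι W) ≫ ψW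
      rw [← cancel_epi (pullbackSymmetry (Scheme.Opens.ι W) U0.ι).hom, pullbackSymmetry_hom_comp_fst_assoc,
        pullbackSymmetry_hom_comp_snd_assoc]
      exact hcompat.symm
    · show pullback.fst U0.ι U0.ι ≫ ψ₀ = pullback.snd U0.ι U0.ι ≫ ψ₀
      rw [(cancel_mono U0.ι).1 pullback.condition])
  have hψU : U0.ι ≫ ψ = ψ₀ := 𝒰.ι_glueMorphisms f _ true
  have hψW : Scheme.Opens.ι W ≫ ψ = ψW := 𝒰.ι_glueMorphisms f _ false
  refine ⟨ψ, ?_, fun ψ' hψ' => ?_⟩
  · show b ≫ ψ = φ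
    have hU : (b ⁻¹ᵁ U0).ι ≫ b ≫ ψ = (b ⁻¹ᵁ U0).ι ≫ φ := by
      rw [← Category.assoc, ← morphismRestrict_ι, Category.assoc, hψU, IsIso.hom_inv_id_assoc]
    refine Scheme.Cover.hom_ext (X.openCoverOfIsOpenCover (fun i : Bool => b ⁻¹ᵁ (bif i then U0 else W))
      (hcov.comap ⟨b.base, b.continuous⟩)) _ _ fun i => ?_
    cases i
    case true => exact hU
    case false =>
      show (b ⁻¹ᵁ W).ι ≫ b ≫ ψ = (b ⁻¹ᵁ W).ι ≫ φ
      have h1 : Set.range ((b ⁻¹ᵁ W).ι ≫ φ) ⊆ Set.range (Scheme.Opens.ι V) := by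
        rw [Scheme.Opens.range_ι]
        rintro _ ⟨u, rfl⟩
        exact hbW u.2
      rw [← Category.assoc, ← morphismRestrict_ι, Category.assoc, hψW,
        ← IsOpenImmersion.lift_fac (Scheme.Opens.ι V) _ h1]
      show (b ∣_ W) ≫ g ≫ _ = _
      rw [← Category.assoc]
      refine congrArg (· ≫ Scheme.Opens.ι V) ?_
      refine hom_ext_of_effCartier hbu.1 (b.preimage_mono (inf_le_left : O ≤ W)) ?_ _ _ ?_
      · rintro w ⟨hw, hns⟩
        refine ⟨hw, fun h => hns ?_⟩
        rw [Scheme.IdealSheafData.support_comap]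
        show b w ∈ (Scheme.IdealSheafData.vanishingIdeal ⟨{x'}, hx'⟩).support
        rw [← SetLike.mem_coe, hsupp]
        exact h
      · rw [← cancel_mono (Scheme.Opens.ι V)]
        simp only [Category.assoc]
        rw [IsOpenImmersion.lift_fac, X.homOfLE_ι_assoc]
        show X.homOfLE _ ≫ (b ∣_ W) ≫ ψW = _
        rw [← hψW, morphismRestrict_ι_assoc, X.homOfLE_ι_assoc]
        have := congrArg (X.homOfLE (b.preimage_mono (inf_le_right : O ≤ U0)) ≫ ·) hU
        simpa only [X.homOfLE_ι_assoc] using this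
  · have hU' : U0.ι ≫ ψ' = ψ₀ := by
      rw [← cancel_epi (b ∣_ U0)]
      show _ = (b ∣_ U0) ≫ inv (b ∣_ U0) ≫ (b ⁻¹ᵁ U0).ι ≫ φ
      rw [morphismRestrict_ι_assoc, hψ', IsIso.hom_inv_id_assoc]
    have h2 : Set.range (Scheme.Opens.ι W ≫ ψ') ⊆ Set.range (Scheme.Opens.ι V) := by
      rw [Scheme.Opens.range_ι]
      rintro _ ⟨u, rfl⟩
      show ψ' u.1 ∈ V
      rcases eq_or_ne u.1 x' with h | h
      · rw [h, ← hbι (e.hom p), ← Scheme.Hom.comp_apply, hψ', hφw _ (hbι _)]
        exact hyV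
      · have h3 : ψ' u.1 = ψ₀ ⟨u.1, h⟩ := congr($hU' ⟨u.1, h⟩)
        rw [h3]
        show φ ((inv (b ∣_ U0) ≫ (b ⁻¹ᵁ U0).ι) ⟨u.1, h⟩) ∈ V
        refine hbW ?_
        show b _ ∈ W
        rw [hback]
        exact u.2
    have hg' : IsOpenImmersion.lift (Scheme.Opens.ι V) (Scheme.Opens.ι W ≫ ψ') h2 = g := hguniq _ (by
      show j ≫ _ = _
      rw [← cancel_mono (Scheme.Opens.ι V), Category.assoc, IsOpenImmersion.lift_fac, IsOpenImmersion.lift_fac,
        X'.homOfLE_ι_assoc]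
      show O.ι ≫ ψ' = X'.homOfLE _ ≫ ψ₀
      rw [← hU', X'.homOfLE_ι_assoc])
    refine Scheme.Cover.hom_ext 𝒰 _ _ fun i => ?_
    cases i
    case true => exact hU'.trans hψU.symm
    case false =>
      show Scheme.Opens.ι W ≫ ψ' = Scheme.Opens.ι W ≫ ψ
      rw [hψW]
      show _ = g ≫ Scheme.Opens.ι V
      rw [← hg', IsOpenImmersion.lift_fac]

end Groth.Agent.S7307
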