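import Groth.Statements.S7308
import Groth.Agent.S7307
-- import your own Groth.Agent.* helpers here

set_option autoImplicit false
universe u
open CategoryTheory CategoryTheory.Limits AlgebraicGeometry
open Resolve

namespace Groth.Agent.S7308

/-- Let X be a Noetherian scheme and ι : E → X a closed immersion which is an exceptional curve of the
first kind. A contraction of E, if it exists, is unique up to unique isomorphism: for contractions
b₁ : X → X₁ and b₂ : X → X₂ of E there is a unique isomorphism e : X₁ ≅ X₂ with b₁ ≫ e = b₂. -/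
theorem result {E X X₁ X₂ : Scheme.{u}} [IsNoetherian X] (ι : E ⟶ X) [IsClosedImmersion ι]
    (hE : Models.IsExcCurve ι) (b₁ : X ⟶ X₁) (hb₁ : Models.IsContractionOf ι b₁) (b₂ : X ⟶ X₂) (hb₂ : Models.IsContractionOf ι b₂) :
    ∃! e : X₁ ≅ X₂, b₁ ≫ e.hom = b₂ := by
  obtain ⟨_, _, x₁, _, hr₁, -⟩ := id hb₁
  obtain ⟨_, _, x₂, _, hr₂, -⟩ := id hb₂
  obtain ⟨f, hf, hf'⟩ := S7307.result ι hE b₁ hb₁ b₂ x₂ hr₂
  obtain ⟨g, hg, hg'⟩ := S7307.result ι hE b₂ hb₂ b₁ x₁ hr₁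
  obtain ⟨_, _, hu₁⟩ := S7307.result ι hE b₁ hb₁ b₁ x₁ hr₁
  obtain ⟨_, _, hu₂⟩ := S7307.result ι hE b₂ hb₂ b₂ x₂ hr₂
  refine ⟨⟨f, g, ?_, ?_⟩, hf, fun e he => Iso.ext (hf' _ he)⟩
  · exact (hu₁ _ (show b₁ ≫ f ≫ g = b₁ by rw [← Category.assoc, hf, hg])).trans
      (hu₁ _ (Category.comp_id _)).symm
  · exact (hu₂ _ (show b₂ ≫ g ≫ f = b₂ by rw [← Category.assoc, hg, hf])).trans
      (hu₂ _ (Category.comp_id _)).symm

end Groth.Agent.S7308
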