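import Groth.Statements.S7326
import Groth.Agent.VertInter.Twist

set_option autoImplicit false
universe u
open CategoryTheory CategoryTheory.Limits AlgebraicGeometry
open Models

namespace Groth.Agent.S7326

/-- Let R be a discrete valuation ring with fraction field K, C a smooth proper curve over K with H^0(C,
O_C) = K, X a regular proper model of C, Γ_1, …, Γ_n the irreducible components of the closed fibre
with multiplicities m_i, d = gcd(m_i), and D = Σ (m_i/d) Γ_i the effective Cartier divisor with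
ideal sheaf I_D = Π I(Γ_i)^{m_i/d}. Then O_X(D) (any L with L ⊗ I_D ≅ O_X) has order dividing d in
Pic(X), i.e. L^{⊗ d} ≅ O_X, and the conormal sheaf I_D|_D, an invertible O_D-module, has order
dividing d in Pic(D). -/
theorem result (R : Type u) [CommRing R] [IsDomain R] [IsDiscreteValuationRing R]
    (C X : Scheme.{u}) (f : C ⟶ Spec (CommRingCat.of (FractionRing R))) (p : X ⟶ Spec (CommRingCat.of R))
    (hC : Curve.IsSmoothProperCurve (FractionRing R) C f) (hH0 : IsIso f.appTop)
    (hX : Models.IsRegularProperModel R X p C f)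
    {n : ℕ} (Γ : Fin n → ArSurf.VertComp R (Over.mk p)) (hΓ : Models.IsComponentList R (Over.mk p) Γ)
    (L : X.Modules)
    (hL : ClSub.IsInverseOf L (ClSub.idealMod (∏ i, (Γ i).ι.ker ^ (Models.mult R (Over.mk p) (Γ i) / Models.multGcd R (Over.mk p) Γ)))) :
    Nonempty (CohB1.tensorPow L (Models.multGcd R (Over.mk p) Γ) ≅ Coh.structureModule X) ∧
      Nonempty (CohB1.tensorPow ((Scheme.Modules.pullback
          (∏ i, (Γ i).ι.ker ^ (Models.mult R (Over.mk p) (Γ i) / Models.multGcd R (Over.mk p) Γ)).subschemeι).obj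
          (ClSub.idealMod (∏ i, (Γ i).ι.ker ^ (Models.mult R (Over.mk p) (Γ i) / Models.multGcd R (Over.mk p) Γ))))
          (Models.multGcd R (Over.mk p) Γ) ≅
        Coh.structureModule (∏ i, (Γ i).ι.ker ^ (Models.mult R (Over.mk p) (Γ i) / Models.multGcd R (Over.mk p) Γ)).subscheme) := by
  haveI : Flat p := hX.1.1
  haveI : IsProper p := hX.2.1
  haveI : Flat (Over.mk p).hom := hX.1.1
  haveI : IsProper (Over.mk p).hom := hX.2.1
  haveI : IsLocallyNoetherian (Over.mk p).left := LocallyOfFiniteType.isLocallyNoetherian p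
  obtain ⟨hcart, heq⟩ := S3313.eq_prod p hX.1.1 inferInstance hX.2.2 Γ hΓ
  set d := Models.multGcd R (Over.mk p) Γ
  set D := ∏ i, (Γ i).ι.ker ^ (Models.mult R (Over.mk p) (Γ i) / d) with hDdef
  have hD : BlowUp.IsEffCartierIdeal D := by
    refine Finset.prod_induction _ BlowUp.IsEffCartierIdeal (fun _ _ => IdealSh.EffCartier.mul) ?_
      fun i _ => IdealSh.EffCartier.pow (hcart i) _
    simpa using IdealSh.EffCartier.pow (IdealSh.EffCartier.top (X := (Over.mk p).left)) 0
  have hDd : D ^ d = Models.specialFibreIdeal R (Over.mk p) := by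
    rw [heq, hDdef, ← Finset.prod_pow]
    refine Finset.prod_congr rfl fun i _ => ?_
    rw [← pow_mul, Nat.div_mul_cancel]
    exact Finset.gcd_dvd (Finset.mem_univ i)
  have hLd := VertInter.inv_pow (X := (Over.mk p).left) hD ⟨VertInter.isInvertible_inverse hD hL, hL⟩ d
  rw [hDd] at hLd
  obtain ⟨e⟩ := VertInter.inv_unique hLd (VertInter.inv_fibre (X := Over.mk p))
  refine ⟨⟨e⟩, ?_⟩
  have hI := IdealSh.IdealMod.isInvertible_of_isEffCartierIdeal D hD
  obtain ⟨eI⟩ : Nonempty (CohB1.tensorPow (ClSub.idealMod D) d ≅ Coh.structureModule (Over.mk p).left) := by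
    obtain ⟨e1⟩ := (CartFilt.nonempty_cokernel_θ hD d).2
    rw [hDd] at e1
    obtain ⟨e2⟩ := (VertInter.inv_fibre (X := Over.mk p)).2
    exact ⟨e1 ≪≫ (ProjTwist.oneTens _).symm ≪≫ e2⟩
  have key : ∀ a : ℕ, Nonempty ((Scheme.Modules.pullback D.subschemeι).obj (CohB1.tensorPow (ClSub.idealMod D) a) ≅
      CohB1.tensorPow ((Scheme.Modules.pullback D.subschemeι).obj (ClSub.idealMod D)) a) := by
    intro a
    induction a with
    | zero => exact ⟨QCoh.pullbackUnitIso D.subschemeι⟩
    | succ a ih =>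
      obtain ⟨e3⟩ := ih
      obtain ⟨e4⟩ := PicLaw.pullback_tensor D.subschemeι (CartFilt.isInvertible_pow hD a) hI
      exact ⟨e4 ≪≫ ProjTwist.tensCongr e3 (Iso.refl _)⟩
  exact ⟨(key d).some.symm ≪≫ (Scheme.Modules.pullback D.subschemeι).mapIso eI ≪≫
    QCoh.pullbackUnitIso D.subschemeι⟩

end Groth.Agent.S7326
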