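import Groth.Statements.S7327
import Groth.Agent.NormFinCpl.Scheme
import Groth.Agent.S0566

set_option linter.style.haveILetI false
set_option backward.isDefEq.respectTransparency false
set_option backward.isDefEq.respectTransparency.types false
open TensorProduct TopologicalSpace

set_option autoImplicit false
universe u
open CategoryTheory CategoryTheory.Limits AlgebraicGeometry
open Resolve

namespace Groth.Agent.S7327

/-- Let (A, m) be a Noetherian local ring with completion A^, f : X → Spec A a morphism locally of
finite type with X integral, and Y = X ×_{Spec A} Spec(A^). If the complement of the closed fibre in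
Y is normal (the local rings of Y at points not over the closed point of Spec(A^) are integrally
closed domains), then the normalization morphism of X is finite. (The published statement also
identifies the base change of the normalization of X to A^ with the normalization of Y; this row
does not restate that part. The quasi-compactness and quasi-separatedness binders on Spec K(X) → X
always hold.) -/
theorem result (A : Type u) [CommRing A] [IsLocalRing A] [IsNoetherianRing A]
    (X : Scheme.{u}) [IsIntegral X] (f : X ⟶ Spec (CommRingCat.of A)) [LocallyOfFiniteType f]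
    [QuasiCompact (X.fromSpecStalk (genericPoint X))] [QuasiSeparated (X.fromSpecStalk (genericPoint X))]
    (hY : ∀ y : ↥(Curv2.bcCpl A f), (Curv2.bcCplSnd A f).base y ≠ IsLocalRing.closedPoint (Curv2.cpl A) →
      IsDomain ((Curv2.bcCpl A f).presheaf.stalk y) ∧ IsIntegrallyClosed ((Curv2.bcCpl A f).presheaf.stalk y)) :
    IsFinite (Curv2.normalizationι X) := by
  refine NormFinCpl.isFinite_normalizationι X fun U hU hne => ?_
  haveI := functionField_isFractionRing_of_isAffineOpen X U hU
  let B : Type u := Γ(X, U)
  letI : Algebra A B := (NormFinCpl.strHom f hU).toAlgebra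
  haveI : Algebra.FiniteType A B := NormFinCpl.finiteType_strHom f hU
  haveI : IsDomain B := IsIntegral.component_integral U
  by_cases hm : ∀ a ∈ IsLocalRing.maximalIdeal A, algebraMap A B a = 0
  · let κ := A ⧸ IsLocalRing.maximalIdeal A
    letI : Algebra κ B := (Ideal.Quotient.lift _ (algebraMap A B) hm).toAlgebra
    haveI : IsScalarTower A κ B := IsScalarTower.of_algebraMap_eq fun a => rfl
    haveI : Algebra.FiniteType κ B := Algebra.FiniteType.of_restrictScalars_finiteType A κ B
    letI : Field κ := Ideal.Quotient.field _
    haveI : IsAdicComplete (IsLocalRing.maximalIdeal κ) κ := by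
      rw [IsLocalRing.maximalIdeal_eq_bot]; infer_instance
    have hκ : CAlg.IsNagata κ := Groth.Agent.S0568.result κ
    have hB : CAlg.IsNagata B := Groth.Agent.S0566.result _ hκ B
    haveI : (⊥ : Ideal B).IsPrime := Ideal.isPrime_bot
    exact Props.N2Local.finite_integralClosure
      (Props.N2Local.isN2_of_ringEquiv (RingEquiv.quotientBot B) (hB.2 ⊥)) X.functionField X.functionField
  push Not at hm
  obtain ⟨a, ha, ha0⟩ := hm
  let C := B ⊗[A] Curv2.cpl A
  let σ : Spec (CommRingCat.of C) ⟶ Curv2.bcCpl A f :=
    (pullbackSpecIso A B (Curv2.cpl A)).inv ≫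
      pullback.map _ _ _ _ hU.fromSpec (𝟙 _) (𝟙 _) (by rw [Category.comp_id]; exact NormFinCpl.map_strHom f hU)
        (by rw [Category.comp_id, Category.id_comp])
  haveI : IsOpenImmersion σ := inferInstance
  have hσ : σ ≫ Curv2.bcCplSnd A f = Spec.map (CommRingCat.ofHom
      (Algebra.TensorProduct.includeRight : Curv2.cpl A →ₐ[A] C).toRingHom) := by
    show (_ ≫ pullback.map _ _ _ _ _ _ _ _ _) ≫ pullback.snd _ _ = _
    rw [pullback.map, Category.assoc, pullback.lift_snd, Category.comp_id]
    exact pullbackSpecIso_inv_snd A B (Curv2.cpl A)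
  haveI : Module.Flat A (Curv2.cpl A) := AdicCompletion.flat_of_isNoetherian _
  haveI : IsReduced C := ⟨fun x hx => by
    let t : C := algebraMap A B a ⊗ₜ 1
    have key : ∀ q : Ideal C, q.IsPrime → t ∉ q → ∃ s ∉ q, s * x = 0 := by
      intro q hq htq
      let y : Spec (CommRingCat.of C) := ⟨q, hq⟩
      have hy : (Curv2.bcCplSnd A f).base (σ y) ≠ IsLocalRing.closedPoint (Curv2.cpl A) := by
        rw [← Scheme.Hom.comp_apply, hσ]
        intro h
        have h1 : algebraMap A (Curv2.cpl A) a ∈ IsLocalRing.maximalIdeal (Curv2.cpl A) := by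
          rw [AdicCompletion.maximalIdeal_eq_map]; exact Ideal.mem_map_of_mem _ ha
        have h2 : algebraMap A (Curv2.cpl A) a ∈ (PrimeSpectrum.asIdeal
            ((Spec.map (CommRingCat.ofHom
              (Algebra.TensorProduct.includeRight : Curv2.cpl A →ₐ[A] C).toRingHom)) y)) := by
          rw [h]; exact h1
        refine htq ?_
        have h3 : (1 : B) ⊗ₜ[A] algebraMap A (Curv2.cpl A) a ∈ q := h2
        rwa [Algebra.algebraMap_eq_smul_one, TensorProduct.tmul_smul, TensorProduct.smul_tmul',
          ← Algebra.algebraMap_eq_smul_one] at h3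
      haveI := (hY (σ y) hy).1
      haveI : IsDomain ((Spec.structureSheaf C).presheaf.stalk y) :=
        (asIso (σ.stalkMap y)).commRingCatIsoToRingEquiv.symm.toMulEquiv.isDomain
      letI := StructureSheaf.stalkAlgebra C y
      haveI := StructureSheaf.IsLocalization.to_stalk C y
      have h0 : algebraMap C ((Spec.structureSheaf C).presheaf.stalk y) x = 0 :=
        (hx.map (algebraMap C ((Spec.structureSheaf C).presheaf.stalk y))).eq_zero
      obtain ⟨⟨s, hs⟩, hsx⟩ := (IsLocalization.map_eq_zero_iff y.asIdeal.primeCompl _ x).1 h0
      exact ⟨s, hs, hsx⟩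
    have hann : t ∈ (Ideal.torsionOf C C x).radical := by
      rw [Ideal.radical_eq_sInf, Ideal.mem_sInf]
      rintro q ⟨hle, hq⟩
      by_contra htq
      obtain ⟨s, hs, hsx⟩ := key q hq htq
      exact hs (hle hsx)
    obtain ⟨k, hk⟩ := hann
    have hkx : (algebraMap A B (a ^ k) ⊗ₜ[A] (1 : Curv2.cpl A)) * x = 0 := by
      have hk' : t ^ k * x = 0 := hk
      rwa [Algebra.TensorProduct.tmul_pow, one_pow, ← map_pow] at hk'
    have hinj : Function.Injective (LinearMap.rTensor (Curv2.cpl A)
        (LinearMap.mulLeft A (algebraMap A B (a ^ k)))) :=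
      Module.Flat.rTensor_preserves_injective_linearMap _ fun u v h =>
        mul_left_cancel₀ (by rw [map_pow]; exact pow_ne_zero k ha0) h
    refine hinj ?_
    rw [map_zero, ← hkx]
    clear hkx hk key hx
    induction x using TensorProduct.induction_on with
    | zero => simp
    | tmul b c =>
        refine Eq.trans ?_ (Algebra.TensorProduct.tmul_mul_tmul _ b 1 c).symm
        simp
    | add u v hu hv => rw [map_add, mul_add, hu, hv]⟩
  exact NormFinCpl.finite_of_isReduced A B X.functionField

end Groth.Agent.S7327
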