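import Groth.Statements.S7333
import Groth.Agent.Dual3RHom.RatSing
-- import your own Groth.Agent.* helpers here

set_option autoImplicit false
universe u
open CategoryTheory CategoryTheory.Limits AlgebraicGeometry
attribute [local instance] HasDerivedCategory.standard
open Resolve

namespace Groth.Agent.S7333

/-- Let (A, m) be a local normal Nagata domain of dimension two which defines a rational singularity and
has a dualizing module ω_A, f : X → Spec A a proper morphism from an integral normal scheme which is
an isomorphism over a nonempty open, and ω_X the dualizing module of X normalized relative to ω_A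
(the degree-zero cohomology sheaf of f^!(ω_A~), with f^! the right adjoint of Rf_* on D_QCoh,
carried as hypotheses). Then the trace map Rf_* f^!(ω_A~) → ω_A~ is an isomorphism on degree-zero
cohomology sheaves; that is, H^0(X, ω_X) → ω_A is an isomorphism. (The published statement also
derives from this a canonical map f^*ω_A → ω_X; this row does not restate that map.) -/
theorem result (A : Type u) [CommRing A] [IsDomain A] [IsLocalRing A] [IsNoetherianRing A]
    [IsIntegrallyClosed A] (hN : CAlg.IsNagata A) (hdim : ringKrullDim A = 2) (hA : Curv2.IsRationalSing A)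
    (X : Scheme.{u}) (f : X ⟶ Spec (CommRingCat.of A)) [IsProper f] [IsIntegral X] (hXn : Pi1.IsNormalScheme X)
    (hbir : ∃ U : (Spec (CommRingCat.of A)).Opens, (U : Set (Spec (CommRingCat.of A))).Nonempty ∧ IsIso (f ∣_ U))
    (ωA : Type u) [AddCommGroup ωA] [Module A ωA] (hω : Dual.IsDualizing A (Dual.inD A ωA))
    [PreservesFiniteLimits (tilde.functor (CommRingCat.of A))]
    [DCoh.HasRpush f] (h : DCoh.RpushPreservesQCoh f) [DCoh.HasShriek f h]
    (WA : DCoh.DQCoh (Spec (CommRingCat.of A))) (hWA : Nonempty (WA.obj ≅ (DCoh.tildeD (CommRingCat.of A)).obj (Dual.inD A ωA))) :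
    IsIso ((DerivedCategory.homologyFunctor (Spec (CommRingCat.of A)).Modules 0).map
      ((ObjectProperty.ι DCoh.IsQCohD).map ((DCoh.trace f h).app WA))) := by
  obtain ⟨r⟩ := Groth.Agent.Dual3RHom.RatSing.nonempty_rpush_one A hdim hA f hXn hbir
  have : IsIso (DCoh.trace f h) := Groth.Agent.Dual3RHom.RatSing.isIso_counit f h _ _ r
  infer_instance

end Groth.Agent.S7333
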