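import Groth.Statements.S7336
import Groth.Agent.RatMapExt.Basic
import Mathlib
-- import your own Groth.Agent.* helpers here

set_option backward.isDefEq.respectTransparency false
set_option backward.isDefEq.respectTransparency.types false
set_option maxHeartbeats 1000000

set_option autoImplicit false
universe u
open CategoryTheory CategoryTheory.Limits AlgebraicGeometry
open Resolve

namespace Groth.Agent.S7336

/-- A proper birational morphism to a normal local scheme with an isolated point in the closed fibre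
is an isomorphism. -/
theorem isIso_of_isolated {A : Type u} [CommRing A] [IsDomain A] [IsLocalRing A] [IsIntegrallyClosed A]
    {X : Scheme.{u}} (f : X ⟶ Spec (CommRingCat.of A)) [IsProper f] [IsIntegral X]
    (U : (Spec (CommRingCat.of A)).Opens) (hU : (U : Set (Spec (CommRingCat.of A))).Nonempty) [IsIso (f ∣_ U)]
    (x : X) (hx : f x = IsLocalRing.closedPoint A) (O : X.Opens)
    (hO : (O : Set X) ∩ f ⁻¹' {IsLocalRing.closedPoint A} = {x}) : IsIso f := by
  let S := Spec (CommRingCat.of A)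
  let h : (U : Scheme.{u}) ⟶ X := inv (f ∣_ U) ≫ (f ⁻¹ᵁ U).ι
  have hh : U.ι ≫ 𝟙 S = h ≫ f := by
    rw [Category.comp_id, Category.assoc, ← morphismRestrict_ι, IsIso.inv_hom_id_assoc]
  have hsnd : IsIso (pullback.snd (𝟙 S) f) := inferInstance
  let z : ↥(pullback (𝟙 S) f) := (inv (pullback.snd (𝟙 S) f)) x
  have hsz : pullback.snd (𝟙 S) f z = x := by
    rw [← Scheme.Hom.comp_apply, IsIso.inv_hom_id]; rfl
  have hfs : pullback.fst (𝟙 S) f = pullback.snd (𝟙 S) f ≫ f := by
    rw [← pullback.condition, Category.comp_id]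
  have hinj : Function.Injective (pullback.snd (𝟙 S) f) :=
    (pullback.snd (𝟙 S) f).homeomorph.injective
  have hz : pullback.fst (𝟙 S) f z = IsLocalRing.closedPoint A := by
    rw [hfs, Scheme.Hom.comp_apply, hsz, hx]
  have hne : ((f ⁻¹ᵁ U : X.Opens) : Set X).Nonempty := by
    obtain ⟨w, hw⟩ := hU
    exact ⟨_, ((inv (f ∣_ U)) ⟨w, hw⟩).2⟩
  have hzΓ : z ∈ closure (Set.range (pullback.lift U.ι h hh)) := by
    rw [(pullback.snd (𝟙 S) f).homeomorph.isEmbedding.closure_eq_preimage_closure_image, Set.mem_preimage,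
      ← Set.range_comp]
    have e : (⇑(pullback.snd (𝟙 S) f).homeomorph) ∘ ⇑(pullback.lift U.ι h hh) = ⇑h := by
      funext w
      show pullback.snd (𝟙 S) f (pullback.lift U.ι h hh w) = h w
      rw [← Scheme.Hom.comp_apply, pullback.lift_snd]
    rw [e]
    have hr : Set.range h = ((f ⁻¹ᵁ U : X.Opens) : Set X) := by
      ext q
      constructor
      · rintro ⟨w, rfl⟩
        exact ((inv (f ∣_ U)) w).2
      · intro hq
        obtain ⟨w, hw⟩ := (inv (f ∣_ U)).homeomorph.surjective ⟨q, hq⟩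
        exact ⟨w, congrArg Subtype.val hw⟩
    rw [hr]
    exact ((f ⁻¹ᵁ U).2.dense hne) _
  haveI : IsDomain Γ(S, ⊤) := Function.Injective.isDomain (Scheme.ΓSpecIso (CommRingCat.of A)).hom.hom
    (Scheme.ΓSpecIso (CommRingCat.of A)).commRingCatIsoToRingEquiv.injective
  have hA : IsIntegrallyClosed (S.presheaf.stalk (IsLocalRing.closedPoint A)) := by
    letI := StructureSheaf.stalkAlgebra A (IsLocalRing.closedPoint A)
    haveI : IsIntegrallyClosed (Localization.AtPrime (IsLocalRing.closedPoint A).asIdeal) :=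
      isIntegrallyClosed_of_isLocalization _ (IsLocalRing.closedPoint A).asIdeal.primeCompl
        (Ideal.primeCompl_le_nonZeroDivisors _)
    exact IsIntegrallyClosed.of_equiv
      (Spec.stalkIso (CommRingCat.of A) (IsLocalRing.closedPoint A)).symm.commRingCatIsoToRingEquiv
  obtain ⟨V, v, hxV, -, hv, hUV⟩ := Groth.Agent.RatMapExt.exists_extension_of_isolated (𝟙 S) f U h hh
    (isAffineOpen_top S) (by simpa using hU) (IsLocalRing.closedPoint A) trivial hA z hz hzΓ
    ⟨pullback.snd (𝟙 S) f ⁻¹ᵁ O, by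
      refine Set.eq_singleton_iff_unique_mem.mpr ⟨⟨⟨?_, hzΓ⟩, hz⟩, ?_⟩
      · show pullback.snd (𝟙 S) f z ∈ O
        rw [hsz]
        exact (hO.ge rfl).1
      · rintro w ⟨⟨hwO, -⟩, hwf⟩
        refine hinj ((hO.le ⟨hwO, ?_⟩).trans hsz.symm)
        rw [Set.mem_preimage, Set.mem_singleton_iff, ← Scheme.Hom.comp_apply, ← hfs]
        exact hwf⟩
  have hV : V = ⊤ := top_le_iff.mp fun w _ =>
    ((IsLocalRing.specializes_closedPoint (R := A) w).mem_open V.2 hxV :)
  subst hV
  rw [Category.comp_id] at hv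
  let s : S ⟶ X := S.topIso.inv ≫ v
  have hs : s ≫ f = 𝟙 S := by
    rw [Category.assoc, hv]
    exact S.topIso.inv_hom_id
  refine ⟨s, ?_, hs⟩
  haveI : IsDominant (f ⁻¹ᵁ U).ι := ⟨by
    show Dense (Set.range (f ⁻¹ᵁ U).ι)
    rw [Scheme.Opens.range_ι]
    exact (f ⁻¹ᵁ U).2.dense hne⟩
  refine ext_of_isDominant_of_isSeparated (ι := (f ⁻¹ᵁ U).ι) f (by rw [Category.assoc, hs, Category.comp_id, Category.id_comp]) ?_
  have e2 : X.homOfLE (le_refl _) = 𝟙 (f ⁻¹ᵁ U : X.Opens).toScheme := by simp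
  have key : (U.ι ≫ s) = h := by
    have := congrArg (S.homOfLE (le_inf le_rfl le_top : U ≤ U ⊓ ⊤) ≫ ·) hUV
    simp only [Scheme.homOfLE_homOfLE_assoc, Scheme.homOfLE_rfl, Category.id_comp] at this
    rw [← this]
    show U.ι ≫ S.topIso.inv ≫ v = _
    rw [← Category.assoc]
    congr 1
    rw [← cancel_mono (⊤ : S.Opens).ι, Category.assoc, show S.topIso.inv ≫ (⊤ : S.Opens).ι = 𝟙 S from S.topIso.inv_hom_id,
      Category.comp_id, Scheme.homOfLE_ι]
  rw [Category.comp_id, ← Category.assoc, ← morphismRestrict_ι f U, Category.assoc, key,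
    IsIso.hom_inv_id_assoc]

/-- An element of a stalk of a birational modification of `Spec A` divides a nonzero element of `A`. -/
theorem exists_dvd {A : Type u} [CommRing A] [IsDomain A]
    {X : Scheme.{u}} (f : X ⟶ Spec (CommRingCat.of A)) [IsIntegral X]
    (U : (Spec (CommRingCat.of A)).Opens) (hU : (U : Set (Spec (CommRingCat.of A))).Nonempty) [IsIso (f ∣_ U)]
    (x : X) (g : X.presheaf.stalk x) (hg : g ≠ 0) :
    ∃ a : A, a ≠ 0 ∧ g ∣ (X.presheaf.germ ⊤ x trivial).hom (Coh.toGlobal f a) := by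
  let S := Spec (CommRingCat.of A)
  have hηU : f (genericPoint X) ∈ U := by
    obtain ⟨w, hw⟩ := hU
    have h1 : ((inv (f ∣_ U)) ⟨w, hw⟩).1 ∈ f ⁻¹ᵁ U := ((inv (f ∣_ U)) ⟨w, hw⟩).2
    exact (genericPoint_specializes (((inv (f ∣_ U)) ⟨w, hw⟩).1)).mem_open (f ⁻¹ᵁ U).2 h1
  haveI : IsIso (f.stalkMap (genericPoint X)) :=
    (MorphismProperty.isomorphisms CommRingCat).arrow_mk_iso_iff
      (morphismRestrictStalkMap f U ⟨genericPoint X, hηU⟩) |>.mp (inferInstanceAs (IsIso _))
  let η := genericPoint X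
  let sp := X.presheaf.stalkSpecializes (genericPoint_specializes x)
  have hspg : ∀ s : Γ(X, ⊤), sp.hom ((X.presheaf.germ ⊤ x trivial).hom s) = (X.presheaf.germ ⊤ η trivial).hom s :=
    fun s => X.presheaf.germ_stalkSpecializes_apply _ _ s
  have hspinj : Function.Injective sp.hom := by
    intro p q hpq
    obtain ⟨W, hxW, p', rfl⟩ := X.presheaf.exists_germ_eq p
    obtain ⟨W', hxW', q', rfl⟩ := X.presheaf.exists_germ_eq q
    rw [← X.presheaf.germ_res_apply (homOfLE inf_le_left : W ⊓ W' ⟶ W) x ⟨hxW, hxW'⟩ p',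
      ← X.presheaf.germ_res_apply (homOfLE inf_le_right : W ⊓ W' ⟶ W') x ⟨hxW, hxW'⟩ q'] at hpq ⊢
    erw [X.presheaf.germ_stalkSpecializes_apply, X.presheaf.germ_stalkSpecializes_apply] at hpq
    exact congrArg _ (germ_injective_of_isIntegral X η _ hpq)
  obtain ⟨s, hs⟩ := (asIso (f.stalkMap η)).commRingCatIsoToRingEquiv.surjective (sp.hom g)
  letI := S.presheaf.algebra_section_stalk (U := ⊤) ⟨f η, trivial⟩
  haveI := (isAffineOpen_top S).isLocalization_stalk ⟨f η, trivial⟩
  obtain ⟨⟨a', b, hb⟩, hab⟩ := IsLocalization.surj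
    ((isAffineOpen_top S).primeIdealOf ⟨f η, trivial⟩).asIdeal.primeCompl s
  let A' := (Scheme.ΓSpecIso (CommRingCat.of A)).commRingCatIsoToRingEquiv
  have himg : ∀ c : Γ(S, ⊤), (X.presheaf.germ ⊤ η trivial).hom (Coh.toGlobal f (A' c)) =
      (f.stalkMap η).hom ((S.presheaf.germ ⊤ (f η) trivial).hom c) := by
    intro c
    rw [show (f.stalkMap η).hom ((S.presheaf.germ ⊤ (f η) trivial).hom c) =
      (X.presheaf.germ ⊤ η trivial).hom (f.appTop.hom c) from f.germ_stalkMap_apply ⊤ η trivial c]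
    congr 1
    show f.appTop.hom (A'.symm (A' c)) = _
    rw [A'.symm_apply_apply]
  have hkey : sp.hom g * (X.presheaf.germ ⊤ η trivial).hom (Coh.toGlobal f (A' b)) =
      (X.presheaf.germ ⊤ η trivial).hom (Coh.toGlobal f (A' a')) := by
    rw [himg, himg, ← hs]
    show (f.stalkMap η).hom s * _ = _
    rw [← map_mul]
    exact congrArg _ hab
  have hunit : IsUnit ((f.stalkMap η).hom ((S.presheaf.germ ⊤ (f η) trivial).hom b)) :=
    (IsLocalization.map_units (S.presheaf.stalk (f η))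
      (⟨b, hb⟩ : ((isAffineOpen_top S).primeIdealOf ⟨f η, trivial⟩).asIdeal.primeCompl)).map _
  refine ⟨A' a', fun h0 => ?_, ⟨(X.presheaf.germ ⊤ x trivial).hom (Coh.toGlobal f (A' b)), ?_⟩⟩
  · have h1 : sp.hom g * (X.presheaf.germ ⊤ η trivial).hom (Coh.toGlobal f (A' b)) = 0 := by
      rw [hkey, h0, map_zero, map_zero]
    rw [himg] at h1
    exact hg (hspinj (((IsUnit.mul_left_eq_zero hunit).mp h1).trans (map_zero _).symm))
  · refine hspinj ?_
    rw [map_mul, hspg, hspg]
    exact hkey.symm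

/-- Let (A, m) be a local Noetherian normal domain of dimension two and f : X → Spec A a proper morphism
from an integral scheme which is an isomorphism over some nonempty open and is not an isomorphism
(so that every irreducible component of the closed fibre is a curve). Then there is a nonzero a ∈ m
such that for every irreducible component C of the closed fibre, with generic point ξ, there are a
closed point x ∈ C lying on no other component and a factorization a = g · q in O_{X,x} with g in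
the maximal ideal of O_{X,x} and g not vanishing identically on C near x, i.e. the image of g in
O_{X,ξ} is a unit. -/
theorem result (A : Type u) [CommRing A] [IsDomain A] [IsLocalRing A] [IsNoetherianRing A]
    [IsIntegrallyClosed A] (hdim : ringKrullDim A = 2)
    (X : Scheme.{u}) (f : X ⟶ Spec (CommRingCat.of A)) [IsProper f] [IsIntegral X]
    (hbir : ∃ U : (Spec (CommRingCat.of A)).Opens, (U : Set (Spec (CommRingCat.of A))).Nonempty ∧ IsIso (f ∣_ U)) (hf : ¬ IsIso f) :
    ∃ a : A, a ≠ 0 ∧ a ∈ IsLocalRing.maximalIdeal A ∧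
      ∀ C ∈ irreducibleComponents ↥(f.base ⁻¹' {IsLocalRing.closedPoint A}),
        ∃ (x ξ : ↥(f.base ⁻¹' {IsLocalRing.closedPoint A})) (hξx : (ξ : X) ⤳ (x : X)),
          x ∈ C ∧ IsGenericPoint ξ C ∧ IsClosed ({(x : X)} : Set X) ∧
          (∀ C' ∈ irreducibleComponents ↥(f.base ⁻¹' {IsLocalRing.closedPoint A}), C' ≠ C → x ∉ C') ∧
          ∃ g q : X.presheaf.stalk (x : X), g ∈ IsLocalRing.maximalIdeal (X.presheaf.stalk (x : X)) ∧
            (X.presheaf.germ ⊤ (x : X) trivial).hom (Coh.toGlobal f a) = g * q ∧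
            IsUnit ((X.presheaf.stalkSpecializes hξx).hom g) := by
  classical
  obtain ⟨U, hUne, hiso⟩ := hbir
  haveI := hiso
  haveI : IsLocallyNoetherian X := LocallyOfFiniteType.isLocallyNoetherian f
  haveI : CompactSpace X := QuasiCompact.compactSpace_of_compactSpace f
  haveI : IsNoetherian X := {}
  haveI : TopologicalSpace.NoetherianSpace ↥(f.base ⁻¹' {IsLocalRing.closedPoint A}) := inferInstance
  haveI : JacobsonSpace ↥(f.base ⁻¹' {IsLocalRing.closedPoint A}) :=
    JacobsonSpace.of_isOpenEmbedding (f.fiberHomeo (IsLocalRing.closedPoint A)).symm.isOpenEmbedding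
  have hFc : IsClosed (f.base ⁻¹' {IsLocalRing.closedPoint A}) :=
    (IsLocalRing.isClosed_singleton_closedPoint A).preimage f.continuous
  have hfin := TopologicalSpace.NoetherianSpace.finite_irreducibleComponents (α := ↥(f.base ⁻¹' {IsLocalRing.closedPoint A}))
  have key : ∀ C ∈ irreducibleComponents ↥(f.base ⁻¹' {IsLocalRing.closedPoint A}),
      ∃ a : A, a ≠ 0 ∧ ∃ (x ξ : ↥(f.base ⁻¹' {IsLocalRing.closedPoint A})) (hξx : (ξ : X) ⤳ (x : X)),
          x ∈ C ∧ IsGenericPoint ξ C ∧ IsClosed ({(x : X)} : Set X) ∧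
          (∀ C' ∈ irreducibleComponents ↥(f.base ⁻¹' {IsLocalRing.closedPoint A}), C' ≠ C → x ∉ C') ∧
          ∃ g q : X.presheaf.stalk (x : X), g ∈ IsLocalRing.maximalIdeal (X.presheaf.stalk (x : X)) ∧
            (X.presheaf.germ ⊤ (x : X) trivial).hom (Coh.toGlobal f a) = g * q ∧
            IsUnit ((X.presheaf.stalkSpecializes hξx).hom g) := by
    intro C hC
    haveI : QuasiSober ↥(f.base ⁻¹' {IsLocalRing.closedPoint A}) := hFc.isClosedEmbedding_subtypeVal.quasiSober
    obtain ⟨ξ, hξ⟩ := QuasiSober.sober hC.1 (isClosed_of_mem_irreducibleComponents C hC)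
    let Z := ⋃ C' ∈ irreducibleComponents ↥(f.base ⁻¹' {IsLocalRing.closedPoint A}) \ {C}, C'
    have hZ : IsClosed Z := (hfin.diff).isClosed_biUnion fun C' h => isClosed_of_mem_irreducibleComponents C' h.1
    have hξZ : ξ ∉ Z := by
      intro h
      simp only [Z, Set.mem_iUnion, Set.mem_diff, Set.mem_singleton_iff] at h
      obtain ⟨C', ⟨hC', hne⟩, hξC'⟩ := h
      have hle : C ⊆ C' := hξ.def ▸ closure_minimal (Set.singleton_subset_iff.mpr hξC')
        (isClosed_of_mem_irreducibleComponents C' hC')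
      exact hne (le_antisymm (hC.2 hC'.1 hle) hle)
    obtain ⟨x, hxT, hxcl⟩ := nonempty_inter_closedPoints (Z := C ∩ Zᶜ) ⟨ξ, hξ.mem, hξZ⟩
      ((isClosed_of_mem_irreducibleComponents C hC).isLocallyClosed.inter hZ.isOpen_compl.isLocallyClosed)
    have hxX : IsClosed ({(x : X)} : Set X) := by
      have := hFc.isClosedEmbedding_subtypeVal.isClosedMap _ hxcl
      rwa [Set.image_singleton] at this
    have hξx : (ξ : X) ⤳ (x : X) := (hξ.specializes hxT.1).map continuous_subtype_val
    have hother : ∀ C' ∈ irreducibleComponents ↥(f.base ⁻¹' {IsLocalRing.closedPoint A}), C' ≠ C → x ∉ C' :=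
      fun C' hC' hne h => hxT.2 (by
        simp only [Z, Set.mem_iUnion, Set.mem_diff, Set.mem_singleton_iff]
        exact ⟨C', ⟨hC', hne⟩, h⟩)
    have hne : (x : X) ≠ (ξ : X) := by
      intro h
      have hxe : x = ξ := Subtype.ext h
      subst hxe
      have hC1 : C = {x} := by rw [← hξ.def, hxcl.closure_eq]
      obtain ⟨O, hO, hOZ⟩ := isOpen_induced_iff.mp hZ.isOpen_compl
      refine hf (isIso_of_isolated f U hUne (x : X) x.2 ⟨O, hO⟩ ?_)
      refine Set.eq_singleton_iff_unique_mem.mpr ⟨⟨(hOZ.ge hxT.2 :), x.2⟩, ?_⟩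
      rintro w ⟨hwO, hwF⟩
      have hw : (⟨w, hwF⟩ : ↥(f.base ⁻¹' {IsLocalRing.closedPoint A})) ∉ Z := hOZ.le hwO
      obtain ⟨C', hC', hwC'⟩ : ∃ C' ∈ irreducibleComponents ↥(f.base ⁻¹' {IsLocalRing.closedPoint A}),
          (⟨w, hwF⟩ : ↥(f.base ⁻¹' {IsLocalRing.closedPoint A})) ∈ C' :=
        ⟨irreducibleComponent ⟨w, hwF⟩, irreducibleComponent_mem_irreducibleComponents _, mem_irreducibleComponent⟩
      by_cases hCC : C' = C
      · rw [hCC, hC1] at hwC'
        exact congrArg Subtype.val (Set.mem_singleton_iff.mp hwC')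
      · exact absurd (by
          simp only [Z, Set.mem_iUnion, Set.mem_diff, Set.mem_singleton_iff]
          exact ⟨C', ⟨hC', hCC⟩, hwC'⟩) hw
    obtain ⟨g, hgm, hgu⟩ : ∃ g ∈ IsLocalRing.maximalIdeal (X.presheaf.stalk (x : X)),
        IsUnit ((X.presheaf.stalkSpecializes hξx).hom g) := by
      by_contra! hcon
      haveI : IsLocalHom (X.presheaf.stalkSpecializes hξx).hom := ⟨fun a ha => by
        by_contra hna
        exact hcon a ((IsLocalRing.mem_maximalIdeal _).mpr hna) ha⟩
      have h1 := congr($(Scheme.SpecMap_stalkSpecializes_fromSpecStalk (X := X) hξx) (IsLocalRing.closedPoint _))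
      rw [Scheme.Hom.comp_apply, Scheme.fromSpecStalk_closedPoint] at h1
      refine hne ?_
      rw [← h1, show (Spec.map (X.presheaf.stalkSpecializes hξx)) (IsLocalRing.closedPoint _) =
        IsLocalRing.closedPoint _ from IsLocalRing.comap_closedPoint _, Scheme.fromSpecStalk_closedPoint]
    have hg0 : g ≠ 0 := fun h => by
      rw [h, map_zero] at hgu
      exact not_isUnit_zero hgu
    obtain ⟨a, ha, q, hq⟩ := exists_dvd f U hUne (x : X) g hg0
    exact ⟨a, ha, x, ξ, hξx, hxT.1, hξ, hxX, hother, g, q, hgm, hq, hgu⟩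
  choose a ha0 ha using key
  obtain ⟨m, hm, hm0⟩ := Submodule.exists_mem_ne_zero_of_ne_bot (p := IsLocalRing.maximalIdeal A) (by
    intro h
    rw [ringKrullDim_eq_zero_of_isField ((IsLocalRing.isField_iff_maximalIdeal_eq).mpr h)] at hdim
    exact absurd hdim (by norm_num))
  let P := ∏ C ∈ hfin.toFinset.attach, a C.1 (hfin.mem_toFinset.mp C.2)
  refine ⟨m * P, mul_ne_zero hm0 (Finset.prod_ne_zero_iff.mpr fun C _ => ha0 _ _),
    Ideal.mul_mem_right _ _ hm, fun C hC => ?_⟩
  obtain ⟨x, ξ, hξx, hxC, hξ, hcl, hoth, g, q, hgm, hq, hgu⟩ := ha C hC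
  obtain ⟨r, hr⟩ : a C hC ∣ P :=
    Finset.dvd_prod_of_mem (fun C : {C // C ∈ hfin.toFinset} => a C.1 (hfin.mem_toFinset.mp C.2))
      (Finset.mem_attach _ ⟨C, hfin.mem_toFinset.mpr hC⟩)
  refine ⟨x, ξ, hξx, hxC, hξ, hcl, hoth, g, q * (X.presheaf.germ ⊤ (x : X) trivial).hom (Coh.toGlobal f (m * r)), hgm, ?_, hgu⟩
  rw [show m * P = a C hC * (m * r) by rw [hr]; ring, map_mul, map_mul, hq]
  ring

end Groth.Agent.S7336
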