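import Groth.Statements.S7339
import Groth.Agent.HypCoh70.Basic
import Groth.Agent.PicPn.Main
import Groth.Agent.HilbLoc.Normal
import Groth.Agent.PicLaw.Swap
import Groth.Agent.PicLaw.Calc
import Groth.Agent.PicLaw.Basic
import Groth.Agent.FormalFun.HomLift
import Groth.Agent.IdealSh.IdealMod
import Groth.Agent.ProjTwist.Zero
import Groth.Agent.CohLES.Basic
-- import your own Groth.Agent.* helpers here

set_option autoImplicit false
universe u
open CategoryTheory CategoryTheory.Limits AlgebraicGeometry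
open Resolve

namespace Groth.Agent.S7339

open CategoryTheory CategoryTheory.Limits AlgebraicGeometry

theorem hhIso {Z : Scheme.{u}} {M N : Z.Modules} (e : M ≅ N) (n : ℕ) (h : Subsingleton (Coh.HH Z M n)) :
    Subsingleton (Coh.HH Z N n) := by
  refine subsingleton_of_forall_eq 0 fun x => ?_
  have hx : Sheaf.H.map ((ModShf.toAbFunctor Z).map e.hom) n (Sheaf.H.map ((ModShf.toAbFunctor Z).map e.inv) n x) = x := by
    rw [← Sheaf.H.map_comp_apply, ← Functor.map_comp, e.inv_hom_id, CategoryTheory.Functor.map_id, Sheaf.H.map_id_apply]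
  rw [← hx, h.elim (Sheaf.H.map ((ModShf.toAbFunctor Z).map e.inv) n x) 0, map_zero]

theorem triv_descend {Z W : Scheme.{u}} (ψ : Z ⟶ W) [IsIso ψ] {N : W.Modules}
    (e : (Scheme.Modules.pullback ψ).obj N ≅ Coh.structureModule Z) : Nonempty (N ≅ Coh.structureModule W) :=
  ⟨(ProjTwist.tensOne N).symm ≪≫ ProjTwist.tensCongr (Iso.refl N) (asIso (ClSub.unitToPush ψ)) ≪≫
    EulerChar.tensQuotIso ψ N ≪≫ (Scheme.Modules.pushforward ψ).mapIso e ≪≫ (asIso (ClSub.unitToPush ψ)).symm⟩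

/-- Cohomological vanishing passes along an isomorphism. -/
theorem transfer {Z W : Scheme.{u}} (ψ : Z ⟶ W) [IsIso ψ] {N : W.Modules} (hN : PicF.IsInvertible N)
    {G : Z.Modules} (e : (Scheme.Modules.pullback ψ).obj N ≅ G) (i : ℕ) (h : Subsingleton (Coh.HH Z G i)) :
    Subsingleton (Coh.HH W N i) := by
  have hP := PicCl.isInvertible_pullback ψ hN
  haveI : Coh.IsQCoh ((Scheme.Modules.pullback ψ).obj N) :=
    ((ProjTwist.isFinLocFreeOfRank_one hP) |> VBLib.isCoh_of_ofRank).1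
  have h' := FormalFun.subsingleton_HH_push ψ ((Scheme.Modules.pullback ψ).obj N) i
    (hhIso e.symm i h)
  exact hhIso
    ((EulerChar.tensQuotIso ψ N).symm ≪≫
      ProjTwist.tensCongr (Iso.refl N) (asIso (ClSub.unitToPush ψ)).symm ≪≫ ProjTwist.tensOne N) i h'

/-- Inverses are unique. -/
theorem inverse_unique {Z : Scheme.{u}} {A B L : Z.Modules}
    (a : CohB1.tensorMod A L ≅ Coh.structureModule Z) (b : CohB1.tensorMod B L ≅ Coh.structureModule Z) :
    Nonempty (A ≅ B) :=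
  ⟨(ProjTwist.tensOne A).symm ≪≫ ProjTwist.tensCongr (Iso.refl A) (b.symm ≪≫ ProjTwist.tensComm B L) ≪≫
    (ProjTwist.tensAssoc A L B).symm ≪≫ ProjTwist.tensCongr a (Iso.refl B) ≪≫ ProjTwist.oneTens B⟩

theorem twist_mul (R : Type u) [CommRing R] (a b : ℤ) (h : a + b = 0) :
    Nonempty (CohB1.tensorMod (Twist.twistProjSpace 1 R a) (Twist.twistProjSpace 1 R b) ≅
      Coh.structureModule (CohB1.ProjSpace 1 R)) := by
  obtain ⟨t⟩ := ProjTwist.nonempty_twistProjSpace_tensor 1 R a b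
  exact ⟨t ≪≫ eqToIso (by rw [h]; rfl) ≪≫ (ProjTwist.twistZeroIso (𝒜 := CohB1.polyGrading 1 R)).symm⟩

theorem not_subsingleton {F : Type u} [Field F] (n : ℤ) (j : ℕ) (h : HypCoh70.ht 1 F n j ≠ 0) :
    ¬ Subsingleton (Coh.HH (CohB1.ProjSpace 1 F) (Twist.twistProjSpace 1 F n) j) :=
  fun _ => h Module.finrank_zero_of_subsingleton

/-- An isomorphism of projective lines respects `O(1)`. -/
theorem pullback_twist_one {k k' : Type u} [Field k] [Field k']
    (φ : CohB1.ProjSpace 1 k ⟶ CohB1.ProjSpace 1 k') [IsIso φ] :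
    Nonempty ((Scheme.Modules.pullback φ).obj (Twist.twistProjSpace 1 k' 1) ≅ Twist.twistProjSpace 1 k 1) := by
  have h1 := ProjTwist.isInvertible_twistProjSpace 1 k' 1
  obtain ⟨m, ⟨e⟩⟩ := PicPn.exists_iso_twist (PicCl.isInvertible_pullback φ h1)
  suffices m = 1 by subst this; exact ⟨e⟩
  rcases lt_trichotomy m 0 with hm | hm | hm
  · exfalso
    refine not_subsingleton (F := k') 1 0 ?_ (transfer φ h1 e 0
      (ProjTwist.Pn.subsingleton_H0 (n := 1) (R := k) (d := m) le_rfl hm))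
    rw [HypCoh70.ht_zero 1 k' le_rfl]
    decide
  · exfalso
    subst hm
    let z : Coh.structureModule (CohB1.ProjSpace 1 k') ≅ Twist.twistProjSpace 1 k' 0 :=
      ProjTwist.twistZeroIso (𝒜 := CohB1.polyGrading 1 k')
    let z' : Coh.structureModule (CohB1.ProjSpace 1 k) ≅ Twist.twistProjSpace 1 k 0 :=
      ProjTwist.twistZeroIso (𝒜 := CohB1.polyGrading 1 k)
    obtain ⟨w₀⟩ := triv_descend φ (e ≪≫ z'.symm)
    let w : Twist.twistProjSpace 1 k' 1 ≅ Twist.twistProjSpace 1 k' 0 := w₀ ≪≫ z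
    have hw := (CohLES.mapEquiv k' w 0).finrank_eq
    change HypCoh70.ht 1 k' 1 0 = HypCoh70.ht 1 k' 0 0 at hw
    rw [HypCoh70.ht_zero 1 k' le_rfl, HypCoh70.ht_zero 1 k' le_rfl] at hw
    revert hw
    decide
  · by_contra hm1
    obtain ⟨a⟩ := twist_mul k' (-1) 1 (by norm_num)
    obtain ⟨b⟩ := twist_mul k (-m) m (by ring)
    have hn := ProjTwist.isInvertible_twistProjSpace 1 k' (-1)
    obtain ⟨p⟩ := PicLaw.pullback_tensor φ hn h1
    obtain ⟨q⟩ := inverse_unique
      (ProjTwist.tensCongr (Iso.refl _) e.symm ≪≫ p.symm ≪≫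
        (Scheme.Modules.pullback φ).mapIso a ≪≫ QCoh.pullbackUnitIso φ) b
    let r : (Scheme.Modules.pullback (inv φ)).obj (Twist.twistProjSpace 1 k (-m)) ≅ Twist.twistProjSpace 1 k' (-1) :=
      (Scheme.Modules.pullback (inv φ)).mapIso q.symm ≪≫ (Scheme.Modules.pullbackComp (inv φ) φ).app _ ≪≫
        (Scheme.Modules.pullbackCongr (IsIso.inv_hom_id φ)).app _ ≪≫ (Scheme.Modules.pullbackId _).app _
    refine not_subsingleton (F := k) (-m) 1 ?_ (transfer (inv φ) (ProjTwist.isInvertible_twistProjSpace 1 k (-m)) r 1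
      (ProjTwist.Pn.subsingleton_twist (n := 1) (R := k') (-1) 0 (Or.inr (by norm_num))))
    rw [HypCoh70.ht_top 1 k le_rfl, Nat.choose_one_right]
    omega


/-- Let X be a Noetherian scheme, ι : E → X a closed immersion which is an exceptional curve of the
first kind, with ideal sheaf I and M = O_X(E) an inverse of I for the tensor product, and L an
invertible O_X-module whose pullback to E ≅ P^1_k (for some field k and isomorphism e : P^1_k ≅ E)
is isomorphic to O(n). If H^1(X, L) = 0 and n ≥ 0, then H^1(X, L(iE)) = 0 for 0 ≤ i ≤ n + 1, where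
L(iE) = L ⊗ M^{⊗ i}. (The published statement also asserts, for n ≤ 0, that H^1(X, L) → H^1(X, L(E))
is injective; this row states only the vanishing for n ≥ 0.) -/
theorem result {E X : Scheme.{u}} [IsNoetherian X] (ι : E ⟶ X) [IsClosedImmersion ι]
    (hE : Models.IsExcCurve ι) (M : X.Modules) (hM : ClSub.IsInverseOf M (ClSub.idealMod ι.ker))
    (L : X.Modules) (hL : PicF.IsInvertible L)
    (k : Type u) [Field k] (e : CohB1.ProjSpace 1 k ≅ E) (n : ℕ)
    (hn : Nonempty ((Scheme.Modules.pullback (e.hom ≫ ι)).obj L ≅ Twist.twistProjSpace 1 k (n : ℤ)))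
    (h1 : Subsingleton (Coh.HH X L 1)) (i : ℕ) (hi : i ≤ n + 1) :
    Subsingleton (Coh.HH X (CohB1.tensorMod L (CohB1.tensorPow M i)) 1) := by
  obtain ⟨hEC, k', _, e', ⟨c'⟩⟩ := hE
  let f : CohB1.ProjSpace 1 k ⟶ X := e.hom ≫ ι
  let I := ClSub.idealMod ι.ker
  have hI : PicF.IsInvertible I := IdealSh.IdealMod.isInvertible_of_isEffCartierIdeal _ hEC
  obtain ⟨eM⟩ := hM
  have hMi : PicF.IsInvertible M :=
    PicLaw.isInvertible_of_tensor_left hI
      (PicCl.isInvertible_of_iso (ProjTwist.tensComm M I) (PicCl.isInvertible_of_iso eM.symm (LFFrame.isInvertible_structureModule X)))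
  obtain ⟨p1⟩ := pullback_twist_one (e.hom ≫ e'.inv)
  let cI : (Scheme.Modules.pullback f).obj I ≅ Twist.twistProjSpace 1 k 1 :=
    (Scheme.Modules.pullbackCongr (show f = (e.hom ≫ e'.inv) ≫ (e'.hom ≫ ι) by simp [f])).app _ ≪≫
      ((Scheme.Modules.pullbackComp (e.hom ≫ e'.inv) (e'.hom ≫ ι)).app _).symm ≪≫
      (Scheme.Modules.pullback (e.hom ≫ e'.inv)).mapIso c' ≪≫ p1
  obtain ⟨pI⟩ := PicLaw.pullback_tensor f hMi hI
  obtain ⟨w⟩ := twist_mul k (-1) 1 (by norm_num)
  obtain ⟨cM⟩ := inverse_unique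
    (ProjTwist.tensCongr (Iso.refl _) cI.symm ≪≫ pI.symm ≪≫
      (Scheme.Modules.pullback f).mapIso eM ≪≫ QCoh.pullbackUnitIso f) w
  have hN : ∀ j : ℕ, PicF.IsInvertible (CohB1.tensorMod L (CohB1.tensorPow M j)) ∧
      Nonempty ((Scheme.Modules.pullback f).obj (CohB1.tensorMod L (CohB1.tensorPow M j)) ≅
        Twist.twistProjSpace 1 k ((n : ℤ) - j)) := by
    intro j
    induction j with
    | zero =>
      obtain ⟨c⟩ := hn
      exact ⟨PicCl.isInvertible_of_iso (ProjTwist.tensOne L).symm hL,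
        ⟨(Scheme.Modules.pullback f).mapIso (ProjTwist.tensOne L) ≪≫ c ≪≫ eqToIso (by simp)⟩⟩
    | succ j ih =>
      obtain ⟨hj, ⟨ej⟩⟩ := ih
      let α : CohB1.tensorMod L (CohB1.tensorPow M (j + 1)) ≅
          CohB1.tensorMod (CohB1.tensorMod L (CohB1.tensorPow M j)) M := (ProjTwist.tensAssoc _ _ _).symm
      obtain ⟨pj⟩ := PicLaw.pullback_tensor f hj hMi
      obtain ⟨t⟩ := ProjTwist.nonempty_twistProjSpace_tensor 1 k ((n : ℤ) - j) (-1)
      exact ⟨PicCl.isInvertible_of_iso α.symm (PicLaw.isInvertible_tensor hj hMi),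
        ⟨(Scheme.Modules.pullback f).mapIso α ≪≫ pj ≪≫ ProjTwist.tensCongr ej cM ≪≫ t ≪≫
          eqToIso (by push_cast; congr 1; ring)⟩⟩
  induction i with
  | zero => exact hhIso (ProjTwist.tensOne L).symm 1 h1
  | succ j ih =>
    have ihj := ih (by omega)
    obtain ⟨hN1, ⟨eN⟩⟩ := hN (j + 1)
    have hS := ProjTwist.shortExact_tensor hN1 (EulerChar.shortExact_ideal ι.ker)
    let N := CohB1.tensorMod L (CohB1.tensorPow M (j + 1))
    let a₁ : CohB1.tensorMod I N ≅ CohB1.tensorMod L (CohB1.tensorPow M j) :=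
      ProjTwist.tensComm _ _ ≪≫ ProjTwist.tensAssoc L (CohB1.tensorPow M (j + 1)) I ≪≫
        ProjTwist.tensCongr (Iso.refl L) (ProjTwist.tensAssoc (CohB1.tensorPow M j) M I ≪≫
          ProjTwist.tensCongr (Iso.refl _) eM ≪≫ ProjTwist.tensOne _)
    haveI : IsClosedImmersion f := inferInstanceAs (IsClosedImmersion (e.hom ≫ ι))
    have hk : f.ker = ι.ker := Scheme.Hom.ker_comp_of_isIso e.hom ι
    let a₃ : CohB1.tensorMod (ClSub.quotMod ι.ker) N ≅
        (Scheme.Modules.pushforward f).obj (Twist.twistProjSpace 1 k ((n : ℤ) - (j + 1 : ℕ))) :=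
      ProjTwist.tensCongr (eqToIso (by rw [hk]) ≪≫ HilbLoc.quotModIso f) (Iso.refl N) ≪≫ ProjTwist.tensComm _ _ ≪≫
        EulerChar.tensQuotIso f N ≪≫ (Scheme.Modules.pushforward f).mapIso eN
    haveI : Coh.IsQCoh (Twist.twistProjSpace 1 k ((n : ℤ) - (j + 1 : ℕ))) := (SerrePn.isCoh_twist _).1
    have h3 := FormalFun.subsingleton_HH_push f (Twist.twistProjSpace 1 k ((n : ℤ) - (j + 1 : ℕ))) 1
      (ProjTwist.Pn.subsingleton_twist (n := 1) (R := k) _ 0 (Or.inr (by push_cast; omega)))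
    have h3' := hhIso a₃.symm 1 h3
    have h1' := hhIso a₁.symm 1 ihj
    refine hhIso (ProjTwist.oneTens N) 1 ?_
    refine subsingleton_of_forall_eq 0 fun x => ?_
    obtain ⟨y, hy⟩ := CohLES.Ab.exact₂ (CohLES.shortExact_map hS) x (h3'.elim _ _)
    rw [← hy, h1'.elim y 0]
    exact map_zero _

end Groth.Agent.S7339
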