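import Groth.Statements.S7340
import Mathlib.RingTheory.AdjoinRoot
import Mathlib.Algebra.MvPolynomial.PDeriv
import Mathlib.Algebra.CharP.Lemmas
import Mathlib.RingTheory.Kaehler.Basic

set_option autoImplicit false
universe u
open Polynomial
open Resolve

namespace Groth.Agent.S7340

theorem chain {R S M : Type u} [CommRing R] [CommRing S] [Algebra R S] [AddCommGroup M] [Module S M]
    [Module R M] (D : Derivation R S M) (v : Fin 2 → S) (P : MvPolynomial (Fin 2) ℤ) :
    D (MvPolynomial.aeval v P) = ∑ i, MvPolynomial.aeval v (MvPolynomial.pderiv i P) • D (v i) := by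
  induction P using MvPolynomial.induction_on with
  | C n => simp
  | add P Q hP hQ => simp [map_add, hP, hQ, add_smul, Finset.sum_add_distrib]
  | mul_X P j hP =>
    rw [map_mul, MvPolynomial.aeval_X, Derivation.leibniz, hP, Finset.smul_sum]
    simp only [MvPolynomial.pderiv_mul, MvPolynomial.pderiv_X, map_add, map_mul, MvPolynomial.aeval_X,
      add_smul, Finset.sum_add_distrib, smul_smul]
    rw [add_comm]
    congr 1
    · exact Finset.sum_congr rfl fun i _ => by rw [mul_comm]
    · rw [Finset.sum_eq_single j (fun i _ hi => by simp [hi.symm]) (by simp)]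
      simp

theorem exists_exact {R S M : Type u} [CommRing R] [CommRing S] [Algebra R S] [AddCommGroup M]
    [Module S M] [Module R M] (D : Derivation R S M) (p : ℕ) [Fact p.Prime] (u v : S) :
    ∃ g : S, (u + v) ^ p = u ^ p + v ^ p + (p : S) * g ∧
      (u + v) ^ (p - 1) • D (u + v) = u ^ (p - 1) • D u + v ^ (p - 1) • D v + D g := by
  have hp : p.Prime := Fact.out
  obtain ⟨r, hr⟩ := exists_add_pow_prime_eq hp (MvPolynomial.X 0 : MvPolynomial (Fin 2) ℤ) (MvPolynomial.X 1)
  set G := (MvPolynomial.X 0 : MvPolynomial (Fin 2) ℤ) * MvPolynomial.X 1 * r with hG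
  have hr' : ((MvPolynomial.X 0 : MvPolynomial (Fin 2) ℤ) + MvPolynomial.X 1) ^ p =
      MvPolynomial.X 0 ^ p + MvPolynomial.X 1 ^ p + (p : MvPolynomial (Fin 2) ℤ) * G := by rw [hr, hG]; ring
  have hpd : ∀ i, ((MvPolynomial.X 0 : MvPolynomial (Fin 2) ℤ) + MvPolynomial.X 1) ^ (p - 1) =
      MvPolynomial.X i ^ (p - 1) + MvPolynomial.pderiv i G := by
    intro i
    refine mul_left_cancel₀ (a := (p : MvPolynomial (Fin 2) ℤ)) (by rw [← map_natCast (MvPolynomial.C : ℤ →+* MvPolynomial (Fin 2) ℤ)]; rw [Ne, MvPolynomial.C_eq_zero]; exact_mod_cast hp.ne_zero) ?_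
    have := congrArg (MvPolynomial.pderiv i) hr'
    fin_cases i <;>
    · simp [MvPolynomial.pderiv_X, Derivation.leibniz_pow, Derivation.leibniz] at this
      simpa [mul_add] using this
  refine ⟨MvPolynomial.aeval ![u, v] G, ?_, ?_⟩
  · simpa using congrArg (MvPolynomial.aeval ![u, v]) hr'
  · have h0 := congrArg (MvPolynomial.aeval ![u, v]) (hpd 0)
    have h1 := congrArg (MvPolynomial.aeval ![u, v]) (hpd 1)
    simp at h0 h1
    rw [chain D, Fin.sum_univ_two, map_add, smul_add]
    nth_rw 1 [h0]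
    rw [h1]
    simp [add_smul]
    abel


/-- Let p be a prime number and R an F_p-algebra, a, b ∈ R, S_a = R[x]/(x^p - a) and S_b = R[y]/(y^p -
b). The trace Tr_x : Ω_{S_a/R} → Ω_R is the R-linear map with x^i dx ↦ 0 for 0 ≤ i ≤ p - 2 and
x^{p-1} dx ↦ da (these determine it, Ω_{S_a/R} being free over R on the x^i dx), and similarly Tr_y.
Then for every R-algebra homomorphism φ : S_a → S_b one has Tr_x = Tr_y ∘ φ_*: for all s, t ∈ S_a,
Tr_x(s dt) = Tr_y(φ(s) dφ(t)). Here Ω_R is the module of absolute differentials Ω_{R/Z}. -/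
theorem result (p : ℕ) [Fact p.Prime] (R : Type u) [CommRing R] [CharP R p] (a b : R)
    (φ : AdjoinRoot (X ^ p - C a : R[X]) →ₐ[R] AdjoinRoot (X ^ p - C b : R[X]))
    (Tx : Ω[AdjoinRoot (X ^ p - C a : R[X])⁄R] →ₗ[R] Ω[R⁄ℤ])
    (Ty : Ω[AdjoinRoot (X ^ p - C b : R[X])⁄R] →ₗ[R] Ω[R⁄ℤ])
    (hTx : ∀ i : ℕ, i + 2 ≤ p →
      Tx (AdjoinRoot.root (X ^ p - C a) ^ i • KaehlerDifferential.D R _ (AdjoinRoot.root (X ^ p - C a))) = 0)
    (hTx' : Tx (AdjoinRoot.root (X ^ p - C a) ^ (p - 1) • KaehlerDifferential.D R _ (AdjoinRoot.root (X ^ p - C a))) =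
      KaehlerDifferential.D ℤ R a)
    (hTy : ∀ i : ℕ, i + 2 ≤ p →
      Ty (AdjoinRoot.root (X ^ p - C b) ^ i • KaehlerDifferential.D R _ (AdjoinRoot.root (X ^ p - C b))) = 0)
    (hTy' : Ty (AdjoinRoot.root (X ^ p - C b) ^ (p - 1) • KaehlerDifferential.D R _ (AdjoinRoot.root (X ^ p - C b))) =
      KaehlerDifferential.D ℤ R b)
    (s t : AdjoinRoot (X ^ p - C a : R[X])) :
    Tx (s • KaehlerDifferential.D R _ t) = Ty (φ s • KaehlerDifferential.D R _ (φ t)) := by
  classical
  have hp : p.Prime := Fact.out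
  have hp2 := hp.two_le
  let y := AdjoinRoot.root (X ^ p - C b : R[X])
  let x := AdjoinRoot.root (X ^ p - C a : R[X])
  let Db := KaehlerDifferential.D R (AdjoinRoot (X ^ p - C b : R[X]))
  let Da := KaehlerDifferential.D R (AdjoinRoot (X ^ p - C a : R[X]))
  let w := φ x
  have hroot : ∀ c : R, AdjoinRoot.root (X ^ p - C c : R[X]) ^ p =
      algebraMap R (AdjoinRoot (X ^ p - C c : R[X])) c := fun c => by
    have := AdjoinRoot.eval₂_root (X ^ p - C c : R[X])
    rw [eval₂_sub, eval₂_X_pow, eval₂_C, sub_eq_zero] at this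
    exact this
  have hdm : ∀ (c : R) (m : ℕ), AdjoinRoot.root (X ^ p - C c : R[X]) ^ m =
      c ^ (m / p) • AdjoinRoot.root (X ^ p - C c : R[X]) ^ (m % p) := fun c m => by
    rw [Algebra.smul_def, map_pow, ← hroot, ← pow_mul, ← pow_add, Nat.div_add_mod]
  have hgen : ∀ (c : R) (z : AdjoinRoot (X ^ p - C c : R[X])),
      ∃ P : R[X], Polynomial.aeval (AdjoinRoot.root (X ^ p - C c : R[X])) P = z := fun c z => by
    obtain ⟨P, rfl⟩ := AdjoinRoot.mk_surjective z
    exact ⟨P, AdjoinRoot.aeval_eq P⟩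
  have hexact : ∀ z, Ty (Db z) = 0 := by
    intro z
    obtain ⟨P, rfl⟩ := hgen b z
    induction P using Polynomial.induction_on' with
    | add P Q hP hQ => rw [map_add, map_add, map_add, hP, hQ, add_zero]
    | monomial m c =>
      rw [Polynomial.aeval_monomial, ← Algebra.smul_def, hdm, smul_smul, Derivation.map_smul, map_smul,
        Derivation.leibniz_pow, map_nsmul]
      rcases Nat.eq_zero_or_pos (m % p) with h | h
      · simp [h]
      · rw [hTy _ (by have := Nat.mod_lt m hp.pos; omega)]; simp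
  have hTheta : ∀ z, ∃ r : R, z ^ p = algebraMap R _ r ∧
      Ty (z ^ (p - 1) • Db z) = KaehlerDifferential.D ℤ R r := by
    intro z
    obtain ⟨P, rfl⟩ := hgen b z
    induction P using Polynomial.induction_on' with
    | add P Q hP hQ =>
      obtain ⟨r, hr, hr'⟩ := hP
      obtain ⟨s, hs, hs'⟩ := hQ
      obtain ⟨g, hg, hg'⟩ := exists_exact Db p (Polynomial.aeval y P) (Polynomial.aeval y Q)
      refine ⟨r + s, ?_, ?_⟩
      · rw [map_add, hg, hr, hs, ← map_natCast (algebraMap R (AdjoinRoot (X ^ p - C b : R[X]))),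
          CharP.cast_eq_zero, map_zero, zero_mul, add_zero, map_add]
      · rw [map_add, hg', map_add, map_add, hr', hs', hexact, add_zero, map_add]
    | monomial m c =>
      refine ⟨c ^ p * b ^ m, ?_, ?_⟩
      · rw [Polynomial.aeval_monomial, mul_pow, ← pow_mul, mul_comm m, pow_mul, hroot,
          map_mul, map_pow, map_pow]
      · have hcp : KaehlerDifferential.D ℤ R (c ^ p) = 0 := by
          rw [Derivation.leibniz_pow, ← Nat.cast_smul_eq_nsmul R, CharP.cast_eq_zero, zero_smul]
        rw [Polynomial.aeval_monomial, ← Algebra.smul_def, smul_pow, Derivation.map_smul,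
          Derivation.leibniz, hcp, smul_zero, add_zero, Derivation.leibniz_pow, Derivation.leibniz_pow]
        rcases Nat.eq_zero_or_pos m with rfl | hm
        · simp
        have e : (y ^ m) ^ (p - 1) * y ^ (m - 1) = b ^ (m - 1) • y ^ (p - 1) := by
          rw [Algebra.smul_def, map_pow, ← hroot, ← pow_mul, ← pow_mul, ← pow_add, ← pow_add]
          congr 1
          obtain ⟨m, rfl⟩ : ∃ q, m = q + 1 := ⟨m - 1, by omega⟩
          obtain ⟨q, rfl⟩ : ∃ q, p = q + 1 := ⟨p - 1, by omega⟩
          simp only [Nat.add_sub_cancel]; ring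
        have hc : c ^ (p - 1) * c = c ^ p := by rw [← pow_succ, Nat.sub_add_cancel hp.one_le]
        have e2 : (c ^ (p - 1) • (y ^ m) ^ (p - 1)) • (c • (m • (y ^ (m - 1) • Db y))) =
            (c ^ p * (m : R) * b ^ (m - 1)) • (y ^ (p - 1) • Db y) := by
          rw [← hc, ← Nat.cast_smul_eq_nsmul R m]
          simp only [← algebraMap_smul (R := R) (AdjoinRoot (X ^ p - C b : R[X])), smul_eq_mul, smul_smul]
          congr 1
          rw [Algebra.smul_def] at e
          simp only [map_mul, map_natCast]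
          linear_combination (algebraMap R _ (c ^ (p - 1)) * algebraMap R _ c * (m : AdjoinRoot (X ^ p - C b : R[X]))) * e
        rw [e2, map_smul, hTy', ← Nat.cast_smul_eq_nsmul R, smul_smul, smul_smul]
  have hinj : ∀ r : R, algebraMap R (AdjoinRoot (X ^ p - C b : R[X])) r = 0 → r = 0 := by
    intro r hr
    have hm : (X ^ p - C b : R[X]).Monic := monic_X_pow_sub_C b hp.ne_zero
    haveI : Nontrivial R := CharP.nontrivial_of_char_ne_one hp.ne_one
    have hdvd : (X ^ p - C b : R[X]) ∣ C r := AdjoinRoot.mk_eq_zero.1 hr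
    have hdeg : (C r).degree < (X ^ p - C b : R[X]).degree := by
      rw [degree_X_pow_sub_C hp.pos]
      exact lt_of_le_of_lt degree_C_le (by exact_mod_cast hp.pos)
    have h1 := (modByMonic_eq_zero_iff_dvd hm).2 hdvd
    rw [(modByMonic_eq_self_iff hm).2 hdeg] at h1
    exact C_eq_zero.1 h1
  have hw : w ^ p = algebraMap R _ a := by rw [← map_pow, hroot, AlgHom.commutes]
  have hbase : ∀ i, i < p → Ty (w ^ i • Db w) = Tx (x ^ i • Da x) := by
    intro i hi
    by_cases h : i + 2 ≤ p
    · rw [hTx i h]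
      have hu : IsUnit ((i + 1 : ℕ) : R) := by
        have : IsUnit ((i + 1 : ℕ) : ZMod p) := (ZMod.isUnit_iff_coprime _ _).2
          ((hp.coprime_iff_not_dvd.2 fun h0 => absurd (Nat.le_of_dvd (by omega) h0) (by omega)).symm)
        simpa using this.map (ZMod.castHom (dvd_refl p) R)
      have := hexact (w ^ (i + 1))
      rw [Derivation.leibniz_pow, ← Nat.cast_smul_eq_nsmul R, map_smul, Nat.add_sub_cancel] at this
      exact (hu.smul_eq_zero).1 this
    · obtain rfl : i = p - 1 := by omega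
      rw [hTx']
      obtain ⟨r, hr, hr'⟩ := hTheta w
      rw [hr', sub_eq_zero.1 (hinj (r - a) (by rw [map_sub, ← hr, hw, sub_self]))]
  have hlin : ∀ s, Ty (φ s • Db w) = Tx (s • Da x) := by
    intro s
    obtain ⟨P, rfl⟩ := hgen a s
    induction P using Polynomial.induction_on' with
    | add P Q hP hQ => simp only [map_add, add_smul, hP, hQ]
    | monomial m c =>
      rw [Polynomial.aeval_monomial, ← Algebra.smul_def, hdm, smul_smul]
      simp only [map_smul, map_pow, smul_assoc]
      rw [hbase _ (Nat.mod_lt m hp.pos)]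
  obtain ⟨P, rfl⟩ := hgen a t
  show Tx (s • Da (Polynomial.aeval x P)) = Ty (φ s • Db (φ (Polynomial.aeval x P)))
  rw [← Polynomial.aeval_algHom_apply φ x P, Derivation.map_aeval, Derivation.map_aeval, smul_smul, smul_smul,
    Polynomial.aeval_algHom_apply φ x, ← map_mul, hlin]

end Groth.Agent.S7340
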