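import Groth.Statements.S7341
import Groth.Agent.NumType.SubApp

set_option autoImplicit false
open Finset
open Models Models.NumericalType

namespace Groth.Agent.S7341

/-- Classification of proper subgraphs which are chains of three vertices: let T be a numerical type on
n > 3 indices and i, j, k distinct (-2)-indices with a_ij > 0 and a_jk > 0. Then a_ik = 0 and, up to
reversing the order of i, j, k, one of the following holds for some integer w: (A3) w_i = w_j = w_k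
= w, a_ij = a_jk = w, with 2 m_i ≥ m_j, 2 m_j ≥ m_i + m_k, 2 m_k ≥ m_j; (C3) w_i = w_j = w, w_k =
2w, a_ij = w, a_jk = 2w, with 2 m_i ≥ m_j, 2 m_j ≥ m_i + 2 m_k, 2 m_k ≥ m_j; (B3) w_i = w_j = 2w,
w_k = w, a_ij = a_jk = 2w, with 2 m_i ≥ m_j, 2 m_j ≥ m_i + m_k, m_k ≥ m_j. -/
theorem result {n : ℕ} (T : Models.NumericalType n) (hn : 3 < n) (i j k : Fin n)
    (hij : i ≠ j) (hjk : j ≠ k) (hik : i ≠ k) (hi : T.IsMinusTwo i) (hj : T.IsMinusTwo j) (hk : T.IsMinusTwo k)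
    (h1 : 0 < T.a i j) (h2 : 0 < T.a j k) :
    T.a i k = 0 ∧ ∃ (i' k' : Fin n) (w : ℤ), ((i' = i ∧ k' = k) ∨ (i' = k ∧ k' = i)) ∧
      ((T.w i' = w ∧ T.w j = w ∧ T.w k' = w ∧ T.a i' j = w ∧ T.a j k' = w ∧
          T.m j ≤ 2 * T.m i' ∧ T.m i' + T.m k' ≤ 2 * T.m j ∧ T.m j ≤ 2 * T.m k') ∨
        (T.w i' = w ∧ T.w j = w ∧ T.w k' = 2 * w ∧ T.a i' j = w ∧ T.a j k' = 2 * w ∧
          T.m j ≤ 2 * T.m i' ∧ T.m i' + 2 * T.m k' ≤ 2 * T.m j ∧ T.m j ≤ 2 * T.m k') ∨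
        (T.w i' = 2 * w ∧ T.w j = 2 * w ∧ T.w k' = w ∧ T.a i' j = 2 * w ∧ T.a j k' = 2 * w ∧
          T.m j ≤ 2 * T.m i' ∧ T.m i' + T.m k' ≤ 2 * T.m j ∧ T.m j ≤ T.m k')) := by
  classical
  have hp : NumType.IsPath T (NumType.ext (![i, j, k] : Fin 3 → Fin n)) 2 := by
    refine NumType.isPath_ext (k := 2) _ ?_ (fun p => by fin_cases p <;> assumption) fun p => ?_
    · intro p q h
      fin_cases p <;> fin_cases q <;> simp_all
    · fin_cases p
      · exact h1.ne'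
      · exact h2.ne'
  have hz : T.a i k = 0 := by
    have := NumType.no_chord hp (i := 0) (j := 2) le_rfl le_rfl (by omega)
    rwa [NumType.ext_eq _ (by omega), NumType.ext_eq _ (by omega)] at this
  refine ⟨hz, ?_⟩
  have hs := NumType.two_le_three hik hi hj hk h1 h2 hn
  have p1 := NumType.one_le_P T h1
  have p2 := NumType.one_le_P T h2
  have key : ∀ i k : Fin n, i ≠ j → j ≠ k → i ≠ k → T.IsMinusTwo i → T.IsMinusTwo k → 0 < T.a i j → 0 < T.a j k →
      NumType.P T i j = 1 → ∃ w : ℤ,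
      ((T.w i = w ∧ T.w j = w ∧ T.w k = w ∧ T.a i j = w ∧ T.a j k = w ∧
          T.m j ≤ 2 * T.m i ∧ T.m i + T.m k ≤ 2 * T.m j ∧ T.m j ≤ 2 * T.m k) ∨
        (T.w i = w ∧ T.w j = w ∧ T.w k = 2 * w ∧ T.a i j = w ∧ T.a j k = 2 * w ∧
          T.m j ≤ 2 * T.m i ∧ T.m i + 2 * T.m k ≤ 2 * T.m j ∧ T.m j ≤ 2 * T.m k) ∨
        (T.w i = 2 * w ∧ T.w j = 2 * w ∧ T.w k = w ∧ T.a i j = 2 * w ∧ T.a j k = 2 * w ∧
          T.m j ≤ 2 * T.m i ∧ T.m i + T.m k ≤ 2 * T.m j ∧ T.m j ≤ T.m k)) := by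
    intro i k hij hjk hik hi hk h1 h2 hP
    obtain ⟨e, e'⟩ := NumType.P_eq_one T h1 hP
    have i1 : T.m j ≤ 2 * T.m i := by
      simpa using NumType.m_ineq1 T hi (k := 1) hij.symm (by rw [e, one_mul])
    have hle := NumType.two_le_three hik hi hj hk h1 h2 hn
    have := NumType.one_le_P T h2
    rcases (show NumType.P T j k = 1 ∨ NumType.P T j k = 2 by omega) with q | q
    · obtain ⟨f, f'⟩ := NumType.P_eq_one T h2 q
      refine ⟨T.w i, Or.inl ⟨rfl, e', by rw [f', e'], e, by rw [f, e'], i1, ?_, ?_⟩⟩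
      · have := NumType.m_ineq2 T hj (k := 1) (k' := 1) hij hjk.symm hik (by rw [NumType.a_symm, e, e', one_mul])
          (by rw [f, one_mul])
        linarith
      · simpa using NumType.m_ineq1 T hk (k := 1) hjk (by rw [NumType.a_symm, f, f', one_mul])
    · rcases NumType.P_eq_two T h2 q with ⟨-, -, f, f'⟩ | ⟨-, -, f, f'⟩
      · refine ⟨T.w i, Or.inr (Or.inl ⟨rfl, e', by rw [f', e'], e, by rw [f, f', e'], i1, ?_, ?_⟩)⟩
        · have := NumType.m_ineq2 T hj (k := 1) (k' := 2) hij hjk.symm hik (by rw [NumType.a_symm, e, e', one_mul])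
            (by rw [f, f'])
          linarith
        · simpa using NumType.m_ineq1 T hk (k := 1) hjk (by rw [NumType.a_symm, f, one_mul])
      · refine ⟨T.w k, Or.inr (Or.inr ⟨by rw [← e', f'], f', rfl, by rw [e, ← e', f'], by rw [f, f'], i1, ?_, ?_⟩)⟩
        · have := NumType.m_ineq2 T hj (k := 1) (k' := 1) hij hjk.symm hik (by rw [NumType.a_symm, e, e', one_mul])
            (by rw [f, one_mul])
          linarith
        · have := NumType.m_ineq1 T hk (k := 2) hjk (by rw [NumType.a_symm, f, f'])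
          linarith
  rcases (show NumType.P T i j = 1 ∨ NumType.P T j k = 1 by omega) with h | h
  · obtain ⟨w, hw⟩ := key i k hij hjk hik hi hk h1 h2 h
    exact ⟨i, k, w, Or.inl ⟨rfl, rfl⟩, hw⟩
  · obtain ⟨w, hw⟩ := key k i hjk.symm hij.symm hik.symm hk hi (NumType.a_symm T j k ▸ h2)
      (NumType.a_symm T i j ▸ h1) (by rw [NumType.P_comm]; exact h)
    exact ⟨k, i, w, Or.inr ⟨rfl, rfl⟩, hw⟩

end Groth.Agent.S7341
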