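import Groth.Statements.S7342
import Groth.Agent.NumType.SubApp

set_option autoImplicit false
open Finset
open Models Models.NumericalType

namespace Groth.Agent.S7342

/-- Let T be a numerical type on n indices, t ≥ 4 and n > t + 2. Then no t + 2 (-2)-indices of T,
pairwise distinct and numbered i_0, …, i_{t+1}, satisfy: a_{i_j i_{j+1}} > 0 for 1 ≤ j ≤ t - 1,
a_{i_0 i_2} > 0 and a_{i_{t-1} i_{t+1}} > 0. -/
theorem result {n : ℕ} (T : Models.NumericalType n) (t : ℕ) (ht : 4 ≤ t) (hn : t + 2 < n)
    (v : Fin (t + 2) ↪ Fin n) (hv : ∀ j, T.IsMinusTwo (v j))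
    (hchain : ∀ j j' : Fin (t + 2), 1 ≤ j.val → j.val + 1 ≤ t → j'.val = j.val + 1 → 0 < T.a (v j) (v j'))
    (h02 : ∀ j j' : Fin (t + 2), j.val = 0 → j'.val = 2 → 0 < T.a (v j) (v j'))
    (hlast : ∀ j j' : Fin (t + 2), j.val = t - 1 → j'.val = t + 1 → 0 < T.a (v j) (v j')) : False := by
  classical
  obtain ⟨s, rfl⟩ : ∃ s, t = s + 3 := ⟨t - 3, by omega⟩
  let p : ℕ → Fin (s + 3 + 2) := fun k => if h : k < s + 3 + 2 then ⟨k, h⟩ else 0
  have hp : ∀ k < s + 3 + 2, (p k).val = k := fun k hk => by simp [p, hk]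
  have hne : ∀ i j : ℕ, i < s + 3 + 2 → j < s + 3 + 2 → i ≠ j → v (p i) ≠ v (p j) := fun i j hi hj h he => by
    have := congrArg Fin.val (v.injective he)
    rw [hp i hi, hp j hj] at this
    exact h this
  have adj : ∀ i, 1 ≤ i → i + 1 ≤ s + 3 → 0 < T.a (v (p i)) (v (p (i + 1))) := fun i h1 h2 =>
    hchain _ _ (by rw [hp i (by omega)]; exact h1) (by rw [hp i (by omega)]; omega)
      (by rw [hp i (by omega), hp (i + 1) (by omega)])
  have hpath : NumType.IsPath T (fun k => v (p (2 + k))) s := by
    refine ⟨fun i _ => hv _, fun i hi j hj he => ?_, fun i hi => by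
      simpa [Nat.add_assoc] using adj (2 + i) (by omega) (by omega)⟩
    by_contra h
    exact hne (2 + i) (2 + j) (by omega) (by omega) (by omega) he
  have off : ∀ k, k < s + 3 + 2 → (k < 2 ∨ 2 + s < k) → v (p k) ∉ NumType.verts (fun k => v (p (2 + k))) s := by
    intro k hk ho he
    obtain ⟨i, hi, e⟩ := NumType.mem_verts.1 he
    exact hne (2 + i) k (by omega) hk (by omega) e
  have a02 : 0 < T.a (v (p 0)) (v (p 2)) := h02 _ _ (hp 0 (by omega)) (hp 2 (by omega))
  have al : 0 < T.a (v (p (2 + s))) (v (p (s + 4))) := hlast _ _ (by rw [hp _ (by omega)]; omega) (by rw [hp _ (by omega)])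
  have h0 : NumType.IsLeaves T (v (p (2 + 0))) (NumType.verts (fun k => v (p (2 + k))) s) {v (p 0), v (p 1)} := by
    refine ⟨fun x hx => ?_, fun x hx => ?_, fun x hx => ?_⟩ <;>
      simp only [mem_insert, mem_singleton] at hx <;> rcases hx with rfl | rfl
    · exact hv _
    · exact hv _
    · exact a02
    · exact adj 1 le_rfl (by omega)
    · exact off 0 (by omega) (by omega)
    · exact off 1 (by omega) (by omega)
  have h1 : NumType.IsLeaves T (v (p (2 + s))) (NumType.verts (fun k => v (p (2 + k))) s) {v (p (s + 3)), v (p (s + 4))} := by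
    refine ⟨fun x hx => ?_, fun x hx => ?_, fun x hx => ?_⟩ <;>
      simp only [mem_insert, mem_singleton] at hx <;> rcases hx with rfl | rfl
    · exact hv _
    · exact hv _
    · rw [NumType.a_symm]
      have := adj (2 + s) (by omega) (by omega)
      rwa [show 2 + s + 1 = s + 3 by omega] at this
    · rwa [NumType.a_symm]
    · exact off _ (by omega) (by omega)
    · exact off _ (by omega) (by omega)
  have sum2 : ∀ (u x y : Fin n), x ≠ y → 0 < T.a x u → 0 < T.a y u → 2 ≤ NumType.sumP T u {x, y} := by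
    intro u x y h hx hy
    rw [NumType.sumP, sum_pair h]
    have := NumType.one_le_P T hx
    have := NumType.one_le_P T hy
    have := NumType.P_comm T u x
    have := NumType.P_comm T u y
    linarith
  have n01 := hne 0 1 (by omega) (by omega) (by omega)
  have n34 := hne (s + 3) (s + 4) (by omega) (by omega) (by omega)
  have s0 := sum2 _ _ _ n01 (h0.adj _ (mem_insert_self _ _)) (h0.adj _ (mem_insert_of_mem (mem_singleton_self _)))
  have s1 := sum2 _ _ _ n34 (h1.adj _ (mem_insert_self _ _)) (h1.adj _ (mem_insert_of_mem (mem_singleton_self _)))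
  have hd : Disjoint ({v (p 0), v (p 1)} : Finset (Fin n)) {v (p (s + 3)), v (p (s + 4))} := by
    simp [hne 0 (s+3) (by omega) (by omega) (by omega), hne 1 (s+3) (by omega) (by omega) (by omega),
      hne 0 (s+4) (by omega) (by omega) (by omega), hne 1 (s+4) (by omega) (by omega) (by omega),
      (hne 0 (s+3) (by omega) (by omega) (by omega)).symm, (hne 1 (s+3) (by omega) (by omega) (by omega)).symm,
      (hne 0 (s+4) (by omega) (by omega) (by omega)).symm, (hne 1 (s+4) (by omega) (by omega) (by omega)).symm]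
  have hf := NumType.ends hpath h0 h1 hd (fun _ => by linarith) (fun _ => ⟨s0, s1⟩)
  have := hf.card_le hpath
  rw [card_pair n01, card_pair n34] at this
  omega

end Groth.Agent.S7342
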