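import Groth.Statements.S7346
import Groth.Agent.NumType.SubApp

set_option autoImplicit false
open Finset
open Models Models.NumericalType

namespace Groth.Agent.S7346

/-- Classification of proper subgraphs of type D4 (one vertex joined to three others): let T be a
numerical type on n > 4 indices and i_1, …, i_4 distinct (-2)-indices with a_{12}, a_{13}, a_{14}
nonzero. Then for some integer w all w_{i_j} equal w, these intersection numbers equal w, all other
a_{i_j i_k} (j ≠ k) vanish, and 2 m_1 ≥ m_2 + m_3 + m_4, 2 m_2 ≥ m_1, 2 m_3 ≥ m_1, 2 m_4 ≥ m_1. -/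
theorem result {n : ℕ} (T : Models.NumericalType n) (hn : 4 < n)
    (v : Fin 4 ↪ Fin n) (hv : ∀ j, T.IsMinusTwo (v j)) (h01 : T.a (v 0) (v 1) ≠ 0) (h02 : T.a (v 0) (v 2) ≠ 0) (h03 : T.a (v 0) (v 3) ≠ 0) :
    ∃ w : ℤ, (∀ j : Fin 4, T.w (v j) = w) ∧
      T.a (v 0) (v 1) = w ∧
      T.a (v 0) (v 2) = w ∧
      T.a (v 0) (v 3) = w ∧
      T.a (v 1) (v 2) = 0 ∧
      T.a (v 1) (v 3) = 0 ∧
      T.a (v 2) (v 3) = 0 ∧
      T.m (v 1) + T.m (v 2) + T.m (v 3) ≤ 2 * T.m (v 0) ∧
      T.m (v 0) ≤ 2 * T.m (v 1) ∧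
      T.m (v 0) ≤ 2 * T.m (v 2) ∧
      T.m (v 0) ≤ 2 * T.m (v 3) := by
  have hp : NumType.IsPath T (NumType.ext (v ∘ ![1, 0, 2])) 2 := by
    refine NumType.isPath_ext (k := 2) _ (v.injective.comp (by decide)) (fun j => hv _) fun i => ?_
    fin_cases i <;> first | assumption | (rw [NumType.a_symm]; assumption)
  have hne : ∀ {p q : Fin 4}, p ≠ q → v p ≠ v q := fun h he => h (v.injective he)
  have hu' : ∀ k ≤ 2, NumType.ext (v ∘ ![1, 0, 2]) k ≠ v 3 := fun k hk => by
    rw [NumType.ext_eq _ hk]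
    interval_cases k <;> exact hne (by simp +decide)
  obtain ⟨hw, ha, hau, hz, hzu⟩ := NumType.branch hp (b := 1) (by omega) (by omega) (hv 3) hu'
    (NumType.a_pos T (hu' 1 (by omega)) (by rw [NumType.ext_eq _ (by omega)]; assumption)) (by omega)
  have w1 : T.w (v 1) = T.w (v 3) := by have := hw 0 (by omega); rwa [NumType.ext_eq _ (by omega)] at this
  have w0 : T.w (v 0) = T.w (v 3) := by have := hw 1 (by omega); rwa [NumType.ext_eq _ (by omega)] at this
  have w2 : T.w (v 2) = T.w (v 3) := by have := hw 2 (by omega); rwa [NumType.ext_eq _ (by omega)] at this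
  have e10 : T.a (v 1) (v 0) = T.w (v 3) := by have := ha 0 (by omega); rwa [NumType.ext_eq _ (by omega), NumType.ext_eq _ (by omega)] at this
  have e01 : T.a (v 0) (v 1) = T.w (v 3) := (NumType.a_symm T _ _).trans e10
  have e02 : T.a (v 0) (v 2) = T.w (v 3) := by have := ha 1 (by omega); rwa [NumType.ext_eq _ (by omega), NumType.ext_eq _ (by omega)] at this
  have e20 : T.a (v 2) (v 0) = T.w (v 3) := (NumType.a_symm T _ _).trans e02
  have e03 : T.a (v 0) (v 3) = T.w (v 3) := by rwa [NumType.ext_eq _ (by omega)] at hau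
  have e30 : T.a (v 3) (v 0) = T.w (v 3) := (NumType.a_symm T _ _).trans e03
  have z12 : T.a (v 1) (v 2) = 0 := (by have := hz 0 2 (by omega) (by omega); rwa [NumType.ext_eq _ (by omega), NumType.ext_eq _ (by omega)] at this : T.a (v 1) (v 2) = 0)
  have z13 : T.a (v 1) (v 3) = 0 := (by have := hzu 0 (by omega) (by omega); rwa [NumType.ext_eq _ (by omega)] at this : T.a (v 1) (v 3) = 0)
  have z23 : T.a (v 2) (v 3) = 0 := (by have := hzu 2 (by omega) (by omega); rwa [NumType.ext_eq _ (by omega)] at this : T.a (v 2) (v 3) = 0)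
  have i0 : T.m (v 1) + T.m (v 2) + T.m (v 3) ≤ 2 * T.m (v 0) := NumType.m_ineq3 T (hv 0) (hne (by decide)) (hne (by decide)) (hne (by decide)) (hne (by decide)) (hne (by decide)) (hne (by decide)) (e01.trans w0.symm) (e02.trans w0.symm) (e03.trans w0.symm)
  have i1 : T.m (v 0) ≤ 2 * T.m (v 1) := by have := NumType.m_ineq1 T (hv 1) (k := 1) (j := v 0) (hne (by decide)) (by rw [one_mul]; exact e10.trans w1.symm); linarith
  have i2 : T.m (v 0) ≤ 2 * T.m (v 2) := by have := NumType.m_ineq1 T (hv 2) (k := 1) (j := v 0) (hne (by decide)) (by rw [one_mul]; exact e20.trans w2.symm); linarith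
  have i3 : T.m (v 0) ≤ 2 * T.m (v 3) := by have := NumType.m_ineq1 T (hv 3) (k := 1) (j := v 0) (hne (by decide)) (by rw [one_mul]; exact e30.trans rfl); linarith
  refine ⟨T.w (v 3), ?_⟩
  refine ⟨fun j => ?_, ?_⟩
  · fin_cases j <;> first | rfl | assumption
  · repeat' constructor
    all_goals first | assumption | linarith

end Groth.Agent.S7346
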