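import Groth.Statements.S7348
import Groth.Agent.NumType.SubApp

set_option autoImplicit false
open Finset
open Models Models.NumericalType

namespace Groth.Agent.S7348

/-- Classification of proper subgraphs of type E6 (a chain i_1 … i_5 with i_6 joined to i_3): let T be a
numerical type on n > 6 indices and i_1, …, i_6 distinct (-2)-indices with a_{12}, a_{23}, a_{34},
a_{45}, a_{36} nonzero. Then for some integer w all w_{i_j} equal w, these intersection numbers
equal w, all other a_{i_j i_k} (j ≠ k) vanish, and 2 m_1 ≥ m_2, 2 m_2 ≥ m_1 + m_3, 2 m_3 ≥ m_2 + m_4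
+ m_6, 2 m_4 ≥ m_3 + m_5, 2 m_5 ≥ m_4, 2 m_6 ≥ m_3. (The published list of inequalities has 2 m_5 ≥
m_3 where the intersection matrix gives 2 m_5 ≥ m_4; the former fails for the extended E8
configuration of multiplicities 4, 5, 6, 4, 2 with 3 attached to the third vertex, so 2 m_5 ≥ m_4 is
stated.) -/
theorem result {n : ℕ} (T : Models.NumericalType n) (hn : 6 < n)
    (v : Fin 6 ↪ Fin n) (hv : ∀ j, T.IsMinusTwo (v j)) (h01 : T.a (v 0) (v 1) ≠ 0) (h12 : T.a (v 1) (v 2) ≠ 0) (h23 : T.a (v 2) (v 3) ≠ 0) (h34 : T.a (v 3) (v 4) ≠ 0) (h25 : T.a (v 2) (v 5) ≠ 0) :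
    ∃ w : ℤ, (∀ j : Fin 6, T.w (v j) = w) ∧
      T.a (v 0) (v 1) = w ∧
      T.a (v 1) (v 2) = w ∧
      T.a (v 2) (v 3) = w ∧
      T.a (v 3) (v 4) = w ∧
      T.a (v 2) (v 5) = w ∧
      T.a (v 0) (v 2) = 0 ∧
      T.a (v 0) (v 3) = 0 ∧
      T.a (v 0) (v 4) = 0 ∧
      T.a (v 0) (v 5) = 0 ∧
      T.a (v 1) (v 3) = 0 ∧
      T.a (v 1) (v 4) = 0 ∧
      T.a (v 1) (v 5) = 0 ∧
      T.a (v 2) (v 4) = 0 ∧
      T.a (v 3) (v 5) = 0 ∧
      T.a (v 4) (v 5) = 0 ∧
      T.m (v 1) ≤ 2 * T.m (v 0) ∧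
      T.m (v 0) + T.m (v 2) ≤ 2 * T.m (v 1) ∧
      T.m (v 1) + T.m (v 3) + T.m (v 5) ≤ 2 * T.m (v 2) ∧
      T.m (v 2) + T.m (v 4) ≤ 2 * T.m (v 3) ∧
      T.m (v 3) ≤ 2 * T.m (v 4) ∧
      T.m (v 2) ≤ 2 * T.m (v 5) := by
  have hp : NumType.IsPath T (NumType.ext (v ∘ ![0, 1, 2, 3, 4])) 4 := by
    refine NumType.isPath_ext (k := 4) _ (v.injective.comp (by decide)) (fun j => hv _) fun i => ?_
    fin_cases i <;> first | assumption | (rw [NumType.a_symm]; assumption)
  have hne : ∀ {p q : Fin 6}, p ≠ q → v p ≠ v q := fun h he => h (v.injective he)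
  have hu' : ∀ k ≤ 4, NumType.ext (v ∘ ![0, 1, 2, 3, 4]) k ≠ v 5 := fun k hk => by
    rw [NumType.ext_eq _ hk]
    interval_cases k <;> exact hne (by simp +decide)
  obtain ⟨hw, ha, hau, hz, hzu⟩ := NumType.branch hp (b := 2) (by omega) (by omega) (hv 5) hu'
    (NumType.a_pos T (hu' 2 (by omega)) (by rw [NumType.ext_eq _ (by omega)]; assumption)) (by omega)
  have w0 : T.w (v 0) = T.w (v 5) := by have := hw 0 (by omega); rwa [NumType.ext_eq _ (by omega)] at this
  have w1 : T.w (v 1) = T.w (v 5) := by have := hw 1 (by omega); rwa [NumType.ext_eq _ (by omega)] at this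
  have w2 : T.w (v 2) = T.w (v 5) := by have := hw 2 (by omega); rwa [NumType.ext_eq _ (by omega)] at this
  have w3 : T.w (v 3) = T.w (v 5) := by have := hw 3 (by omega); rwa [NumType.ext_eq _ (by omega)] at this
  have w4 : T.w (v 4) = T.w (v 5) := by have := hw 4 (by omega); rwa [NumType.ext_eq _ (by omega)] at this
  have e01 : T.a (v 0) (v 1) = T.w (v 5) := by have := ha 0 (by omega); rwa [NumType.ext_eq _ (by omega), NumType.ext_eq _ (by omega)] at this
  have e10 : T.a (v 1) (v 0) = T.w (v 5) := (NumType.a_symm T _ _).trans e01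
  have e12 : T.a (v 1) (v 2) = T.w (v 5) := by have := ha 1 (by omega); rwa [NumType.ext_eq _ (by omega), NumType.ext_eq _ (by omega)] at this
  have e21 : T.a (v 2) (v 1) = T.w (v 5) := (NumType.a_symm T _ _).trans e12
  have e23 : T.a (v 2) (v 3) = T.w (v 5) := by have := ha 2 (by omega); rwa [NumType.ext_eq _ (by omega), NumType.ext_eq _ (by omega)] at this
  have e32 : T.a (v 3) (v 2) = T.w (v 5) := (NumType.a_symm T _ _).trans e23
  have e34 : T.a (v 3) (v 4) = T.w (v 5) := by have := ha 3 (by omega); rwa [NumType.ext_eq _ (by omega), NumType.ext_eq _ (by omega)] at this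
  have e43 : T.a (v 4) (v 3) = T.w (v 5) := (NumType.a_symm T _ _).trans e34
  have e25 : T.a (v 2) (v 5) = T.w (v 5) := by rwa [NumType.ext_eq _ (by omega)] at hau
  have e52 : T.a (v 5) (v 2) = T.w (v 5) := (NumType.a_symm T _ _).trans e25
  have z02 : T.a (v 0) (v 2) = 0 := (by have := hz 0 2 (by omega) (by omega); rwa [NumType.ext_eq _ (by omega), NumType.ext_eq _ (by omega)] at this : T.a (v 0) (v 2) = 0)
  have z03 : T.a (v 0) (v 3) = 0 := (by have := hz 0 3 (by omega) (by omega); rwa [NumType.ext_eq _ (by omega), NumType.ext_eq _ (by omega)] at this : T.a (v 0) (v 3) = 0)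
  have z04 : T.a (v 0) (v 4) = 0 := (by have := hz 0 4 (by omega) (by omega); rwa [NumType.ext_eq _ (by omega), NumType.ext_eq _ (by omega)] at this : T.a (v 0) (v 4) = 0)
  have z05 : T.a (v 0) (v 5) = 0 := (by have := hzu 0 (by omega) (by omega); rwa [NumType.ext_eq _ (by omega)] at this : T.a (v 0) (v 5) = 0)
  have z13 : T.a (v 1) (v 3) = 0 := (by have := hz 1 3 (by omega) (by omega); rwa [NumType.ext_eq _ (by omega), NumType.ext_eq _ (by omega)] at this : T.a (v 1) (v 3) = 0)
  have z14 : T.a (v 1) (v 4) = 0 := (by have := hz 1 4 (by omega) (by omega); rwa [NumType.ext_eq _ (by omega), NumType.ext_eq _ (by omega)] at this : T.a (v 1) (v 4) = 0)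
  have z15 : T.a (v 1) (v 5) = 0 := (by have := hzu 1 (by omega) (by omega); rwa [NumType.ext_eq _ (by omega)] at this : T.a (v 1) (v 5) = 0)
  have z24 : T.a (v 2) (v 4) = 0 := (by have := hz 2 4 (by omega) (by omega); rwa [NumType.ext_eq _ (by omega), NumType.ext_eq _ (by omega)] at this : T.a (v 2) (v 4) = 0)
  have z35 : T.a (v 3) (v 5) = 0 := (by have := hzu 3 (by omega) (by omega); rwa [NumType.ext_eq _ (by omega)] at this : T.a (v 3) (v 5) = 0)
  have z45 : T.a (v 4) (v 5) = 0 := (by have := hzu 4 (by omega) (by omega); rwa [NumType.ext_eq _ (by omega)] at this : T.a (v 4) (v 5) = 0)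
  have i0 : T.m (v 1) ≤ 2 * T.m (v 0) := by have := NumType.m_ineq1 T (hv 0) (k := 1) (j := v 1) (hne (by decide)) (by rw [one_mul]; exact e01.trans w0.symm); linarith
  have i1 : T.m (v 0) + T.m (v 2) ≤ 2 * T.m (v 1) := by have := NumType.m_ineq2 T (hv 1) (k := 1) (k' := 1) (j := v 0) (l := v 2) (hne (by decide)) (hne (by decide)) (hne (by decide)) (by rw [one_mul]; exact e10.trans w1.symm) (by rw [one_mul]; exact e12.trans w1.symm); linarith
  have i2 : T.m (v 1) + T.m (v 3) + T.m (v 5) ≤ 2 * T.m (v 2) := NumType.m_ineq3 T (hv 2) (hne (by decide)) (hne (by decide)) (hne (by decide)) (hne (by decide)) (hne (by decide)) (hne (by decide)) (e21.trans w2.symm) (e23.trans w2.symm) (e25.trans w2.symm)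
  have i3 : T.m (v 2) + T.m (v 4) ≤ 2 * T.m (v 3) := by have := NumType.m_ineq2 T (hv 3) (k := 1) (k' := 1) (j := v 2) (l := v 4) (hne (by decide)) (hne (by decide)) (hne (by decide)) (by rw [one_mul]; exact e32.trans w3.symm) (by rw [one_mul]; exact e34.trans w3.symm); linarith
  have i4 : T.m (v 3) ≤ 2 * T.m (v 4) := by have := NumType.m_ineq1 T (hv 4) (k := 1) (j := v 3) (hne (by decide)) (by rw [one_mul]; exact e43.trans w4.symm); linarith
  have i5 : T.m (v 2) ≤ 2 * T.m (v 5) := by have := NumType.m_ineq1 T (hv 5) (k := 1) (j := v 2) (hne (by decide)) (by rw [one_mul]; exact e52.trans rfl); linarith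
  refine ⟨T.w (v 5), ?_⟩
  refine ⟨fun j => ?_, ?_⟩
  · fin_cases j <;> first | rfl | assumption
  · repeat' constructor
    all_goals first | assumption | linarith

end Groth.Agent.S7348
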