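import Groth.Statements.S7350
import Groth.Agent.NumType.SubApp

set_option autoImplicit false
open Finset
open Models Models.NumericalType

namespace Groth.Agent.S7350

/-- Classification of proper subgraphs of type E8 (a chain i_1 … i_7 with i_8 joined to i_5): let T be a
numerical type on n > 8 indices and i_1, …, i_8 distinct (-2)-indices with a_{12}, a_{23}, a_{34},
a_{45}, a_{56}, a_{67}, a_{58} nonzero. Then for some integer w all w_{i_j} equal w, these
intersection numbers equal w, all other a_{i_j i_k} (j ≠ k) vanish, and 2 m_1 ≥ m_2, 2 m_2 ≥ m_1 +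
m_3, 2 m_3 ≥ m_2 + m_4, 2 m_4 ≥ m_3 + m_5, 2 m_5 ≥ m_4 + m_6 + m_8, 2 m_6 ≥ m_5 + m_7, 2 m_7 ≥ m_6,
2 m_8 ≥ m_5. (The published statement lists a_{65} and a_{57} among the nonzero entries, which
contradicts its own conclusion a_{57} = 0; this row uses the edges of the E8 graph, a_{67} and
a_{58}, as the pictured graph and the matrix give them.) -/
theorem result {n : ℕ} (T : Models.NumericalType n) (hn : 8 < n)
    (v : Fin 8 ↪ Fin n) (hv : ∀ j, T.IsMinusTwo (v j)) (h01 : T.a (v 0) (v 1) ≠ 0) (h12 : T.a (v 1) (v 2) ≠ 0) (h23 : T.a (v 2) (v 3) ≠ 0) (h34 : T.a (v 3) (v 4) ≠ 0) (h45 : T.a (v 4) (v 5) ≠ 0) (h56 : T.a (v 5) (v 6) ≠ 0) (h47 : T.a (v 4) (v 7) ≠ 0) :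
    ∃ w : ℤ, (∀ j : Fin 8, T.w (v j) = w) ∧
      T.a (v 0) (v 1) = w ∧
      T.a (v 1) (v 2) = w ∧
      T.a (v 2) (v 3) = w ∧
      T.a (v 3) (v 4) = w ∧
      T.a (v 4) (v 5) = w ∧
      T.a (v 5) (v 6) = w ∧
      T.a (v 4) (v 7) = w ∧
      T.a (v 0) (v 2) = 0 ∧
      T.a (v 0) (v 3) = 0 ∧
      T.a (v 0) (v 4) = 0 ∧
      T.a (v 0) (v 5) = 0 ∧
      T.a (v 0) (v 6) = 0 ∧
      T.a (v 0) (v 7) = 0 ∧
      T.a (v 1) (v 3) = 0 ∧
      T.a (v 1) (v 4) = 0 ∧
      T.a (v 1) (v 5) = 0 ∧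
      T.a (v 1) (v 6) = 0 ∧
      T.a (v 1) (v 7) = 0 ∧
      T.a (v 2) (v 4) = 0 ∧
      T.a (v 2) (v 5) = 0 ∧
      T.a (v 2) (v 6) = 0 ∧
      T.a (v 2) (v 7) = 0 ∧
      T.a (v 3) (v 5) = 0 ∧
      T.a (v 3) (v 6) = 0 ∧
      T.a (v 3) (v 7) = 0 ∧
      T.a (v 4) (v 6) = 0 ∧
      T.a (v 5) (v 7) = 0 ∧
      T.a (v 6) (v 7) = 0 ∧
      T.m (v 1) ≤ 2 * T.m (v 0) ∧
      T.m (v 0) + T.m (v 2) ≤ 2 * T.m (v 1) ∧
      T.m (v 1) + T.m (v 3) ≤ 2 * T.m (v 2) ∧
      T.m (v 2) + T.m (v 4) ≤ 2 * T.m (v 3) ∧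
      T.m (v 3) + T.m (v 5) + T.m (v 7) ≤ 2 * T.m (v 4) ∧
      T.m (v 4) + T.m (v 6) ≤ 2 * T.m (v 5) ∧
      T.m (v 5) ≤ 2 * T.m (v 6) ∧
      T.m (v 4) ≤ 2 * T.m (v 7) := by
  have hp : NumType.IsPath T (NumType.ext (v ∘ ![0, 1, 2, 3, 4, 5, 6])) 6 := by
    refine NumType.isPath_ext (k := 6) _ (v.injective.comp (by decide)) (fun j => hv _) fun i => ?_
    fin_cases i <;> first | assumption | (rw [NumType.a_symm]; assumption)
  have hne : ∀ {p q : Fin 8}, p ≠ q → v p ≠ v q := fun h he => h (v.injective he)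
  have hu' : ∀ k ≤ 6, NumType.ext (v ∘ ![0, 1, 2, 3, 4, 5, 6]) k ≠ v 7 := fun k hk => by
    rw [NumType.ext_eq _ hk]
    interval_cases k <;> exact hne (by simp +decide)
  obtain ⟨hw, ha, hau, hz, hzu⟩ := NumType.branch hp (b := 4) (by omega) (by omega) (hv 7) hu'
    (NumType.a_pos T (hu' 4 (by omega)) (by rw [NumType.ext_eq _ (by omega)]; assumption)) (by omega)
  have w0 : T.w (v 0) = T.w (v 7) := by have := hw 0 (by omega); rwa [NumType.ext_eq _ (by omega)] at this
  have w1 : T.w (v 1) = T.w (v 7) := by have := hw 1 (by omega); rwa [NumType.ext_eq _ (by omega)] at this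
  have w2 : T.w (v 2) = T.w (v 7) := by have := hw 2 (by omega); rwa [NumType.ext_eq _ (by omega)] at this
  have w3 : T.w (v 3) = T.w (v 7) := by have := hw 3 (by omega); rwa [NumType.ext_eq _ (by omega)] at this
  have w4 : T.w (v 4) = T.w (v 7) := by have := hw 4 (by omega); rwa [NumType.ext_eq _ (by omega)] at this
  have w5 : T.w (v 5) = T.w (v 7) := by have := hw 5 (by omega); rwa [NumType.ext_eq _ (by omega)] at this
  have w6 : T.w (v 6) = T.w (v 7) := by have := hw 6 (by omega); rwa [NumType.ext_eq _ (by omega)] at this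
  have e01 : T.a (v 0) (v 1) = T.w (v 7) := by have := ha 0 (by omega); rwa [NumType.ext_eq _ (by omega), NumType.ext_eq _ (by omega)] at this
  have e10 : T.a (v 1) (v 0) = T.w (v 7) := (NumType.a_symm T _ _).trans e01
  have e12 : T.a (v 1) (v 2) = T.w (v 7) := by have := ha 1 (by omega); rwa [NumType.ext_eq _ (by omega), NumType.ext_eq _ (by omega)] at this
  have e21 : T.a (v 2) (v 1) = T.w (v 7) := (NumType.a_symm T _ _).trans e12
  have e23 : T.a (v 2) (v 3) = T.w (v 7) := by have := ha 2 (by omega); rwa [NumType.ext_eq _ (by omega), NumType.ext_eq _ (by omega)] at this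
  have e32 : T.a (v 3) (v 2) = T.w (v 7) := (NumType.a_symm T _ _).trans e23
  have e34 : T.a (v 3) (v 4) = T.w (v 7) := by have := ha 3 (by omega); rwa [NumType.ext_eq _ (by omega), NumType.ext_eq _ (by omega)] at this
  have e43 : T.a (v 4) (v 3) = T.w (v 7) := (NumType.a_symm T _ _).trans e34
  have e45 : T.a (v 4) (v 5) = T.w (v 7) := by have := ha 4 (by omega); rwa [NumType.ext_eq _ (by omega), NumType.ext_eq _ (by omega)] at this
  have e54 : T.a (v 5) (v 4) = T.w (v 7) := (NumType.a_symm T _ _).trans e45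
  have e56 : T.a (v 5) (v 6) = T.w (v 7) := by have := ha 5 (by omega); rwa [NumType.ext_eq _ (by omega), NumType.ext_eq _ (by omega)] at this
  have e65 : T.a (v 6) (v 5) = T.w (v 7) := (NumType.a_symm T _ _).trans e56
  have e47 : T.a (v 4) (v 7) = T.w (v 7) := by rwa [NumType.ext_eq _ (by omega)] at hau
  have e74 : T.a (v 7) (v 4) = T.w (v 7) := (NumType.a_symm T _ _).trans e47
  have z02 : T.a (v 0) (v 2) = 0 := (by have := hz 0 2 (by omega) (by omega); rwa [NumType.ext_eq _ (by omega), NumType.ext_eq _ (by omega)] at this : T.a (v 0) (v 2) = 0)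
  have z03 : T.a (v 0) (v 3) = 0 := (by have := hz 0 3 (by omega) (by omega); rwa [NumType.ext_eq _ (by omega), NumType.ext_eq _ (by omega)] at this : T.a (v 0) (v 3) = 0)
  have z04 : T.a (v 0) (v 4) = 0 := (by have := hz 0 4 (by omega) (by omega); rwa [NumType.ext_eq _ (by omega), NumType.ext_eq _ (by omega)] at this : T.a (v 0) (v 4) = 0)
  have z05 : T.a (v 0) (v 5) = 0 := (by have := hz 0 5 (by omega) (by omega); rwa [NumType.ext_eq _ (by omega), NumType.ext_eq _ (by omega)] at this : T.a (v 0) (v 5) = 0)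
  have z06 : T.a (v 0) (v 6) = 0 := (by have := hz 0 6 (by omega) (by omega); rwa [NumType.ext_eq _ (by omega), NumType.ext_eq _ (by omega)] at this : T.a (v 0) (v 6) = 0)
  have z07 : T.a (v 0) (v 7) = 0 := (by have := hzu 0 (by omega) (by omega); rwa [NumType.ext_eq _ (by omega)] at this : T.a (v 0) (v 7) = 0)
  have z13 : T.a (v 1) (v 3) = 0 := (by have := hz 1 3 (by omega) (by omega); rwa [NumType.ext_eq _ (by omega), NumType.ext_eq _ (by omega)] at this : T.a (v 1) (v 3) = 0)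
  have z14 : T.a (v 1) (v 4) = 0 := (by have := hz 1 4 (by omega) (by omega); rwa [NumType.ext_eq _ (by omega), NumType.ext_eq _ (by omega)] at this : T.a (v 1) (v 4) = 0)
  have z15 : T.a (v 1) (v 5) = 0 := (by have := hz 1 5 (by omega) (by omega); rwa [NumType.ext_eq _ (by omega), NumType.ext_eq _ (by omega)] at this : T.a (v 1) (v 5) = 0)
  have z16 : T.a (v 1) (v 6) = 0 := (by have := hz 1 6 (by omega) (by omega); rwa [NumType.ext_eq _ (by omega), NumType.ext_eq _ (by omega)] at this : T.a (v 1) (v 6) = 0)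
  have z17 : T.a (v 1) (v 7) = 0 := (by have := hzu 1 (by omega) (by omega); rwa [NumType.ext_eq _ (by omega)] at this : T.a (v 1) (v 7) = 0)
  have z24 : T.a (v 2) (v 4) = 0 := (by have := hz 2 4 (by omega) (by omega); rwa [NumType.ext_eq _ (by omega), NumType.ext_eq _ (by omega)] at this : T.a (v 2) (v 4) = 0)
  have z25 : T.a (v 2) (v 5) = 0 := (by have := hz 2 5 (by omega) (by omega); rwa [NumType.ext_eq _ (by omega), NumType.ext_eq _ (by omega)] at this : T.a (v 2) (v 5) = 0)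
  have z26 : T.a (v 2) (v 6) = 0 := (by have := hz 2 6 (by omega) (by omega); rwa [NumType.ext_eq _ (by omega), NumType.ext_eq _ (by omega)] at this : T.a (v 2) (v 6) = 0)
  have z27 : T.a (v 2) (v 7) = 0 := (by have := hzu 2 (by omega) (by omega); rwa [NumType.ext_eq _ (by omega)] at this : T.a (v 2) (v 7) = 0)
  have z35 : T.a (v 3) (v 5) = 0 := (by have := hz 3 5 (by omega) (by omega); rwa [NumType.ext_eq _ (by omega), NumType.ext_eq _ (by omega)] at this : T.a (v 3) (v 5) = 0)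
  have z36 : T.a (v 3) (v 6) = 0 := (by have := hz 3 6 (by omega) (by omega); rwa [NumType.ext_eq _ (by omega), NumType.ext_eq _ (by omega)] at this : T.a (v 3) (v 6) = 0)
  have z37 : T.a (v 3) (v 7) = 0 := (by have := hzu 3 (by omega) (by omega); rwa [NumType.ext_eq _ (by omega)] at this : T.a (v 3) (v 7) = 0)
  have z46 : T.a (v 4) (v 6) = 0 := (by have := hz 4 6 (by omega) (by omega); rwa [NumType.ext_eq _ (by omega), NumType.ext_eq _ (by omega)] at this : T.a (v 4) (v 6) = 0)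
  have z57 : T.a (v 5) (v 7) = 0 := (by have := hzu 5 (by omega) (by omega); rwa [NumType.ext_eq _ (by omega)] at this : T.a (v 5) (v 7) = 0)
  have z67 : T.a (v 6) (v 7) = 0 := (by have := hzu 6 (by omega) (by omega); rwa [NumType.ext_eq _ (by omega)] at this : T.a (v 6) (v 7) = 0)
  have i0 : T.m (v 1) ≤ 2 * T.m (v 0) := by have := NumType.m_ineq1 T (hv 0) (k := 1) (j := v 1) (hne (by decide)) (by rw [one_mul]; exact e01.trans w0.symm); linarith
  have i1 : T.m (v 0) + T.m (v 2) ≤ 2 * T.m (v 1) := by have := NumType.m_ineq2 T (hv 1) (k := 1) (k' := 1) (j := v 0) (l := v 2) (hne (by decide)) (hne (by decide)) (hne (by decide)) (by rw [one_mul]; exact e10.trans w1.symm) (by rw [one_mul]; exact e12.trans w1.symm); linarith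
  have i2 : T.m (v 1) + T.m (v 3) ≤ 2 * T.m (v 2) := by have := NumType.m_ineq2 T (hv 2) (k := 1) (k' := 1) (j := v 1) (l := v 3) (hne (by decide)) (hne (by decide)) (hne (by decide)) (by rw [one_mul]; exact e21.trans w2.symm) (by rw [one_mul]; exact e23.trans w2.symm); linarith
  have i3 : T.m (v 2) + T.m (v 4) ≤ 2 * T.m (v 3) := by have := NumType.m_ineq2 T (hv 3) (k := 1) (k' := 1) (j := v 2) (l := v 4) (hne (by decide)) (hne (by decide)) (hne (by decide)) (by rw [one_mul]; exact e32.trans w3.symm) (by rw [one_mul]; exact e34.trans w3.symm); linarith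
  have i4 : T.m (v 3) + T.m (v 5) + T.m (v 7) ≤ 2 * T.m (v 4) := NumType.m_ineq3 T (hv 4) (hne (by decide)) (hne (by decide)) (hne (by decide)) (hne (by decide)) (hne (by decide)) (hne (by decide)) (e43.trans w4.symm) (e45.trans w4.symm) (e47.trans w4.symm)
  have i5 : T.m (v 4) + T.m (v 6) ≤ 2 * T.m (v 5) := by have := NumType.m_ineq2 T (hv 5) (k := 1) (k' := 1) (j := v 4) (l := v 6) (hne (by decide)) (hne (by decide)) (hne (by decide)) (by rw [one_mul]; exact e54.trans w5.symm) (by rw [one_mul]; exact e56.trans w5.symm); linarith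
  have i6 : T.m (v 5) ≤ 2 * T.m (v 6) := by have := NumType.m_ineq1 T (hv 6) (k := 1) (j := v 5) (hne (by decide)) (by rw [one_mul]; exact e65.trans w6.symm); linarith
  have i7 : T.m (v 4) ≤ 2 * T.m (v 7) := by have := NumType.m_ineq1 T (hv 7) (k := 1) (j := v 4) (hne (by decide)) (by rw [one_mul]; exact e74.trans rfl); linarith
  refine ⟨T.w (v 7), ?_⟩
  refine ⟨fun j => ?_, ?_⟩
  · fin_cases j <;> first | rfl | assumption
  · repeat' constructor
    all_goals first | assumption | linarith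

end Groth.Agent.S7350
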