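import Groth.Statements.S7351
import Groth.Agent.NumType.Basic

set_option autoImplicit false
open Finset
open Models Models.NumericalType

namespace Groth.Agent.S7351

/-- Let T be a numerical type on n > 5 indices. There do not exist five distinct (-2)-indices h, i, j,
k, l with a_hi > 0, a_hj > 0, a_hk > 0 and a_hl > 0. -/
theorem result {n : ℕ} (T : Models.NumericalType n) (hn : 5 < n)
    (v : Fin 5 ↪ Fin n) (hv : ∀ j, T.IsMinusTwo (v j))
    (h01 : 0 < T.a (v 0) (v 1)) (h02 : 0 < T.a (v 0) (v 2)) (h03 : 0 < T.a (v 0) (v 3)) (h04 : 0 < T.a (v 0) (v 4)) : False := by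
  refine NumType.no_config T (k := 5) (by norm_num) hn v v.injective hv ![2, 1, 1, 1, 1]
    (by decide) ![{1, 2, 3, 4}, {0}, {0}, {0}, {0}] ?_ (by decide)
  intro p q hq
  have := h01.ne'; have := h02.ne'; have := h03.ne'; have := h04.ne'
  fin_cases p <;> fin_cases q <;> simp_all (config := { decide := true }) <;>
    (rw [NumType.a_symm]; assumption)

end Groth.Agent.S7351
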