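import Groth.Statements.S7352
import Groth.Agent.NumType.SubApp

set_option autoImplicit false
open Finset
open Models Models.NumericalType

namespace Groth.Agent.S7352

/-- Classification of proper subgraphs which are chains of four vertices: let T be a numerical type on n
> 4 indices and i_1, …, i_4 distinct (-2)-indices with a_{i_j i_{j+1}} nonzero for j < 4. Then
a_{i_j i_l} = 0 for |j - l| ≥ 2 and, after possibly reversing the order of the indices, for some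
integer w one of the following holds: (A4) w = (w, w, w, w), consecutive a = (w, w, w), with 2m_1 ≥
m_2, 2m_2 ≥ m_1 + m_3, 2m_3 ≥ m_2 + m_4, 2m_4 ≥ m_3; (C4) w = (w, w, w, 2w), consecutive a = (w, w,
2w), with 2m_1 ≥ m_2, 2m_2 ≥ m_1 + m_3, 2m_3 ≥ m_2 + 2m_4, 2m_4 ≥ m_3; (B4) w = (2w, 2w, 2w, w),
consecutive a = (2w, 2w, 2w), with 2m_1 ≥ m_2, 2m_2 ≥ m_1 + m_3, 2m_3 ≥ m_2 + m_4, m_4 ≥ m_3; (F4) w
= (w, w, 2w, 2w), consecutive a = (w, 2w, 2w), with 2m_1 ≥ m_2, 2m_2 ≥ m_1 + 2m_3, 2m_3 ≥ m_2 + m_4,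
2m_4 ≥ m_3. -/
theorem result {n : ℕ} (T : Models.NumericalType n) (hn : 4 < n)
    (v : Fin 4 ↪ Fin n) (hv : ∀ j, T.IsMinusTwo (v j)) (h01 : T.a (v 0) (v 1) ≠ 0) (h12 : T.a (v 1) (v 2) ≠ 0) (h23 : T.a (v 2) (v 3) ≠ 0) :
    (T.a (v 0) (v 2) = 0 ∧ T.a (v 0) (v 3) = 0 ∧ T.a (v 1) (v 3) = 0) ∧
    ∃ (u : Fin 4 → Fin n) (w : ℤ), ((∀ j, u j = v j) ∨ (∀ j, u j = v (Fin.rev j))) ∧
      ((T.w (u 0) = w ∧ T.w (u 1) = w ∧ T.w (u 2) = w ∧ T.w (u 3) = w ∧ T.a (u 0) (u 1) = w ∧ T.a (u 1) (u 2) = w ∧ T.a (u 2) (u 3) = w ∧ T.m (u 1) ≤ 2 * T.m (u 0) ∧ T.m (u 0) + T.m (u 2) ≤ 2 * T.m (u 1) ∧ T.m (u 1) + T.m (u 3) ≤ 2 * T.m (u 2) ∧ T.m (u 2) ≤ 2 * T.m (u 3)) ∨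
      (T.w (u 0) = w ∧ T.w (u 1) = w ∧ T.w (u 2) = w ∧ T.w (u 3) = 2 * w ∧ T.a (u 0) (u 1) = w ∧ T.a (u 1) (u 2) = w ∧ T.a (u 2) (u 3) = 2 * w ∧ T.m (u 1) ≤ 2 * T.m (u 0) ∧ T.m (u 0) + T.m (u 2) ≤ 2 * T.m (u 1) ∧ T.m (u 1) + 2 * T.m (u 3) ≤ 2 * T.m (u 2) ∧ T.m (u 2) ≤ 2 * T.m (u 3)) ∨
      (T.w (u 0) = 2 * w ∧ T.w (u 1) = 2 * w ∧ T.w (u 2) = 2 * w ∧ T.w (u 3) = w ∧ T.a (u 0) (u 1) = 2 * w ∧ T.a (u 1) (u 2) = 2 * w ∧ T.a (u 2) (u 3) = 2 * w ∧ T.m (u 1) ≤ 2 * T.m (u 0) ∧ T.m (u 0) + T.m (u 2) ≤ 2 * T.m (u 1) ∧ T.m (u 1) + T.m (u 3) ≤ 2 * T.m (u 2) ∧ T.m (u 2) ≤ T.m (u 3)) ∨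
      (T.w (u 0) = w ∧ T.w (u 1) = w ∧ T.w (u 2) = 2 * w ∧ T.w (u 3) = 2 * w ∧ T.a (u 0) (u 1) = w ∧ T.a (u 1) (u 2) = 2 * w ∧ T.a (u 2) (u 3) = 2 * w ∧ T.m (u 1) ≤ 2 * T.m (u 0) ∧ T.m (u 0) + 2 * T.m (u 2) ≤ 2 * T.m (u 1) ∧ T.m (u 1) + T.m (u 3) ≤ 2 * T.m (u 2) ∧ T.m (u 2) ≤ 2 * T.m (u 3))) := by
  have hp : NumType.IsPath T (NumType.ext (fun j : Fin 4 => v j)) 3 :=
    NumType.isPath_ext (k := 3) _ v.injective hv fun i => by fin_cases i <;> assumption
  obtain ⟨hz, -, -, -⟩ := NumType.chain_class hp (by omega) (by omega)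
  have z02 : T.a (v 0) (v 2) = 0 := by have := hz 0 2 (by omega) (by omega); rwa [NumType.ext_eq _ (by omega), NumType.ext_eq _ (by omega)] at this
  have z03 : T.a (v 0) (v 3) = 0 := by have := hz 0 3 (by omega) (by omega); rwa [NumType.ext_eq _ (by omega), NumType.ext_eq _ (by omega)] at this
  have z13 : T.a (v 1) (v 3) = 0 := by have := hz 1 3 (by omega) (by omega); rwa [NumType.ext_eq _ (by omega), NumType.ext_eq _ (by omega)] at this
  refine ⟨⟨z02, z03, z13⟩, ?_⟩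
  obtain ⟨u, hu, hup, hcase⟩ := NumType.chain_norm hp (by omega) (by omega)
  refine ⟨fun j => u j.val, ?_⟩
  have hor : (∀ j : Fin 4, u j.val = v j) ∨ (∀ j : Fin 4, u j.val = v (Fin.rev j)) := by
    rcases hu with rfl | rfl
    · exact Or.inl fun j => NumType.ext_eq _ (by omega)
    · exact Or.inr fun j => NumType.ext_rev (k := 3) _ j
  have ne : ∀ p q : ℕ, p ≤ 3 → q ≤ 3 → p ≠ q → u p ≠ u q := fun p q hp hq h => hup.ne hp hq h
  have sy : ∀ p q : ℕ, T.a (u p) (u q) = T.a (u q) (u p) := fun p q => NumType.a_symm T _ _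
  rcases hcase with ⟨hs, hl⟩ | h
  · obtain ⟨w, ⟨hw, ha⟩ | ⟨hw, hwr, ha, har⟩ | ⟨hw, hwr, ha⟩⟩ := NumType.chain_last hup (by omega) hs hl
    · refine ⟨w, hor, ?_⟩
      have w0 : T.w (u 0) = w := hw 0 (by omega)
      have w1 : T.w (u 1) = w := hw 1 (by omega)
      have w2 : T.w (u 2) = w := hw 2 (by omega)
      have w3 : T.w (u 3) = w := hw 3 (by omega)
      have a0 : T.a (u 0) (u 1) = w := ha 0 (by omega)
      have a1 : T.a (u 1) (u 2) = w := ha 1 (by omega)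
      have a2 : T.a (u 2) (u 3) = w := ha 2 (by omega)
      have i0 := NumType.m_ineq1 T (hup.two 0 (by omega)) (k := 1) (ne 1 0 (by omega) (by omega) (by omega)) (by rw [a0, w0] <;> ring)
      have i1 := NumType.m_ineq2 T (hup.two 1 (by omega)) (k := 1) (k' := 1) (ne 0 1 (by omega) (by omega) (by omega)) (ne 2 1 (by omega) (by omega) (by omega)) (ne 0 2 (by omega) (by omega) (by omega)) (by rw [sy 1 0, a0, w1] <;> ring) (by rw [a1, w1] <;> ring)
      have i2 := NumType.m_ineq2 T (hup.two 2 (by omega)) (k := 1) (k' := 1) (ne 1 2 (by omega) (by omega) (by omega)) (ne 3 2 (by omega) (by omega) (by omega)) (ne 1 3 (by omega) (by omega) (by omega)) (by rw [sy 2 1, a1, w2] <;> ring) (by rw [a2, w2] <;> ring)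
      have i3 := NumType.m_ineq1 T (hup.two 3 (by omega)) (k := 1) (ne 2 3 (by omega) (by omega) (by omega)) (by rw [sy 3 2, a2, w3] <;> ring)
      refine Or.inl ?_; (repeat' constructor) <;> first | assumption | (simp only [Fin.val_zero, Fin.val_one, Fin.val_two, Fin.coe_ofNat_eq_mod, Nat.reduceMod, Fin.isValue]; linarith)
    · refine ⟨w, hor, ?_⟩
      have w0 : T.w (u 0) = w := hw 0 (by omega)
      have w1 : T.w (u 1) = w := hw 1 (by omega)
      have w2 : T.w (u 2) = w := hw 2 (by omega)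
      have w3 : T.w (u 3) = 2 * w := hwr
      have a0 : T.a (u 0) (u 1) = w := ha 0 (by omega) (by omega)
      have a1 : T.a (u 1) (u 2) = w := ha 1 (by omega) (by omega)
      have a2 : T.a (u 2) (u 3) = 2 * w := har
      have i0 := NumType.m_ineq1 T (hup.two 0 (by omega)) (k := 1) (ne 1 0 (by omega) (by omega) (by omega)) (by rw [a0, w0] <;> ring)
      have i1 := NumType.m_ineq2 T (hup.two 1 (by omega)) (k := 1) (k' := 1) (ne 0 1 (by omega) (by omega) (by omega)) (ne 2 1 (by omega) (by omega) (by omega)) (ne 0 2 (by omega) (by omega) (by omega)) (by rw [sy 1 0, a0, w1] <;> ring) (by rw [a1, w1] <;> ring)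
      have i2 := NumType.m_ineq2 T (hup.two 2 (by omega)) (k := 1) (k' := 2) (ne 1 2 (by omega) (by omega) (by omega)) (ne 3 2 (by omega) (by omega) (by omega)) (ne 1 3 (by omega) (by omega) (by omega)) (by rw [sy 2 1, a1, w2] <;> ring) (by rw [a2, w2] <;> ring)
      have i3 := NumType.m_ineq1 T (hup.two 3 (by omega)) (k := 1) (ne 2 3 (by omega) (by omega) (by omega)) (by rw [sy 3 2, a2, w3] <;> ring)
      refine Or.inr ?_; refine Or.inl ?_; (repeat' constructor) <;> first | assumption | (simp only [Fin.val_zero, Fin.val_one, Fin.val_two, Fin.coe_ofNat_eq_mod, Nat.reduceMod, Fin.isValue]; linarith)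
    · refine ⟨w, hor, ?_⟩
      have w0 : T.w (u 0) = 2 * w := hw 0 (by omega)
      have w1 : T.w (u 1) = 2 * w := hw 1 (by omega)
      have w2 : T.w (u 2) = 2 * w := hw 2 (by omega)
      have w3 : T.w (u 3) = w := hwr
      have a0 : T.a (u 0) (u 1) = 2 * w := ha 0 (by omega)
      have a1 : T.a (u 1) (u 2) = 2 * w := ha 1 (by omega)
      have a2 : T.a (u 2) (u 3) = 2 * w := ha 2 (by omega)
      have i0 := NumType.m_ineq1 T (hup.two 0 (by omega)) (k := 1) (ne 1 0 (by omega) (by omega) (by omega)) (by rw [a0, w0] <;> ring)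
      have i1 := NumType.m_ineq2 T (hup.two 1 (by omega)) (k := 1) (k' := 1) (ne 0 1 (by omega) (by omega) (by omega)) (ne 2 1 (by omega) (by omega) (by omega)) (ne 0 2 (by omega) (by omega) (by omega)) (by rw [sy 1 0, a0, w1] <;> ring) (by rw [a1, w1] <;> ring)
      have i2 := NumType.m_ineq2 T (hup.two 2 (by omega)) (k := 1) (k' := 1) (ne 1 2 (by omega) (by omega) (by omega)) (ne 3 2 (by omega) (by omega) (by omega)) (ne 1 3 (by omega) (by omega) (by omega)) (by rw [sy 2 1, a1, w2] <;> ring) (by rw [a2, w2] <;> ring)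
      have i3 := NumType.m_ineq1 T (hup.two 3 (by omega)) (k := 2) (ne 2 3 (by omega) (by omega) (by omega)) (by rw [sy 3 2, a2, w3] <;> ring)
      refine Or.inr ?_; refine Or.inr ?_; refine Or.inl ?_; (repeat' constructor) <;> first | assumption | (simp only [Fin.val_zero, Fin.val_one, Fin.val_two, Fin.coe_ofNat_eq_mod, Nat.reduceMod, Fin.isValue]; linarith)
  · obtain ⟨-, h0, h1, h2, e'⟩ := h
    obtain ⟨f0, g0⟩ := NumType.P_eq_one T (hup.adj 0 (by omega)) h0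
    obtain ⟨f2, g2⟩ := NumType.P_eq_one T (hup.adj 2 (by omega)) h2
    have f1 : T.a (u 1) (u 2) = T.w (u 2) := by
      have hw := T.w_pos (u 1)
      rcases NumType.P_eq_two T (hup.adj 1 (by omega)) h1 with ⟨-, -, e, -⟩ | ⟨-, -, -, e⟩
      · exact e
      · simp only [Nat.reduceAdd] at e; omega
    simp only [Nat.reduceAdd, zero_add] at f0 g0 f2 g2
    refine ⟨T.w (u 0), hor, ?_⟩
    have w0 : T.w (u 0) = T.w (u 0) := rfl
    have w1 : T.w (u 1) = T.w (u 0) := g0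
    have w2 : T.w (u 2) = 2 * T.w (u 0) := by rw [e', g0]
    have w3 : T.w (u 3) = 2 * T.w (u 0) := by rw [g2, w2]
    have a0 : T.a (u 0) (u 1) = T.w (u 0) := f0
    have a1 : T.a (u 1) (u 2) = 2 * T.w (u 0) := by rw [f1, w2]
    have a2 : T.a (u 2) (u 3) = 2 * T.w (u 0) := by rw [f2, w2]
    have i0 := NumType.m_ineq1 T (hup.two 0 (by omega)) (k := 1) (ne 1 0 (by omega) (by omega) (by omega)) (by rw [a0, w0] <;> ring)
    have i1 := NumType.m_ineq2 T (hup.two 1 (by omega)) (k := 1) (k' := 2) (ne 0 1 (by omega) (by omega) (by omega)) (ne 2 1 (by omega) (by omega) (by omega)) (ne 0 2 (by omega) (by omega) (by omega)) (by rw [sy 1 0, a0, w1] <;> ring) (by rw [a1, w1] <;> ring)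
    have i2 := NumType.m_ineq2 T (hup.two 2 (by omega)) (k := 1) (k' := 1) (ne 1 2 (by omega) (by omega) (by omega)) (ne 3 2 (by omega) (by omega) (by omega)) (ne 1 3 (by omega) (by omega) (by omega)) (by rw [sy 2 1, a1, w2] <;> ring) (by rw [a2, w2] <;> ring)
    have i3 := NumType.m_ineq1 T (hup.two 3 (by omega)) (k := 1) (ne 2 3 (by omega) (by omega) (by omega)) (by rw [sy 3 2, a2, w3] <;> ring)
    refine Or.inr ?_; refine Or.inr ?_; refine Or.inr ?_; (repeat' constructor) <;> first | assumption | (simp only [Fin.val_zero, Fin.val_one, Fin.val_two, Fin.coe_ofNat_eq_mod, Nat.reduceMod, Fin.isValue]; linarith)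

end Groth.Agent.S7352
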