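import Groth.Statements.S7353
import Groth.Agent.NumType.SubApp

set_option autoImplicit false
open Finset
open Models Models.NumericalType

namespace Groth.Agent.S7353

/-- Classification of proper subgraphs which are chains of five vertices: let T be a numerical type on n
> 5 indices and i_1, …, i_5 distinct (-2)-indices with a_{i_j i_{j+1}} nonzero for j < 5. Then
a_{i_j i_l} = 0 for |j - l| ≥ 2 and, after possibly reversing the order of the indices, for some
integer w one of the following holds: (A5) w = (w, w, w, w, w), consecutive a = (w, w, w, w), with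
2m_1 ≥ m_2, 2m_2 ≥ m_1 + m_3, 2m_3 ≥ m_2 + m_4, 2m_4 ≥ m_3 + m_5, 2m_5 ≥ m_4; (C5) w = (w, w, w, w,
2w), consecutive a = (w, w, w, 2w), with 2m_1 ≥ m_2, 2m_2 ≥ m_1 + m_3, 2m_3 ≥ m_2 + m_4, 2m_4 ≥ m_3
+ 2m_5, 2m_5 ≥ m_4; (B5) w = (2w, 2w, 2w, 2w, w), consecutive a = (2w, 2w, 2w, 2w), with 2m_1 ≥ m_2,
2m_2 ≥ m_1 + m_3, 2m_3 ≥ m_2 + m_4, 2m_4 ≥ m_3 + m_5, m_5 ≥ m_4. (The inequalities are those given
by the rows Σ_l a_{kl} m_l = 0 of the displayed matrices; the published text has 2m_3 ≥ m_2 + 2m_4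
and 2m_4 ≥ m_3 + m_5 in case C5 and m_4 ≥ m_3 in case B5, of which the first does not follow — for
the numerical type with six indices, weights (1,1,1,1,2,1), chain intersection numbers (1,1,1,2)
plus a_{16} = 1, a_{66} = -1 and multiplicities (2,2,2,2,1,2) one has 2m_3 = 4 < m_2 + 2m_4 = 6 — so
the matrix inequalities are stated.) -/
theorem result {n : ℕ} (T : Models.NumericalType n) (hn : 5 < n)
    (v : Fin 5 ↪ Fin n) (hv : ∀ j, T.IsMinusTwo (v j)) (h01 : T.a (v 0) (v 1) ≠ 0) (h12 : T.a (v 1) (v 2) ≠ 0) (h23 : T.a (v 2) (v 3) ≠ 0) (h34 : T.a (v 3) (v 4) ≠ 0) :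
    (T.a (v 0) (v 2) = 0 ∧ T.a (v 0) (v 3) = 0 ∧ T.a (v 0) (v 4) = 0 ∧ T.a (v 1) (v 3) = 0 ∧ T.a (v 1) (v 4) = 0 ∧ T.a (v 2) (v 4) = 0) ∧
    ∃ (u : Fin 5 → Fin n) (w : ℤ), ((∀ j, u j = v j) ∨ (∀ j, u j = v (Fin.rev j))) ∧
      ((T.w (u 0) = w ∧ T.w (u 1) = w ∧ T.w (u 2) = w ∧ T.w (u 3) = w ∧ T.w (u 4) = w ∧ T.a (u 0) (u 1) = w ∧ T.a (u 1) (u 2) = w ∧ T.a (u 2) (u 3) = w ∧ T.a (u 3) (u 4) = w ∧ T.m (u 1) ≤ 2 * T.m (u 0) ∧ T.m (u 0) + T.m (u 2) ≤ 2 * T.m (u 1) ∧ T.m (u 1) + T.m (u 3) ≤ 2 * T.m (u 2) ∧ T.m (u 2) + T.m (u 4) ≤ 2 * T.m (u 3) ∧ T.m (u 3) ≤ 2 * T.m (u 4)) ∨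
      (T.w (u 0) = w ∧ T.w (u 1) = w ∧ T.w (u 2) = w ∧ T.w (u 3) = w ∧ T.w (u 4) = 2 * w ∧ T.a (u 0) (u 1) = w ∧ T.a (u 1) (u 2) = w ∧ T.a (u 2) (u 3) = w ∧ T.a (u 3) (u 4) = 2 * w ∧ T.m (u 1) ≤ 2 * T.m (u 0) ∧ T.m (u 0) + T.m (u 2) ≤ 2 * T.m (u 1) ∧ T.m (u 1) + T.m (u 3) ≤ 2 * T.m (u 2) ∧ T.m (u 2) + 2 * T.m (u 4) ≤ 2 * T.m (u 3) ∧ T.m (u 3) ≤ 2 * T.m (u 4)) ∨
      (T.w (u 0) = 2 * w ∧ T.w (u 1) = 2 * w ∧ T.w (u 2) = 2 * w ∧ T.w (u 3) = 2 * w ∧ T.w (u 4) = w ∧ T.a (u 0) (u 1) = 2 * w ∧ T.a (u 1) (u 2) = 2 * w ∧ T.a (u 2) (u 3) = 2 * w ∧ T.a (u 3) (u 4) = 2 * w ∧ T.m (u 1) ≤ 2 * T.m (u 0) ∧ T.m (u 0) + T.m (u 2) ≤ 2 * T.m (u 1) ∧ T.m (u 1) + T.m (u 3) ≤ 2 * T.m (u 2) ∧ T.m (u 2) + T.m (u 4) ≤ 2 * T.m (u 3) ∧ T.m (u 3) ≤ T.m (u 4))) := by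
  have hp : NumType.IsPath T (NumType.ext (fun j : Fin 5 => v j)) 4 :=
    NumType.isPath_ext (k := 4) _ v.injective hv fun i => by fin_cases i <;> assumption
  obtain ⟨hz, -, -, -⟩ := NumType.chain_class hp (by omega) (by omega)
  have z02 : T.a (v 0) (v 2) = 0 := by have := hz 0 2 (by omega) (by omega); rwa [NumType.ext_eq _ (by omega), NumType.ext_eq _ (by omega)] at this
  have z03 : T.a (v 0) (v 3) = 0 := by have := hz 0 3 (by omega) (by omega); rwa [NumType.ext_eq _ (by omega), NumType.ext_eq _ (by omega)] at this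
  have z04 : T.a (v 0) (v 4) = 0 := by have := hz 0 4 (by omega) (by omega); rwa [NumType.ext_eq _ (by omega), NumType.ext_eq _ (by omega)] at this
  have z13 : T.a (v 1) (v 3) = 0 := by have := hz 1 3 (by omega) (by omega); rwa [NumType.ext_eq _ (by omega), NumType.ext_eq _ (by omega)] at this
  have z14 : T.a (v 1) (v 4) = 0 := by have := hz 1 4 (by omega) (by omega); rwa [NumType.ext_eq _ (by omega), NumType.ext_eq _ (by omega)] at this
  have z24 : T.a (v 2) (v 4) = 0 := by have := hz 2 4 (by omega) (by omega); rwa [NumType.ext_eq _ (by omega), NumType.ext_eq _ (by omega)] at this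
  refine ⟨⟨z02, z03, z04, z13, z14, z24⟩, ?_⟩
  obtain ⟨u, hu, hup, hcase⟩ := NumType.chain_norm hp (by omega) (by omega)
  refine ⟨fun j => u j.val, ?_⟩
  have hor : (∀ j : Fin 5, u j.val = v j) ∨ (∀ j : Fin 5, u j.val = v (Fin.rev j)) := by
    rcases hu with rfl | rfl
    · exact Or.inl fun j => NumType.ext_eq _ (by omega)
    · exact Or.inr fun j => NumType.ext_rev (k := 4) _ j
  have ne : ∀ p q : ℕ, p ≤ 4 → q ≤ 4 → p ≠ q → u p ≠ u q := fun p q hp hq h => hup.ne hp hq h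
  have sy : ∀ p q : ℕ, T.a (u p) (u q) = T.a (u q) (u p) := fun p q => NumType.a_symm T _ _
  rcases hcase with ⟨hs, hl⟩ | h
  · obtain ⟨w, ⟨hw, ha⟩ | ⟨hw, hwr, ha, har⟩ | ⟨hw, hwr, ha⟩⟩ := NumType.chain_last hup (by omega) hs hl
    · refine ⟨w, hor, ?_⟩
      have w0 : T.w (u 0) = w := hw 0 (by omega)
      have w1 : T.w (u 1) = w := hw 1 (by omega)
      have w2 : T.w (u 2) = w := hw 2 (by omega)
      have w3 : T.w (u 3) = w := hw 3 (by omega)
      have w4 : T.w (u 4) = w := hw 4 (by omega)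
      have a0 : T.a (u 0) (u 1) = w := ha 0 (by omega)
      have a1 : T.a (u 1) (u 2) = w := ha 1 (by omega)
      have a2 : T.a (u 2) (u 3) = w := ha 2 (by omega)
      have a3 : T.a (u 3) (u 4) = w := ha 3 (by omega)
      have i0 := NumType.m_ineq1 T (hup.two 0 (by omega)) (k := 1) (ne 1 0 (by omega) (by omega) (by omega)) (by rw [a0, w0] <;> ring)
      have i1 := NumType.m_ineq2 T (hup.two 1 (by omega)) (k := 1) (k' := 1) (ne 0 1 (by omega) (by omega) (by omega)) (ne 2 1 (by omega) (by omega) (by omega)) (ne 0 2 (by omega) (by omega) (by omega)) (by rw [sy 1 0, a0, w1] <;> ring) (by rw [a1, w1] <;> ring)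
      have i2 := NumType.m_ineq2 T (hup.two 2 (by omega)) (k := 1) (k' := 1) (ne 1 2 (by omega) (by omega) (by omega)) (ne 3 2 (by omega) (by omega) (by omega)) (ne 1 3 (by omega) (by omega) (by omega)) (by rw [sy 2 1, a1, w2] <;> ring) (by rw [a2, w2] <;> ring)
      have i3 := NumType.m_ineq2 T (hup.two 3 (by omega)) (k := 1) (k' := 1) (ne 2 3 (by omega) (by omega) (by omega)) (ne 4 3 (by omega) (by omega) (by omega)) (ne 2 4 (by omega) (by omega) (by omega)) (by rw [sy 3 2, a2, w3] <;> ring) (by rw [a3, w3] <;> ring)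
      have i4 := NumType.m_ineq1 T (hup.two 4 (by omega)) (k := 1) (ne 3 4 (by omega) (by omega) (by omega)) (by rw [sy 4 3, a3, w4] <;> ring)
      refine Or.inl ?_; (repeat' constructor) <;> first | assumption | (simp only [Fin.val_zero, Fin.val_one, Fin.val_two, Fin.coe_ofNat_eq_mod, Nat.reduceMod, Fin.isValue]; linarith)
    · refine ⟨w, hor, ?_⟩
      have w0 : T.w (u 0) = w := hw 0 (by omega)
      have w1 : T.w (u 1) = w := hw 1 (by omega)
      have w2 : T.w (u 2) = w := hw 2 (by omega)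
      have w3 : T.w (u 3) = w := hw 3 (by omega)
      have w4 : T.w (u 4) = 2 * w := hwr
      have a0 : T.a (u 0) (u 1) = w := ha 0 (by omega) (by omega)
      have a1 : T.a (u 1) (u 2) = w := ha 1 (by omega) (by omega)
      have a2 : T.a (u 2) (u 3) = w := ha 2 (by omega) (by omega)
      have a3 : T.a (u 3) (u 4) = 2 * w := har
      have i0 := NumType.m_ineq1 T (hup.two 0 (by omega)) (k := 1) (ne 1 0 (by omega) (by omega) (by omega)) (by rw [a0, w0] <;> ring)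
      have i1 := NumType.m_ineq2 T (hup.two 1 (by omega)) (k := 1) (k' := 1) (ne 0 1 (by omega) (by omega) (by omega)) (ne 2 1 (by omega) (by omega) (by omega)) (ne 0 2 (by omega) (by omega) (by omega)) (by rw [sy 1 0, a0, w1] <;> ring) (by rw [a1, w1] <;> ring)
      have i2 := NumType.m_ineq2 T (hup.two 2 (by omega)) (k := 1) (k' := 1) (ne 1 2 (by omega) (by omega) (by omega)) (ne 3 2 (by omega) (by omega) (by omega)) (ne 1 3 (by omega) (by omega) (by omega)) (by rw [sy 2 1, a1, w2] <;> ring) (by rw [a2, w2] <;> ring)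
      have i3 := NumType.m_ineq2 T (hup.two 3 (by omega)) (k := 1) (k' := 2) (ne 2 3 (by omega) (by omega) (by omega)) (ne 4 3 (by omega) (by omega) (by omega)) (ne 2 4 (by omega) (by omega) (by omega)) (by rw [sy 3 2, a2, w3] <;> ring) (by rw [a3, w3] <;> ring)
      have i4 := NumType.m_ineq1 T (hup.two 4 (by omega)) (k := 1) (ne 3 4 (by omega) (by omega) (by omega)) (by rw [sy 4 3, a3, w4] <;> ring)
      refine Or.inr ?_; refine Or.inl ?_; (repeat' constructor) <;> first | assumption | (simp only [Fin.val_zero, Fin.val_one, Fin.val_two, Fin.coe_ofNat_eq_mod, Nat.reduceMod, Fin.isValue]; linarith)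
    · refine ⟨w, hor, ?_⟩
      have w0 : T.w (u 0) = 2 * w := hw 0 (by omega)
      have w1 : T.w (u 1) = 2 * w := hw 1 (by omega)
      have w2 : T.w (u 2) = 2 * w := hw 2 (by omega)
      have w3 : T.w (u 3) = 2 * w := hw 3 (by omega)
      have w4 : T.w (u 4) = w := hwr
      have a0 : T.a (u 0) (u 1) = 2 * w := ha 0 (by omega)
      have a1 : T.a (u 1) (u 2) = 2 * w := ha 1 (by omega)
      have a2 : T.a (u 2) (u 3) = 2 * w := ha 2 (by omega)
      have a3 : T.a (u 3) (u 4) = 2 * w := ha 3 (by omega)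
      have i0 := NumType.m_ineq1 T (hup.two 0 (by omega)) (k := 1) (ne 1 0 (by omega) (by omega) (by omega)) (by rw [a0, w0] <;> ring)
      have i1 := NumType.m_ineq2 T (hup.two 1 (by omega)) (k := 1) (k' := 1) (ne 0 1 (by omega) (by omega) (by omega)) (ne 2 1 (by omega) (by omega) (by omega)) (ne 0 2 (by omega) (by omega) (by omega)) (by rw [sy 1 0, a0, w1] <;> ring) (by rw [a1, w1] <;> ring)
      have i2 := NumType.m_ineq2 T (hup.two 2 (by omega)) (k := 1) (k' := 1) (ne 1 2 (by omega) (by omega) (by omega)) (ne 3 2 (by omega) (by omega) (by omega)) (ne 1 3 (by omega) (by omega) (by omega)) (by rw [sy 2 1, a1, w2] <;> ring) (by rw [a2, w2] <;> ring)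
      have i3 := NumType.m_ineq2 T (hup.two 3 (by omega)) (k := 1) (k' := 1) (ne 2 3 (by omega) (by omega) (by omega)) (ne 4 3 (by omega) (by omega) (by omega)) (ne 2 4 (by omega) (by omega) (by omega)) (by rw [sy 3 2, a2, w3] <;> ring) (by rw [a3, w3] <;> ring)
      have i4 := NumType.m_ineq1 T (hup.two 4 (by omega)) (k := 2) (ne 3 4 (by omega) (by omega) (by omega)) (by rw [sy 4 3, a3, w4] <;> ring)
      refine Or.inr ?_; refine Or.inr ?_; (repeat' constructor) <;> first | assumption | (simp only [Fin.val_zero, Fin.val_one, Fin.val_two, Fin.coe_ofNat_eq_mod, Nat.reduceMod, Fin.isValue]; linarith)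
  · omega

end Groth.Agent.S7353
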