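import Groth.Statements.S7354
import Groth.Agent.NumType.SubApp

set_option autoImplicit false
open Finset
open Models Models.NumericalType

namespace Groth.Agent.S7354

/-- Let T be a numerical type on n indices, t > 5 with n > t, and i_1, …, i_t distinct (-2)-indices with
a_{i_j i_{j+1}} nonzero for j = 1, …, t - 1. Then, after possibly reversing the order of the
indices, for some integer w either (A) w_{i_1} = … = w_{i_t} = w and a_{i_j i_{j+1}} = w for all j;
or (C) w_{i_1} = … = w_{i_{t-1}} = w, w_{i_t} = 2w, a_{i_j i_{j+1}} = w for j < t - 1 and a_{i_{t-1}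
i_t} = 2w; or (B) w_{i_1} = … = w_{i_{t-1}} = 2w, w_{i_t} = w and a_{i_j i_{j+1}} = 2w for all j;
and in every case a_{i_j i_k} = 0 whenever k > j + 1. -/
theorem result {n : ℕ} (T : Models.NumericalType n) (t : ℕ) (ht : 5 < t) (hn : t < n)
    (v : Fin t ↪ Fin n) (hv : ∀ j, T.IsMinusTwo (v j))
    (hchain : ∀ j j' : Fin t, j'.val = j.val + 1 → T.a (v j) (v j') ≠ 0) :
    ∃ (u : Fin t → Fin n) (w : ℤ), ((∀ j, u j = v j) ∨ (∀ j, u j = v (Fin.rev j))) ∧
      (∀ j k : Fin t, j.val + 1 < k.val → T.a (u j) (u k) = 0) ∧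
      ((∀ j : Fin t, T.w (u j) = w) ∧ (∀ j j' : Fin t, j'.val = j.val + 1 → T.a (u j) (u j') = w) ∨
        ((∀ j : Fin t, j.val + 1 < t → T.w (u j) = w) ∧ (∀ j : Fin t, j.val + 1 = t → T.w (u j) = 2 * w) ∧
          (∀ j j' : Fin t, j'.val = j.val + 1 → j'.val + 1 < t → T.a (u j) (u j') = w) ∧
          (∀ j j' : Fin t, j'.val = j.val + 1 → j'.val + 1 = t → T.a (u j) (u j') = 2 * w)) ∨
        ((∀ j : Fin t, j.val + 1 < t → T.w (u j) = 2 * w) ∧ (∀ j : Fin t, j.val + 1 = t → T.w (u j) = w) ∧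
          (∀ j j' : Fin t, j'.val = j.val + 1 → T.a (u j) (u j') = 2 * w))) := by
  obtain ⟨r, rfl⟩ : ∃ r, t = r + 1 := ⟨t - 1, by omega⟩
  have hp : NumType.IsPath T (NumType.ext (fun j => v j)) r :=
    NumType.isPath_ext _ v.injective hv fun i => hchain _ _ (by simp)
  obtain ⟨u, hu, hup, hcase⟩ := NumType.chain_norm hp (by omega) (by omega)
  obtain ⟨hz, -, -, -⟩ := NumType.chain_class hup (by omega) (by omega)
  refine ⟨fun j => u j.val, ?_⟩
  have hor : (∀ j : Fin (r + 1), u j.val = v j) ∨ (∀ j : Fin (r + 1), u j.val = v (Fin.rev j)) := by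
    rcases hu with rfl | rfl
    · exact Or.inl fun j => NumType.ext_eq _ (by omega)
    · exact Or.inr fun j => NumType.ext_rev _ j
  have hz' : ∀ j k : Fin (r + 1), j.val + 1 < k.val → T.a (u j.val) (u k.val) = 0 :=
    fun j k h => hz _ _ (by omega) (by omega)
  obtain ⟨hs, hl⟩ : _ ∧ _ := hcase.resolve_right (by omega)
  obtain ⟨w, ⟨hw, ha⟩ | ⟨hw, hwr, ha, har⟩ | ⟨hw, hwr, ha⟩⟩ := NumType.chain_last hup (by omega) hs hl
  · exact ⟨w, hor, hz', Or.inl ⟨fun j => hw _ (by omega), fun j j' e => by beta_reduce; rw [e]; exact ha _ (by omega)⟩⟩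
  · refine ⟨w, hor, hz', Or.inr (Or.inl ⟨fun j h => hw _ (by omega), fun j h => ?_, fun j j' e h => ?_, fun j j' e h => ?_⟩)⟩
    · beta_reduce; rw [show j.val = r by omega]; exact hwr
    · beta_reduce; rw [e]; exact ha _ (by omega) (by omega)
    · beta_reduce; rw [show j.val = r - 1 by omega, show j'.val = r by omega]; exact har
  · refine ⟨w, hor, hz', Or.inr (Or.inr ⟨fun j h => hw _ (by omega), fun j h => ?_, fun j j' e => ?_⟩)⟩
    · beta_reduce; rw [show j.val = r by omega]; exact hwr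
    · beta_reduce; rw [e]; exact ha _ (by omega)

end Groth.Agent.S7354
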