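import Groth.Statements.S7355
import Groth.Agent.NumType.SubApp

set_option autoImplicit false
open Finset
open Models Models.NumericalType

namespace Groth.Agent.S7355

/-- Classification of proper subgraphs of type D: let T be a numerical type on n indices, t > 4 with n >
t + 1, and i_1, …, i_{t+1} distinct (-2)-indices such that a_{i_j i_{j+1}} is nonzero for j = 1, …,
t - 1 and a_{i_{t-1} i_{t+1}} is nonzero. Then for some integer w one has w_{i_1} = … = w_{i_{t+1}}
= w, a_{i_j i_{j+1}} = w for j < t, a_{i_{t-1} i_{t+1}} = w, and a_{i_j i_k} = 0 for all other pairs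
j ≠ k. -/
theorem result {n : ℕ} (T : Models.NumericalType n) (t : ℕ) (ht : 4 < t) (hn : t + 1 < n)
    (v : Fin (t + 1) ↪ Fin n) (hv : ∀ j, T.IsMinusTwo (v j))
    (hchain : ∀ j j' : Fin (t + 1), j'.val = j.val + 1 → j'.val < t → T.a (v j) (v j') ≠ 0)
    (hbranch : ∀ j j' : Fin (t + 1), j.val + 2 = t → j'.val = t → T.a (v j) (v j') ≠ 0) :
    ∃ w : ℤ, (∀ j : Fin (t + 1), T.w (v j) = w) ∧
      (∀ j j' : Fin (t + 1), j'.val = j.val + 1 → j'.val < t → T.a (v j) (v j') = w) ∧
      (∀ j j' : Fin (t + 1), j.val + 2 = t → j'.val = t → T.a (v j) (v j') = w) ∧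
      (∀ j k : Fin (t + 1), j.val < k.val → ¬ (k.val = j.val + 1 ∧ k.val < t) → ¬ (j.val + 2 = t ∧ k.val = t) →
        T.a (v j) (v k) = 0) := by
  obtain ⟨r, rfl⟩ : ∃ r, t = r + 1 := ⟨t - 1, by omega⟩
  set p := NumType.ext (fun j : Fin (r + 1) => v j.castSucc) with hpdef
  have hval : ∀ j : Fin (r + 1 + 1), j.val ≤ r → p j.val = v j := fun j hj => by
    rw [hpdef, NumType.ext_eq _ hj]; rfl
  have hp : NumType.IsPath T p r := NumType.isPath_ext (k := r) _
    (v.injective.comp (Fin.castSucc_injective _)) (fun j => hv _) fun i =>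
      hchain _ _ (by simp) (by simp only [Fin.val_castSucc, Fin.val_succ]; omega)
  set u := v (Fin.last (r + 1)) with hu
  have hlast : ∀ j : Fin (r + 1 + 1), ¬ j.val ≤ r → v j = u := fun j hj => by
    rw [hu]; congr 1; ext; simp; omega
  have hu' : ∀ k ≤ r, p k ≠ u := fun k hk e => by
    rw [show k = (⟨k, by omega⟩ : Fin (r + 1 + 1)).val from rfl, hval _ hk] at e
    have := congrArg Fin.val (v.injective e)
    simp at this; omega
  have hb : 0 < T.a (p (r - 1)) u := by
    refine NumType.a_pos T (hu' _ (by omega)) ?_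
    rw [show r - 1 = (⟨r - 1, by omega⟩ : Fin (r + 1 + 1)).val from rfl, hval _ (by simp)]
    exact hbranch _ _ (by simp; omega) (by simp)
  obtain ⟨hw, ha, hau, hz, hzu⟩ := NumType.branch hp (b := r - 1) (by omega) (by omega) (hv _) hu' hb (by omega)
  refine ⟨T.w u, fun j => ?_, fun j j' e h => ?_, fun j j' e h => ?_, fun j k hjk h1 h2 => ?_⟩
  · by_cases h : j.val ≤ r
    · rw [← hval j h]; exact hw _ h
    · rw [hlast j h]
  · rw [← hval j (by omega), ← hval j' (by omega), e]; exact ha _ (by omega)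
  · rw [← hval j (by omega), hlast j' (by omega), show j.val = r - 1 by omega]; exact hau
  · by_cases h : k.val ≤ r
    · rw [← hval j (by omega), ← hval k h]
      exact hz _ _ (by omega) (by omega)
    · rw [← hval j (by omega), hlast k h]
      exact hzu _ (by omega) (by omega)

end Groth.Agent.S7355
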