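import Groth.Statements.S7357
import Mathlib.LinearAlgebra.ExteriorAlgebra.Grading


set_option autoImplicit false
universe u
open Polynomial
open Resolve

namespace Groth.Agent.S7357

section aux

open TensorProduct

variable {R S V : Type u} [CommRing R] [CommRing S] [Algebra R S] [AddCommGroup V] [Module R V]

variable (R S V) in
/-- The coefficient-extended exterior algebra. -/
abbrev EA := S ⊗[R] ExteriorAlgebra R V

/-- The degree one embedding into the coefficient-extended exterior algebra. -/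
noncomputable def jm : S ⊗[R] V →ₗ[S] EA R S V :=
  (ExteriorAlgebra.ι R).baseChange S

lemma jm_tmul (s : S) (v : V) :
    jm (s ⊗ₜ[R] v) = s ⊗ₜ[R] ExteriorAlgebra.ι R v := by
  simp [jm]

lemma jm_anticomm (x y : S ⊗[R] V) : jm x * jm y + jm y * jm x = 0 := by
  induction x using TensorProduct.induction_on with
  | zero => simp
  | add a b ha hb =>
    rw [map_add, add_mul, mul_add]
    linear_combination (norm := abel) ha + hb
  | tmul s v =>
    induction y using TensorProduct.induction_on with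
    | zero => simp
    | add a b ha hb =>
      rw [map_add, add_mul, mul_add]
      linear_combination (norm := abel) ha + hb
    | tmul s' v' =>
      rw [jm_tmul, jm_tmul, Algebra.TensorProduct.tmul_mul_tmul,
        Algebra.TensorProduct.tmul_mul_tmul, mul_comm s' s, ← TensorProduct.tmul_add,
        ExteriorAlgebra.ι_add_mul_swap, TensorProduct.tmul_zero]

lemma jm_sq (x : S ⊗[R] V) : jm x * jm x = 0 := by
  induction x using TensorProduct.induction_on with
  | zero => simp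
  | tmul s v => rw [jm_tmul, Algebra.TensorProduct.tmul_mul_tmul, ExteriorAlgebra.ι_sq_zero,
      TensorProduct.tmul_zero]
  | add a b ha hb =>
    rw [map_add, add_mul, mul_add, mul_add]
    linear_combination (norm := abel) ha + hb + jm_anticomm a b

variable (R S) in
/-- Multiples of the distinguished degree one element. -/
noncomputable abbrev Wv (v₀ : V) : Submodule S (EA R S V) :=
  LinearMap.range (LinearMap.mulLeft S (jm ((1 : S) ⊗ₜ[R] v₀)))

lemma jm_mul_mem (v₀ : V) (m : S ⊗[R] V) (w : EA R S V) (hw : w ∈ Wv R S v₀) :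
    jm m * w ∈ Wv R S v₀ := by
  obtain ⟨e, rfl⟩ := hw
  refine ⟨-(jm m * e), ?_⟩
  rw [LinearMap.mulLeft_apply, LinearMap.mulLeft_apply, mul_neg, ← mul_assoc, ← mul_assoc,
    eq_neg_of_add_eq_zero_left (jm_anticomm m ((1 : S) ⊗ₜ[R] v₀)), neg_mul]

lemma jm_v₀_mul (v₀ : V) (w : EA R S V) (hw : w ∈ Wv R S v₀) :
    jm ((1 : S) ⊗ₜ[R] v₀) * w = 0 := by
  obtain ⟨e, rfl⟩ := hw
  rw [LinearMap.mulLeft_apply, ← mul_assoc, jm_sq, zero_mul]

/-- Left multiplication by degree one elements on the multiples of the distinguished element. -/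
noncomputable def Lmap (v₀ : V) : S ⊗[R] V →ₗ[S] Module.End S (Wv R S v₀) where
  toFun m := (LinearMap.mulLeft S (jm m)).restrict (fun w hw => jm_mul_mem v₀ m w hw)
  map_add' m n := by
    refine LinearMap.ext fun w => Subtype.ext ?_
    change jm (m + n) * (w : EA R S V) = jm m * (w : EA R S V) + jm n * (w : EA R S V)
    rw [map_add, add_mul]
  map_smul' s m := by
    refine LinearMap.ext fun w => Subtype.ext ?_
    change jm (s • m) * (w : EA R S V) = s • (jm m * (w : EA R S V))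
    rw [map_smul, smul_mul_assoc]

variable (R S) in
/-- The quotient by the distinguished element. -/
abbrev MQ (v₀ : V) := (S ⊗[R] V) ⧸ Submodule.span S {((1 : S) ⊗ₜ[R] v₀)}

lemma Lmap_v₀ (v₀ : V) : Lmap v₀ ((1 : S) ⊗ₜ[R] v₀) = 0 := by
  refine LinearMap.ext fun w => Subtype.ext ?_
  exact jm_v₀_mul v₀ (w : EA R S V) w.2

/-- The induced action of the quotient. -/
noncomputable def Lq (v₀ : V) : MQ R S v₀ →ₗ[S] Module.End S (Wv R S v₀) :=
  Submodule.liftQSpanSingleton (R₂ := S) (M₂ := Wv R S v₀ →ₗ[S] Wv R S v₀)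
    (τ₁₂ := RingHom.id S) ((1 : S) ⊗ₜ[R] v₀) (Lmap v₀) (Lmap_v₀ v₀)

variable (R S) in
/-- The action of `M' × S` on pairs. -/
noncomputable def gAct (v₀ : V) :
    MQ R S v₀ × S →ₗ[S] Module.End S (Wv R S v₀ × Wv R S v₀) :=
  LinearMap.coprod
    ({ toFun := fun φ => LinearMap.prodMap (-φ) φ
       map_add' := fun φ φ' => LinearMap.ext fun x => Prod.ext (by simp [add_comm]) (by simp)
       map_smul' := fun s φ => LinearMap.ext fun x => Prod.ext (by simp) (by simp) } ∘ₗ Lq v₀)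
    (LinearMap.toSpanSingleton S _
      ((LinearMap.inr S (Wv R S v₀) (Wv R S v₀)) ∘ₗ LinearMap.fst S (Wv R S v₀) (Wv R S v₀)))

lemma gAct_apply (v₀ : V) (m : MQ R S v₀) (s : S) (x : Wv R S v₀ × Wv R S v₀) :
    gAct R S v₀ (m, s) x = (-(Lq v₀ m x.1), Lq v₀ m x.2 + s • x.1) := by
  refine Prod.ext ?_ ?_ <;> simp [gAct]

lemma Lq_mk_apply (v₀ : V) (m : S ⊗[R] V) (w : Wv R S v₀) :
    ((Lq v₀ (Submodule.Quotient.mk m) w : Wv R S v₀) : EA R S V) = jm m * (w : EA R S V) :=
  rfl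

lemma Lq_sq (v₀ : V) (m : MQ R S v₀) (w : Wv R S v₀) : Lq v₀ m (Lq v₀ m w) = 0 := by
  induction m using Submodule.Quotient.induction_on with
  | _ m =>
    refine Subtype.ext ?_
    rw [Lq_mk_apply, Lq_mk_apply, ← mul_assoc, jm_sq, zero_mul]
    rfl

lemma gAct_sq (v₀ : V) (x : MQ R S v₀ × S) : gAct R S v₀ x * gAct R S v₀ x = 0 := by
  obtain ⟨m, s⟩ := x
  refine LinearMap.ext fun y => ?_
  rw [Module.End.mul_apply, gAct_apply, gAct_apply]
  simp [Lq_sq]

end aux

section main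

open TensorProduct

variable (p : ℕ) (Λ R : Type u) [CommRing Λ] [CommRing R] [Algebra Λ R] (a : R)

local notation "S" => AdjoinRoot (X ^ p - C a : R[X])

/-- The distinguished differential. -/
noncomputable abbrev da : Ω[R⁄Λ] := KaehlerDifferential.D Λ R a

/-- The square zero extension receiving `R`. -/
noncomputable def liftR :
    R →+* TrivSqZeroExt S (MQ R S (da Λ R a) × S) where
  toFun r := TrivSqZeroExt.inl (algebraMap R S r) +
    TrivSqZeroExt.inr (Submodule.Quotient.mk ((1 : S) ⊗ₜ[R] KaehlerDifferential.D Λ R r), 0)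
  map_one' := by
    ext <;> simp
  map_zero' := by
    ext <;> simp
  map_add' r r' := by
    ext <;> simp [TensorProduct.tmul_add]
  map_mul' r r' := by
    refine TrivSqZeroExt.ext (by simp) ?_
    simp only [TrivSqZeroExt.snd_add, TrivSqZeroExt.snd_inl, TrivSqZeroExt.snd_inr, zero_add,
      TrivSqZeroExt.snd_mul, TrivSqZeroExt.fst_add, TrivSqZeroExt.fst_inl, TrivSqZeroExt.fst_inr,
      add_zero, op_smul_eq_smul, Prod.smul_mk, smul_zero, Prod.mk_add_mk, Prod.mk.injEq,
      and_true, ← Submodule.Quotient.mk_smul, ← Submodule.Quotient.mk_add, Derivation.leibniz,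
      TensorProduct.tmul_add, TensorProduct.tmul_smul, algebraMap_smul]

lemma liftR_eval [CharP R p] :
    (X ^ p - C a : R[X]).eval₂ (liftR p Λ R a)
      (TrivSqZeroExt.inl (AdjoinRoot.root (X ^ p - C a)) + TrivSqZeroExt.inr (0, 1)) = 0 := by
  have hroot : (AdjoinRoot.root (X ^ p - C a) : S) ^ p = algebraMap R S a := by
    have h := AdjoinRoot.eval₂_root (X ^ p - C a : R[X])
    rwa [eval₂_sub, eval₂_pow, eval₂_X, eval₂_C, sub_eq_zero, ← AdjoinRoot.algebraMap_eq] at h
  have hp0 : (p : S) = 0 := by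
    rw [← map_natCast (algebraMap R S) p, CharP.cast_eq_zero R p, map_zero]
  rw [eval₂_sub, eval₂_pow, eval₂_X, eval₂_C, sub_eq_zero]
  refine TrivSqZeroExt.ext ?_ ?_
  · simp [liftR, TrivSqZeroExt.fst_pow, hroot]
  · rw [TrivSqZeroExt.snd_pow, ← Nat.cast_smul_eq_nsmul S, hp0, zero_smul]
    have hq : (Submodule.Quotient.mk ((1 : S) ⊗ₜ[R] da Λ R a) : MQ R S (da Λ R a)) = 0 :=
      (Submodule.Quotient.mk_eq_zero _).mpr (Submodule.subset_span rfl)
    simp [liftR, hq, Prod.mk_zero_zero]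

/-- The ring map describing the derivation of `S`. -/
noncomputable def phiS [CharP R p] : S →+* TrivSqZeroExt S (MQ R S (da Λ R a) × S) :=
  AdjoinRoot.lift (liftR p Λ R a) _ (liftR_eval p Λ R a)

lemma fst_phiS [CharP R p] (s : S) : (phiS p Λ R a s).fst = s := by
  induction s using AdjoinRoot.induction_on with
  | _ q =>
    rw [phiS, AdjoinRoot.lift_mk]
    induction q using Polynomial.induction_on' with
    | add f g hf hg => rw [eval₂_add, TrivSqZeroExt.fst_add, hf, hg, map_add]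
    | monomial n r =>
      rw [eval₂_monomial, TrivSqZeroExt.fst_mul, TrivSqZeroExt.fst_pow, ← C_mul_X_pow_eq_monomial,
        map_mul, map_pow, AdjoinRoot.mk_X, AdjoinRoot.mk_C]
      simp [liftR]

lemma phiS_algebraMap [CharP R p] (r : R) :
    phiS p Λ R a (algebraMap R S r) = liftR p Λ R a r := by
  rw [phiS, AdjoinRoot.algebraMap_eq, AdjoinRoot.lift_of]

/-- The derivation of `S` with values in `M' × S`. -/
noncomputable def derS [CharP R p] : Derivation Λ S (MQ R S (da Λ R a) × S) where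
  toFun s := (phiS p Λ R a s).snd
  map_add' s s' := by rw [map_add, TrivSqZeroExt.snd_add]
  map_smul' l s := by
    rw [RingHom.id_apply, Algebra.smul_def, map_mul, TrivSqZeroExt.snd_mul, fst_phiS, fst_phiS,
      op_smul_eq_smul, IsScalarTower.algebraMap_apply Λ R S l, phiS_algebraMap]
    have h0 : KaehlerDifferential.D Λ R (algebraMap Λ R l) = 0 := Derivation.map_algebraMap _ l
    simp [liftR, h0, Prod.mk_zero_zero, ← AdjoinRoot.algebraMap_eq,
      ← IsScalarTower.algebraMap_apply Λ R S l, algebraMap_smul]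
  map_one_eq_zero' := by
    change (phiS p Λ R a 1).snd = 0
    rw [map_one, TrivSqZeroExt.snd_one]
  leibniz' s s' := by
    change (phiS p Λ R a (s * s')).snd =
      s • (phiS p Λ R a s').snd + s' • (phiS p Λ R a s).snd
    rw [map_mul, TrivSqZeroExt.snd_mul, fst_phiS, fst_phiS, op_smul_eq_smul]

/-- The comparison map on differentials. -/
noncomputable def psi [CharP R p] : Ω[S⁄Λ] →ₗ[S] MQ R S (da Λ R a) × S :=
  (derS p Λ R a).liftKaehlerDifferential

lemma psi_map [CharP R p] (η : Ω[R⁄Λ]) :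
    psi p Λ R a (KaehlerDifferential.map Λ Λ R S η) =
      (Submodule.Quotient.mk ((1 : S) ⊗ₜ[R] η), 0) := by
  have hmem : η ∈ Submodule.span R (Set.range (KaehlerDifferential.D Λ R)) := by
    rw [KaehlerDifferential.span_range_derivation]; trivial
  induction hmem using Submodule.span_induction with
  | mem x hx =>
    obtain ⟨r, rfl⟩ := hx
    rw [KaehlerDifferential.map_D, psi, Derivation.liftKaehlerDifferential_comp_D]
    change (phiS p Λ R a (algebraMap R S r)).snd = _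
    rw [phiS_algebraMap]
    simp [liftR]
  | zero => simp [Prod.mk_zero_zero]
  | add x y _ _ hx hy => simp [hx, hy, TensorProduct.tmul_add]
  | smul r x _ hx =>
    rw [map_smul, ← algebraMap_smul S r, map_smul, hx, Prod.smul_mk, smul_zero,
      ← Submodule.Quotient.mk_smul, TensorProduct.tmul_smul, algebraMap_smul]

lemma psi_root [CharP R p] :
    psi p Λ R a (KaehlerDifferential.D Λ S (AdjoinRoot.root (X ^ p - C a))) = (0, 1) := by
  rw [psi, Derivation.liftKaehlerDifferential_comp_D]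
  change (phiS p Λ R a (AdjoinRoot.root (X ^ p - C a))).snd = _
  rw [phiS, AdjoinRoot.lift_root]
  simp

/-- The algebra map to endomorphisms. -/
noncomputable def GAlg [CharP R p] :
    ExteriorAlgebra S (Ω[S⁄Λ]) →ₐ[S] Module.End S (Wv R S (da Λ R a) × Wv R S (da Λ R a)) :=
  ExteriorAlgebra.lift S ⟨gAct R S (da Λ R a) ∘ₗ psi p Λ R a, fun m => gAct_sq _ _⟩

lemma GAlg_ι [CharP R p] (m : Ω[S⁄Λ]) :
    GAlg p Λ R a (ExteriorAlgebra.ι S m) = gAct R S (da Λ R a) (psi p Λ R a m) :=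
  ExteriorAlgebra.lift_ι_apply S _ _ m

set_option maxHeartbeats 3200000 in
lemma GAlg_map [CharP R p] (n : ℕ) (η : Fin n → Ω[R⁄Λ])
    (x : Wv R S (da Λ R a) × Wv R S (da Λ R a)) :
    ((GAlg p Λ R a (ExteriorAlgebra.ιMulti S n
      (fun j => KaehlerDifferential.map Λ Λ R S (η j))) x).2 : EA R S Ω[R⁄Λ]) =
      ((1 : S) ⊗ₜ[R] ExteriorAlgebra.ιMulti R n η) * (x.2 : EA R S Ω[R⁄Λ]) := by
  induction n with
  | zero =>
    rw [ExteriorAlgebra.ιMulti_zero_apply, ExteriorAlgebra.ιMulti_zero_apply, map_one,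
      Module.End.one_apply, ← Algebra.TensorProduct.one_def, one_mul]
  | succ n ih =>
    rw [ExteriorAlgebra.ιMulti_succ_apply, map_mul, Module.End.mul_apply, GAlg_ι, psi_map,
      gAct_apply]
    simp only [zero_smul, add_zero]
    rw [Lq_mk_apply, ExteriorAlgebra.ιMulti_succ_apply]
    have hv : Matrix.vecTail (fun j => KaehlerDifferential.map Λ Λ R S (η j)) =
      fun j => KaehlerDifferential.map Λ Λ R S (Matrix.vecTail η j) := rfl
    rw [hv, ih, ← mul_assoc, jm_tmul, Algebra.TensorProduct.tmul_mul_tmul, one_mul]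

lemma ιMulti_snoc {A M : Type u} [CommRing A] [AddCommGroup M] [Module A M] (n : ℕ)
    (v : Fin n → M) (y : M) :
    ExteriorAlgebra.ιMulti A (n + 1) (Fin.snoc v y) =
      ExteriorAlgebra.ιMulti A n v * ExteriorAlgebra.ι A y := by
  rw [ExteriorAlgebra.ιMulti_apply, ExteriorAlgebra.ιMulti_apply, List.ofFn_succ', List.prod_concat]
  simp

/-- The starting vector. -/
noncomputable def start : Wv R S (da Λ R a) × Wv R S (da Λ R a) :=
  (⟨jm ((1 : S) ⊗ₜ[R] da Λ R a), 1, mul_one _⟩, 0)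

/-- The map before taking coefficients. -/
noncomputable def rho [CharP R p] (n : ℕ) : (⋀[S]^n Ω[S⁄Λ]) →ₗ[S] EA R S Ω[R⁄Λ] :=
  (Wv R S (da Λ R a)).subtype ∘ₗ LinearMap.snd S (Wv R S (da Λ R a)) (Wv R S (da Λ R a)) ∘ₗ
    LinearMap.applyₗ (start p Λ R a) ∘ₗ (GAlg p Λ R a).toLinearMap ∘ₗ
    (⋀[S]^n Ω[S⁄Λ]).subtype

lemma rho_map [CharP R p] (n : ℕ) (η : Fin n → Ω[R⁄Λ]) :
    rho p Λ R a n (exteriorPower.ιMulti S n (fun j => KaehlerDifferential.map Λ Λ R S (η j))) =
      0 := by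
  refine (GAlg_map p Λ R a n η _).trans ?_
  simp [start]

set_option maxHeartbeats 3200000 in
lemma rho_snoc [CharP R p] (t : ℕ) (η : Fin t → Ω[R⁄Λ]) (s : S) :
    rho p Λ R a (t + 1) (exteriorPower.ιMulti S (t + 1)
      (Fin.snoc (fun j => KaehlerDifferential.map Λ Λ R S (η j))
        (s • KaehlerDifferential.D Λ S (AdjoinRoot.root (X ^ p - C a))))) =
      s ⊗ₜ[R] ExteriorAlgebra.ιMulti R (t + 1) (Fin.snoc η (da Λ R a)) := by
  change ((GAlg p Λ R a (ExteriorAlgebra.ιMulti S (t + 1) (Fin.snoc _ _))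
    (start p Λ R a)).2 : EA R S Ω[R⁄Λ]) = _
  rw [ιMulti_snoc, map_mul, Module.End.mul_apply, GAlg_map, ιMulti_snoc]
  rw [GAlg_ι, map_smul, psi_root,
    Prod.smul_mk, smul_zero, gAct_apply]
  simp only [map_zero, LinearMap.zero_apply, zero_add, smul_eq_mul, mul_one, start,
    Submodule.coe_smul, jm_tmul]
  rw [TensorProduct.smul_tmul', smul_eq_mul, mul_one, Algebra.TensorProduct.tmul_mul_tmul,
    one_mul]

/-- The coefficient of `x ^ (p - 1)`. -/
noncomputable def topCoeff (hp : p ≠ 0) : S →ₗ[R] R :=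
  lcoeff R (p - 1) ∘ₗ AdjoinRoot.modByMonicHom (monic_X_pow_sub_C a hp)

lemma topCoeff_root (hp : p ≠ 0) [Nontrivial R] (i : ℕ) (hi : i < p) :
    topCoeff p R a hp (AdjoinRoot.root (X ^ p - C a) ^ i) = if p - 1 = i then 1 else 0 := by
  rw [topCoeff, LinearMap.comp_apply, ← AdjoinRoot.mk_X, ← map_pow,
    AdjoinRoot.modByMonicHom_mk,
    (Polynomial.modByMonic_eq_self_iff (monic_X_pow_sub_C a hp)).mpr, lcoeff_apply, coeff_X_pow]
  rw [degree_X_pow, degree_X_pow_sub_C (Nat.pos_of_ne_zero hp)]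
  exact_mod_cast hi

/-- Taking coefficients and the degree `n` part. -/
noncomputable def sig (hp : p ≠ 0) (n : ℕ) : EA R S Ω[R⁄Λ] →ₗ[R] (⋀[R]^n Ω[R⁄Λ]) :=
  DirectSum.component R ℕ (fun i => (⋀[R]^i Ω[R⁄Λ] : Submodule R _)) n ∘ₗ
    (DirectSum.decomposeLinearEquiv (fun i => ⋀[R]^i Ω[R⁄Λ])).toLinearMap ∘ₗ
    (TensorProduct.lid R (ExteriorAlgebra R Ω[R⁄Λ])).toLinearMap ∘ₗ
    (topCoeff p R a hp).rTensor _

lemma sig_tmul (hp : p ≠ 0) (n : ℕ) (s : S) (v : Fin n → Ω[R⁄Λ]) :
    sig p Λ R a hp n (s ⊗ₜ[R] ExteriorAlgebra.ιMulti R n v) =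
      topCoeff p R a hp s • exteriorPower.ιMulti R n v := by
  have h : sig p Λ R a hp n (s ⊗ₜ[R] ExteriorAlgebra.ιMulti R n v) =
      (DirectSum.decompose (fun i => ⋀[R]^i Ω[R⁄Λ])
        ((topCoeff p R a hp s • exteriorPower.ιMulti R n v : ⋀[R]^n Ω[R⁄Λ]) :
          ExteriorAlgebra R Ω[R⁄Λ])) n := by
    simp [sig, DirectSum.component, DirectSum.decomposeLinearEquiv]
    rfl
  rw [h, DirectSum.decompose_coe, DirectSum.of_eq_same]

end main


/-- Let p be a prime number, Λ → R a ring map with R of characteristic p, a ∈ R and S = R[x]/(x^p - a).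
For every t ≥ 0 there is a canonical R-linear map Tr : Ω^{t+1}_{S/Λ} → Ω^{t+1}_{R/Λ} with η_1 ∧ … ∧
η_t ∧ x^i dx ↦ 0 for 0 ≤ i ≤ p - 2 and η_1 ∧ … ∧ η_t ∧ x^{p-1} dx ↦ η_1 ∧ … ∧ η_t ∧ da (η_j ∈
Ω_{R/Λ}, pulled back to Ω_{S/Λ}), and Tr annihilates the image of S ⊗_R Ω^{t+1}_{R/Λ} →
Ω^{t+1}_{S/Λ}. (Existence of such a map is asserted; R-linearity is written through the R-action on
S.) -/
theorem result (p : ℕ) [Fact p.Prime] (Λ R : Type u) [CommRing Λ] [CommRing R] [Algebra Λ R]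
    [CharP Λ p] [CharP R p] (a : R) (t : ℕ) :
    ∃ Tr : (⋀[AdjoinRoot (X ^ p - C a : R[X])]^(t + 1) (Ω[AdjoinRoot (X ^ p - C a : R[X])⁄Λ])) →+ (⋀[R]^(t + 1) (Ω[R⁄Λ])),
      (∀ (r : R) (ω : ⋀[AdjoinRoot (X ^ p - C a : R[X])]^(t + 1) (Ω[AdjoinRoot (X ^ p - C a : R[X])⁄Λ])),
        Tr (algebraMap R (AdjoinRoot (X ^ p - C a : R[X])) r • ω) = r • Tr ω) ∧
      (∀ (η : Fin t → Ω[R⁄Λ]) (i : ℕ), i + 2 ≤ p →
        Tr (exteriorPower.ιMulti _ (t + 1) (Fin.snoc (fun j => KaehlerDifferential.map Λ Λ R (AdjoinRoot (X ^ p - C a : R[X])) (η j))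
          (AdjoinRoot.root (X ^ p - C a) ^ i • KaehlerDifferential.D Λ _ (AdjoinRoot.root (X ^ p - C a))))) = 0) ∧
      (∀ (η : Fin t → Ω[R⁄Λ]),
        Tr (exteriorPower.ιMulti _ (t + 1) (Fin.snoc (fun j => KaehlerDifferential.map Λ Λ R (AdjoinRoot (X ^ p - C a : R[X])) (η j))
          (AdjoinRoot.root (X ^ p - C a) ^ (p - 1) • KaehlerDifferential.D Λ _ (AdjoinRoot.root (X ^ p - C a))))) =
          exteriorPower.ιMulti R (t + 1) (Fin.snoc η (KaehlerDifferential.D Λ R a))) ∧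
      (∀ (s : AdjoinRoot (X ^ p - C a : R[X])) (η : Fin (t + 1) → Ω[R⁄Λ]),
        Tr (s • exteriorPower.ιMulti _ (t + 1) (fun j => KaehlerDifferential.map Λ Λ R (AdjoinRoot (X ^ p - C a : R[X])) (η j))) = 0) := by
  have hp : p ≠ 0 := (Fact.out : p.Prime).ne_zero
  haveI : Nontrivial R := CharP.nontrivial_of_char_ne_one (Fact.out : p.Prime).ne_one
  refine ⟨((sig p Λ R a hp (t + 1)).toAddMonoidHom.comp
    (rho p Λ R a (t + 1)).toAddMonoidHom), ?_, ?_, ?_, ?_⟩
  · intro r ω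
    simp only [AddMonoidHom.coe_comp, LinearMap.toAddMonoidHom_coe, Function.comp_apply]
    rw [map_smul, algebraMap_smul, map_smul]
  · intro η i hi
    simp only [AddMonoidHom.coe_comp, LinearMap.toAddMonoidHom_coe, Function.comp_apply,
      rho_snoc, sig_tmul]
    rw [topCoeff_root p R a hp i (by omega), if_neg (by omega), zero_smul]
  · intro η
    simp only [AddMonoidHom.coe_comp, LinearMap.toAddMonoidHom_coe, Function.comp_apply,
      rho_snoc, sig_tmul]
    rw [topCoeff_root p R a hp (p - 1) (by omega), if_pos rfl, one_smul]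
  · intro s η
    simp only [AddMonoidHom.coe_comp, LinearMap.toAddMonoidHom_coe, Function.comp_apply, map_smul,
      rho_map, smul_zero, map_zero]

end Groth.Agent.S7357
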