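import Groth.Statements.S7359
import Groth.Agent.BlowUpProper.Basic
import Groth.Agent.Curv2Norm.Basic
import Groth.Agent.S9688
import Groth.Agent.EtConsAb.QFinPush
import Groth.Agent.Props.N2Local

set_option linter.style.haveILetI false

set_option autoImplicit false
universe u
open CategoryTheory CategoryTheory.Limits AlgebraicGeometry
open Resolve

namespace Groth.Agent.S7359

/-- Let X be an integral locally Noetherian Nagata scheme (every affine open has a Nagata coordinate
ring), x ∈ X a closed point, b : X' → X the blowing up of X at x (in the reduced point; X' is again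
integral) and X'' → X' the normalization of X'. Then the normalized blowing up X'' is a normal
scheme, is Nagata, and X'' → X is proper. (The quasi-compactness and quasi-separatedness binders on
Spec K(X') → X' always hold; they are needed only to form the normalization.) -/
theorem result (X : Scheme.{u}) [IsIntegral X] [IsLocallyNoetherian X]
    (hN : ∀ U : X.affineOpens, CAlg.IsNagata Γ(X, U.1)) (x : X) (hx : IsClosed ({x} : Set X))
    (X' : Scheme.{u}) (b : X' ⟶ X) (hb : BlowUp.IsBlowUp b (Scheme.IdealSheafData.vanishingIdeal ⟨{x}, hx⟩)) [IsIntegral X']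
    [QuasiCompact (X'.fromSpecStalk (genericPoint X'))] [QuasiSeparated (X'.fromSpecStalk (genericPoint X'))] :
    Pi1.IsNormalScheme (Curv2.normalization X') ∧
      (∀ U : (Curv2.normalization X').affineOpens, CAlg.IsNagata Γ(Curv2.normalization X', U.1)) ∧
      IsProper (Curv2.normalizationι X' ≫ b) := by
  haveI : IsProper b := BlowUpProper.Basic.isProper hb fun U =>
    haveI := IsLocallyNoetherian.component_noetherian U; Ideal.fg_of_isNoetherianRing _
  have hU : ∀ U : X.Opens, IsAffineOpen U → CAlg.IsUniversallyJapanese Γ(X, U) := fun U hU' =>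
    ((Groth.Agent.S0567.result _).1 (hN ⟨U, hU'⟩)).2
  haveI : IsFinite (Curv2.normalizationι X') := Groth.Agent.S9688.result X' fun U hU' hne => by
    haveI := hne
    haveI : IsDomain Γ(X', U) := @IsIntegral.component_integral X' _ U hne
    haveI : (⊥ : Ideal Γ(X', U)).IsPrime := Ideal.isPrime_bot
    exact Props.N2Local.isN2_of_ringEquiv (RingEquiv.quotientBot Γ(X', U))
      ((EtConsAb.isNagata_affineOpens hU b ⟨U, hU'⟩).2 ⊥)
  exact ⟨fun x => Curv2Norm.isDomain_isIntegrallyClosed_stalk X' x,
    fun U => EtConsAb.isNagata_affineOpens hU (Curv2.normalizationι X' ≫ b) U,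
    inferInstance⟩

end Groth.Agent.S7359
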