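import Groth.Statements.S7362
import Groth.Agent.NumType.Shapes
import Groth.Agent.NumType.Sub
import Groth.Agent.NumType.Genus

set_option autoImplicit false
open Finset
open Models Models.NumericalType

namespace Groth.Agent.S7362

/-- Genus one classification: case n = 2: let T be a minimal numerical type of genus 1 on two indices.
Then for some ordering i, j of the indices and some integers m, w, either m_i = m_j = m, a_ii = a_jj
= -2w, a_ij = 2w, w_i = w_j = w, g_i = g_j = 0; or m_i = 2m, m_j = m, a_ii = -2w, a_ij = 4w, a_jj =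
-8w, w_i = w, w_j = 4w, g_i = g_j = 0. Only the classification direction is stated. -/
theorem result (T : Models.NumericalType 2) (hmin : T.IsMinimal) (hg : T.genus = 1) :
    ∃ (i j : Fin 2) (m w : ℤ), i ≠ j ∧ T.g i = 0 ∧ T.g j = 0 ∧
      ((T.m i = m ∧ T.m j = m ∧ T.a i i = -2 * w ∧ T.a i j = 2 * w ∧ T.a j j = -2 * w ∧ T.w i = w ∧ T.w j = w) ∨
        (T.m i = 2 * m ∧ T.m j = m ∧ T.a i i = -2 * w ∧ T.a i j = 4 * w ∧ T.a j j = -8 * w ∧ T.w i = w ∧ T.w j = 4 * w)) := by
  have h2 := NumType.isMinusTwo_of_genus_one T hmin (by omega) hg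
  have r0 := NumType.row_sum T 0
  have r1 := NumType.row_sum T 1
  simp only [Fin.sum_univ_two] at r0 r1
  have d0 := (h2 0).2
  have d1 := (h2 1).2
  have hs := NumType.a_symm T 1 0
  rw [d0] at r0
  rw [d1, hs] at r1
  have hm0 := T.m_pos 0
  have hm1 := T.m_pos 1
  have hw0 := T.w_pos 0
  have hw1 := T.w_pos 1
  have ha : 0 < T.a 0 1 := by nlinarith
  have hA := NumType.w_mul_c T 0 1
  have hB := NumType.w_mul_c T 1 0
  rw [hs] at hB
  set p := NumType.c T 0 1
  set q := NumType.c T 1 0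
  have e0 : 2 * T.m 0 = p * T.m 1 := by
    refine mul_left_cancel₀ hw0.ne' ?_
    rw [← mul_assoc (T.w 0) p, hA]; linarith
  have e1 : 2 * T.m 1 = q * T.m 0 := by
    refine mul_left_cancel₀ hw1.ne' ?_
    rw [← mul_assoc (T.w 1) q, hB]; linarith
  have hpq : p * q = 4 := by
    refine mul_right_cancel₀ hm0.ne' ?_
    linear_combination -2 * e0 - p * e1
  have hp : 0 < p := by nlinarith
  have hq : 0 < q := by nlinarith
  have hp4 : p ≤ 4 := by nlinarith
  rcases (show p = 1 ∨ p = 2 ∨ p = 3 ∨ p = 4 by omega) with h | h | h | h <;> rw [h] at hpq e0 hA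
  · have hq4 : q = 4 := by linarith
    rw [hq4] at hB
    exact ⟨1, 0, T.m 0, T.w 1, by decide, (h2 1).1, (h2 0).1, Or.inr ⟨by linarith, rfl, d1,
      by rw [hs]; linarith, by linarith, rfl, by linarith⟩⟩
  · have hq2 : q = 2 := by linarith
    rw [hq2] at hB
    exact ⟨0, 1, T.m 0, T.w 0, by decide, (h2 0).1, (h2 1).1, Or.inl ⟨rfl, by linarith, d0,
      by linarith, by linarith, rfl, by linarith⟩⟩
  · omega
  · have hq1 : q = 1 := by linarith
    rw [hq1] at hB
    exact ⟨0, 1, T.m 1, T.w 0, by decide, (h2 0).1, (h2 1).1, Or.inr ⟨by linarith, rfl, d0,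
      by linarith, by linarith, rfl, by linarith⟩⟩

end Groth.Agent.S7362
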