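import Groth.Statements.S7363
import Groth.Agent.NumType.Shapes
import Groth.Agent.NumType.Sub
import Groth.Agent.NumType.Genus

set_option autoImplicit false
open Finset
open Models Models.NumericalType

namespace Groth.Agent.S7363

/-- Genus one classification: case n = 3: let T be a minimal numerical type of genus 1 on three indices.
Then all g = 0 and, for some ordering i, j, k of the indices and some integers m, w, the data (m; a;
w) is one of: (m,m,m; a_ii = a_jj = a_kk = -2w, a_ij = a_ik = a_jk = w; w,w,w); (m,2m,m; a_ii = -2w,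
a_ij = w, a_ik = 0, a_jj = -2w, a_jk = 3w, a_kk = -6w; w,w,3w); (m,2m,3m; a_ii = -6w, a_ij = 3w,
a_ik = 0, a_jj = -6w, a_jk = 3w, a_kk = -2w; 3w,3w,w); (2m,2m,m; a_ii = -2w, a_ij = 2w, a_ik = 0,
a_jj = -4w, a_jk = 4w, a_kk = -8w; w,2w,4w); (m,m,m; a_ii = -2w, a_ij = 2w, a_ik = 0, a_jj = -4w,
a_jk = 2w, a_kk = -2w; w,2w,w); (m,2m,m; a_ii = -4w, a_ij = 2w, a_ik = 0, a_jj = -2w, a_jk = 2w,
a_kk = -4w; 2w,w,2w). Only the classification direction is stated. -/
theorem result (T : Models.NumericalType 3) (hmin : T.IsMinimal) (hg : T.genus = 1) :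
    ∃ (i j k : Fin 3) (m w : ℤ), i ≠ j ∧ j ≠ k ∧ i ≠ k ∧ T.g i = 0 ∧ T.g j = 0 ∧ T.g k = 0 ∧
      ((T.m i = m ∧ T.m j = m ∧ T.m k = m ∧ T.a i i = -2 * w ∧ T.a j j = -2 * w ∧ T.a k k = -2 * w ∧
          T.a i j = w ∧ T.a i k = w ∧ T.a j k = w ∧ T.w i = w ∧ T.w j = w ∧ T.w k = w) ∨
        (T.m i = m ∧ T.m j = 2 * m ∧ T.m k = m ∧ T.a i i = -2 * w ∧ T.a i j = w ∧ T.a i k = 0 ∧ T.a j j = -2 * w ∧
          T.a j k = 3 * w ∧ T.a k k = -6 * w ∧ T.w i = w ∧ T.w j = w ∧ T.w k = 3 * w) ∨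
        (T.m i = m ∧ T.m j = 2 * m ∧ T.m k = 3 * m ∧ T.a i i = -6 * w ∧ T.a i j = 3 * w ∧ T.a i k = 0 ∧ T.a j j = -6 * w ∧
          T.a j k = 3 * w ∧ T.a k k = -2 * w ∧ T.w i = 3 * w ∧ T.w j = 3 * w ∧ T.w k = w) ∨
        (T.m i = 2 * m ∧ T.m j = 2 * m ∧ T.m k = m ∧ T.a i i = -2 * w ∧ T.a i j = 2 * w ∧ T.a i k = 0 ∧ T.a j j = -4 * w ∧
          T.a j k = 4 * w ∧ T.a k k = -8 * w ∧ T.w i = w ∧ T.w j = 2 * w ∧ T.w k = 4 * w) ∨
        (T.m i = m ∧ T.m j = m ∧ T.m k = m ∧ T.a i i = -2 * w ∧ T.a i j = 2 * w ∧ T.a i k = 0 ∧ T.a j j = -4 * w ∧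
          T.a j k = 2 * w ∧ T.a k k = -2 * w ∧ T.w i = w ∧ T.w j = 2 * w ∧ T.w k = w) ∨
        (T.m i = m ∧ T.m j = 2 * m ∧ T.m k = m ∧ T.a i i = -4 * w ∧ T.a i j = 2 * w ∧ T.a i k = 0 ∧ T.a j j = -2 * w ∧
          T.a j k = 2 * w ∧ T.a k k = -4 * w ∧ T.w i = 2 * w ∧ T.w j = w ∧ T.w k = 2 * w)) := by
  classical
  have h2 := NumType.isMinusTwo_of_genus_one T hmin (by omega) hg
  have hg0 : ∀ i, T.g i = 0 := fun i => (h2 i).1
  have hd : ∀ i, T.a i i = -2 * T.w i := fun i => (h2 i).2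
  -- a vertex adjacent to both others
  have hedge : ∀ i : Fin 3, ∃ j, j ≠ i ∧ 0 < T.a i j := fun i => by
    obtain ⟨p, hp, j, hj, hne⟩ := T.connected {i} (Finset.singleton_nonempty i) (fun e => by
      have := congrArg Finset.card e; simp at this)
    rw [Finset.mem_singleton] at hp hj
    subst hp
    exact ⟨j, hj, NumType.a_pos T (Ne.symm hj) hne⟩
  have hrow : ∀ i j k : Fin 3, i ≠ j → i ≠ k → j ≠ k →
      2 * T.m i = NumType.c T i j * T.m j + NumType.c T i k * T.m k := fun i j k hij hik hjk => by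
    have h := NumType.row_sum T i
    have hu : (Finset.univ : Finset (Fin 3)) = {i, j, k} := by
      refine (Finset.eq_univ_of_card _ ?_).symm
      rw [Finset.card_insert_of_notMem (by simp [hij, hik]), Finset.card_pair hjk, Fintype.card_fin]
    rw [hu, Finset.sum_insert (by simp [hij, hik]), Finset.sum_pair hjk, hd i,
      ← NumType.w_mul_c T i j, ← NumType.w_mul_c T i k] at h
    refine mul_left_cancel₀ (T.w_pos i).ne' ?_
    linarith
  -- the main case: a chain `i, j, k`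
  have chain : ∀ i j k : Fin 3, i ≠ j → j ≠ k → i ≠ k → 0 < T.a i j → 0 < T.a j k → T.a i k = 0 →
      NumType.P T i j ≤ NumType.P T j k →
      ∃ (i j k : Fin 3) (m w : ℤ), i ≠ j ∧ j ≠ k ∧ i ≠ k ∧ T.g i = 0 ∧ T.g j = 0 ∧ T.g k = 0 ∧
      ((T.m i = m ∧ T.m j = m ∧ T.m k = m ∧ T.a i i = -2 * w ∧ T.a j j = -2 * w ∧ T.a k k = -2 * w ∧
          T.a i j = w ∧ T.a i k = w ∧ T.a j k = w ∧ T.w i = w ∧ T.w j = w ∧ T.w k = w) ∨
        (T.m i = m ∧ T.m j = 2 * m ∧ T.m k = m ∧ T.a i i = -2 * w ∧ T.a i j = w ∧ T.a i k = 0 ∧ T.a j j = -2 * w ∧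
          T.a j k = 3 * w ∧ T.a k k = -6 * w ∧ T.w i = w ∧ T.w j = w ∧ T.w k = 3 * w) ∨
        (T.m i = m ∧ T.m j = 2 * m ∧ T.m k = 3 * m ∧ T.a i i = -6 * w ∧ T.a i j = 3 * w ∧ T.a i k = 0 ∧ T.a j j = -6 * w ∧
          T.a j k = 3 * w ∧ T.a k k = -2 * w ∧ T.w i = 3 * w ∧ T.w j = 3 * w ∧ T.w k = w) ∨
        (T.m i = 2 * m ∧ T.m j = 2 * m ∧ T.m k = m ∧ T.a i i = -2 * w ∧ T.a i j = 2 * w ∧ T.a i k = 0 ∧ T.a j j = -4 * w ∧
          T.a j k = 4 * w ∧ T.a k k = -8 * w ∧ T.w i = w ∧ T.w j = 2 * w ∧ T.w k = 4 * w) ∨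
        (T.m i = m ∧ T.m j = m ∧ T.m k = m ∧ T.a i i = -2 * w ∧ T.a i j = 2 * w ∧ T.a i k = 0 ∧ T.a j j = -4 * w ∧
          T.a j k = 2 * w ∧ T.a k k = -2 * w ∧ T.w i = w ∧ T.w j = 2 * w ∧ T.w k = w) ∨
        (T.m i = m ∧ T.m j = 2 * m ∧ T.m k = m ∧ T.a i i = -4 * w ∧ T.a i j = 2 * w ∧ T.a i k = 0 ∧ T.a j j = -2 * w ∧
          T.a j k = 2 * w ∧ T.a k k = -4 * w ∧ T.w i = 2 * w ∧ T.w j = w ∧ T.w k = 2 * w)) := by
    intro i j k hij hjk hik hA hB hz hle
    have hA' : 0 < T.a j i := NumType.a_symm T i j ▸ hA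
    have hB' : 0 < T.a k j := NumType.a_symm T j k ▸ hB
    have cik : NumType.c T i k = 0 := by
      have := NumType.w_mul_c T i k
      rw [hz] at this
      exact (mul_eq_zero.1 this).resolve_left (T.w_pos i).ne'
    have cki : NumType.c T k i = 0 := by
      have := NumType.w_mul_c T k i
      rw [NumType.a_symm T k i, hz] at this
      exact (mul_eq_zero.1 this).resolve_left (T.w_pos k).ne'
    have ri := hrow i j k hij hik hjk
    have rj := hrow j i k hij.symm hjk hik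
    have rk := hrow k i j hik.symm hjk.symm hij
    rw [cik] at ri
    rw [cki] at rk
    have hmj := T.m_pos j
    have h4 : NumType.P T i j + NumType.P T j k = 4 := by
      unfold NumType.P
      refine mul_right_cancel₀ hmj.ne' ?_
      linear_combination (-2) * rj - NumType.c T j i * ri - NumType.c T j k * rk
    have p1 := NumType.one_le_P T hA
    have eI := NumType.w_mul_c T i j
    have eJ := NumType.w_mul_c T j i
    have eJ' := NumType.w_mul_c T j k
    have eK := NumType.w_mul_c T k j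
    rw [NumType.a_symm T j i] at eJ
    rw [NumType.a_symm T k j] at eK
    have di := hd i
    have dj := hd j
    have dk := hd k
    have c1 := NumType.one_le_c T hB
    have c2 := NumType.one_le_c T hB'
    rcases (show NumType.P T i j = 1 ∧ NumType.P T j k = 3 ∨ NumType.P T i j = 2 ∧ NumType.P T j k = 2 by omega)
      with ⟨q1, q2⟩ | ⟨q1, q2⟩
    · obtain ⟨f, f'⟩ := NumType.P_eq_one T hA q1
      have cij : NumType.c T i j = 1 := by nlinarith [T.w_pos i]
      unfold NumType.P at q2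
      have hb3 : NumType.c T j k ≤ 3 := by nlinarith
      rcases (show NumType.c T j k = 1 ∨ NumType.c T j k = 2 ∨ NumType.c T j k = 3 by omega) with e | e | e <;>
        rw [e] at q2 eJ'
      · have e' : NumType.c T k j = 3 := by linarith
        rw [e'] at eK rk
        rw [cij] at ri
        exact ⟨i, j, k, T.m i, T.w k, hij, hjk, hik, hg0 i, hg0 j, hg0 k, Or.inr (Or.inr (Or.inl
          ⟨rfl, by linarith, by linarith, by linarith, by linarith, hz, by linarith, by linarith, by linarith,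
            by linarith, by linarith, rfl⟩))⟩
      · omega
      · have e' : NumType.c T k j = 1 := by linarith
        rw [e'] at eK rk
        rw [cij] at ri
        exact ⟨i, j, k, T.m i, T.w i, hij, hjk, hik, hg0 i, hg0 j, hg0 k, Or.inr (Or.inl
          ⟨rfl, by linarith, by linarith, by linarith, by linarith, hz, by linarith, by linarith, by linarith,
            rfl, by linarith, by linarith⟩)⟩
    · rcases NumType.P_eq_two T hA q1 with ⟨a1, b1, -, -⟩ | ⟨a1, b1, -, -⟩ <;>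
        rcases NumType.P_eq_two T hB q2 with ⟨a2, b2, -, -⟩ | ⟨a2, b2, -, -⟩ <;>
        rw [a1] at eI ri <;> rw [b1] at eJ <;> rw [a2] at eJ' <;> rw [b2] at eK rk
      · exact ⟨i, j, k, T.m k, T.w i, hij, hjk, hik, hg0 i, hg0 j, hg0 k, Or.inr (Or.inr (Or.inr (Or.inl
          ⟨by linarith, by linarith, rfl, by linarith, by linarith, hz, by linarith, by linarith, by linarith,
            rfl, by linarith, by linarith⟩)))⟩
      · exact ⟨i, j, k, T.m i, T.w i, hij, hjk, hik, hg0 i, hg0 j, hg0 k, Or.inr (Or.inr (Or.inr (Or.inr (Or.inl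
          ⟨rfl, by linarith, by linarith, by linarith, by linarith, hz, by linarith, by linarith, by linarith,
            rfl, by linarith, by linarith⟩))))⟩
      · exact ⟨i, j, k, T.m i, T.w j, hij, hjk, hik, hg0 i, hg0 j, hg0 k, Or.inr (Or.inr (Or.inr (Or.inr (Or.inr
          ⟨rfl, by linarith, by linarith, by linarith, by linarith, hz, by linarith, by linarith, by linarith,
            by linarith, rfl, by linarith⟩))))⟩
      · have z := NumType.a_symm T k i
        exact ⟨k, j, i, T.m i, T.w k, hjk.symm, hij.symm, hik.symm, hg0 k, hg0 j, hg0 i, Or.inr (Or.inr (Or.inr (Or.inl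
          ⟨by linarith, by linarith, rfl, by linarith, by rw [NumType.a_symm]; linarith, by rw [z]; exact hz,
            by linarith, by rw [NumType.a_symm]; linarith, by linarith, rfl, by linarith, by linarith⟩)))⟩
  by_cases tri : 0 < T.a 0 1 ∧ 0 < T.a 1 2 ∧ 0 < T.a 0 2
  · obtain ⟨t1, t2, t3⟩ := tri
    let v : ℕ → Fin 3 := fun p => if p = 0 then 0 else if p = 1 then 1 else 2
    have hv : NumType.IsPath T v 2 := ⟨fun p _ => h2 _, fun p hp q hq e => by
      interval_cases p <;> interval_cases q <;> first | rfl | (simp [v] at e),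
      fun p hp => by interval_cases p <;> simp [v] <;> assumption⟩
    have hf := NumType.cycle hv le_rfl (by simpa [v] using t3)
    have m1 : T.m 1 = T.m 0 := by simpa [v] using hf.mM 1 (by omega)
    have m2 : T.m 2 = T.m 0 := by simpa [v] using hf.mM 2 le_rfl
    have w1 : T.w 1 = T.w 0 := by simpa [v] using hf.wM 1 (by omega)
    have w2 : T.w 2 = T.w 0 := by simpa [v] using hf.wM 2 le_rfl
    have e1 : T.a 0 1 = T.w 0 := by simpa [v] using hf.edge 0 (by omega)
    have e2 : T.a 1 2 = T.w 0 := by simpa [v] using hf.edge 1 (by omega)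
    have e3 : T.a 0 2 = T.w 0 := by simpa [v] using hf.close
    exact ⟨0, 1, 2, T.m 0, T.w 0, by decide, by decide, by decide, hg0 0, hg0 1, hg0 2,
      Or.inl ⟨rfl, m1, m2, hd 0, by rw [hd 1, w1], by rw [hd 2, w2], e1, e3, e2, rfl, w1, w2⟩⟩
  have both : ∀ i j k : Fin 3, i ≠ j → j ≠ k → i ≠ k → 0 < T.a i j → 0 < T.a j k → ¬ 0 < T.a i k → _ :=
    fun i j k hij hjk hik hA hB hn => by
      have hz : T.a i k = 0 := le_antisymm (not_lt.1 hn) (T.offDiag_nonneg i k hik)
      exact (le_total (NumType.P T i j) (NumType.P T j k)).elim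
        (fun h => chain i j k hij hjk hik hA hB hz h)
        (fun h => chain k j i hjk.symm hij.symm hik.symm (NumType.a_symm T j k ▸ hB) (NumType.a_symm T i j ▸ hA)
          ((NumType.a_symm T k i).trans hz) (by rw [NumType.P_comm T k j, NumType.P_comm T j i]; exact h))
  by_cases h01 : 0 < T.a 0 1
  · by_cases h12 : 0 < T.a 1 2
    · exact both 0 1 2 (by decide) (by decide) (by decide) h01 h12 (fun h => tri ⟨h01, h12, h⟩)
    · obtain ⟨j, hj, hp⟩ := hedge 2
      rw [NumType.a_symm] at hp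
      fin_cases j
      · exact both 1 0 2 (by decide) (by decide) (by decide) (NumType.a_symm T 0 1 ▸ h01) hp h12
      · exact absurd hp h12
      · exact absurd rfl hj
  · obtain ⟨j, hj, hp⟩ := hedge 0
    obtain ⟨k, hk, hq⟩ := hedge 1
    fin_cases j
    · exact absurd rfl hj
    · exact absurd hp h01
    · fin_cases k
      · exact absurd (NumType.a_symm T 1 0 ▸ hq) h01
      · exact absurd rfl hk
      · exact both 0 2 1 (by decide) (by decide) (by decide) hp (NumType.a_symm T 1 2 ▸ hq) h01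

end Groth.Agent.S7363
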