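import Groth.Statements.S7364
import Groth.Agent.NumType.Forms
import Groth.Agent.NumType.Genus
import Mathlib.GroupTheory.Perm.Cycle.Concrete

set_option autoImplicit false
open Finset
open Models Models.NumericalType

namespace Groth.Agent.S7364

/-- Genus one classification: case n = 4: let T be a minimal numerical type of genus 1 on 4 indices.
Then all g_i = 0 and, for some permutation σ of the indices and some integers m, w, the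
multiplicities, weights and intersection matrix (m_{σ(i)}, w_{σ(i)}, a_{σ(i)σ(j)}) are those of one
of the following 6 types: [four cycle] m = (m, m, m, m), w = (w, w, w, w), a = (-2 * w w 0 w / w -2
* w w 0 / 0 w -2 * w w / w 0 w -2 * w); [up equal up] m = (2 * m, 2 * m, 2 * m, m), w = (w, 2 * w, 2
* w, 4 * w), a = (-2 * w 2 * w 0 0 / 2 * w -4 * w 2 * w 0 / 0 2 * w -4 * w 4 * w / 0 0 4 * w -8 *
w); [up equal down] m = (m, m, m, m), w = (w, 2 * w, 2 * w, w), a = (-2 * w 2 * w 0 0 / 2 * w -4 * w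
2 * w 0 / 0 2 * w -4 * w 2 * w / 0 0 2 * w -2 * w); [down equal up] m = (m, 2 * m, 2 * m, m), w = (2
* w, w, w, 2 * w), a = (-4 * w 2 * w 0 0 / 2 * w -2 * w w 0 / 0 w -2 * w 2 * w / 0 0 2 * w -4 * w);
[triple with up] m = (2 * m, m, m, m), w = (w, w, w, 2 * w), a = (-2 * w w w 2 * w / w -2 * w 0 0 /
w 0 -2 * w 0 / 2 * w 0 0 -4 * w); [triple with down] m = (2 * m, m, m, 2 * m), w = (2 * w, 2 * w, 2
* w, w), a = (-4 * w 2 * w 2 * w 2 * w / 2 * w -4 * w 0 0 / 2 * w 0 -4 * w 0 / 2 * w 0 0 -2 * w).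
Only the classification direction is stated. -/
theorem result (T : Models.NumericalType 4) (hmin : T.IsMinimal) (hg : T.genus = 1) :
    (∀ i, T.g i = 0) ∧ ∃ (σ : Equiv.Perm (Fin 4)) (m w : ℤ),
      ((T.m (σ 0) = m ∧ T.m (σ 1) = m ∧ T.m (σ 2) = m ∧ T.m (σ 3) = m ∧ T.w (σ 0) = w ∧ T.w (σ 1) = w ∧ T.w (σ 2) = w ∧ T.w (σ 3) = w ∧ T.a (σ 0) (σ 0) = -2 * w ∧ T.a (σ 0) (σ 1) = w ∧ T.a (σ 0) (σ 2) = 0 ∧ T.a (σ 0) (σ 3) = w ∧ T.a (σ 1) (σ 1) = -2 * w ∧ T.a (σ 1) (σ 2) = w ∧ T.a (σ 1) (σ 3) = 0 ∧ T.a (σ 2) (σ 2) = -2 * w ∧ T.a (σ 2) (σ 3) = w ∧ T.a (σ 3) (σ 3) = -2 * w) ∨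
      (T.m (σ 0) = 2 * m ∧ T.m (σ 1) = 2 * m ∧ T.m (σ 2) = 2 * m ∧ T.m (σ 3) = m ∧ T.w (σ 0) = w ∧ T.w (σ 1) = 2 * w ∧ T.w (σ 2) = 2 * w ∧ T.w (σ 3) = 4 * w ∧ T.a (σ 0) (σ 0) = -2 * w ∧ T.a (σ 0) (σ 1) = 2 * w ∧ T.a (σ 0) (σ 2) = 0 ∧ T.a (σ 0) (σ 3) = 0 ∧ T.a (σ 1) (σ 1) = -4 * w ∧ T.a (σ 1) (σ 2) = 2 * w ∧ T.a (σ 1) (σ 3) = 0 ∧ T.a (σ 2) (σ 2) = -4 * w ∧ T.a (σ 2) (σ 3) = 4 * w ∧ T.a (σ 3) (σ 3) = -8 * w) ∨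
      (T.m (σ 0) = m ∧ T.m (σ 1) = m ∧ T.m (σ 2) = m ∧ T.m (σ 3) = m ∧ T.w (σ 0) = w ∧ T.w (σ 1) = 2 * w ∧ T.w (σ 2) = 2 * w ∧ T.w (σ 3) = w ∧ T.a (σ 0) (σ 0) = -2 * w ∧ T.a (σ 0) (σ 1) = 2 * w ∧ T.a (σ 0) (σ 2) = 0 ∧ T.a (σ 0) (σ 3) = 0 ∧ T.a (σ 1) (σ 1) = -4 * w ∧ T.a (σ 1) (σ 2) = 2 * w ∧ T.a (σ 1) (σ 3) = 0 ∧ T.a (σ 2) (σ 2) = -4 * w ∧ T.a (σ 2) (σ 3) = 2 * w ∧ T.a (σ 3) (σ 3) = -2 * w) ∨
      (T.m (σ 0) = m ∧ T.m (σ 1) = 2 * m ∧ T.m (σ 2) = 2 * m ∧ T.m (σ 3) = m ∧ T.w (σ 0) = 2 * w ∧ T.w (σ 1) = w ∧ T.w (σ 2) = w ∧ T.w (σ 3) = 2 * w ∧ T.a (σ 0) (σ 0) = -4 * w ∧ T.a (σ 0) (σ 1) = 2 * w ∧ T.a (σ 0) (σ 2) = 0 ∧ T.a (σ 0) (σ 3) = 0 ∧ T.a (σ 1) (σ 1) = -2 * w ∧ T.a (σ 1) (σ 2) = w ∧ T.a (σ 1) (σ 3) = 0 ∧ T.a (σ 2) (σ 2) = -2 * w ∧ T.a (σ 2) (σ 3) = 2 * w ∧ T.a (σ 3) (σ 3) = -4 * w) ∨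
      (T.m (σ 0) = 2 * m ∧ T.m (σ 1) = m ∧ T.m (σ 2) = m ∧ T.m (σ 3) = m ∧ T.w (σ 0) = w ∧ T.w (σ 1) = w ∧ T.w (σ 2) = w ∧ T.w (σ 3) = 2 * w ∧ T.a (σ 0) (σ 0) = -2 * w ∧ T.a (σ 0) (σ 1) = w ∧ T.a (σ 0) (σ 2) = w ∧ T.a (σ 0) (σ 3) = 2 * w ∧ T.a (σ 1) (σ 1) = -2 * w ∧ T.a (σ 1) (σ 2) = 0 ∧ T.a (σ 1) (σ 3) = 0 ∧ T.a (σ 2) (σ 2) = -2 * w ∧ T.a (σ 2) (σ 3) = 0 ∧ T.a (σ 3) (σ 3) = -4 * w) ∨
      (T.m (σ 0) = 2 * m ∧ T.m (σ 1) = m ∧ T.m (σ 2) = m ∧ T.m (σ 3) = 2 * m ∧ T.w (σ 0) = 2 * w ∧ T.w (σ 1) = 2 * w ∧ T.w (σ 2) = 2 * w ∧ T.w (σ 3) = w ∧ T.a (σ 0) (σ 0) = -4 * w ∧ T.a (σ 0) (σ 1) = 2 * w ∧ T.a (σ 0) (σ 2) = 2 * w ∧ T.a (σ 0) (σ 3) = 2 * w ∧ T.a (σ 1) (σ 1) = -4 * w ∧ T.a (σ 1) (σ 2) = 0 ∧ T.a (σ 1) (σ 3) = 0 ∧ T.a (σ 2) (σ 2) = -4 * w ∧ T.a (σ 2) (σ 3) = 0 ∧ T.a (σ 3) (σ 3) = -2 * w)) := by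
  have h2 := NumType.isMinusTwo_of_genus_one T hmin (by omega) hg
  refine ⟨fun i => (h2 i).1, ?_⟩
  rcases NumType.forms (by omega) h2 with h | h | h | h | h | h | ⟨hn, h⟩ | ⟨hn, h⟩ | ⟨hn, h⟩ | ⟨hn, h⟩ | ⟨hn, h⟩ | ⟨hn, h⟩
  · obtain ⟨σ, m, w, hf⟩ := h
    refine ⟨σ, m, w, ?_⟩
    refine Or.inl ?_; simp [hf.hm, hf.hw, hf.hd, hf.ha, NumType.Sh.cM, NumType.Sh.cA, NumType.Sh.m221, NumType.Sh.w124, NumType.Sh.a124, NumType.Sh.w121, NumType.Sh.a121, NumType.Sh.m121, NumType.Sh.w212, NumType.Sh.a212, NumType.Sh.m1211, NumType.Sh.w21, NumType.Sh.aLF, NumType.Sh.m2211, NumType.Sh.w12, NumType.Sh.aSF, NumType.Sh.mFF, NumType.Sh.aFF, NumType.Sh.ofList, NumType.Sh.ofEdges, NumType.Sh.wF41, NumType.Sh.wF42, NumType.Sh.aF41, NumType.Sh.aF42, NumType.eE6, NumType.eE7, NumType.eE8] <;> (repeat' constructor) <;> ring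
  · obtain ⟨σ, m, w, hf⟩ := h
    refine ⟨σ, m, w, ?_⟩
    refine Or.inr ?_; refine Or.inl ?_; simp [hf.hm, hf.hw, hf.hd, hf.ha, NumType.Sh.cM, NumType.Sh.cA, NumType.Sh.m221, NumType.Sh.w124, NumType.Sh.a124, NumType.Sh.w121, NumType.Sh.a121, NumType.Sh.m121, NumType.Sh.w212, NumType.Sh.a212, NumType.Sh.m1211, NumType.Sh.w21, NumType.Sh.aLF, NumType.Sh.m2211, NumType.Sh.w12, NumType.Sh.aSF, NumType.Sh.mFF, NumType.Sh.aFF, NumType.Sh.ofList, NumType.Sh.ofEdges, NumType.Sh.wF41, NumType.Sh.wF42, NumType.Sh.aF41, NumType.Sh.aF42, NumType.eE6, NumType.eE7, NumType.eE8] <;> (repeat' constructor) <;> ring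
  · obtain ⟨σ, m, w, hf⟩ := h
    refine ⟨σ, m, w, ?_⟩
    refine Or.inr ?_; refine Or.inr ?_; refine Or.inl ?_; simp [hf.hm, hf.hw, hf.hd, hf.ha, NumType.Sh.cM, NumType.Sh.cA, NumType.Sh.m221, NumType.Sh.w124, NumType.Sh.a124, NumType.Sh.w121, NumType.Sh.a121, NumType.Sh.m121, NumType.Sh.w212, NumType.Sh.a212, NumType.Sh.m1211, NumType.Sh.w21, NumType.Sh.aLF, NumType.Sh.m2211, NumType.Sh.w12, NumType.Sh.aSF, NumType.Sh.mFF, NumType.Sh.aFF, NumType.Sh.ofList, NumType.Sh.ofEdges, NumType.Sh.wF41, NumType.Sh.wF42, NumType.Sh.aF41, NumType.Sh.aF42, NumType.eE6, NumType.eE7, NumType.eE8] <;> (repeat' constructor) <;> ring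
  · obtain ⟨σ, m, w, hf⟩ := h
    refine ⟨σ, m, w, ?_⟩
    refine Or.inr ?_; refine Or.inr ?_; refine Or.inr ?_; refine Or.inl ?_; simp [hf.hm, hf.hw, hf.hd, hf.ha, NumType.Sh.cM, NumType.Sh.cA, NumType.Sh.m221, NumType.Sh.w124, NumType.Sh.a124, NumType.Sh.w121, NumType.Sh.a121, NumType.Sh.m121, NumType.Sh.w212, NumType.Sh.a212, NumType.Sh.m1211, NumType.Sh.w21, NumType.Sh.aLF, NumType.Sh.m2211, NumType.Sh.w12, NumType.Sh.aSF, NumType.Sh.mFF, NumType.Sh.aFF, NumType.Sh.ofList, NumType.Sh.ofEdges, NumType.Sh.wF41, NumType.Sh.wF42, NumType.Sh.aF41, NumType.Sh.aF42, NumType.eE6, NumType.eE7, NumType.eE8] <;> (repeat' constructor) <;> ring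
  · obtain ⟨σ, m, w, hf⟩ := h.perm (c[(0 : Fin 4), 1, 2, 3]) (μ' := fun i => if i = 0 then 2 else 1) (ω' := fun i => if i = 3 then 2 else 1) (α' := fun i j => if i = 0 then (if j = 3 then 2 else 1) else 0) (by decide) (by decide) (by decide)
    refine ⟨σ, m, w, ?_⟩
    refine Or.inr ?_; refine Or.inr ?_; refine Or.inr ?_; refine Or.inr ?_; refine Or.inl ?_; simp [hf.hm, hf.hw, hf.hd, hf.ha, NumType.Sh.cM, NumType.Sh.cA, NumType.Sh.m221, NumType.Sh.w124, NumType.Sh.a124, NumType.Sh.w121, NumType.Sh.a121, NumType.Sh.m121, NumType.Sh.w212, NumType.Sh.a212, NumType.Sh.m1211, NumType.Sh.w21, NumType.Sh.aLF, NumType.Sh.m2211, NumType.Sh.w12, NumType.Sh.aSF, NumType.Sh.mFF, NumType.Sh.aFF, NumType.Sh.ofList, NumType.Sh.ofEdges, NumType.Sh.wF41, NumType.Sh.wF42, NumType.Sh.aF41, NumType.Sh.aF42, NumType.eE6, NumType.eE7,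 NumType.eE8] <;> (repeat' constructor) <;> ring
  · obtain ⟨σ, m, w, hf⟩ := h.perm (c[(0 : Fin 4), 1, 2, 3]) (μ' := fun i => if i = 0 ∨ i = 3 then 2 else 1) (ω' := fun i => if i = 3 then 1 else 2) (α' := fun i _ => if i = 0 then 2 else 0) (by decide) (by decide) (by decide)
    refine ⟨σ, m, w, ?_⟩
    refine Or.inr ?_; refine Or.inr ?_; refine Or.inr ?_; refine Or.inr ?_; refine Or.inr ?_; simp [hf.hm, hf.hw, hf.hd, hf.ha, NumType.Sh.cM, NumType.Sh.cA, NumType.Sh.m221, NumType.Sh.w124, NumType.Sh.a124, NumType.Sh.w121, NumType.Sh.a121, NumType.Sh.m121, NumType.Sh.w212, NumType.Sh.a212, NumType.Sh.m1211, NumType.Sh.w21, NumType.Sh.aLF, NumType.Sh.m2211, NumType.Sh.w12, NumType.Sh.aSF, NumType.Sh.mFF, NumType.Sh.aFF, NumType.Sh.ofList, NumType.Sh.ofEdges, NumType.Sh.wF41, NumType.Sh.wF42, NumType.Sh.aF41,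 NumType.Sh.aF42, NumType.eE6, NumType.eE7, NumType.eE8] <;> (repeat' constructor) <;> ring
  · omega
  · omega
  · omega
  · omega
  · omega
  · omega

end Groth.Agent.S7364
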