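import Groth.Statements.S7367
import Groth.Agent.NumType.Forms
import Groth.Agent.NumType.Genus
import Mathlib.GroupTheory.Perm.Cycle.Concrete

set_option autoImplicit false
open Finset
open Models Models.NumericalType

namespace Groth.Agent.S7367

/-- Genus one classification: case n = 6: let T be a minimal numerical type of genus 1 on 6 indices.
Then all g_i = 0 and, for some permutation σ of the indices and some integers m, w, the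
multiplicities, weights and intersection matrix (m_{σ(i)}, w_{σ(i)}, a_{σ(i)σ(j)}) are those of one
of the following 7 types: [cycle] m = (m, m, m, m, m, m), w = (w, w, w, w, w, w), a = (-2 * w w 0 0
0 w / w -2 * w w 0 0 0 / 0 w -2 * w w 0 0 / 0 0 w -2 * w w 0 / 0 0 0 w -2 * w w / w 0 0 0 w -2 * w);
[up chain equal up] m = (2 * m, 2 * m, 2 * m, 2 * m, 2 * m, m), w = (w, 2 * w, 2 * w, 2 * w, 2 * w,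
4 * w), a = (-2 * w 2 * w 0 0 0 0 / 2 * w -4 * w 2 * w 0 0 0 / 0 2 * w -4 * w 2 * w 0 0 / 0 0 2 * w
-4 * w 2 * w 0 / 0 0 0 2 * w -4 * w 4 * w / 0 0 0 0 4 * w -8 * w); [up chain equal down] m = (m, m,
m, m, m, m), w = (w, 2 * w, 2 * w, 2 * w, 2 * w, w), a = (-2 * w 2 * w 0 0 0 0 / 2 * w -4 * w 2 * w
0 0 0 / 0 2 * w -4 * w 2 * w 0 0 / 0 0 2 * w -4 * w 2 * w 0 / 0 0 0 2 * w -4 * w 2 * w / 0 0 0 0 2 *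
w -2 * w); [down chain equal up] m = (m, 2 * m, 2 * m, 2 * m, 2 * m, m), w = (2 * w, w, w, w, w, 2 *
w), a = (-4 * w 2 * w 0 0 0 0 / 2 * w -2 * w w 0 0 0 / 0 w -2 * w w 0 0 / 0 0 w -2 * w w 0 / 0 0 0 w
-2 * w 2 * w / 0 0 0 0 2 * w -4 * w); [D extended up] m = (m, 2 * m, 2 * m, 2 * m, m, m), w = (2 *
w, w, w, w, w, w), a = (-4 * w 2 * w 0 0 0 0 / 2 * w -2 * w w 0 0 0 / 0 w -2 * w w 0 0 / 0 0 w -2 *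
w w w / 0 0 0 w -2 * w 0 / 0 0 0 w 0 -2 * w); [D extended down] m = (2 * m, 2 * m, 2 * m, 2 * m, m,
m), w = (w, 2 * w, 2 * w, 2 * w, 2 * w, 2 * w), a = (-2 * w 2 * w 0 0 0 0 / 2 * w -4 * w 2 * w 0 0 0
/ 0 2 * w -4 * w 2 * w 0 0 / 0 0 2 * w -4 * w 2 * w 2 * w / 0 0 0 2 * w -4 * w 0 / 0 0 0 2 * w 0 -4
* w); [double triple] m = (m, m, 2 * m, 2 * m, m, m), w = (w, w, w, w, w, w), a = (-2 * w 0 w 0 0 0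
/ 0 -2 * w w 0 0 0 / w w -2 * w w 0 0 / 0 0 w -2 * w w w / 0 0 0 w -2 * w 0 / 0 0 0 w 0 -2 * w).
Only the classification direction is stated. (In the family with weights (w, 2w, …, 2w, w) the
consecutive intersection numbers are 2w, as divisibility by the weights forces; the published list
prints w there, and omits m_{n-2} = 2m in the two D-type families.) -/
theorem result (T : Models.NumericalType 6) (hmin : T.IsMinimal) (hg : T.genus = 1) :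
    (∀ i, T.g i = 0) ∧ ∃ (σ : Equiv.Perm (Fin 6)) (m w : ℤ),
      ((T.m (σ 0) = m ∧ T.m (σ 1) = m ∧ T.m (σ 2) = m ∧ T.m (σ 3) = m ∧ T.m (σ 4) = m ∧ T.m (σ 5) = m ∧ T.w (σ 0) = w ∧ T.w (σ 1) = w ∧ T.w (σ 2) = w ∧ T.w (σ 3) = w ∧ T.w (σ 4) = w ∧ T.w (σ 5) = w ∧ T.a (σ 0) (σ 0) = -2 * w ∧ T.a (σ 0) (σ 1) = w ∧ T.a (σ 0) (σ 2) = 0 ∧ T.a (σ 0) (σ 3) = 0 ∧ T.a (σ 0) (σ 4) = 0 ∧ T.a (σ 0) (σ 5) = w ∧ T.a (σ 1) (σ 1) = -2 * w ∧ T.a (σ 1) (σ 2) = w ∧ T.a (σ 1) (σ 3) = 0 ∧ T.a (σ 1) (σ 4) = 0 ∧ T.a (σ 1) (σ 5) = 0 ∧ T.a (σ 2) (σ 2) = -2 * w ∧ T.a (σ 2) (σ 3) = w ∧ T.a (σ 2) (σ 4) = 0 ∧ T.a (σ 2) (σ 5) = 0 ∧ T.a (σ 3) (σ 3) = -2 * w ∧ T.a (σ 3) (σ 4) = w ∧ T.a (σ 3) (σ 5) = 0 ∧ T.a (σ 4) (σ 4) = -2 * w ∧ T.a (σ 4) (σ 5) = w ∧ T.a (σ 5) (σ 5) = -2 * w) ∨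
      (T.m (σ 0) = 2 * m ∧ T.m (σ 1) = 2 * m ∧ T.m (σ 2) = 2 * m ∧ T.m (σ 3) = 2 * m ∧ T.m (σ 4) = 2 * m ∧ T.m (σ 5) = m ∧ T.w (σ 0) = w ∧ T.w (σ 1) = 2 * w ∧ T.w (σ 2) = 2 * w ∧ T.w (σ 3) = 2 * w ∧ T.w (σ 4) = 2 * w ∧ T.w (σ 5) = 4 * w ∧ T.a (σ 0) (σ 0) = -2 * w ∧ T.a (σ 0) (σ 1) = 2 * w ∧ T.a (σ 0) (σ 2) = 0 ∧ T.a (σ 0) (σ 3) = 0 ∧ T.a (σ 0) (σ 4) = 0 ∧ T.a (σ 0) (σ 5) = 0 ∧ T.a (σ 1) (σ 1) = -4 * w ∧ T.a (σ 1) (σ 2) = 2 * w ∧ T.a (σ 1) (σ 3) = 0 ∧ T.a (σ 1) (σ 4) = 0 ∧ T.a (σ 1) (σ 5) = 0 ∧ T.a (σ 2) (σ 2) = -4 * w ∧ T.a (σ 2) (σ 3) = 2 * w ∧ T.a (σ 2) (σ 4) = 0 ∧ T.a (σ 2) (σ 5) = 0 ∧ T.a (σ 3) (σ 3) = -4 * w ∧ T.a (σ 3) (σ 4) = 2 * w ∧ T.a (σ 3) (σ 5) = 0 ∧ T.a (σ 4) (σ 4) = -4 * w ∧ T.a (σ 4) (σ 5) = 4 * w ∧ T.a (σ 5) (σ 5) = -8 * w) ∨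
      (T.m (σ 0) = m ∧ T.m (σ 1) = m ∧ T.m (σ 2) = m ∧ T.m (σ 3) = m ∧ T.m (σ 4) = m ∧ T.m (σ 5) = m ∧ T.w (σ 0) = w ∧ T.w (σ 1) = 2 * w ∧ T.w (σ 2) = 2 * w ∧ T.w (σ 3) = 2 * w ∧ T.w (σ 4) = 2 * w ∧ T.w (σ 5) = w ∧ T.a (σ 0) (σ 0) = -2 * w ∧ T.a (σ 0) (σ 1) = 2 * w ∧ T.a (σ 0) (σ 2) = 0 ∧ T.a (σ 0) (σ 3) = 0 ∧ T.a (σ 0) (σ 4) = 0 ∧ T.a (σ 0) (σ 5) = 0 ∧ T.a (σ 1) (σ 1) = -4 * w ∧ T.a (σ 1) (σ 2) = 2 * w ∧ T.a (σ 1) (σ 3) = 0 ∧ T.a (σ 1) (σ 4) = 0 ∧ T.a (σ 1) (σ 5) = 0 ∧ T.a (σ 2) (σ 2) = -4 * w ∧ T.a (σ 2) (σ 3) = 2 * w ∧ T.a (σ 2) (σ 4) = 0 ∧ T.a (σ 2) (σ 5) = 0 ∧ T.a (σ 3) (σ 3) = -4 * w ∧ T.a (σ 3) (σ 4) = 2 * w ∧ T.a (σ 3) (σ 5) = 0 ∧ T.a (σ 4) (σ 4) = -4 * w ∧ T.a (σ 4) (σ 5) = 2 * w ∧ T.a (σ 5) (σ 5) = -2 * w) ∨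
      (T.m (σ 0) = m ∧ T.m (σ 1) = 2 * m ∧ T.m (σ 2) = 2 * m ∧ T.m (σ 3) = 2 * m ∧ T.m (σ 4) = 2 * m ∧ T.m (σ 5) = m ∧ T.w (σ 0) = 2 * w ∧ T.w (σ 1) = w ∧ T.w (σ 2) = w ∧ T.w (σ 3) = w ∧ T.w (σ 4) = w ∧ T.w (σ 5) = 2 * w ∧ T.a (σ 0) (σ 0) = -4 * w ∧ T.a (σ 0) (σ 1) = 2 * w ∧ T.a (σ 0) (σ 2) = 0 ∧ T.a (σ 0) (σ 3) = 0 ∧ T.a (σ 0) (σ 4) = 0 ∧ T.a (σ 0) (σ 5) = 0 ∧ T.a (σ 1) (σ 1) = -2 * w ∧ T.a (σ 1) (σ 2) = w ∧ T.a (σ 1) (σ 3) = 0 ∧ T.a (σ 1) (σ 4) = 0 ∧ T.a (σ 1) (σ 5) = 0 ∧ T.a (σ 2) (σ 2) = -2 * w ∧ T.a (σ 2) (σ 3) = w ∧ T.a (σ 2) (σ 4) = 0 ∧ T.a (σ 2) (σ 5) = 0 ∧ T.a (σ 3) (σ 3) = -2 * w ∧ T.a (σ 3) (σ 4) = w ∧ T.a (σ 3) (σ 5) = 0 ∧ T.a (σ 4) (σ 4) = -2 * w ∧ T.a (σ 4) (σ 5) = 2 * w ∧ T.a (σ 5) (σ 5) = -4 * w) ∨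
      (T.m (σ 0) = m ∧ T.m (σ 1) = 2 * m ∧ T.m (σ 2) = 2 * m ∧ T.m (σ 3) = 2 * m ∧ T.m (σ 4) = m ∧ T.m (σ 5) = m ∧ T.w (σ 0) = 2 * w ∧ T.w (σ 1) = w ∧ T.w (σ 2) = w ∧ T.w (σ 3) = w ∧ T.w (σ 4) = w ∧ T.w (σ 5) = w ∧ T.a (σ 0) (σ 0) = -4 * w ∧ T.a (σ 0) (σ 1) = 2 * w ∧ T.a (σ 0) (σ 2) = 0 ∧ T.a (σ 0) (σ 3) = 0 ∧ T.a (σ 0) (σ 4) = 0 ∧ T.a (σ 0) (σ 5) = 0 ∧ T.a (σ 1) (σ 1) = -2 * w ∧ T.a (σ 1) (σ 2) = w ∧ T.a (σ 1) (σ 3) = 0 ∧ T.a (σ 1) (σ 4) = 0 ∧ T.a (σ 1) (σ 5) = 0 ∧ T.a (σ 2) (σ 2) = -2 * w ∧ T.a (σ 2) (σ 3) = w ∧ T.a (σ 2) (σ 4) = 0 ∧ T.a (σ 2) (σ 5) = 0 ∧ T.a (σ 3) (σ 3) = -2 * w ∧ T.a (σ 3) (σ 4) = w ∧ T.a (σ 3) (σ 5) = w ∧ T.a (σ 4) (σ 4) = -2 * w ∧ T.a (σ 4) (σ 5) = 0 ∧ T.a (σ 5) (σ 5) = -2 * w) ∨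
      (T.m (σ 0) = 2 * m ∧ T.m (σ 1) = 2 * m ∧ T.m (σ 2) = 2 * m ∧ T.m (σ 3) = 2 * m ∧ T.m (σ 4) = m ∧ T.m (σ 5) = m ∧ T.w (σ 0) = w ∧ T.w (σ 1) = 2 * w ∧ T.w (σ 2) = 2 * w ∧ T.w (σ 3) = 2 * w ∧ T.w (σ 4) = 2 * w ∧ T.w (σ 5) = 2 * w ∧ T.a (σ 0) (σ 0) = -2 * w ∧ T.a (σ 0) (σ 1) = 2 * w ∧ T.a (σ 0) (σ 2) = 0 ∧ T.a (σ 0) (σ 3) = 0 ∧ T.a (σ 0) (σ 4) = 0 ∧ T.a (σ 0) (σ 5) = 0 ∧ T.a (σ 1) (σ 1) = -4 * w ∧ T.a (σ 1) (σ 2) = 2 * w ∧ T.a (σ 1) (σ 3) = 0 ∧ T.a (σ 1) (σ 4) = 0 ∧ T.a (σ 1) (σ 5) = 0 ∧ T.a (σ 2) (σ 2) = -4 * w ∧ T.a (σ 2) (σ 3) = 2 * w ∧ T.a (σ 2) (σ 4) = 0 ∧ T.a (σ 2) (σ 5) = 0 ∧ T.a (σ 3) (σ 3) = -4 * w ∧ T.a (σ 3) (σ 4) = 2 * w ∧ T.a (σ 3) (σ 5) = 2 * w ∧ T.a (σ 4) (σ 4) = -4 * w ∧ T.a (σ 4) (σ 5) = 0 ∧ T.a (σ 5) (σ 5) = -4 * w) ∨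
      (T.m (σ 0) = m ∧ T.m (σ 1) = m ∧ T.m (σ 2) = 2 * m ∧ T.m (σ 3) = 2 * m ∧ T.m (σ 4) = m ∧ T.m (σ 5) = m ∧ T.w (σ 0) = w ∧ T.w (σ 1) = w ∧ T.w (σ 2) = w ∧ T.w (σ 3) = w ∧ T.w (σ 4) = w ∧ T.w (σ 5) = w ∧ T.a (σ 0) (σ 0) = -2 * w ∧ T.a (σ 0) (σ 1) = 0 ∧ T.a (σ 0) (σ 2) = w ∧ T.a (σ 0) (σ 3) = 0 ∧ T.a (σ 0) (σ 4) = 0 ∧ T.a (σ 0) (σ 5) = 0 ∧ T.a (σ 1) (σ 1) = -2 * w ∧ T.a (σ 1) (σ 2) = w ∧ T.a (σ 1) (σ 3) = 0 ∧ T.a (σ 1) (σ 4) = 0 ∧ T.a (σ 1) (σ 5) = 0 ∧ T.a (σ 2) (σ 2) = -2 * w ∧ T.a (σ 2) (σ 3) = w ∧ T.a (σ 2) (σ 4) = 0 ∧ T.a (σ 2) (σ 5) = 0 ∧ T.a (σ 3) (σ 3) = -2 * w ∧ T.a (σ 3) (σ 4) = w ∧ T.a (σ 3) (σ 5) = w ∧ T.a (σ 4) (σ 4) = -2 * w ∧ T.a (σ 4) (σ 5) = 0 ∧ T.a (σ 5) (σ 5) = -2 * w)) := by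
  have h2 := NumType.isMinusTwo_of_genus_one T hmin (by omega) hg
  refine ⟨fun i => (h2 i).1, ?_⟩
  rcases NumType.forms (by omega) h2 with h | h | h | h | h | h | ⟨hn, h⟩ | ⟨hn, h⟩ | ⟨hn, h⟩ | ⟨hn, h⟩ | ⟨hn, h⟩ | ⟨hn, h⟩
  · obtain ⟨σ, m, w, hf⟩ := h
    refine ⟨σ, m, w, ?_⟩
    refine Or.inl ?_; simp [hf.hm, hf.hw, hf.hd, hf.ha, NumType.Sh.cM, NumType.Sh.cA, NumType.Sh.m221, NumType.Sh.w124, NumType.Sh.a124, NumType.Sh.w121, NumType.Sh.a121, NumType.Sh.m121, NumType.Sh.w212, NumType.Sh.a212, NumType.Sh.m1211, NumType.Sh.w21, NumType.Sh.aLF, NumType.Sh.m2211, NumType.Sh.w12, NumType.Sh.aSF, NumType.Sh.mFF, NumType.Sh.aFF, NumType.Sh.ofList, NumType.Sh.ofEdges, NumType.Sh.wF41, NumType.Sh.wF42, NumType.Sh.aF41, NumType.Sh.aF42, NumType.eE6, NumType.eE7,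 NumType.eE8] <;> (repeat' constructor) <;> ring
  · obtain ⟨σ, m, w, hf⟩ := h
    refine ⟨σ, m, w, ?_⟩
    refine Or.inr ?_; refine Or.inl ?_; simp [hf.hm, hf.hw, hf.hd, hf.ha, NumType.Sh.cM, NumType.Sh.cA, NumType.Sh.m221, NumType.Sh.w124, NumType.Sh.a124, NumType.Sh.w121, NumType.Sh.a121, NumType.Sh.m121, NumType.Sh.w212, NumType.Sh.a212, NumType.Sh.m1211, NumType.Sh.w21, NumType.Sh.aLF, NumType.Sh.m2211, NumType.Sh.w12, NumType.Sh.aSF, NumType.Sh.mFF, NumType.Sh.aFF, NumType.Sh.ofList, NumType.Sh.ofEdges, NumType.Sh.wF41, NumType.Sh.wF42, NumType.Sh.aF41, NumType.Sh.aF42, NumType.eE6, NumType.eE7, NumType.eE8] <;> (repeat' constructor) <;> ring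
  · obtain ⟨σ, m, w, hf⟩ := h
    refine ⟨σ, m, w, ?_⟩
    refine Or.inr ?_; refine Or.inr ?_; refine Or.inl ?_; simp [hf.hm, hf.hw, hf.hd, hf.ha, NumType.Sh.cM, NumType.Sh.cA, NumType.Sh.m221, NumType.Sh.w124, NumType.Sh.a124, NumType.Sh.w121, NumType.Sh.a121, NumType.Sh.m121, NumType.Sh.w212, NumType.Sh.a212, NumType.Sh.m1211, NumType.Sh.w21, NumType.Sh.aLF, NumType.Sh.m2211, NumType.Sh.w12, NumType.Sh.aSF, NumType.Sh.mFF, NumType.Sh.aFF, NumType.Sh.ofList, NumType.Sh.ofEdges, NumType.Sh.wF41, NumType.Sh.wF42, NumType.Sh.aF41, NumType.Sh.aF42, NumType.eE6, NumType.eE7, NumType.eE8] <;> (repeat' constructor) <;> ring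
  · obtain ⟨σ, m, w, hf⟩ := h
    refine ⟨σ, m, w, ?_⟩
    refine Or.inr ?_; refine Or.inr ?_; refine Or.inr ?_; refine Or.inl ?_; simp [hf.hm, hf.hw, hf.hd, hf.ha, NumType.Sh.cM, NumType.Sh.cA, NumType.Sh.m221, NumType.Sh.w124, NumType.Sh.a124, NumType.Sh.w121, NumType.Sh.a121, NumType.Sh.m121, NumType.Sh.w212, NumType.Sh.a212, NumType.Sh.m1211, NumType.Sh.w21, NumType.Sh.aLF, NumType.Sh.m2211, NumType.Sh.w12, NumType.Sh.aSF, NumType.Sh.mFF, NumType.Sh.aFF, NumType.Sh.ofList, NumType.Sh.ofEdges, NumType.Sh.wF41, NumType.Sh.wF42, NumType.Sh.aF41, NumType.Sh.aF42, NumType.eE6, NumType.eE7, NumType.eE8] <;> (repeat' constructor) <;> ring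
  · obtain ⟨σ, m, w, hf⟩ := h
    refine ⟨σ, m, w, ?_⟩
    refine Or.inr ?_; refine Or.inr ?_; refine Or.inr ?_; refine Or.inr ?_; refine Or.inl ?_; simp [hf.hm, hf.hw, hf.hd, hf.ha, NumType.Sh.cM, NumType.Sh.cA, NumType.Sh.m221, NumType.Sh.w124, NumType.Sh.a124, NumType.Sh.w121, NumType.Sh.a121, NumType.Sh.m121, NumType.Sh.w212, NumType.Sh.a212, NumType.Sh.m1211, NumType.Sh.w21, NumType.Sh.aLF, NumType.Sh.m2211, NumType.Sh.w12, NumType.Sh.aSF, NumType.Sh.mFF, NumType.Sh.aFF, NumType.Sh.ofList, NumType.Sh.ofEdges, NumType.Sh.wF41, NumType.Sh.wF42, NumType.Sh.aF41, NumType.Sh.aF42, NumType.eE6, NumType.eE7, NumType.eE8] <;> (repeat' constructor) <;> ring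
  · obtain ⟨σ, m, w, hf⟩ := h
    refine ⟨σ, m, w, ?_⟩
    refine Or.inr ?_; refine Or.inr ?_; refine Or.inr ?_; refine Or.inr ?_; refine Or.inr ?_; refine Or.inl ?_; simp [hf.hm, hf.hw, hf.hd, hf.ha, NumType.Sh.cM, NumType.Sh.cA, NumType.Sh.m221, NumType.Sh.w124, NumType.Sh.a124, NumType.Sh.w121, NumType.Sh.a121, NumType.Sh.m121, NumType.Sh.w212, NumType.Sh.a212, NumType.Sh.m1211, NumType.Sh.w21, NumType.Sh.aLF, NumType.Sh.m2211, NumType.Sh.w12, NumType.Sh.aSF, NumType.Sh.mFF, NumType.Sh.aFF, NumType.Sh.ofList, NumType.Sh.ofEdges, NumType.Sh.wF41, NumType.Sh.wF42, NumType.Sh.aF41, NumType.Sh.aF42, NumType.eE6, NumType.eE7, NumType.eE8] <;> (repeat' constructor) <;> ring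
  · obtain ⟨σ, m, w, hf⟩ := h
    refine ⟨σ, m, w, ?_⟩
    refine Or.inr ?_; refine Or.inr ?_; refine Or.inr ?_; refine Or.inr ?_; refine Or.inr ?_; refine Or.inr ?_; simp [hf.hm, hf.hw, hf.hd, hf.ha, NumType.Sh.cM, NumType.Sh.cA, NumType.Sh.m221, NumType.Sh.w124, NumType.Sh.a124, NumType.Sh.w121, NumType.Sh.a121, NumType.Sh.m121, NumType.Sh.w212, NumType.Sh.a212, NumType.Sh.m1211, NumType.Sh.w21, NumType.Sh.aLF, NumType.Sh.m2211, NumType.Sh.w12, NumType.Sh.aSF, NumType.Sh.mFF, NumType.Sh.aFF, NumType.Sh.ofList, NumType.Sh.ofEdges, NumType.Sh.wF41, NumType.Sh.wF42, NumType.Sh.aF41, NumType.Sh.aF42, NumType.eE6, NumType.eE7, NumType.eE8] <;> (repeat' constructor) <;> ring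
  · omega
  · omega
  · omega
  · omega
  · omega

end Groth.Agent.S7367
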