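import Groth.Statements.S7384
import Groth.Agent.LimLib.RelApprox

set_option autoImplicit false
universe u
open CategoryTheory AlgebraicGeometry
open Lim

namespace Groth.Agent.S7384

/-- Let `f : X → S` be a morphism of quasi-compact quasi-separated schemes. Then `f` is a limit of
morphisms `f_i : X_i → S_i` indexed by a nonempty directed set: there are inverse systems `X_i`,
`S_i` of quasi-compact schemes locally of finite type over `ℤ` with affine transition morphisms, a
compatible family of morphisms `f_i`, and limit cones identified with `X` and `S` compatibly with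
`f`. -/
theorem result {X S : Scheme.{u}} (f : X ⟶ S) [CompactSpace X]
    [QuasiSeparatedSpace X] [CompactSpace S] [QuasiSeparatedSpace S] :
    ∃ (I : Type u) (_ : Preorder I) (_ : IsDirected I (fun a b => a ≤ b)) (_ : Nonempty I)
      (DX DS : Iᵒᵖ ⥤ Scheme.{u}) (φ : DX ⟶ DS)
      (cX : Limits.Cone DX) (cS : Limits.Cone DS) (_ : Limits.IsLimit cX) (_ : Limits.IsLimit cS)
      (eX : cX.pt ≅ X) (eS : cS.pt ≅ S),
      (∀ (i j : Iᵒᵖ) (a : i ⟶ j), IsAffineHom (DX.map a) ∧ IsAffineHom (DS.map a)) ∧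
      (∀ i, CompactSpace (DX.obj i) ∧ CompactSpace (DS.obj i) ∧
        LocallyOfFiniteType (Limits.IsTerminal.from specULiftZIsTerminal (DX.obj i)) ∧
        LocallyOfFiniteType (Limits.IsTerminal.from specULiftZIsTerminal (DS.obj i))) ∧
      (∀ i, cX.π.app i ≫ φ.app i = eX.hom ≫ f ≫ eS.inv ≫ cS.π.app i) := by
  obtain ⟨P⟩ := LimLib.nonempty_ftSystem X
  obtain ⟨Q⟩ := LimLib.nonempty_ftSystem S
  refine ⟨LimLib.ArrowIdx P Q f, inferInstance, inferInstance, inferInstance,
    LimLib.ArrowIdx.fstFun P Q f ⋙ P.D, LimLib.ArrowIdx.sndFun P Q f ⋙ Q.D,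
    LimLib.ArrowIdx.arrow P Q f, (Limits.Cone.mk X P.π).whisker _, (Limits.Cone.mk S Q.π).whisker _,
    (Functor.Initial.isLimitWhiskerEquiv _ _).symm P.isLimit.some,
    (Functor.Initial.isLimitWhiskerEquiv _ _).symm Q.isLimit.some, Iso.refl _, Iso.refl _,
    fun i j a => ⟨P.isAffineHom _, Q.isAffineHom _⟩,
    fun i => ⟨P.compactSpace _, Q.compactSpace _, P.lft _, Q.lft _⟩, fun i => ?_⟩
  show P.π.app _ ≫ i.unop.g = 𝟙 X ≫ f ≫ 𝟙 S ≫ Q.π.app _
  simp only [Category.id_comp]
  exact i.unop.w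

end Groth.Agent.S7384
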