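import Groth.Statements.S7386
import Mathlib.AlgebraicGeometry.Limits
import Groth.Agent.LimTop.Closure
-- import your own Groth.Agent.* helpers here

set_option autoImplicit false
universe u
open CategoryTheory AlgebraicGeometry
open Mor

namespace Groth.Agent.S7386
set_option backward.isDefEq.respectTransparency.types false
open TopologicalSpace

variable {X : Scheme.{u}} [QuasiSeparatedSpace X]

lemma notMem_closure {U : X.Opens} (hU : IsAffineOpen U) {p : X}
    (hp : closure ({p} : Set X) ∈ irreducibleComponents (X : Type u)) (hpU : p ∉ U) :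
    p ∉ closure (U : Set X) := by
  intro hcl
  have hpc : ProCons.IsProConstructible (U : Set X) := fun _ =>
    ⟨Set.univ, isOpen_univ, trivial, {Subtype.val ⁻¹' (U : Set X)}, by
      rintro T rfl
      exact ((hU.isCompact.isConstructible U.isOpen).isLocallyConstructible).preimage_of_isOpenEmbedding
        isOpen_univ.isOpenEmbedding_subtypeVal, by simp⟩
  obtain ⟨z, hzU, hz⟩ := Groth.Agent.LimTop.exists_specializes_of_mem_closure hpc hcl
  have hle : closure ({z} : Set X) ⊆ closure {p} :=
    hp.2 isIrreducible_singleton.closure hz.closure_subset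
  exact hpU ((specializes_iff_closure_subset.mpr hle).mem_open U.isOpen hzU)

lemma isAffineOpen_sup_of_disjoint {B C : X.Opens} (hB : IsAffineOpen B) (hC : IsAffineOpen C)
    (h : Disjoint B C) : IsAffineOpen (B ⊔ C) := by
  rw [sup_eq_iSup]
  refine IsAffineOpen.iSup_of_disjoint (fun b => ?_) ?_
  · cases b <;> assumption
  · rintro ( _ | _ ) ( _ | _ ) hne <;> first | exact absurd rfl hne | exact h | exact h.symm

lemma exists_affine_of_generic (O : X.Opens) (F : Finset X)
    (hF : ∀ p ∈ F, closure ({p} : Set X) ∈ irreducibleComponents (X : Type u))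
    (hFO : ∀ p ∈ F, p ∈ O) : ∃ B : X.Opens, IsAffineOpen B ∧ B ≤ O ∧ ∀ p ∈ F, p ∈ B := by
  classical
  induction F using Finset.induction_on with
  | empty => exact ⟨⊥, isAffineOpen_bot X, bot_le, by simp⟩
  | insert a F _ ih =>
    simp only [Finset.forall_mem_insert] at hF hFO
    obtain ⟨B, hB, hBO, hFB⟩ := ih hF.2 hFO.2
    by_cases haB : a ∈ B
    · exact ⟨B, hB, hBO, Finset.forall_mem_insert _ _ _ |>.mpr ⟨haB, hFB⟩⟩
    obtain ⟨_, ⟨C, hC, rfl⟩, haC, hCsub⟩ := X.isBasis_affineOpens.exists_subset_of_mem_open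
      (show a ∈ (O : Set X) ∩ (closure (B : Set X))ᶜ from ⟨hFO.1, notMem_closure hB hF.1 haB⟩)
      (O.isOpen.inter isClosed_closure.isOpen_compl)
    have hd : Disjoint B C := by
      rw [← Opens.coe_disjoint, Set.disjoint_left]
      exact fun y hy hy' => (hCsub hy').2 (subset_closure hy)
    exact ⟨B ⊔ C, isAffineOpen_sup_of_disjoint hB hC hd, sup_le hBO fun y hy => (hCsub hy).1,
      Finset.forall_mem_insert _ _ _ |>.mpr ⟨Or.inr haC, fun p hp => Or.inl (hFB p hp)⟩⟩

/-- Let `X` be a quasi-separated scheme, `η_1, …, η_n` generic points of irreducible components of `X`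
and `x` any point of `X`. Then some affine open of `X` contains `x` and all the `η_i`. -/
theorem result (X : Scheme.{u}) [QuasiSeparatedSpace X] {n : ℕ}
    (η : Fin n → X) (hη : ∀ i, closure ({η i} : Set X) ∈ irreducibleComponents (X : Type u)) (x : X) :
    ∃ U : X.Opens, IsAffineOpen U ∧ x ∈ U ∧ ∀ i, η i ∈ U := by
  classical
  obtain ⟨U, hU, hxU, -⟩ := exists_isAffineOpen_mem_and_subset (U := ⊤) (Set.mem_univ x)
  obtain ⟨B, hB, hBO, hFB⟩ := exists_affine_of_generic
    (⟨(closure (U : Set X))ᶜ, isClosed_closure.isOpen_compl⟩ : X.Opens)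
    ((Finset.univ.image η).filter fun p => p ∉ U)
    (fun p hp => by
      obtain ⟨⟨i, -, rfl⟩, -⟩ := And.imp_left Finset.mem_image.mp (Finset.mem_filter.mp hp)
      exact hη i)
    (fun p hp => by
      obtain ⟨⟨i, -, rfl⟩, hpU⟩ := And.imp_left Finset.mem_image.mp (Finset.mem_filter.mp hp)
      exact notMem_closure hU (hη i) hpU)
  have hd : Disjoint U B := by
    rw [← Opens.coe_disjoint, Set.disjoint_left]
    exact fun y hy hy' => hBO hy' (subset_closure hy)
  refine ⟨U ⊔ B, isAffineOpen_sup_of_disjoint hU hB hd, Or.inl hxU, fun i => ?_⟩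
  by_cases h : η i ∈ U
  · exact Or.inl h
  · exact Or.inr (hFB _ (Finset.mem_filter.mpr ⟨Finset.mem_image_of_mem _ (Finset.mem_univ i), h⟩))

end Groth.Agent.S7386
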