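import Groth.Statements.S7387
import Mathlib.AlgebraicGeometry.Limits
import Mathlib.AlgebraicGeometry.Morphisms.Separated
-- import your own Groth.Agent.* helpers here

set_option autoImplicit false
universe u
open CategoryTheory AlgebraicGeometry
open Mor

namespace Groth.Agent.S7387
set_option backward.isDefEq.respectTransparency.types false
open CategoryTheory.Limits

open scoped Function in
lemma isSeparated_iSup_of_disjoint {X : Scheme.{u}} {n : ℕ} (V W : Fin n → X.Opens)
    (hV : ∀ i, IsAffineOpen (V i)) (hWV : ∀ i, W i ≤ V i) (hdisj : Pairwise (Disjoint on W)) :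
    (↑(⨆ i, W i) : Scheme.{u}).IsSeparated := by
  have hg : IsOpenImmersion (Sigma.desc fun i => (W i).ι) :=
    isOpenImmersion_sigmaDesc _ _ (fun i j e => by
      show Disjoint (Set.range (W i).ι) (Set.range (W j).ι)
      rw [Scheme.Opens.range_ι, Scheme.Opens.range_ι]
      exact TopologicalSpace.Opens.coe_disjoint.mpr (hdisj e))
  have : ∀ i, IsAffine (V i).toScheme := fun i => hV i
  let a : ∀ i, (W i).toScheme ⟶ ∐ fun i => (V i).toScheme := fun i =>
    X.homOfLE (hWV i) ≫ Sigma.ι (fun i => (V i).toScheme) i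
  have hg' : IsOpenImmersion (Sigma.desc a) := by
    refine isOpenImmersion_sigmaDesc _ _ (fun i j e => ?_)
    have hd := TopologicalSpace.Opens.coe_disjoint.mpr
      (disjoint_opensRange_sigmaι (fun i => (V i).toScheme) i j e)
    refine Set.disjoint_of_subset ?_ ?_ hd <;>
    · rintro _ ⟨x, rfl⟩
      exact ⟨_, (Scheme.Hom.comp_apply _ _ x).symm⟩
  have hsep : (∐ fun i => (W i).toScheme).IsSeparated := by
    rw [Scheme.isSeparated_iff, ← Limits.terminal.comp_from (Sigma.desc a)]
    infer_instance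
  have hrange : (⨆ i, W i : X.Opens) = (Sigma.desc fun i => (W i).ι).opensRange := by
    ext x
    simp only [TopologicalSpace.Opens.coe_iSup, Set.mem_iUnion, SetLike.mem_coe]
    constructor
    · rintro ⟨i, hi⟩
      exact ⟨Sigma.ι (fun i => (W i).toScheme) i ⟨x, hi⟩, by
        rw [← Scheme.Hom.comp_apply, Sigma.ι_desc]; rfl⟩
    · rintro ⟨y, rfl⟩
      obtain ⟨i, z, rfl⟩ := (sigmaOpenCover fun i => (W i).toScheme).exists_eq y
      refine ⟨i, ?_⟩
      erw [← Scheme.Hom.comp_apply, Sigma.ι_desc]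
      exact z.2
  have hiso := (Sigma.desc fun i => (W i).ι).isoOpensRange
  rw [hrange]
  rw [Scheme.isSeparated_iff, ← Limits.terminal.comp_from hiso.inv]
  infer_instance

/-- A quasi-compact scheme has a dense open subscheme which is separated. -/
theorem result (X : Scheme.{u}) [CompactSpace X] :
    ∃ V : X.Opens, Dense (V : Set X) ∧ (V : Scheme.{u}).IsSeparated := by
  classical
  obtain ⟨t, ht⟩ := isCompact_univ.elim_finite_subcover (fun U : X.affineOpens => (U.1 : Set X))
    (fun U => U.1.isOpen) (fun x _ => by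
      obtain ⟨_, ⟨U, hU, rfl⟩, hx, -⟩ :=
        X.isBasis_affineOpens.exists_subset_of_mem_open (Set.mem_univ x) isOpen_univ
      exact Set.mem_iUnion.mpr ⟨⟨U, hU⟩, hx⟩)
  let V : Fin t.card → X.Opens := fun i => (t.equivFin.symm i).1.1
  have hV : ∀ i, IsAffineOpen (V i) := fun i => (t.equivFin.symm i).1.2
  have hcov : ∀ x : X, ∃ i, x ∈ V i := fun x => by
    have := ht (Set.mem_univ x)
    simp only [Set.mem_iUnion] at this
    obtain ⟨U, hU, hx⟩ := this
    exact ⟨t.equivFin ⟨U, hU⟩, by simpa [V] using hx⟩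
  let W : Fin t.card → X.Opens := fun i => V i ⊓
    ⟨(closure (⋃ j < i, (V j : Set X)))ᶜ, isClosed_closure.isOpen_compl⟩
  have hWV : ∀ i, W i ≤ V i := fun i => inf_le_left
  have hlt : ∀ i j, i < j → Disjoint (W i) (W j) := fun i j hij => by
    rw [← TopologicalSpace.Opens.coe_disjoint, Set.disjoint_left]
    intro x hxi hxj
    exact hxj.2 (subset_closure (Set.mem_biUnion hij (hWV i hxi)))
  refine ⟨⨆ i, W i, ?_, isSeparated_iSup_of_disjoint V W hV hWV
    (fun i j hne => (lt_or_gt_of_ne hne).elim (hlt i j) (fun h => (hlt j i h).symm))⟩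
  rw [dense_iff_inter_open]
  intro O hO hne
  obtain ⟨x, hx⟩ := hne
  let P : Finset (Fin t.card) := Finset.univ.filter fun i => (O ∩ V i).Nonempty
  have hP : P.Nonempty := by
    obtain ⟨i, hi⟩ := hcov x
    exact ⟨i, Finset.mem_filter.mpr ⟨Finset.mem_univ _, x, hx, hi⟩⟩
  obtain ⟨y, hyO, hyV⟩ := (Finset.mem_filter.mp (P.min'_mem hP)).2
  refine ⟨y, hyO, TopologicalSpace.Opens.mem_iSup.mpr ⟨P.min' hP, hyV, ?_⟩⟩
  intro hy
  obtain ⟨z, hzO, hz⟩ := mem_closure_iff.mp hy O hO hyO
  obtain ⟨j, hj, hzj⟩ := Set.mem_iUnion₂.mp hz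
  exact absurd (P.min'_le j (Finset.mem_filter.mpr ⟨Finset.mem_univ _, z, hzO, hzj⟩)) (not_le.mpr hj)

end Groth.Agent.S7387
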