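import Groth.Statements.S7388
import Mathlib.AlgebraicGeometry.Morphisms.Immersion
import Mathlib.AlgebraicGeometry.ProjectiveSpectrum.Basic
-- import your own Groth.Agent.* helpers here

set_option autoImplicit false
universe u
open CategoryTheory AlgebraicGeometry
open Mor

namespace Groth.Agent.S7388

section
variable {R A : Type u} [CommRing R] [CommRing A] [Algebra R A] (𝒜 : ℕ → Submodule R A)
  [GradedAlgebra 𝒜]

/-- homogeneous element of positive degree around a point in an open -/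
lemma exists_hom_at (U : TopologicalSpace.Opens (ProjectiveSpectrum 𝒜))
    (x : ProjectiveSpectrum 𝒜) (hx : x ∈ U) :
    ∃ (d : ℕ) (f : A), 0 < d ∧ f ∈ 𝒜 d ∧ ProjectiveSpectrum.basicOpen 𝒜 f ≤ U ∧
      f ∉ x.asHomogeneousIdeal := by
  obtain ⟨s, hs⟩ := (ProjectiveSpectrum.isOpen_iff 𝒜 (U : Set (ProjectiveSpectrum 𝒜))).mp U.isOpen
  have hxz : x ∉ ProjectiveSpectrum.zeroLocus 𝒜 s := by rw [← hs]; exact fun h => h hx
  obtain ⟨a, has, hax⟩ := Set.not_subset.mp hxz
  have hle : ProjectiveSpectrum.basicOpen 𝒜 a ≤ U := by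
    intro z hz
    by_contra hzU
    have : z ∈ ProjectiveSpectrum.zeroLocus 𝒜 s := by rw [← hs]; exact hzU
    exact hz (this has)
  have hmem : x ∈ ProjectiveSpectrum.basicOpen 𝒜 a := hax
  rw [ProjectiveSpectrum.basicOpen_eq_union_of_projection, TopologicalSpace.Opens.mem_iSup] at hmem
  obtain ⟨i, hi⟩ := hmem
  obtain ⟨g, hg, hgx⟩ := SetLike.not_le_iff_exists.mp x.not_irrelevant_le
  have hmem' : x ∈ ProjectiveSpectrum.basicOpen 𝒜 g := hgx
  rw [ProjectiveSpectrum.basicOpen_eq_union_of_projection, TopologicalSpace.Opens.mem_iSup] at hmem'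
  obtain ⟨j, hj⟩ := hmem'
  have hj0 : 0 < j := by
    by_contra h0
    obtain rfl : j = 0 := by omega
    apply hj
    have h : GradedRing.proj 𝒜 0 g = 0 := (HomogeneousIdeal.mem_irrelevant_iff _ _).mp hg
    rw [h]; exact zero_mem _
  refine ⟨i + j, GradedRing.proj 𝒜 i a * GradedRing.proj 𝒜 j g, by omega,
    SetLike.mul_mem_graded (SetLike.coe_mem _) (SetLike.coe_mem _), ?_, ?_⟩
  · refine (ProjectiveSpectrum.basicOpen_mul_le_left 𝒜 _ _).trans (le_trans ?_ hle)
    rw [ProjectiveSpectrum.basicOpen_eq_union_of_projection 𝒜 a]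
    exact le_iSup (fun k => ProjectiveSpectrum.basicOpen 𝒜 (GradedRing.proj 𝒜 k a)) i
  · exact fun h => (x.isPrime.mem_or_mem h).elim hi hj

lemma exists_hom_sep (x y : ProjectiveSpectrum 𝒜) (h : ¬ x ≤ y) :
    ∃ (d : ℕ) (b : A), b ∈ 𝒜 d ∧ b ∈ x.asHomogeneousIdeal ∧ b ∉ y.asHomogeneousIdeal := by
  obtain ⟨b, hbx, hby⟩ := SetLike.not_le_iff_exists.mp
    (show ¬ x.asHomogeneousIdeal ≤ y.asHomogeneousIdeal from h)
  have hmem : y ∈ ProjectiveSpectrum.basicOpen 𝒜 b := hby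
  rw [ProjectiveSpectrum.basicOpen_eq_union_of_projection, TopologicalSpace.Opens.mem_iSup] at hmem
  obtain ⟨i, hi⟩ := hmem
  exact ⟨i, GradedRing.proj 𝒜 i b, SetLike.coe_mem _, x.asHomogeneousIdeal.2 i hbx, hi⟩

lemma exists_hom_finite (U : TopologicalSpace.Opens (ProjectiveSpectrum 𝒜))
    (P : Finset (ProjectiveSpectrum 𝒜)) (hP : ∀ x ∈ P, x ∈ U) :
    ∃ (d : ℕ) (f : A), 0 < d ∧ f ∈ 𝒜 d ∧ ProjectiveSpectrum.basicOpen 𝒜 f ≤ U ∧
      ∀ x ∈ P, f ∉ x.asHomogeneousIdeal := by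
  classical
  induction P using Finset.strongInduction with
  | _ P IH =>
    rcases P.eq_empty_or_nonempty with rfl | hne
    · exact ⟨1, 0, one_pos, zero_mem _, by rw [ProjectiveSpectrum.basicOpen_zero]; exact bot_le,
        by simp⟩
    obtain ⟨q, hq⟩ := P.exists_minimal hne
    obtain ⟨d, f, hd, hfd, hfU, hf⟩ := IH (P.erase q) (Finset.erase_ssubset hq.1)
      fun x hx => hP x (Finset.mem_of_mem_erase hx)
    by_cases hfq : f ∈ q.asHomogeneousIdeal
    · obtain ⟨e, g, he, hge, hgU, hgq⟩ := exists_hom_at 𝒜 U q (hP q hq.1)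
      have hsep : ∀ x ∈ P.erase q, ∃ (n : ℕ) (b : A), b ∈ 𝒜 n ∧ b ∈ x.asHomogeneousIdeal ∧
          b ∉ q.asHomogeneousIdeal := fun x hx => exists_hom_sep 𝒜 x q fun hle =>
        Finset.ne_of_mem_erase hx (le_antisymm hle (hq.2 (Finset.mem_of_mem_erase hx) hle))
      choose! n b hb hbx hbq using hsep
      set B : A := ∏ x ∈ P.erase q, b x with hB
      have hBd : B ∈ 𝒜 (∑ x ∈ P.erase q, n x) := SetLike.prod_mem_graded 𝒜 n b hb
      have hBq : B ∉ q.asHomogeneousIdeal := fun h => by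
        obtain ⟨x, hx, hx'⟩ := q.isPrime.prod_mem_iff.mp h
        exact hbq x hx hx'
      set E : ℕ := e + ∑ x ∈ P.erase q, n x
      have hG : g * B ∈ 𝒜 E := SetLike.mul_mem_graded hge hBd
      refine ⟨E * d, f ^ E + (g * B) ^ d, Nat.mul_pos (by omega) hd,
        add_mem ?_ ?_, ?_, fun x hx hmem => ?_⟩
      · simpa [smul_eq_mul] using SetLike.pow_mem_graded E hfd
      · simpa [smul_eq_mul, mul_comm] using SetLike.pow_mem_graded d hG
      · intro z hz
        by_cases h1 : f ∈ z.asHomogeneousIdeal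
        · refine hgU fun hgz => hz ?_
          exact add_mem (Ideal.pow_mem_of_mem _ h1 E (by omega))
            (Ideal.pow_mem_of_mem _ (Ideal.mul_mem_right _ _ hgz) d hd)
        · exact hfU h1
      · rcases eq_or_ne x q with rfl | hne'
        · have h1 := Ideal.pow_mem_of_mem _ hfq E (by omega)
          have h2 := x.isPrime.mem_of_pow_mem d ((Ideal.add_mem_iff_right _ h1).mp hmem)
          exact (x.isPrime.mem_or_mem h2).elim hgq hBq
        · have hx' := Finset.mem_erase.mpr ⟨hne', hx⟩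
          have h2 : (g * B) ^ d ∈ x.asHomogeneousIdeal.toIdeal :=
            Ideal.pow_mem_of_mem _ (Ideal.mul_mem_left _ _ (Ideal.prod_mem _ hx' (hbx x hx'))) d hd
          exact hf x hx' (x.isPrime.mem_of_pow_mem E ((Ideal.add_mem_iff_left _ h2).mp hmem))
    · refine ⟨d, f, hd, hfd, hfU, fun x hx => ?_⟩
      rcases eq_or_ne x q with rfl | hne'
      · exact hfq
      · exact hf x (Finset.mem_erase.mpr ⟨hne', hx⟩)

end

/-- Let `X` be a scheme admitting an immersion into `Proj S` for some graded ring `S`. Then any finite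
set of points of `X` is contained in an affine open of `X`. -/
theorem result {R A : Type u} [CommRing R] [CommRing A] [Algebra R A]
    (𝒜 : ℕ → Submodule R A) [GradedAlgebra 𝒜] {X : Scheme.{u}} (ι : X ⟶ Proj 𝒜) [IsImmersion ι]
    (E : Set X) (hE : E.Finite) :
    ∃ U : X.Opens, IsAffineOpen U ∧ E ⊆ U := by
  classical
  have hsub : ∀ x ∈ (hE.image ι).toFinset, x ∈ ι.coborderRange := fun x hx => by
    obtain ⟨y, -, rfl⟩ := (Set.Finite.mem_toFinset _).mp hx
    exact subset_coborder (Set.mem_range_self y)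
  obtain ⟨d, f, hd, hfd, hfU, hf⟩ := exists_hom_finite 𝒜 ι.coborderRange _ hsub
  have h0 : IsAffineOpen (Proj.basicOpen 𝒜 f) := Proj.isAffineOpen_basicOpen 𝒜 f hfd hd
  have h1 : IsAffineOpen (ι.coborderRange.ι ⁻¹ᵁ Proj.basicOpen 𝒜 f) :=
    h0.preimage_of_isOpenImmersion _ (by rw [Scheme.Opens.opensRange_ι]; exact hfU)
  refine ⟨ι.liftCoborder ⁻¹ᵁ (ι.coborderRange.ι ⁻¹ᵁ Proj.basicOpen 𝒜 f), h1.preimage _,
    fun x hx => ?_⟩
  show ι.coborderRange.ι (ι.liftCoborder x) ∈ Proj.basicOpen 𝒜 f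
  rw [← Scheme.Hom.comp_apply, ι.liftCoborder_ι]
  exact hf (ι x) ((Set.Finite.mem_toFinset _).mpr ⟨x, hx, rfl⟩)

end Groth.Agent.S7388
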