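import Groth.Statements.S7389
import Mathlib.AlgebraicGeometry.Morphisms.Immersion
import Groth.Agent.GrpdLib.InvAffine
-- import your own Groth.Agent.* helpers here

set_option autoImplicit false
universe u
open CategoryTheory AlgebraicGeometry
open Mor

namespace Groth.Agent.S7389

/-- Let `X` be a scheme admitting an immersion into an affine scheme. Then any finite set of points of
`X` is contained in an affine open of `X`. -/
theorem result {X Y : Scheme.{u}} [IsAffine Y] (ι : X ⟶ Y)
    [IsImmersion ι] (E : Set X) (hE : E.Finite) :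
    ∃ U : X.Opens, IsAffineOpen U ∧ E ⊆ U := by
  obtain ⟨f, hf, hEf⟩ := Groth.Agent.GrpdLib.exists_basicOpen_le_of_finite (isAffineOpen_top Y)
    (U := ι.coborderRange) (hE.image ι) (by
      rintro _ ⟨x, -, rfl⟩
      exact subset_coborder (Set.mem_range_self x)) (Set.subset_univ _)
  have h1 : IsAffineOpen (ι.coborderRange.ι ⁻¹ᵁ Y.basicOpen f) :=
    ((isAffineOpen_top Y).basicOpen f).preimage_of_isOpenImmersion _
      (by rw [Scheme.Opens.opensRange_ι]; exact hf)
  refine ⟨ι.liftCoborder ⁻¹ᵁ (ι.coborderRange.ι ⁻¹ᵁ Y.basicOpen f), h1.preimage _, fun x hx => ?_⟩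
  show ι.coborderRange.ι (ι.liftCoborder x) ∈ Y.basicOpen f
  rw [← Scheme.Hom.comp_apply, ι.liftCoborder_ι]
  exact hEf ⟨x, hx, rfl⟩

end Groth.Agent.S7389
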