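import Groth.Statements.S7390
import Mathlib.AlgebraicGeometry.Morphisms.Affine
import Groth.Agent.Props.GenLocus
-- import your own Groth.Agent.* helpers here

set_option autoImplicit false
universe u
open CategoryTheory AlgebraicGeometry
open Mor

namespace Groth.Agent.S7390
set_option backward.isDefEq.respectTransparency.types false
open CategoryTheory.Limits

lemma isAffineHom_genLocus {X : Scheme.{u}} {L : X.Modules} (hL : PicF.IsInvertible L)
    (s : Coh.structureModule X ⟶ L) : IsAffineHom (CohB1.genLocus L s).ι := by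
  refine isAffineHom_of_forall_exists_isAffineOpen _ fun x => ?_
  obtain ⟨U, e, hxU, he⟩ := Groth.Agent.Props.GenLocus.exists_isGen hL x
  obtain ⟨W, hW, hxW, hWU⟩ := exists_isAffineOpen_mem_and_subset hxU
  have he' := he.restrict hWU
  obtain ⟨φ, hφ, -⟩ := he'.exists_eq le_rfl (Groth.Agent.Props.GenLocus.sec s W)
  rw [Groth.Agent.QCoh.res_self] at hφ
  refine ⟨W, hxW, hW, ?_⟩
  rw [← Scheme.Hom.isAffineOpen_iff_of_isOpenImmersion (CohB1.genLocus L s).ι,
    Scheme.Hom.image_preimage_eq_opensRange_inf, Scheme.Opens.opensRange_ι,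
    Groth.Agent.Props.GenLocus.genLocus_inf he' s hφ]
  exact hW.basicOpen φ

/-- Let `X` be a scheme such that every point lies in some affine open `X_s`, the locus where a global
section `s` generates an invertible `O_X`-module `L` (both depending on the point). Then the
diagonal of `X` is an affine morphism. -/
theorem result (X : Scheme.{u})
    (h : ∀ x : X, ∃ (L : X.Modules) (s : Coh.structureModule X ⟶ L), PicF.IsInvertible L ∧
      x ∈ CohB1.genLocus L s ∧ IsAffineOpen (CohB1.genLocus L s)) :
    IsAffineHom (Limits.pullback.diagonal (Limits.terminal.from X)) := by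
  choose L s hL hx hA using h
  have hcov : TopologicalSpace.IsOpenCover (fun x => CohB1.genLocus (L x) (s x)) :=
    TopologicalSpace.Opens.ext (Set.eq_univ_of_forall fun x => by
      simpa using ⟨x, hx x⟩)
  let 𝒰 := X.openCoverOfIsOpenCover _ hcov
  have : ∀ i, IsAffine (𝒰.X i) := hA
  let := HasAffineProperty.isLocal_affineProperty @IsAffineHom
  refine (HasAffineProperty.iff_of_isAffine (P := MorphismProperty.diagonal @IsAffineHom)
    (f := terminal.from X)).mpr ?_
  refine AffineTargetMorphismProperty.diagonal_of_openCover_source _ 𝒰 fun i j => ?_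
  have hij : IsAffineOpen (CohB1.genLocus (L i) (s i) ⊓ CohB1.genLocus (L j) (s j)) := by
    have := isAffineHom_genLocus (hL i) (s i)
    have h2 := (hA j).preimage (CohB1.genLocus (L i) (s i)).ι
    rwa [← Scheme.Hom.isAffineOpen_iff_of_isOpenImmersion (CohB1.genLocus (L i) (s i)).ι,
      Scheme.Hom.image_preimage_eq_opensRange_inf, Scheme.Opens.opensRange_ι] at h2
  have h3 : IsAffineOpen (pullback.fst (𝒰.f i) (𝒰.f j) ≫ 𝒰.f i).opensRange := by
    convert! hij
    refine TopologicalSpace.Opens.ext ?_
    rw [Scheme.Hom.coe_opensRange, IsOpenImmersion.range_pullback_to_base_of_left]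
    show Set.range (CohB1.genLocus (L i) (s i)).ι ∩ Set.range (CohB1.genLocus (L j) (s j)).ι = _
    erw [Scheme.Opens.range_ι, Scheme.Opens.range_ι]
    rfl
  change IsAffine _ at h3
  exact .of_isIso (pullback.fst (𝒰.f i) (𝒰.f j) ≫ 𝒰.f i).isoOpensRange.hom

end Groth.Agent.S7390
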