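import Groth.Statements.S7391
import Groth.Agent.QProjLib.Basic
-- import your own Groth.Agent.* helpers here

set_option autoImplicit false
universe u
open CategoryTheory AlgebraicGeometry
open Opposite
open Mor

namespace Groth.Agent.S7391

/-- Let `F` be a quasi-coherent `O_X`-module on a scheme `X`. Then `F(U)` is a projective
`O_X(U)`-module for every affine open `U` (that is, `F` is locally projective) if and only if `X`
has a covering by affine opens `U_i` with `F(U_i)` projective over `O_X(U_i)`. -/
theorem result (X : Scheme.{u}) (F : X.Modules) [Coh.IsQCoh F] :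
    (∀ U : X.Opens, IsAffineOpen U → Module.Projective (X.ringCatSheaf.obj.obj (op U)) (F.val.obj (op U))) ↔
      ∃ (I : Type u) (U : I → X.Opens), (⨆ i, U i) = ⊤ ∧ ∀ i, IsAffineOpen (U i) ∧
        Module.Projective (X.ringCatSheaf.obj.obj (op (U i))) (F.val.obj (op (U i))) := by
  have : F.IsQuasicoherent := ‹Coh.IsQCoh F›
  constructor
  · intro h
    refine ⟨X, fun x => (exists_isAffineOpen_mem_and_subset (U := ⊤) (Set.mem_univ x)).choose, ?_,
      fun x => ⟨(exists_isAffineOpen_mem_and_subset (U := ⊤) (Set.mem_univ x)).choose_spec.1, h _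
        (exists_isAffineOpen_mem_and_subset (U := ⊤) (Set.mem_univ x)).choose_spec.1⟩⟩
    exact eq_top_iff.mpr fun x _ => TopologicalSpace.Opens.mem_iSup.mpr
      ⟨x, (exists_isAffineOpen_mem_and_subset (U := ⊤) (Set.mem_univ x)).choose_spec.2.1⟩
  · rintro ⟨I, V, hcov, hV⟩ U hU
    refine Groth.Agent.QProjLib.projective_of_local F hU fun x _ => ?_
    obtain ⟨i, hi⟩ := TopologicalSpace.Opens.mem_iSup.mp (show x ∈ ⨆ i, V i from hcov ▸ trivial)
    exact ⟨V i, (hV i).1, hi, (hV i).2⟩

end Groth.Agent.S7391
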