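import Groth.Statements.S7414
import Groth.Agent.EGA4Lib.GRingPoly

set_option autoImplicit false
universe u
open CategoryTheory AlgebraicGeometry
open Mor

namespace Groth.Agent.S7414

theorem stalk_hom {X : Scheme.{u}} {U : X.Opens} (hU : IsAffineOpen U) (h : CAlg.IsGRing Γ(X, U))
    {V : X.Opens} (hV : IsAffineOpen V) [IsNoetherianRing Γ(X, V)]
    (x : X) (hxU : x ∈ U) (hxV : x ∈ V) :
    CAlg.IsRegularHom (Localization.AtPrime (hV.primeIdealOf ⟨x, hxV⟩).asIdeal)
      (AdicCompletion (IsLocalRing.maximalIdeal (Localization.AtPrime (hV.primeIdealOf ⟨x, hxV⟩).asIdeal))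
        (Localization.AtPrime (hV.primeIdealOf ⟨x, hxV⟩).asIdeal)) := by
  let q := (hU.primeIdealOf ⟨x, hxU⟩).asIdeal
  let p := (hV.primeIdealOf ⟨x, hxV⟩).asIdeal
  haveI := h.1
  let eU : Localization.AtPrime q ≃+* X.presheaf.stalk x :=
    letI := TopCat.Presheaf.algebra_section_stalk X.presheaf (⟨x, hxU⟩ : U)
    haveI := hU.isLocalization_stalk ⟨x, hxU⟩
    (IsLocalization.algEquiv q.primeCompl _ _).toRingEquiv
  let eV : Localization.AtPrime p ≃+* X.presheaf.stalk x :=
    letI := TopCat.Presheaf.algebra_section_stalk X.presheaf (⟨x, hxV⟩ : V)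
    haveI := hV.isLocalization_stalk ⟨x, hxV⟩
    (IsLocalization.algEquiv p.primeCompl _ _).toRingEquiv
  haveI : IsNoetherianRing (Localization.AtPrime q) := IsLocalization.isNoetherianRing q.primeCompl _ inferInstance
  haveI : IsNoetherianRing (Localization.AtPrime p) := IsLocalization.isNoetherianRing p.primeCompl _ inferInstance
  exact _root_.Groth.Agent.EGA4Lib.Jac.isRegularHom_completion_of_ringEquiv (eU.trans eV.symm) (h.2 q)

/-- A scheme `X` is a G-scheme (every point has an affine open neighbourhood with G-ring coordinate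
ring) if and only if `O_X(U)` is a G-ring for every affine open `U ⊆ X`. -/
theorem result (X : Scheme.{u}) :
    (∀ x : X, ∃ U : X.Opens, x ∈ U ∧ IsAffineOpen U ∧ CAlg.IsGRing Γ(X, U)) ↔
      ∀ U : X.Opens, IsAffineOpen U → CAlg.IsGRing Γ(X, U) := by
  refine ⟨fun h V hV => ?_, fun h x => ?_⟩
  · choose U hxU hU hG using h
    haveI : IsLocallyNoetherian X :=
      (isLocallyNoetherian_iff_of_iSup_eq_top (S := fun x => ⟨U x, hU x⟩)
        (eq_top_iff.mpr fun x _ => TopologicalSpace.Opens.mem_iSup.mpr ⟨x, hxU x⟩)).mpr fun x => (hG x).1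
    haveI : IsNoetherianRing Γ(X, V) := IsLocallyNoetherian.component_noetherian ⟨V, hV⟩
    refine ⟨inferInstance, fun p hp => ?_⟩
    obtain ⟨x, hxp⟩ : ∃ x : V, (hV.primeIdealOf x).asIdeal = p := by
      have hm : hV.fromSpec ⟨p, hp⟩ ∈ V := (hV.isoSpec.inv _).2
      refine ⟨⟨_, hm⟩, ?_⟩
      rw [hV.fromSpec.isOpenEmbedding.injective (hV.fromSpec_primeIdealOf ⟨_, hm⟩)]
    subst hxp
    exact stalk_hom (hU x.1) (hG x.1) hV x.1 (hxU x.1) x.2
  · obtain ⟨_, ⟨U, hU, rfl⟩, hxU, -⟩ := (X.isBasis_affineOpens).exists_subset_of_mem_open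
      (Set.mem_univ x) isOpen_univ
    exact ⟨U, hxU, hU, h U hU⟩

end Groth.Agent.S7414
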