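import Groth.Statements.S7393
import Groth.Agent.S4713
import Groth.Agent.S7414
import Groth.Agent.Hensel.ExcellentHens

set_option autoImplicit false
universe u
open CategoryTheory AlgebraicGeometry
open Mor

namespace Groth.Agent.S7393

/-- A scheme `X` is a G-scheme (every point has an affine open neighbourhood whose coordinate ring is a
G-ring) if and only if `X` is locally Noetherian and, for every closed point `x`, the completion map
of the local ring `O_{X,x} → O_{X,x}^∧` is a regular ring map. -/
theorem result (X : Scheme.{u}) :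
    (∀ x : X, ∃ U : X.Opens, x ∈ U ∧ IsAffineOpen U ∧ CAlg.IsGRing Γ(X, U)) ↔
      IsLocallyNoetherian X ∧ ∀ x : X, IsClosed ({x} : Set X) →
        CAlg.IsRegularHom (X.presheaf.stalk x)
          (AdicCompletion (IsLocalRing.maximalIdeal (X.presheaf.stalk x)) (X.presheaf.stalk x)) := by
  refine ⟨fun h => ?_, fun ⟨hN, hc⟩ x => ?_⟩
  · choose U hxU hU hG using h
    have hN : IsLocallyNoetherian X :=
      (isLocallyNoetherian_iff_of_iSup_eq_top (S := fun x => ⟨U x, hU x⟩)
        (eq_top_iff.mpr fun x _ => TopologicalSpace.Opens.mem_iSup.mpr ⟨x, hxU x⟩)).mpr fun x => (hG x).1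
    refine ⟨hN, fun x _ => ?_⟩
    haveI := (hG x).1
    haveI : IsNoetherianRing (Localization.AtPrime ((hU x).primeIdealOf ⟨x, hxU x⟩).asIdeal) :=
      IsLocalization.isNoetherianRing ((hU x).primeIdealOf ⟨x, hxU x⟩).asIdeal.primeCompl _ inferInstance
    letI := TopCat.Presheaf.algebra_section_stalk X.presheaf (⟨x, hxU x⟩ : U x)
    haveI := (hU x).isLocalization_stalk ⟨x, hxU x⟩
    exact Groth.Agent.EGA4Lib.Jac.isRegularHom_completion_of_ringEquiv
      (IsLocalization.algEquiv ((hU x).primeIdealOf ⟨x, hxU x⟩).asIdeal.primeCompl _ (X.presheaf.stalk x)).toRingEquiv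
      ((hG x).2 ((hU x).primeIdealOf ⟨x, hxU x⟩).asIdeal)
  · obtain ⟨_, ⟨V, hV, rfl⟩, hxV, -⟩ := X.isBasis_affineOpens.exists_subset_of_mem_open
      (Set.mem_univ x) isOpen_univ
    refine ⟨V, hxV, hV, ?_⟩
    haveI : IsNoetherianRing Γ(X, V) := IsLocallyNoetherian.component_noetherian ⟨V, hV⟩
    refine Groth.Agent.EGA4Lib.isGRing_of_forall_isMaximal fun m hm => ?_
    obtain ⟨y, rfl⟩ : ∃ y : V, (hV.primeIdealOf y).asIdeal = m := by
      have hm' : hV.fromSpec ⟨m, hm.isPrime⟩ ∈ V := (hV.isoSpec.inv _).2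
      refine ⟨⟨_, hm'⟩, ?_⟩
      rw [hV.fromSpec.isOpenEmbedding.injective (hV.fromSpec_primeIdealOf ⟨_, hm'⟩)]
    obtain ⟨z, hz, hzc⟩ := Groth.Agent.S4713.result X (closure {(y : X)}) isClosed_closure
      ⟨y, subset_closure rfl⟩
    obtain ⟨_, ⟨W, hW, rfl⟩, hzW, -⟩ := X.isBasis_affineOpens.exists_subset_of_mem_open
      (Set.mem_univ z) isOpen_univ
    have hyz : (y : X) ⤳ z := specializes_iff_mem_closure.2 hz
    have hyW : (y : X) ∈ W := hyz.mem_open W.2 hzW
    haveI : IsNoetherianRing Γ(X, W) := IsLocallyNoetherian.component_noetherian ⟨W, hW⟩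
    let P := hW.primeIdealOf ⟨z, hzW⟩
    let Q := hW.primeIdealOf ⟨y, hyW⟩
    have hQP : Q.asIdeal ≤ P.asIdeal := by
      refine (PrimeSpectrum.le_iff_specializes Q P).2 ?_
      refine (hW.fromSpec.isOpenEmbedding.isInducing.specializes_iff (x := Q) (y := P)).1 ?_
      rw [hW.fromSpec_primeIdealOf, hW.fromSpec_primeIdealOf]
      exact hyz
    let A := Localization.AtPrime P.asIdeal
    haveI : IsNoetherianRing A := IsLocalization.isNoetherianRing P.asIdeal.primeCompl _ inferInstance
    have hA : CAlg.IsGRing A := by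
      refine (Groth.Agent.Hensel.isGRing_iff_isRegularHom_cpl A).2 ?_
      letI := TopCat.Presheaf.algebra_section_stalk X.presheaf (⟨z, hzW⟩ : W)
      haveI := hW.isLocalization_stalk ⟨z, hzW⟩
      haveI : IsNoetherianRing (X.presheaf.stalk z) :=
        IsLocalization.isNoetherianRing P.asIdeal.primeCompl _ inferInstance
      exact Groth.Agent.EGA4Lib.Jac.isRegularHom_completion_of_ringEquiv
        (IsLocalization.algEquiv P.asIdeal.primeCompl (X.presheaf.stalk z) A).toRingEquiv (hc z hzc)
    let q : Ideal A := Q.asIdeal.map (algebraMap Γ(X, W) A)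
    have hdisj : Disjoint (P.asIdeal.primeCompl : Set Γ(X, W)) Q.asIdeal :=
      Set.disjoint_left.2 fun a ha hb => ha (hQP hb)
    haveI : q.IsPrime := IsLocalization.isPrime_of_isPrime_disjoint P.asIdeal.primeCompl A Q.asIdeal Q.2 hdisj
    have hq : q.comap (algebraMap Γ(X, W) A) = Q.asIdeal :=
      IsLocalization.comap_map_of_isPrime_disjoint P.asIdeal.primeCompl A Q.2 hdisj
    haveI := IsLocalization.isLocalization_isLocalization_atPrime_isLocalization P.asIdeal.primeCompl
      (Localization.AtPrime q) q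
    haveI hloc : IsLocalization Q.asIdeal.primeCompl (Localization.AtPrime q) := by
      have e : (q.comap (algebraMap Γ(X, W) A)).primeCompl = Q.asIdeal.primeCompl :=
        Submonoid.ext fun a => by simp [Ideal.primeCompl, ← hq]
      rw [← e]
      infer_instance
    haveI : IsNoetherianRing (Localization.AtPrime q) := IsLocalization.isNoetherianRing q.primeCompl _ inferInstance
    haveI : IsNoetherianRing (Localization.AtPrime (hV.primeIdealOf y).asIdeal) :=
      IsLocalization.isNoetherianRing (hV.primeIdealOf y).asIdeal.primeCompl _ inferInstance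
    let eW : Localization.AtPrime q ≃+* X.presheaf.stalk (y : X) :=
      letI := TopCat.Presheaf.algebra_section_stalk X.presheaf (⟨y, hyW⟩ : W)
      haveI := hW.isLocalization_stalk ⟨y, hyW⟩
      (IsLocalization.algEquiv Q.asIdeal.primeCompl _ _).toRingEquiv
    let eV : Localization.AtPrime (hV.primeIdealOf y).asIdeal ≃+* X.presheaf.stalk (y : X) :=
      letI := TopCat.Presheaf.algebra_section_stalk X.presheaf y
      haveI := hV.isLocalization_stalk y
      (IsLocalization.algEquiv (hV.primeIdealOf y).asIdeal.primeCompl _ _).toRingEquiv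
    exact Groth.Agent.EGA4Lib.Jac.isRegularHom_completion_of_ringEquiv (eW.trans eV.symm) (hA.2 q)

end Groth.Agent.S7393
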