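import Groth.Statements.S7394
import Groth.Agent.LimLib.CommonField
-- import your own Groth.Agent.* helpers here

set_option autoImplicit false
universe u
open CategoryTheory AlgebraicGeometry
open Lim

namespace Groth.Agent.S7394

/-- Let `S` be a scheme and `T_i → S`, `i ∈ I`, surjective affine morphisms. Then any product of the
`T_i` in the category of schemes over `S` maps surjectively onto `S`. -/
theorem result {S : Scheme.{u}} {I : Type u} (T : I → Over S)
    (hT : ∀ i, IsAffineHom (T i).hom ∧ Surjective (T i).hom) (c : Limits.Fan T) (hc : Limits.IsLimit c) :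
    Surjective c.pt.hom := by
  refine ⟨fun s => ?_⟩
  have hsurj : ∀ i, ∃ t, (T i).hom t = s := fun i => (hT i).2.surj s
  choose t ht using hsurj
  let m : ∀ i, S.residueField s ⟶ (T i).left.residueField (t i) := fun i =>
    (S.residueFieldCongr (ht i).symm).hom ≫ (T i).hom.residueFieldMap (t i)
  have hm : ∀ i, Spec.map (m i) ≫ S.fromSpecResidueField s =
      (T i).left.fromSpecResidueField (t i) ≫ (T i).hom := fun i => by
    simp [m, Scheme.residueFieldCongr_fromSpecResidueField]
  letI : ∀ i, Algebra (S.residueField s) ((T i).left.residueField (t i)) :=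
    fun i => (m i).hom.toAlgebra
  obtain ⟨Ω, _, _, hΩ⟩ := LimLib.exists_common_extension (S.residueField s)
    (fun i => (T i).left.residueField (t i))
  let φ : S.residueField s ⟶ CommRingCat.of Ω :=
    CommRingCat.ofHom (algebraMap (S.residueField s) Ω)
  let p : ∀ i, Over.mk (Spec.map φ ≫ S.fromSpecResidueField s) ⟶ T i := fun i =>
    Over.homMk (Spec.map (CommRingCat.ofHom (hΩ i).some.toRingHom) ≫
      (T i).left.fromSpecResidueField (t i)) (by
        show _ = Spec.map φ ≫ S.fromSpecResidueField s
        rw [Category.assoc, ← hm i, ← Category.assoc, ← Spec.map_comp]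
        congr 2
        ext x
        exact (hΩ i).some.commutes x)
  let l := hc.lift (Limits.Fan.mk _ p)
  let pt : Spec (CommRingCat.of Ω) := IsLocalRing.closedPoint Ω
  refine ⟨l.left pt, ?_⟩
  show (l.left ≫ c.pt.hom) pt = s
  rw [Over.w l]
  show S.fromSpecResidueField s (Spec.map φ pt) = s
  exact Scheme.fromSpecResidueField_apply s _

end Groth.Agent.S7394
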