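import Groth.Statements.S7395
import Groth.Agent.LimLib.FPSystem
-- import your own Groth.Agent.* helpers here

set_option autoImplicit false
universe u
open CategoryTheory AlgebraicGeometry
open Lim

namespace Groth.Agent.S7395

/-- Let `f : X → S` be separated and of finite type with `S` quasi-compact and quasi-separated. Then
there are a separated morphism `f' : X' → S` of finite presentation and a closed immersion `X → X'`
over `S`. -/
theorem result {X S : Scheme.{u}} (f : X ⟶ S) [IsSeparated f]
    [LocallyOfFiniteType f] [QuasiCompact f] [CompactSpace S] [QuasiSeparatedSpace S] :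
    ∃ (X' : Scheme.{u}) (f' : X' ⟶ S) (j : X ⟶ X'), IsSeparated f' ∧ LocallyOfFinitePresentation f' ∧
      QuasiCompact f' ∧ IsClosedImmersion j ∧ j ≫ f' = f := by
  have : CompactSpace X := QuasiCompact.compactSpace_of_compactSpace f
  have : QuasiSeparatedSpace X := quasiSeparatedSpace_of_quasiSeparated f
  obtain ⟨P, -, hπ⟩ := LimLib.exists_closedFPSystem f
  obtain ⟨i₁, h⟩ := LimLib.FPSystem.eventually_isSeparated P
  exact ⟨_, (P.D.obj i₁).hom, (P.π.app i₁).left, h i₁ (𝟙 _), P.lfp i₁, P.quasiCompact i₁, hπ i₁,
    Over.w (P.π.app i₁)⟩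

end Groth.Agent.S7395
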