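import Groth.Statements.S7397
-- import your own Groth.Agent.* helpers here

set_option autoImplicit false
universe u
open Mor

namespace Groth.Agent.S7397

/-- Let `A ⊆ B` be a ring extension and `b ∈ B`, `b ∉ A`, with `b^n, b^(n+1) ∈ A` for some `n ≥ 2`. Then
some `b' ∈ B` with `b' ∉ A` has `b'^2 ∈ A` and `b'^3 ∈ A`. -/
theorem result {B : Type u} [CommRing B] (A : Subring B) (b : B) (hb : b ∉ A)
    (n : ℕ) (hn : 2 ≤ n) (h1 : b ^ n ∈ A) (h2 : b ^ (n + 1) ∈ A) :
    ∃ b' : B, b' ∉ A ∧ b' ^ 2 ∈ A ∧ b' ^ 3 ∈ A := by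
  classical
  have hbig : ∀ m, n * n ≤ m → b ^ m ∈ A := by
    intro m hm
    obtain ⟨a, c, rfl⟩ : ∃ a c, m = a * n + c * (n + 1) := by
      refine ⟨m / n - m % n, m % n, ?_⟩
      have hr : m % n < n := Nat.mod_lt _ (by omega)
      have hq : n ≤ m / n := (Nat.le_div_iff_mul_le (by omega)).mpr hm
      have h3 : (m / n - m % n) * n + (m % n) * n = n * (m / n) := by
        rw [← Nat.add_mul, Nat.sub_add_cancel (by omega), Nat.mul_comm]
      have h4 := Nat.div_add_mod m n
      rw [Nat.mul_add, Nat.mul_one]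
      omega
    rw [pow_add, pow_mul', pow_mul']
    exact mul_mem (pow_mem h1 a) (pow_mem h2 c)
  let P : ℕ → Prop := fun m => b ^ m ∉ A
  have h1n : 1 ≤ n * n := Nat.one_le_iff_ne_zero.mpr (Nat.mul_ne_zero (by omega) (by omega))
  have hP : P 1 := by simpa [P] using hb
  let m := Nat.findGreatest P (n * n)
  have hm : P m := Nat.findGreatest_spec h1n hP
  have hm1 : 1 ≤ m := Nat.le_findGreatest h1n hP
  have key : ∀ k, m < k → b ^ k ∈ A := by
    intro k hk
    by_cases hk' : k ≤ n * n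
    · exact not_not.mp (Nat.findGreatest_is_greatest (P := P) hk hk')
    · exact hbig k (by omega)
  refine ⟨b ^ m, hm, ?_, ?_⟩
  · rw [← pow_mul]; exact key _ (by omega)
  · rw [← pow_mul]; exact key _ (by omega)

end Groth.Agent.S7397
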