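import Groth.Statements.S7404
import Groth.Agent.UH.Basic
-- import your own Groth.Agent.* helpers here

set_option autoImplicit false
universe u
open CategoryTheory AlgebraicGeometry
open Mor

namespace Groth.Agent.S7404

/-- Let `A → B` be a ring map and `B' ⊆ B` an `A`-subalgebra, with `f : Spec B → Spec A` and `f' : Spec
B' → Spec A` the induced morphisms. Each of the following properties passes from `f` to `f'`: being
a universal homeomorphism; being a universal homeomorphism with trivial residue field extensions;
being universally closed; being both universally closed and universally injective. -/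
theorem result {A B : Type u} [CommRing A] [CommRing B] [Algebra A B]
    (B' : Subalgebra A B) :
    (FlatMor.IsUnivHomeo (Spec.map (CommRingCat.ofHom (algebraMap A B))) →
      FlatMor.IsUnivHomeo (Spec.map (CommRingCat.ofHom (algebraMap A B')))) ∧
    ((FlatMor.IsUnivHomeo (Spec.map (CommRingCat.ofHom (algebraMap A B))) ∧
      ∀ x : Spec (CommRingCat.of B),
        Function.Surjective ((Spec.map (CommRingCat.ofHom (algebraMap A B))).residueFieldMap x)) →
      FlatMor.IsUnivHomeo (Spec.map (CommRingCat.ofHom (algebraMap A B'))) ∧
      ∀ x : Spec (CommRingCat.of B'),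
        Function.Surjective ((Spec.map (CommRingCat.ofHom (algebraMap A B'))).residueFieldMap x)) ∧
    (UniversallyClosed (Spec.map (CommRingCat.ofHom (algebraMap A B))) →
      UniversallyClosed (Spec.map (CommRingCat.ofHom (algebraMap A B')))) ∧
    (UniversallyClosed (Spec.map (CommRingCat.ofHom (algebraMap A B))) →
      UniversallyInjective (Spec.map (CommRingCat.ofHom (algebraMap A B))) →
      UniversallyClosed (Spec.map (CommRingCat.ofHom (algebraMap A B'))) ∧
      UniversallyInjective (Spec.map (CommRingCat.ofHom (algebraMap A B')))) := by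
  have hint : UniversallyClosed (Spec.map (CommRingCat.ofHom (algebraMap A B))) →
      UniversallyClosed (Spec.map (CommRingCat.ofHom (algebraMap A B'))) := fun h => by
    have hi : (algebraMap A B).IsIntegral := IsIntegralHom.SpecMap_iff.mp
      (IsIntegralHom.iff_universallyClosed_and_isAffineHom.mpr ⟨h, inferInstance⟩)
    have : IsIntegralHom (Spec.map (CommRingCat.ofHom (algebraMap A B'))) :=
      IsIntegralHom.SpecMap_iff.mpr
        (RingHom.IsIntegral.tower_bot (algebraMap A B') B'.val.toRingHom Subtype.coe_injective hi)
    infer_instance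
  refine ⟨fun h => ?_, fun ⟨h, hr⟩ => ?_, hint, fun h h' => ⟨hint h, ?_⟩⟩
  · exact (Groth.Agent.WN.isUnivHomeo_specMap_iff _).mpr
      (((Groth.Agent.WN.isUnivHomeo_specMap_iff _).mp h).restrict B').1
  · have := ((Groth.Agent.WN.isUnivHomeo_specMap_iff _).mp h).restrict B'
    exact ⟨(Groth.Agent.WN.isUnivHomeo_specMap_iff _).mpr this.1,
      (Groth.Agent.UH.surjective_residueFieldMap_iff _).mpr
        (this.2 ((Groth.Agent.UH.surjective_residueFieldMap_iff _).mp hr))⟩
  · have hi : (algebraMap A B).IsIntegral := IsIntegralHom.SpecMap_iff.mp
      (IsIntegralHom.iff_universallyClosed_and_isAffineHom.mpr ⟨h, inferInstance⟩)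
    exact (Groth.Agent.WN.universallyInjective_specMap_iff _).mpr
      (Groth.Agent.UH.isRadicial_restrict hi
        ((Groth.Agent.WN.universallyInjective_specMap_iff _).mp h') B')

end Groth.Agent.S7404
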