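import Groth.Statements.S7405
import Groth.Agent.UH.Colim
-- import your own Groth.Agent.* helpers here

set_option autoImplicit false
universe u
open CategoryTheory AlgebraicGeometry
open Mor

namespace Groth.Agent.S7405

/-- Let `A` be a ring and `B` the colimit of a filtered diagram `j ↦ B_j` of `A`-algebras. Each of the
following properties, when it holds for every `Spec B_j → Spec A`, holds for `Spec B → Spec A`:
being a universal homeomorphism; being a universal homeomorphism with trivial residue field
extensions; being universally closed; being both universally closed and universally injective. -/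
theorem result (A : CommRingCat.{u}) {J : Type u} [SmallCategory J]
    [IsFiltered J] (F : J ⥤ Under A) (c : Limits.Cocone F) (hc : Limits.IsColimit c) :
    ((∀ j, FlatMor.IsUnivHomeo (Spec.map (F.obj j).hom)) → FlatMor.IsUnivHomeo (Spec.map c.pt.hom)) ∧
    ((∀ j, FlatMor.IsUnivHomeo (Spec.map (F.obj j).hom) ∧
        ∀ x : Spec (F.obj j).right, Function.Surjective ((Spec.map (F.obj j).hom).residueFieldMap x)) →
      FlatMor.IsUnivHomeo (Spec.map c.pt.hom) ∧
        ∀ x : Spec c.pt.right, Function.Surjective ((Spec.map c.pt.hom).residueFieldMap x)) ∧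
    ((∀ j, UniversallyClosed (Spec.map (F.obj j).hom)) → UniversallyClosed (Spec.map c.pt.hom)) ∧
    ((∀ j, UniversallyClosed (Spec.map (F.obj j).hom) ∧ UniversallyInjective (Spec.map (F.obj j).hom)) →
      UniversallyClosed (Spec.map c.pt.hom) ∧ UniversallyInjective (Spec.map c.pt.hom)) := by
  have hint : ∀ {R S : CommRingCat.{u}} (φ : R ⟶ S),
      UniversallyClosed (Spec.map φ) → φ.hom.IsIntegral := fun φ h =>
    IsIntegralHom.SpecMap_iff.mp
      (IsIntegralHom.iff_universallyClosed_and_isAffineHom.mpr ⟨h, inferInstance⟩)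
  have hclosed : (∀ j, UniversallyClosed (Spec.map (F.obj j).hom)) →
      UniversallyClosed (Spec.map c.pt.hom) := fun h => by
    have : IsIntegralHom (Spec.map c.pt.hom) := IsIntegralHom.SpecMap_iff.mpr
      (Groth.Agent.UH.colim_isIntegral hc fun j => hint _ (h j))
    infer_instance
  refine ⟨fun h => ?_, fun h => ⟨?_, ?_⟩, hclosed, fun h => ⟨hclosed fun j => (h j).1, ?_⟩⟩
  · exact (Groth.Agent.UH.isUnivHomeo_specMap_iff' _).mpr (Groth.Agent.UH.colim_isRadHomeo hc
      fun j => (Groth.Agent.UH.isUnivHomeo_specMap_iff' _).mp (h j))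
  · exact (Groth.Agent.UH.isUnivHomeo_specMap_iff' _).mpr (Groth.Agent.UH.colim_isRadHomeo hc
      fun j => (Groth.Agent.UH.isUnivHomeo_specMap_iff' _).mp (h j).1)
  · exact (Groth.Agent.UH.surjective_residueFieldMap_iff' _).mpr (Groth.Agent.UH.colim_hasTrivRes hc
      fun j => (Groth.Agent.UH.surjective_residueFieldMap_iff' _).mp (h j).2)
  · exact (Groth.Agent.WN.universallyInjective_specMap_iff c.pt.hom.hom).mpr
      (Groth.Agent.UH.colim_isRadicial hc fun j =>
        (Groth.Agent.WN.universallyInjective_specMap_iff (F.obj j).hom.hom).mp (h j).2)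

end Groth.Agent.S7405
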