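import Groth.Statements.S7406
import Groth.Agent.AlgSpD.RelDim

set_option autoImplicit false
open CategoryTheory CategoryTheory.Limits
set_option backward.isDefEq.respectTransparency false
universe u
open CategoryTheory AlgebraicGeometry
open Desc

namespace Groth.Agent.S7406

/-- Consider a commutative square of schemes with horizontal maps `h' : U' → V'`, `h : U → V` and étale
vertical maps `a : U' → U`, `b : V' → V`, and let `v' ∈ V'` with image `v = b(v')`. Then the induced
morphism of fibres `U'_{v'} → U_v` is étale. (The morphism of fibres is characterised by its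
compatibility with `a` and with `Spec κ(v') → Spec κ(v)`.) -/
theorem result {U U' V V' : Scheme.{u}} (h : U ⟶ V) (h' : U' ⟶ V') (a : U' ⟶ U)
    (b : V' ⟶ V) [Etale a] [Etale b] (comm : h' ≫ b = a ≫ h) (v' : V')
    (φ : h'.fiber v' ⟶ h.fiber (b v')) (hφ1 : φ ≫ h.fiberι (b v') = h'.fiberι v' ≫ a)
    (hφ2 : φ ≫ h.fiberToSpecResidueField (b v') = h'.fiberToSpecResidueField v' ≫ Spec.map (b.residueFieldMap v')) :
    Etale φ := by
  let l : U' ⟶ pullback h b := pullback.lift a h' comm.symm
  have : Etale (l ≫ pullback.fst h b) := by rw [pullback.lift_fst]; infer_instance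
  have : Etale l := Etale.of_comp l (pullback.fst h b)
  let j := V'.fromSpecResidueField v'
  let c := Spec.map (b.residueFieldMap v')
  have hc : c ≫ V.fromSpecResidueField (b v') = j ≫ b := by simp [j, c]
  have hce : Etale c := Groth.Agent.AlgSpD.etale_residueFieldMap b v'
  let φ₁ : pullback h' j ⟶ pullback (pullback.snd h b) j :=
    pullback.map h' j (pullback.snd h b) j l (𝟙 _) (𝟙 _) (by simp [l]) (by simp)
  let φ₃ : pullback h (j ≫ b) ⟶ pullback h (V.fromSpecResidueField (b v')) :=
    pullback.map h (j ≫ b) h (V.fromSpecResidueField (b v')) (𝟙 _) c (𝟙 _) (by simp) (by simp [hc])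
  have : Etale φ₁ := MorphismProperty.pullbackMap (P := @Etale) ‹Etale l›
    (inferInstance : Etale (𝟙 _)) (by simp [l]) (by simp)
  have : Etale φ₃ := MorphismProperty.pullbackMap (P := @Etale) (inferInstance : Etale (𝟙 _)) hce
    (by simp) hc.symm
  have e : φ = φ₁ ≫ (pullbackLeftPullbackSndIso h b j).hom ≫ φ₃ := by
    apply pullback.hom_ext
    · refine hφ1.trans ?_
      simp [φ₁, φ₃, Scheme.Hom.fiberι, l]; rfl
    · refine hφ2.trans ?_
      simp [φ₁, φ₃, Scheme.Hom.fiberToSpecResidueField, l]; rfl
  rw [e]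
  exact MorphismProperty.comp_mem @Etale _ _ ‹Etale φ₁›
    (MorphismProperty.comp_mem @Etale _ _ inferInstance ‹Etale φ₃›)

end Groth.Agent.S7406
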