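import Groth.Statements.S7412


set_option autoImplicit false
universe u
open Desc

namespace Groth.Agent.S7412

/-- Let `R` be a ring and `f : M → N` a map of `R`-modules. Then `f` is universally injective (`f ⊗ 1_P`
is injective for every `R`-module `P`; here `P` ranges over modules in the same universe, which
suffices) if and only if the map of character modules `C(N) → C(M)`, `C(-) = Hom_ℤ(-, ℚ/ℤ)`, is a
split surjection of `R`-modules. -/
theorem result {R : Type u} [CommRing R] {M N : Type u}
    [AddCommGroup M] [Module R M] [AddCommGroup N] [Module R N] (f : M →ₗ[R] N) :
    (∀ (P : Type u) [AddCommGroup P] [Module R P], Function.Injective (f.lTensor P)) ↔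
      ∃ g : CharacterModule M →ₗ[R] CharacterModule N, (CharacterModule.dual f).comp g = LinearMap.id := by
  constructor
  · intro h
    have h' : Function.Injective (f.rTensor (CharacterModule M)) :=
      (LinearMap.lTensor_inj_iff_rTensor_inj _ _).mp (h _)
    let ev : M →ₗ[R] CharacterModule (CharacterModule M) :=
      { toFun := fun m => ({ toFun := fun c => c m, map_zero' := rfl, map_add' := fun _ _ => rfl } :
            CharacterModule M →+ AddCircle (1 : ℚ))
        map_add' := fun a b => DFunLike.ext _ _ fun c => map_add c a b
        map_smul' := fun r a => DFunLike.ext _ _ fun c => rfl }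
    obtain ⟨G, hG⟩ := (rTensor_injective_iff_lcomp_surjective.mp h') ev
    refine ⟨{ toFun := fun c => ({ toFun := fun n => G n c,
                                   map_zero' := by rw [map_zero]; rfl
                                   map_add' := fun a b => by rw [map_add]; rfl } : N →+ AddCircle (1 : ℚ))
              map_add' := fun a b => DFunLike.ext _ _ fun n => map_add (G n) a b
              map_smul' := fun r a => DFunLike.ext _ _ fun n => by
                exact (DFunLike.congr_fun (map_smul G r n) a) ▸ rfl }, ?_⟩
    refine LinearMap.ext fun c => DFunLike.ext _ _ fun m => ?_
    exact DFunLike.congr_fun (LinearMap.congr_fun hG m) c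
  · rintro ⟨g, hg⟩ P _ _
    refine (LinearMap.lTensor_inj_iff_rTensor_inj _ _).mpr (rTensor_injective_iff_lcomp_surjective.mpr ?_)
    intro φ
    let c : P →ₗ[R] CharacterModule M :=
      { toFun := fun p => ({ toFun := fun m => φ m p,
                             map_zero' := by rw [map_zero]; rfl
                             map_add' := fun a b => by rw [map_add]; rfl } : M →+ AddCircle (1 : ℚ))
        map_add' := fun a b => DFunLike.ext _ _ fun m => map_add (φ m) a b
        map_smul' := fun r a => DFunLike.ext _ _ fun m => by
          exact (DFunLike.congr_fun (map_smul φ r m) a) ▸ rfl }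
    let G : N →ₗ[R] CharacterModule P :=
      { toFun := fun n => ({ toFun := fun p => g (c p) n,
                             map_zero' := by rw [map_zero, map_zero]; rfl
                             map_add' := fun a b => by rw [map_add, map_add]; rfl } : P →+ AddCircle (1 : ℚ))
        map_add' := fun a b => DFunLike.ext _ _ fun p => map_add (g (c p)) a b
        map_smul' := fun r a => DFunLike.ext _ _ fun p => by
          exact (DFunLike.congr_fun ((congrArg g (map_smul c r p)).trans (map_smul g r (c p))) a).symm }
    refine ⟨G, LinearMap.ext fun m => DFunLike.ext _ _ fun p => ?_⟩
    exact DFunLike.congr_fun (LinearMap.congr_fun hg (c p)) m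


end Groth.Agent.S7412
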