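import Groth.Statements.S7416
import Mathlib.AlgebraicGeometry.AffineScheme
import Mathlib.AlgebraicGeometry.Restrict
-- import your own Groth.Agent.* helpers here

set_option autoImplicit false
universe u
open CategoryTheory AlgebraicGeometry
open Mor

namespace Groth.Agent.S7416

/-- Let `U`, `V` be affine schemes and `W → U`, `W → V` open immersions. Then every `w ∈ W` has an open
neighbourhood `W' ⊆ W` whose images in `U` and in `V` are standard opens `D(f) ⊆ U`, `D(g) ⊆ V` (in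
particular `W'` is affine). -/
theorem result {U V W : Scheme.{u}} [IsAffine U]
    [IsAffine V] (i : W ⟶ U) (j : W ⟶ V) [IsOpenImmersion i] [IsOpenImmersion j] (w : W) :
    ∃ (W' : W.Opens) (f : Γ(U, ⊤)) (g : Γ(V, ⊤)), w ∈ W' ∧ i ''ᵁ W' = U.basicOpen f ∧ j ''ᵁ W' = V.basicOpen g := by
  obtain ⟨f, hf, hwf⟩ := (isAffineOpen_top U).exists_basicOpen_le (V := i.opensRange)
    ⟨i.base w, ⟨w, rfl⟩⟩ trivial
  obtain ⟨g, hg, hwg⟩ := (isAffineOpen_top V).exists_basicOpen_le (V := j ''ᵁ (i ⁻¹ᵁ U.basicOpen f))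
    ⟨j.base w, ⟨w, hwf, rfl⟩⟩ trivial
  let W' : W.Opens := j ⁻¹ᵁ V.basicOpen g
  have hW'i : W' ≤ i ⁻¹ᵁ U.basicOpen f := by
    intro z hz
    obtain ⟨z', hz', hz''⟩ := hg hz
    exact j.isOpenEmbedding.injective hz'' ▸ hz'
  obtain ⟨f', hf'⟩ : ∃ f' : Γ(U, ⊤), U.basicOpen f' = i ''ᵁ W' := by
    let s : Γ(W, i ⁻¹ᵁ U.basicOpen f) := W.presheaf.map (homOfLE le_top).op (j.appTop g)
    have hs : W.basicOpen s = W' := by
      rw [Scheme.basicOpen_res]
      show (i ⁻¹ᵁ U.basicOpen f) ⊓ W.basicOpen (j.app ⊤ g) = W'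
      rw [← Scheme.preimage_basicOpen]
      exact inf_eq_right.mpr hW'i
    have himg : i ''ᵁ (i ⁻¹ᵁ U.basicOpen f) = U.basicOpen f := by
      rw [Scheme.Hom.image_preimage_eq_opensRange_inf, inf_eq_right]
      exact hf
    let t : Γ(U, U.basicOpen f) := U.presheaf.map (eqToHom himg.symm).op ((i.appIso _).inv s)
    obtain ⟨f', hf'⟩ := (isAffineOpen_top U).basicOpen_basicOpen_is_basicOpen f t
    refine ⟨f', ?_⟩
    rw [hf', Scheme.basicOpen_res_eq, ← Scheme.image_basicOpen, hs]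
  refine ⟨W', f', g, hwg, hf'.symm, ?_⟩
  rw [Scheme.Hom.image_preimage_eq_opensRange_inf, inf_eq_right]
  intro v hv
  obtain ⟨z, -, rfl⟩ := hg hv
  exact ⟨z, rfl⟩

end Groth.Agent.S7416
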