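import Groth.Statements.S7423
import Groth.Agent.WN.Normalization
import Groth.Agent.WN.Local

set_option autoImplicit false
universe u
open CategoryTheory AlgebraicGeometry
open HTop

namespace Groth.Agent.S7423

/-- Let `φ : A → A^awn` be an absolute weak normalization and `ψ : A → B` a ring map inducing a
universal homeomorphism on spectra. Then `B` is absolutely weakly normal exactly when the induced
map `χ : B → A^awn` with `χ ∘ ψ = φ` is an isomorphism. -/
theorem result {A B W : Type u} [CommRing A] [CommRing B] [CommRing W]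
    (φ : A →+* W) (hφ : HTop.IsRingAWN φ) (ψ : A →+* B)
    (hψ : FlatMor.IsUnivHomeo (Spec.map (CommRingCat.ofHom ψ))) (χ : B →+* W) (hχ : χ.comp ψ = φ) :
    Function.Bijective χ ↔ HTop.IsAWNRing B := by
  obtain ⟨hψW, hu⟩ := hφ
  have hN := (WN.good_norm (A := A) False).radHomeo
  obtain ⟨e, he, -⟩ := hu (WN.norm A False) (algebraMap A _) ((WN.isUnivHomeo_specMap_iff _).mpr hN)
  obtain ⟨k, hk, -⟩ := (WN.isRingAWN_norm (A := A)).2 W φ hψW
  obtain ⟨_, _, hW⟩ := hu W φ hψW
  obtain ⟨_, _, hN'⟩ := (WN.isRingAWN_norm (A := A)).2 (WN.norm A False) (algebraMap A _)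
    ((WN.isUnivHomeo_specMap_iff _).mpr hN)
  have hek : e.comp k = RingHom.id W :=
    (hW _ (show (e.comp k).comp φ = φ by rw [RingHom.comp_assoc, hk, he])).trans (hW _ (RingHom.id_comp φ)).symm
  have hke : k.comp e = RingHom.id _ :=
    (hN' _ (show (k.comp e).comp _ = _ by rw [RingHom.comp_assoc, he, hk])).trans (hN' _ (RingHom.id_comp _)).symm
  let E : W ≃+* WN.norm A False := RingEquiv.ofRingHom k e hke hek
  constructor
  · intro hb
    exact WN.isAWNRing_of_ringEquiv ((RingEquiv.ofBijective χ hb).trans E).symm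
      (WN.isAWNRing_norm not_false)
  · intro hB
    obtain ⟨F, hF⟩ := WN.exists_equiv_norm_of_isAWNRing ((WN.isUnivHomeo_specMap_iff _).mp hψ) hB
    obtain ⟨_, _, huniq⟩ := (WN.isRingAWN_norm (A := A)).2 B ψ hψ
    have : k.comp χ = F.toRingHom :=
      (huniq _ (show (k.comp χ).comp ψ = _ by rw [RingHom.comp_assoc, hχ, hk])).trans (huniq _ hF).symm
    have hb : Function.Bijective (fun b => E (χ b)) := by
      have : (fun b => E (χ b)) = F := funext (DFunLike.congr_fun this)
      rw [this]; exact F.bijective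
    exact (E.bijective.of_comp_iff' χ).mp hb

end Groth.Agent.S7423
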