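import Groth.Statements.S7426
import Groth.Agent.WN.Exists

set_option autoImplicit false
universe u
open CategoryTheory AlgebraicGeometry
open HTop

namespace Groth.Agent.S7426

/-- For a scheme `X` the following are equivalent: `X` is absolutely weakly normal; `X^awn → X` is an
isomorphism (equivalently, the identity of `X` is an absolute weak normalization); every universal
homeomorphism `Y → X` with `Y` reduced is an isomorphism. -/
theorem result (X : Scheme.{u}) :
    (HTop.IsAWN X ↔ HTop.IsAWNormalization (𝟙 X)) ∧
    (HTop.IsAWN X ↔ ∀ (Y : Scheme.{u}) (π : Y ⟶ X), FlatMor.IsUnivHomeo π → AlgebraicGeometry.IsReduced Y → IsIso π) := by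
  refine ⟨⟨fun h => WN.isAWNormalization_of_isAWN (𝟙 X) WN.isUnivHomeo_id h,
    fun h => WN.isAWN_source_of_isAWNormalization h⟩, ⟨fun h Y π hπ hY => ?_, fun h => ?_⟩⟩
  · exact WN.isIso_of_isClosedScheme π ((WN.goodMor_false_iff π).mpr hπ) (WN.isClosedScheme_false.mpr h)
  · obtain ⟨X', ν, hX', hν⟩ := WN.exists_normalization False X
    have := h X' ν hν.isUnivHomeo (WN.isReduced_of_isSeminormal hX'.1)
    exact WN.isClosedScheme_false.mp (WN.isClosedScheme_of_iso (inv ν) hX')

end Groth.Agent.S7426
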