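import Groth.Statements.S7431
import Mathlib.AlgebraicGeometry.Morphisms.OpenImmersion

set_option backward.isDefEq.respectTransparency false
set_option backward.defeqAttrib.useBackward true

set_option autoImplicit false
universe u
open CategoryTheory AlgebraicGeometry
open Lim

namespace Groth.Agent.S7431

open TopologicalSpace Limits

variable {B B' R R' : Type u} [CommRing B] [CommRing B'] [CommRing R] [CommRing R']
  {s : B →+* R} {t : R' →+* R} {p : B' →+* B} {q : B' →+* R'}
  (hsq : IsPullback (CommRingCat.ofHom p) (CommRingCat.ofHom q) (CommRingCat.ofHom s)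
    (CommRingCat.ofHom t))

include hsq

lemma exists_lift {b : B} {r : R'} (h : s b = t r) : ∃ x, p x = b ∧ q x = r :=
  Types.exists_of_isPullback (hsq.map (forget CommRingCat)) b r h

lemma ext_lift {x y : B'} (h₁ : p x = p y) (h₂ : q x = q y) : x = y :=
  Types.ext_of_isPullback (hsq.map (forget CommRingCat)) h₁ h₂

lemma isLocalization_away {h : B'} (hb : Function.Bijective (Localization.awayMap s (p h))) :
    letI := ((algebraMap R' (Localization.Away (q h))).comp q).toAlgebra
    IsLocalization.Away h (Localization.Away (q h)) := by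
  letI := ((algebraMap R' (Localization.Away (q h))).comp q).toAlgebra
  have hst (x : B') : s (p x) = t (q x) :=
    RingHom.congr_fun (congrArg CommRingCat.Hom.hom hsq.w) x
  refine IsLocalization.Away.mk (S := Localization.Away (q h)) h ?_ ?_ ?_
  · exact IsLocalization.Away.algebraMap_isUnit (q h)
  · intro z
    obtain ⟨n, r, hr⟩ := IsLocalization.Away.surj (q h) z
    obtain ⟨y, hy⟩ := hb.2 (algebraMap R (Localization.Away (s (p h))) (t r))
    obtain ⟨m, b, hbm⟩ := IsLocalization.Away.surj (p h) y
    have e := congrArg (Localization.awayMap s (p h)) hbm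
    simp only [map_mul, map_pow, Localization.awayMap, IsLocalization.Away.map, IsLocalization.map_eq,
      hy] at e hy
    rw [hy, ← map_pow, ← map_mul] at e
    obtain ⟨N, hN⟩ := IsLocalization.Away.exists_of_eq (s (p h)) e
    obtain ⟨x, -, hx⟩ := exists_lift hsq (b := b * p h ^ N) (r := r * q h ^ m * q h ^ N) (by
      simp only [map_mul, map_pow, ← hst]
      linear_combination -hN)
    refine ⟨n + (m + N), x, ?_⟩
    show z * algebraMap R' _ (q h) ^ (n + (m + N)) = algebraMap R' _ (q x)
    rw [hx, map_mul, map_mul, map_pow, map_pow, pow_add, pow_add, ← hr]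
    ring
  · intro a b e
    obtain ⟨N, hN⟩ := IsLocalization.Away.exists_of_eq (q h) (show algebraMap R' _ (q a) =
      algebraMap R' _ (q b) from e)
    have h0 : algebraMap B (Localization.Away (p h)) (p h ^ N * p a) =
        algebraMap B _ (p h ^ N * p b) := by
      refine hb.1 ?_
      simp only [Localization.awayMap, IsLocalization.Away.map, IsLocalization.map_eq]
      rw [map_mul s, map_mul s, map_pow s, hst, hst, hst, ← map_pow t, ← map_mul t, ← map_mul t, hN]
    obtain ⟨M, hM⟩ := IsLocalization.Away.exists_of_eq (p h) h0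
    refine ⟨M + N, ext_lift hsq ?_ ?_⟩
    · simp only [map_mul, map_pow, pow_add, mul_assoc, hM]
    · simp only [map_mul, map_pow, pow_add, mul_assoc, hN]

lemma isOpenImmersion_basicOpen {h : B'} (hb : Function.Bijective (Localization.awayMap s (p h))) :
    IsOpenImmersion (Scheme.Opens.ι (X := Spec (CommRingCat.of R'))
      (PrimeSpectrum.basicOpen (q h)) ≫ Spec.map (CommRingCat.ofHom q)) := by
  letI := ((algebraMap R' (Localization.Away (q h))).comp q).toAlgebra
  have := isLocalization_away hsq hb
  have e : (basicOpenIsoSpecAway (R := CommRingCat.of R') (q h)).inv ≫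
      Scheme.Opens.ι (X := Spec (CommRingCat.of R')) (PrimeSpectrum.basicOpen (q h)) =
      Spec.map (CommRingCat.ofHom (algebraMap R' (Localization.Away (q h)))) :=
    IsOpenImmersion.isoOfRangeEq_inv_fac ..
  have : IsOpenImmersion (Spec.map (CommRingCat.ofHom (algebraMap B' (Localization.Away (q h))))) :=
    IsOpenImmersion.of_isLocalization h
  erw [(Iso.inv_comp_eq _).mp e]
  rw [Category.assoc, ← Spec.map_comp]
  exact MorphismProperty.comp_mem _ _ _ inferInstance this

omit hsq

/-- Let `B' = B ×_R R'` be a cartesian square of rings with maps `s : B → R`, `t : R' → R`, and let `W'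
= D(f_1) ∪ … ∪ D(f_n) ⊆ Spec R'` with `t(f_i) = s(g_i)` for elements `g_i ∈ B` such that `B_{g_i} →
R_{s(g_i)}` is an isomorphism for each `i`. Then the composite `W' → Spec R' → Spec B'`, the second
map coming from `B' → R'`, is an open immersion. -/
theorem result {B B' R R' : Type u} [CommRing B] [CommRing B']
    [CommRing R] [CommRing R'] (s : B →+* R) (t : R' →+* R) (p : B' →+* B) (q : B' →+* R')
    (hsq : IsPullback (CommRingCat.ofHom p) (CommRingCat.ofHom q) (CommRingCat.ofHom s) (CommRingCat.ofHom t))
    {n : ℕ} (f : Fin n → R') (g : Fin n → B) (hfg : ∀ i, t (f i) = s (g i))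
    (hiso : ∀ i, Function.Bijective (Localization.awayMap s (g i))) :
    IsOpenImmersion (Scheme.Opens.ι (X := Spec (CommRingCat.of R')) (⨆ i, PrimeSpectrum.basicOpen (f i)) ≫
      Spec.map (CommRingCat.ofHom q)) := by
  have hex : ∀ i, ∃ x, p x = g i ∧ q x = f i := fun i => exists_lift hsq (hfg i).symm
  choose h hp hq using hex
  obtain rfl : f = fun i => q (h i) := funext fun i => (hq i).symm
  obtain rfl : g = fun i => p (h i) := funext fun i => (hp i).symm
  let φ := Spec.map (CommRingCat.ofHom q)
  let U : (Spec (CommRingCat.of B')).Opens := ⨆ i, PrimeSpectrum.basicOpen (h i)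
  have hcomap (i : Fin n) : φ ⁻¹ᵁ PrimeSpectrum.basicOpen (h i) = PrimeSpectrum.basicOpen (q (h i)) :=
    rfl
  have hU : φ ⁻¹ᵁ U = ⨆ i, PrimeSpectrum.basicOpen (q (h i)) := by
    rw [Scheme.Hom.preimage_iSup]
    exact iSup_congr hcomap
  show IsOpenImmersion (Scheme.Opens.ι (X := Spec (CommRingCat.of R')) (⨆ i, PrimeSpectrum.basicOpen (q (h i))) ≫ φ)
  rw [← hU, ← morphismRestrict_ι]
  suffices IsOpenImmersion (φ ∣_ U) from inferInstance
  refine IsZariskiLocalAtTarget.of_iSup_eq_top (P := @IsOpenImmersion)
    (U := fun i => U.ι ⁻¹ᵁ PrimeSpectrum.basicOpen (h i)) ?_ fun i => ?_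
  · rw [← Scheme.Hom.preimage_iSup]
    exact top_le_iff.mp fun x _ => x.2
  · rw [MorphismProperty.arrow_mk_iso_iff @IsOpenImmersion (morphismRestrictRestrict φ U _),
      Scheme.Hom.image_preimage_eq_opensRange_inf, Scheme.Opens.opensRange_ι,
      inf_eq_right.mpr (le_iSup (fun i => PrimeSpectrum.basicOpen (h i)) i)]
    have : IsOpenImmersion ((φ ∣_ PrimeSpectrum.basicOpen (h i)) ≫
        Scheme.Opens.ι (X := Spec (CommRingCat.of B')) (PrimeSpectrum.basicOpen (h i))) := by
      rw [morphismRestrict_ι]
      exact isOpenImmersion_basicOpen hsq (hiso i)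
    exact IsOpenImmersion.of_comp _ (Scheme.Opens.ι (X := Spec (CommRingCat.of B')) (PrimeSpectrum.basicOpen (h i)))

end Groth.Agent.S7431
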