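import Groth.Statements.S7432
import Groth.Agent.VanQC.TopDeg
import Groth.Agent.CBC.Noeth

set_option autoImplicit false
universe u
open Lim

namespace Groth.Agent.S7432

open AlgebraicGeometry CategoryTheory in
/-- Assume `f : X → Y` is a proper morphism whose fibres all have dimension no greater than `d`, and
consider an `O_X`-module `F` that is quasi-coherent and of finite type. Then `R^d f_* F` is again an
`O_Y`-module that is quasi-coherent and of finite type. (Being 'quasi-coherent of finite type' is
expressed via the prelude's predicate `Coh.IsCoh`, which on an arbitrary scheme means precisely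
this; `R^d f_*` denotes the right derived functor of `f_*` on `O`-modules, defined under the
instance binder asserting that `O_X`-modules admit injective resolutions.) -/
theorem result {X Y : Scheme.{u}} (f : X ⟶ Y) [IsProper f] (d : ℕ)
    (hd : ∀ y : Y, topologicalKrullDim ↥(f.fiber y) ≤ d) [HasInjectiveResolutions X.Modules] (M : X.Modules)
    (hM : Coh.IsCoh M) : Coh.IsCoh ((Coh.Rpush f d).obj M) := by
  haveI := hM.1
  haveI := hM.2
  have hq : ((Coh.Rpush f d).obj M).IsQuasicoherent :=
    Groth.Agent.CBC.isQuasicoherent_Rpush f M d
  refine ⟨hq, ?_⟩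
  refine Groth.Agent.QCoh.isFiniteType_of_forall_exists _ fun y => ?_
  obtain ⟨V, hV, hy, ⟨C⟩⟩ := Groth.Agent.VanQC.exists_closedModel f y d (hd y)
  haveI : IsAffine V.toScheme := hV
  exact ⟨V, hV, hy, C.finite_top M hV⟩

end Groth.Agent.S7432
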