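import Groth.Prelude.Def_W4stkschemesremainderFib
import Mathlib.AlgebraicGeometry.Fiber
import Mathlib.AlgebraicGeometry.Morphisms.Immersion
import Mathlib.AlgebraicGeometry.Morphisms.Etale
import Mathlib.AlgebraicGeometry.Morphisms.QuasiFinite
import Mathlib.AlgebraicGeometry.Morphisms.FiniteType
import Mathlib.AlgebraicGeometry.Morphisms.Flat
import Mathlib.CategoryTheory.Limits.Shapes.Pullback.IsPullback.Defs
import Mathlib.SetTheory.Cardinal.Finite
import Groth.Prelude.Def_Mor2
import Groth.Agent.BddFibLib.Basic

set_option autoImplicit false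
universe u
open CategoryTheory AlgebraicGeometry
open BddFib

namespace Groth.Agent.S7435

/-- If `f` is finite locally free of degree `d`, then `d` bounds the degrees of the fibres of `f`. -/
theorem result {X Y : Scheme.{u}} (f : X ⟶ Y) (d : ℕ) (hf : Mor2.IsFinLocFreeOfDeg d f) :
    BddFib.FibreDegLE f d := by
  obtain ⟨⟨h1, h2, h3⟩, h4⟩ := hf
  exact BddFibLib.fibreDegLE_of_isFinLocFree f fun y => (h4 y).le

end Groth.Agent.S7435
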