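import Groth.Statements.S7447
import Groth.Agent.LimLib.Approx

set_option autoImplicit false
universe u
open CategoryTheory AlgebraicGeometry
open Opposite
open Lim

namespace Groth.Agent.S7447

lemma range_of_isPullback {A B X Y : Scheme.{u}} {fst : A ⟶ X} {snd : A ⟶ B} {f : X ⟶ Y} {g : B ⟶ Y}
    [IsOpenImmersion g] (h : IsPullback fst snd f g) : Set.range fst = f ⁻¹' Set.range g := by
  rw [← h.flip.isoPullback_hom_snd, Scheme.Hom.comp_base, TopCat.coe_comp, Set.range_comp,
    Set.range_eq_univ.mpr (show Function.Surjective h.flip.isoPullback.hom from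
      h.flip.isoPullback.hom.homeomorph.surjective), Set.image_univ, IsOpenImmersion.range_pullbackSnd]
  rfl

/-- Noetherian approximation relative to a quasi-compact open: let `S` be quasi-compact and
quasi-separated, `V ⊆ S` a quasi-compact open, and `V = lim V_i` the limit of an inverse system,
over a nonempty directed set `I`, of schemes of finite type over `ℤ` with affine transition
morphisms. Then there are a nonempty directed set `J`, an inverse system `(S_j)` of schemes of
finite type over `ℤ` with affine transition morphisms and `S = lim S_j`, an order preserving map `α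
: J → I`, opens `V'_j ⊆ S_j` and isomorphisms `V'_j ≅ V_{α(j)}` such that: the transition maps
satisfy `g_{jj'}⁻¹(V'_{j'}) = V'_j`; `V` is the inverse image of each `V'_j` under `S → S_j` (which
identifies `V` with `lim V'_j`); the composite `V → V'_j → V_{α(j)}` is the projection; and the
squares `V'_j → V_{α(j)} → V_{α(j')}`, `V'_j → V'_{j'} → V_{α(j')}` commute. -/
theorem result (S : Scheme.{u}) [CompactSpace S] [QuasiSeparatedSpace S]
    (V : S.Opens) (hV : IsCompact (V : Set S)) (I : Type u) [Preorder I] [IsDirected I (fun a b => a ≤ b)] [Nonempty I]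
    (DV : Iᵒᵖ ⥤ Scheme.{u}) (haff : ∀ (i i' : Iᵒᵖ) (a : i ⟶ i'), IsAffineHom (DV.map a))
    (hft : ∀ i, CompactSpace (DV.obj i) ∧ LocallyOfFiniteType (Limits.IsTerminal.from specULiftZIsTerminal (DV.obj i)))
    (cV : Limits.Cone DV) (hcV : Limits.IsLimit cV) (eV : cV.pt ≅ (V : Scheme.{u})) :
    ∃ (J : Type u) (_ : Preorder J) (_ : IsDirected J (fun a b => a ≤ b)) (_ : Nonempty J)
      (DS : Jᵒᵖ ⥤ Scheme.{u}) (cS : Limits.Cone DS) (_ : Limits.IsLimit cS) (eS : cS.pt ≅ S)
      (α : J →o I) (V' : ∀ j : J, (DS.obj (op j)).Opens)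
      (φ : ∀ j : J, (V' j : Scheme.{u}) ≅ DV.obj (op (α j))),
      (∀ (j j' : Jᵒᵖ) (a : j ⟶ j'), IsAffineHom (DS.map a)) ∧
      (∀ j, CompactSpace (DS.obj j) ∧ LocallyOfFiniteType (Limits.IsTerminal.from specULiftZIsTerminal (DS.obj j))) ∧
      (∀ (j j' : J) (h : j' ≤ j), (DS.map (homOfLE h).op) ⁻¹ᵁ (V' j') = V' j) ∧
      (∀ j : J, (eS.inv ≫ cS.π.app (op j)) ⁻¹ᵁ (V' j) = V) ∧
      (∀ j : J, ∃ ρ : (V : Scheme.{u}) ⟶ (V' j : Scheme.{u}),
        ρ ≫ (V' j).ι = V.ι ≫ eS.inv ≫ cS.π.app (op j) ∧ ρ ≫ (φ j).hom = eV.inv ≫ cV.π.app (op (α j))) ∧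
      (∀ (j j' : J) (h : j' ≤ j), ∃ τ : (V' j : Scheme.{u}) ⟶ (V' j' : Scheme.{u}),
        τ ≫ (V' j').ι = (V' j).ι ≫ DS.map (homOfLE h).op ∧
        (φ j).hom ≫ DV.map (homOfLE (α.mono h)).op = τ ≫ (φ j').hom) := by
  let P : LimLib.FTSystem cV.pt :=
    { J := I
      D := DV
      π := cV.π
      isLimit := ⟨hcV⟩
      isAffineHom := fun {i i'} a => haff i i' a
      compactSpace := fun i => (hft i).1
      lft := fun i => (hft i).2 }
  have : CompactSpace ↥(V : Scheme.{u}) := isCompact_iff_compactSpace.mp hV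
  have : CompactSpace ↥cV.pt :=
    QuasiCompact.compactSpace_of_compactSpace eV.hom
  obtain ⟨E⟩ := P.exists_extension_of_isOpenImmersion (eV.hom ≫ V.ι)
  have hemb : ∀ j : E.sys.J, IsOpenImmersion (E.emb j) := E.isOpenImmersion
  let V' : ∀ j : E.sys.J, (E.sys.D.obj (op j)).Opens := fun j => (E.emb j).opensRange
  have hπ : ∀ j : E.sys.J, E.sys.π.app (op j) ⁻¹ᵁ V' j = V := by
    intro j
    refine SetLike.coe_injective ?_
    have h' := range_of_isPullback (E.sqπ j)
    show E.sys.π.app (op j) ⁻¹' Set.range (E.emb j) = _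
    rw [← h', Scheme.Hom.comp_base, TopCat.coe_comp, Set.range_comp,
      Set.range_eq_univ.mpr (show Function.Surjective eV.hom from eV.hom.homeomorph.surjective),
      Set.image_univ, Scheme.Opens.range_ι]
  have htr : ∀ (j j' : E.sys.J) (h : j' ≤ j),
      E.sys.D.map (homOfLE h).op ⁻¹ᵁ V' j' = V' j := by
    intro j j' h
    refine SetLike.coe_injective ?_
    exact (range_of_isPullback (E.sq h)).symm
  refine ⟨E.sys.J, E.sys.pre, E.sys.dir, E.sys.ne, E.sys.D, Limits.Cone.mk S E.sys.π,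
    E.sys.isLimit.some, Iso.refl _, E.α, V', fun j => (E.emb j).isoOpensRange.symm,
    fun j j' a => E.sys.isAffineHom a, fun j => ⟨E.sys.compactSpace j, E.sys.lft j⟩, htr, ?_,
    fun j => ?_, fun j j' h => ?_⟩
  · intro j
    simpa using hπ j
  · refine ⟨eV.inv ≫ cV.π.app (op (E.α j)) ≫ (E.emb j).isoOpensRange.hom, ?_, by simp⟩
    simp only [V', Category.assoc, Scheme.Hom.isoOpensRange_hom_ι, Iso.refl_inv, Category.id_comp]
    have := eV.inv ≫= (E.sqπ j).w
    simp only [Category.assoc, Iso.inv_hom_id_assoc] at this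
    exact this.symm
  · refine ⟨(E.emb j).isoOpensRange.inv ≫ DV.map (homOfLE (E.α.mono h)).op ≫
      (E.emb j').isoOpensRange.hom, ?_, by simp⟩
    simp only [V', Category.assoc, Scheme.Hom.isoOpensRange_hom_ι]
    have := (E.emb j).isoOpensRange.inv ≫= (E.sq h).w
    simp only [Scheme.Hom.isoOpensRange_inv_comp_assoc] at this
    exact this.symm

end Groth.Agent.S7447
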