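import Groth.Statements.S7448
import Groth.Agent.CohAff.RcComp
import Groth.Agent.CohAff.ResQcqs
import Groth.Agent.QCoh.Pullback

set_option autoImplicit false
universe u
open Lim

namespace Groth.Agent.S7448

open CategoryTheory CategoryTheory.Limits AlgebraicGeometry TopologicalSpace
open Groth.Agent.CohAff (FRes)

/-- vanishing does not depend on the resolution -/
lemma van_top_congr {Z : Scheme.{u}} (R R' : FRes Z) (e : R.Z 0 ≅ R'.Z 0) (n : ℕ) (h : R.Van n ⊤) :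
    R'.Van n ⊤ := by
  have h0 : Subsingleton (Coh.HH Z (R.Z 0) n) := by
    refine subsingleton_of_forall_eq 0 fun x => ?_
    obtain ⟨z, rfl⟩ := R.clsTop_surjective n x
    exact (R.clsTop_eq_zero_iff n z).2 (h z)
  let ε : Coh.toAb (R.Z 0) ≅ Coh.toAb (R'.Z 0) := (Groth.Agent.ModShf.toAbFunctor Z).mapIso e
  have h1 : Subsingleton (Coh.HH Z (R'.Z 0) n) := by
    refine subsingleton_of_forall_eq 0 fun x => ?_
    have := congrArg (Sheaf.H.map ε.hom n) (h0.elim (Sheaf.H.map ε.inv n x) 0)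
    rwa [map_zero, ← Sheaf.H.map_comp_apply, ε.inv_hom_id, Sheaf.H.map_id_apply] at this
  exact fun z => (R'.clsTop_eq_zero_iff n z).1 (h1.elim _ _)

/-- sheaves given by a resolution vanish if the classes do on a basis -/
lemma isZero_Rc_of_van_basis {X Y : Scheme.{u}} (f : X ⟶ Y) (R : FRes X) (n : ℕ) (B : Y.Opens → Prop)
    (hB : ∀ (V : Y.Opens) (y : Y), y ∈ V → ∃ A, B A ∧ y ∈ A ∧ A ≤ V)
    (h : ∀ A, B A → R.Van (n + 1) (f ⁻¹ᵁ A)) : IsZero (R.Rc f n) := by
  refine (IsZero.iff_id_eq_zero _).2 (Scheme.Modules.hom_ext _ _ fun V ↦ ?_)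
  ext r
  change r = 0
  choose W hW hyW x hx using fun (y : V) ↦ R.exists_locally_π' f n r y.1 y.2
  choose A hA hyA hAW using fun (y : V) ↦ hB (W y) y.1 (hyW y)
  refine Groth.Agent.QCoh.eq_zero_of_locally_eq_zero (R.Rc f n) (U := A)
    (fun y ↦ (hAW y).trans (hW y)) (fun y hy ↦ Opens.mem_iSup.2 ⟨⟨y, hy⟩, hyA ⟨y, hy⟩⟩) r fun y ↦ ?_
  rw [← Groth.Agent.QCoh.res_res (R.Rc f n) (hW y) (hAW y), ← hx y, FRes.π'_res]
  exact R.π'_eq_zero_of_ex f n (h _ (hA y) _)


open AlgebraicGeometry CategoryTheory in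
/-- Let `f : X → Y` be a morphism with `X`, `Y` quasi-compact and quasi-separated, and `d ≥ 0` such that
`R^i f_* F = 0` for all `i > d` and all quasi-coherent `F`. Then for every cartesian square with
base change `f' : X' → Y'` of `f`, `R^i f'_* F' = 0` for all `i > d` and all quasi-coherent
`O_{X'}`-modules `F'`. -/
theorem result {X Y X' Y' : Scheme.{u}} (f : X ⟶ Y) [CompactSpace X]
    [QuasiSeparatedSpace X] [CompactSpace Y] [QuasiSeparatedSpace Y] (d : ℕ)
    (hvan : ∀ (M : X.Modules) (i : ℕ), Coh.IsQCoh M → d < i → Limits.IsZero ((Coh.RpushAb f i).obj (Coh.toAb M)))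
    (g : Y' ⟶ Y) (f' : X' ⟶ Y') (g' : X' ⟶ X) (sq : IsPullback g' f' f g) (M' : X'.Modules) [Coh.IsQCoh M']
    (i : ℕ) (hi : d < i) : Limits.IsZero ((Coh.RpushAb f' i).obj (Coh.toAb M')) := by
  obtain ⟨n, rfl⟩ : ∃ n, i = n + 1 := ⟨i - 1, by omega⟩
  have : QuasiCompact f := inferInstance
  have hM' : M'.IsQuasicoherent := inferInstanceAs (Coh.IsQCoh M')
  let I' := injectiveResolution M'
  let R' := Groth.Agent.CohAff.fresOf I'
  have : (R'.Z 0).IsQuasicoherent := Groth.Agent.CohAff.fresOf_isQuasicoherent I'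
  suffices h0 : IsZero (R'.Rc f' n) from
    ((Groth.Agent.ModShf.toAbFunctor Y').map_isZero
      (h0.of_iso (Groth.Agent.CohAff.rpushSuccIso f' I' n))).of_iso
        ((Groth.Agent.ModShf.rpushCompToAb f' (n + 1)).app M').symm
  refine isZero_Rc_of_van_basis f' R' n
    (fun A => IsAffineOpen A ∧ ∃ V : Y.Opens, IsAffineOpen V ∧ A ≤ g ⁻¹ᵁ V) (fun W y hy => ?_) ?_
  · obtain ⟨V, hV, hyV, -⟩ := exists_isAffineOpen_mem_and_subset (U := (⊤ : Y.Opens)) (x := g y) trivial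
    obtain ⟨A, hA, hyA, hle⟩ := exists_isAffineOpen_mem_and_subset (U := g ⁻¹ᵁ V ⊓ W) (x := y) ⟨hyV, hy⟩
    exact ⟨A, ⟨hA, V, hV, fun z hz => (hle hz).1⟩, hyA, fun z hz => (hle hz).2⟩
  rintro V' ⟨hV', V, hV, hT⟩
  -- the affine morphism `X'_{V'} ⟶ X_V`
  let U : X.Opens := f ⁻¹ᵁ V
  let U' : X'.Opens := g' ⁻¹ᵁ U ⊓ f' ⁻¹ᵁ V'
  have hU' : U' = f' ⁻¹ᵁ V' := inf_eq_right.2
    ((f'.preimage_mono hT).trans (by rw [← Scheme.Hom.comp_preimage, ← sq.w, Scheme.Hom.comp_preimage]))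
  rw [← hU']
  have : IsAffine V.toScheme := hV
  have : IsAffine V'.toScheme := hV'
  have sq' := Scheme.Hom.isPullback_resLE sq hT (le_refl U) (rfl : U' = _)
  let h : U'.toScheme ⟶ U.toScheme := g'.resLE U U' inf_le_left
  have : IsAffineHom h := MorphismProperty.of_isPullback sq'.flip inferInstance
  let S := R'.restrict U'.ι
  let N : (U : Scheme.{u}).Modules := (S.pushAff h).Z 0
  have : N.IsQuasicoherent := inferInstanceAs ((S.pushAff h).Z 0).IsQuasicoherent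
  -- extend to `X`
  have : CompactSpace U.toScheme := isCompact_iff_compactSpace.mp (f.isCompact_preimage hV.isCompact)
  have : QuasiCompact U.ι := inferInstance
  let M : X.Modules := (Scheme.Modules.pushforward U.ι).obj N
  have hM : M.IsQuasicoherent := Groth.Agent.QCoh.isQuasicoherent_pushforward U.ι N
  let I := injectiveResolution M
  let R := Groth.Agent.CohAff.fresOf I
  have : (R.Z 0).IsQuasicoherent := Groth.Agent.CohAff.fresOf_isQuasicoherent I
  have hz : IsZero ((Coh.Rpush f (n + 1)).obj M) := by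
    have := (hvan M (n + 1) hM hi).of_iso ((Groth.Agent.ModShf.rpushCompToAb f (n + 1)).app M)
    refine (IsZero.iff_id_eq_zero _).2 (Scheme.Modules.hom_ext _ _ fun W => ?_)
    ext x
    exact congrArg (fun φ : Coh.toAb ((Coh.Rpush f (n + 1)).obj M) ⟶ Coh.toAb ((Coh.Rpush f (n + 1)).obj M) =>
      φ.hom.app (Opposite.op W) x) (this.eq_of_src (𝟙 _) 0)
  have hRU : R.Van (n + 1) U := fun z => by
    refine R.ex_of_π'_eq_zero f hV n z ?_
    have h1 : IsZero (R.Rc f n) := hz.of_iso (Groth.Agent.CohAff.rpushSuccIso f I n).symm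
    exact congrArg (fun φ : R.Rc f n ⟶ R.Rc f n => φ.app V (R.π' f n V z)) (h1.eq_of_src (𝟙 _) 0)
  have hι : U.ι ''ᵁ ⊤ = U := by rw [Scheme.Hom.image_top_eq_opensRange, Scheme.Opens.opensRange_ι]
  have h1' : R.Van (n + 1) (U.ι ''ᵁ ⊤) := by rw [hι]; exact hRU
  have h1 : (R.restrict U.ι).Van (n + 1) ⊤ := h1'
  let e : (R.restrict U.ι).Z 0 ≅ N :=
    (Scheme.Modules.restrictFunctor U.ι).mapIso (Groth.Agent.CohAff.fresOfZ0Iso I) ≪≫
      (Scheme.Modules.restrictFunctorAdjCounitIso U.ι).app N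
  have h2 := (S.van_pushAff_iff h (n + 1) ⊤).1 (van_top_congr _ (S.pushAff h) e (n + 1) h1)
  have hι' : U'.ι ''ᵁ ⊤ = U' := by rw [Scheme.Hom.image_top_eq_opensRange, Scheme.Opens.opensRange_ι]
  have h2' : R'.Van (n + 1) (U'.ι ''ᵁ ⊤) := h2
  rwa [hι'] at h2'

end Groth.Agent.S7448
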