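import Groth.Statements.S7451
import Mathlib.Algebra.MvPolynomial.Funext
import Mathlib.Algebra.MvPolynomial.Polynomial
import Mathlib.RingTheory.Spectrum.Prime.Noetherian
import Mathlib.RingTheory.Spectrum.Prime.Topology
import Mathlib.RingTheory.Polynomial.Basic
import Mathlib.RingTheory.IntegralClosure.IntegrallyClosed
import Mathlib.RingTheory.IntegralClosure.IsIntegralClosure.Basic
import Mathlib.FieldTheory.IntermediateField.Adjoin.Basic
import Mathlib.FieldTheory.Finite.Basic
import Mathlib.Algebra.CharP.Algebra
import Mathlib.Topology.Sober
import Mathlib.Algebra.Algebra.ZMod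

set_option autoImplicit false
universe u
open CategoryTheory AlgebraicGeometry
open Desc

namespace Groth.Agent.S7451

section helpers

variable {k : Type u} [Field k] {n : ℕ}

/-- The point of affine space under a `K`-valued point. -/
noncomputable def pt {K : Type u} [Field K] [Algebra k K] (a : Fin n → K) :
    ↥(Spec (CommRingCat.of (MvPolynomial (Fin n) k))) :=
  (⟨RingHom.ker (MvPolynomial.aeval (R := k) a).toRingHom, RingHom.ker_isPrime _⟩ :
    PrimeSpectrum (MvPolynomial (Fin n) k))

lemma eq_zero_of_grid {K : Type u} [Field K] (f : MvPolynomial (Fin n) K) (j : Fin n)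
    (S : Fin n → Set K) (hS : ∀ l, (S l).Infinite)
    (h : ∀ b : Fin n → K, (∀ l ≠ j, b l ∈ S l) →
      {t : K | MvPolynomial.eval (Function.update b j t) f = 0}.Infinite) : f = 0 := by
  refine MvPolynomial.funext_set S hS fun b hb => ?_
  rw [map_zero]
  let g : Polynomial K :=
    MvPolynomial.aeval (Function.update (fun l => Polynomial.C (b l)) j Polynomial.X) f
  have hg : ∀ t, g.eval t = MvPolynomial.eval (Function.update b j t) f := by
    intro t
    show Polynomial.evalRingHom t _ = _
    show Polynomial.evalRingHom t (MvPolynomial.aeval _ f) = _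
    rw [MvPolynomial.map_aeval, MvPolynomial.eval, MvPolynomial.coe_eval₂Hom]
    have hc : (Polynomial.evalRingHom t).comp (algebraMap K (Polynomial K)) = RingHom.id K :=
      RingHom.ext fun r => by simp
    rw [hc]
    congr 1
    funext l
    rcases eq_or_ne l j with rfl | hl
    · simp
    · simp [hl]
  have : g = 0 := Polynomial.eq_zero_of_infinite_isRoot g
    ((h b fun l _ => hb l trivial).mono fun t ht => by simpa [hg] using ht)
  have h2 := hg (b j)
  rw [this, Function.update_eq_self, Polynomial.eval_zero] at h2
  exact h2.symm

end helpers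


/-- Let `k` be a field and `n ≥ 2`. For `i ≠ j` and `d ≥ 0` let `T_{i,j,d}` be the automorphism of
`𝔸^n_k` given by `x_i ↦ x_i + x_j^d` and fixing the other coordinates. Let `W ⊆ 𝔸^n_k` be a nonempty
open subscheme with `T_{i,j,d}⁻¹(W) = W` for all `i, j, d`. Then either `W = 𝔸^n_k`, or `k` has
prime characteristic `p` and the complement `𝔸^n_k ∖ W` consists of finitely many closed points,
each of whose coordinates `a` in the residue field satisfies `a^(p^m) = a` for some `m ≥ 1`
(equivalently, is algebraic over `𝔽_p`). -/
theorem result (k : Type u) [Field k] (n : ℕ) (hn : 2 ≤ n)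
    (W : (Spec (CommRingCat.of (MvPolynomial (Fin n) k))).Opens)
    (hW : (W : Set ↥(Spec (CommRingCat.of (MvPolynomial (Fin n) k)))).Nonempty)
    (hinv : ∀ (i j : Fin n), i ≠ j → ∀ d : ℕ,
      (Spec.map (CommRingCat.ofHom (MvPolynomial.aeval (R := k)
        (Function.update MvPolynomial.X i (MvPolynomial.X i + MvPolynomial.X j ^ d) :
          Fin n → MvPolynomial (Fin n) k)).toRingHom)) ⁻¹ᵁ W = W) :
    W = ⊤ ∨ ∃ p : ℕ, p.Prime ∧ CharP k p ∧ ((W : Set ↥(Spec (CommRingCat.of (MvPolynomial (Fin n) k))))ᶜ).Finite ∧
      ∀ x : ↥(Spec (CommRingCat.of (MvPolynomial (Fin n) k))),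
        x ∉ (W : Set ↥(Spec (CommRingCat.of (MvPolynomial (Fin n) k)))) →
        IsClosed ({x} : Set ↥(Spec (CommRingCat.of (MvPolynomial (Fin n) k)))) ∧ ∀ i : Fin n, ∃ m : ℕ, 0 < m ∧
          (algebraMap (MvPolynomial (Fin n) k) x.asIdeal.ResidueField (MvPolynomial.X i)) ^ (p ^ m) =
            algebraMap (MvPolynomial (Fin n) k) x.asIdeal.ResidueField (MvPolynomial.X i) := by
  classical
  by_cases htop : W = ⊤
  · exact Or.inl htop
  right
  let R := MvPolynomial (Fin n) k
  -- complement
  have hne : ∃ x, x ∉ W := by
    by_contra h
    push_neg at h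
    exact htop (TopologicalSpace.Opens.ext (Set.eq_univ_of_forall h))
  obtain ⟨s, hs⟩ := (PrimeSpectrum.isClosed_iff_zeroLocus _).mp
    (show IsClosed (X := PrimeSpectrum R) ((W : Set ↥(Spec (CommRingCat.of R)))ᶜ) from W.isOpen.isClosed_compl)
  obtain ⟨f, hfs, hf0⟩ : ∃ f ∈ s, f ≠ 0 := by
    by_contra h
    push_neg at h
    obtain ⟨w, hw⟩ := hW
    have : (w : PrimeSpectrum R) ∈ (W : Set ↥(Spec (CommRingCat.of R)))ᶜ := by
      refine hs.ge fun g hg => ?_
      rw [h g hg]
      exact Ideal.zero_mem _
    exact this hw
  have hf : ∀ {K : Type u} [Field K] [Algebra k K] (b : Fin n → K), pt b ∉ W →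
      MvPolynomial.eval b (MvPolynomial.map (algebraMap k K) f) = 0 := by
    intro K _ _ b hb
    have : (pt b : PrimeSpectrum R) ∈ PrimeSpectrum.zeroLocus s := by rw [← hs]; exact hb
    have h2 : MvPolynomial.aeval b f = 0 := this hfs
    rw [MvPolynomial.eval_map]
    exact h2
  -- invariance
  have hQ : ∀ {K : Type u} [Field K] [Algebra k K] (b : Fin n → K) (i j : Fin n), i ≠ j → ∀ d : ℕ,
      (pt b ∉ W ↔ pt (Function.update b i (b i + b j ^ d)) ∉ W) := by
    intro K _ _ b i j hij d
    have key : (Spec.map (CommRingCat.ofHom (MvPolynomial.aeval (R := k)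
        (Function.update MvPolynomial.X i (MvPolynomial.X i + MvPolynomial.X j ^ d) :
          Fin n → MvPolynomial (Fin n) k)).toRingHom)).base (pt b) =
        pt (Function.update b i (b i + b j ^ d)) := by
      apply PrimeSpectrum.ext
      show Ideal.comap _ (RingHom.ker (MvPolynomial.aeval (R := k) b).toRingHom) =
        RingHom.ker (MvPolynomial.aeval (R := k) (Function.update b i (b i + b j ^ d))).toRingHom
      rw [RingHom.comap_ker]
      congr 1
      refine MvPolynomial.ringHom_ext (fun r => by simp) fun l => ?_
      simp only [RingHom.comp_apply, AlgHom.toRingHom_eq_coe, RingHom.coe_coe,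
        CommRingCat.hom_ofHom, MvPolynomial.aeval_X]
      rcases eq_or_ne l i with rfl | hl
      · simp
      · simp [hl]
    have h := hinv i j hij d
    constructor <;> intro h1 h2
    · apply h1
      rw [← h, Scheme.Hom.mem_preimage, key]
      exact h2
    · apply h1
      rw [← h, Scheme.Hom.mem_preimage, key] at h2
      exact h2
  -- shifting every coordinate other than `j` by a power of the `j`-th one
  have hshift : ∀ {K : Type u} [Field K] [Algebra k K] (a : Fin n → K) (j : Fin n), pt a ∉ W →
      ∀ (t : Finset (Fin n)), j ∉ t → ∀ b : Fin n → K, (∀ l ∉ t, b l = a l) →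
      (∀ l ∈ t, ∃ d : ℕ, b l = a l + a j ^ d) → pt b ∉ W := by
    intro K _ _ a j ha t
    induction t using Finset.induction with
    | empty =>
      intro _ b h1 _
      rwa [show b = a from funext fun l => h1 l (by simp)]
    | insert i t hit ih =>
      intro hj b h1 h2
      simp only [Finset.mem_insert, not_or] at hj
      obtain ⟨d, hd⟩ := h2 i (Finset.mem_insert_self i t)
      have h3 := ih hj.2 (Function.update b i (a i)) (fun l hl => ?_) (fun l hl => ?_)
      · have h4 := (hQ (Function.update b i (a i)) i j (Ne.symm hj.1) d).mp h3
        rw [Function.update_self, Function.update_of_ne hj.1,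
          h1 j (by simp [hj.1, hj.2]), Function.update_idem] at h4
        rwa [← hd, Function.update_eq_self] at h4
      · rcases eq_or_ne l i with rfl | hli
        · simp
        · rw [Function.update_of_ne hli]; exact h1 l (by simp [hli, hl])
      · have hli : l ≠ i := fun e => hit (e ▸ hl)
        rw [Function.update_of_ne hli]; exact h2 l (Finset.mem_insert_of_mem hl)
  -- positive characteristic
  obtain ⟨p, hp⟩ := CharP.exists k
  haveI : Nontrivial (Fin n) := Fin.nontrivial_iff_two_le.mpr hn
  rcases CharP.char_is_prime_or_zero k p with hpp | rfl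
  swap
  · exfalso
    haveI : CharZero k := CharP.charP_to_charZero k
    obtain ⟨x, hx⟩ := hne
    let K := (x : PrimeSpectrum R).asIdeal.ResidueField
    let a : Fin n → K := fun i => algebraMap R K (MvPolynomial.X i)
    haveI : CharZero K := charZero_of_injective_algebraMap (algebraMap k K).injective
    have hpt : pt a = x := by
      apply PrimeSpectrum.ext
      have : MvPolynomial.aeval (R := k) a = IsScalarTower.toAlgHom k R K :=
        MvPolynomial.algHom_ext fun i => MvPolynomial.aeval_X a i
      show RingHom.ker (MvPolynomial.aeval (R := k) a).toRingHom = _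
      rw [this]
      exact Ideal.ker_algebraMap_residueField _
    have hall : ∀ (t : Finset (Fin n)) (b : Fin n → K), (∀ l ∉ t, b l = a l) →
        (∀ l ∈ t, ∃ m : ℕ, b l = a l + m) → pt b ∉ W := by
      intro t
      induction t using Finset.induction with
      | empty =>
        intro b h1 _
        rw [show b = a from funext fun l => h1 l (by simp), hpt]; exact hx
      | insert i t hit ih =>
        intro b h1 h2
        obtain ⟨m, hm⟩ := h2 i (Finset.mem_insert_self i t)
        obtain ⟨j, hji⟩ := exists_ne i
        suffices H : ∀ m : ℕ, pt (Function.update b i (a i + m)) ∉ W by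
          have := H m; rwa [← hm, Function.update_eq_self] at this
        intro m
        induction m with
        | zero =>
          refine ih _ (fun l hl => ?_) fun l hl => ?_
          · rcases eq_or_ne l i with rfl | hli
            · simp
            · rw [Function.update_of_ne hli]; exact h1 l (by simp [hli, hl])
          · have hli : l ≠ i := fun e => hit (e ▸ hl)
            rw [Function.update_of_ne hli]; exact h2 l (Finset.mem_insert_of_mem hl)
        | succ m ihm =>
          have h4 := (hQ _ i j hji.symm 0).mp ihm
          rw [Function.update_self, Function.update_idem, pow_zero] at h4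
          rwa [Nat.cast_succ, ← add_assoc]
    refine hf0 (MvPolynomial.map_injective _ (algebraMap k K).injective ?_)
    rw [map_zero]
    refine MvPolynomial.funext_set (fun l => Set.range fun m : ℕ => a l + m) (fun l => ?_)
      fun b hb => ?_
    · exact Set.infinite_range_of_injective fun u v huv => by simpa using huv
    · rw [map_zero]
      exact hf b (hall Finset.univ b (by simp) fun l _ => by
        obtain ⟨m, hm⟩ := hb l trivial; exact ⟨m, hm.symm⟩)
  haveI := Fact.mk hpp
  -- every coordinate is integral over `ℤ`
  have hint : ∀ x, x ∉ W → ∀ i, IsIntegral ℤ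
      (algebraMap R (x : PrimeSpectrum R).asIdeal.ResidueField (MvPolynomial.X i)) := by
    intro x hx j
    by_contra hv
    let K := (x : PrimeSpectrum R).asIdeal.ResidueField
    let a : Fin n → K := fun i => algebraMap R K (MvPolynomial.X i)
    have hpt : pt a = x := by
      apply PrimeSpectrum.ext
      have : MvPolynomial.aeval (R := k) a = IsScalarTower.toAlgHom k R K :=
        MvPolynomial.algHom_ext fun i => MvPolynomial.aeval_X a i
      show RingHom.ker (MvPolynomial.aeval (R := k) a).toRingHom = _
      rw [this]
      exact Ideal.ker_algebraMap_residueField _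
    -- powers of a non-integral element are distinct
    have hpow : ∀ w : K, ¬ IsIntegral ℤ w → Function.Injective fun d : ℕ => w ^ d := by
      intro w hw d e hde
      by_contra hne
      wlog hlt : d < e generalizing d e
      · exact this hde.symm (Ne.symm hne) (by omega)
      exact hw ⟨Polynomial.X ^ e - Polynomial.X ^ d,
        Polynomial.monic_X_pow_sub (by simpa using hlt),
        by simp [sub_eq_zero, hde.symm]⟩
    obtain ⟨i, hij⟩ := exists_ne j
    let D : Set ℕ := {d | ¬ IsIntegral ℤ (a i + a j ^ d)}
    have hD : D.Infinite := by
      have : (Dᶜ).Subsingleton := by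
        intro d hd e he
        simp only [D, Set.mem_compl_iff, Set.mem_setOf_eq, not_not] at hd he
        by_contra hne
        wlog hlt : d < e generalizing d e
        · exact this he hd (Ne.symm hne) (by omega)
        apply hv
        have h1 : IsIntegral ℤ (a j ^ e - a j ^ d) := by simpa using he.sub hd
        let C := integralClosure ℤ K
        have h2 : IsIntegral C (a j) := by
          refine ⟨Polynomial.X ^ e - (Polynomial.X ^ d + Polynomial.C (⟨_, h1⟩ : C)),
            Polynomial.monic_X_pow_sub ?_, ?_⟩
          · refine lt_of_le_of_lt (Polynomial.degree_add_le _ _) ?_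
            rw [Polynomial.degree_X_pow, max_lt_iff]
            exact ⟨by exact_mod_cast hlt, lt_of_le_of_lt Polynomial.degree_C_le
              (by exact_mod_cast (Nat.zero_le d).trans_lt hlt)⟩
          · simp only [Polynomial.eval₂_sub, Polynomial.eval₂_add, Polynomial.eval₂_X_pow,
              Polynomial.eval₂_C]
            show a j ^ e - (a j ^ d + (a j ^ e - a j ^ d)) = 0
            ring
        exact isIntegral_trans _ h2
      exact this.finite.infinite_compl (α := ℕ) |>.mono (by simp)
    let S : Fin n → Set K := fun l => if l = i then (fun d => a i + a j ^ d) '' D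
      else Set.range fun d : ℕ => a l + a j ^ d
    refine hf0 (MvPolynomial.map_injective _ (algebraMap k K).injective ?_)
    rw [map_zero]
    refine eq_zero_of_grid _ j S (fun l => ?_) fun b hb => ?_
    · simp only [S]
      split
      · exact hD.image fun d _ e _ h => hpow _ hv (add_left_cancel h)
      · exact Set.infinite_range_of_injective fun d e h => hpow _ hv (add_left_cancel h)
    · have hb0 : pt (Function.update b j (a j)) ∉ W := by
        refine hshift a j (by rw [hpt]; exact hx) (Finset.univ.erase j) (by simp) _ (fun l hl => ?_)
          fun l hl => ?_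
        · simp only [Finset.mem_erase, Finset.mem_univ, and_true, not_not] at hl
          subst hl; simp
        · have hlj := (Finset.mem_erase.mp hl).1
          rw [Function.update_of_ne hlj]
          have := hb l hlj
          simp only [S] at this
          split at this
          · next h => subst h; obtain ⟨d, -, hd⟩ := this; exact ⟨d, hd.symm⟩
          · obtain ⟨d, hd⟩ := this; exact ⟨d, hd.symm⟩
      have hbi : ¬ IsIntegral ℤ (b i) := by
        have := hb i hij
        simp only [S, if_true] at this
        obtain ⟨d, hd, e⟩ := this
        rw [← e]; exact hd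
      refine (Set.infinite_range_of_injective (f := fun d : ℕ => a j + b i ^ d)
        fun d e h => hpow _ hbi (add_left_cancel h)).mono ?_
      rintro _ ⟨d, rfl⟩
      apply hf
      have h4 := (hQ _ j i hij.symm d).mp hb0
      rwa [Function.update_self, Function.update_of_ne hij, Function.update_idem] at h4
  have hclosed : ∀ x, x ∉ W →
      IsClosed ({x} : Set ↥(Spec (CommRingCat.of (MvPolynomial (Fin n) k)))) := by
    intro x hx
    refine (PrimeSpectrum.isClosed_singleton_iff_isMaximal (x : PrimeSpectrum R)).mpr ?_
    let P := (x : PrimeSpectrum R).asIdeal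
    haveI : Algebra.IsIntegral k (R ⧸ P) := by
      refine ⟨fun y => ?_⟩
      obtain ⟨g, rfl⟩ := Ideal.Quotient.mk_surjective y
      induction g using MvPolynomial.induction_on with
      | C r => exact isIntegral_algebraMap (R := k) (x := r)
      | add g h hg hh => rw [map_add]; exact hg.add hh
      | mul_X g i hg =>
        rw [map_mul]
        refine hg.mul ?_
        have h1 : IsIntegral ℤ (algebraMap (R ⧸ P) P.ResidueField
            (Ideal.Quotient.mk P (MvPolynomial.X i))) := by
          rw [← Ideal.Quotient.algebraMap_eq, ← IsScalarTower.algebraMap_apply]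
          exact hint x hx i
        exact ((isIntegral_algebraMap_iff
          P.injective_algebraMap_quotient_residueField).mp h1).tower_top
    exact Ideal.Quotient.maximal_of_isField _
      (isField_of_isIntegral_of_isField' (R := k) (Field.toIsField k))
  refine ⟨p, hpp, hp, ?_, fun x hx => ⟨hclosed x hx, fun i => ?_⟩⟩
  · -- finiteness
    let X := ↥(Spec (CommRingCat.of (MvPolynomial (Fin n) k)))
    let Z := ((W : Set X)ᶜ)
    haveI : TopologicalSpace.NoetherianSpace X :=
      (inferInstance : TopologicalSpace.NoetherianSpace (PrimeSpectrum R))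
    haveI : QuasiSober X := (inferInstance : QuasiSober (PrimeSpectrum R))
    haveI : T1Space Z := ⟨fun z => by
      have := (hclosed z z.2).preimage (continuous_subtype_val (p := (· ∈ Z)))
      convert this
      ext w; simp [Subtype.ext_iff]⟩
    haveI : QuasiSober Z :=
      (IsClosed.isClosedEmbedding_subtypeVal W.isOpen.isClosed_compl).quasiSober
    have hsub : ∀ T ∈ irreducibleComponents Z, T.Subsingleton := by
      intro T hT
      obtain ⟨z, hz⟩ := QuasiSober.sober hT.1 (isClosed_of_mem_irreducibleComponents T hT)
      rw [← hz.def, closure_singleton]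
      exact Set.subsingleton_singleton
    have : (Set.univ : Set Z).Finite := by
      rw [← sUnion_irreducibleComponents]
      exact TopologicalSpace.NoetherianSpace.finite_irreducibleComponents.sUnion
        fun T hT => (hsub T hT).finite
    exact Set.finite_coe_iff.mp (Set.finite_univ_iff.mp this)
  · -- Frobenius-fixed
    let K := (x : PrimeSpectrum R).asIdeal.ResidueField
    haveI : CharP K p := charP_of_injective_algebraMap (algebraMap k K).injective p
    letI : Algebra (ZMod p) K := ZMod.algebra K p
    have h1 : IsIntegral (ZMod p) (algebraMap R K (MvPolynomial.X i)) := by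
      obtain ⟨P, hP, hP0⟩ := hint x hx i
      refine ⟨P.map (Int.castRingHom (ZMod p)), hP.map _, ?_⟩
      rw [Polynomial.eval₂_map, show (algebraMap (ZMod p) K).comp (Int.castRingHom (ZMod p)) =
        algebraMap ℤ _ from RingHom.ext_int _ _]
      exact hP0
    let L := IntermediateField.adjoin (ZMod p) {algebraMap R K (MvPolynomial.X i)}
    haveI : FiniteDimensional (ZMod p) L := IntermediateField.adjoin.finiteDimensional h1
    haveI : Finite L := Module.finite_of_finite (ZMod p)
    haveI := Fintype.ofFinite L
    refine ⟨Module.finrank (ZMod p) L, Module.finrank_pos, ?_⟩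
    have h2 := congrArg Subtype.val (FiniteField.pow_card
      (⟨_, IntermediateField.mem_adjoin_simple_self (ZMod p) _⟩ : L))
    rw [Module.card_eq_pow_finrank (K := ZMod p) (V := L), ZMod.card] at h2
    simpa using h2

end Groth.Agent.S7451
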