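import Groth.Statements.S7464
import Groth.Agent.GrpdLib.Basic
import Mathlib.AlgebraicGeometry.Morphisms.QuasiFinite

set_option autoImplicit false
universe u
open CategoryTheory CategoryTheory.Limits AlgebraicGeometry
open Grpd

namespace Groth.Agent.S7464

open Groth.Agent.GrpdLib

theorem fibre_specializes_eq {X Y : Scheme.{u}} (f : X ⟶ Y) [IsFinite f] {a b : X}
    (h : f a = f b) (hs : a ⤳ b) : a = b := by
  have hd : _root_.IsDiscrete (f ⁻¹' {f b}) := f.isDiscrete_preimage_singleton _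
  have : DiscreteTopology ↑(f ⁻¹' {f b}) := hd.to_subtype
  have h' : (⟨a, h⟩ : ↑(f ⁻¹' {f b})) ⤳ ⟨b, rfl⟩ := Topology.IsInducing.subtypeVal.specializes_iff.mp hs
  exact congrArg Subtype.val h'.eq

/-- Let (U, R, s, t, c) be a groupoid scheme over S with s and t finite, and let u, u' be distinct
points of U in the same orbit, say u = s(r) and u' = t(r). Then u' does not lie in the closure of u.
(The published statement calls u, u' points of R; this row takes them to be points of U, as the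
orbit condition and the proof require.) (A groupoid scheme carries U, R, s, t, c, e, i over S with
the groupoid axioms on T-points; c is defined on the fibre product of s and t and sends a pair (a,
b) with s(a) = t(b) to a composed with b.) -/
theorem result (S : Scheme.{u}) (G : Grpd.GroupoidScheme S) [IsFinite G.s] [IsFinite G.t] (r : G.R) (hne : G.s r ≠ G.t r) : ¬ (G.s r ⤳ G.t r) := by
  intro h
  classical
  let O : Set G.U := G.t '' (G.s ⁻¹' {G.s r})
  have hO : O.Finite := (IsFinite.finite_preimage_singleton G.s _).image _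
  have memO : ∀ x, x ∈ O ↔ Rel G x (G.s r) := fun x ↦
    ⟨fun ⟨r', h₁, h₂⟩ ↦ ⟨r', h₂, h₁⟩, fun ⟨r', h₁, h₂⟩ ↦ ⟨r', h₂, h₁⟩⟩
  -- every point of the orbit has a strict specialization in the orbit
  have step : ∀ c ∈ O, ∃ d ∈ O, c ⤳ d ∧ c ≠ d := by
    intro c hc
    obtain ⟨r₁, hr₁, hr₁'⟩ := (memO c).1 hc
    obtain ⟨r₂, hspec, hr₂⟩ := G.s.isClosedMap.specializingMap (hr₁' ▸ h : G.s r₁ ⤳ G.t r)
    refine ⟨G.t r₂, (memO _).2 ?_, hr₁ ▸ hspec.map G.t.continuous, ?_⟩
    · exact (rel_equivalence G).trans ⟨r₂, rfl, hr₂⟩ ⟨r, rfl, rfl⟩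
    · intro heq
      have : r₁ = r₂ := by
        by_contra hne'
        exact hne' (fibre_specializes_eq G.t (hr₁.trans heq) hspec)
      exact hne (hr₁'.symm.trans ((congrArg _ this).trans hr₂))
  have hne' : O.Nonempty := ⟨G.s r, (memO _).2 ((rel_equivalence G).refl _)⟩
  obtain ⟨c, hc, hmax⟩ := hO.exists_minimalFor
    (fun x ↦ (O ∩ {y | x ⤳ y}).ncard) O hne'
  obtain ⟨d, hd, hcd, hne''⟩ := step c hc
  have hlt : (O ∩ {y | d ⤳ y}).ncard < (O ∩ {y | c ⤳ y}).ncard := by
    refine Set.ncard_lt_ncard ⟨fun y hy ↦ ⟨hy.1, hcd.trans hy.2⟩, fun hsub ↦ ?_⟩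
      (hO.inter_of_left _)
    exact hne'' (hcd.antisymm (hsub ⟨hc, specializes_rfl⟩).2).eq
  exact absurd (hmax hd hlt.le) (not_le.2 hlt)

end Groth.Agent.S7464
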