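import Groth.Statements.S7475
import Groth.Agent.HTopLib.Sheaf
-- import your own Groth.Agent.* helpers here

set_option autoImplicit false
universe w u
open HTop

namespace Groth.Agent.S7475

open CategoryTheory CategoryTheory.Limits AlgebraicGeometry in
/-- Variant with a single arrow: a presheaf of sets on all schemes has the sheaf property for every V
covering family exactly when it is a Zariski sheaf and has the sheaf property for every morphism V
-> U of affine schemes that on its own forms a standard V covering. -/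
theorem result (F : Scheme.{u}ᵒᵖ ⥤ Type w) : HTop.IsVSheaf F ↔ (Presieve.IsSheaf Scheme.zariskiTopology F ∧ ∀ (U V : Scheme.{u}) (f : V ⟶ U), HTop.IsStandardV (PreZeroHypercover.singleton f) → Presieve.IsSheafFor F (Presieve.singleton f)) := by
  constructor
  · intro hF
    refine ⟨Groth.Agent.HTopLib.isSheaf_zariski_of_isVSheaf hF, fun U V f hf => ?_⟩
    have := hF _ ((HTop.presieve₀_mem_vPrecoverage_iff _).2 (Groth.Agent.HTopLib.isVCover_of_isStandardV hf))
    rwa [PreZeroHypercover.presieve₀_singleton] at this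
  · rintro ⟨hz, hst⟩
    refine Groth.Agent.HTopLib.isVSheaf_of_zariski_of_standardV hz fun W E hE => ?_
    obtain ⟨E₀, hE₀, he⟩ := Groth.Agent.HTopLib.exists_isStandardV_family.{0, u} E hE
    rw [← he]
    haveI := hE₀.finite_index
    haveI : ∀ j, IsAffine (E₀.X j) := hE₀.isAffine_obj
    refine Groth.Agent.HTopLib.isSheafFor_of_singleton_sigmaDesc hz E₀.X E₀.f
      (hst W (∐ E₀.X) (Sigma.desc E₀.f) ⟨hE₀.isAffine, inferInstanceAs (Finite PUnit),
        fun _ => inferInstanceAs (IsAffine (∐ E₀.X)), fun V _ _ g => ?_⟩)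
    obtain ⟨R, hR, hR', φ, hφ, j, g', hg'⟩ := hE₀.lift V g
    refine ⟨R, hR, hR', φ, hφ, PUnit.unit, g' ≫ Sigma.ι E₀.X j, ?_⟩
    show (g' ≫ Sigma.ι E₀.X j) ≫ Sigma.desc E₀.f = _
    rw [Category.assoc, Sigma.ι_desc, hg']

end Groth.Agent.S7475
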