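import Groth.Statements.S7476
import Groth.Agent.HTopLib.Cover
-- import your own Groth.Agent.* helpers here

set_option autoImplicit false
universe w u
open HTop

namespace Groth.Agent.S7476

open CategoryTheory CategoryTheory.Limits AlgebraicGeometry in
/-- Let f : X -> Y be a quasi-compact morphism of schemes. Then the one-member family of f is a V
covering if and only if every morphism from the spectrum of a valuation ring to Y lifts to X after
an extension of valuation rings; and the latter holds if and only if for every morphism Z -> Y and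
every specialization z' ⤳ z of points of Z there is a specialization w' ⤳ w of points of Z x_Y X
mapping to z' ⤳ z. -/
theorem result {X Y : Scheme.{u}} (f : X ⟶ Y) [QuasiCompact f] : (HTop.IsVCover (PreZeroHypercover.singleton f) ↔ HTop.HasValLift (PreZeroHypercover.singleton f)) ∧ (HTop.HasValLift (PreZeroHypercover.singleton f) ↔ ∀ (Z : Scheme.{u}) (g : Z ⟶ Y) (z' z : Z), z' ⤳ z → ∃ w' w : ↑(pullback g f), w' ⤳ w ∧ pullback.fst g f w' = z' ∧ pullback.fst g f w = z) := by
  refine ⟨⟨fun h => (Groth.Agent.HTopLib.hasValLift_singleton_iff f).2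
      ((Groth.Agent.HTopLib.hasValLift_singleton_iff f).1 (Groth.Agent.HTopLib.hasValLift_of_isVCover h)), fun h =>
    Groth.Agent.HTopLib.isVCover_singleton_of_univSSubtrusive f
      ((Groth.Agent.HTopLib.hasValLift_singleton_iff f).1 h)⟩, ?_⟩
  refine (Groth.Agent.HTopLib.hasValLift_singleton_iff f).trans ⟨fun h Z g z' z hz => ?_, fun h => ?_⟩
  · obtain ⟨w, w', hw, h1, h2⟩ := h _ _ _ (IsPullback.of_hasPullback g f) hz
    exact ⟨w', w, hw, h2, h1⟩
  · intro X' Y' i₁ i₂ f' sq y y' hy
    obtain ⟨w', w, hw, h1, h2⟩ := h Y' i₂ y' y hy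
    refine ⟨sq.isoPullback.inv w, sq.isoPullback.inv w', hw.map sq.isoPullback.inv.continuous, ?_, ?_⟩
    · rw [← Scheme.Hom.comp_apply, sq.isoPullback_inv_fst, h2]
    · rw [← Scheme.Hom.comp_apply, sq.isoPullback_inv_fst, h1]

end Groth.Agent.S7476
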