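import Groth.Statements.S7479
import Groth.Agent.HTopPh.Bind
-- import your own Groth.Agent.* helpers here

set_option autoImplicit false
universe w u
open HTop

namespace Groth.Agent.S7479

open CategoryTheory CategoryTheory.Limits AlgebraicGeometry in
/-- Let T be an affine scheme. (1) For every open covering of T there is a standard ph covering of T
that refines it. (2) If E is a standard ph covering of T and, for each member U_j of E, F_j is a
standard ph covering of U_j, then some standard ph covering of T refines the composite family of all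
W_ji -> T. -/
theorem result {T : Scheme.{u}} [IsAffine T] : (∀ 𝒰 : T.OpenCover, ∃ F : PreZeroHypercover.{0} T, HTop.IsStandardPh F ∧ Nonempty (F.Hom 𝒰.toPreZeroHypercover)) ∧ (∀ (E : PreZeroHypercover.{w} T), HTop.IsStandardPh E → ∀ F : ∀ j, PreZeroHypercover.{w} (E.X j), (∀ j, HTop.IsStandardPh (F j)) → ∃ F' : PreZeroHypercover.{0} T, HTop.IsStandardPh F' ∧ Nonempty (F'.Hom (E.bind F))) := by
  refine ⟨fun 𝒰 => ?_, fun E hE F hF => ?_⟩
  · obtain ⟨n, W, hW, hWU, hC⟩ := HTopPh.exists_isStandardPh_zariski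
      (fun W : T.Opens => ∃ i, W ≤ (𝒰.f i).opensRange) fun z => by
        obtain ⟨i, hi⟩ : ∃ i, z ∈ Set.range (𝒰.f i) := ⟨𝒰.idx z, 𝒰.covers z⟩
        obtain ⟨W, hW, hzW, hle⟩ := exists_isAffineOpen_mem_and_subset (U := (𝒰.f i).opensRange) hi
        exact ⟨W, hW, hzW, i, hle⟩
    choose i hi using hWU
    exact ⟨_, hC, ⟨⟨i, fun k => IsOpenImmersion.lift (𝒰.f (i k)) (W k).ι
      (by rw [Scheme.Opens.range_ι]; exact hi k), fun k => IsOpenImmersion.lift_fac _ _ _⟩⟩⟩
  · obtain ⟨G, hG, hGl⟩ := HTopPh.exists_isStandardPh_bind hE hF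
    choose j i l hl using hGl
    exact ⟨G, hG, ⟨⟨fun k => ⟨j k, i k⟩, l, hl⟩⟩⟩

end Groth.Agent.S7479
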