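import Groth.Statements.S7483
import Groth.Agent.HTopUltra.FinFlatEff

set_option autoImplicit false
open CategoryTheory CategoryTheory.Limits AlgebraicGeometry
universe u
open Desc

namespace Groth.Agent.S7483

/-- Suppose p : X -> Y is surjective and finite locally free (that is, finite, flat, and locally of
finite presentation), and consider a scheme V over X with the property that any finite collection of
points of V mapping to a common point of Y lies inside some affine open subset of V. Under these
assumptions, each descent datum on V relative to p is effective, meaning it is isomorphic to the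
canonical descent datum attached to some scheme over Y. (Descent data are formulated in
functor-of-points form.) -/
theorem result {X Y : Scheme.{u}} (p : X ⟶ Y) [Surjective p] [IsFinite p] [Flat p] [LocallyOfFinitePresentation p] (D : Desc.SchDD p) (hV : ∀ (y : Y) (s : Finset ↑(D.obj.left)), (∀ v ∈ s, p (D.obj.hom v) = y) → ∃ U : D.obj.left.Opens, IsAffineOpen U ∧ ∀ v ∈ s, v ∈ U) : ∃ W : Over Y, Nonempty ((Desc.toDD p).obj W ≅ D) := by
  refine Groth.Agent.HTopUltra.effective_of_orbits_in_affines D fun u => ?_
  obtain ⟨V, hV, h⟩ := hV (p (D.obj.hom u)) (Groth.Agent.HTopUltra.finite_orb (D := D) u).toFinset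
    fun v hv => (Groth.Agent.HTopUltra.orb_base
      (show Groth.Agent.HTopUltra.Orb D u v from
        (Groth.Agent.HTopUltra.finite_orb (D := D) u).mem_toFinset.1 hv)).symm
  exact ⟨V, hV, fun v hv => h v ((Groth.Agent.HTopUltra.finite_orb (D := D) u).mem_toFinset.2 hv)⟩

end Groth.Agent.S7483
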