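import Groth.Statements.S7484
import Groth.Agent.HTopUltra.FinFlatEff

set_option autoImplicit false
open CategoryTheory CategoryTheory.Limits AlgebraicGeometry
universe u
open Desc

namespace Groth.Agent.S7484

/-- Let p : X -> Y be a surjective finite locally free morphism and d a positive integer such that for
every algebraically closed field k and every k-point of Y there are at most d k-points of X over it.
Let V be a scheme over X such that any d points of V (not necessarily distinct) lying over one point
of Y are contained in an affine open of V. Then every descent datum on V relative to p is effective.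
(Descent data are taken in functor-of-points form.) -/
theorem result {X Y : Scheme.{u}} (p : X ⟶ Y) [Surjective p] [IsFinite p] [Flat p] [LocallyOfFinitePresentation p] (d : ℕ) (hd : 0 < d) (hfib : ∀ (k : Type u) [Field k] [IsAlgClosed k] (y : Spec (CommRingCat.of k) ⟶ Y), Set.encard {x : Spec (CommRingCat.of k) ⟶ X | x ≫ p = y} ≤ d) (D : Desc.SchDD p) (hV : ∀ (y : Y) (v : Fin d → ↑(D.obj.left)), (∀ i, p (D.obj.hom (v i)) = y) → ∃ U : D.obj.left.Opens, IsAffineOpen U ∧ ∀ i, v i ∈ U) : ∃ W : Over Y, Nonempty ((Desc.toDD p).obj W ≅ D) := by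
  classical
  refine Groth.Agent.HTopUltra.effective_of_orbits_in_affines D fun u => ?_
  let F := Groth.Agent.HTopUltra.finite_orb (D := D) u
  obtain ⟨e⟩ : Nonempty (↥F.toFinset ↪ Fin d) := by
    refine Function.Embedding.nonempty_of_card_le ?_
    rw [Fintype.card_fin, Fintype.card_coe]
    have h := Groth.Agent.HTopUltra.encard_orb_le (D := D) hfib u
    rw [F.encard_eq_coe_toFinset_card] at h
    exact_mod_cast h
  let v : Fin d → ↑(D.obj.left) := fun i => if h : ∃ w, e w = i then h.choose.1 else u
  have hv : ∀ i, Groth.Agent.HTopUltra.Orb D u (v i) := fun i => by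
    by_cases h : ∃ w, e w = i
    · simp only [v, dif_pos h]
      exact F.mem_toFinset.1 h.choose.2
    · simp only [v, dif_neg h]
      exact Groth.Agent.HTopUltra.orb_refl u
  obtain ⟨V, hV, h⟩ := hV (p (D.obj.hom u)) v fun i => (Groth.Agent.HTopUltra.orb_base (hv i)).symm
  refine ⟨V, hV, fun w hw => ?_⟩
  have hw' : ∃ w', e w' = e ⟨w, F.mem_toFinset.2 hw⟩ := ⟨_, rfl⟩
  have e1 : v (e ⟨w, F.mem_toFinset.2 hw⟩) = w := by
    simp only [v, dif_pos hw']
    exact congrArg Subtype.val (e.injective hw'.choose_spec)
  exact e1 ▸ h _

end Groth.Agent.S7484
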