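import Groth.Statements.S7485
import Groth.Agent.HTopUltra.FinFlatEff
import Groth.Agent.GalCohAux.AmpleFinite

set_option autoImplicit false
open CategoryTheory CategoryTheory.Limits AlgebraicGeometry
universe u
open Desc

namespace Groth.Agent.S7485

/-- Let p : X -> Y be a surjective finite locally free morphism and V a scheme over X which has an ample
invertible module. Then every descent datum on V relative to p is effective. (Descent data are taken
in functor-of-points form.) -/
theorem result {X Y : Scheme.{u}} (p : X ⟶ Y) [Surjective p] [IsFinite p] [Flat p] [LocallyOfFinitePresentation p] (D : Desc.SchDD p) (L : D.obj.left.Modules) (hL : CohB1.IsAmple L) : ∃ W : Over Y, Nonempty ((Desc.toDD p).obj W ≅ D) := by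
  refine Groth.Agent.HTopUltra.effective_of_orbits_in_affines D fun u => ?_
  obtain ⟨V, hV, h⟩ := Groth.Agent.GalCohAux.AmpleFinite.exists_affine_of_finite hL
    (Groth.Agent.HTopUltra.finite_orb (D := D) u)
  exact ⟨V, hV, fun v hv => h hv⟩

end Groth.Agent.S7485
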