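import Groth.Statements.S7486
import Groth.Agent.GrpdLib.BasisInv

set_option autoImplicit false
universe u
open CategoryTheory CategoryTheory.Limits AlgebraicGeometry
open Grpd

namespace Groth.Agent.S7486

/-- Let (U, R, s, t, c) be a groupoid scheme over S with U = Spec A and R = Spec B affine (A, B the
rings of global functions), and let x_i, i in I, be elements of A such that B is free as an A-module
through s^# with basis the elements t^#(x_i). Let C be the subring of R-invariant functions (those a
with s^#(a) = t^#(a)). Then the x_i form a basis of A as a C-module, and the C-linear map A (x)_C A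
-> B sending a (x) a' to t^#(a) s^#(a') is bijective (B carries the C-module structure through s^#).
(A groupoid scheme carries U, R, s, t, c, e, i over S with the groupoid axioms on T-points; c is
defined on the fibre product of s and t and sends a pair (a, b) with s(a) = t(b) to a composed with
b.) -/
theorem result (S : Scheme.{u}) (G : Grpd.GroupoidScheme S) [IsAffine G.U] [IsAffine G.R] (I : Type u) (x : I → Γ(G.U, ⊤)) (hB : letI := G.s.appTop.hom.toAlgebra; ∃ b : Module.Basis I Γ(G.U, ⊤) Γ(G.R, ⊤), ∀ i, b i = G.t.appTop.hom (x i)) : (∃ b : Module.Basis I G.invariants Γ(G.U, ⊤), ∀ i, b i = x i) ∧ (letI := (G.s.appTop.hom.comp G.invariants.subtype).toAlgebra; ∀ φ : TensorProduct G.invariants Γ(G.U, ⊤) Γ(G.U, ⊤) →ₗ[G.invariants] Γ(G.R, ⊤), (∀ a a' : Γ(G.U, ⊤), φ (a ⊗ₜ[G.invariants] a') = G.t.appTop.hom a * G.s.appTop.hom a') → Function.Bijective φ) := by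
  obtain ⟨b, hb⟩ := hB
  let := G.s.appTop.hom.toAlgebra
  have hspan : ∀ a, ∃ c : I →₀ G.invariants, a = c.sum (fun i c => (c : Γ(G.U, ⊤)) * x i) :=
    GrpdLib.exists_repr_invariants G b hb
  have hli : LinearIndependent G.invariants x := by
    intro f g e
    refine Finsupp.mapRange_injective (fun c : G.invariants => (c : Γ(G.U, ⊤))) rfl
      Subtype.val_injective (GrpdLib.eq_of_sum_eq G b hb ?_)
    have := congrArg G.t.appTop.hom e
    simp only [Finsupp.linearCombination_apply, map_finsuppSum] at this
    rw [Finsupp.sum_mapRange_index (by simp), Finsupp.sum_mapRange_index (by simp)]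
    have k : ∀ (f : I →₀ G.invariants), f.sum (fun i c => G.t.appTop.hom (c • x i)) =
        f.sum (fun i c => G.s.appTop.hom c.1 * G.t.appTop.hom (x i)) := fun f =>
      Finsupp.sum_congr fun i _ => by
        rw [show (f i) • x i = (f i).1 * x i from rfl, map_mul, show G.s.appTop.hom (f i).1 =
          G.t.appTop.hom (f i).1 from (f i).2]
    exact ((k f).symm.trans this).trans (k g)
  let bC := Module.Basis.mk hli (fun a _ => by
    obtain ⟨c, hc⟩ := hspan a
    rw [hc]
    exact Submodule.sum_mem _ fun i _ => Submodule.smul_mem _ (c i) (Submodule.subset_span ⟨i, rfl⟩))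
  refine ⟨⟨bC, fun i => Module.Basis.mk_apply _ _ i⟩, ?_⟩
  intro φ hφ
  have hsum : ∀ f : I →₀ Γ(G.U, ⊤),
      φ (f.sum fun i a => bC i ⊗ₜ[G.invariants] a) =
        f.sum (fun i a => G.s.appTop.hom a * G.t.appTop.hom (x i)) := by
    intro f
    rw [map_finsuppSum]
    exact Finsupp.sum_congr fun i _ => by rw [hφ, Module.Basis.mk_apply, mul_comm]
  constructor
  · intro y z e
    obtain ⟨f, rfl⟩ := TensorProduct.eq_repr_basis_left bC y
    obtain ⟨g, rfl⟩ := TensorProduct.eq_repr_basis_left bC z
    rw [hsum, hsum] at e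
    rw [GrpdLib.eq_of_sum_eq G b hb e]
  · intro r
    refine ⟨(b.repr r).sum fun i a => bC i ⊗ₜ[G.invariants] a, ?_⟩
    rw [hsum]
    conv_rhs => rw [← b.linearCombination_repr r]
    simp [Finsupp.linearCombination_apply, Algebra.smul_def, RingHom.algebraMap_toAlgebra, hb]

end Groth.Agent.S7486
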