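import Groth.Statements.S7487
import Groth.Agent.GrpdLib.AffineGrpd

set_option autoImplicit false
universe u
open CategoryTheory CategoryTheory.Limits AlgebraicGeometry
open Grpd

namespace Groth.Agent.S7487

/-- Let (U, R, s, t, c) be a groupoid scheme over S with U = Spec A and R = Spec B affine and s, t
finite locally free; let C be the subring of R-invariant functions of A and C -> C' a ring map. Put
A' = A (x)_C C' and B' = B (x)_C C' (B a C-algebra through s^#) and let C^1 be the subring of A'
where the two maps s^# (x) 1, t^# (x) 1 : A' -> B' agree; the structure map C' -> A' lands in C^1,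
giving φ : C' -> C^1. Then: (a) for every f in C^1 there are n > 0 and a polynomial P over C' whose
image in A'[x] is (x - f)^n; (b) every element of the kernel of φ is nilpotent; (c) if C -> C' is
flat then φ is bijective, that is C' -> A' is injective with image C^1. (The published statement
also asserts that the base change is again a groupoid scheme; this row omits that clause.) (A
groupoid scheme carries U, R, s, t, c, e, i over S with the groupoid axioms on T-points; c is
defined on the fibre product of s and t and sends a pair (a, b) with s(a) = t(b) to a composed with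
b.) -/
theorem result (S : Scheme.{u}) (G : Grpd.GroupoidScheme S) [IsAffine G.U] [IsAffine G.R] [IsFinite G.s] [Flat G.s] [LocallyOfFinitePresentation G.s] [IsFinite G.t] [Flat G.t] [LocallyOfFinitePresentation G.t] (C' : Type u) [CommRing C'] [Algebra G.invariants C'] : letI : Algebra G.invariants Γ(G.R, ⊤) := (G.s.appTop.hom.comp G.invariants.subtype).toAlgebra; ∀ (sT tT : TensorProduct G.invariants Γ(G.U, ⊤) C' →ₐ[G.invariants] TensorProduct G.invariants Γ(G.R, ⊤) C'), (∀ (a : Γ(G.U, ⊤)) (c : C'), sT (a ⊗ₜ c) = G.s.appTop.hom a ⊗ₜ c) → (∀ (a : Γ(G.U, ⊤)) (c : C'), tT (a ⊗ₜ c) = G.t.appTop.hom a ⊗ₜ c) → (∀ f : TensorProduct G.invariants Γ(G.U, ⊤) C', sT f = tT f → ∃ (n : ℕ) (P : Polynomial C'), 0 < n ∧ Polynomial.map (Algebra.TensorProduct.includeRight : C' →ₐ[G.invariants] TensorProduct G.invariants Γ(G.U, ⊤) C').toRingHom P = (Polynomial.X - Polynomial.C f) ^ n) ∧ (∀ c : C', (Algebra.TensorProduct.includeRight : C' →ₐ[G.invariants] TensorProduct G.invariants Γ(G.U, ⊤) C') c = 0 → IsNilpotent c) ∧ (Module.Flat G.invariants C' → Function.Injective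 (Algebra.TensorProduct.includeRight : C' →ₐ[G.invariants] TensorProduct G.invariants Γ(G.U, ⊤) C') ∧ ∀ f : TensorProduct G.invariants Γ(G.U, ⊤) C', sT f = tT f → f ∈ Set.range (Algebra.TensorProduct.includeRight : C' →ₐ[G.invariants] TensorProduct G.invariants Γ(G.U, ⊤) C')) := by
  let : Algebra G.invariants Γ(G.R, ⊤) := (G.s.appTop.hom.comp G.invariants.subtype).toAlgebra
  intro sT tT hsT htT
  let D := GrpdLib.ringGrpd G
  let : Algebra D.invariants D.B := D.algB
  let : Algebra D.invariants C' := ‹Algebra G.invariants C'›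
  have hmem : ∀ f, sT f = tT f → f ∈ (D.bc C').invariants := by
    intro f hf
    let σA : Γ(G.U, ⊤) →ₐ[G.invariants] Γ(G.R, ⊤) := ⟨G.s.appTop.hom, fun _ => rfl⟩
    let τA : Γ(G.U, ⊤) →ₐ[G.invariants] Γ(G.R, ⊤) := ⟨G.t.appTop.hom, fun c => c.2.symm⟩
    have h1 : sT = Algebra.TensorProduct.map σA (AlgHom.id _ C') :=
      Algebra.TensorProduct.ext' fun a c => hsT a c
    have h2 : tT = Algebra.TensorProduct.map τA (AlgHom.id _ C') :=
      Algebra.TensorProduct.ext' fun a c => htT a c
    rw [h1, h2] at hf
    exact hf
  exact ⟨fun f hf => D.exists_pow_eq_map_of_mem C' f (hmem f hf),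
    fun c hc => D.isNilpotent_of_bcMap_eq_zero C' c hc,
    fun h => have : Module.Flat D.invariants C' := h; ⟨(D.injective_and_range_of_flat C').1,
      fun f hf => (D.injective_and_range_of_flat C').2 f (hmem f hf)⟩⟩

end Groth.Agent.S7487
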