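import Groth.Statements.S7493
import Groth.Agent.GrpdLib.Basic
import Mathlib

set_option autoImplicit false
universe u
open CategoryTheory CategoryTheory.Limits AlgebraicGeometry
open Grpd

namespace Groth.Agent.S7493

open Cardinal in
lemma exists_ringEquiv_over {k : Type u} [Field k] {K L : Type u} [Field K] [Field L] [IsAlgClosed K]
    [IsAlgClosed L] [Algebra k K] [Algebra k L] (hK : max #k ℵ₀ < #K) (hKL : #K = #L) :
    ∃ σ : K ≃+* L, ∀ x, σ (algebraMap k K x) = algebraMap k L x := by
  obtain ⟨s, hs⟩ := exists_isTranscendenceBasis k K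
  obtain ⟨t, ht⟩ := exists_isTranscendenceBasis k L
  have key : ∀ (K : Type u) [Field K] [IsAlgClosed K] [Algebra k K] (s : Set K),
      IsTranscendenceBasis k ((↑) : s → K) → max #k ℵ₀ < #K → #K = #s := by
    intro K _ _ _ s hs hK
    refine le_antisymm ?_ (mk_set_le s)
    have h := IsAlgClosed.cardinal_le_max_transcendence_basis' (R := k) _ hs
    by_contra hlt
    exact absurd h (not_le.2 (max_lt (max_lt ((le_max_left _ _).trans_lt hK) (not_le.1 hlt))
      ((le_max_right _ _).trans_lt hK)))
  obtain ⟨e⟩ := Cardinal.eq.1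
    ((key K s hs hK).symm.trans (hKL.trans (key L t ht (hKL ▸ hK))))
  let a : Algebra.adjoin k (Set.range ((↑) : s → K)) ≃ₐ[k] Algebra.adjoin k (Set.range ((↑) : t → L)) :=
    hs.1.aevalEquiv.symm.trans ((MvPolynomial.renameEquiv k e).trans ht.1.aevalEquiv)
  letI := IsAlgClosed.isAlgClosure_of_transcendence_basis _ hs
  letI := IsAlgClosed.isAlgClosure_of_transcendence_basis _ ht
  refine ⟨IsAlgClosure.equivOfEquiv K L a.toRingEquiv, fun x => ?_⟩
  rw [IsScalarTower.algebraMap_apply k (Algebra.adjoin k (Set.range ((↑) : s → K))) K,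
    IsAlgClosure.equivOfEquiv_algebraMap,
    IsScalarTower.algebraMap_apply k (Algebra.adjoin k (Set.range ((↑) : t → L))) L]
  exact congrArg _ (a.commutes x)

open Cardinal in
lemma exists_ringEquiv {k K : Type u} [Field k] [Field K] [IsAlgClosed K]
    (hK : max #k ℵ₀ < #K) (i j : k →+* K) : ∃ σ : K ≃+* K, ∀ x, σ (i x) = j x :=
  @exists_ringEquiv_over k _ K K _ _ _ _ i.toAlgebra j.toAlgebra hK rfl

open Cardinal in
lemma exists_big_algClosed (k κ : Type u) [Field κ] :
    ∃ (K : Type u) (_ : Field K) (_ : IsAlgClosed K) (_ : κ →+* K), max #k ℵ₀ < #K := by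
  let I := Set (k ⊕ ULift.{u} ℕ)
  let K := AlgebraicClosure (FractionRing (MvPolynomial I κ))
  let m : MvPolynomial I κ →+* K := (algebraMap (FractionRing (MvPolynomial I κ)) K).comp
    (algebraMap (MvPolynomial I κ) (FractionRing (MvPolynomial I κ)))
  refine ⟨K, inferInstance, inferInstance, m.comp MvPolynomial.C, ?_⟩
  have hm : Function.Injective fun a : I => m (MvPolynomial.X a) :=
    (((algebraMap (FractionRing (MvPolynomial I κ)) K).injective).comp
      (IsFractionRing.injective (MvPolynomial I κ) (FractionRing (MvPolynomial I κ)))).comp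
      MvPolynomial.X_injective
  refine lt_of_lt_of_le ?_ (Cardinal.mk_le_of_injective hm)
  have h1 : max #k ℵ₀ ≤ #(k ⊕ ULift.{u} ℕ) :=
    max_le (Cardinal.mk_le_of_injective Sum.inl_injective) (Cardinal.aleph0_le_mk _)
  exact h1.trans_lt (by rw [Cardinal.mk_set]; exact Cardinal.cantor _)

lemma isIso_residueFieldMap {X Y : Scheme.{u}} (pr : X ⟶ Y) (P : Y ⟶ X) (z : Y)
    [IsIso (P ≫ pr)] : IsIso (pr.residueFieldMap (P z)) := by
  have h : IsIso (pr.residueFieldMap (P z) ≫ P.residueFieldMap z) :=
    (congrArg (fun φ => IsIso φ) (Scheme.residueFieldMap_comp P pr z)).mp inferInstance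
  let g := pr.residueFieldMap (P z) ≫ P.residueFieldMap z
  have hs : (inv g ≫ pr.residueFieldMap (P z)) ≫ P.residueFieldMap z = 𝟙 _ := by
    rw [Category.assoc]; exact IsIso.inv_hom_id g
  have hinj : Function.Injective (P.residueFieldMap z).hom := (P.residueFieldMap z).hom.injective
  have : IsIso (P.residueFieldMap z) := by
    refine ⟨inv g ≫ pr.residueFieldMap (P z), ?_, hs⟩
    ext a
    apply hinj
    exact ConcreteCategory.congr_hom hs ((P.residueFieldMap z).hom a)
  exact IsIso.of_isIso_comp_right (pr.residueFieldMap (P z)) (P.residueFieldMap z)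

/-- Let (U, R, s, t, c) be a groupoid scheme over S with U = Spec k for a field k, and let r be a point
of R. Then there exist a field extension k -> k' with k' algebraically closed and a point r' of the
restriction R' of R along g : U' = Spec k' -> U, that is R' = (U' x_(g,U,t) R) x_(s pr, U, g) U'
with t' the projection to the first factor U' and s' the projection to the last factor U', such that
r' maps to r under R' -> R and both s' and t' induce isomorphisms on residue fields at r' (k' ->
κ(r') bijective). (A groupoid scheme carries U, R, s, t, c, e, i over S with the groupoid axioms on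
T-points; c is defined on the fibre product of s and t and sends a pair (a, b) with s(a) = t(b) to a
composed with b.) -/
theorem result (S : Scheme.{u}) (G : Grpd.GroupoidScheme S) (k : Type u) [Field k] (eU : G.U ≅ Spec (CommRingCat.of k)) (r : G.R) : ∃ (k' : Type u) (_ : Field k') (_ : IsAlgClosed k') (_ : Algebra k k'), ∃ r' : ↑(pullback (pullback.snd (Spec.map (CommRingCat.ofHom (algebraMap k k')) ≫ eU.inv) G.t ≫ G.s) (Spec.map (CommRingCat.ofHom (algebraMap k k')) ≫ eU.inv)), (pullback.fst (pullback.snd (Spec.map (CommRingCat.ofHom (algebraMap k k')) ≫ eU.inv) G.t ≫ G.s) (Spec.map (CommRingCat.ofHom (algebraMap k k')) ≫ eU.inv) ≫ pullback.snd (Spec.map (CommRingCat.ofHom (algebraMap k k')) ≫ eU.inv) G.t) r' = r ∧ IsIso ((pullback.snd (pullback.snd (Spec.map (CommRingCat.ofHom (algebraMap k k')) ≫ eU.inv) G.t ≫ G.s) (Spec.map (CommRingCat.ofHom (algebraMap k k')) ≫ eU.inv)).residueFieldMap r') ∧ IsIso ((pullback.fst (pullback.snd (Spec.map (CommRingCat.ofHom (algebraMap k k')) ≫ eU.inv) G.t ≫ G.s)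 (Spec.map (CommRingCat.ofHom (algebraMap k k')) ≫ eU.inv) ≫ pullback.fst (Spec.map (CommRingCat.ofHom (algebraMap k k')) ≫ eU.inv) G.t).residueFieldMap r') := by
  let κ := G.R.residueField r
  obtain ⟨K, hKf, hKa, m, hK⟩ := exists_big_algClosed k κ
  let a : Spec (CommRingCat.of K) ⟶ G.R :=
    Spec.map (CommRingCat.ofHom m) ≫ G.R.fromSpecResidueField r
  have ha : ∀ z, a z = r := fun z =>
    (Scheme.Hom.comp_apply _ _ _).trans (Scheme.fromSpecResidueField_apply r _)
  let ti := (Spec.preimage (a ≫ G.t ≫ eU.hom)).hom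
  let si := (Spec.preimage (a ≫ G.s ≫ eU.hom)).hom
  letI : Algebra k K := ti.toAlgebra
  obtain ⟨σ, hσ⟩ := exists_ringEquiv hK ti si
  refine ⟨K, hKf, hKa, ti.toAlgebra, ?_⟩
  let g : Spec (CommRingCat.of K) ⟶ G.U :=
    Spec.map (CommRingCat.ofHom (algebraMap k K)) ≫ eU.inv
  have hgt : g = a ≫ G.t := by
    change Spec.map (Spec.preimage (a ≫ G.t ≫ eU.hom)) ≫ eU.inv = _
    simp
  let w : Spec (CommRingCat.of K) ⟶ Spec (CommRingCat.of K) :=
    Spec.map (CommRingCat.ofHom σ.toRingHom)
  have : IsIso (CommRingCat.ofHom σ.toRingHom) := σ.toCommRingCatIso.isIso_hom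
  have : IsIso w := inferInstance
  have hgs : a ≫ G.s = w ≫ g := by
    have e : CommRingCat.ofHom (algebraMap k K) ≫ CommRingCat.ofHom σ.toRingHom =
        Spec.preimage (a ≫ G.s ≫ eU.hom) := by
      ext x; exact hσ x
    rw [← cancel_mono eU.hom, Category.assoc, ← Spec.map_preimage (a ≫ G.s ≫ eU.hom), ← e]
    simp [g, w]
  let P : Spec (CommRingCat.of K) ⟶ pullback (pullback.snd g G.t ≫ G.s) g :=
    pullback.lift (pullback.lift (f := g) (g := G.t) (𝟙 _) a (by rw [Category.id_comp]; exact hgt)) w
      (by rw [pullback.lift_snd_assoc]; exact hgs)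
  obtain ⟨z⟩ : Nonempty (Spec (CommRingCat.of K)) := inferInstance
  refine ⟨P z, ?_, ?_, ?_⟩
  · refine (Scheme.Hom.comp_apply _ _ _).symm.trans ?_
    have h : P ≫ pullback.fst (pullback.snd g G.t ≫ G.s) g ≫ pullback.snd g G.t = a := by
      simp only [P, pullback.lift_fst_assoc, pullback.lift_snd]
    exact (congrArg (fun φ : Spec (CommRingCat.of K) ⟶ G.R => φ z) h).trans (ha z)
  · have h : P ≫ pullback.snd (pullback.snd g G.t ≫ G.s) g = w := pullback.lift_snd _ _ _
    have : IsIso (P ≫ pullback.snd (pullback.snd g G.t ≫ G.s) g) := h ▸ inferInstance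
    exact isIso_residueFieldMap _ P z
  · have h : P ≫ pullback.fst (pullback.snd g G.t ≫ G.s) g ≫ pullback.fst g G.t = 𝟙 _ := by
      simp only [P, pullback.lift_fst_assoc, pullback.lift_fst]
    have : IsIso (P ≫ pullback.fst (pullback.snd g G.t ≫ G.s) g ≫ pullback.fst g G.t) :=
      h ▸ inferInstance
    exact isIso_residueFieldMap _ P z

end Groth.Agent.S7493
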