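import Groth.Statements.S7498
import Groth.Agent.GrpdLib.Basic

set_option autoImplicit false
universe u
open CategoryTheory CategoryTheory.Limits AlgebraicGeometry
open Grpd

namespace Groth.Agent.S7498

/-- From fibres over `α ≫ s` to fibres over `β ≫ s`. -/
noncomputable def shift {S : Scheme.{u}} (G : GroupoidScheme S) {Z : Scheme.{u}} (α β : Z ⟶ G.R)
    (h : α ≫ G.t = β ≫ G.t) : pullback G.s (α ≫ G.s) ⟶ pullback G.s (β ≫ G.s) :=
  pullback.lift
    (GrpdLib.comp G
      (GrpdLib.comp G (pullback.fst _ _) ((pullback.snd G.s (α ≫ G.s) ≫ α) ≫ G.i)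
        (by rw [pullback.condition, Category.assoc _ G.i, G.i_t, Category.assoc]))
      (pullback.snd G.s (α ≫ G.s) ≫ β)
      (by rw [GrpdLib.comp_s, Category.assoc _ G.i, G.i_s, Category.assoc, Category.assoc, h]))
    (pullback.snd _ _) (by rw [GrpdLib.comp_s, Category.assoc])

lemma comp_shift {S : Scheme.{u}} (G : GroupoidScheme S) {Z W : Scheme.{u}} (α β : Z ⟶ G.R)
    (h : α ≫ G.t = β ≫ G.t) (f : W ⟶ pullback G.s (α ≫ G.s)) (x u' v : W ⟶ G.R)
    (hx : f ≫ pullback.fst _ _ = x) (hu : f ≫ pullback.snd _ _ ≫ α ≫ G.i = u')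
    (hv : f ≫ pullback.snd _ _ ≫ β = v) (h₁ : x ≫ G.s = u' ≫ G.t)
    (h₂ : GrpdLib.comp G x u' h₁ ≫ G.s = v ≫ G.t) :
    f ≫ shift G α β h ≫ pullback.fst _ _ = GrpdLib.comp G (GrpdLib.comp G x u' h₁) v h₂ := by
  rw [shift, pullback.lift_fst, GrpdLib.naturality]
  refine GrpdLib.comp_congr G _ h₂ ?_ hv
  rw [GrpdLib.naturality]
  exact GrpdLib.comp_congr G _ h₁ hx (by rw [← hu]; simp only [Category.assoc])

lemma shift_shift {S : Scheme.{u}} (G : GroupoidScheme S) {Z : Scheme.{u}} (α β : Z ⟶ G.R)
    (h : α ≫ G.t = β ≫ G.t) : shift G α β h ≫ shift G β α h.symm = 𝟙 _ := by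
  apply pullback.hom_ext
  · have h₁ : pullback.fst G.s (α ≫ G.s) ≫ G.s =
        ((pullback.snd G.s (α ≫ G.s) ≫ α) ≫ G.i) ≫ G.t := by
      rw [pullback.condition, Category.assoc _ G.i, G.i_t, Category.assoc]
    have h₂ : GrpdLib.comp G _ _ h₁ ≫ G.s = (pullback.snd G.s (α ≫ G.s) ≫ β) ≫ G.t := by
      rw [GrpdLib.comp_s, Category.assoc _ G.i, G.i_s, Category.assoc, Category.assoc, h]
    have hsnd : shift G α β h ≫ pullback.snd _ _ = pullback.snd _ _ := pullback.lift_snd _ _ _
    rw [Category.assoc, Category.id_comp,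
      comp_shift G β α h.symm (shift G α β h) _ ((pullback.snd G.s (α ≫ G.s) ≫ β) ≫ G.i)
        (pullback.snd G.s (α ≫ G.s) ≫ α) (pullback.lift_fst _ _ _)
        (by rw [reassoc_of% hsnd, Category.assoc]) ((reassoc_of% hsnd) α)
        (by rw [GrpdLib.comp_s, Category.assoc _ G.i, G.i_t])
        (by rw [GrpdLib.comp_s, Category.assoc _ G.i, G.i_s, Category.assoc, Category.assoc, h])]
    refine (GrpdLib.comp_congr G _ ?_ (GrpdLib.comp_cancel_right G _ _ h₂) rfl).trans
      (GrpdLib.comp_inv_cancel_right G _ _ (by rw [pullback.condition, Category.assoc]))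
    rw [GrpdLib.comp_s, Category.assoc _ G.i, G.i_s]
  · rw [Category.assoc, shift, shift, pullback.lift_snd, pullback.lift_snd, Category.id_comp]

/-- Let (U, R, s, t, c) be a groupoid scheme over S and r, r' points of R with t(r) = t(r'); put u =
s(r), u' = s(r') and let F_u, F_u' be the scheme-theoretic fibres of s. Then there are a field k
which is a common extension of κ(u) and κ(u') (morphisms a, b : Spec k -> U with images u, u') and
an isomorphism of the base changes (F_u)_k and (F_u')_k over Spec k, which moreover can be chosen to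
send some point lying over r to a point lying over r'. (The published statement also compares the
germs of s at r and at r' when s and t are flat or flat of finite presentation; this row omits
that.) (A groupoid scheme carries U, R, s, t, c, e, i over S with the groupoid axioms on T-points; c
is defined on the fibre product of s and t and sends a pair (a, b) with s(a) = t(b) to a composed
with b.) -/
theorem result (S : Scheme.{u}) (G : Grpd.GroupoidScheme S) (r r' : G.R) (h : G.t r = G.t r') : ∃ (k : Type u) (_ : Field k) (a b : Spec (CommRingCat.of k) ⟶ G.U) (φ : pullback G.s a ≅ pullback G.s b) (p : ↑(pullback G.s a)), a (IsLocalRing.closedPoint k) = G.s r ∧ b (IsLocalRing.closedPoint k) = G.s r' ∧ φ.hom ≫ pullback.snd G.s b = pullback.snd G.s a ∧ pullback.fst G.s a p = r ∧ pullback.fst G.s b (φ.hom p) = r' := by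
  obtain ⟨q, hq₁, hq₂⟩ := Scheme.Pullback.exists_preimage_pullback (f := G.t) (g := G.t) r r' h
  let K := (pullback G.t G.t).residueField q
  let α : Spec K ⟶ G.R := (pullback G.t G.t).fromSpecResidueField q ≫ pullback.fst G.t G.t
  let β : Spec K ⟶ G.R := (pullback G.t G.t).fromSpecResidueField q ≫ pullback.snd G.t G.t
  have hαβ : α ≫ G.t = β ≫ G.t := by simp [α, β, pullback.condition]
  let c₀ : Spec K := IsLocalRing.closedPoint K
  have hα : α c₀ = r := (Scheme.Hom.comp_apply _ _ _).trans
    ((congrArg _ (Scheme.fromSpecResidueField_apply ..)).trans hq₁)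
  have hβ : β c₀ = r' := (Scheme.Hom.comp_apply _ _ _).trans
    ((congrArg _ (Scheme.fromSpecResidueField_apply ..)).trans hq₂)
  let σ : Spec K ⟶ pullback G.s (α ≫ G.s) := pullback.lift α (𝟙 _) (by simp)
  refine ⟨K, inferInstance, α ≫ G.s, β ≫ G.s,
    ⟨shift G α β hαβ, shift G β α hαβ.symm, shift_shift G α β hαβ, shift_shift G β α hαβ.symm⟩,
    σ c₀, (Scheme.Hom.comp_apply _ _ _).trans (congrArg _ hα),
    (Scheme.Hom.comp_apply _ _ _).trans (congrArg _ hβ), pullback.lift_snd _ _ _, ?_, ?_⟩
  · exact (Scheme.Hom.comp_apply _ _ _).symm.trans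
      ((congrArg (fun f : Spec K ⟶ G.R => f c₀) (pullback.lift_fst _ _ _)).trans hα)
  · have key : σ ≫ shift G α β hαβ ≫ pullback.fst _ _ = β := by
      rw [comp_shift G α β hαβ σ α (α ≫ G.i) β (pullback.lift_fst _ _ _)
        (by rw [pullback.lift_snd_assoc, Category.id_comp])
        (by rw [pullback.lift_snd_assoc, Category.id_comp])
        (by rw [Category.assoc _ G.i, G.i_t])
        (by rw [GrpdLib.comp_s, Category.assoc _ G.i, G.i_s, hαβ])]
      refine (GrpdLib.comp_congr G _ (β' := β) ?_ (GrpdLib.comp_i G α (by rw [Category.assoc _ G.i, G.i_t]))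
        rfl).trans (GrpdLib.e_comp G β (α ≫ G.t) ?_)
      · rw [Category.assoc, G.e_s, Category.comp_id, hαβ]
      · rw [Category.assoc, G.e_s, Category.comp_id, hαβ]
    rw [← Scheme.Hom.comp_apply, ← Scheme.Hom.comp_apply]
    exact (congrArg (fun f : Spec K ⟶ G.R => f c₀) ((Category.assoc _ _ _).trans key)).trans hβ

end Groth.Agent.S7498
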