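import Groth.Statements.S7499
import Groth.Agent.GrpdLib.Basic
import Groth.Agent.S0593
-- import your own Groth.Agent.* helpers here

set_option autoImplicit false
set_option backward.isDefEq.respectTransparency.types false
universe u
open CategoryTheory CategoryTheory.Limits AlgebraicGeometry
open Grpd

namespace Groth.Agent.S7499

/-- Let (U, R, s, t, c) be a groupoid scheme over S with s and t integral, and g : U' -> U an integral
morphism such that every R-orbit of U meets the image of g. Let R' = (U' x_(g,U,t) R) x_(s pr, U, g)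
U' be the restriction of R to U', with t' the projection to the first factor U' and s' the
projection to the last. If u' is a point of U' contained in an affine open W' of U' with t'^{-1}(W')
= s'^{-1}(W'), then g(u') is contained in an affine open W of U with s^{-1}(W) = t^{-1}(W). (A
groupoid scheme carries U, R, s, t, c, e, i over S with the groupoid axioms on T-points; c is
defined on the fibre product of s and t and sends a pair (a, b) with s(a) = t(b) to a composed with
b.) -/
theorem result (S : Scheme.{u}) (G : Grpd.GroupoidScheme S) [IsIntegralHom G.s] [IsIntegralHom G.t] (U' : Scheme.{u}) (g : U' ⟶ G.U) [IsIntegralHom g] (horb : ∀ u : G.U, ∃ r : G.R, G.s r = u ∧ G.t r ∈ Set.range ⇑g) (u' : U') (W' : U'.Opens) (hW' : IsAffineOpen W') (hu' : u' ∈ W') (hinv : (pullback.fst (pullback.snd g G.t ≫ G.s) g ≫ pullback.fst g G.t) ⁻¹ᵁ W' = (pullback.snd (pullback.snd g G.t ≫ G.s) g) ⁻¹ᵁ W') : ∃ W : G.U.Opens, IsAffineOpen W ∧ g u' ∈ W ∧ G.s ⁻¹ᵁ W = G.t ⁻¹ᵁ W := by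
  let π : pullback g G.t ⟶ G.U := pullback.snd g G.t ≫ G.s
  have : IsIntegralHom (pullback.snd g G.t) := MorphismProperty.pullback_snd _ _ inferInstance
  have : IsAffineHom (pullback.fst g G.t) := MorphismProperty.pullback_fst _ _ inferInstance
  have hπa : ∀ z, π z = G.s (pullback.snd g G.t z) := fun z => Scheme.Hom.comp_apply _ _ _
  have : Surjective π := ⟨fun x => by
    obtain ⟨r, hr, ⟨y, hy⟩⟩ := horb x
    obtain ⟨z, hz₁, hz₂⟩ := Scheme.Pullback.exists_preimage_pullback (f := g) (g := G.t) y r hy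
    exact ⟨z, by rw [hπa, hz₂, hr]⟩⟩
  -- the invariance of W' read on points
  have key : ∀ z z', π z = π z' → (pullback.fst g G.t z ∈ W' ↔ pullback.fst g G.t z' ∈ W') := by
    intro z z' h
    rw [hπa, hπa] at h
    obtain ⟨r, hrt, hrs⟩ := GrpdLib.exists_comp_point G (r₁ := pullback.snd g G.t z)
      (r₂ := G.i (pullback.snd g G.t z')) (by rw [h, GrpdLib.t_i_apply])
    rw [GrpdLib.s_i_apply] at hrs
    have hgy : g (pullback.fst g G.t z) = G.t r := by
      rw [hrt, ← Scheme.Hom.comp_apply, pullback.condition, Scheme.Hom.comp_apply]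
    obtain ⟨w₀, hw₁, hw₂⟩ := Scheme.Pullback.exists_preimage_pullback (f := g) (g := G.t) _ r hgy
    obtain ⟨w, hw₃, hw₄⟩ := Scheme.Pullback.exists_preimage_pullback (f := pullback.snd g G.t ≫ G.s) (g := g)
      w₀ (pullback.fst g G.t z') (by
        rw [Scheme.Hom.comp_apply, hw₂, hrs, ← Scheme.Hom.comp_apply, ← Scheme.Hom.comp_apply, pullback.condition])
    have hinv' := SetLike.ext_iff.1 hinv w
    simp only [Scheme.Hom.mem_preimage, Scheme.Hom.comp_apply, hw₃, hw₄, hw₁] at hinv'
    exact hinv'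
  let V := pullback.fst g G.t ⁻¹ᵁ W'
  have hC : IsClosed (π '' (V : Set ↥(pullback g G.t))ᶜ) := π.isClosedMap _ V.isOpen.isClosed_compl
  let W : G.U.Opens := ⟨_, hC.isOpen_compl⟩
  have hπ : ∀ z, π z ∈ W ↔ pullback.fst g G.t z ∈ W' := fun z =>
    ⟨fun h => by_contra fun hn => h ⟨z, hn, rfl⟩, fun h ⟨z', hz', e⟩ => hz' ((key z z' e.symm).1 h)⟩
  have hVW : π ⁻¹ᵁ W = V := by
    ext z; exact hπ z
  refine ⟨W, ?_, ?_, ?_⟩
  · have : IsAffine (π ⁻¹ᵁ W : (pullback g G.t).Opens).toScheme := by
      rw [hVW]; exact hW'.preimage (pullback.fst g G.t)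
    have : Surjective (π ∣_ W) :=
      MorphismProperty.of_isPullback (isPullback_morphismRestrict π W).flip ‹Surjective π›
    have : IsIntegralHom (π ∣_ W) :=
      MorphismProperty.of_isPullback (isPullback_morphismRestrict π W).flip (inferInstanceAs (IsIntegralHom (pullback.snd g G.t ≫ G.s)))
    exact S0593.result _ _ (π ∣_ W)
  · obtain ⟨z, hz₁, hz₂⟩ := Scheme.Pullback.exists_preimage_pullback (f := g) (g := G.t) u' (G.e (g u'))
      (GrpdLib.t_e_apply G _).symm
    have : π z = g u' := by rw [hπa, hz₂, GrpdLib.s_e_apply]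
    exact this ▸ (hπ z).2 (hz₁.symm ▸ hu')
  · ext r
    obtain ⟨z, hz⟩ := π.surjective (G.s r)
    rw [hπa] at hz
    obtain ⟨r₁, hr₁t, hr₁s⟩ := GrpdLib.exists_comp_point G (r₁ := pullback.snd g G.t z) (r₂ := G.i r)
      (by rw [hz, GrpdLib.t_i_apply])
    rw [GrpdLib.s_i_apply] at hr₁s
    obtain ⟨z₁, hz₁, hz₁'⟩ := Scheme.Pullback.exists_preimage_pullback (f := g) (g := G.t) (pullback.fst g G.t z) r₁
      (by rw [hr₁t, ← Scheme.Hom.comp_apply, pullback.condition, Scheme.Hom.comp_apply])
    show G.s r ∈ W ↔ G.t r ∈ W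
    rw [← hz, ← hπa, show G.t r = π z₁ by rw [hπa, hz₁', hr₁s], hπ, hπ, hz₁]

end Groth.Agent.S7499
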