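import Groth.Statements.S7500
import Groth.Agent.GrpdLib.Basic

set_option autoImplicit false
universe u
open CategoryTheory CategoryTheory.Limits AlgebraicGeometry
open Grpd

namespace Groth.Agent.S7500

open Groth.Agent.GrpdLib

attribute [local simp] pullback.lift_fst pullback.lift_snd pullback.lift_fst_assoc pullback.lift_snd_assoc

theorem aux (S : Scheme.{u}) (G : Grpd.GroupoidScheme S) (α : pullback (pullback.snd G.j G.diag) G.t ⟶ pullback G.s G.t) (hα₁ : α ≫ pullback.fst G.s G.t = pullback.fst (pullback.snd G.j G.diag) G.t ≫ pullback.fst G.j G.diag) (hα₂ : α ≫ pullback.snd G.s G.t = pullback.snd (pullback.snd G.j G.diag) G.t) (β : pullback (pullback.snd G.j G.diag) G.t ⟶ pullback G.j G.j) (hβ₁ : β ≫ pullback.fst G.j G.j = α ≫ G.c) (hβ₂ : β ≫ pullback.snd G.j G.j = pullback.snd (pullback.snd G.j G.diag) G.t) : IsIso β := by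
  let p := pullback.fst G.j G.j
  let q := pullback.snd G.j G.j
  have hpq : p ≫ G.j = q ≫ G.j := pullback.condition
  have ht : p ≫ G.t = q ≫ G.t := by
    simpa using congrArg (· ≫ pullback.fst G.pU G.pU) hpq
  have hs : p ≫ G.s = q ≫ G.s := by
    simpa using congrArg (· ≫ pullback.snd G.pU G.pU) hpq
  have hδ : p ≫ G.s = (q ≫ G.i) ≫ G.t := by simp [hs]
  let δ := comp G p (q ≫ G.i) hδ
  have hδj : δ ≫ G.j = (q ≫ G.t) ≫ G.diag := by
    apply pullback.hom_ext <;> simp [δ, ht]
  let κ : pullback G.j G.j ⟶ pullback (pullback.snd G.j G.diag) G.t :=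
    pullback.lift (pullback.lift δ (q ≫ G.t) hδj) q (pullback.lift_snd _ _ _)
  let P₁ := pullback.fst (pullback.snd G.j G.diag) G.t
  let P₂ := pullback.snd (pullback.snd G.j G.diag) G.t
  let γ := P₁ ≫ pullback.fst G.j G.diag
  have hγ : γ ≫ G.s = P₂ ≫ G.t := by
    exact (Category.assoc _ _ _).trans
      ((congrArg (P₁ ≫ ·) (stabilizer_fst_s G)).trans pullback.condition)
  have hα : α ≫ G.c = comp G γ P₂ hγ := by
    rw [← lift_c]
    congr 1
    apply pullback.hom_ext
    · rw [pullback.lift_fst]; exact hα₁
    · rw [pullback.lift_snd]; exact hα₂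
  have hβp : β ≫ p = comp G γ P₂ hγ := hβ₁.trans hα
  have hβq : β ≫ q = P₂ := hβ₂
  refine ⟨κ, ?_, ?_⟩
  · apply pullback.hom_ext
    · apply pullback.hom_ext
      · simp only [Category.assoc, κ, pullback.lift_fst, δ]
        rw [naturality, Category.id_comp]
        exact (comp_congr G _ (by simp) hβp (by rw [← Category.assoc, hβq])).trans
          (comp_cancel_right G γ P₂ hγ)
      · simp only [Category.assoc, κ, pullback.lift_fst, Category.id_comp]
        rw [pullback.lift_snd, ← Category.assoc, hβq]
        exact (pullback.condition).symm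
    · simp only [Category.assoc, κ, Category.id_comp]
      rw [pullback.lift_snd]; exact hβq
  · have hκγ : κ ≫ γ = δ := by simp [κ, γ, P₁]
    have hκP : κ ≫ P₂ = q := by simp [κ, P₂]
    apply pullback.hom_ext
    · rw [Category.assoc, show β ≫ pullback.fst G.j G.j = _ from hβp, naturality, Category.id_comp]
      exact (comp_congr G _ (by simp [δ]) hκγ hκP).trans (comp_inv_cancel_right G p q hs)
    · rw [Category.assoc, show β ≫ pullback.snd G.j G.j = _ from hβq, hκP, Category.id_comp]

/-- Let (U, R, s, t, c) be a groupoid scheme over S and G -> U its stabilizer group scheme (the base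
change of j = (t, s) along the diagonal). The action of G on R by composition, base changed to G_0 =
G x_(U, pr_0) (U x_S U), makes R a pseudo G_0-torsor over U x_S U. Concretely: let α : G x_(U, t) R
-> R x_(s, U, t) R be the morphism with components (γ viewed in R, r) and β : G x_(U, t) R -> R
x_(j, U x_S U, j) R the morphism with components (c ∘ α, r); then β is an isomorphism. (A groupoid
scheme carries U, R, s, t, c, e, i over S with the groupoid axioms on T-points; c is defined on the
fibre product of s and t and sends a pair (a, b) with s(a) = t(b) to a composed with b.) -/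
theorem result (S : Scheme.{u}) (G : Grpd.GroupoidScheme S) (α : pullback G.stabilizerToU G.t ⟶ pullback G.s G.t) (hα₁ : α ≫ pullback.fst G.s G.t = pullback.fst G.stabilizerToU G.t ≫ pullback.fst G.j G.diag) (hα₂ : α ≫ pullback.snd G.s G.t = pullback.snd G.stabilizerToU G.t) (β : pullback G.stabilizerToU G.t ⟶ pullback G.j G.j) (hβ₁ : β ≫ pullback.fst G.j G.j = α ≫ G.c) (hβ₂ : β ≫ pullback.snd G.j G.j = pullback.snd G.stabilizerToU G.t) : IsIso β := by
  exact aux S G α hα₁ hα₂ β hβ₁ hβ₂

end Groth.Agent.S7500
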