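import Groth.Statements.S7502
import Groth.Agent.S2515
import Groth.Agent.KFlat.FlatPull
import Groth.Agent.QCoh.Qcqs
import Groth.Agent.CohDev.Coh

set_option autoImplicit false
universe u
open CategoryTheory CategoryTheory.Limits AlgebraicGeometry
open Coh

namespace Groth.Agent.S7502

/-- Let f : Y -> X be a morphism of schemes which is quasi-compact, quasi-separated, flat and
surjective, with X and Y locally Noetherian. Let F be a quasi-coherent O_X-module, G a coherent
O_Y-module and φ : G -> f^*F an injective map of O_Y-modules. Then the O_X-module F ∩ f_*G, defined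
as the fibre product of the adjunction unit F -> f_*f^*F with f_*φ : f_*G -> f_*f^*F, is coherent.
('Coherent' is quasi-coherent of finite type, the usual notion on locally Noetherian schemes.) -/
theorem result {X Y : Scheme.{u}} (f : Y ⟶ X) [QuasiCompact f] [QuasiSeparated f] [Flat f] [Surjective f] [IsLocallyNoetherian X] [IsLocallyNoetherian Y] (F : X.Modules) (hF : Coh.IsQCoh F) (G : Y.Modules) (hG : Coh.IsCoh G) (φ : G ⟶ (Scheme.Modules.pullback f).obj F) [Mono φ] : Coh.IsCoh (Limits.pullback ((Scheme.Modules.pullbackPushforwardAdjunction f).unit.app F) ((Scheme.Modules.pushforward f).map φ)) := by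
  let η : F ⟶ (Scheme.Modules.pushforward f).obj ((Scheme.Modules.pullback f).obj F) :=
    (Scheme.Modules.pullbackPushforwardAdjunction f).unit.app F
  show Coh.IsCoh (Limits.pullback η ((Scheme.Modules.pushforward f).map φ))
  let b := (Scheme.Modules.pushforward f).map φ
  have hb : Mono b := by
    have : (Scheme.Modules.pushforward f).PreservesMonomorphisms :=
      Functor.preservesMonomorphisms_of_adjunction (Scheme.Modules.pullbackPushforwardAdjunction f)
    infer_instance
  haveI := hF
  haveI := hG.1
  haveI hpb : ((Scheme.Modules.pullback f).obj F).IsQuasicoherent := inferInstance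
  haveI := QCoh.isQuasicoherent_pushforward f G
  haveI := QCoh.isQuasicoherent_pushforward f ((Scheme.Modules.pullback f).obj F)
  haveI : (Limits.cokernel b).IsQuasicoherent := QCoh.isQuasicoherent_cokernel b
  have hq : Coh.IsQCoh (Limits.pullback η b) := by
    let c : Limits.pullback η b ⟶ Limits.kernel (η ≫ Limits.cokernel.π b) :=
      Limits.kernel.lift _ (Limits.pullback.fst η b) (by
        rw [← Category.assoc, Limits.pullback.condition, Category.assoc, Limits.cokernel.condition,
          Limits.comp_zero])
    let d : Limits.kernel (η ≫ Limits.cokernel.π b) ⟶ Limits.pullback η b :=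
      Limits.pullback.lift (Limits.kernel.ι _)
        (Abelian.monoLift b (Limits.kernel.ι (η ≫ Limits.cokernel.π b) ≫ η) (by
          rw [Category.assoc, Limits.kernel.condition]))
        (Abelian.monoLift_comp _ _ _).symm
    let e : Limits.kernel (η ≫ Limits.cokernel.π b) ≅ Limits.pullback η b :=
      { hom := d, inv := c
        hom_inv_id := by
          rw [← cancel_mono (Limits.kernel.ι (η ≫ Limits.cokernel.π b))]
          simp [c, d]
          exact Limits.pullback.lift_fst _ _ _
        inv_hom_id := by
          rw [← cancel_mono (Limits.pullback.fst η b)]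
          simp [c, d]
          erw [Limits.pullback.lift_fst]
          exact Limits.kernel.lift_ι _ _ _ }
    exact (SheafOfModules.isQuasicoherent X.ringCatSheaf).prop_of_iso e
      (QCoh.isQuasicoherent_kernel (η ≫ Limits.cokernel.π b))
  refine Groth.Agent.S2515.result f _ hq ?_
  haveI := hq
  let ψ : (Scheme.Modules.pullback f).obj (Limits.pullback η b) ⟶ G :=
    (Scheme.Modules.pullback f).map (Limits.pullback.snd η b) ≫
      (Scheme.Modules.pullbackPushforwardAdjunction f).counit.app G
  have hψ : ψ ≫ φ = (Scheme.Modules.pullback f).map (Limits.pullback.fst η b) := by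
    have h1 := (Scheme.Modules.pullbackPushforwardAdjunction f).counit.naturality φ
    dsimp at h1
    rw [Category.assoc, ← h1, ← Category.assoc, ← Functor.map_comp, ← Limits.pullback.condition,
      Functor.map_comp, Category.assoc]
    erw [(Scheme.Modules.pullbackPushforwardAdjunction f).left_triangle_components F]
    exact Category.comp_id _
  have : Mono (ψ ≫ φ) := by rw [hψ]; infer_instance
  have : Mono ψ := mono_of_mono ψ φ
  exact CohDev.isCoh_of_mono ψ (inferInstanceAs ((Scheme.Modules.pullback f).obj _).IsQuasicoherent) hG

end Groth.Agent.S7502
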