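import Groth.Statements.S7503
import Groth.Agent.GrpdLib.ImageGrpd
open Groth.Agent.GrpdLib Groth.Agent.GrpdLib.ImageGrpd

set_option autoImplicit false
universe u
open CategoryTheory CategoryTheory.Limits AlgebraicGeometry
open Grpd

namespace Groth.Agent.S7503

/-- Let (U, R, s, t, c) be a groupoid scheme over S with U the spectrum of a perfect field and let Z be
the reduced closed subscheme of U x_S U whose underlying set is the closure of the image of j = (t,
s). Then (U, Z, pr_0|_Z, pr_1|_Z, pr_02) is a groupoid scheme over S; stated as: there are a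
groupoid scheme G' over S with G'.R reduced and an isomorphism of schemes over S from G'.U to U such
that j' = (t', s') : G'.R -> G'.U x_S G'.U is a closed immersion and the image of j' followed by the
induced isomorphism G'.U x_S G'.U -> U x_S U is the closure of the image of j. (No morphism from (U,
R, s, t, c) to G' is asserted: when R is not reduced, j need not factor through the reduced
subscheme Z.) (A groupoid scheme carries U, R, s, t, c, e, i over S with the groupoid axioms on
T-points; c is defined on the fibre product of s and t and sends a pair (a, b) with s(a) = t(b) to a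
composed with b.) -/
theorem result (S : Scheme.{u}) (G : Grpd.GroupoidScheme S) (k : Type u) [Field k] [PerfectField k] (eU : G.U ≅ Spec (CommRingCat.of k)) : ∃ (G' : Grpd.GroupoidScheme S) (ψ : G'.U ≅ G.U) (hψ : ψ.hom ≫ G.pU = G'.pU), IsReduced G'.R ∧ IsClosedImmersion G'.j ∧ Set.range ⇑(G'.j ≫ pullback.map G'.pU G'.pU G.pU G.pU ψ.hom ψ.hom (𝟙 S) ((Category.comp_id _).trans hψ.symm) ((Category.comp_id _).trans hψ.symm)) = closure (Set.range ⇑G.j) := by
  obtain ⟨he, hi, hc⟩ := ker_le_closure (toPair G) k eU
  obtain ⟨eP, iP, cP, h1, h2, h3⟩ := exists_sub (pair G) (closureSub (toPair G)).subschemeι he hi hc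
  let ι : (closureSub (toPair G)).subscheme ⟶ pullback G.pU G.pU := (closureSub (toPair G)).subschemeι
  let G' := subGrpd (pair G) (closureSub (toPair G)).subschemeι eP iP cP h1 h2 h3
  have hj : G'.j = ι := by
    apply pullback.hom_ext
    · exact pullback.lift_fst _ _ _
    · exact pullback.lift_snd _ _ _
  refine ⟨G', Iso.refl G.U, Category.id_comp _, RedSub.isReduced_vanishingIdeal _, ?_, ?_⟩
  · rw [hj]; exact inferInstanceAs (IsClosedImmersion (closureSub (toPair G)).subschemeι)
  · refine Eq.trans ?_ (range_closureSub (toPair G))
    refine congrArg (fun φ : G'.R ⟶ pullback G.pU G.pU => Set.range φ) (?_ : _ = ι)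
    rw [hj]
    refine Eq.trans ?_ (Category.comp_id ι)
    congr 1
    apply pullback.hom_ext <;> simp [G', subGrpd, ImageGrpd.pair, pullback.lift_fst, pullback.lift_snd]

end Groth.Agent.S7503
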