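import Groth.Statements.S7504
import Groth.Agent.GrpdLib.MaxOpen

set_option autoImplicit false
universe u
open CategoryTheory CategoryTheory.Limits AlgebraicGeometry
open Grpd

namespace Groth.Agent.S7504

set_option backward.isDefEq.respectTransparency false
set_option backward.isDefEq.respectTransparency.types false

/-- Let (U, R, s, t, c) be a groupoid scheme over S, let τ be the Zariski, étale, smooth or fppf
topology (given as the corresponding precoverage K on schemes), and let P be a property of scheme
morphisms that is τ-local on the target. (The published statement also allows the syntomic topology,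
which has no precoverage here; this row omits it.) Assume the one-arrow families {s : R -> U} and {t
: R -> U} are τ-coverings. If W is the largest open subscheme of U such that the restriction
s^{-1}(W) -> W of s has P (W has the property and contains every open with the property), then W is
R-invariant: s^{-1}(W) = t^{-1}(W). (A groupoid scheme carries U, R, s, t, c, e, i over S with the
groupoid axioms on T-points; c is defined on the fibre product of s and t and sends a pair (a, b)
with s(a) = t(b) to a composed with b.) -/
theorem result (S : Scheme.{u}) (G : Grpd.GroupoidScheme S) (K : Precoverage Scheme.{u}) (hK : K = Scheme.zariskiPrecoverage ∨ K = Scheme.etalePrecoverage ∨ K = Scheme.precoverage @Smooth ∨ K = Scheme.fppfPrecoverage) (P : MorphismProperty Scheme.{u}) [P.IsLocalAtTarget K] (hs : Presieve.singleton G.s ∈ K G.U) (ht : Presieve.singleton G.t ∈ K G.U) (W : G.U.Opens) (hW : P (G.s ∣_ W)) (hmax : ∀ W' : G.U.Opens, P (G.s ∣_ W') → W' ≤ W) : G.s ⁻¹ᵁ W = G.t ⁻¹ᵁ W := by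
  obtain ⟨pb, hpb⟩ : ∃ pb, IsPullback pb (pullback.snd G.s G.t) G.s G.s := ⟨G.c, GrpdLib.MaxOpen.isPullback_c_snd G⟩
  have key : ∀ (Q : MorphismProperty Scheme.{u}) [Q.IsStableUnderBaseChange]
      [Q.IsStableUnderComposition], K = Scheme.precoverage Q →
      (∀ {X Y : Scheme.{u}} (g : X ⟶ Y), IsOpenImmersion g → Q g) →
      (∀ {X Y : Scheme.{u}} (g : X ⟶ Y), Q g → IsOpenMap g) → G.s ⁻¹ᵁ W = G.t ⁻¹ᵁ W := by
    intro Q _ _ hQ hopen hQo
    subst hQ
    exact GrpdLib.MaxOpen.preimage_eq Q hopen hQo P G.s G.t G.s _ pb _
      (IsPullback.of_hasPullback _ _) hpb ht hs W hW hmax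
  rcases hK with rfl | rfl | rfl | rfl
  · exact key @IsOpenImmersion rfl (fun g h => h) (fun g _ => g.isOpenEmbedding.isOpenMap)
  · exact key @Etale rfl (fun g _ => inferInstance) (fun g _ => g.isOpenMap)
  · exact key @Smooth rfl (fun g _ => inferInstance) (fun g _ => g.isOpenMap)
  · exact key (@Flat ⊓ @LocallyOfFinitePresentation) rfl
      (fun g _ => ⟨inferInstance, inferInstance⟩)
      (fun g h => have := h.1; have := h.2; g.isOpenMap)

end Groth.Agent.S7504
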