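import Groth.Statements.S7507
import Groth.Agent.FlatOpen.GrpdMaxSlice

set_option autoImplicit false
universe u
open CategoryTheory CategoryTheory.Limits AlgebraicGeometry
open Grpd

namespace Groth.Agent.S7507

/-- Let (U, R, s, t, c, e, i) be a groupoid scheme over S with s and t Cohen-Macaulay and locally of
finite presentation, G -> U the stabilizer and u a finite type point of U. Then there exist an
affine scheme U', an immersion g : U' -> U locally of finite presentation and a point u' with g(u')
= u such that: h = s ∘ pr_1 : U' x_(g,U,t) R -> U is Cohen-Macaulay as well as locally of finite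
presentation; the source and target s', t' : R' -> U' of the restriction R' = (U' x_(g,U,t) R)
x_(h,U,g) U' are likewise locally of finite presentation and Cohen-Macaulay; and, p being the point
of U' x_(g,U,t) R with projections u' and e(u), the local dimension at p of the fibre of h equals
dim(G_u) (that is, dim_(e'(u'))(F'_(u')) = dim(G'_(u'))). Here a morphism is Cohen-Macaulay when it
is Cohen-Macaulay at every point of its source (flat there with Cohen-Macaulay fibre local ring,
Grpd.IsCMAt), a finite type point u is one for which Spec κ(u) -> U is locally of finite type, dim_x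
of a fibre is the local dimension FlatMor.fibreDimAt, and G_u is the scheme-theoretic fibre of the
stabilizer G -> U over u. (A groupoid scheme carries U, R, s, t, c, e, i over S with the groupoid
axioms on T-points; c is defined on the fibre product of s and t and sends a pair (a, b) with s(a) =
t(b) to a composed with b.) -/
theorem result (S : Scheme.{u}) (G : Grpd.GroupoidScheme S) [LocallyOfFinitePresentation G.s] [LocallyOfFinitePresentation G.t] (hs : ∀ r : G.R, Grpd.IsCMAt G.s r) (ht : ∀ r : G.R, Grpd.IsCMAt G.t r) (u : G.U) (hu : LocallyOfFiniteType (G.U.fromSpecResidueField u)) : ∃ (U' : Scheme.{u}) (_ : IsAffine U') (g : U' ⟶ G.U) (u' : U') (p : ↑(pullback g G.t)), IsImmersion g ∧ LocallyOfFinitePresentation g ∧ g u' = u ∧ pullback.fst g G.t p = u' ∧ pullback.snd g G.t p = G.e u ∧ (∀ q, Grpd.IsCMAt (pullback.snd g G.t ≫ G.s) q) ∧ LocallyOfFinitePresentation (pullback.snd g G.t ≫ G.s) ∧ (∀ q, Grpd.IsCMAt (pullback.snd (pullback.snd g G.t ≫ G.s) g) q) ∧ LocallyOfFinitePresentation (pullback.snd (pullback.snd g G.t ≫ G.s) g)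 ∧ (∀ q, Grpd.IsCMAt (pullback.fst (pullback.snd g G.t ≫ G.s) g ≫ pullback.fst g G.t) q) ∧ LocallyOfFinitePresentation (pullback.fst (pullback.snd g G.t ≫ G.s) g ≫ pullback.fst g G.t) ∧ FlatMor.fibreDimAt (pullback.snd g G.t ≫ G.s) p = topologicalKrullDim ↥(G.stabilizerToU.fiber u) := by
  have hs' : ∀ r, MoreMor.IsCMAt G.s r := fun r => (Groth.Agent.FlatOpen.GrpdCM.grpd_isCMAt_iff _ _).1 (hs r)
  have ht' : ∀ r, MoreMor.IsCMAt G.t r := fun r => (Groth.Agent.FlatOpen.GrpdCM.grpd_isCMAt_iff _ _).1 (ht r)
  obtain ⟨d, hd, U', hU', g, u', p, h1, h2, h3, h4, h5, hall, h7, h8⟩ :=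
    Groth.Agent.FlatOpen.GrpdMaxSlice.exists_max_slice G hs' ht' u hu
  exact ⟨U', hU', g, u', p, h1, h2, h3, h4, h5,
    fun q => (Groth.Agent.FlatOpen.GrpdCM.grpd_isCMAt_iff _ _).2 (hall q).1, inferInstance,
    fun q => (Groth.Agent.FlatOpen.GrpdCM.grpd_isCMAt_iff _ _).2 (h7 q), inferInstance,
    fun q => (Groth.Agent.FlatOpen.GrpdCM.grpd_isCMAt_iff _ _).2 (h8 q), inferInstance,
    (hall p).2.trans hd.symm⟩

end Groth.Agent.S7507
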