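import Groth.Statements.S7509
import Groth.Agent.GrpdLib.ImageGrpd
open Groth.Agent.GrpdLib Groth.Agent.GrpdLib.ImageGrpd

set_option autoImplicit false
universe u
open CategoryTheory CategoryTheory.Limits AlgebraicGeometry
open Grpd

namespace Groth.Agent.S7509

/-- Let (U, R, s, t, c) be a groupoid scheme over S with U the spectrum of a field and R quasi-compact
(equivalently s, t quasi-compact), and let Z be the scheme-theoretic image of j = (t, s) : R -> U
x_S U. Then (U, Z, pr_0|_Z, pr_1|_Z, pr_02) is a groupoid scheme over S; stated as: there are a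
groupoid scheme G' over S and a morphism of groupoid schemes φ : (U, R, s, t, c) -> G' which is an
isomorphism on object schemes, such that j' : G'.R -> G'.U x_S G'.U is a closed immersion whose
kernel ideal sheaf equals the kernel ideal sheaf of j followed by the induced isomorphism U x_S U ->
G'.U x_S G'.U (so G'.R is the scheme-theoretic image of j, transported). (A groupoid scheme carries
U, R, s, t, c, e, i over S with the groupoid axioms on T-points; c is defined on the fibre product
of s and t and sends a pair (a, b) with s(a) = t(b) to a composed with b.) -/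
theorem result (S : Scheme.{u}) (G : Grpd.GroupoidScheme S) (k : Type u) [Field k] (eU : G.U ≅ Spec (CommRingCat.of k)) [CompactSpace G.R] : ∃ (G' : Grpd.GroupoidScheme S) (φ : Grpd.GroupoidScheme.Hom G G'), IsIso φ.fU ∧ IsClosedImmersion G'.j ∧ G'.j.ker = (G.j ≫ pullback.map G.pU G.pU G'.pU G'.pU φ.fU φ.fU (𝟙 S) ((Category.comp_id _).trans φ.fU_over.symm) ((Category.comp_id _).trans φ.fU_over.symm)).ker := by
  have : IsAffine G.U := IsAffine.of_isIso eU.hom
  let m : pullback G.pU G.pU ⟶ pullback (terminal.from G.U) (terminal.from G.U) :=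
    pullback.lift (pullback.fst _ _) (pullback.snd _ _) (terminal.hom_ext _ _)
  have : Mono m := ⟨fun a b hab => pullback.hom_ext
    (by simpa [m, pullback.lift_fst] using congrArg (· ≫ pullback.fst _ _) hab)
    (by simpa [m, pullback.lift_snd] using congrArg (· ≫ pullback.snd _ _) hab)⟩
  have : (pullback G.pU G.pU).IsSeparated := by
    constructor
    rw [terminal.hom_ext (terminal.from (pullback G.pU G.pU)) (m ≫ terminal.from _)]
    infer_instance
  have : QuasiCompact (toPair G).fR := by
    change QuasiCompact G.j
    have : QuasiCompact (G.j ≫ terminal.from (pullback G.pU G.pU)) := by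
      rw [terminal.hom_ext (G.j ≫ terminal.from _) (terminal.from G.R)]
      exact (quasiCompact_iff_compactSpace _).2 ‹_›
    exact QuasiCompact.of_comp G.j (terminal.from _)
  obtain ⟨he, hi, hc⟩ := ker_le_image (toPair G) k eU
  obtain ⟨eP, iP, cP, h1, h2, h3⟩ := exists_sub (pair G) (toPair G).fR.imageι he hi hc
  let ι : (toPair G).fR.image ⟶ pullback G.pU G.pU := (toPair G).fR.imageι
  let G' := subGrpd (pair G) (toPair G).fR.imageι eP iP cP h1 h2 h3
  have hj : G'.j = ι := by
    apply pullback.hom_ext
    · exact pullback.lift_fst _ _ _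
    · exact pullback.lift_snd _ _ _
  have hπ : (toPair G).fR.toImage ≫ (toPair G).fR.imageι = (toPair G).fR :=
    (toPair G).fR.toImage_imageι
  let φ : Grpd.GroupoidScheme.Hom G G' :=
    { fU := 𝟙 G.U
      fR := (toPair G).fR.toImage
      fU_over := Category.id_comp _
      comm_s := (Category.assoc _ _ _).symm.trans
        ((congrArg (· ≫ (pair G).s) hπ).trans (toPair G).comm_s)
      comm_t := (Category.assoc _ _ _).symm.trans
        ((congrArg (· ≫ (pair G).t) hπ).trans (toPair G).comm_t)
      comm_c := fun α β h => by
        refine (cancel_mono (toPair G).fR.imageι).1 ?_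
        refine ((Category.assoc _ _ _).trans (congrArg (_ ≫ ·) hπ)).trans (Eq.trans ?_
          (lift_cP (pair G) (toPair G).fR.imageι cP h3 _ _ _).symm)
        exact ((toPair G).comm_c α β h).trans (comp_congr (pair G) _ _
          ((Category.assoc _ _ _).trans (congrArg (α ≫ ·) hπ)).symm
          ((Category.assoc _ _ _).trans (congrArg (β ≫ ·) hπ)).symm) }
  refine ⟨G', φ, inferInstanceAs (IsIso (𝟙 G.U)), ?_, ?_⟩
  · rw [hj]; exact inferInstanceAs (IsClosedImmersion (toPair G).fR.imageι)
  · rw [hj]
    refine (Scheme.IdealSheafData.ker_subschemeι _).trans ?_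
    refine congrArg Scheme.Hom.ker ?_
    refine (Category.comp_id G.j).symm.trans ?_
    congr 1
    apply pullback.hom_ext <;> simp [φ, G', subGrpd, ImageGrpd.pair, pullback.lift_fst, pullback.lift_snd]

end Groth.Agent.S7509
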