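import Groth.Statements.S7515
import Groth.Agent.GrpdLib.EtCart.Main

set_option autoImplicit false
universe u
open CategoryTheory CategoryTheory.Limits AlgebraicGeometry
open Grpd

namespace Groth.Agent.S7515

/-- Let f : (U', R', s', t', c') -> (U, R, s, t, c) be a morphism of groupoid schemes over S with U, R,
U', R' affine, s, t, s', t' finite locally free, the squares for s and for t cartesian, the induced
square of stabilizer group schemes cartesian, and f : U' -> U étale. Then for the morphism g : Spec
C' -> Spec C on spectra of invariant rings compatible with U' -> U, the square with sides U' -> U,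
U' -> Spec C', g and U -> Spec C is cartesian, that is U' = Spec C' x_(Spec C) U. (The source also
shows that g is étale; that conclusion is not stated here.) (A groupoid scheme carries U, R, s, t,
c, e, i over S with the groupoid axioms on T-points; c is defined on the fibre product of s and t
and sends a pair (a, b) with s(a) = t(b) to a composed with b.) C ⊂ Γ(U) is the ring of functions a
with s^#(a) = t^#(a). -/
theorem result (S : Scheme.{u}) (G' G : Grpd.GroupoidScheme S) (f : Grpd.GroupoidScheme.Hom G' G) [IsAffine G.U] [IsAffine G.R] [IsAffine G'.U] [IsAffine G'.R] [IsFinite G.s] [Flat G.s] [LocallyOfFinitePresentation G.s] [IsFinite G.t] [Flat G.t] [LocallyOfFinitePresentation G.t] [IsFinite G'.s] [Flat G'.s] [LocallyOfFinitePresentation G'.s] [IsFinite G'.t] [Flat G'.t] [LocallyOfFinitePresentation G'.t] (hs : IsPullback f.fR G'.s G.s f.fU) (ht : IsPullback f.fR G'.t G.t f.fU) (hstab : ∃ g : G'.stabilizer ⟶ G.stabilizer, g ≫ pullback.fst G.j G.diag = pullback.fst G'.j G'.diag ≫ f.fR ∧ IsPullback g G'.stabilizerToU G.stabilizerToU f.fU) [Etale f.fU] : ∀ g : Spec (CommRingCat.of G'.invariants) ⟶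 Spec (CommRingCat.of G.invariants), G'.toQuot ≫ g = f.fU ≫ G.toQuot → IsPullback f.fU G'.toQuot G.toQuot g := by
  exact fun g hg => GrpdLib.EtCart.isPullback_quot f hs ht hstab g hg

end Groth.Agent.S7515
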