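import Groth.Statements.S7521
import Groth.Agent.HTopUltra.FinFlatEff
import Groth.Agent.GalCohAux.AmpleFinite

set_option autoImplicit false
open CategoryTheory CategoryTheory.Limits AlgebraicGeometry
universe u
open Desc

namespace Groth.Agent.S7521

/-- Let p : X -> Y be a surjective finite locally free morphism and V a scheme over X which has an
invertible module ample relative to V -> X. Then every descent datum on V relative to p is
effective. (A quasi-projective morphism V -> X, in particular a projective one, carries such a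
module.) (Descent data are taken in functor-of-points form.) -/
theorem result {X Y : Scheme.{u}} (p : X ⟶ Y) [Surjective p] [IsFinite p] [Flat p] [LocallyOfFinitePresentation p] (D : Desc.SchDD p) (L : D.obj.left.Modules) (hL : RelAmple.IsRelAmple D.obj.hom L) : ∃ W : Over Y, Nonempty ((Desc.toDD p).obj W ≅ D) := by
  refine Groth.Agent.HTopUltra.effective_of_orbits_in_affines D fun u => ?_
  obtain ⟨U, hU, hu, -⟩ := exists_isAffineOpen_mem_and_subset
    (TopologicalSpace.Opens.mem_top (p (D.obj.hom u)))
  let W := D.obj.hom ⁻¹ᵁ (p ⁻¹ᵁ U)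
  have hW : CohB1.IsAmple (L.restrict W.ι) := hL.2 ⟨p ⁻¹ᵁ U, hU.preimage p⟩
  obtain ⟨V, hV, h⟩ := Groth.Agent.GalCohAux.AmpleFinite.exists_affine_of_finite hW
    ((Groth.Agent.HTopUltra.finite_orb (D := D) u).preimage W.ι.isOpenEmbedding.injective.injOn)
  refine ⟨W.ι ''ᵁ V, hV.image_of_isOpenImmersion _, fun v hv => ?_⟩
  have hvW : v ∈ W := by
    show p (D.obj.hom v) ∈ U
    rw [← Groth.Agent.HTopUltra.orb_base hv]
    exact hu
  exact ⟨⟨v, hvW⟩, h hv, rfl⟩

end Groth.Agent.S7521
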