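import Groth.Statements.S7522
import Mathlib.AlgebraicGeometry.PullbackCarrier

set_option autoImplicit false
universe u
open CategoryTheory CategoryTheory.Limits AlgebraicGeometry
open Grpd

namespace Groth.Agent.S7522

/-- Let S be a scheme, U a scheme over S and j : R -> U x_S U a pre-equivalence relation, that is a
morphism such that for every scheme T the image of the T-points of R in pairs of T-points of U is an
equivalence relation; write t = pr_0 ∘ j and s = pr_1 ∘ j. Then the relation on the points of U in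
which x ∼ y when some point r of R has t(r) = x and s(r) = y is an equivalence relation. -/
theorem result {S U R : Scheme.{u}} (pU : U ⟶ S) (j : R ⟶ pullback pU pU) (hj : ∀ T : Scheme.{u}, Equivalence (fun a b : T ⟶ U => ∃ r : T ⟶ R, r ≫ j ≫ pullback.fst pU pU = a ∧ r ≫ j ≫ pullback.snd pU pU = b)) : Equivalence (fun x y : ↥U => ∃ r : R, (j ≫ pullback.fst pU pU) r = x ∧ (j ≫ pullback.snd pU pU) r = y) := by
  refine ⟨fun x ↦ ?_, fun {x y} ↦ ?_, fun {x y z} ↦ ?_⟩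
  · obtain ⟨r, h₁, h₂⟩ := (hj U).refl (𝟙 U)
    exact ⟨r x, by rw [← Scheme.Hom.comp_apply, h₁]; rfl, by rw [← Scheme.Hom.comp_apply, h₂]; rfl⟩
  · rintro ⟨r, h₁, h₂⟩
    obtain ⟨r', h₁', h₂'⟩ := (hj R).symm
      (x := j ≫ pullback.fst pU pU) (y := j ≫ pullback.snd pU pU) ⟨𝟙 R, by simp, by simp⟩
    refine ⟨r' r, ?_, ?_⟩
    · rw [← Scheme.Hom.comp_apply, h₁', h₂]
    · rw [← Scheme.Hom.comp_apply, h₂', h₁]
  · rintro ⟨r₁, h₁, h₂⟩ ⟨r₂, h₃, h₄⟩
    obtain ⟨w, hw₁, hw₂⟩ := Scheme.Pullback.exists_preimage_pullback r₁ r₂ (h₂.trans h₃.symm)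
    let p₁ := pullback.fst (j ≫ pullback.snd pU pU) (j ≫ pullback.fst pU pU)
    let p₂ := pullback.snd (j ≫ pullback.snd pU pU) (j ≫ pullback.fst pU pU)
    obtain ⟨r', h₁', h₂'⟩ := (hj _).trans (x := p₁ ≫ j ≫ pullback.fst pU pU)
      (y := p₁ ≫ j ≫ pullback.snd pU pU) (z := p₂ ≫ j ≫ pullback.snd pU pU)
      ⟨p₁, rfl, rfl⟩ ⟨p₂, pullback.condition.symm, rfl⟩
    refine ⟨r' w, ?_, ?_⟩
    · rw [← Scheme.Hom.comp_apply, h₁', Scheme.Hom.comp_apply, hw₁, h₁]
    · rw [← Scheme.Hom.comp_apply, h₂', Scheme.Hom.comp_apply, hw₂, h₄]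

end Groth.Agent.S7522
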