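import Groth.Statements.S7526
import Groth.Agent.SpecTop.Basic

set_option autoImplicit false
universe u
open SpecSp

namespace Groth.Agent.S7526

/-- Let X be a spectral space. If E ⊆ X is closed in the constructible topology then (1) every point of
the closure of E is a specialization of some point of E, and (2) E is closed as soon as it is also
stable under specialization. (3) Any E' ⊆ X that is stable under generalization and constructibly
open is open. -/
theorem result {X : Type u} [TopologicalSpace X] [SpectralSpace X] :
    (∀ E : Set X, @IsClosed X (constructibleTopology X) E →
      (∀ x ∈ closure E, ∃ e ∈ E, e ⤳ x) ∧ (StableUnderSpecialization E → IsClosed E)) ∧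
    (∀ E' : Set X, @IsOpen X (constructibleTopology X) E' → StableUnderGeneralization E' → IsOpen E') := by
  exact ⟨fun E hE => ⟨fun x hx => SpecTop.exists_specializes_of_mem_closure hE hx,
    SpecTop.isClosed_of_stableUnderSpecialization hE⟩,
    fun E' hE' => SpecTop.isOpen_of_stableUnderGeneralization hE'⟩

end Groth.Agent.S7526
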