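import Groth.Statements.S7527
import Groth.Agent.SpecTop.Basic

set_option autoImplicit false
universe u
open SpecSp

namespace Groth.Agent.S7527

/-- Let X be a spectral space and x, y ∈ X. Then either there is a third point specializing to both x
and y, or there are disjoint open neighbourhoods of x and of y. -/
theorem result {X : Type u} [TopologicalSpace X] [SpectralSpace X] (x y : X) :
    (∃ z : X, z ⤳ x ∧ z ⤳ y) ∨
    (∃ U V : Set X, IsOpen U ∧ IsOpen V ∧ x ∈ U ∧ y ∈ V ∧ Disjoint U V) := by
  by_cases h : ∃ z : X, z ⤳ x ∧ z ⤳ y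
  · exact Or.inl h
  · obtain ⟨U, V, hU, -, hV, -, hxU, hyV, hd⟩ := ProEtW.Spectral.exists_disjoint_compact_opens
      (C := {x}) (D := {y}) isCompact_singleton isCompact_singleton (by
        rintro c rfl d rfl z hzc hzd
        exact h ⟨z, hzc, hzd⟩)
    exact Or.inr ⟨U, V, hU, hV, hxU rfl, hyV rfl, hd⟩

end Groth.Agent.S7527
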