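import Groth.Statements.S7528
import Groth.Agent.SpecTop.Basic
import Mathlib.Tactic.TFAE

set_option autoImplicit false
universe u
open SpecSp

namespace Groth.Agent.S7528

/-- For a spectral space X the following are equivalent: (1) X is profinite, i.e. quasi-compact,
Hausdorff and totally disconnected (quasi-compactness being automatic); (2) X is Hausdorff; (3) X is
totally disconnected; (4) every quasi-compact open subset is closed; (5) there are no nontrivial
specializations between points; (6) every point is closed; (7) every point is the generic point of
an irreducible component; (8) the constructible topology coincides with the topology of X. -/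
theorem result (X : Type u) [tX : TopologicalSpace X] [SpectralSpace X] :
    List.TFAE [
      T2Space X ∧ TotallyDisconnectedSpace X,
      T2Space X,
      TotallyDisconnectedSpace X,
      ∀ U : Set X, IsOpen U → IsCompact U → IsClosed U,
      ∀ x y : X, x ⤳ y → x = y,
      ∀ x : X, IsClosed ({x} : Set X),
      ∀ x : X, closure ({x} : Set X) ∈ irreducibleComponents X,
      constructibleTopology X = tX] := by
  tfae_have 1 → 2 := fun h => h.1
  tfae_have 2 → 6 := fun h x => isClosed_singleton
  tfae_have 6 → 5 := fun h x y hxy => ((h x).closure_eq ▸ hxy.mem_closure : y ∈ ({x} : Set X)).symm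
  tfae_have 5 → 4 := fun h U hU hUc =>
    SpecTop.isClosed_of_stableUnderSpecialization (SpecTop.isClosed_cons_of_compactOpen hU hUc)
      fun a b hab ha => h a b hab ▸ ha
  tfae_have 4 → 8 := by
    intro h
    refine le_antisymm (SpecTop.cons_le X) (le_generateFrom ?_)
    rintro s (⟨ho, -⟩ | ⟨hc, hcc⟩)
    · exact ho
    · exact isClosed_compl_iff.1 (h sᶜ hc.isOpen_compl hcc)
  tfae_have 8 → 1 := by
    intro h
    have h1 := SpecTop.t2Space_cons X
    have h2 := SpecTop.totallySeparatedSpace_cons X
    rw [h] at h1 h2
    exact ⟨h1, inferInstance⟩
  tfae_have 1 → 3 := fun h => h.2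
  tfae_have 3 → 6 := fun h x => by
    haveI := h
    have hc : IsPreconnected (closure ({x} : Set X)) := isPreconnected_singleton.closure
    rw [← (hc.subsingleton).eq_singleton_of_mem (subset_closure rfl)]
    exact isClosed_closure
  tfae_have 5 → 7 := by
    intro h x
    refine ⟨isIrreducible_singleton.closure, fun Z hZ hle => ?_⟩
    obtain ⟨η, hη⟩ := QuasiSober.sober hZ.closure isClosed_closure
    have hx : η ⤳ x := hη.specializes (subset_closure (hle (subset_closure rfl)))
    have := h η x hx
    subst this
    rw [hη.def]
    exact subset_closure
  tfae_have 7 → 5 := by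
    intro h x y hxy
    have h1 : closure ({y} : Set X) ⊆ closure {x} :=
      closure_minimal (Set.singleton_subset_iff.2 hxy.mem_closure) isClosed_closure
    have h2 := (h y).2 isIrreducible_singleton.closure h1
    have hyx : y ⤳ x := specializes_iff_mem_closure.2 (h2 (subset_closure rfl))
    exact (hxy.antisymm hyx).eq
  tfae_finish

end Groth.Agent.S7528
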