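import Groth.Statements.S7530
import Groth.Agent.SpecTop.Basic

set_option autoImplicit false
universe u
open SpecSp

namespace Groth.Agent.S7530

/-- Let f : X → Y be a map of spectral spaces which is spectral and bijective, and assume that
generalizations lift along f or that specializations lift along f. Then f is a homeomorphism. -/
theorem result {X Y : Type u} [TopologicalSpace X] [TopologicalSpace Y]
    [SpectralSpace X] [SpectralSpace Y] (f : X → Y) (hf : IsSpectralMap f) (hb : Function.Bijective f)
    (hlift : GeneralizingMap f ∨ SpecializingMap f) :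
    IsHomeomorph f := by
  have h := SpecTop.continuous_cons_of_isSpectralMap hf
  rcases hlift with hg | hs
  · refine ⟨hf.continuous, fun U hU => ?_, hb⟩
    obtain ⟨S, hS, rfl⟩ := PrespectralSpace.isTopologicalBasis.open_eq_sUnion hU
    rw [Set.image_sUnion]
    refine isOpen_sUnion ?_
    rintro _ ⟨K, hK, rfl⟩
    have hKo := (hS hK).1
    refine SpecTop.isOpen_of_stableUnderGeneralization ?_ ?_
    · have := SpecTop.isClosed_cons_image h
        (@IsOpen.isClosed_compl X (constructibleTopology X) K (SpecTop.isOpen_cons_of_isOpen hKo))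
      rw [Set.image_compl_eq hb] at this
      exact (@isClosed_compl_iff Y (constructibleTopology Y) _).1 this
    · rintro y y' hy'y ⟨a, ha, rfl⟩
      obtain ⟨a', ha', rfl⟩ := hg hy'y
      exact ⟨a', ha'.mem_open hKo ha, rfl⟩
  · refine isHomeomorph_iff_continuous_isClosedMap_bijective.2 ⟨hf.continuous, fun C hC => ?_, hb⟩
    refine SpecTop.isClosed_of_stableUnderSpecialization
      (SpecTop.isClosed_cons_image h (SpecTop.isClosed_cons_of_isClosed hC)) ?_
    rintro y y' hyy' ⟨a, ha, rfl⟩
    obtain ⟨a', ha', rfl⟩ := hs hyy'
    exact ⟨a', ha'.mem_closed hC ha, rfl⟩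

end Groth.Agent.S7530
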