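import Groth.Statements.S7532
import Groth.Agent.SpecTop.Basic

set_option autoImplicit false
universe u
open SpecSp

namespace Groth.Agent.S7532

/-- Let W be the two-point space with one closed and one non-closed point (here the Sierpiński topology
on Prop). A topological space X is spectral exactly when, for some index type I, X admits a
topological embedding into the power W^I whose image is a closed set for the constructible topology
on W^I. -/
theorem result (X : Type u) [TopologicalSpace X] :
    SpectralSpace X ↔ ∃ (I : Type u) (f : X → (I → Prop)),
      Topology.IsEmbedding f ∧ @IsClosed (I → Prop) (constructibleTopology (I → Prop)) (Set.range f) := by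
  constructor
  · intro hX
    refine ⟨{U : Set X // IsOpen U ∧ IsCompact U}, _, SpecTop.isEmbedding_to_pi X, ?_⟩
    haveI := SpecTop.spectralSpace_sierpinski_pi {U : Set X // IsOpen U ∧ IsCompact U}
    exact SpecTop.isClosed_cons_range (SpecTop.continuous_cons_of_isSpectralMap
      (SpecTop.isSpectralMap_to_pi (fun U : {U : Set X // IsOpen U ∧ IsCompact U} => (U : Set X))
        fun U => U.2))
  · rintro ⟨I, f, hf, hr⟩
    haveI := SpecTop.spectralSpace_sierpinski_pi I
    haveI := SpecTop.spectralSpace_of_isClosed_cons hr
    exact SpecTop.spectralSpace_of_homeomorph hf.toHomeomorph

end Groth.Agent.S7532
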