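import Groth.Statements.S7536
import Groth.Agent.SpecTop.Limit

set_option autoImplicit false
universe u
open CategoryTheory CategoryTheory.Limits
open SpecSp

namespace Groth.Agent.S7536

/-- Let j ↦ X_j be a cofiltered diagram of spectral spaces with spectral transition maps and X its limit
with projections p_j. For every constructible E ⊆ X there are an object i and a constructible E_i ⊆
X_i with p_i⁻¹(E_i) = E; if E is open, resp. closed, then E_i may be chosen open, resp. closed. -/
theorem result {J : Type u} [SmallCategory J] [IsCofiltered J] (F : J ⥤ TopCat.{u})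
    (hF : ∀ j, SpectralSpace (F.obj j))
    (hFm : ∀ {i j : J} (a : i ⟶ j), IsSpectralMap (F.map a : F.obj i → F.obj j))
    (c : Cone F) (hc : IsLimit c)
    (E : Set c.pt) (hE : Topology.IsConstructible E) :
    (∃ (i : J) (Ei : Set (F.obj i)), Topology.IsConstructible Ei ∧ c.π.app i ⁻¹' Ei = E) ∧
    (IsOpen E → ∃ (i : J) (Ei : Set (F.obj i)), Topology.IsConstructible Ei ∧ IsOpen Ei ∧ c.π.app i ⁻¹' Ei = E) ∧
    (IsClosed E → ∃ (i : J) (Ei : Set (F.obj i)), Topology.IsConstructible Ei ∧ IsClosed Ei ∧ c.π.app i ⁻¹' Ei = E) := by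
  haveI := SpecTop.spectralSpace_limit hF hFm hc
  have hop : ∀ E : Set c.pt, Topology.IsConstructible E → IsOpen E →
      ∃ (i : J) (Ei : Set (F.obj i)), Topology.IsConstructible Ei ∧ IsOpen Ei ∧ c.π.app i ⁻¹' Ei = E := by
    intro E hE ho
    obtain ⟨i, Ui, hUo, hUk, he⟩ := SpecTop.exists_compactOpen_preimage hF hFm hc ho
      (SpecTop.isCompact_of_isConstructible hE)
    haveI := hF i
    exact ⟨i, Ui, (hUk.isRetrocompact hUo).isConstructible hUo, hUo, he⟩
  refine ⟨SpecTop.exists_constructible_preimage hF hFm hc hE, hop E hE, fun hcl => ?_⟩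
  obtain ⟨i, Ei, hEi, hEo, he⟩ := hop Eᶜ hE.compl hcl.isOpen_compl
  exact ⟨i, Eiᶜ, hEi.compl, hEo.isClosed_compl, by rw [Set.preimage_compl, he, compl_compl]⟩

end Groth.Agent.S7536
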