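import Groth.Statements.S7538
import Groth.Agent.SpecTop.Limit

set_option autoImplicit false
universe u
open CategoryTheory CategoryTheory.Limits
open SpecSp

namespace Groth.Agent.S7538

/-- Let j ↦ X_j be a cofiltered diagram of spectral spaces with spectral transition maps f_a and X its
limit with projections p_j. (1) Any quasi-compact open U ⊆ X is p_i⁻¹(U_i) for some i and some
quasi-compact open U_i ⊆ X_i. (2) If U_i ⊆ X_i and U_j ⊆ X_j are quasi-compact opens with p_i⁻¹(U_i)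
⊆ p_j⁻¹(U_j), there are k and a : k → i, b : k → j with f_a⁻¹(U_i) ⊆ f_b⁻¹(U_j). (3) If U_i and
finitely many U_{l,i} are quasi-compact opens of X_i with p_i⁻¹(U_i) = ⋃_l p_i⁻¹(U_{l,i}), then
f_a⁻¹(U_i) = ⋃_l f_a⁻¹(U_{l,i}) for some a : j → i. (4) The same with intersections. -/
theorem result {J : Type u} [SmallCategory J] [IsCofiltered J] (F : J ⥤ TopCat.{u})
    (hF : ∀ j, SpectralSpace (F.obj j))
    (hFm : ∀ {i j : J} (a : i ⟶ j), IsSpectralMap (F.map a : F.obj i → F.obj j))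
    (c : Cone F) (hc : IsLimit c) :
    (∀ U : Set c.pt, IsOpen U → IsCompact U →
      ∃ (i : J) (Ui : Set (F.obj i)), IsOpen Ui ∧ IsCompact Ui ∧ c.π.app i ⁻¹' Ui = U) ∧
    (∀ (i j : J) (Ui : Set (F.obj i)) (Uj : Set (F.obj j)),
      IsOpen Ui → IsCompact Ui → IsOpen Uj → IsCompact Uj →
      c.π.app i ⁻¹' Ui ⊆ c.π.app j ⁻¹' Uj →
      ∃ (k : J) (a : k ⟶ i) (b : k ⟶ j), F.map a ⁻¹' Ui ⊆ F.map b ⁻¹' Uj) ∧
    (∀ (i : J) (n : ℕ) (Ui : Set (F.obj i)) (V : Fin n → Set (F.obj i)),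
      IsOpen Ui → IsCompact Ui → (∀ l, IsOpen (V l) ∧ IsCompact (V l)) →
      (c.π.app i ⁻¹' Ui = ⋃ l, c.π.app i ⁻¹' V l →
        ∃ (j : J) (a : j ⟶ i), F.map a ⁻¹' Ui = ⋃ l, F.map a ⁻¹' V l) ∧
      (c.π.app i ⁻¹' Ui = ⋂ l, c.π.app i ⁻¹' V l →
        ∃ (j : J) (a : j ⟶ i), F.map a ⁻¹' Ui = ⋂ l, F.map a ⁻¹' V l)) := by
  refine ⟨fun U hU hUc => SpecTop.exists_compactOpen_preimage hF hFm hc hU hUc, ?_, ?_⟩
  · intro i j Ui Uj hio hik hjo hjk h
    let k := IsCofiltered.min i j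
    let p := IsCofiltered.minToLeft i j
    let q := IsCofiltered.minToRight i j
    obtain ⟨l, a, ha⟩ := SpecTop.exists_preimage_subset hF hFm hc (i := k)
      (E := F.map p ⁻¹' Ui) (E' := F.map q ⁻¹' Uj)
      (SpecTop.isClosed_cons_of_compactOpen (hio.preimage (hFm p).continuous)
        ((hFm p).isCompact_preimage_of_isOpen hio hik))
      (SpecTop.isOpen_cons_of_compactOpen (hjo.preimage (hFm q).continuous)
        ((hFm q).isCompact_preimage_of_isOpen hjo hjk))
      (by rw [SpecTop.preimage_π_map, SpecTop.preimage_π_map]; exact h)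
    refine ⟨l, a ≫ p, a ≫ q, ?_⟩
    rw [Functor.map_comp, Functor.map_comp, TopCat.coe_comp, TopCat.coe_comp, Set.preimage_comp,
      Set.preimage_comp]
    exact ha
  · intro i n Ui V hio hik hV
    haveI := hF i
    have hU := SpecTop.isClopen_cons_of_compactOpen hio hik
    refine ⟨fun h => ?_, fun h => ?_⟩
    · simp only [← Set.preimage_iUnion] at h ⊢
      exact SpecTop.exists_preimage_eq hF hFm hc hU
        (@isClopen_iUnion_of_finite _ (constructibleTopology (F.obj i)) _ _ _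
          fun l => SpecTop.isClopen_cons_of_compactOpen (hV l).1 (hV l).2) h
    · simp only [← Set.preimage_iInter] at h ⊢
      exact SpecTop.exists_preimage_eq hF hFm hc hU
        (@isClopen_iInter_of_finite _ (constructibleTopology (F.obj i)) _ _ _
          fun l => SpecTop.isClopen_cons_of_compactOpen (hV l).1 (hV l).2) h

end Groth.Agent.S7538
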