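import Groth.Statements.S7539
import Groth.Agent.SpecTop.Basic
import Mathlib.Tactic.TFAE

set_option autoImplicit false
universe u
open SpecSp

namespace Groth.Agent.S7539

/-- For a subset W of a spectral space X, these five conditions coincide: (1) W can be written as an
intersection of constructible subsets and is stable under generalization; (2) W is quasi-compact and
stable under generalization; (3) for some quasi-compact E ⊆ X, W consists exactly of the points that
specialize to a point of E; (4) W is the intersection of some family of quasi-compact opens; (5)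
there are a nonempty index set I and quasi-compact opens U_i with W = ⋂ U_i such that for all i, j
some U_k is contained in U_i ∩ U_j. -/
theorem result {X : Type u} [TopologicalSpace X] [SpectralSpace X] (W : Set X) :
    List.TFAE [
      (∃ S : Set (Set X), (∀ s ∈ S, Topology.IsConstructible s) ∧ W = ⋂₀ S) ∧ StableUnderGeneralization W,
      IsCompact W ∧ StableUnderGeneralization W,
      ∃ E : Set X, IsCompact E ∧ W = {x | ∃ e ∈ E, x ⤳ e},
      ∃ S : Set (Set X), (∀ s ∈ S, IsOpen s ∧ IsCompact s) ∧ W = ⋂₀ S,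
      ∃ (I : Type u) (_ : Nonempty I) (U : I → Set X), (∀ i, IsOpen (U i) ∧ IsCompact (U i)) ∧
        W = ⋂ i, U i ∧ ∀ i j, ∃ k, U k ⊆ U i ∩ U j] := by
  tfae_have 1 → 2 := by
    rintro ⟨⟨S, hS, rfl⟩, hg⟩
    exact ⟨SpecTop.isCompact_of_isClosed_cons (@isClosed_sInter X (constructibleTopology X) S
      fun s hs => (SpecTop.isClopen_cons_of_isConstructible (hS s hs)).1), hg⟩
  tfae_have 2 → 3 := by
    rintro ⟨hc, hg⟩
    exact ⟨W, hc, Set.ext fun x => ⟨fun hx => ⟨x, hx, specializes_rfl⟩,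
      fun ⟨e, he, hxe⟩ => hg hxe he⟩⟩
  tfae_have 3 → 4 := by
    rintro ⟨E, hE, rfl⟩
    refine ⟨{U | (IsOpen U ∧ IsCompact U) ∧ E ⊆ U}, fun s hs => hs.1, subset_antisymm ?_ ?_⟩
    · rintro x ⟨e, he, hxe⟩ U hU
      exact hxe.mem_open hU.1.1 (hU.2 he)
    · intro x hx
      by_contra h
      have hsub : E ⊆ (closure ({x} : Set X))ᶜ := fun e he hec =>
        h ⟨e, he, specializes_iff_mem_closure.2 hec⟩
      obtain ⟨K, hKc, hKo, hEK, hKx⟩ := PrespectralSpace.exists_isCompact_and_isOpen_between hE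
        isClosed_closure.isOpen_compl hsub
      exact hKx (hx K ⟨⟨hKo, hKc⟩, hEK⟩) (subset_closure rfl)
  tfae_have 4 → 5 := by
    rintro ⟨S, hS, rfl⟩
    refine ⟨{U : Set X // (IsOpen U ∧ IsCompact U) ∧ ⋂₀ S ⊆ U},
      ⟨⟨Set.univ, ⟨isOpen_univ, isCompact_univ⟩, Set.subset_univ _⟩⟩, fun U => U.1, fun U => U.2.1,
      subset_antisymm (Set.subset_iInter fun U => U.2.2) ?_, ?_⟩
    · exact fun x hx s hs => Set.mem_iInter.1 hx ⟨s, hS s hs, Set.sInter_subset_of_mem hs⟩
    · exact fun U V => ⟨⟨U.1 ∩ V.1, ⟨U.2.1.1.inter V.2.1.1,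
        U.2.1.2.inter_of_isOpen V.2.1.2 U.2.1.1 V.2.1.1⟩, Set.subset_inter U.2.2 V.2.2⟩, subset_rfl⟩
  tfae_have 5 → 1 := by
    rintro ⟨I, _, U, hU, rfl, -⟩
    refine ⟨⟨Set.range U, ?_, by rw [Set.sInter_range]⟩, ?_⟩
    · rintro _ ⟨i, rfl⟩
      exact ((hU i).2.isRetrocompact (hU i).1).isConstructible (hU i).1
    · intro a b hba ha
      exact Set.mem_iInter.2 fun i => hba.mem_open (hU i).1 (Set.mem_iInter.1 ha i)
  tfae_finish

end Groth.Agent.S7539
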