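import Groth.Statements.S7540
import Groth.Agent.SpecTop.Basic

set_option autoImplicit false
universe u
open SpecSp

namespace Groth.Agent.S7540

/-- Let X be a spectral space, I a nonempty index set and U_i ⊆ X quasi-compact opens such that for all
i, j some U_k lies in U_i ∩ U_j; put W = ⋂ U_i. Then every open subset of X containing W contains
some U_i. The published statement also asserts that W is spectral and is the limit of the U_i; this
row states the neighbourhood property. -/
theorem result {X : Type u} [TopologicalSpace X] [SpectralSpace X]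
    {I : Type u} [Nonempty I] (U : I → Set X) (hU : ∀ i, IsOpen (U i) ∧ IsCompact (U i))
    (hdir : ∀ i j, ∃ k, U k ⊆ U i ∩ U j) :
    ∀ V : Set X, IsOpen V → (⋂ i, U i) ⊆ V → ∃ i, U i ⊆ V := by
  intro V hV hWV
  by_contra hne
  push Not at hne
  obtain ⟨i₀⟩ := (inferInstance : Nonempty I)
  have key : (Vᶜ ∩ ⋂ i, U i).Nonempty := by
    refine @IsCompact.inter_iInter_nonempty X (constructibleTopology X) Vᶜ I
      (SpecTop.isCompact_cons_of_isClosed (SpecTop.isClosed_cons_of_isClosed hV.isClosed_compl))
      U (fun i => SpecTop.isClosed_cons_of_compactOpen (hU i).1 (hU i).2) fun s => ?_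
    classical
    obtain ⟨k, hk⟩ : ∃ k, ∀ i ∈ s, U k ⊆ U i := by
      induction s using Finset.induction with
      | empty => exact ⟨i₀, fun i hi => by simp at hi⟩
      | insert a s _ ih =>
        obtain ⟨k, hk⟩ := ih
        obtain ⟨l, hl⟩ := hdir a k
        refine ⟨l, fun i hi => ?_⟩
        rcases Finset.mem_insert.1 hi with rfl | hi
        · exact hl.trans Set.inter_subset_left
        · exact (hl.trans Set.inter_subset_right).trans (hk i hi)
    obtain ⟨x, hx, hxV⟩ := Set.not_subset.1 (hne k)
    exact ⟨x, hxV, Set.mem_iInter₂.2 fun i hi => hk i hi hx⟩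
  obtain ⟨x, hxV, hx⟩ := key
  exact hxV (hWV hx)

end Groth.Agent.S7540
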