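import Groth.Statements.S7541
import Groth.Agent.SpecTop.Basic
import Groth.Agent.S7539

set_option autoImplicit false
universe u
open SpecSp

namespace Groth.Agent.S7541

/-- Let X be a spectral space, E ⊆ X a constructible subset and W the set of points of X that specialize
to a point of E. Then the subspace W minus E is a spectral space. (The description of W minus E as a
limit of the U_i minus E is not recorded here.) -/
theorem result {X : Type u} [TopologicalSpace X] [SpectralSpace X]
    (E : Set X) (hE : Topology.IsConstructible E) :
    SpectralSpace ↥({x : X | ∃ e ∈ E, x ⤳ e} \ E) := by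
  have h20 := (Groth.Agent.S7539.result {x : X | ∃ e ∈ E, x ⤳ e}).out 2 0
  have hW := h20.1 ⟨E, SpecTop.isCompact_of_isConstructible hE, rfl⟩
  obtain ⟨⟨S, hS, hWS⟩, -⟩ := hW
  apply SpecTop.spectralSpace_of_isClosed_cons
  refine @IsClosed.inter X _ _ (constructibleTopology X) ?_
    (@IsOpen.isClosed_compl X (constructibleTopology X) E (SpecTop.isClopen_cons_of_isConstructible hE).2)
  rw [hWS]
  exact @isClosed_sInter X (constructibleTopology X) S
    fun s hs => (SpecTop.isClopen_cons_of_isConstructible (hS s hs)).1

end Groth.Agent.S7541
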