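import Groth.Statements.S7544
import Groth.Agent.ConstrLib.Basic

set_option autoImplicit false
universe u
open ConstrTop

namespace Groth.Agent.S7544

open Set TopologicalSpace Groth.Agent.ConstrLib

/-- Let X be a quasi-compact topological space whose quasi-compact opens form a basis and are closed
under pairwise intersection. Take T ⊆ X to be locally closed, quasi-compact, and with retrocompact
complement. Then T is constructible in X. -/
theorem result {X : Type u} [TopologicalSpace X]
    [CompactSpace X] [PrespectralSpace X] [QuasiSeparatedSpace X]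
    (T : Set X) (hT : IsLocallyClosed T) (hTc : IsCompact T) (hTr : IsRetrocompact Tᶜ) :
    Topology.IsConstructible T := by
  obtain ⟨U, Z, hU, hZ, rfl⟩ := hT
  obtain ⟨W, hWo, hWc, hTW, hWU⟩ := exists_compact_open_between hTc hU inter_subset_left
  have h1 : IsCompact ((U ∩ Z)ᶜ ∩ W) := hTr hWc hWo
  have e : (U ∩ Z)ᶜ ∩ W = W ∩ Zᶜ := by
    ext a
    exact ⟨fun ⟨h, h'⟩ => ⟨h', fun hz => h ⟨hWU h', hz⟩⟩, fun ⟨h, h'⟩ => ⟨fun hz => h' hz.2, h⟩⟩
  rw [e] at h1
  have h2 := (hWc.isConstructible hWo).sdiff (h1.isConstructible (hWo.inter hZ.isOpen_compl))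
  convert! h2 using 1
  ext a
  exact ⟨fun h => ⟨hTW h, fun h' => h'.2 h.2⟩,
    fun ⟨h, h'⟩ => ⟨hWU h, by_contra fun hz => h' ⟨h, hz⟩⟩⟩

end Groth.Agent.S7544
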