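import Groth.Statements.S7546
import Groth.Agent.ConstrLib.Basic

set_option autoImplicit false
universe u
open ConstrTop

namespace Groth.Agent.S7546

open Set TopologicalSpace Groth.Agent.ConstrLib

/-- Let X be a topological space, Z ⊆ X irreducible and E ⊆ X a finite union of locally closed subsets
(for instance a constructible set). Then E ∩ Z is dense in Z if and only if E ∩ Z contains a subset
of the form U ∩ Z, U open in X, which is dense in Z. If moreover ξ ∈ Z is a generic point of Z,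
these conditions are equivalent to ξ ∈ E. -/
theorem result {X : Type u} [TopologicalSpace X] (Z : Set X) (hZ : IsIrreducible Z)
    {n : ℕ} (L : Fin n → Set X) (hL : ∀ i, IsLocallyClosed (L i)) (E : Set X) (hE : E = ⋃ i, L i) :
    (Z ⊆ closure (E ∩ Z) ↔ ∃ U : Set X, IsOpen U ∧ U ∩ Z ⊆ E ∧ Z ⊆ closure (U ∩ Z)) ∧
    (∀ ξ : X, ξ ∈ Z → Z ⊆ closure {ξ} → (Z ⊆ closure (E ∩ Z) ↔ ξ ∈ E)) := by
  have hS : E = ⋃₀ Set.range L := by rw [hE, sUnion_range]
  have h1 : Z ⊆ closure (E ∩ Z) → ∃ U : Set X, IsOpen U ∧ (U ∩ Z).Nonempty ∧ U ∩ Z ⊆ E :=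
    exists_open_subset_of_dense hZ (finite_range L) (by rintro _ ⟨i, rfl⟩; exact hL i) hS
  refine ⟨⟨fun hd => ?_, fun ⟨U, _, hsub, hd⟩ => hd.trans (closure_mono ?_)⟩, fun ξ hξ hgen => ⟨fun hd => ?_, fun hξE => hgen.trans (closure_mono (singleton_subset_iff.2 ⟨hξE, hξ⟩))⟩⟩
  · obtain ⟨U, hU, hne, hsub⟩ := h1 hd
    exact ⟨U, hU, hsub, subset_closure_of_open_subset hZ.2 hU hne subset_rfl |>.trans
      (closure_mono fun a ha => ha.1)⟩
  · exact fun a ha => ⟨hsub ha, ha.2⟩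
  · obtain ⟨U, hU, hne, hsub⟩ := h1 hd
    exact hsub ⟨mem_of_generic hU hne hgen, hξ⟩

end Groth.Agent.S7546
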