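import Groth.Statements.S7547
-- import your own Groth.Agent.* helpers here

set_option autoImplicit false
universe u
open PtTop

namespace Groth.Agent.S7547

open Topology

/-- Let X be a Kolmogorov topological space whose quasi-compact opens form a basis for the topology. If
X is not Jacobson, there is a point x ∈ X which is not closed but such that {x} is locally closed. -/
theorem result {X : Type u} [TopologicalSpace X]
    [T0Space X] [PrespectralSpace X] (hX : ¬ JacobsonSpace X) :
    ∃ x : X, ¬ IsClosed ({x} : Set X) ∧ IsLocallyClosed ({x} : Set X) := by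
  rw [jacobsonSpace_iff_locallyClosed] at hX
  push_neg at hX
  obtain ⟨Z, ⟨x, hx⟩, hZ, hZe⟩ := hX
  obtain ⟨O, C, hO, hC, rfl⟩ := hZ
  obtain ⟨U, ⟨hUo, hUc⟩, hxU, hUO⟩ :=
    PrespectralSpace.isTopologicalBasis.exists_subset_of_mem_open hx.1 hO
  have : CompactSpace U := isCompact_iff_compactSpace.mp hUc
  have hS : IsClosed ((Subtype.val : U → X) ⁻¹' C) := hC.preimage continuous_subtype_val
  obtain ⟨y, hy, hyc⟩ := hS.exists_closed_singleton ⟨⟨x, hxU⟩, hx.2⟩
  refine ⟨y, fun h => ?_, ?_⟩
  · exact (Set.eq_empty_iff_forall_notMem.mp hZe y.1) ⟨⟨hUO y.2, hy⟩, h⟩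
  · have := hyc.isLocallyClosed.image IsInducing.subtypeVal (f := (Subtype.val : U → X))
      (by simpa using hUo.isLocallyClosed)
    simpa using this

end Groth.Agent.S7547
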