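import Groth.Statements.S7548
-- import your own Groth.Agent.* helpers here

set_option autoImplicit false
universe u
open PtTop

namespace Groth.Agent.S7548

/-- Let X be a Jacobson space and let T = ⋃ T_i be a union of subsets T_i ⊆ X each locally closed in X
(open, closed, locally closed and constructible subsets are of this form). Then T is Jacobson and
every point of T closed in T is closed in X. -/
theorem result {X : Type u} [TopologicalSpace X] [JacobsonSpace X]
    {ι : Type u} (T : ι → Set X) (hT : ∀ i, IsLocallyClosed (T i)) :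
    JacobsonSpace ↥(⋃ i, T i) ∧
      closedPoints ↥(⋃ i, T i) ⊆ (Subtype.val : ↥(⋃ i, T i) → X) ⁻¹' closedPoints X := by
  set U := ⋃ i, T i
  have key : ∀ (i : ι) (Z : Set X), IsLocallyClosed Z → (T i ∩ Z).Nonempty →
      ∃ y, y ∈ T i ∩ Z ∧ IsClosed ({y} : Set X) := fun i Z hZ hne =>
    nonempty_inter_closedPoints hne ((hT i).inter hZ)
  refine ⟨jacobsonSpace_iff_locallyClosed.mpr ?_, ?_⟩
  · rintro Z ⟨x, hx⟩ ⟨O, C, hO, hC, rfl⟩
    obtain ⟨O', hO', rfl⟩ := isOpen_induced_iff.mp hO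
    obtain ⟨C', hC', rfl⟩ := isClosed_induced_iff.mp hC
    obtain ⟨i, hi⟩ := Set.mem_iUnion.mp x.2
    obtain ⟨y, ⟨hyi, hy⟩, hyc⟩ := key i (O' ∩ C') ⟨O', C', hO', hC', rfl⟩ ⟨x.1, hi, hx⟩
    refine ⟨⟨y, Set.mem_iUnion.mpr ⟨i, hyi⟩⟩, hy, ?_⟩
    rw [mem_closedPoints_iff]
    convert! hyc.preimage (continuous_subtype_val (p := (· ∈ U)))
    ext z; simp [Subtype.ext_iff]
  · intro y hy
    obtain ⟨i, hi⟩ := Set.mem_iUnion.mp y.2
    obtain ⟨C', hC', hC⟩ := isClosed_induced_iff.mp (mem_closedPoints_iff.mp hy)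
    have hyC : y.1 ∈ C' := by
      have : y ∈ (Subtype.val ⁻¹' C' : Set U) := by rw [hC]; exact rfl
      exact this
    obtain ⟨z, ⟨hzi, hz⟩, hzc⟩ := key i C' hC'.isLocallyClosed ⟨y.1, hi, hyC⟩
    have hzy : (⟨z, Set.mem_iUnion.mpr ⟨i, hzi⟩⟩ : U) ∈ ({y} : Set U) := by rw [← hC]; exact hz
    rw [Set.mem_preimage, mem_closedPoints_iff]
    rw [← show z = y.1 from congrArg Subtype.val (Set.mem_singleton_iff.mp hzy)]
    exact hzc

end Groth.Agent.S7548
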