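import Groth.Statements.S7549
-- import your own Groth.Agent.* helpers here

set_option autoImplicit false
universe u
open PtTop

namespace Groth.Agent.S7549

/-- Let X be a Jacobson space and X₀ ⊆ X the subspace of closed points. (a) For U ⊆ X open, U is
quasi-compact if and only if U ∩ X₀ is quasi-compact, and U is retrocompact in X if and only if U ∩
X₀ is retrocompact in X₀. (b) The rule E ↦ E ∩ X₀ is an inclusion-preserving and
inclusion-reflecting bijection between the constructible subsets of X and the constructible subsets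
of X₀. -/
theorem result {X : Type u} [TopologicalSpace X] [JacobsonSpace X] :
    (∀ U : Set X, IsOpen U →
      (IsCompact U ↔ IsCompact ((Subtype.val : closedPoints X → X) ⁻¹' U)) ∧
      (IsRetrocompact U ↔ IsRetrocompact ((Subtype.val : closedPoints X → X) ⁻¹' U))) ∧
    (∀ E : Set X, Topology.IsConstructible E →
      Topology.IsConstructible ((Subtype.val : closedPoints X → X) ⁻¹' E)) ∧
    (∀ E E' : Set X, Topology.IsConstructible E → Topology.IsConstructible E' →
      ((Subtype.val : closedPoints X → X) ⁻¹' E ⊆ Subtype.val ⁻¹' E' ↔ E ⊆ E')) ∧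
    (∀ F : Set (closedPoints X), Topology.IsConstructible F →
      ∃ E : Set X, Topology.IsConstructible E ∧ (Subtype.val : closedPoints X → X) ⁻¹' E = F) := by
  -- opens are detected by their closed points
  have hdet : ∀ O O' : Set X, IsOpen O → IsOpen O' →
      ((Subtype.val : closedPoints X → X) ⁻¹' O ⊆ Subtype.val ⁻¹' O') → O ⊆ O' := by
    intro O O' hO hO' h x hx
    by_contra hx'
    obtain ⟨y, ⟨hy1, hy2⟩, hy⟩ := nonempty_inter_closedPoints (Z := O ∩ O'ᶜ) ⟨x, hx, hx'⟩
      (hO.isLocallyClosed.inter hO'.isClosed_compl.isLocallyClosed)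
    exact hy2 (h (show (⟨y, hy⟩ : closedPoints X) ∈ Subtype.val ⁻¹' O from hy1))
  have hcpt : ∀ U : Set X, IsOpen U →
      (IsCompact U ↔ IsCompact ((Subtype.val : closedPoints X → X) ⁻¹' U)) := by
    intro U hU
    constructor
    · intro h
      refine isCompact_of_finite_subcover fun {ι} W hW hUW => ?_
      choose V hV hVW using fun i => isOpen_induced_iff.mp (hW i)
      obtain ⟨t, ht⟩ := h.elim_finite_subcover V hV (hdet U _ hU (isOpen_iUnion hV) (by
        rw [Set.preimage_iUnion]; simp only [hVW]; exact hUW))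
      refine ⟨t, ?_⟩
      simp only [← hVW, ← Set.preimage_iUnion₂]
      exact Set.preimage_mono ht
    · intro h
      refine isCompact_of_finite_subcover fun {ι} W hW hUW => ?_
      obtain ⟨t, ht⟩ := h.elim_finite_subcover (fun i => Subtype.val ⁻¹' W i)
        (fun i => (hW i).preimage continuous_subtype_val)
        (by rw [← Set.preimage_iUnion]; exact Set.preimage_mono hUW)
      refine ⟨t, hdet U _ hU (isOpen_biUnion fun i _ => hW i) ?_⟩
      rw [Set.preimage_iUnion₂]; exact ht
  have hretro : ∀ U : Set X, IsOpen U →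
      (IsRetrocompact U ↔ IsRetrocompact ((Subtype.val : closedPoints X → X) ⁻¹' U)) := by
    intro U hU
    constructor
    · intro h V hVc hVo
      obtain ⟨V', hV', rfl⟩ := isOpen_induced_iff.mp hVo
      exact (hcpt _ (hU.inter hV')).mp (h ((hcpt _ hV').mpr hVc) hV')
    · intro h V hVc hVo
      exact (hcpt _ (hU.inter hVo)).mpr
        (h ((hcpt _ hVo).mp hVc) (hVo.preimage continuous_subtype_val))
  have hloc : ∀ E : Set X, Topology.IsConstructible E → ∀ x : X, ∃ L : Set X,
      IsLocallyClosed L ∧ x ∈ L ∧ (L ⊆ E ∨ L ⊆ Eᶜ) := by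
    intro E hE
    induction hE using Topology.IsConstructible.empty_union_induction with
    | open_retrocompact U hUo hUc =>
      intro x
      by_cases hx : x ∈ U
      · exact ⟨U, hUo.isLocallyClosed, hx, Or.inl subset_rfl⟩
      · exact ⟨Uᶜ, hUo.isClosed_compl.isLocallyClosed, hx, Or.inr subset_rfl⟩
    | union s hs t ht ihs iht =>
      intro x
      obtain ⟨L, hL, hxL, h⟩ := ihs x
      obtain ⟨M, hM, hxM, h'⟩ := iht x
      refine ⟨L ∩ M, hL.inter hM, ⟨hxL, hxM⟩, ?_⟩
      rcases h with h | h
      · exact Or.inl fun y hy => Or.inl (h hy.1)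
      rcases h' with h' | h'
      · exact Or.inl fun y hy => Or.inr (h' hy.2)
      · exact Or.inr fun y hy hyE => hyE.elim (h hy.1) (h' hy.2)
    | compl s hs ih =>
      intro x
      obtain ⟨L, hL, hxL, h⟩ := ih x
      exact ⟨L, hL, hxL, (compl_compl s).symm ▸ h.symm⟩
  refine ⟨fun U hU => ⟨hcpt U hU, hretro U hU⟩, fun E hE => ?_, fun E E' hE hE' => ⟨fun h x hx => ?_,
    fun h => Set.preimage_mono h⟩, fun F hF => ?_⟩
  · induction hE using Topology.IsConstructible.empty_union_induction with
    | open_retrocompact U hUo hUc =>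
      exact ((hretro U hUo).mp hUc).isConstructible (hUo.preimage continuous_subtype_val)
    | union s hs t ht ihs iht => exact ihs.union iht
    | compl s hs ih => exact ih.compl
  · by_contra hx'
    obtain ⟨L, hL, hxL, hLE⟩ := hloc (E \ E') (hE.sdiff hE') x
    rcases hLE with hLE | hLE
    · obtain ⟨y, hy, hyc⟩ := nonempty_inter_closedPoints ⟨x, hxL⟩ hL
      exact (hLE hy).2 (h (show (⟨y, hyc⟩ : closedPoints X) ∈ Subtype.val ⁻¹' E from (hLE hy).1))
    · exact hLE hxL ⟨hx, hx'⟩
  · induction hF using Topology.IsConstructible.empty_union_induction with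
    | open_retrocompact U hUo hUc =>
      obtain ⟨U', hU', rfl⟩ := isOpen_induced_iff.mp hUo
      exact ⟨U', ((hretro U' hU').mpr hUc).isConstructible hU', rfl⟩
    | union s hs t ht ihs iht =>
      obtain ⟨A, hA, rfl⟩ := ihs
      obtain ⟨B, hB, rfl⟩ := iht
      exact ⟨A ∪ B, hA.union hB, rfl⟩
    | compl s hs ih =>
      obtain ⟨A, hA, rfl⟩ := ih
      exact ⟨Aᶜ, hA.compl, rfl⟩

end Groth.Agent.S7549
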