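import Groth.Statements.S7550
-- import your own Groth.Agent.* helpers here

set_option autoImplicit false
universe u
open PtTop

namespace Groth.Agent.S7550

/-- Let f : X → Y be a continuous and open map of topological spaces, with X Noetherian, every
irreducible closed subset of X having a generic point, and Y Kolmogorov. Then generalizations lift
along f. (Part (1), closed maps are specializing, is a library fact.) -/
theorem result {X Y : Type u} [TopologicalSpace X] [TopologicalSpace Y]
    [TopologicalSpace.NoetherianSpace X] [QuasiSober X] [T0Space Y]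
    (f : X → Y) (hf : Continuous f) (hfo : IsOpenMap f) :
    GeneralizingMap f := by
  intro x y' hy
  set Z := f ⁻¹' closure {y'}
  have hZ : IsClosed Z := isClosed_closure.preimage hf
  obtain ⟨F, hF, hFZ⟩ := TopologicalSpace.NoetherianSpace.exists_finite_set_isClosed_irreducible hZ
  have hxZ : x ∈ Z := hy.mem_closure
  let B : Set X := ⋃ t ∈ {t ∈ F | x ∉ t}, t
  have hB : IsClosed B := (hF.subset (Set.sep_subset _ _)).isClosed_biUnion
    fun t ht => (hFZ.1 t ht.1)
  have hxB : x ∉ B := by simp [B]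
  have h1 : f x ∈ f '' Bᶜ := ⟨x, hxB, rfl⟩
  obtain ⟨u, hu, hfu⟩ := hy.mem_open (hfo _ hB.isOpen_compl) h1
  have huZ : u ∈ Z := by simpa [Z, hfu] using subset_closure (Set.mem_singleton y')
  rw [hFZ.2.2] at huZ
  obtain ⟨t, ht, hut⟩ := Set.mem_sUnion.mp huZ
  have hxt : x ∈ t := by
    by_contra h
    exact hu (Set.mem_biUnion (show t ∈ {t ∈ F | x ∉ t} from ⟨ht, h⟩) hut)
  have hgen := (hFZ.2.1 t ht).isGenericPoint_genericPoint (hFZ.1 t ht)
  refine ⟨(hFZ.2.1 t ht).genericPoint, hgen.specializes hxt, ?_⟩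
  have hgZ : (hFZ.2.1 t ht).genericPoint ∈ Z := by
    exact (Set.ext_iff.mp hFZ.2.2 _).mpr (Set.mem_sUnion.mpr ⟨t, ht, hgen.mem⟩)
  have h2 : y' ⤳ f _ := specializes_iff_mem_closure.mpr hgZ
  have h3 : f _ ⤳ y' := hfu ▸ (hgen.specializes hut).map hf
  exact (h3.antisymm h2).eq

end Groth.Agent.S7550
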