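import Groth.Statements.S7551
-- import your own Groth.Agent.* helpers here

set_option autoImplicit false
universe u
open PtTop

namespace Groth.Agent.S7551

/-- Let s, t : R → U and π : U → X be continuous maps between topological spaces satisfying: (1) π is an
open map, (2) U is a sober space, (3) s and t have finite fibres, (4) generalizations lift along s
and along t, and (5) the image of (t, s) : R → U × U is an equivalence relation on U and π
identifies X, as a set, with the quotient of U by it. Then X is Kolmogorov. -/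
theorem result {R U X : Type u}
    [TopologicalSpace R] [TopologicalSpace U] [TopologicalSpace X] [QuasiSober U] [T0Space U]
    (s t : R → U) (π : U → X) (hs : Continuous s) (ht : Continuous t) (hπ : Continuous π)
    (hπo : IsOpenMap π) (hsf : ∀ u, (s ⁻¹' {u}).Finite) (htf : ∀ u, (t ⁻¹' {u}).Finite)
    (hsg : GeneralizingMap s) (htg : GeneralizingMap t)
    (hE : Equivalence fun u u' : U => ∃ r, t r = u ∧ s r = u')
    (hπs : Function.Surjective π) (hπq : ∀ u u' : U, π u = π u' ↔ ∃ r, t r = u ∧ s r = u') :
    T0Space X := by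
  constructor
  intro p q hpq
  obtain ⟨u, rfl⟩ := hπs p
  obtain ⟨u', rfl⟩ := hπs q
  have hfin : ∀ a : U, {b : U | π b = π a}.Finite := fun a =>
    ((hsf a).image t).subset fun b hb => by
      obtain ⟨r, h1, h2⟩ := (hπq b a).mp hb
      exact ⟨r, h2, h1⟩
  -- generalizations
  have hclass : ∀ a b : U, π a ⤳ π b → ∃ v, π v = π a ∧ v ⤳ b := by
    intro a b hab
    have : b ∈ closure {v : U | π v = π a} := by
      rw [mem_closure_iff]
      intro O hO hbO
      obtain ⟨v, hv, hva⟩ := hab.mem_open (hπo O hO) ⟨b, hbO, rfl⟩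
      exact ⟨v, hv, hva⟩
    rw [← Set.biUnion_of_singleton {v : U | π v = π a}, (hfin a).closure_biUnion] at this
    obtain ⟨v, hv, hvb⟩ := Set.mem_iUnion₂.mp this
    exact ⟨v, hv, specializes_iff_mem_closure.mpr hvb⟩
  obtain ⟨v, hv, hvu'⟩ := hclass u u' hpq.specializes
  obtain ⟨v', hv', hvu⟩ := hclass u' u hpq.specializes'
  -- every point of one class has a generalization in the other one
  have hgen : ∀ a b : U, π a ⤳ π b → ∀ c, π c = π b → ∃ d, π d = π a ∧ d ⤳ c := by
    intro a b hab c hc
    exact hclass a c (hc ▸ hab)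
  have hFfin : ({b : U | π b = π u} ∪ {b : U | π b = π u'}).Finite := (hfin u).union (hfin u')
  letI : PartialOrder U := specializationOrder U
  obtain ⟨m, hm⟩ := hFfin.exists_maximal ⟨u, Or.inl rfl⟩
  rcases hm.prop with h | h
  · obtain ⟨d, hd, hdm⟩ := hgen u' u hpq.specializes' m h
    have hmd : m = d := le_antisymm hdm (hm.le_of_ge (Or.inr hd) hdm)
    rw [← h, hmd, hd]
  · obtain ⟨d, hd, hdm⟩ := hgen u u' hpq.specializes m h
    have hmd : m = d := le_antisymm hdm (hm.le_of_ge (Or.inl hd) hdm)
    rw [← h, hmd, hd]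

end Groth.Agent.S7551
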