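import Groth.Statements.S7556
import Groth.Agent.S7555
-- import your own Groth.Agent.* helpers here

set_option autoImplicit false
universe u
open PtTop

namespace Groth.Agent.S7556

/-- `X` with the discrete topology -/
def WithTopDiscrete (X : Type u) : Type u := X

/-- the underlying point -/
def toX (X : Type u) : WithTopDiscrete X → X := fun x => x

instance (X : Type u) : TopologicalSpace (WithTopDiscrete X) := ⊥
instance (X : Type u) : DiscreteTopology (WithTopDiscrete X) := ⟨rfl⟩


/-- Let X be a quasi-compact Hausdorff space. There is a continuous surjection p : X' → X with X'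
quasi-compact, Hausdorff and extremally disconnected such that no proper closed subset of X' maps
onto X; and if q : X'' → X is a second cover with the same properties, there is a homeomorphism X' ≃
X'' compatible with p and q. -/
theorem result (X : Type u) [TopologicalSpace X] [CompactSpace X] [T2Space X] :
    (∃ (X' : Type u) (_ : TopologicalSpace X') (_ : CompactSpace X') (_ : T2Space X') (_ : ExtremallyDisconnected X')
        (p : X' → X), Continuous p ∧ Function.Surjective p ∧
        ∀ E : Set X', IsClosed E → E ≠ Set.univ → p '' E ≠ Set.univ) ∧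
    (∀ (X' X'' : Type u) [TopologicalSpace X'] [CompactSpace X'] [T2Space X'] [ExtremallyDisconnected X']
        [TopologicalSpace X''] [CompactSpace X''] [T2Space X''] [ExtremallyDisconnected X'']
        (p : X' → X) (q : X'' → X),
        Continuous p → Function.Surjective p → (∀ E : Set X', IsClosed E → E ≠ Set.univ → p '' E ≠ Set.univ) →
        Continuous q → Function.Surjective q → (∀ E : Set X'', IsClosed E → E ≠ Set.univ → q '' E ≠ Set.univ) →
        ∃ h : X' ≃ₜ X'', q ∘ h = p) := by
  constructor
  · -- existence: a minimal closed subset of a projective cover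
    let π : StoneCech (WithTopDiscrete X) → X :=
      stoneCechExtend (g := toX X) continuous_of_discreteTopology
    have hπ : Continuous π := continuous_stoneCechExtend _
    have hπs : Function.Surjective π := fun x =>
      ⟨stoneCechUnit (α := WithTopDiscrete X) x, congrFun (stoneCechExtend_extends
        (g := toX X) continuous_of_discreteTopology) x⟩
    obtain ⟨E, hEc, hEs, hEmin⟩ := exists_compact_surjective_zorn_subset hπ hπs
    haveI := hEc
    let ρ : E → X := E.domRestrict π
    have hρ : Continuous ρ := hπ.continuousOn.domRestrict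
    have hρs : Function.Surjective ρ := fun x => by
      obtain ⟨e, he, rfl⟩ := (hEs ▸ Set.mem_univ x : x ∈ π '' E)
      exact ⟨⟨e, he⟩, rfl⟩
    -- a lift of `π` to `E` restricts to the identity
    obtain ⟨h, hh, hcomp⟩ := StoneCech.projective (X := WithTopDiscrete X) hπ hρ hρs
    let r : E → E := fun e => h e.1
    have hr : Continuous r := hh.comp continuous_subtype_val
    have hρr : ∀ e, ρ (r e) = ρ e := fun e => congrFun hcomp e.1
    have hrs : Function.Surjective r := by
      rw [← Set.range_eq_univ]
      by_contra hne
      refine hEmin _ hne (isCompact_range hr).isClosed ?_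
      refine Set.eq_univ_iff_forall.mpr fun x => ?_
      obtain ⟨e, rfl⟩ := hρs x
      exact ⟨r e, ⟨e, rfl⟩, hρr e⟩
    have hid : r = id := by
      by_contra hne
      obtain ⟨E0, hE0c, hE0, hE0u⟩ := S7555.result r hr hrs hne
      refine hEmin E0 hE0 hE0c (Set.eq_univ_iff_forall.mpr fun x => ?_)
      obtain ⟨e, rfl⟩ := hρs x
      rcases (Set.eq_univ_iff_forall.mp hE0u e) with he | ⟨e', he', rfl⟩
      · exact ⟨e, he, rfl⟩
      · exact ⟨e', he', (hρr e').symm⟩
    have hproj : CompactT2.Projective E := by
      intro Y Z _ _ _ _ _ _ f g hf hg hgs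
      obtain ⟨k, hk, hk'⟩ := StoneCech.projective (X := WithTopDiscrete X) (hf.comp hh) hg hgs
      refine ⟨fun e => k e.1, hk.comp continuous_subtype_val, funext fun e => ?_⟩
      exact (congrFun hk' e.1).trans (congrArg f (congrFun hid e))
    exact ⟨E, inferInstance, inferInstance, inferInstance, hproj.extremallyDisconnected, ρ, hρ, hρs,
      fun E0 hc hne => hEmin E0 hne hc⟩
  · intro X' X'' _ _ _ _ _ _ _ _ p q hp hps hpm hq hqs hqm
    obtain ⟨h, hh, hcomp⟩ := CompactT2.ExtremallyDisconnected.projective (A := X') hp hq hqs
    have hsurj : Function.Surjective h := by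
      rw [← Set.range_eq_univ]
      by_contra hne
      refine hqm _ (isCompact_range hh).isClosed hne (Set.eq_univ_iff_forall.mpr fun x => ?_)
      obtain ⟨y, rfl⟩ := hps x
      exact ⟨h y, ⟨y, rfl⟩, congrFun hcomp y⟩
    refine ⟨ExtremallyDisconnected.homeoCompactToT2 hh hsurj fun E0 hne hc himg => ?_, hcomp⟩
    refine hpm E0 hc hne (Set.eq_univ_iff_forall.mpr fun x => ?_)
    obtain ⟨z, rfl⟩ := hqs x
    obtain ⟨y, hy, rfl⟩ := (himg ▸ Set.mem_univ z : z ∈ h '' E0)
    exact ⟨y, hy, (congrFun hcomp y).symm⟩

end Groth.Agent.S7556
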