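import Groth.Statements.S7557
import Mathlib.Topology.Category.TopCat.Limits.Basic
import Mathlib.Algebra.Category.Ring.Limits
import Mathlib.Algebra.Category.Ring.Colimits
-- import your own Groth.Agent.* helpers here

set_option autoImplicit false
universe u
open CategoryTheory CategoryTheory.Limits
open PtTop

namespace Groth.Agent.S7557

instance : (forget₂ TopCommRingCat.{u} CommRingCat.{u}).Faithful where
  map_injective h := Subtype.ext (congrArg CommRingCat.Hom.hom h)


/-- The category of topological rings (commutative, with continuous ring homomorphisms) has limits, and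
limits commute with the forgetful functors to topological spaces and to rings. -/
theorem result :
    HasLimits TopCommRingCat.{u} ∧
    PreservesLimits (forget₂ TopCommRingCat.{u} TopCat.{u}) ∧
    PreservesLimits (forget₂ TopCommRingCat.{u} CommRingCat.{u}) := by
  have key : ∀ (J : Type u) (_ : SmallCategory J) (F : J ⥤ TopCommRingCat.{u}),
      ∃ (c : Cone F) (_ : IsLimit c),
        Nonempty (IsLimit ((forget₂ TopCommRingCat.{u} TopCat.{u}).mapCone c)) ∧
        Nonempty (IsLimit ((forget₂ TopCommRingCat.{u} CommRingCat.{u}).mapCone c)) := by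
    intro J _ F
    let cR := limit.cone (F ⋙ forget₂ TopCommRingCat.{u} CommRingCat.{u})
    let hcR : IsLimit cR := limit.isLimit _
    let π : ∀ j, cR.pt →+* F.obj j := fun j => (cR.π.app j).hom
    letI tp : TopologicalSpace cR.pt := ⨅ j, (F.obj j).isTopologicalSpace.induced (π j)
    haveI : IsTopologicalRing cR.pt :=
      { toContinuousAdd := continuousAdd_iInf fun j => continuousAdd_induced (π j)
        toContinuousMul := continuousMul_iInf fun j => continuousMul_induced (π j)
        toContinuousNeg := continuousNeg_iInf fun j => by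
          letI := (F.obj j).isTopologicalSpace.induced (π j)
          exact (topologicalAddGroup_induced (π j)).toContinuousNeg }
    let c : Cone F :=
      { pt := TopCommRingCat.of cR.pt
        π :=
          { app := fun j => ⟨π j, continuous_iff_le_induced.mpr (iInf_le _ j)⟩
            naturality := fun i j f => (forget₂ TopCommRingCat.{u} CommRingCat.{u}).map_injective
              (cR.π.naturality f) } }
    have hcont : ∀ (s : Cone F) (g : s.pt →+* cR.pt),
        (∀ j, (π j).comp g = (s.π.app j).1) → Continuous g := by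
      intro s g hg
      refine continuous_iInf_rng.mpr fun j => continuous_induced_rng.mpr ?_
      convert! (s.π.app j).2
      exact funext fun x => RingHom.congr_fun (hg j) x
    let L : ∀ s : Cone F, s.pt ⟶ c.pt := fun s =>
      ⟨(hcR.lift ((forget₂ TopCommRingCat.{u} CommRingCat.{u}).mapCone s)).hom, hcont s _ fun j =>
        congrArg CommRingCat.Hom.hom
          (hcR.fac ((forget₂ TopCommRingCat.{u} CommRingCat.{u}).mapCone s) j)⟩
    refine ⟨c, ⟨L, fun s j => (forget₂ TopCommRingCat.{u} CommRingCat.{u}).map_injective
      (hcR.fac ((forget₂ TopCommRingCat.{u} CommRingCat.{u}).mapCone s) j),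
      fun s m hm => (forget₂ TopCommRingCat.{u} CommRingCat.{u}).map_injective
        (hcR.uniq ((forget₂ TopCommRingCat.{u} CommRingCat.{u}).mapCone s) _ fun j =>
          congrArg (forget₂ TopCommRingCat.{u} CommRingCat.{u}).map (hm j))⟩, ?_, ⟨?_⟩⟩
    · exact (TopCat.nonempty_isLimit_iff_eq_induced ((forget₂ TopCommRingCat.{u} TopCat.{u}).mapCone c)
        (isLimitOfPreserves (forget CommRingCat.{u}) hcR)).mpr rfl
    · exact IsLimit.ofIsoLimit hcR (Cone.ext (Iso.refl _) fun j => rfl)
  refine ⟨⟨fun J _ => ⟨fun F => ?_⟩⟩, ⟨fun {J} _ => ⟨fun {F} => ?_⟩⟩, ⟨fun {J} _ => ⟨fun {F} => ?_⟩⟩⟩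
  · obtain ⟨c, hc, -⟩ := key J _ F
    exact ⟨⟨c, hc⟩⟩
  · obtain ⟨c, hc, ⟨h⟩, -⟩ := key J _ F
    exact preservesLimit_of_preserves_limit_cone hc h
  · obtain ⟨c, hc, -, ⟨h⟩⟩ := key J _ F
    exact preservesLimit_of_preserves_limit_cone hc h

end Groth.Agent.S7557
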