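import Groth.Statements.S7558
import Mathlib.Topology.Algebra.Ring.Basic
import Mathlib.Algebra.Category.Ring.Colimits
-- import your own Groth.Agent.* helpers here

set_option autoImplicit false
universe u
open CategoryTheory CategoryTheory.Limits
open PtTop

namespace Groth.Agent.S7558

instance : (forget₂ TopCommRingCat.{u} CommRingCat.{u}).Faithful where
  map_injective h := Subtype.ext (congrArg CommRingCat.Hom.hom h)


/-- The category of topological rings (commutative, with continuous ring homomorphisms) has colimits,
and colimits commute with the forgetful functor to rings. -/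
theorem result :
    HasColimits TopCommRingCat.{u} ∧
    PreservesColimits (forget₂ TopCommRingCat.{u} CommRingCat.{u}) := by
  have key : ∀ (J : Type u) (_ : SmallCategory J) (F : J ⥤ TopCommRingCat.{u}),
      ∃ (c : Cocone F) (_ : IsColimit c),
        Nonempty (IsColimit ((forget₂ TopCommRingCat.{u} CommRingCat.{u}).mapCocone c)) := by
    intro J _ F
    let cR := colimit.cocone (F ⋙ forget₂ TopCommRingCat.{u} CommRingCat.{u})
    let hcR : IsColimit cR := colimit.isColimit _
    let ι : ∀ j, F.obj j →+* cR.pt := fun j => (cR.ι.app j).hom
    -- the finest ring topology making all the maps from the diagram continuous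
    let S : Set (RingTopology cR.pt) :=
      {t | ∀ j, @Continuous _ _ (F.obj j).isTopologicalSpace t.toTopologicalSpace (ι j)}
    let tS : RingTopology cR.pt := sInf S
    letI tp : TopologicalSpace cR.pt := tS.toTopologicalSpace
    haveI : IsTopologicalRing cR.pt := tS.toIsTopologicalRing
    let c : Cocone F :=
      { pt := TopCommRingCat.of cR.pt
        ι :=
          { app := fun j => ⟨ι j, continuous_sInf_rng.mpr (Set.forall_mem_image.mpr fun t ht => ht j)⟩
            naturality := fun i j f => (forget₂ TopCommRingCat.{u} CommRingCat.{u}).map_injective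
              (cR.ι.naturality f) } }
    have hcont : ∀ (s : Cocone F) (g : cR.pt →+* s.pt),
        (∀ j, g.comp (ι j) = (s.ι.app j).1) → Continuous g := by
      intro s g hg
      let tg : RingTopology cR.pt :=
        letI := s.pt.isTopologicalSpace.induced g
        haveI := topologicalAddGroup_induced g
        { toTopologicalSpace := s.pt.isTopologicalSpace.induced g
          toIsTopologicalRing :=
            { toContinuousAdd := continuousAdd_induced g
              toContinuousMul := continuousMul_induced g
              toContinuousNeg := IsTopologicalAddGroup.toContinuousNeg } }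
      have hmem : tg ∈ S := fun j => continuous_induced_rng.mpr (by
        convert! (s.ι.app j).2
        exact funext fun x => RingHom.congr_fun (hg j) x)
      exact continuous_iff_le_induced.mpr (sInf_le (α := RingTopology cR.pt) hmem)
    let L : ∀ s : Cocone F, c.pt ⟶ s.pt := fun s =>
      ⟨(hcR.desc ((forget₂ TopCommRingCat.{u} CommRingCat.{u}).mapCocone s)).hom, hcont s _ fun j =>
        congrArg CommRingCat.Hom.hom
          (hcR.fac ((forget₂ TopCommRingCat.{u} CommRingCat.{u}).mapCocone s) j)⟩
    exact ⟨c, ⟨L, fun s j => (forget₂ TopCommRingCat.{u} CommRingCat.{u}).map_injective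
      (hcR.fac ((forget₂ TopCommRingCat.{u} CommRingCat.{u}).mapCocone s) j),
      fun s m hm => (forget₂ TopCommRingCat.{u} CommRingCat.{u}).map_injective
        (hcR.uniq ((forget₂ TopCommRingCat.{u} CommRingCat.{u}).mapCocone s) _ fun j =>
          congrArg (forget₂ TopCommRingCat.{u} CommRingCat.{u}).map (hm j))⟩,
      ⟨IsColimit.ofIsoColimit hcR (Cocone.ext (Iso.refl _) fun j => rfl)⟩⟩
  refine ⟨⟨fun J _ => ⟨fun F => ?_⟩⟩, ⟨fun {J} _ => ⟨fun {F} => ?_⟩⟩⟩
  · obtain ⟨c, hc, -⟩ := key J _ F
    exact ⟨⟨c, hc⟩⟩
  · obtain ⟨c, hc, ⟨h⟩⟩ := key J _ F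
    exact preservesColimit_of_preserves_colimit_cocone hc h

end Groth.Agent.S7558
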