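import Groth.Statements.S7559
import Mathlib.Data.Fintype.Sum
import Mathlib.Data.Fintype.Pi
import Mathlib.Data.Fintype.Basic
-- import your own Groth.Agent.* helpers here

set_option autoImplicit false
universe u
open PtTop

namespace Groth.Agent.S7559

/-- Let X be a topological space and X = ∐ P_k a finite partition into locally closed parts. Then there
is a finite stratification of X refining it: a finite partially ordered index set I and pairwise
disjoint locally closed strata S_i covering X with closure(S_j) ⊆ ⋃_{i ≤ j} S_i, such that every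
part P_k is a union of strata. -/
theorem result {X : Type u} [TopologicalSpace X]
    {n : ℕ} (P : Fin n → Set X) (hP : ∀ k, IsLocallyClosed (P k)) (hcov : ⋃ k, P k = Set.univ)
    (hdisj : ∀ k k', k ≠ k' → Disjoint (P k) (P k')) :
    ∃ (I : Type) (_ : Fintype I) (_ : PartialOrder I) (S : I → Set X),
      (∀ i, IsLocallyClosed (S i)) ∧ (⋃ i, S i = Set.univ) ∧ (∀ i j, i ≠ j → Disjoint (S i) (S j)) ∧
      (∀ j, closure (S j) ⊆ ⋃ i ∈ Set.Iic j, S i) ∧
      (∀ i k, (S i ∩ P k).Nonempty → S i ⊆ P k) := by
  classical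
  choose O C hO hC hPk using hP
  let A : Fin n ⊕ Fin n → Set X := Sum.elim C (fun k => (O k)ᶜ)
  have hA : ∀ a, IsClosed (A a) := by
    rintro (a | a)
    exacts [hC a, (hO a).isClosed_compl]
  let σ : X → (Fin n ⊕ Fin n → Bool)ᵒᵈ := fun x => OrderDual.toDual fun a => decide (x ∈ A a)
  refine ⟨(Fin n ⊕ Fin n → Bool)ᵒᵈ, Fintype.ofEquiv _ OrderDual.toDual, inferInstance, fun i => σ ⁻¹' {i},
    fun i => ?_, ?_, fun i j hij => ?_, fun j => ?_, ?_⟩
  · refine ⟨⋂ a ∈ {a | OrderDual.ofDual i a = false}, (A a)ᶜ,
      ⋂ a ∈ {a | OrderDual.ofDual i a = true}, A a,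
      (Set.finite_univ.subset (Set.subset_univ _)).isOpen_biInter fun a _ => (hA a).isOpen_compl,
      isClosed_biInter fun a _ => hA a, ?_⟩
    ext x
    simp only [Set.mem_preimage, Set.mem_singleton_iff, Set.mem_inter_iff, Set.mem_iInter,
      Set.mem_compl_iff, Set.mem_ofPred_eq]
    constructor
    · rintro rfl
      exact ⟨fun a ha => of_decide_eq_false ha, fun a ha => of_decide_eq_true ha⟩
    · rintro ⟨h1, h2⟩
      apply OrderDual.ofDual.injective
      funext a
      cases h : OrderDual.ofDual i a
      · exact decide_eq_false (h1 a h)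
      · exact decide_eq_true (h2 a h)
  · ext x; simp
  · exact Set.disjoint_left.mpr fun x hx hx' => hij (hx.symm.trans hx')
  · intro x hx
    refine Set.mem_biUnion (x := σ x) ?_ rfl
    change σ x ≤ j
    rw [← OrderDual.ofDual_le_ofDual]
    intro a
    cases h : OrderDual.ofDual j a
    · exact Bool.false_le _
    · have : x ∈ A a := by
        refine (hA a).closure_subset_iff.mpr ?_ hx
        intro y (hy : σ y = j)
        exact of_decide_eq_true (by rw [← hy] at h; exact h)
      exact le_of_eq (decide_eq_true this).symm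
  · rintro i k ⟨x, hx, hxk⟩ y (hy : σ y = i)
    have h : ∀ a, y ∈ A a ↔ x ∈ A a := fun a =>
      decide_eq_decide.mp (congrFun (congrArg OrderDual.ofDual (hy.trans hx.symm)) a)
    rw [hPk] at hxk ⊢
    exact ⟨not_not.mp fun hh => (h (.inr k)).mp hh hxk.1, (h (.inl k)).mpr hxk.2⟩

end Groth.Agent.S7559
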