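import Groth.Statements.S7560
import Groth.Agent.ConstrLib.Basic

set_option autoImplicit false
universe u
open ConstrTop

namespace Groth.Agent.S7560

open Set TopologicalSpace Groth.Agent.ConstrLib

/-- Let X be a topological space written as a finite union X = T_1 ∪ … ∪ T_n of constructible subsets.
Then there is a finite stratification X = ∐ S_i (pairwise disjoint locally closed strata indexed by
a finite partially ordered set, with closure(S_j) ⊆ ⋃_{i ≤ j} S_i) whose strata are constructible
and such that every T_k is a union of strata. -/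
theorem result {X : Type u} [TopologicalSpace X]
    {n : ℕ} (T : Fin n → Set X) (hT : ∀ k, Topology.IsConstructible (T k)) (hcov : ⋃ k, T k = Set.univ) :
    ∃ (I : Type) (_ : Fintype I) (_ : PartialOrder I) (S : I → Set X),
      (∀ i, IsLocallyClosed (S i) ∧ Topology.IsConstructible (S i)) ∧ (⋃ i, S i = Set.univ) ∧
      (∀ i j, i ≠ j → Disjoint (S i) (S j)) ∧
      (∀ j, closure (S j) ⊆ ⋃ i ∈ Set.Iic j, S i) ∧
      (∀ i k, (S i ∩ T k).Nonempty → S i ⊆ T k) := by
  classical
  choose G hGf hG hdet using fun k => exists_finite_determining (hT k)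
  have hGfin : (⋃ k, G k).Finite := finite_iUnion hGf
  obtain ⟨N, g, hg⟩ : ∃ (N : ℕ) (g : Fin N → Set X), Set.range g = ⋃ k, G k := by
    obtain ⟨N, g, -, hg⟩ := hGfin.fin_param
    exact ⟨N, g, hg⟩
  have hgo : ∀ i, IsOpen (g i) ∧ IsRetrocompact (g i) := fun i => by
    obtain ⟨k, hk⟩ := mem_iUnion.1 (hg ▸ mem_range_self i : g i ∈ ⋃ k, G k)
    exact hG k _ hk
  refine ⟨Fin N → Bool, inferInstance, inferInstance,
    fun σ => ⋂ i, if σ i then g i else (g i)ᶜ, fun σ => ⟨?_, ?_⟩, ?_, ?_, ?_, ?_⟩
  · show IsLocallyClosed (⋂ i, if σ i then g i else (g i)ᶜ)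
    have : (⋂ i, if σ i then g i else (g i)ᶜ) =
        (⋂ i, if σ i then g i else univ) ∩ (⋂ i, if σ i then univ else (g i)ᶜ) := by
      rw [← iInter_inter_distrib]
      exact iInter_congr fun i => by split_ifs <;> simp
    rw [this]
    exact ⟨_, _, isOpen_iInter_of_finite fun i => by split_ifs; exacts [(hgo i).1, isOpen_univ],
      isClosed_iInter fun i => by split_ifs; exacts [isClosed_univ, (hgo i).1.isClosed_compl], rfl⟩
  · refine Topology.IsConstructible.iInter fun i => ?_
    have := (hgo i).2.isConstructible (hgo i).1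
    split_ifs
    exacts [this, this.compl]
  · refine eq_univ_of_forall fun x => mem_iUnion.2 ⟨fun i => decide (x ∈ g i), mem_iInter.2 fun i => ?_⟩
    by_cases hx : x ∈ g i <;> simp [hx]
  · intro σ τ hne
    obtain ⟨i, hi⟩ := Function.ne_iff.1 hne
    refine disjoint_left.2 fun x hx hx' => ?_
    have h1 := mem_iInter.1 hx i
    have h2 := mem_iInter.1 hx' i
    cases hσ : σ i <;> cases hτ : τ i <;> simp_all
  · intro σ x hx
    refine mem_iUnion₂.2 ⟨fun i => decide (x ∈ g i), fun i => ?_, mem_iInter.2 fun i => ?_⟩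
    · dsimp only
      cases hσ : σ i
      · have hsub : (⋂ i, if σ i then g i else (g i)ᶜ) ⊆ (g i)ᶜ := fun y hy => by
          simpa [hσ] using mem_iInter.1 hy i
        have : x ∈ (g i)ᶜ := closure_minimal hsub (hgo i).1.isClosed_compl hx
        simp_all
      · exact le_top
    · by_cases hxi : x ∈ g i <;> simp [hxi]
  · intro σ k hne y hy
    obtain ⟨x, hx, hxT⟩ := hne
    refine (hdet k x y fun a ha => ?_).1 hxT
    obtain ⟨i, rfl⟩ : a ∈ Set.range g := hg ▸ mem_iUnion.2 ⟨k, ha⟩
    have h1 := mem_iInter.1 hx i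
    have h2 := mem_iInter.1 hy i
    cases hσ : σ i <;> simp_all

end Groth.Agent.S7560
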