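import Groth.Statements.S7561
-- import your own Groth.Agent.* helpers here

set_option autoImplicit false
universe u
open PtTop

namespace Groth.Agent.S7561

open TopologicalSpace

/-- Let X be a Noetherian topological space and X = ∐ P_k a finite partition into locally closed parts.
Then it is refined by a finite good stratification: a finite partition X = ∐ S_i into locally closed
strata such that S_i ∩ closure(S_j) ≠ ∅ implies S_i ⊆ closure(S_j), with every P_k a union of
strata. -/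
theorem result {X : Type u} [TopologicalSpace X]
    [TopologicalSpace.NoetherianSpace X]
    {n : ℕ} (P : Fin n → Set X) (hP : ∀ k, IsLocallyClosed (P k)) (hcov : ⋃ k, P k = Set.univ)
    (hdisj : ∀ k k', k ≠ k' → Disjoint (P k) (P k')) :
    ∃ (m : ℕ) (S : Fin m → Set X),
      (∀ i, IsLocallyClosed (S i)) ∧ (⋃ i, S i = Set.univ) ∧ (∀ i j, i ≠ j → Disjoint (S i) (S j)) ∧
      (∀ i j, (S i ∩ closure (S j)).Nonempty → S i ⊆ closure (S j)) ∧
      (∀ i k, (S i ∩ P k).Nonempty → S i ⊆ P k) := by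
  classical
  have key : ∀ Z : Closeds X, ∀ A : Finset (Set X), (∀ a ∈ A, IsLocallyClosed a) →
      ∃ F : Finset (Set X), (∀ s ∈ F, IsLocallyClosed s) ∧
        (⋃₀ (F : Set (Set X))) = Z ∧ (F : Set (Set X)).PairwiseDisjoint id ∧
        (∀ s ∈ F, ∀ t ∈ F, (s ∩ closure t).Nonempty → s ⊆ closure t) ∧
        ∀ s ∈ F, ∀ a ∈ A, (s ∩ a).Nonempty → s ⊆ a := by
    intro Z
    induction Z using WellFoundedLT.induction with
    | _ Z ih =>
      intro A hA
      rcases (Z : Set X).eq_empty_or_nonempty with hZ | hZ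
      · exact ⟨∅, by simp, by simp [hZ], by simp, by simp, by simp⟩
      -- a nonempty open piece of `Z` compatible with `A`
      have hU : ∃ O : Set X, IsOpen O ∧ (O ∩ Z).Nonempty ∧
          ∀ a ∈ A, ((O ∩ Z) ∩ a).Nonempty → O ∩ (Z : Set X) ⊆ a := by
        clear ih
        induction A using Finset.induction_on with
        | empty => exact ⟨Set.univ, isOpen_univ, by simpa using hZ, by simp⟩
        | insert a A' _ ihA =>
          obtain ⟨O, hO, hne, hOA⟩ := ihA fun b hb => hA b (Finset.mem_insert_of_mem hb)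
          have hsub : ∀ O' ⊆ O, (∀ b ∈ A', ((O' ∩ Z) ∩ b).Nonempty → O' ∩ (Z : Set X) ⊆ b) := by
            rintro O' hO' b hb ⟨x, hx, hxb⟩
            exact fun y hy => hOA b hb ⟨x, ⟨hO' hx.1, hx.2⟩, hxb⟩ ⟨hO' hy.1, hy.2⟩
          obtain ⟨Oa, Ca, hOa, hCa, rfl⟩ := hA a (Finset.mem_insert_self _ _)
          simp only [Finset.forall_mem_insert]
          by_cases h1 : (O ∩ Caᶜ ∩ Z).Nonempty
          · exact ⟨O ∩ Caᶜ, hO.inter hCa.isOpen_compl, h1,
              fun ⟨x, hx, hxa⟩ => absurd hxa.2 hx.1.2, hsub _ Set.inter_subset_left⟩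
          by_cases h2 : (O ∩ Oa ∩ Z).Nonempty
          · refine ⟨O ∩ Oa, hO.inter hOa, h2, fun _ x hx => ⟨hx.1.2, ?_⟩,
              hsub _ Set.inter_subset_left⟩
            by_contra hc; exact h1 ⟨x, ⟨hx.1.1, hc⟩, hx.2⟩
          · exact ⟨O, hO, hne, fun ⟨x, hx, hxa⟩ => absurd ⟨x, ⟨hx.1, hxa.1⟩, hx.2⟩ h2,
              hsub _ subset_rfl⟩
      obtain ⟨O, hO, hne, hOA⟩ := hU
      let U : Set X := O ∩ Z
      let Z' : Closeds X := ⟨Z ∩ Oᶜ, Z.isClosed.inter hO.isClosed_compl⟩
      have hlt : Z' < Z := by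
        refine lt_of_le_of_ne (fun x hx => hx.1) fun h => ?_
        obtain ⟨x, hx⟩ := hne
        have : x ∈ Z' := h ▸ hx.2
        exact this.2 hx.1
      obtain ⟨F, hFl, hFc, hFd, hFg, hFa⟩ := ih Z' hlt (insert (closure U) A) (by
        simpa [Finset.forall_mem_insert] using ⟨isClosed_closure.isLocallyClosed, hA⟩)
      have hFZ : ∀ s ∈ F, s ⊆ (Z : Set X) ∩ Oᶜ := fun s hs x hx => by
        have : x ∈ (Z' : Set X) := hFc ▸ ⟨s, hs, hx⟩
        exact this
      refine ⟨insert U F, ?_, ?_, ?_, ?_, ?_⟩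
      · simpa [Finset.forall_mem_insert] using ⟨⟨O, Z, hO, Z.isClosed, rfl⟩, hFl⟩
      · rw [Finset.coe_insert, Set.sUnion_insert, hFc]
        ext x
        change (x ∈ O ∧ x ∈ (Z : Set X)) ∨ (x ∈ (Z : Set X) ∧ x ∉ O) ↔ x ∈ (Z : Set X)
        tauto
      · rw [Finset.coe_insert]
        refine hFd.insert fun s hs _ => Set.disjoint_left.mpr fun x hx hxs => ?_
        exact (hFZ s hs hxs).2 hx.1
      · simp only [Finset.forall_mem_insert]
        refine ⟨⟨fun _ => subset_closure, fun t ht ⟨x, hx, hxt⟩ => ?_⟩, fun s hs => ⟨?_, hFg s hs⟩⟩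
        · exact absurd hx.1 (closure_minimal (hFZ t ht)
            (Z.isClosed.inter hO.isClosed_compl) hxt).2
        · exact hFa s hs _ (Finset.mem_insert_self _ _)
      · simp only [Finset.forall_mem_insert]
        exact ⟨hOA, fun s hs a ha => hFa s hs a (Finset.mem_insert_of_mem ha)⟩
  obtain ⟨F, hFl, hFc, hFd, hFg, hFa⟩ := key ⊤ (Finset.univ.image P) (by simpa using hP)
  refine ⟨F.card, fun i => (F.equivFin.symm i).1, fun i => hFl _ (Subtype.coe_prop _), ?_,
    fun i j h => ?_, fun i j => hFg _ (Subtype.coe_prop _) _ (Subtype.coe_prop _),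
    fun i k => hFa _ (Subtype.coe_prop _) _ (by simp)⟩
  · refine Set.eq_univ_iff_forall.mpr fun x => ?_
    have : x ∈ ⋃₀ (F : Set (Set X)) := by rw [hFc]; trivial
    obtain ⟨s, hs, hxs⟩ := this
    exact Set.mem_iUnion.mpr ⟨F.equivFin ⟨s, hs⟩, by simpa using hxs⟩
  · exact hFd (Subtype.coe_prop _) (Subtype.coe_prop _)
      fun e => h (F.equivFin.symm.injective (Subtype.ext e))

end Groth.Agent.S7561
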