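import Groth.Statements.S7565
-- import your own Groth.Agent.* helpers here

set_option autoImplicit false
universe u
open PtTop

namespace Groth.Agent.S7565

/-- Let f : X → Y be a continuous open map of topological spaces and assume every point of X has a
Noetherian neighbourhood. Then every point of f(X) (with the induced topology) has a Noetherian
neighbourhood. The published statement also asserts that a continuous image of a Noetherian space is
Noetherian; this row states the part about open maps and locally Noetherian spaces. -/
theorem result {X Y : Type u} [TopologicalSpace X] [TopologicalSpace Y]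
    (f : X → Y) (hf : Continuous f) (hfo : IsOpenMap f)
    (hX : ∀ x : X, ∃ E ∈ nhds x, TopologicalSpace.NoetherianSpace E) :
    ∀ y : Set.range f, ∃ E : Set (Set.range f), E ∈ nhds y ∧ TopologicalSpace.NoetherianSpace E := by
  rintro ⟨_, x, rfl⟩
  obtain ⟨E, hE, hN⟩ := hX x
  obtain ⟨O, hOE, hO, hxO⟩ := mem_nhds_iff.mp hE
  refine ⟨Set.rangeFactorization f '' E, ?_, ?_⟩
  · refine mem_nhds_iff.mpr ⟨Subtype.val ⁻¹' (f '' O), ?_, (hfo O hO).preimage continuous_subtype_val,
      ⟨x, hxO, rfl⟩⟩
    rintro ⟨_, _⟩ ⟨z, hz, rfl⟩
    exact ⟨z, hOE hz, rfl⟩
  · have hc : Continuous (Set.rangeFactorization f) := hf.rangeFactorization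
    have he : Set.range ((Set.rangeFactorization f) ∘ (Subtype.val : E → X)) =
        Set.rangeFactorization f '' E := by rw [Set.range_comp, Subtype.range_coe]
    rw [← he]
    exact TopologicalSpace.NoetherianSpace.range _ (hc.comp continuous_subtype_val)

end Groth.Agent.S7565
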