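import Groth.Statements.S7567
import Groth.Agent.S7566
-- import your own Groth.Agent.* helpers here

set_option autoImplicit false
universe u
open PtTop

namespace Groth.Agent.S7567

/-- Let X be a quasi-compact topological space whose quasi-compact opens form a basis, any two of them
meeting in a quasi-compact set. For a subset T ⊆ X these two conditions are equivalent: (a) T can be
written as an intersection of clopen subsets of X; (b) T is closed and is a union of connected
components of X. -/
theorem result {X : Type u} [TopologicalSpace X]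
    [CompactSpace X] [PrespectralSpace X] [QuasiSeparatedSpace X] (T : Set X) :
    (∃ S : Set (Set X), (∀ Z ∈ S, IsClopen Z) ∧ T = ⋂₀ S) ↔
      (IsClosed T ∧ ∀ x ∈ T, connectedComponent x ⊆ T) := by
  constructor
  · rintro ⟨S, hS, rfl⟩
    exact ⟨isClosed_sInter fun Z hZ => (hS Z hZ).isClosed, fun x hx =>
      Set.subset_sInter fun Z hZ => (hS Z hZ).connectedComponent_subset (Set.mem_sInter.mp hx Z hZ)⟩
  · rintro ⟨hT, hcomp⟩
    refine ⟨{Z | IsClopen Z ∧ T ⊆ Z}, fun Z hZ => hZ.1, ?_⟩
    refine subset_antisymm (Set.subset_sInter fun Z hZ => hZ.2) fun y hy => ?_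
    by_contra hyT
    have hdis : T ∩ ⋂ Z : {Z : Set X // IsClopen Z ∧ y ∈ Z}, Z.1 = ∅ := by
      refine Set.eq_empty_iff_forall_notMem.mpr fun z hz => hyT ?_
      have hzc : z ∈ connectedComponent y := by
        rw [S7566.result y]
        exact Set.mem_sInter.mpr fun Z hZ => Set.mem_iInter.mp hz.2 ⟨Z, hZ⟩
      exact hcomp z hz.1 (connectedComponent_eq hzc ▸ mem_connectedComponent)
    obtain ⟨t, ht⟩ := hT.isCompact.elim_finite_subfamily_closed _
      (fun Z : {Z : Set X // IsClopen Z ∧ y ∈ Z} => Z.2.1.1) hdis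
    have hW : IsClopen (⋂ Z ∈ t, Z.1) := isClopen_biInter_finset fun Z _ => Z.2.1
    exact Set.mem_sInter.mp hy _ ⟨hW.compl, fun z hz hzW =>
      Set.eq_empty_iff_forall_notMem.mp ht z ⟨hz, hzW⟩⟩ (Set.mem_iInter₂.mpr fun Z _ => Z.2.2)

end Groth.Agent.S7567
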