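import Groth.Statements.S7568
import Groth.Agent.Props.Shrink
import Mathlib.Data.Fintype.Pi
-- import your own Groth.Agent.* helpers here

set_option autoImplicit false
universe u
open PtTop

namespace Groth.Agent.S7568

/-- Let X be a Hausdorff quasi-compact space, X = ⋃ U_i an open covering, p ≥ 0 an integer, and for
every (p+1)-tuple (i_0, …, i_p) an open covering of U_{i_0} ∩ … ∩ U_{i_p} by opens W_{i_0…i_p,k}.
Then there are an open covering X = ⋃_{j ∈ J} V_j and a map α : J → I with closure(V_j) ⊆ U_{α(j)}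
such that each V_{j_0} ∩ … ∩ V_{j_p} is contained in W_{α(j_0)…α(j_p),k} for some k. The published
statement allows a covering of an empty intersection to have no members; this row requires every
covering W_{i_0…i_p} to have at least one member (possibly empty), without which the conclusion
fails. -/
theorem result {X : Type u} [TopologicalSpace X] [CompactSpace X] [T2Space X]
    {ι : Type u} (U : ι → Set X) (hU : ∀ i, IsOpen (U i)) (hcov : ⋃ i, U i = Set.univ) (p : ℕ)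
    (W : (Fin (p + 1) → ι) → Set (Set X)) (hWo : ∀ t, ∀ w ∈ W t, IsOpen w)
    (hWc : ∀ t, ⋃₀ W t = ⋂ l, U (t l)) (hWne : ∀ t, (W t).Nonempty) :
    ∃ (J : Type u) (V : J → Set X) (α : J → ι), (∀ j, IsOpen (V j)) ∧ (⋃ j, V j = Set.univ) ∧
      (∀ j, closure (V j) ⊆ U (α j)) ∧
      (∀ t : Fin (p + 1) → J, ∃ w ∈ W (α ∘ t), (⋂ l, V (t l)) ⊆ w) := by
  classical
  obtain ⟨s, V0, hV0, hcovV, hVs, hclV⟩ :=
    Props.Shrink.shrink_compact Set.univ isCompact_univ U hU (hcov ▸ subset_rfl)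
  have hcov' : ∀ x : X, ∃ i, x ∈ V0 i := fun x => Set.mem_iUnion.mp (hcovV trivial)
  choose α hα using hcov'
  have hαs : ∀ x, α x ∈ s := fun x => by
    by_contra h; have := hα x; rw [hVs _ h] at this; exact this
  have hnb : ∀ x : X, ∃ N : Set X, IsOpen N ∧ x ∈ N ∧ N ⊆ V0 (α x) ∧
      (∀ i ∈ s, x ∉ U i → Disjoint N (V0 i)) ∧
      ∀ u : Fin (p + 1) → s, (∀ l, x ∈ U (u l)) → ∃ w ∈ W (fun l => (u l : ι)), N ⊆ w := by
    intro x
    have hw : ∀ u : Fin (p + 1) → s, ∃ w ∈ W (fun l => (u l : ι)),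
        (∀ l, x ∈ U (u l)) → x ∈ w := by
      intro u
      by_cases h : ∀ l, x ∈ U (u l)
      · have : x ∈ ⋃₀ W (fun l => (u l : ι)) := by rw [hWc]; exact Set.mem_iInter.mpr h
        obtain ⟨w, hw, hxw⟩ := this
        exact ⟨w, hw, fun _ => hxw⟩
      · obtain ⟨w, hw⟩ := hWne (fun l => (u l : ι))
        exact ⟨w, hw, fun h' => absurd h' h⟩
    choose w hwW hxw using hw
    refine ⟨(V0 (α x) ∩ ⋂ i ∈ {i ∈ (s : Set ι) | x ∉ U i}, (closure (V0 i))ᶜ) ∩
      ⋂ u ∈ {u : Fin (p + 1) → s | ∀ l, x ∈ U (u l)}, w u,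
      ((hV0 _).inter ((s.finite_toSet.subset (Set.sep_subset _ _)).isOpen_biInter
        fun i _ => isClosed_closure.isOpen_compl)).inter
        ((Set.toFinite _).isOpen_biInter fun u _ => hWo _ _ (hwW u)),
      ⟨⟨hα x, Set.mem_iInter₂.mpr fun i hi hc => hi.2 (hclV i hc)⟩,
        Set.mem_iInter₂.mpr fun u hu => hxw u hu⟩,
      fun y hy => hy.1.1, fun i hi hxi => Set.disjoint_left.mpr fun y hy hyi =>
        Set.mem_iInter₂.mp hy.1.2 i ⟨hi, hxi⟩ (subset_closure hyi),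
      fun u hu => ⟨w u, hwW u, fun y hy => Set.mem_iInter₂.mp hy.2 u hu⟩⟩
  choose N hNo hxN hNV hNd hNw using hnb
  refine ⟨X, N, α, hNo, Set.eq_univ_iff_forall.mpr fun x => Set.mem_iUnion.mpr ⟨x, hxN x⟩,
    fun x => (closure_mono (hNV x)).trans (hclV _), fun t => ?_⟩
  by_cases hne : (⋂ l, N (t l)).Nonempty
  · obtain ⟨y, hy⟩ := hne
    rw [Set.mem_iInter] at hy
    have hin : ∀ l, t 0 ∈ U (α (t l)) := fun l => by
      by_contra h
      exact (hNd (t 0) _ (hαs _) h).le_bot ⟨hy 0, hNV _ (hy l)⟩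
    obtain ⟨w, hw, hNw⟩ := hNw (t 0) (fun l => ⟨α (t l), hαs _⟩) hin
    exact ⟨w, hw, (Set.iInter_subset _ 0).trans hNw⟩
  · obtain ⟨w, hw⟩ := hWne (α ∘ t)
    exact ⟨w, hw, by rw [Set.not_nonempty_iff_eq_empty.mp hne]; exact Set.empty_subset _⟩

end Groth.Agent.S7568
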