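import Groth.Statements.S7569
import Groth.Agent.Props.Shrink
-- import your own Groth.Agent.* helpers here

set_option autoImplicit false
universe u
open PtTop

namespace Groth.Agent.S7569

/-- Let X be a Hausdorff, locally quasi-compact space and Z ⊆ X a quasi-compact subset. Let p ≥ 0, let
U_i ⊆ X be opens with Z ⊆ ⋃ U_i, and for every (p+1)-tuple (i_0, …, i_p) let W_{i_0…i_p} ⊆ U_{i_0} ∩
… ∩ U_{i_p} be an open with W_{i_0…i_p} ∩ Z = U_{i_0} ∩ … ∩ U_{i_p} ∩ Z. Then there are opens V_i ⊆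
X with Z ⊆ ⋃ V_i, closure(V_i) ⊆ U_i for all i, and V_{i_0} ∩ … ∩ V_{i_p} ⊆ W_{i_0…i_p} for all
(p+1)-tuples. -/
theorem result {X : Type u} [TopologicalSpace X]
    [T2Space X] [LocallyCompactSpace X] (Z : Set X) (hZ : IsCompact Z)
    {ι : Type u} (U : ι → Set X) (hU : ∀ i, IsOpen (U i)) (hcov : Z ⊆ ⋃ i, U i) (p : ℕ)
    (W : (Fin (p + 1) → ι) → Set X) (hWo : ∀ t, IsOpen (W t)) (hWU : ∀ t, W t ⊆ ⋂ l, U (t l))
    (hWZ : ∀ t, W t ∩ Z = (⋂ l, U (t l)) ∩ Z) :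
    ∃ V : ι → Set X, (∀ i, IsOpen (V i)) ∧ (Z ⊆ ⋃ i, V i) ∧ (∀ i, closure (V i) ⊆ U i) ∧
      (∀ t : Fin (p + 1) → ι, (⋂ l, V (t l)) ⊆ W t) := by
  classical
  obtain ⟨s, V0, hV0, hcovV, hVs, hclV⟩ := Props.Shrink.shrink_compact Z hZ U hU hcov
  have hclZ : ∀ i, closure (V0 i) ∩ Z ⊆ U i := fun i => Set.inter_subset_left.trans (hclV i)
  obtain ⟨N, hN, hZN, hNW⟩ := Props.Shrink.refine_tuples Z U s V0 hVs hclZ W hWo hWZ
  refine ⟨fun i => V0 i ∩ N, fun i => (hV0 i).inter hN, fun z hz => ?_,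
    fun i => (closure_mono Set.inter_subset_left).trans (hclV i), hNW⟩
  obtain ⟨i, hi⟩ := Set.mem_iUnion.mp (hcovV hz)
  exact Set.mem_iUnion.mpr ⟨i, hi, hZN hz⟩

end Groth.Agent.S7569
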