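import Groth.Statements.S7571
import Mathlib.Topology.Category.TopCat.Limits.Cofiltered
-- import your own Groth.Agent.* helpers here

set_option autoImplicit false
universe u
open CategoryTheory CategoryTheory.Limits
open PtTop

namespace Groth.Agent.S7571

/-- Let j ↦ X_j be a diagram of topological spaces over a cofiltered category with limit X and
projections f_j. (1) Every open of X is a union of subsets of the form f_j⁻¹(U_j) with U_j ⊆ X_j
open. (2) Every quasi-compact open of X equals f_i⁻¹(U_i) for some i and some open U_i ⊆ X_i. -/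
theorem result {J : Type u} [SmallCategory J] [IsCofiltered J]
    (F : J ⥤ TopCat.{u}) (c : Cone F) (hc : IsLimit c) :
    (∀ W : Set c.pt, IsOpen W →
      ∃ S : Set (Σ j, Set (F.obj j)), (∀ s ∈ S, IsOpen s.2) ∧ W = ⋃ s ∈ S, c.π.app s.1 ⁻¹' s.2) ∧
    (∀ W : Set c.pt, IsOpen W → IsCompact W →
      ∃ (i : J) (Ui : Set (F.obj i)), IsOpen Ui ∧ W = c.π.app i ⁻¹' Ui) := by
  have hbasis := TopCat.isTopologicalBasis_cofiltered_limit F c hc
    (fun j => {V | IsOpen V}) (fun j => TopologicalSpace.isTopologicalBasis_opens)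
    (fun _ => isOpen_univ) (fun _ _ _ h1 h2 => h1.inter h2)
    (fun i j f V hV => hV.preimage (F.map f).hom.continuous)
  refine ⟨fun W hW => ⟨{s | IsOpen s.2 ∧ c.π.app s.1 ⁻¹' s.2 ⊆ W}, fun s hs => hs.1, ?_⟩,
    fun W hW hWc => ?_⟩
  · refine subset_antisymm (fun x hx => ?_) (Set.iUnion₂_subset fun s hs => hs.2)
    obtain ⟨_, ⟨j, V, hV, rfl⟩, hxV, hVW⟩ := hbasis.exists_subset_of_mem_open hx hW
    exact Set.mem_biUnion (show (⟨j, V⟩ : Σ j, Set (F.obj j)) ∈ _ from ⟨hV, hVW⟩) hxV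
  · obtain ⟨t, ht⟩ := hWc.elim_finite_subcover
      (fun s : {s : Σ j, Set (F.obj j) // IsOpen s.2 ∧ c.π.app s.1 ⁻¹' s.2 ⊆ W} =>
        c.π.app s.1.1 ⁻¹' s.1.2) (fun s => s.2.1.preimage (c.π.app s.1.1).hom.continuous)
      (fun x hx => by
        obtain ⟨_, ⟨j, V, hV, rfl⟩, hxV, hVW⟩ := hbasis.exists_subset_of_mem_open hx hW
        exact Set.mem_iUnion.mpr ⟨⟨⟨j, V⟩, hV, hVW⟩, hxV⟩)
    classical
    obtain ⟨i, hi⟩ := IsCofiltered.inf_objs_exists (t.image fun s => s.1.1)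
    let g : ∀ s : t, i ⟶ s.1.1.1 := fun s => (hi (Finset.mem_image_of_mem _ s.2)).some
    refine ⟨i, ⋃ s : t, F.map (g s) ⁻¹' s.1.1.2,
      isOpen_iUnion fun s => s.1.2.1.preimage (F.map (g s)).hom.continuous, ?_⟩
    have hcomp : ∀ (s : t) (x : c.pt), F.map (g s) (c.π.app i x) = c.π.app s.1.1.1 x := fun s x => by
      rw [← c.w (g s)]; rfl
    ext x
    simp only [Set.preimage_iUnion, Set.mem_iUnion, Set.mem_preimage, hcomp]
    constructor
    · intro hx
      obtain ⟨s, hs, hxs⟩ := Set.mem_iUnion₂.mp (ht hx)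
      exact ⟨⟨s, hs⟩, hxs⟩
    · rintro ⟨s, hxs⟩
      exact s.1.2.2 hxs

end Groth.Agent.S7571
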