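import Groth.Statements.S7575
import Groth.Agent.ShSpLib.FilteredColimit

set_option autoImplicit false
universe u
open CategoryTheory CategoryTheory.Limits TopologicalSpace Opposite
open ShSp

namespace Groth.Agent.S7575

/-- Let X be a topological space, I a directed set, (F_i) a system of sheaves of sets on X over I with
colimit F (in sheaves), U ⊆ X open, and Ψ : colim_i F_i(U) → F(U) the canonical map. (1) If all
transition maps F_i → F_{i'} are injective (on all sections) then Ψ is injective. (2)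
Quasi-compactness of U alone already makes Ψ injective. (3) When U is quasi-compact and every
transition map is injective, Ψ is bijective. (4) If every open covering of U can be refined by a
finite open covering U = U_1 ∪ … ∪ U_m with all U_j ∩ U_{j'} quasi-compact, then Ψ is bijective. -/
theorem result {X : TopCat.{u}} {J : Type u} [Preorder J] [Nonempty J] [IsDirected J (· ≤ ·)]
    (F : J ⥤ X.Sheaf (Type u)) (c : Cocone F) (hc : IsColimit c) (U : Opens X) :
    let ev := TopCat.Sheaf.forget (Type u) X ⋙ (evaluation (Opens X)ᵒᵖ (Type u)).obj (op U)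
    let Ψ : colimit (F ⋙ ev) → ev.obj c.pt := colimit.desc (F ⋙ ev) (ev.mapCocone c)
    ((∀ (i j : J) (h : i ⟶ j) (V : Opens X), Function.Injective ((F.map h).1.app (op V))) → Function.Injective Ψ) ∧
    (IsCompact (U : Set X) → Function.Injective Ψ) ∧
    (IsCompact (U : Set X) → (∀ (i j : J) (h : i ⟶ j) (V : Opens X), Function.Injective ((F.map h).1.app (op V))) →
      Function.Bijective Ψ) ∧
    ((∀ 𝒱 : Set (Opens X), (⨆ V ∈ 𝒱, V) = U →
        ∃ (m : ℕ) (W : Fin m → Opens X), (∀ j, ∃ V ∈ 𝒱, W j ≤ V) ∧ (⨆ j, W j) = U ∧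
          ∀ j j', IsCompact ((W j ⊓ W j' : Opens X) : Set X)) →
      Function.Bijective Ψ) := by
  intro ev Ψ
  have hΨ : ∀ i (s : (F.obj i).obj.obj (op U)),
      Ψ (colimit.ι (F ⋙ ev) i s) = (c.ι.app i).hom.app (op U) s := fun i s =>
    ConcreteCategory.congr_hom (colimit.ι_desc (ev.mapCocone c) i) s
  have hinjΨ : (∀ i (s s' : (F.obj i).obj.obj (op U)),
      (c.ι.app i).hom.app (op U) s = (c.ι.app i).hom.app (op U) s' →
      ∃ (j : J) (f : i ⟶ j), (F.map f).hom.app (op U) s = (F.map f).hom.app (op U) s') →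
      Function.Injective Ψ := by
    intro h a b hab
    obtain ⟨i, s, rfl⟩ := Types.jointly_surjective' (F := F ⋙ ev) a
    obtain ⟨i', s', rfl⟩ := Types.jointly_surjective' (F := F ⋙ ev) b
    obtain ⟨k, hk, hk'⟩ := directed_of (· ≤ ·) i i'
    rw [hΨ, hΨ, ← ShSpLib.ι_map c (homOfLE hk) s, ← ShSpLib.ι_map c (homOfLE hk') s'] at hab
    obtain ⟨l, f, hf⟩ := h k _ _ hab
    rw [← colimit.w_apply (F ⋙ ev) (homOfLE hk), ← colimit.w_apply (F ⋙ ev) (homOfLE hk'),
      ← colimit.w_apply (F ⋙ ev) f, ← colimit.w_apply (F ⋙ ev) f ((F ⋙ ev).map (homOfLE hk') s')]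
    exact congrArg (colimit.ι (F ⋙ ev) l) hf
  have hsurjΨ : (∀ t : c.pt.obj.obj (op U), ∃ (i : J) (s : (F.obj i).obj.obj (op U)),
      (c.ι.app i).hom.app (op U) s = t) → Function.Surjective Ψ := fun h t => by
    obtain ⟨i, s, hs⟩ := h t
    exact ⟨colimit.ι (F ⋙ ev) i s, (hΨ i s).trans hs⟩
  have h1 : (∀ (i j : J) (h : i ⟶ j) (V : Opens X), Function.Injective ((F.map h).1.app (op V))) →
      Function.Injective Ψ := fun hinj =>
    hinjΨ fun i s s' h => ⟨i, 𝟙 i, by rw [ShSpLib.injective_ι hc hinj i U h]⟩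
  have h2 : IsCompact (U : Set X) → Function.Injective Ψ := fun hU =>
    hinjΨ fun i s s' h => ShSpLib.exists_eq_of_isCompact hc hU s s' h
  refine ⟨h1, h2, fun hU hinj => ⟨h2 hU, hsurjΨ fun t => ?_⟩, fun hcov => ?_⟩
  · choose W hW i s hxW hs using fun x : U => ShSpLib.exists_local_section hc t x.2
    obtain ⟨T, hT⟩ := hU.elim_finite_subcover (fun x : U => (W x : Set X)) (fun x => (W x).isOpen)
      (fun x hx => Set.mem_iUnion.2 ⟨⟨x, hx⟩, hxW ⟨x, hx⟩⟩)
    refine ShSpLib.exists_preimage c t (fun x : T => W x.1) (fun x => hW x.1) (fun p hp => ?_)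
      (fun x => ⟨i x.1, s x.1, hs x.1⟩)
      (fun a b k z z' h => ⟨k, 𝟙 k, by rw [ShSpLib.injective_ι hc hinj k _ h]⟩)
    obtain ⟨x, hx, hpx⟩ := Set.mem_iUnion₂.1 (hT hp)
    exact Opens.mem_iSup.2 ⟨⟨x, hx⟩, hpx⟩
  · have hU : IsCompact (U : Set X) := by
      obtain ⟨m, W, -, hsup, hk⟩ := hcov {U} (by simp)
      rw [← hsup, Opens.coe_iSup]
      exact isCompact_iUnion fun j => by simpa using hk j j
    refine ⟨h2 hU, hsurjΨ fun t => ?_⟩
    obtain ⟨m, W, hWV, hsup, hk⟩ := hcov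
      {V : Opens X | ∃ (hV : V ≤ U) (i : J) (s : (F.obj i).obj.obj (op V)),
        (c.ι.app i).hom.app (op V) s = c.pt.obj.map (homOfLE hV).op t} (by
      refine le_antisymm (iSup₂_le fun V hV => hV.1) fun x hx => ?_
      obtain ⟨V, hV, i, s, hxV, hs⟩ := ShSpLib.exists_local_section hc t hx
      exact Opens.mem_iSup.2 ⟨V, Opens.mem_iSup.2 ⟨⟨hV, i, s, hs⟩, hxV⟩⟩)
    refine ShSpLib.exists_preimage c t (fun a : ULift.{u} (Fin m) => W a.down)
      (fun a => by rw [← hsup]; exact le_iSup W a.down)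
      (by rw [← hsup]; exact iSup_le fun a => le_iSup_of_le ⟨a⟩ le_rfl) (fun a => ?_)
      (fun a b k z z' h => ShSpLib.exists_eq_of_isCompact hc (hk a.down b.down) z z' h)
    obtain ⟨V, ⟨hV, i, s, hs⟩, hle⟩ := hWV a.down
    refine ⟨i, (F.obj i).obj.map (homOfLE hle).op s, ?_⟩
    rw [NatTrans.naturality_apply, hs]
    exact (Functor.map_comp_apply c.pt.obj _ _ _).symm

end Groth.Agent.S7575
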