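import Groth.Statements.S7576
import Mathlib.CategoryTheory.Limits.Types.Pullbacks
import Mathlib.CategoryTheory.Limits.Preserves.Shapes.Pullbacks

set_option autoImplicit false
universe u
open CategoryTheory CategoryTheory.Limits
open ShSp

namespace Groth.Agent.S7576

/-- Let (C, F) be a type of algebraic structure, i.e. C is a category with limits and filtered colimits
and F : C → Sets is a faithful functor commuting with both and reflecting isomorphisms. Let f : A →
B and g : C' → B be morphisms of C such that F(g) is injective and the image of F(f) is contained in
the image of F(g). Then f = g ∘ t for some morphism t : A → C'. -/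
theorem result {C : Type (u + 1)} [LargeCategory C]
    [HasLimits C] [HasFilteredColimitsOfSize.{u, u} C]
    (F : C ⥤ Type u) [F.Faithful] [F.ReflectsIsomorphisms] [PreservesLimits F] [PreservesFilteredColimits F]
    {A B C' : C} (f : A ⟶ B) (g : C' ⟶ B) (hg : Function.Injective (F.map g))
    (hfg : Set.range (F.map f) ⊆ Set.range (F.map g)) :
    ∃ t : A ⟶ C', t ≫ g = f := by
  haveI : PreservesLimit (cospan f g) F := (preservesSmallestLimits_of_preservesLimits F).preservesLimitsOfShape.preservesLimit
  have h1 : IsIso (F.map (pullback.fst f g)) := by
    rw [isIso_iff_bijective]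
    have hl := isLimitOfHasPullbackOfPreservesLimit F f g
    constructor
    · intro x y hxy
      apply PullbackCone.IsLimit.type_ext hl
      · exact hxy
      · apply hg
        have hc := ConcreteCategory.congr_hom (F.congr_map (pullback.condition (f := f) (g := g)))
        simp only [Functor.map_comp, ConcreteCategory.comp_apply] at hc
        change F.map g (F.map (pullback.snd f g) x) = F.map g (F.map (pullback.snd f g) y)
        rw [← hc x, ← hc y, hxy]
    · intro a
      obtain ⟨c, hc⟩ := hfg ⟨a, rfl⟩
      let e := (PullbackCone.isLimitEquivBijective _).toFun hl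
      obtain ⟨x, hx⟩ := e.2 ⟨(a, c), hc.symm⟩
      exact ⟨x, congrArg (fun z => z.1.1) hx⟩
  haveI := isIso_of_reflects_iso (pullback.fst f g) F
  exact ⟨inv (pullback.fst f g) ≫ pullback.snd f g, by
    rw [Category.assoc, ← pullback.condition, IsIso.inv_hom_id_assoc]⟩

end Groth.Agent.S7576
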