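import Groth.Statements.S7578
import Groth.Agent.PtTop.Catenary
-- import your own Groth.Agent.* helpers here

set_option autoImplicit false
universe u
open PtTop

namespace Groth.Agent.S7578

open Groth.Agent.PtTop Topology

/-- Let X be a topological space which is locally Noetherian (every point has a Noetherian
neighbourhood) and sober, and let δ, δ' be two dimension functions on X. Then δ − δ' is locally
constant. -/
theorem result {X : Type u} [TopologicalSpace X] [QuasiSober X] [T0Space X]
    (hX : ∀ x : X, ∃ E ∈ nhds x, TopologicalSpace.NoetherianSpace E)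
    (δ δ' : X → ℤ) (hδ : PtTop.IsDimensionFunction δ) (hδ' : PtTop.IsDimensionFunction δ') :
    IsLocallyConstant (fun x => δ x - δ' x) := by
  refine (IsLocallyConstant.iff_exists_open _).mpr fun x => ?_
  obtain ⟨E, hE, hN⟩ := hX x
  obtain ⟨O, hOE, hO, hxO⟩ := mem_nhds_iff.mp hE
  obtain ⟨F, hFf, hFc, hFirr, hFu⟩ :=
    TopologicalSpace.NoetherianSpace.exists_finite_set_isClosed_irreducible
      (α := E) (s := Set.univ) isClosed_univ
  -- closures in `X` of the components of `E`
  let cl : Set E → Set X := fun t => closure (Subtype.val '' t)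
  have hB : IsClosed (⋃ t ∈ {t ∈ F | x ∉ cl t}, cl t) :=
    (hFf.subset (Set.sep_subset _ _)).isClosed_biUnion fun t _ => isClosed_closure
  refine ⟨O ∩ (⋃ t ∈ {t ∈ F | x ∉ cl t}, cl t)ᶜ, hO.inter hB.isOpen_compl, ⟨hxO, by simp⟩,
    fun y hy => ?_⟩
  have : (⟨y, hOE hy.1⟩ : E) ∈ ⋃₀ F := hFu ▸ trivial
  obtain ⟨t, ht, hyt⟩ := this
  have hyc : y ∈ cl t := subset_closure ⟨_, hyt, rfl⟩
  have hxc : x ∈ cl t := by
    by_contra h
    exact hy.2 (Set.mem_biUnion (show t ∈ {t ∈ F | x ∉ cl t} from ⟨ht, h⟩) hyc)
  have hirr : IsIrreducible (cl t) :=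
    ((hFirr t ht).image _ continuous_subtype_val.continuousOn).closure
  have hg := hirr.isGenericPoint_genericPoint isClosed_closure
  set g := hirr.genericPoint
  have key : ∀ z, g ⤳ z → δ g - δ z = δ' g - δ' z := by
    intro z hz
    have h1 := Catenary.codim_closure_eq hδ hz
    rw [Catenary.codim_closure_eq hδ' hz, Nat.cast_inj] at h1
    have a1 : 0 ≤ δ g - δ z := by
      by_cases e : g = z
      · simp [e]
      · have := hδ.1 g z hz e; omega
    have a2 : 0 ≤ δ' g - δ' z := by
      by_cases e : g = z
      · simp [e]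
      · have := hδ'.1 g z hz e; omega
    omega
  have k1 := key y (hg.specializes hyc)
  have k2 := key x (hg.specializes hxc)
  change δ y - δ' y = δ x - δ' x
  omega

end Groth.Agent.S7578
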