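import Groth.Statements.S7579
import Groth.Agent.SpecTop.Basic

set_option autoImplicit false
universe u
open SpecSp

namespace Groth.Agent.S7579

/-- Let X be a spectral space. Then X with its constructible topology is Hausdorff and totally
disconnected. The published statement also asserts that the constructible topology is quasi-compact;
this row states the Hausdorff and totally disconnected parts. -/
theorem result (X : Type u) [TopologicalSpace X] [SpectralSpace X] :
    T2Space (WithConstructibleTopology X) ∧ TotallyDisconnectedSpace (WithConstructibleTopology X) := by
  have hc : @Continuous (WithConstructibleTopology X) X _ (constructibleTopology X)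
      (WithTopology.ofTopology : WithConstructibleTopology X → X) :=
    WithTopology.continuous_ofTopology (t := constructibleTopology X)
  haveI : TotallySeparatedSpace (WithConstructibleTopology X) :=
    totallySeparatedSpace_iff_exists_isClopen.2 fun a b hab => by
      obtain ⟨U, hU, ha, hb⟩ := (@totallySeparatedSpace_iff_exists_isClopen X
        (constructibleTopology X)).1 (SpecTop.totallySeparatedSpace_cons X)
        (show WithTopology.ofTopology a ≠ WithTopology.ofTopology b from
          fun h => hab (by simpa using congrArg (WithTopology.toTopology (constructibleTopology X)) h))
      exact ⟨_, @IsClopen.preimage _ _ _ (constructibleTopology X) U hU _ hc, ha, hb⟩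
  refine ⟨⟨fun a b hab => ?_⟩, inferInstance⟩
  obtain ⟨U, hU, ha, hb⟩ := totallySeparatedSpace_iff_exists_isClopen.1 ‹_› hab
  exact ⟨U, Uᶜ, hU.2, hU.1.isOpen_compl, ha, hb, disjoint_compl_right⟩

end Groth.Agent.S7579
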