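import Groth.Statements.S7580
-- import your own Groth.Agent.* helpers here

set_option autoImplicit false
universe u
open PtTop

namespace Groth.Agent.S7580

/-- Let f : X → Y be a continuous map of topological spaces with f(X) dense in Y and Y Hausdorff. Then
the cardinality of Y is at most that of the double power set of X. -/
theorem result {X Y : Type u} [TopologicalSpace X] [TopologicalSpace Y] [T2Space Y]
    (f : X → Y) (hf : Continuous f) (hd : DenseRange f) :
    Cardinal.mk Y ≤ (2 : Cardinal.{u}) ^ ((2 : Cardinal.{u}) ^ Cardinal.mk X) := by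
  classical
  have hdense : Dense (Set.range f) := hd
  let φ : Y → Set (Set X) := fun y => {A | y ∈ closure (f '' A)}
  have hφ : Function.Injective φ := by
    intro y y' h
    by_contra hne
    obtain ⟨U, V, hU, hV, hyU, hyV, hd⟩ := t2_separation hne
    have h1 : f ⁻¹' U ∈ φ y := by
      change y ∈ closure (f '' (f ⁻¹' U))
      rw [Set.image_preimage_eq_inter_range]
      exact hdense.open_subset_closure_inter hU hyU
    rw [h] at h1
    obtain ⟨z, hzV, x, hxU, rfl⟩ := mem_closure_iff.mp h1 V hV hyV
    exact hd.le_bot ⟨hxU, hzV⟩
  calc Cardinal.mk Y ≤ Cardinal.mk (Set (Set X)) := Cardinal.mk_le_of_injective hφ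
    _ = _ := by rw [Cardinal.mk_set, Cardinal.mk_set]

end Groth.Agent.S7580
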