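import Groth.Statements.S7581
import Groth.Agent.PtTop.Catenary
-- import your own Groth.Agent.* helpers here

set_option autoImplicit false
universe u
open PtTop

namespace Groth.Agent.S7581

open Groth.Agent.PtTop Topology

/-- Let X be a topological space. Then X is catenary if and only if for every pair of irreducible closed
subsets Y ⊆ Y' the codimension codim(Y, Y') is finite and for every triple Y ⊆ Y' ⊆ Y'' of
irreducible closed subsets codim(Y, Y'') = codim(Y, Y') + codim(Y', Y''). -/
theorem result (X : Type u) [TopologicalSpace X] :
    PtTop.IsCatenarySpace X ↔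
      (∀ Y Y' : TopologicalSpace.IrreducibleCloseds X, Y ≤ Y' → PtTop.codim Y (Y' : Set X) ≠ ⊤) ∧
      (∀ Y Y' Y'' : TopologicalSpace.IrreducibleCloseds X, Y ≤ Y' → Y' ≤ Y'' →
        PtTop.codim Y (Y'' : Set X) = PtTop.codim Y (Y' : Set X) + PtTop.codim Y' (Y'' : Set X)) := by
  rw [Catenary.isCatenarySpace_iff]
  constructor
  · exact fun h => ⟨fun Y Y' hle => Catenary.codim_ne_top_of_cat h hle,
      fun Y Y' Y'' h1 h2 => Catenary.codim_add h h1 h2⟩
  · rintro ⟨hfin, hadd⟩
    refine ⟨fun p q hpq => ?_, fun s t h1 h2 hs ht => ?_⟩
    · obtain ⟨n, hn⟩ := ENat.ne_top_iff_exists.mp (hfin p q hpq)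
      exact ⟨n, fun s hp hq =>
        Nat.cast_le.mp (hn ▸ Catenary.length_le_codim s hp (by rw [hq]))⟩
    · have key : ∀ s : LTSeries (TopologicalSpace.IrreducibleCloseds X),
          Catenary.Saturated s → PtTop.codim s.head (s.last : Set X) = s.length := by
        intro s
        induction s using RelSeries.inductionOn with
        | singleton a =>
          intro _
          rw [RelSeries.head_singleton, RelSeries.last_singleton]
          have := hadd a a a le_rfl le_rfl
          obtain ⟨n, hn⟩ := ENat.ne_top_iff_exists.mp (hfin a a le_rfl)
          rw [← hn, ← Nat.cast_add, Nat.cast_inj] at this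
          rw [← hn]
          have : n = 0 := by omega
          simp [this]
        | cons p a hlt ih =>
          intro hsat
          have hidx : ∀ (j : ℕ) (hj : j < p.length + 1) (hj' : j + 1 < (p.cons a hlt).length + 1),
              (p.cons a hlt) ⟨j + 1, hj'⟩ = p ⟨j, hj⟩ := fun j hj hj' =>
            RelSeries.cons_cast_succ p a hlt ⟨j, hj⟩
          have hcov : a ⋖ p.head := by
            have h' := hsat ⟨0, by rw [RelSeries.cons_length]; omega⟩
            rw [show Fin.succ (⟨0, by rw [RelSeries.cons_length]; omega⟩ : Fin (p.cons a hlt).length)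
              = ⟨0 + 1, by rw [RelSeries.cons_length]; omega⟩ from rfl, hidx 0 (by omega)] at h'
            exact h'
          have hp : Catenary.Saturated p := by
            intro i
            have hl := RelSeries.cons_length p a hlt
            have h' := hsat ⟨i.1 + 1, by omega⟩
            change (p.cons a hlt) ⟨i.1 + 1, by omega⟩ ⋖ (p.cons a hlt) ⟨i.1 + 1 + 1, by omega⟩ at h'
            rw [hidx i.1 (by omega), hidx (i.1 + 1) (by omega)] at h'
            exact h'
          rw [RelSeries.head_cons, RelSeries.last_cons,
            hadd a p.head p.last hlt.le (LTSeries.head_le_last p), ih hp, RelSeries.cons_length, Nat.cast_add,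
            Nat.cast_one, add_comm (p.length : ℕ∞)]
          congr 1
          refine le_antisymm (Catenary.codim_le_iff.mpr fun r hr hrl => ?_) ?_
          · rw [Nat.cast_le_one]
            by_contra hgt
            have h1 : a < r ⟨1, by omega⟩ := hr ▸ r.strictMono (Fin.mk_lt_mk.mpr Nat.zero_lt_one)
            have h2 : r ⟨1, by omega⟩ < r.last :=
              r.strictMono (Fin.mk_lt_mk.mpr (by omega))
            exact hcov.2 h1 (h2.trans_le hrl)
          · exact Catenary.length_le_codim ((RelSeries.singleton _ p.head).cons a hlt)
              (RelSeries.head_cons ..) (le_of_eq (α := Set X) (congrArg (fun w : TopologicalSpace.IrreducibleCloseds X => (w : Set X))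
              ((RelSeries.last_cons ..).trans (RelSeries.last_singleton _))))
      have e1 := key s hs
      have e2 := key t ht
      rw [h1, h2, e2] at e1
      exact_mod_cast e1.symm

end Groth.Agent.S7581
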