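import Groth.Statements.S7582
import Groth.Agent.PtTop.Sob
-- import your own Groth.Agent.* helpers here

set_option autoImplicit false
universe u
open PtTop

namespace Groth.Agent.S7582

open Groth.Agent.PtTop

/-- Let X be a topological space and c : X → X′ the canonical map to its soberification (X′ =
irreducible closed subsets of X, with opens the sets of those meeting a given open of X; c(x) =
closure of {x}). Then X′ is sober, c is continuous, the rule U′ ↦ c⁻¹(U′) is a bijection from the
open subsets of X′ onto the open subsets of X (it automatically respects finite intersections and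
arbitrary unions), and every continuous map from X to a sober space Y is of the form g ∘ c for a
continuous g : X′ → Y. The published statement also asserts that g is unique and that c(X) is a
Kolmogorov space universal for maps to Kolmogorov spaces; this row omits those clauses and lets Y
range over the universe of X. -/
theorem result (X : Type u) [TopologicalSpace X] :
    QuasiSober (PtTop.Sob X) ∧ T0Space (PtTop.Sob X) ∧ Continuous (PtTop.toSob X) ∧
    Set.BijOn (fun U' : Set (PtTop.Sob X) => PtTop.toSob X ⁻¹' U') {U' | IsOpen U'} {U : Set X | IsOpen U} ∧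
    ∀ (Y : Type u) [TopologicalSpace Y] [QuasiSober Y] [T0Space Y] (f : X → Y), Continuous f →
      ∃ g : PtTop.Sob X → Y, Continuous g ∧ g ∘ PtTop.toSob X = f := by
  refine ⟨Sob.quasiSober, Sob.t0Space, Sob.continuous_toSob, ⟨?_, ?_, ?_⟩, ?_⟩
  · exact fun S hS => (show IsOpen S from hS).preimage Sob.continuous_toSob
  · intro S hS T hT h
    obtain ⟨U, hU, rfl⟩ := Sob.exists_eq_hat hS
    obtain ⟨V, hV, rfl⟩ := Sob.exists_eq_hat hT
    simp only [Sob.preimage_hat hU, Sob.preimage_hat hV] at h
    rw [h]
  · exact fun U hU => ⟨Sob.hat U, Sob.isOpen_hat hU, Sob.preimage_hat hU⟩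
  intro Y _ _ _ f hf
  have hirr : ∀ Z : TopologicalSpace.IrreducibleCloseds X, IsIrreducible (closure (f '' (Z : Set X))) :=
    fun Z => (Z.isIrreducible.image f hf.continuousOn).closure
  refine ⟨fun Z => (hirr Z).genericPoint, continuous_def.mpr fun V hV => ?_, funext fun x => ?_⟩
  · convert! Sob.isOpen_hat (hV.preimage hf) using 1
    ext Z
    rw [Set.mem_preimage,
      ((hirr Z).isGenericPoint_genericPoint isClosed_closure).mem_open_set_iff hV]
    constructor
    · rintro ⟨y, hy, hyV⟩
      obtain ⟨w, hwV, x, hx, rfl⟩ := mem_closure_iff.mp hy V hV hyV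
      exact ⟨x, hx, hwV⟩
    · rintro ⟨x, hx, hxV⟩
      exact ⟨f x, subset_closure ⟨x, hx, rfl⟩, hxV⟩
  · refine IsGenericPoint.eq ((hirr _).isGenericPoint_genericPoint isClosed_closure) ?_
    change closure {f x} = closure (f '' closure {x})
    refine subset_antisymm (closure_mono (Set.singleton_subset_iff.mpr ⟨x, subset_closure rfl, rfl⟩))
      (closure_minimal ?_ isClosed_closure)
    exact (image_closure_subset_closure_image hf).trans (by rw [Set.image_singleton])

end Groth.Agent.S7582
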