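import Groth.Statements.S7588
import Groth.Agent.ShSpLib.Basis

set_option autoImplicit false
universe u
open CategoryTheory
open ShSp

namespace Groth.Agent.S7588

/-- Let X be a topological space, ℬ a basis for its topology and F a sheaf of sets on ℬ. There is a
sheaf of sets F^ext on X together with an isomorphism of presheaves on ℬ between the restriction of
F^ext to ℬ and F; and it is unique: given two sheaves G, G′ on X with such isomorphisms e, e′, there
is a unique isomorphism G ≅ G′ whose restriction to the members of ℬ is compatible with e and e′. -/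
theorem result {X : Type u} [TopologicalSpace X] {B : Set (TopologicalSpace.Opens X)}
    (hB : TopologicalSpace.Opens.IsBasis B) (F : ShB.Pre B) (hF : ShB.IsSheaf F) :
    (∃ G : TopCat.Sheaf (Type u) (TopCat.of X), Nonempty (ShB.Iso (ShB.restrict B G.presheaf) F)) ∧
    ∀ (G G' : TopCat.Sheaf (Type u) (TopCat.of X)) (e : ShB.Iso (ShB.restrict B G.presheaf) F)
      (e' : ShB.Iso (ShB.restrict B G'.presheaf) F),
      ∃! φ : G ⟶ G', IsIso φ ∧ ∀ (U : B) (s : G.presheaf.obj (Opposite.op (U : TopologicalSpace.Opens X))),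
        e'.hom.app U (φ.1.app (Opposite.op (U : TopologicalSpace.Opens X)) s) = e.hom.app U s := by
  refine ⟨⟨ShSpLib.extSheaf F, ShSpLib.exists_iso_restrict hB hF⟩, fun G G' e e' => ?_⟩
  obtain ⟨ψ, hψ, huniq⟩ := ShSpLib.existsUnique_hom_of_basis (X := TopCat.of X) hB G.presheaf G'
    (fun U s => e'.inv.app U (e.hom.app U s)) (fun U V h s => by
      show (ShB.restrict B G'.presheaf).res h _ = _
      rw [e'.inv.natural h, e.hom.natural h]
      rfl)
  let φ : G ⟶ G' := ⟨ψ⟩
  have hiso : IsIso φ := by
    refine TopCat.Sheaf.isIso_iff_isIso_basis (X := TopCat.of X)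
      (B := ((↑) : B → TopologicalSpace.Opens X)) (by rwa [Subtype.range_coe]) fun U => ?_
    rw [isIso_iff_bijective]
    refine Function.bijective_iff_has_inverse.2 ⟨fun t => e.inv.app U (e'.hom.app U t),
      fun s => ?_, fun t => ?_⟩
    · show e.inv.app U (e'.hom.app U (ψ.app _ s)) = s
      rw [hψ U s]
      exact (congrArg (e.inv.app U) (e'.inv_hom U _)).trans (e.hom_inv U s)
    · show ψ.app _ (e.inv.app U (e'.hom.app U t)) = t
      rw [hψ U]
      exact (congrArg (e'.inv.app U) (e.inv_hom U _)).trans (e'.hom_inv U t)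
  refine ⟨φ, ⟨hiso, fun U s => (congrArg (e'.hom.app U) (hψ U s)).trans (e'.inv_hom U _)⟩, ?_⟩
  rintro φ' ⟨-, hφ'⟩
  apply ObjectProperty.hom_ext
  refine huniq φ'.hom fun U s => ?_
  exact (e'.hom_inv U _).symm.trans (congrArg (e'.inv.app U) (hφ' U s))

end Groth.Agent.S7588
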