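import Groth.Statements.S7589
import Groth.Agent.VarBC.Dim
-- import your own Groth.Agent.* helpers here

set_option autoImplicit false
universe u
open CategoryTheory CategoryTheory.Limits AlgebraicGeometry
attribute [local instance] Curv2.stalkAlgebra Curv2.resAlgebra
open Variety

namespace Groth.Agent.S7589

open Groth.Agent.FBase.BC Groth.Agent.FBase.Topo

/-- Over every generalisation of the image there is a generalisation of the same dimension. -/
lemma exists_over {k : Type u} [Field k] {X : Scheme.{u}} [X.Over (Spec (CommRingCat.of k))]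
    [LocallyOfFiniteType (X ↘ (Spec (CommRingCat.of k)))] {K : Type u} [Field K] [Algebra k K]
    [(Curv2.bc k X K).Over (Spec (CommRingCat.of K))]
    [LocallyOfFiniteType ((Curv2.bc k X K) ↘ (Spec (CommRingCat.of K)))]
    (u : Curv2.bc k X K) {η : X} (hη : η ⤳ Curv2.bcFst k X K u) :
    ∃ v, v ⤳ u ∧ Curv2.bcFst k X K v = η ∧
      Groth.Agent.VarDim.dimPt K (Curv2.bc k X K) v = Groth.Agent.VarDim.dimPt k X η := by
  let p := Curv2.bcFst k X K
  let T : Set (Curv2.bc k X K) := p ⁻¹' closure {η}
  have hT : IsClosed T := isClosed_closure.preimage p.continuous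
  let u' : T := ⟨u, hη.mem_closure⟩
  let M := (Subtype.val : T → Curv2.bc k X K) '' irreducibleComponent u'
  have hMi : IsIrreducible M :=
    (irreducibleComponent_mem_irreducibleComponents u').1.image _ continuous_subtype_val.continuousOn
  have hMc : IsClosed M := hT.isClosedEmbedding_subtypeVal.isClosedMap _ isClosed_irreducibleComponent
  have hMT : M ⊆ T := by rintro _ ⟨z, -, rfl⟩; exact z.2
  obtain ⟨v, hv⟩ : ∃ v, IsGenericPoint v M := QuasiSober.sober hMi hMc
  have hmax : ∀ V : Set (Curv2.bc k X K), IsIrreducible V → V ⊆ T → M ⊆ V → V ⊆ M := by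
    intro V hV hVT hMV
    have hi : IsIrreducible ((Subtype.val : T → Curv2.bc k X K) ⁻¹' V) := by
      refine ⟨⟨u', hMV ⟨u', mem_irreducibleComponent, rfl⟩⟩, fun a b ha hb ⟨c, hc, hca⟩ ⟨d, hd, hdb⟩ ↦ ?_⟩
      obtain ⟨a', ha', rfl⟩ := Topology.IsInducing.subtypeVal.isOpen_iff.mp ha
      obtain ⟨b', hb', rfl⟩ := Topology.IsInducing.subtypeVal.isOpen_iff.mp hb
      obtain ⟨e, heV, he⟩ := hV.2 a' b' ha' hb' ⟨c.1, hc, hca⟩ ⟨d.1, hd, hdb⟩
      exact ⟨⟨e, hVT heV⟩, heV, he⟩
    intro z hz
    exact ⟨⟨z, hVT hz⟩, (irreducibleComponent_mem_irreducibleComponents u').2 hi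
      (fun y hy ↦ hMV ⟨y, hy, rfl⟩) hz, rfl⟩
  have hd := Groth.Agent.FBase.Dim.topDim_maximal_preimage (X ↘ Spec (CommRingCat.of k)) K
    isClosed_closure isIrreducible_singleton.closure hMT hMi hmax
  refine ⟨v, hv.specializes ⟨u', mem_irreducibleComponent, rfl⟩, ?_, ?_⟩
  · obtain ⟨w, hw, hwη⟩ := Flat.generalizingMap p
      (specializes_iff_mem_closure.mpr (hMT hv.mem) : η ⤳ p v)
    have hsub : M ⊆ closure {w} :=
      hv.def.symm.le.trans (closure_minimal (Set.singleton_subset_iff.mpr hw.mem_closure) isClosed_closure)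
    have hwM : w ∈ M := hmax _ isIrreducible_singleton.closure (closure_minimal
      (Set.singleton_subset_iff.mpr (show p w ∈ closure {η} from hwη.symm ▸ subset_closure rfl)) hT)
      hsub (subset_closure rfl)
    rw [((hv.specializes hwM).antisymm hw).eq]
    exact hwη
  · rw [← hv.def, Groth.Agent.VarBC.Dim.topDim_closure K, Groth.Agent.VarBC.Dim.topDim_closure k] at hd
    exact_mod_cast hd

/-- Let X be locally of finite type over a field k, K an extension field of k, y a point of the base
change X_K and x its image in X; write a = trdeg_k κ(x) and a' = trdeg_K κ(y). Then dim O_{X_K, y} +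
a' = dim O_{X, x} + a, and the fibre ring O_{X_K, y} / m_x O_{X_K, y} has Krull dimension a - a' (in
particular a' ≤ a); dimensions in WithBot ℕ∞. -/
theorem result (k : Type u) [Field k] (X : Scheme.{u}) [X.Over (Spec (CommRingCat.of k))] [LocallyOfFiniteType (X ↘ (Spec (CommRingCat.of k)))]
    (K : Type u) [Field K] [Algebra k K] (y : ↥(Curv2.bc k X K)) (a a' : ℕ)
    (ha : Algebra.trdeg k (X.residueField (Curv2.bcFst k X K y)) = a)
    (ha' : letI : (Curv2.bc k X K).Over (Spec (CommRingCat.of K)) := ⟨Curv2.bcSnd k X K⟩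
      Algebra.trdeg K ((Curv2.bc k X K).residueField y) = a') :
    ringKrullDim ((Curv2.bc k X K).presheaf.stalk y) + (a' : WithBot ℕ∞) =
        ringKrullDim (X.presheaf.stalk (Curv2.bcFst k X K y)) + (a : WithBot ℕ∞) ∧
      ringKrullDim (↥((Curv2.bc k X K).presheaf.stalk y) ⧸ Ideal.map ((Curv2.bcFst k X K).stalkMap y).hom (IsLocalRing.maximalIdeal ↥(X.presheaf.stalk (Curv2.bcFst k X K y)))) + (a' : WithBot ℕ∞) =
        (a : WithBot ℕ∞) := by
  let P := Curv2.bc k X K
  letI : P.Over (Spec (CommRingCat.of K)) := ⟨Curv2.bcSnd k X K⟩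
  have : LocallyOfFiniteType (P ↘ Spec (CommRingCat.of K)) :=
    inferInstanceAs (LocallyOfFiniteType (Curv2.bcSnd k X K))
  let p := Curv2.bcFst k X K
  let d := Groth.Agent.VarDim.dimPt K P
  let e := Groth.Agent.VarDim.dimPt k X
  have ha1 : e (p y) = a := by
    rw [Groth.Agent.VarDim.trdeg_residueField, Nat.cast_inj] at ha
    exact ha
  have ha2 : d y = a' := by
    rw [Groth.Agent.VarDim.trdeg_residueField, Nat.cast_inj] at ha'
    exact ha'
  have hle : ∀ u, d u ≤ e (p u) := fun u ↦ by
    obtain ⟨v, hv, -, hd⟩ := exists_over (k := k) (K := K) u (specializes_refl (p u))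
    exact (Groth.Agent.VarDim.exists_ltSeries_of_le K (show u ≤ v from hv)).1.trans hd.le
  constructor
  · obtain ⟨n, hn, hl⟩ := Groth.Agent.VarDim.localDim_eq_coheight_add K y
    obtain ⟨m, hm, hl'⟩ := Groth.Agent.VarDim.localDim_eq_coheight_add k (p y)
    obtain ⟨w, hw, hwmax, hw'⟩ := Groth.Agent.VarDim.exists_localDim_eq K y
    obtain ⟨η, hη, hηmax, hη'⟩ := Groth.Agent.VarDim.exists_localDim_eq k (p y)
    have h1 : d w = e η := by
      refine le_antisymm ((hle w).trans (hηmax _ (hw.map p.continuous))) ?_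
      obtain ⟨v, hv, -, hd⟩ := exists_over (k := k) (K := K) y hη
      exact hd.symm.le.trans (hwmax v hv)
    rw [hw', Nat.cast_inj] at hl
    rw [hη', Nat.cast_inj] at hl'
    have h2 : n + a' = m + a := by
      rw [← ha1, ← ha2]
      exact hl.symm.trans (h1.trans hl')
    rw [ringKrullDim_stalk_eq_coheight, hn, ringKrullDim_stalk_eq_coheight, hm]
    exact_mod_cast h2
  · obtain ⟨v, hv, hvx, hdv⟩ := exists_over (k := k) (K := K) y (specializes_refl (p y))
    obtain ⟨-, l, hl1, hl2, hl3⟩ := Groth.Agent.VarDim.exists_ltSeries_of_le K (show y ≤ v from hv)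
    have hd' : d v = a := hdv.trans ha1
    have hl' : d y + l.length = d v := hl3
    let S := {z : P // y ≤ z ∧ p z = p y}
    have hl : ∀ i, y ≤ l i ∧ p (l i) = p y := fun i ↦ by
      have h1 : y ≤ l i := hl1 ▸ l.monotone (Fin.zero_le i)
      have h2 : l i ≤ v := le_trans (l.monotone (Fin.le_last i)) hl2
      refine ⟨h1, ((show p (l i) ⤳ p y from h1.map p.continuous).antisymm ?_).eq⟩
      exact hvx ▸ h2.map p.continuous
    have hS : Order.krullDim S + (a' : WithBot ℕ∞) = a := by
      have hlen : Order.krullDim S = (l.length : WithBot ℕ∞) := by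
        refine le_antisymm (iSup_le fun q ↦ ?_) ?_
        · have h1 := Groth.Agent.VarDim.dimPt_add_length_le K
            (q.map Subtype.val fun _ _ h ↦ h)
          have h2 : d (q.map Subtype.val fun _ _ h ↦ h).last ≤ a :=
            ((hle _).trans (le_of_eq (congrArg e q.last.2.2))).trans ha1.le
          have h3 : d y ≤ d (q.map Subtype.val fun _ _ h ↦ h).head :=
            (Groth.Agent.VarDim.exists_ltSeries_of_le K q.head.2.1).1
          have : (q.map Subtype.val fun _ _ h ↦ h).length = q.length := rfl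
          have h1' : d (q.map Subtype.val fun _ _ h ↦ h).head + q.length ≤
              d (q.map Subtype.val fun _ _ h ↦ h).last := h1
          exact_mod_cast (show q.length ≤ l.length by clear_value d; omega)
        · exact Order.LTSeries.length_le_krullDim (LTSeries.mk l.length (fun i ↦ (⟨l i, hl i⟩ : S))
            fun i j hij ↦ l.strictMono hij)
      rw [hlen]
      exact_mod_cast (show l.length + a' = a by omega)
    refine Eq.trans ?_ hS
    congr 1
    rw [← Order.krullDim_orderDual]
    let I := Ideal.map (p.stalkMap y).hom (IsLocalRing.maximalIdeal (X.presheaf.stalk (p y)))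
    have hI : ∀ Q : PrimeSpectrum (P.presheaf.stalk y),
        I ≤ Q.asIdeal ↔ p (P.fromSpecStalk y Q) = p y := by
      intro Q
      have e1 : p (P.fromSpecStalk y Q) =
          X.fromSpecStalk (p y) ((Spec.map (p.stalkMap y)) Q) := by
        rw [← Scheme.Hom.comp_apply, ← Scheme.SpecMap_stalkMap_fromSpecStalk, Scheme.Hom.comp_apply]
      rw [e1]
      conv_rhs => rhs; rw [← Scheme.fromSpecStalk_closedPoint (X := X) (x := p y)]
      rw [(X.fromSpecStalk (p y)).isEmbedding.injective.eq_iff, Ideal.map_le_iff_le_comap]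
      refine ⟨fun h ↦ PrimeSpectrum.ext ?_, fun h ↦ ?_⟩
      · exact ((IsLocalRing.maximalIdeal.isMaximal _).eq_of_le
          (Ideal.IsPrime.comap _).ne_top h).symm
      · exact (congrArg PrimeSpectrum.asIdeal h).symm.le
    have hto : ∀ Q : PrimeSpectrum (P.presheaf.stalk y ⧸ I),
        y ≤ P.fromSpecStalk y (PrimeSpectrum.comap (Ideal.Quotient.mk I) Q) ∧
          p (P.fromSpecStalk y (PrimeSpectrum.comap (Ideal.Quotient.mk I) Q)) = p y := fun Q ↦ by
      refine ⟨?_, (hI _).mp fun r hr ↦ ?_⟩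
      · exact Scheme.range_fromSpecStalk.le (Set.mem_range_self _)
      · show Ideal.Quotient.mk I r ∈ Q.asIdeal
        rw [Ideal.Quotient.eq_zero_iff_mem.mpr hr]
        exact zero_mem _
    let φ : (PrimeSpectrum (P.presheaf.stalk y ⧸ I))ᵒᵈ → S := fun Q ↦ ⟨_, hto (OrderDual.ofDual Q)⟩
    have hφ : ∀ Q R, φ Q ≤ φ R ↔ Q ≤ R := fun Q R ↦ by
      change P.fromSpecStalk y _ ⤳ P.fromSpecStalk y _ ↔ _
      rw [(P.fromSpecStalk y).isEmbedding.isInducing.specializes_iff]
      exact (PrimeSpectrum.le_iff_specializes _ _).symm.trans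
        ((Ideal.comap_le_comap_iff_of_surjective _ Ideal.Quotient.mk_surjective _ _))
    have hφs : Function.Surjective φ := by
      rintro ⟨z, hz1, hz2⟩
      obtain ⟨Q, rfl⟩ := Scheme.range_fromSpecStalk.ge (show z ⤳ y from hz1)
      have hQ := (hI Q).mpr hz2
      obtain ⟨R, hR⟩ := (range_comap_of_surjective _ (Ideal.Quotient.mk I)
        Ideal.Quotient.mk_surjective).ge
        (show Q ∈ PrimeSpectrum.zeroLocus (RingHom.ker (Ideal.Quotient.mk I) : Set _) by
          rw [Ideal.mk_ker]; exact hQ)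
      exact ⟨OrderDual.toDual R, Subtype.ext (congrArg (P.fromSpecStalk y) hR)⟩
    exact Order.krullDim_eq_of_orderIso
      { Equiv.ofBijective φ ⟨fun Q R h ↦ le_antisymm
          ((hφ Q R).mp (h ▸ le_refl _)) ((hφ R Q).mp (h ▸ le_refl _)), hφs⟩ with
        map_rel_iff' := hφ _ _ }

end Groth.Agent.S7589
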