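import Groth.Statements.S7591
import Groth.Agent.VarBC.Conn
-- import your own Groth.Agent.* helpers here

set_option autoImplicit false
universe u
open CategoryTheory CategoryTheory.Limits AlgebraicGeometry
open Variety

namespace Groth.Agent.S7591

open Groth.Agent.VarBC Groth.Agent.FBase.BC Groth.Agent.FBase.BC2

/-- For a scheme X over a field k, geometric connectedness of X over k holds exactly when, for each
finite separable extension field k' of k, the base change X_{k'} is a connected (so nonempty)
scheme. -/
theorem result (k : Type u) [Field k] (X : Scheme.{u}) [X.Over (Spec (CommRingCat.of k))] :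
    GeometricallyConnected (X ↘ (Spec (CommRingCat.of k))) ↔
      ∀ (k' : Type u) [Field k'] [Algebra k k'] [FiniteDimensional k k'] [Algebra.IsSeparable k k'],
        ConnectedSpace ↥(Curv2.bc k X k') := by
  let f := X ↘ Spec (CommRingCat.of k)
  refine ⟨fun h k' _ _ _ _ ↦
    pullback_of_geometrically h.geometrically_connectedSpace k' _, fun h ↦ ?_⟩
  have : ConnectedSpace ↥(pullback f (specMap k k)) := h k
  have := surjective_pullback_fst (K := k) f
  have := connectedSpace_of_surjective (pullback.fst f (specMap k k))
  have : ConnectedSpace ↥(pullback f (specMap k (SeparableClosure k))) :=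
    connectedSpace_of_stages f fun E ↦
      haveI := E.2
      haveI : Algebra.IsSeparable k E.1 := Algebra.IsSeparable.of_algHom k _ E.1.val
      h E.1
  exact (Groth.Agent.FBase.BC.geometricallyConnected_iff f).mpr
    (geometricallyConnected_of_isSepClosed (k := SeparableClosure k) _)

end Groth.Agent.S7591
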