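import Groth.Statements.S7593
import Groth.Agent.VarBC.Conn
-- import your own Groth.Agent.* helpers here

set_option autoImplicit false
universe u
open CategoryTheory CategoryTheory.Limits AlgebraicGeometry
open Variety

namespace Groth.Agent.S7593

open Groth.Agent.VarBC Groth.Agent.FBase.BC Groth.Agent.FBase.BC2

/-- Let k̄ be a separable algebraic closure of a field k, X a scheme over k and t a point of X_{k̄} with
image x in X. The connected component of t is mapped onto itself by the action of every
k-automorphism of k̄ if and only if it equals the full inverse image of the connected component T of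
x in X and T is geometrically connected over k (the inverse image of T in X_K is connected for every
extension field K of k). -/
theorem result (k : Type u) [Field k] (X : Scheme.{u}) [X.Over (Spec (CommRingCat.of k))] (t : ↥(Curv2.bc k X (SeparableClosure k))) :
    (∀ σ : SeparableClosure k ≃ₐ[k] SeparableClosure k,
        (Curv2.galAct k X (SeparableClosure k) σ).base '' connectedComponent t = connectedComponent t) ↔
      ((Curv2.bcFst k X (SeparableClosure k)).base ⁻¹' connectedComponent (Curv2.bcFst k X (SeparableClosure k) t) = connectedComponent t ∧
        ∀ (K : Type u) [Field K] [Algebra k K],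
          _root_.IsConnected ((Curv2.bcFst k X K).base ⁻¹' connectedComponent (Curv2.bcFst k X (SeparableClosure k) t))) := by
  let f := X ↘ Spec (CommRingCat.of k)
  let p := pullback.fst f (specMap k (SeparableClosure k))
  constructor
  · intro hinv
    have hpre : p ⁻¹' connectedComponent (p t) = connectedComponent t := by
      refine subset_antisymm (fun z hz ↦ ?_) fun z hz ↦
        p.continuous.image_connectedComponent_subset t (Set.mem_image_of_mem p hz)
      have e : connectedComponent (p t) = connectedComponent (p z) := connectedComponent_eq hz
      obtain ⟨b, hb, hbt⟩ := (Groth.Agent.VarBC.image_connectedComponent f z).ge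
        (e ▸ mem_connectedComponent : p t ∈ connectedComponent (p z))
      obtain ⟨σ, hσ⟩ := exists_galAct_eq (a := t) (b := b) hbt.symm
      have hb' : b ∈ connectedComponent t := hinv σ ▸ ⟨t, mem_connectedComponent, hσ⟩
      rw [connectedComponent_eq hb', ← connectedComponent_eq hb]
      exact mem_connectedComponent
    refine ⟨hpre, fun K _ _ ↦ ?_⟩
    refine isConnected_preimage_fst_of_set f (K := K) isConnected_connectedComponent subset_rfl
      ⟨_, mem_connectedComponent⟩ ?_
    let q := bcMap f (K := SeparableClosure k) (L := AlgebraicClosure k)
    have := geometricallyConnected_bcMap f (K := SeparableClosure k) (L := AlgebraicClosure k)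
    have := universallyOpen_bcMap f (K := SeparableClosure k) (L := AlgebraicClosure k)
    have h1 := (Groth.Agent.FBase.BC2.isConnected_preimage q q.isOpenMap
      (hpre.symm ▸ isConnected_connectedComponent :
        _root_.IsConnected (p ⁻¹' connectedComponent (p t)))).isPreconnected
    rwa [← Set.preimage_comp, ← TopCat.coe_comp, ← Scheme.Hom.comp_base, bcMap_fst] at h1
  · rintro ⟨h, -⟩ σ
    rw [← h]
    exact galAct_image_preimage σ _

end Groth.Agent.S7593
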