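import Groth.Statements.S7596
import Groth.Agent.VarBC.Basic
-- import your own Groth.Agent.* helpers here

set_option autoImplicit false
universe u
open CategoryTheory CategoryTheory.Limits AlgebraicGeometry
open Variety

namespace Groth.Agent.S7596

open Groth.Agent.VarBC Groth.Agent.FBase.BC Groth.Agent.FBase.BC2

/-- Let X be an irreducible scheme over a field k whose k-rational points (points x at which k → κ(x) is
onto) form a dense subset. Then X is geometrically irreducible over k. -/
theorem result (k : Type u) [Field k] (X : Scheme.{u}) [X.Over (Spec (CommRingCat.of k))] [IrreducibleSpace ↥X]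
    (hd : Dense {x : ↥X | Function.Surjective (Curv2.resMap k X x)}) :
    GeometricallyIrreducible (X ↘ (Spec (CommRingCat.of k))) := by
  refine geometricallyIrreducible_of_dense_subsingleton_fibres _ _ hd fun K _ _ x hx ↦ ?_
  obtain ⟨κ, _, _, ι, _, hι, hr, hs⟩ := exists_point_res (k := k) X x
    (fun (F : Type u) [Field F] [Algebra k F] ↦ Function.Surjective (algebraMap k F))
    hx
  rw [← hr]
  exact subsingleton_fibre_of_surjective _ ι hι hs K

end Groth.Agent.S7596
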