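import Groth.Statements.S7597
import Groth.Agent.VarBC.Irred
-- import your own Groth.Agent.* helpers here

set_option autoImplicit false
universe u
open CategoryTheory CategoryTheory.Limits AlgebraicGeometry
open Variety

namespace Groth.Agent.S7597

open Groth.Agent.VarBC Groth.Agent.FBase.BC Groth.Agent.FBase.BC2

/-- Let k̄ be a separable algebraic closure of a field k, X a scheme over k and Z an irreducible
component of X_{k̄}. Then Z is mapped onto itself by the action of every k-automorphism of k̄ if and
only if Z is the full inverse image of some irreducible component T of X which is geometrically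
irreducible over k (the inverse image of T in X_K is irreducible for every extension field K of k). -/
theorem result (k : Type u) [Field k] (X : Scheme.{u}) [X.Over (Spec (CommRingCat.of k))]
    (Z : Set ↥(Curv2.bc k X (SeparableClosure k))) (hZ : Z ∈ irreducibleComponents ↥(Curv2.bc k X (SeparableClosure k))) :
    (∀ σ : SeparableClosure k ≃ₐ[k] SeparableClosure k, (Curv2.galAct k X (SeparableClosure k) σ).base '' Z = Z) ↔
      ∃ T ∈ irreducibleComponents ↥X, (Curv2.bcFst k X (SeparableClosure k)).base ⁻¹' T = Z ∧
        ∀ (K : Type u) [Field K] [Algebra k K], IsIrreducible ((Curv2.bcFst k X K).base ⁻¹' T) := by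
  let f := X ↘ Spec (CommRingCat.of k)
  let p := pullback.fst f (specMap k (SeparableClosure k))
  constructor
  · intro hinv
    obtain ⟨w, hw⟩ : ∃ w, IsGenericPoint w Z :=
      QuasiSober.sober hZ.1 (isClosed_of_mem_irreducibleComponents Z hZ)
    have hT := (image_component f hZ hw).2
    have hfib : ∀ b, p b = p w → b = w := by
      intro b hb
      obtain ⟨σ, hσ⟩ := exists_galAct_eq (a := w) (b := b) hb.symm
      refine hσ.symm.trans (IsGenericPoint.eq (S := Z) ?_ hw)
      have h2 := (galHomeo σ).image_closure {w}
      rw [hw.def, Set.image_singleton] at h2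
      exact h2.symm.trans (hinv σ)
    refine ⟨_, hT, subset_antisymm (fun z hz ↦ ?_) fun z hz ↦
      ((hw.specializes hz).map p.continuous).mem_closure, fun K _ _ ↦ ?_⟩
    · obtain ⟨v, hv, hvw⟩ := Flat.generalizingMap p ((specializes_iff_mem_closure.mpr hz))
      rw [hfib v hvw] at hv
      exact hv.mem_closed (isClosed_of_mem_irreducibleComponents Z hZ) hw.mem
    · obtain ⟨κ, _, _, ι, _, hι, hr⟩ := Groth.Agent.FBase.Components.exists_point f (p w)
      refine Groth.Agent.FBase.IrredComp.isIrreducible_preimage_fst_of_point f isGenericPoint_closure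
        (fun a ha b hb ↦ ?_) (K := K)
      have hsplit : ∀ a : separableClosure k κ,
          ((minpoly k a).map (algebraMap k (SeparableClosure k))).Splits := fun a ↦
        IsSepClosed.splits_codomain _ (Algebra.IsSeparable.isSeparable k a)
      refine Groth.Agent.FBase.Components.injOn_bcMap f ι hι hsplit (K := SeparableClosure k)
        (hr.ge ha) (hr.ge hb) ((hfib _ ?_).trans (hfib _ ?_).symm)
      · rw [← Scheme.Hom.comp_apply, bcMap_fst]
        exact ha
      · rw [← Scheme.Hom.comp_apply, bcMap_fst]
        exact hb
  · rintro ⟨T, -, rfl, -⟩ σ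
    exact galAct_image_preimage σ T

end Groth.Agent.S7597
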