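import Groth.Statements.S7598
import Groth.Agent.VarBC.Irred
-- import your own Groth.Agent.* helpers here

set_option autoImplicit false
universe u
open CategoryTheory CategoryTheory.Limits AlgebraicGeometry
open Variety

namespace Groth.Agent.S7598

open Groth.Agent.VarBC Groth.Agent.FBase.BC Groth.Agent.FBase.BC2

/-- Let k̄ be a separable algebraic closure of a field k and X a scheme over k. Two irreducible
components Z', Z'' of X_{k̄} have the same image in X if and only if Z'' is the image of Z' under
the action of some k-automorphism of k̄ on X_{k̄} (the fibres of the map on irreducible components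
are the Galois orbits). -/
theorem result (k : Type u) [Field k] (X : Scheme.{u}) [X.Over (Spec (CommRingCat.of k))]
    (Z' Z'' : Set ↥(Curv2.bc k X (SeparableClosure k))) (hZ' : Z' ∈ irreducibleComponents ↥(Curv2.bc k X (SeparableClosure k)))
    (hZ'' : Z'' ∈ irreducibleComponents ↥(Curv2.bc k X (SeparableClosure k))) :
    (Curv2.bcFst k X (SeparableClosure k)).base '' Z' = (Curv2.bcFst k X (SeparableClosure k)).base '' Z'' ↔
      ∃ σ : SeparableClosure k ≃ₐ[k] SeparableClosure k, (Curv2.galAct k X (SeparableClosure k) σ).base '' Z' = Z'' := by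
  let f := X ↘ Spec (CommRingCat.of k)
  let p := pullback.fst f (specMap k (SeparableClosure k))
  obtain ⟨w', hw'⟩ : ∃ w, IsGenericPoint w Z' :=
    QuasiSober.sober hZ'.1 (isClosed_of_mem_irreducibleComponents Z' hZ')
  obtain ⟨w'', hw''⟩ : ∃ w, IsGenericPoint w Z'' :=
    QuasiSober.sober hZ''.1 (isClosed_of_mem_irreducibleComponents Z'' hZ'')
  constructor
  · intro h
    have h1 := (image_component f hZ' hw').1.symm.trans (h.trans (image_component f hZ'' hw'').1)
    have hp : p w' = p w'' :=
      (isGenericPoint_closure (x := p w')).eq (h1.symm ▸ isGenericPoint_closure)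
    obtain ⟨σ, hσ⟩ := exists_galAct_eq hp
    refine ⟨σ, ?_⟩
    have h2 := (galHomeo σ).image_closure {w'}
    rw [hw'.def, Set.image_singleton] at h2
    exact h2.trans ((congrArg (fun z ↦ closure {z}) hσ).trans hw''.def)
  · rintro ⟨σ, rfl⟩
    rw [Set.image_image]
    exact Set.image_congr fun z _ ↦ (galAct_fst_apply σ z).symm

end Groth.Agent.S7598
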