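import Groth.Statements.S7601
import Mathlib
import Groth.Agent.GeomLoc.Normal
import Groth.Agent.GeomLoc.Prod
-- import your own Groth.Agent.* helpers here

set_option autoImplicit false
universe u
open CategoryTheory CategoryTheory.Limits AlgebraicGeometry
open Variety

namespace Groth.Agent.S7601

/-- Let X be a geometrically normal scheme over a field k (X_K is a normal scheme for every extension
field K of k) and Y a normal scheme over k. Then X ×_k Y is a normal scheme. -/
theorem result (k : Type u) [Field k] (X : Scheme.{u}) [X.Over (Spec (CommRingCat.of k))] (Y : Scheme.{u}) [Y.Over (Spec (CommRingCat.of k))]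
    (hX : ∀ (K : Type u) [Field K] [Algebra k K], Pi1.IsNormalScheme (Curv2.bc k X K)) (hY : Pi1.IsNormalScheme Y) :
    Pi1.IsNormalScheme (pullback (X ↘ (Spec (CommRingCat.of k))) (Y ↘ (Spec (CommRingCat.of k)))) := by
  intro z
  obtain ⟨A, B, _, _, _, _, j, i, hjo, hio, P, p, q, hj, -, hp, -, hPp, -, ⟨e⟩⟩ :=
    GeomLoc.exists_prime_prod z
  have hA : EGA4.IsGeomNormal k (Localization.AtPrime p.asIdeal) := fun L _ _ hf => by
    haveI := hf
    exact (GeomLoc.normal_over_iff p.asIdeal L).1 ((GeomLoc.point_iff j hj p L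
      (fun R _ => GeomLoc.IsNormalLocal R) GeomLoc.isNormalLocal_congr).1 fun x' _ => hX L x')
  have hB : EGA4.IsNormalRing B := fun q' _ =>
    GeomLoc.isNormalLocal_congr _ _ (FBase.PointScheme.chartStalkEquiv i ⟨q', inferInstance⟩) (hY _)
  obtain ⟨Q, hQ, ⟨e'⟩⟩ := GeomLoc.exists_prime_atPrime p.asIdeal P.asIdeal hPp
  exact GeomLoc.isNormalLocal_congr _ _ (e.trans e').symm
    (GeomFieldLib.isNormalRing_tensor_general B hA hB Q)

end Groth.Agent.S7601
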