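import Groth.Statements.S7602
import Mathlib
import Groth.Agent.GeomLoc.Normal
import Groth.Agent.GeomLoc.Prod
-- import your own Groth.Agent.* helpers here

set_option autoImplicit false
universe u
open CategoryTheory CategoryTheory.Limits AlgebraicGeometry
open Variety

namespace Groth.Agent.S7602

/-- Let X be a normal scheme over a field k and K an extension field of k which is separable over k in
the sense that Spec K → Spec k is geometrically reduced (K ⊗_k k' reduced for every field k' over
k). Then X_K is a normal scheme. -/
theorem result (k : Type u) [Field k] (X : Scheme.{u}) [X.Over (Spec (CommRingCat.of k))] (hX : Pi1.IsNormalScheme X)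
    (K : Type u) [Field K] [Algebra k K] [GeometricallyReduced (Spec.map (CommRingCat.ofHom (algebraMap k K)))] :
    Pi1.IsNormalScheme (Curv2.bc k X K) := by
  intro x'
  obtain ⟨A, _, _, j, p, e, hjo, hp, hj, he⟩ := GeomLoc.exists_chart k X (Curv2.bcFst k X K x')
  haveI := FBase.BC.isGeometricallyReduced_of_geometricallyReduced_specMap (k := k) K
  have hA : EGA4.IsNormalRing (Localization.AtPrime p.asIdeal) := by
    have hn := GeomLoc.isNormalLocal_congr _ _ e (hX _)
    haveI := hn.1
    haveI := hn.2
    exact GeomFieldLib.isNormalRing_of_isDomain _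
  have hK := GeomFieldLib.isNormalRing_tensor_general (A := K) (Localization.AtPrime p.asIdeal)
    (GeomFieldLib.isGeomNormal_of_geometricallyReduced k K) hA
  exact (GeomLoc.point_iff j hj p K (fun R _ => GeomLoc.IsNormalLocal R) GeomLoc.isNormalLocal_congr).2
    (fun P _ hP => GeomLoc.forall_over_of_all p.asIdeal K (fun R _ => GeomLoc.IsNormalLocal R)
      GeomLoc.isNormalLocal_congr (fun Q _ => EGA4Lib.isNormalRing_of_ringEquiv
        (Algebra.TensorProduct.comm k K (Localization.AtPrime p.asIdeal)).toRingEquiv hK Q) P hP)
    x' hp.symm

end Groth.Agent.S7602
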