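import Groth.Statements.S7604
import Mathlib
import Groth.Agent.GeomLoc.Reduced
import Groth.Agent.GeomLoc.Prod
-- import your own Groth.Agent.* helpers here

set_option autoImplicit false
universe u
open CategoryTheory CategoryTheory.Limits AlgebraicGeometry
open Variety
open scoped TensorProduct

namespace Groth.Agent.S7604

/-- Let X and Y be schemes over a field k with Y reduced, and let x be a point of X at which X is
geometrically reduced. Then each point of X ×_k Y mapping to x has a reduced local ring. -/
theorem result (k : Type u) [Field k] (X : Scheme.{u}) [X.Over (Spec (CommRingCat.of k))] (Y : Scheme.{u}) [Y.Over (Spec (CommRingCat.of k))] [IsReduced Y]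
    (x : ↥X) (hx : Curv2.IsGeomReducedAt k X x) (z : ↥(pullback (X ↘ (Spec (CommRingCat.of k))) (Y ↘ (Spec (CommRingCat.of k)))))
    (hz : pullback.fst (X ↘ (Spec (CommRingCat.of k))) (Y ↘ (Spec (CommRingCat.of k))) z = x) :
    _root_.IsReduced ↥((pullback (X ↘ (Spec (CommRingCat.of k))) (Y ↘ (Spec (CommRingCat.of k)))).presheaf.stalk z) := by
  obtain ⟨A, B, _, _, _, _, j, i, hjo, hio, P, p, q, hj, -, hp, -, hPp, -, ⟨e⟩⟩ :=
    GeomLoc.exists_prime_prod z
  rw [hz] at hp
  rw [← hp, GeomLoc.isGeomReducedAt_iff_chart j hj p] at hx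
  obtain ⟨Q, hQ, ⟨e'⟩⟩ := GeomLoc.exists_prime_atPrime p.asIdeal P.asIdeal hPp
  have : AlgebraicGeometry.IsReduced (Spec (CommRingCat.of B)) := isReduced_of_isOpenImmersion i
  haveI : _root_.IsReduced B := (affine_isReduced_iff (CommRingCat.of B)).mp this
  haveI : _root_.IsReduced (B ⊗[k] Localization.AtPrime p.asIdeal) :=
    FBase.TensorAlgClosed.isReduced_tensor_of_isReduced_of_isGeometricallyReduced
  haveI : _root_.IsReduced (Localization.AtPrime p.asIdeal ⊗[k] B) :=
    isReduced_of_injective _ (Algebra.TensorProduct.comm k (Localization.AtPrime p.asIdeal) B).injective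
  haveI : _root_.IsReduced (Localization.AtPrime Q) :=
    isReduced_localizationPreserves Q.primeCompl (Localization.AtPrime Q) ‹_›
  exact isReduced_of_injective (e.trans e') (e.trans e').injective

end Groth.Agent.S7604
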