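import Groth.Statements.S7605
import Mathlib
import Groth.Agent.GeomLoc.Regular
-- import your own Groth.Agent.* helpers here

set_option autoImplicit false
universe u
open CategoryTheory CategoryTheory.Limits AlgebraicGeometry
open Variety
open scoped TensorProduct

namespace Groth.Agent.S7605

lemma affine_case (k : Type u) [Field k] (k' : Type u) [Field k'] [Algebra k k']
    [Algebra.EssFiniteType k k'] (A : Type u) [CommRing A] [Algebra k A]
    (f : Spec (CommRingCat.of A) ⟶ Spec (CommRingCat.of k))
    (hf : f = Spec.map (CommRingCat.ofHom (algebraMap k A))) :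
    IsNoetherianRing A ↔
      IsLocallyNoetherian (pullback f (Spec.map (CommRingCat.ofHom (algebraMap k k')))) := by
  subst hf
  constructor
  · intro hA
    haveI := (GeomLoc.isNoetherianRing_tensor_fg (k := k) (R := A) k').1
    exact isLocallyNoetherian_of_isOpenImmersion (pullbackSpecIso k A k').hom
  · intro hP
    haveI : IsLocallyNoetherian (Spec (CommRingCat.of (A ⊗[k] k'))) :=
      isLocallyNoetherian_of_isOpenImmersion (pullbackSpecIso k A k').inv
    haveI : IsNoetherianRing (A ⊗[k] k') := isLocallyNoetherian_Spec.mp this
    exact GeomLoc.isNoetherianRing_of_faithfullyFlat A (A ⊗[k] k')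

/-- For a scheme X over a field k and a finitely generated field extension k' of k, local Noetherianity
of X is equivalent to local Noetherianity of its base change X_{k'}. -/
theorem result (k : Type u) [Field k] (X : Scheme.{u}) [X.Over (Spec (CommRingCat.of k))] (k' : Type u) [Field k'] [Algebra k k']
    (hfg : (⊤ : IntermediateField k k').FG) :
    IsLocallyNoetherian X ↔ IsLocallyNoetherian (Curv2.bc k X k') := by
  haveI := GeomLoc.essFiniteType_of_fg hfg
  let g := Spec.map (CommRingCat.ofHom (algebraMap k k'))
  let 𝒰 := Scheme.Pullback.openCoverOfLeft X.affineCover (X ↘ Spec (CommRingCat.of k)) g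
  have key : ∀ i, IsLocallyNoetherian (X.affineCover.X i) ↔ IsLocallyNoetherian (𝒰.X i) := by
    intro i
    obtain ⟨φ, hφ⟩ := Spec.map_surjective (X.affineCover.f i ≫ X ↘ Spec (CommRingCat.of k))
    letI := φ.hom.toAlgebra
    show IsLocallyNoetherian (Spec _) ↔
      IsLocallyNoetherian (pullback (X.affineCover.f i ≫ X ↘ Spec (CommRingCat.of k)) g)
    rw [isLocallyNoetherian_Spec]
    exact affine_case k k' _ _ hφ.symm
  rw [isLocallyNoetherian_iff_openCover X.affineCover, isLocallyNoetherian_iff_openCover 𝒰]
  exact forall_congr' key

end Groth.Agent.S7605
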