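import Groth.Statements.S7607
import Mathlib
import Groth.Agent.GeomLoc.Regular
-- import your own Groth.Agent.* helpers here

set_option autoImplicit false
universe u
open CategoryTheory CategoryTheory.Limits AlgebraicGeometry
open Variety
open scoped TensorProduct

namespace Groth.Agent.S7607

/-- (2) ⇒ (1): let X be a scheme over a field k, k' a finitely generated field extension of k and x' a
point of X_{k'} with image x in X. If X_{k'} is geometrically regular at x' over k', then X is
geometrically regular at x over k. (The published setting defines geometric regularity only for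
locally Noetherian schemes; this row allows any scheme X over k.) -/
theorem result (k : Type u) [Field k] (X : Scheme.{u}) [X.Over (Spec (CommRingCat.of k))] (k' : Type u) [Field k'] [Algebra k k'] (hfg : (⊤ : IntermediateField k k').FG)
    (x' : ↥(Curv2.bc k X k'))
    (h : @Curv2.IsGeomRegularAt k' _ (Curv2.bc k X k') ⟨Curv2.bcSnd k X k'⟩ x') :
    Curv2.IsGeomRegularAt k X (Curv2.bcFst k X k' x') := by
  intro K _ _ hK y hy
  obtain ⟨E, _, _, _, _, _, _, z, rfl, hzx, hEfg⟩ := GeomLoc.exists_common_point y x' hy
  exact GeomLoc.isRegularLocalRing_stalk_of_tower z ((GeomLoc.forall_point_tower (E := E) x'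
    (fun R _ => IsRegularLocalRing R) GeomLoc.isRegularLocalRing_congr).1
    (fun z hz => h E (hEfg hK) z hz) z hzx)

end Groth.Agent.S7607
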