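import Groth.Statements.S7608
import Mathlib
import Groth.Agent.GeomLoc.Regular
import Groth.Agent.GeomLoc.CM
-- import your own Groth.Agent.* helpers here

set_option autoImplicit false
universe u
open CategoryTheory CategoryTheory.Limits AlgebraicGeometry
open Variety
open scoped TensorProduct

namespace Groth.Agent.S7608

/-- Let X be a locally Noetherian scheme over a field k, k' a finitely generated field extension of k
and x' a point of X_{k'} with image x in X. Then the local ring O_{X, x} is Cohen-Macaulay if and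
only if O_{X_{k'}, x'} is Cohen-Macaulay. -/
theorem result (k : Type u) [Field k] (X : Scheme.{u}) [X.Over (Spec (CommRingCat.of k))] [IsLocallyNoetherian X] (k' : Type u) [Field k'] [Algebra k k']
    (hfg : (⊤ : IntermediateField k k').FG) (x' : ↥(Curv2.bc k X k')) :
    LocCoh.IsCohenMacaulayLocalRing ↥(X.presheaf.stalk (Curv2.bcFst k X k' x')) ↔
      LocCoh.IsCohenMacaulayLocalRing ↥((Curv2.bc k X k').presheaf.stalk x') := by
  haveI := GeomLoc.essFiniteType_of_fg hfg
  obtain ⟨A, _, _, j, p, e, hjo, hp, hj, -⟩ := GeomLoc.exists_chart k X (Curv2.bcFst k X k' x')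
  obtain ⟨P, hP, -, ⟨e'⟩⟩ := FBase.PointScheme.exists_prime_of_point _ j k' hj p x' hp.symm
  haveI := GeomLoc.isNoetherianRing_of_chart j
  haveI := (GeomLoc.isNoetherianRing_tensor_fg (k := k) (R := A) k').1
  have key := GeomLoc.cm_over_iff p.asIdeal k' (fun q _ => GeomFieldLib.isCohenMacaulayRing_of_ringEquiv
    (Algebra.TensorProduct.comm k k' q.ResidueField).toRingEquiv
    (GeomFieldLib.isCohenMacaulayRing_tensor_fg k k' q.ResidueField
      (GeomFieldLib.isCohenMacaulayRing_of_isArtinianRing _))) P.asIdeal hP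
  exact ⟨fun h => GeomLoc.isCohenMacaulayLocalRing_congr _ _ e'.symm
      (key.1 (GeomLoc.isCohenMacaulayLocalRing_congr _ _ e h)),
    fun h => GeomLoc.isCohenMacaulayLocalRing_congr _ _ e.symm
      (key.2 (GeomLoc.isCohenMacaulayLocalRing_congr _ _ e' h))⟩

end Groth.Agent.S7608
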