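import Groth.Statements.S7609
import Mathlib
import Groth.Agent.GeomLoc.Regular
import Groth.Agent.GeomLoc.CM
-- import your own Groth.Agent.* helpers here

set_option autoImplicit false
universe u
open CategoryTheory CategoryTheory.Limits AlgebraicGeometry
open Variety
open scoped TensorProduct

namespace Groth.Agent.S7609

/-- Let X be a scheme locally of finite type over a field k, k' any extension field of k and x' a point
of X_{k'} with image x in X. Then the local ring O_{X, x} is Cohen-Macaulay if and only if
O_{X_{k'}, x'} is Cohen-Macaulay. -/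
theorem result (k : Type u) [Field k] (X : Scheme.{u}) [X.Over (Spec (CommRingCat.of k))] [LocallyOfFiniteType (X ↘ (Spec (CommRingCat.of k)))]
    (k' : Type u) [Field k'] [Algebra k k'] (x' : ↥(Curv2.bc k X k')) :
    LocCoh.IsCohenMacaulayLocalRing ↥(X.presheaf.stalk (Curv2.bcFst k X k' x')) ↔
      LocCoh.IsCohenMacaulayLocalRing ↥((Curv2.bc k X k').presheaf.stalk x') := by
  obtain ⟨A, _, _, j, p, e, hjo, hp, hj, -⟩ := GeomLoc.exists_chart k X (Curv2.bcFst k X k' x')
  obtain ⟨P, hP, -, ⟨e'⟩⟩ := FBase.PointScheme.exists_prime_of_point _ j k' hj p x' hp.symm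
  haveI := GeomLoc.finiteType_of_chart j hj
  haveI : IsNoetherianRing A := Algebra.FiniteType.isNoetherianRing k A
  haveI : IsNoetherianRing (k' ⊗[k] A) := Algebra.FiniteType.isNoetherianRing k' (k' ⊗[k] A)
  haveI : IsNoetherianRing (A ⊗[k] k') :=
    isNoetherianRing_of_ringEquiv _ (Algebra.TensorProduct.comm k k' A).toRingEquiv
  haveI : Algebra.EssFiniteType A (Localization.AtPrime p.asIdeal) :=
    Algebra.EssFiniteType.of_isLocalization _ p.asIdeal.primeCompl
  haveI : Algebra.EssFiniteType k (Localization.AtPrime p.asIdeal) :=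
    Algebra.EssFiniteType.comp k A _
  have key := GeomLoc.cm_over_iff p.asIdeal k' (fun q _ => by
    haveI : Algebra.EssFiniteType k q.ResidueField :=
      Algebra.EssFiniteType.comp k (Localization.AtPrime p.asIdeal) _
    exact GeomFieldLib.isCohenMacaulayRing_tensor_fg k q.ResidueField k'
      (GeomFieldLib.isCohenMacaulayRing_of_isArtinianRing _)) P.asIdeal hP
  exact ⟨fun h => GeomLoc.isCohenMacaulayLocalRing_congr _ _ e'.symm
      (key.1 (GeomLoc.isCohenMacaulayLocalRing_congr _ _ e h)),
    fun h => GeomLoc.isCohenMacaulayLocalRing_congr _ _ e.symm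
      (key.2 (GeomLoc.isCohenMacaulayLocalRing_congr _ _ e' h))⟩

end Groth.Agent.S7609
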