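import Groth.Statements.S7610
import Groth.Agent.VarBC.Dim
-- import your own Groth.Agent.* helpers here

set_option autoImplicit false
universe u
open CategoryTheory CategoryTheory.Limits AlgebraicGeometry
open Variety

namespace Groth.Agent.S7610

open Groth.Agent.FBase.Topo in
/-- A point of the product over two generalisations, generalising the given point. -/
lemma exists_generalisation {k : Type u} [Field k] {X Y : Scheme.{u}}
    (f : X ⟶ Spec (CommRingCat.of k)) (g : Y ⟶ Spec (CommRingCat.of k)) (z : ↥(pullback f g))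
    {η : X} {ζ : Y} (hη : η ⤳ pullback.fst f g z) (hζ : ζ ⤳ pullback.snd f g z) :
    ∃ w, w ⤳ z ∧ pullback.fst f g w = η ∧ pullback.snd f g w = ζ := by
  let I := Scheme.IdealSheafData.vanishingIdeal (⟨closure {ζ}, isClosed_closure⟩ : TopologicalSpace.Closeds Y)
  have hrI : Set.range I.subschemeι = closure {ζ} := Groth.Agent.RedSub.range_vanishingIdeal_subschemeι _
  let m : pullback f (I.subschemeι ≫ g) ⟶ pullback f g :=
    pullback.map _ _ _ _ (𝟙 X) I.subschemeι (𝟙 _) (by simp) (by simp)
  have hm : Set.range m = pullback.snd f g ⁻¹' closure {ζ} := by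
    rw [Scheme.Pullback.range_map, hrI]
    simp
  obtain ⟨u, hu⟩ := hm.ge (show z ∈ pullback.snd f g ⁻¹' closure {ζ} from hζ.mem_closure)
  have hmfst : ∀ t, pullback.fst f g (m t) = pullback.fst f (I.subschemeι ≫ g) t := fun t ↦ by
    rw [← Scheme.Hom.comp_apply, pullback.lift_fst, Category.comp_id]
  rw [← hu, hmfst] at hη
  obtain ⟨u', hu', hu'2⟩ := Flat.generalizingMap (pullback.fst f (I.subschemeι ≫ g)) hη
  have hvz : m u' ⤳ z := hu ▸ hu'.map m.continuous
  have hvη : pullback.fst f g (m u') = η := (hmfst u').trans hu'2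
  have hvζ : ζ ⤳ pullback.snd f g (m u') := specializes_iff_mem_closure.mpr (hm.le ⟨u', rfl⟩)
  let φ : pullback (X.fromSpecResidueField η ≫ f) g ⟶ pullback f g :=
    pullback.map _ _ _ _ (X.fromSpecResidueField η) (𝟙 Y) (𝟙 _) (by simp) (by simp)
  have hr : Set.range φ = pullback.fst f g ⁻¹' {η} := by
    rw [Scheme.Pullback.range_map, Scheme.range_fromSpecResidueField]
    simp
  have hφsnd : ∀ t, pullback.snd f g (φ t) = pullback.snd (X.fromSpecResidueField η ≫ f) g t :=
    fun t ↦ by rw [← Scheme.Hom.comp_apply, pullback.lift_snd, Category.comp_id]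
  obtain ⟨t, ht⟩ := hr.ge (show m u' ∈ pullback.fst f g ⁻¹' {η} from hvη)
  rw [← ht, hφsnd] at hvζ
  obtain ⟨t', ht', ht'2⟩ := Flat.generalizingMap (pullback.snd (X.fromSpecResidueField η ≫ f) g) hvζ
  exact ⟨φ t', (ht'.map φ.continuous).trans (ht.symm ▸ hvz), hr.le ⟨t', rfl⟩,
    (hφsnd t').trans ht'2⟩

/-- Let X and Y be schemes locally of finite type over a field k and z a point of X ×_k Y lying over x
in X and y in Y. Then dim_z(X ×_k Y) = dim_x X + dim_y Y (local dimensions of the underlying
topological spaces, in WithBot ℕ∞). -/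
theorem result (k : Type u) [Field k] (X : Scheme.{u}) [X.Over (Spec (CommRingCat.of k))] [LocallyOfFiniteType (X ↘ (Spec (CommRingCat.of k)))]
    (Y : Scheme.{u}) [Y.Over (Spec (CommRingCat.of k))] [LocallyOfFiniteType (Y ↘ (Spec (CommRingCat.of k)))]
    (z : ↥(pullback (X ↘ (Spec (CommRingCat.of k))) (Y ↘ (Spec (CommRingCat.of k))))) :
    FlatMor.localDim ↥(pullback (X ↘ (Spec (CommRingCat.of k))) (Y ↘ (Spec (CommRingCat.of k)))) z =
      FlatMor.localDim ↥X (pullback.fst (X ↘ (Spec (CommRingCat.of k))) (Y ↘ (Spec (CommRingCat.of k))) z) +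
        FlatMor.localDim ↥Y (pullback.snd (X ↘ (Spec (CommRingCat.of k))) (Y ↘ (Spec (CommRingCat.of k))) z) := by
  let f := X ↘ Spec (CommRingCat.of k)
  let g := Y ↘ Spec (CommRingCat.of k)
  let P := pullback f g
  letI : P.Over (Spec (CommRingCat.of k)) := ⟨pullback.fst f g ≫ f⟩
  have : LocallyOfFiniteType (P ↘ Spec (CommRingCat.of k)) :=
    inferInstanceAs (LocallyOfFiniteType (pullback.fst f g ≫ f))
  let d := fun (w : P) ↦ Groth.Agent.VarDim.dimPt k P w
  have key : ∀ (W : Set P), W ∈ irreducibleComponents P → ∀ w, IsGenericPoint w W →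
      d w = Groth.Agent.VarDim.dimPt k X (pullback.fst f g w) +
        Groth.Agent.VarDim.dimPt k Y (pullback.snd f g w) := by
    intro W hW w hw
    have h := (Groth.Agent.S4643.topDim_component_prod f g hW hw).2.2
    rw [← hw.def, Groth.Agent.VarBC.Dim.topDim_closure k (X := P),
      Groth.Agent.VarBC.Dim.topDim_closure k (X := X),
      Groth.Agent.VarBC.Dim.topDim_closure k (X := Y), ← Nat.cast_add] at h
    exact_mod_cast h
  obtain ⟨w₀, hw₀, hw₀max, hz⟩ := Groth.Agent.VarDim.exists_localDim_eq k z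
  obtain ⟨η, hη, hηmax, hx⟩ := Groth.Agent.VarDim.exists_localDim_eq k (pullback.fst f g z)
  obtain ⟨ζ, hζ, hζmax, hy⟩ := Groth.Agent.VarDim.exists_localDim_eq k (pullback.snd f g z)
  rw [hz, hx, hy, ← Nat.cast_add]
  have hcomp : ∀ w : P, ∃ w' : P, w' ⤳ w ∧
      irreducibleComponent w ∈ irreducibleComponents P ∧ IsGenericPoint w' (irreducibleComponent w) := by
    intro w
    obtain ⟨w', hw'⟩ : ∃ w', IsGenericPoint w' (irreducibleComponent w) :=
      QuasiSober.sober (irreducibleComponent_mem_irreducibleComponents w).1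
        isClosed_irreducibleComponent
    exact ⟨w', hw'.specializes mem_irreducibleComponent,
      irreducibleComponent_mem_irreducibleComponents w, hw'⟩
  norm_cast
  refine le_antisymm ?_ ?_
  · obtain ⟨w', hw', hW, hgen⟩ := hcomp w₀
    calc d w₀ ≤ d w' := (Groth.Agent.VarDim.exists_ltSeries_of_le k (show w₀ ≤ w' from hw')).1
      _ = _ := key _ hW w' hgen
      _ ≤ _ := add_le_add
          (hηmax _ (((hw'.trans hw₀)).map (pullback.fst f g).continuous))
          (hζmax _ (((hw'.trans hw₀)).map (pullback.snd f g).continuous))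
  · obtain ⟨w, hw, rfl, rfl⟩ := exists_generalisation f g z hη hζ
    obtain ⟨w', hw', hW, hgen⟩ := hcomp w
    calc _ ≤ Groth.Agent.VarDim.dimPt k X (pullback.fst f g w') +
          Groth.Agent.VarDim.dimPt k Y (pullback.snd f g w') := add_le_add
          (Groth.Agent.VarDim.exists_ltSeries_of_le k
            (show pullback.fst f g w ≤ pullback.fst f g w' from hw'.map (pullback.fst f g).continuous)).1
          (Groth.Agent.VarDim.exists_ltSeries_of_le k
            (show pullback.snd f g w ≤ pullback.snd f g w' from hw'.map (pullback.snd f g).continuous)).1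
      _ = d w' := (key _ hW w' hgen).symm
      _ ≤ _ := hw₀max _ (hw'.trans hw)

end Groth.Agent.S7610
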