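import Groth.Statements.S7611
import Groth.Agent.S2059
import Groth.Agent.VarBC.Basic
-- import your own Groth.Agent.* helpers here

set_option autoImplicit false
universe u
open CategoryTheory CategoryTheory.Limits AlgebraicGeometry
attribute [local instance] Curv2.resAlgebra
open Variety

namespace Groth.Agent.S7611

open Groth.Agent.FBase.BC Groth.Agent.FBase.PointScheme Groth.Agent.VarBC
open scoped TensorProduct

/-- `K ⊗ A` is Jacobson with algebraic residue fields if `#A < #K`. -/
lemma jacobson_tensor {k A K : Type u} [Field k] [CommRing A] [Algebra k A] [Field K] [Algebra k K]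
    (h : Cardinal.mk A < Cardinal.mk K) :
    (∀ (m : Ideal (K ⊗[k] A)) [m.IsMaximal], Algebra.IsAlgebraic K ((K ⊗[k] A) ⧸ m)) ∧
      IsJacobsonRing (K ⊗[k] A) := by
  refine Groth.Agent.S2059.result (Set.range fun a : A ↦ (1 : K) ⊗ₜ[k] a) ?_
    (lt_of_le_of_lt Cardinal.mk_range_le h)
  refine eq_top_iff.mpr fun z _ ↦ ?_
  induction z using TensorProduct.induction_on with
  | zero => exact zero_mem _
  | tmul c a =>
    have e : c ⊗ₜ[k] a = c • ((1 : K) ⊗ₜ[k] a) := by
      rw [TensorProduct.smul_tmul', smul_eq_mul, mul_one]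
    rw [e]
    exact Subalgebra.smul_mem _ (Algebra.subset_adjoin (Set.mem_range_self a)) c
  | add x y hx hy => exact add_mem (hx trivial) (hy trivial)

/-- Let X be a scheme over a field k. There is a cardinal κ such that for every extension field K of k
of cardinality at least κ, the base change X_K is a Jacobson scheme and for every closed point x of
X_K the residue field κ(x) is algebraic over K. -/
theorem result (k : Type u) [Field k] (X : Scheme.{u}) [X.Over (Spec (CommRingCat.of k))] :
    ∃ κ : Cardinal.{u}, ∀ (K : Type u) [Field K] [Algebra k K], κ ≤ Cardinal.mk K →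
      JacobsonSpace ↥(Curv2.bc k X K) ∧
        ∀ x : ↥(Curv2.bc k X K), IsClosed ({x} : Set ↥(Curv2.bc k X K)) →
          letI : (Curv2.bc k X K).Over (Spec (CommRingCat.of K)) := ⟨Curv2.bcSnd k X K⟩
          Algebra.IsAlgebraic K ((Curv2.bc k X K).residueField x) := by
  let f := X ↘ Spec (CommRingCat.of k)
  let I := X.affineCover.I₀
  let κ₀ : Cardinal.{u} := Cardinal.sum fun i : I ↦ Cardinal.mk Γ(X.affineCover.X i, ⊤)
  refine ⟨Order.succ κ₀, fun K _ _ hK ↦ ?_⟩
  have hch : ∀ x : X, ∃ (A : Type u) (_ : CommRing A) (_ : Algebra k A)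
      (j : Spec (CommRingCat.of A) ⟶ X) (p : PrimeSpectrum A) (_ : IsOpenImmersion j),
        j p = x ∧ j ≫ f = Spec.map (CommRingCat.ofHom (algebraMap k A)) ∧
          Cardinal.mk A < Cardinal.mk K := by
    intro x
    let i := X.affineCover.idx x
    let A := Γ(X.affineCover.X i, ⊤)
    let e := (X.affineCover.X i).isoSpec
    obtain ⟨p, hp⟩ : x ∈ Set.range (e.inv ≫ X.affineCover.f i) := by
      obtain ⟨y, hy⟩ := X.affineCover.covers x
      exact ⟨e.hom y, by rw [← Scheme.Hom.comp_apply, e.hom_inv_id_assoc]; exact hy⟩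
    obtain ⟨φ, hφ⟩ := Spec.map_surjective (e.inv ≫ X.affineCover.f i ≫ f)
    refine ⟨A, inferInstance, φ.hom.toAlgebra, e.inv ≫ X.affineCover.f i, p, inferInstance, hp,
      by rw [Category.assoc, ← hφ]; rfl, ?_⟩
    exact lt_of_le_of_lt (Cardinal.le_sum (fun i : I ↦ Cardinal.mk Γ(X.affineCover.X i, ⊤)) i)
      (lt_of_lt_of_le (Order.lt_succ κ₀) hK)
  choose A iA iB j p iO hp hj hcard using hch
  let c : ∀ x : X, Spec (CommRingCat.of (K ⊗[k] A x)) ⟶ Curv2.bc k X K := fun x ↦
    Spec.map (CommRingCat.ofHom (Algebra.TensorProduct.comm k (A x) K).toAlgHom.toRingHom) ≫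
      bcChart f (j x) K (hj x)
  have hiso : ∀ x, IsIso (Spec.map (CommRingCat.ofHom
      (Algebra.TensorProduct.comm k (A x) K).toAlgHom.toRingHom)) := fun x ↦ by
    have : IsIso (CommRingCat.ofHom (Algebra.TensorProduct.comm k (A x) K).toAlgHom.toRingHom) :=
      (ConcreteCategory.isIso_iff_bijective _).mpr (Algebra.TensorProduct.comm k (A x) K).bijective
    infer_instance
  have hc : ∀ x, IsOpenImmersion (c x) := fun x ↦ inferInstance
  have hcov : ∀ z : ↥(Curv2.bc k X K), z ∈ Set.range (c (Curv2.bcFst k X K z)) := by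
    intro z
    obtain ⟨P, hP⟩ := (range_bcChart f (j (Curv2.bcFst k X K z)) K (hj _)).ge
      (⟨p _, hp _⟩ : Curv2.bcFst k X K z ∈ Set.range (j (Curv2.bcFst k X K z)))
    obtain ⟨Q, hQ⟩ := ((Spec.map (CommRingCat.ofHom (Algebra.TensorProduct.comm k
      (A (Curv2.bcFst k X K z)) K).toAlgHom.toRingHom))).homeomorph.surjective P
    exact ⟨Q, by rw [Scheme.Hom.comp_apply]; exact (congrArg _ hQ).trans hP⟩
  refine ⟨?_, fun z hz ↦ ?_⟩
  · rw [TopologicalSpace.IsOpenCover.jacobsonSpace_iff
      (U := fun x : X ↦ (c x).opensRange) (TopologicalSpace.IsOpenCover.mk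
        (top_le_iff.mp fun z _ ↦ TopologicalSpace.Opens.mem_iSup.mpr ⟨_, hcov z⟩))]
    intro x
    have := (jacobson_tensor (k := k) (A := A x) (K := K) (hcard x)).2
    have : JacobsonSpace ↥(Spec (CommRingCat.of (K ⊗[k] A x))) :=
      inferInstanceAs (JacobsonSpace (PrimeSpectrum (K ⊗[k] A x)))
    exact JacobsonSpace.of_isOpenEmbedding
      (c x).isOpenEmbedding.toIsEmbedding.toHomeomorph.symm.isOpenEmbedding
  · obtain ⟨x, Q, rfl⟩ : ∃ (x : X) (Q : PrimeSpectrum (K ⊗[k] A x)), c x Q = z :=
      ⟨_, hcov z⟩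
    let R := K ⊗[k] A x
    have hmax : Q.asIdeal.IsMaximal := by
      rw [← PrimeSpectrum.isClosed_singleton_iff_isMaximal]
      have := hz.preimage (c x).continuous
      have e : c x ⁻¹' {c x Q} = {Q} :=
        Set.ext fun y ↦ (c x).isOpenEmbedding.injective.eq_iff
      rw [e] at this
      exact this
    let L := R ⧸ Q.asIdeal
    let _ : Field L := Ideal.Quotient.field Q.asIdeal
    let g : Spec (CommRingCat.of L) ⟶ Curv2.bc k X K :=
      Spec.map (CommRingCat.ofHom (Ideal.Quotient.mk Q.asIdeal)) ≫ c x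
    have hg : g (IsLocalRing.closedPoint L) = c x Q := by
      refine (Scheme.Hom.comp_apply _ _ _).trans (congrArg (c x) ?_)
      apply PrimeSpectrum.ext
      change (IsLocalRing.maximalIdeal L).comap (Ideal.Quotient.mk Q.asIdeal) = Q.asIdeal
      rw [IsLocalRing.maximalIdeal_eq_bot, ← RingHom.ker_eq_comap_bot, Ideal.mk_ker]
    letI : (Curv2.bc k X K).Over (Spec (CommRingCat.of K)) := ⟨Curv2.bcSnd k X K⟩
    rw [← hg]
    have hsnd : g ≫ Curv2.bcSnd k X K = Spec.map (CommRingCat.ofHom (algebraMap K L)) := by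
      unfold g c
      erw [Category.assoc, Category.assoc, Groth.Agent.FBase.Components.bcChart_snd f K (j x) (hj x)]
      rw [← Spec.map_comp, ← Spec.map_comp, ← CommRingCat.ofHom_comp, ← CommRingCat.ofHom_comp]
      congr 2
    have hd := Scheme.descResidueField_stalkClosedPointTo_fromSpecResidueField L _ g
    have h2 := congrArg (fun q ↦ q ≫ Curv2.bcSnd k X K) hd
    simp only [Category.assoc] at h2
    rw [hsnd] at h2
    have h3 := fromSpecResidueField_comp (k := K) (Curv2.bc k X K) (g (IsLocalRing.closedPoint L))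
    erw [h3] at h2
    rw [← Spec.map_comp] at h2
    let ψ := Scheme.descResidueField (Scheme.stalkClosedPointTo g)
    have h4 : ψ.hom.comp (Curv2.resMap K (Curv2.bc k X K) (g (IsLocalRing.closedPoint L))) =
        algebraMap K L := congrArg CommRingCat.Hom.hom (Spec.map_injective h2)
    have halg : Algebra.IsAlgebraic K L :=
      (jacobson_tensor (k := k) (A := A x) (K := K) (hcard x)).1 Q.asIdeal
    exact Algebra.IsAlgebraic.of_injective
      (⟨ψ.hom, fun a ↦ RingHom.congr_fun h4 a⟩ :
        (Curv2.bc k X K).residueField (g (IsLocalRing.closedPoint L)) →ₐ[K] L)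
      (RingHom.injective _)

end Groth.Agent.S7611
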