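import Groth.Statements.S7613
import Mathlib
import Groth.Agent.S1549
import Groth.Agent.VarBC.Basic
import Groth.Agent.RegLoc.UFD
-- import your own Groth.Agent.* helpers here

set_option autoImplicit false
universe u
open CategoryTheory CategoryTheory.Limits AlgebraicGeometry
open Variety

namespace Groth.Agent.S7613

open IsLocalRing

/-- Let X be a variety over a field k (integral, separated and of finite type over k) with a k-rational
point x (k → κ(x) onto) such that X → Spec k is smooth at x. Then every base change of X to an
extension field of k is an integral scheme (X is geometrically integral over k). -/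
theorem result (k : Type u) [Field k] (X : Scheme.{u}) [X.Over (Spec (CommRingCat.of k))] [IsIntegral X] [IsSeparated (X ↘ (Spec (CommRingCat.of k)))]
    [LocallyOfFiniteType (X ↘ (Spec (CommRingCat.of k)))] [QuasiCompact (X ↘ (Spec (CommRingCat.of k)))]
    (x : ↥X) (hx : Function.Surjective (Curv2.resMap k X x)) (hsm : x ∈ (X ↘ (Spec (CommRingCat.of k))).smoothLocus) :
    GeometricallyIntegral (X ↘ (Spec (CommRingCat.of k))) := by
  set f := X ↘ Spec (CommRingCat.of k)
  haveI := GeomLoc.locallyOfFinitePresentation (k := k) (X := X)
  have hbij : Function.Bijective (Curv2.resMap k X x) := ⟨(Curv2.resMap k X x).injective, hx⟩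
  have : GeometricallyReduced f := (S1549.result k X).mpr ⟨f.smoothLocus,
    f.smoothLocus.2.dense ⟨x, hsm⟩, by
      rw [← Scheme.Hom.smoothLocus_eq_top_iff, ← Scheme.Hom.preimage_smoothLocus_eq,
        Scheme.Opens.ι_preimage_self]⟩
  have hres : letI := Curv2.resAlgebra k X x
      Algebra.IsGeometricallyReduced k (X.residueField x) := by
    letI := Curv2.resAlgebra k X x
    haveI : Algebra.FormallySmooth k (X.residueField x) :=
      Algebra.FormallySmooth.of_equiv (AlgEquiv.ofBijective (Algebra.ofId k (X.residueField x)) hbij)
    exact (FieldSep.MacLane.formallySmooth_iff (k := k) (K := X.residueField x)).mp inferInstance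
  haveI hreg := (GeomLoc.mem_smoothLocus_iff_isRegularLocalRing x hres).mp hsm
  haveI := RegLoc.UFD.uniqueFactorizationMonoid (X.presheaf.stalk x)
  obtain ⟨κ, _, _, ι, _, hι, hr, hsep⟩ := VarBC.exists_point_res (k := k) X (genericPoint X)
    (fun (K : Type u) [Field K] [Algebra k K] => separableClosure k K = ⊥) (by
      letI := Curv2.resAlgebra k X (genericPoint X)
      letI := Curv2.stalkAlgebra k X x
      letI : Algebra k X.functionField := (Curv2.stalkMap k X (genericPoint X)).toAlgebra
      haveI : IsScalarTower k (X.presheaf.stalk x) X.functionField := .of_algebraMap_eq fun r => by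
        exact (TopCat.Presheaf.germ_stalkSpecializes_apply X.presheaf (U := ⊤) (y := x) trivial
          ((genericPoint_spec X).specializes trivial) _).symm
      rw [eq_bot_iff]
      intro a ha
      rw [mem_separableClosure_iff] at ha
      rw [IntermediateField.mem_bot]
      let π : X.functionField →ₐ[k] X.residueField (genericPoint X) :=
        { (X.residue (genericPoint X)).hom with commutes' := fun r => rfl }
      have hπ : Function.Injective π := RingHom.injective (R := X.functionField) π.toRingHom
      obtain ⟨a', rfl⟩ := X.residue_surjective (genericPoint X) a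
      change IsSeparable k (π a') at ha
      have ha' : IsIntegral k a' := (isIntegral_algHom_iff π hπ).mp ha.isIntegral
      obtain ⟨b, hb⟩ := IsIntegrallyClosed.isIntegral_iff.mp
        (ha'.tower_top (A := X.presheaf.stalk x))
      obtain ⟨c, hc⟩ := hx (X.residue x b)
      let d := b - Curv2.stalkMap k X x c
      have hd : d ∈ maximalIdeal (X.presheaf.stalk x) := by
        rw [← residue_eq_zero_iff, map_sub, sub_eq_zero]
        exact hc.symm
      have hdint : IsIntegral k (algebraMap (X.presheaf.stalk x) X.functionField d) := by
        have h2 : algebraMap (X.presheaf.stalk x) X.functionField (Curv2.stalkMap k X x c) =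
            algebraMap k X.functionField c :=
          (IsScalarTower.algebraMap_apply k (X.presheaf.stalk x) X.functionField c).symm
        rw [map_sub, hb, h2]
        exact ha'.sub isIntegral_algebraMap
      have hd0 : d = 0 := by
        by_contra h0
        obtain ⟨e, he⟩ := IsIntegrallyClosed.isIntegral_iff.mp
          (hdint.inv.tower_top (A := X.presheaf.stalk x))
        refine hd (IsUnit.of_mul_eq_one e (IsFractionRing.injective (X.presheaf.stalk x) X.functionField ?_))
        rw [map_mul, he, map_one, mul_inv_cancel₀]
        exact fun h => h0 ((map_eq_zero_iff _ (IsFractionRing.injective _ _)).mp h)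
      refine ⟨c, ?_⟩
      show _ = π a'
      rw [← hb, sub_eq_zero.mp hd0]
      show _ = π (algebraMap (X.presheaf.stalk x) X.functionField (algebraMap k _ c))
      rw [← IsScalarTower.algebraMap_apply, AlgHom.commutes])
  haveI : GeometricallyIrreducible f :=
    VarBC.geometricallyIrreducible_of_separableClosure_eq_bot f ι hι hr hsep
  exact GeometricallyIntegral.of_geometricallyReduced_of_geometricallyIrreducible f

end Groth.Agent.S7613
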