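import Groth.Statements.S7615
import Groth.Agent.VarBC.H0
-- import your own Groth.Agent.* helpers here

set_option autoImplicit false
universe u
open CategoryTheory CategoryTheory.Limits AlgebraicGeometry
open Variety

namespace Groth.Agent.S7615

open Groth.Agent.VarBC Groth.Agent.FBase.BC
open scoped TensorProduct

/-- Let X be a proper variety over a field k (integral, separated, of finite type and proper over k) and
K = H^0(X, O_X), a k-algebra via the structure morphism. Then K is a field, finite over k; K/k is
separable when X is geometrically reduced over k, and purely inseparable when X is geometrically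
irreducible over k. -/
theorem result (k : Type u) [Field k] (X : Scheme.{u}) [X.Over (Spec (CommRingCat.of k))] [IsIntegral X] [IsProper (X ↘ (Spec (CommRingCat.of k)))] :
    letI := ((X ↘ (Spec (CommRingCat.of k))).appTop.hom.comp (Scheme.ΓSpecIso (CommRingCat.of k)).inv.hom : k →+* Γ(X, ⊤)).toAlgebra
    IsField ↑Γ(X, ⊤) ∧ Module.Finite k ↑Γ(X, ⊤) ∧
      (GeometricallyReduced (X ↘ (Spec (CommRingCat.of k))) → Algebra.IsSeparable k ↑Γ(X, ⊤)) ∧
      (GeometricallyIrreducible (X ↘ (Spec (CommRingCat.of k))) → IsPurelyInseparable k ↑Γ(X, ⊤)) := by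
  letI := H0.topAlgebra k X
  have hfield : IsField Γ(X, ⊤) := isField_of_universallyClosed k (X ↘ Spec (CommRingCat.of k))
  have hfin : Module.Finite k Γ(X, ⊤) := RingHom.finite_algebraMap.mp
    ((finite_appTop_of_universallyClosed k (X ↘ Spec (CommRingCat.of k))).comp
      (RingHom.Finite.of_surjective _
        (ConcreteCategory.bijective_of_isIso (Scheme.ΓSpecIso (CommRingCat.of k)).inv).2))
  have hint : Algebra.IsIntegral k Γ(X, ⊤) := Algebra.IsIntegral.of_finite k _
  let _ := hfield.toField
  refine ⟨hfield, hfin, fun h ↦ ?_, fun h ↦ ?_⟩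
  · exact H0.isSeparable_of_geometricallyReduced k X (F := Γ(X, ⊤)) (AlgHom.id k _)
  · have := geometricallyConnected_of_geometricallyIrreducible (X ↘ Spec (CommRingCat.of k))
    have hp := H0.isPrime_nilradical_tensor k X (AlgebraicClosure k)
    have hirr : IrreducibleSpace (PrimeSpectrum (Γ(X, ⊤) ⊗[k] AlgebraicClosure k)) :=
      PrimeSpectrum.irreducibleSpace_iff_isPrime_nilradical.mpr hp
    refine isPurelyInseparable_iff.mpr fun a ↦ ⟨hint.isIntegral a, fun ha' ↦ ?_⟩
    obtain ⟨c, hc⟩ := mem_range_of_irreducibleSpace_tensor hirr ha'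
      (IsAlgClosed.lift (R := k) (S := IntermediateField.adjoin k {a}))
    exact ⟨c, hc⟩

end Groth.Agent.S7615
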