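import Groth.Statements.S7617
import Mathlib
import Groth.Agent.S1585
import Groth.Agent.S2351
import Groth.Agent.VarDim.Curve
import Groth.Agent.RegLoc.Completion
import Groth.Agent.FBase.BC
import Groth.Agent.GeomLoc.SmoothRegular
-- import your own Groth.Agent.* helpers here

set_option autoImplicit false
universe u
open CategoryTheory CategoryTheory.Limits AlgebraicGeometry
open Variety

namespace Groth.Agent.S7617

open IsLocalRing

/-- Distinct points of a fibre of a finite morphism do not specialise to each other. -/
lemma eq_of_specializes {X Y : Scheme.{u}} (f : X ⟶ Y) [IsFinite f] {a b : X} (h : a ⤳ b)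
    (e : f a = f b) : a = b := by
  haveI := (f.isDiscrete_preimage_singleton (f b)).to_subtype
  have h1 : (⟨a, e⟩ : ↥(f ⁻¹' {f b})) ⤳ ⟨b, rfl⟩ := Topology.IsInducing.subtypeVal.specializes_iff.mp h
  exact congrArg Subtype.val h1.eq

/-- Let X be an integral scheme locally of finite type over a field k, ν : X^ν → X its normalization,
and x a point of X with dim O_{X, x} = 1 such that for every point x' of X^ν over x the residue
field κ(x') is separable over k (Spec κ(x') → Spec k geometrically reduced). Then X is geometrically
reduced at x, and at every point of X^ν over x the normalization is geometrically regular. (The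
published statement covers every scheme locally of finite type over k with reduced local ring at x,
using the normalization of a possibly non-integral scheme; this row takes X integral.) -/
theorem result (k : Type u) [Field k] (X : Scheme.{u}) [X.Over (Spec (CommRingCat.of k))] [IsIntegral X] [LocallyOfFiniteType (X ↘ (Spec (CommRingCat.of k)))]
    [QuasiCompact (X.fromSpecStalk (genericPoint X))] [QuasiSeparated (X.fromSpecStalk (genericPoint X))]
    (x : ↥X) (hdim : ringKrullDim ↥(X.presheaf.stalk x) = 1)
    (hsep : letI : (Curv2.normalization X).Over (Spec (CommRingCat.of k)) := ⟨Curv2.normalizationι X ≫ (X ↘ (Spec (CommRingCat.of k)))⟩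
      ∀ x' : ↥(Curv2.normalization X), Curv2.normalizationι X x' = x →
        GeometricallyReduced (Spec.map (CommRingCat.ofHom (Curv2.resMap k (Curv2.normalization X) x')))) :
    Curv2.IsGeomReducedAt k X x ∧
      letI : (Curv2.normalization X).Over (Spec (CommRingCat.of k)) := ⟨Curv2.normalizationι X ≫ (X ↘ (Spec (CommRingCat.of k)))⟩
      ∀ x' : ↥(Curv2.normalization X), Curv2.normalizationι X x' = x → Curv2.IsGeomRegularAt k (Curv2.normalization X) x' := by
  letI : (Curv2.normalization X).Over (Spec (CommRingCat.of k)) :=
    ⟨Curv2.normalizationι X ≫ (X ↘ (Spec (CommRingCat.of k)))⟩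
  obtain ⟨hfin, -, -, hint, hnorm⟩ := S1585.result k X
  haveI : IsFinite (Curv2.normalizationι X) := hfin
  haveI : IsIntegral (Curv2.normalization X) := hint
  haveI : LocallyOfFiniteType ((Curv2.normalization X) ↘ Spec (CommRingCat.of k)) :=
    (inferInstance : LocallyOfFiniteType ((Curv2.normalizationι X) ≫ (X ↘ (Spec (CommRingCat.of k)))))
  haveI := GeomLoc.locallyOfFinitePresentation (k := k) (X := (Curv2.normalization X))
  haveI := LocallyOfFiniteType.isLocallyNoetherian ((Curv2.normalization X) ↘ Spec (CommRingCat.of k))
  obtain ⟨_, _, hsurj, hgen, _⟩ := S2351.result X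
  have hmono : StrictMono (Curv2.normalizationι X) := fun a b hab => by
    have h2 : b ⤳ a := hab.le
    refine lt_of_le_of_ne (h2.map (Curv2.normalizationι X).continuous) fun e => hab.ne ?_
    exact (eq_of_specializes (Curv2.normalizationι X) h2 (by simpa using e)).symm
  have hco : Order.coheight x = 1 := by
    have := (ringKrullDim_stalk_eq_coheight x).symm.trans hdim
    exact_mod_cast this
  have key : ∀ x' : ↥(Curv2.normalization X), (Curv2.normalizationι X) x' = x → Curv2.IsGeomRegularAt k (Curv2.normalization X) x' := fun x' hx' => by
    have hco' : Order.coheight x' = 1 := by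
      refine le_antisymm (hco ▸ hx' ▸ Order.coheight_le_coheight_apply_of_strictMono (Curv2.normalizationι X) hmono x') ?_
      refine Order.one_le_iff_pos.mpr (pos_iff_ne_zero.mpr fun h0 => ?_)
      have hmax : IsMax x' := Order.coheight_eq_zero.mp h0
      have h1 : x' = genericPoint (Curv2.normalization X) :=
        (Specializes.antisymm (genericPoint_specializes x') (hmax (genericPoint_specializes x'))).eq.symm
      have h2 : x = genericPoint X := by
        rw [← hx', h1]
        exact hgen
      have h3 : Order.coheight x = 0 := Order.coheight_eq_zero.mpr fun y hy => by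
        rw [h2]
        exact genericPoint_specializes y
      rw [h3] at hco
      exact zero_ne_one hco
    obtain ⟨_, hdvr⟩ := VarDim.isDiscreteValuationRing_stalk_of_coheight_eq_one hnorm x' hco'
    haveI := ((RegLoc.Completion.exists_isDiscreteValuationRing_iff ((Curv2.normalization X).presheaf.stalk x')).mp
      ⟨inferInstance, hdvr⟩).1
    refine (GeomLoc.isGeomRegularAt_iff_mem_smoothLocus x').mpr
      ((GeomLoc.mem_smoothLocus_iff_isRegularLocalRing x' ?_).mpr inferInstance)
    letI := Curv2.resAlgebra k (Curv2.normalization X) x'
    haveI : GeometricallyReduced (Spec.map (CommRingCat.ofHom (algebraMap k ((Curv2.normalization X).residueField x')))) :=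
      hsep x' hx'
    exact FBase.BC.isGeometricallyReduced_of_geometricallyReduced_specMap _
  refine ⟨?_, key⟩
  obtain ⟨x', hx'⟩ := hsurj.surj x
  have hη : Curv2.IsGeomReducedAt k (Curv2.normalization X) (genericPoint (Curv2.normalization X)) :=
    GeomLoc.isGeomReducedAt_of_specializes x' _ (genericPoint_specializes x')
      (GeomLoc.isGeomReducedAt_of_isGeomRegularAt x' (key x' hx'))
  letI := Curv2.stalkAlgebra k (Curv2.normalization X) (genericPoint (Curv2.normalization X))
  haveI := (GeomLoc.isGeomReducedAt_iff_stalk _).mp hη
  have hX : Curv2.IsGeomReducedAt k X ((Curv2.normalizationι X) (genericPoint (Curv2.normalization X))) := by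
    letI := Curv2.stalkAlgebra k X ((Curv2.normalizationι X) (genericPoint (Curv2.normalization X)))
    refine (GeomLoc.isGeomReducedAt_iff_stalk _).mpr ?_
    let φ : X.presheaf.stalk ((Curv2.normalizationι X) (genericPoint (Curv2.normalization X))) →ₐ[k] (Curv2.normalization X).presheaf.stalk (genericPoint (Curv2.normalization X)) :=
      { ((Curv2.normalizationι X).stalkMap (genericPoint (Curv2.normalization X))).hom with
        commutes' := fun r => (Scheme.Hom.germ_stalkMap_apply (Curv2.normalizationι X) ⊤ (genericPoint (Curv2.normalization X)) trivial _).trans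
          (congrArg _ (RingHom.congr_fun (congrArg CommRingCat.Hom.hom
            (Scheme.Hom.comp_appTop (Curv2.normalizationι X) (X ↘ Spec (CommRingCat.of k))).symm) _)) }
    haveI : IsField (X.presheaf.stalk ((Curv2.normalizationι X) (genericPoint (Curv2.normalization X)))) := by
      rw [show (Curv2.normalizationι X) (genericPoint (Curv2.normalization X)) = genericPoint X from hgen]
      exact Field.toIsField X.functionField
    letI := this.toField
    exact Algebra.IsGeometricallyReduced.of_injective φ (RingHom.injective φ.toRingHom)
  rw [show (Curv2.normalizationι X) (genericPoint (Curv2.normalization X)) = genericPoint X from hgen] at hX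
  exact GeomLoc.geometricallyReduced_iff_forall.mp (GeomLoc.geometricallyReduced_iff_genericPoint.mpr hX) x

end Groth.Agent.S7617
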