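import Groth.Statements.S7619
import Mathlib.RingTheory.Unramified.Locus
import Mathlib.RingTheory.LocalRing.Module

set_option autoImplicit false
universe u
open CategoryTheory CategoryTheory.Limits AlgebraicGeometry
open scoped TensorProduct
open Variety

namespace Groth.Agent.S7619

/-- Let A → B be a finite type ring map (a finite type morphism of affine schemes), q a prime of B and r
= dim_{κ(q)} Ω_{B/A} ⊗_B κ(q). Then there is an A-algebra homomorphism A[x_1, …, x_r] → B for which
B is unramified over A[x_1, …, x_r] at q. -/
theorem result (A B : Type u) [CommRing A] [CommRing B] [Algebra A B] [Algebra.FiniteType A B]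
    (q : Ideal B) [q.IsPrime] (r : ℕ) (hr : Module.finrank q.ResidueField (q.ResidueField ⊗[B] Ω[B⁄A]) = r) :
    ∃ φ : MvPolynomial (Fin r) A →ₐ[A] B,
      letI := φ.toRingHom.toAlgebra
      Algebra.IsUnramifiedAt (MvPolynomial (Fin r) A) q := by
  classical
  let K := q.ResidueField
  let s : Set (K ⊗[B] Ω[B⁄A]) := Set.range fun b : B => (1 : K) ⊗ₜ[B] KaehlerDifferential.D A B b
  have hs : Submodule.span K s = ⊤ := by
    rw [eq_top_iff]
    rintro z -
    induction z using TensorProduct.induction_on with
    | zero => exact zero_mem _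
    | add x y hx hy => exact add_mem hx hy
    | tmul a w =>
      have hw : w ∈ Submodule.span B (Set.range (KaehlerDifferential.D A B)) := by
        rw [KaehlerDifferential.span_range_derivation]; exact Submodule.mem_top
      induction hw using Submodule.span_induction generalizing a with
      | mem x hx =>
        obtain ⟨b, rfl⟩ := hx
        rw [show a ⊗ₜ[B] KaehlerDifferential.D A B b = a • ((1 : K) ⊗ₜ[B] KaehlerDifferential.D A B b) by
          rw [TensorProduct.smul_tmul', smul_eq_mul, mul_one]]
        exact Submodule.smul_mem _ _ (Submodule.subset_span ⟨b, rfl⟩)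
      | zero => rw [TensorProduct.tmul_zero]; exact zero_mem _
      | add x y _ _ hx hy => rw [TensorProduct.tmul_add]; exact add_mem (hx a) (hy a)
      | smul c x _ hx => rw [← TensorProduct.smul_tmul]; exact hx (c • a)
  obtain ⟨f, hfs, hfspan, -⟩ := Submodule.exists_fun_fin_finrank_span_eq K s
  have hr' : Module.finrank K (Submodule.span K s) = r := by rw [hs, finrank_top]; exact hr
  choose b hb using hfs
  let bb : Fin r → B := fun i => b (Fin.cast hr'.symm i)
  refine ⟨MvPolynomial.aeval bb, ?_⟩
  letI := (MvPolynomial.aeval (R := A) bb).toRingHom.toAlgebra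
  let P := MvPolynomial (Fin r) A
  haveI : IsScalarTower A P B := IsScalarTower.of_algebraMap_eq fun a =>
    ((MvPolynomial.aeval (R := A) bb).commutes a).symm
  haveI : Algebra.FiniteType P B := Algebra.FiniteType.of_restrictScalars_finiteType A P B
  show (⟨q, inferInstance⟩ : PrimeSpectrum B) ∈ Algebra.unramifiedLocus P B
  rw [Algebra.unramifiedLocus_eq_compl_support, Set.mem_compl_iff,
    Module.mem_support_iff_nontrivial_residueField_tensorProduct, not_nontrivial_iff_subsingleton]
  let μ : K ⊗[B] Ω[B⁄A] →ₗ[K] K ⊗[B] Ω[B⁄P] := (KaehlerDifferential.map A P B B).baseChange K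
  have hμs : Function.Surjective μ := LinearMap.lTensor_surjective K (KaehlerDifferential.map_surjective A P B)
  have hμ : μ = 0 := by
    refine LinearMap.ext_on (hfspan.trans hs) ?_
    rintro _ ⟨i, rfl⟩
    rw [← hb i, LinearMap.zero_apply]
    have hbi : b i = algebraMap P B (MvPolynomial.X (Fin.cast hr' i)) :=
      (MvPolynomial.aeval_X (R := A) bb (Fin.cast hr' i)).symm
    show (1 : K) ⊗ₜ[B] KaehlerDifferential.map A P B B (KaehlerDifferential.D A B (b i)) = 0
    rw [KaehlerDifferential.map_D, Algebra.algebraMap_self_apply, hbi, Derivation.map_algebraMap, TensorProduct.tmul_zero]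
  exact subsingleton_of_forall_eq 0 fun z => by
    obtain ⟨w, rfl⟩ := hμs z
    rw [hμ, LinearMap.zero_apply]

end Groth.Agent.S7619
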