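import Groth.Statements.S7620
import Groth.Agent.S12208

set_option autoImplicit false
universe u
open CategoryTheory CategoryTheory.Limits AlgebraicGeometry
open scoped TensorProduct
open Variety

namespace Groth.Agent.S7620

/-- Let A → B be a finite type ring map (a finite type morphism of affine schemes X → S), p a prime of A
and suppose the fibre ring κ(p) ⊗_A B has Krull dimension d. Then there is an A-algebra homomorphism
π : A[t_1, …, t_d] → B such that the induced map of fibres κ(p) ⊗_A A[t_1, …, t_d] → κ(p) ⊗_A B is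
finite. -/
theorem result (A B : Type u) [CommRing A] [CommRing B] [Algebra A B] [Algebra.FiniteType A B]
    (p : Ideal A) [p.IsPrime] (d : ℕ) (hd : ringKrullDim (p.ResidueField ⊗[A] B) = d) :
    ∃ π : MvPolynomial (Fin d) A →ₐ[A] B,
      (Algebra.TensorProduct.map (AlgHom.id p.ResidueField p.ResidueField) π).toRingHom.Finite := by
  classical
  obtain ⟨n, ψ₀, hψ₀⟩ := Algebra.FiniteType.iff_quotient_mvPolynomial''.mp ‹Algebra.FiniteType A B›
  let b : Fin n → B := fun i => ψ₀ (MvPolynomial.X i)
  let K := p.ResidueField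
  let C := p.ResidueField ⊗[A] B
  let inc : B →ₐ[A] C := Algebra.TensorProduct.includeRight
  let ψ : MvPolynomial (Fin n) K →ₐ[K] C := MvPolynomial.aeval fun i => inc (b i)
  have hb : ∀ q : MvPolynomial (Fin n) A, inc (ψ₀ q) = ψ (MvPolynomial.map (algebraMap A K) q) := fun q => by
    rw [MvPolynomial.aeval_map_algebraMap]
    exact congrArg (fun f : MvPolynomial (Fin n) A →ₐ[A] C => f q)
      (MvPolynomial.algHom_ext (f := inc.comp ψ₀) fun i => (MvPolynomial.aeval_X (R := A) (fun i => inc (b i)) i).symm)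
  have hψ : Function.Surjective ψ := fun c => by
    induction c using TensorProduct.induction_on with
    | zero => exact ⟨0, map_zero _⟩
    | tmul a y =>
      obtain ⟨q, rfl⟩ := hψ₀ y
      refine ⟨MvPolynomial.C a * MvPolynomial.map (algebraMap A K) q, ?_⟩
      rw [map_mul, ← hb, MvPolynomial.aeval_C]
      show (a ⊗ₜ[A] (1 : B)) * ((1 : K) ⊗ₜ[A] ψ₀ q) = _
      rw [Algebra.TensorProduct.tmul_mul_tmul, mul_one, one_mul]
    | add x y hx hy =>
      obtain ⟨P, rfl⟩ := hx
      obtain ⟨Q, rfl⟩ := hy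
      exact ⟨P + Q, map_add _ _ _⟩
  let I := RingHom.ker ψ
  let eI : (MvPolynomial (Fin n) K ⧸ I) ≃ₐ[K] C := Ideal.quotientKerAlgEquivOfSurjective hψ
  have hI : I ≠ ⊤ := fun h => by
    haveI : Subsingleton (MvPolynomial (Fin n) K ⧸ I) := Ideal.Quotient.subsingleton_iff.mpr h
    haveI : Subsingleton C := eI.symm.injective.subsingleton
    have hbot : ringKrullDim C = ⊥ := ringKrullDim_eq_bot_of_subsingleton
    exact absurd (hd.symm.trans hbot) (by simp)
  obtain ⟨⟨r, y, hy, hinj, hfin⟩, hdim⟩ := Groth.Agent.S12208.result K n I hI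
  obtain rfl : r = d := by
    have h := (hdim r y hinj hfin).symm.trans ((ringKrullDim_eq_of_ringEquiv eI.toRingEquiv).trans hd)
    exact_mod_cast h
  choose yz hyz using hy
  let π : MvPolynomial (Fin r) A →ₐ[A] B :=
    MvPolynomial.aeval fun i => ψ₀ (MvPolynomial.map (Int.castRingHom A) (yz i))
  let g : MvPolynomial (Fin r) K →ₐ[K] C := eI.toAlgHom.comp ((Ideal.Quotient.mkₐ K I).comp (MvPolynomial.aeval y))
  have hg : g.toRingHom.Finite :=
    (RingHom.Finite.of_surjective eI.toAlgHom.toRingHom eI.surjective).comp hfin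
  let e : MvPolynomial (Fin r) K →ₐ[K] K ⊗[A] MvPolynomial (Fin r) A :=
    MvPolynomial.aeval fun i => 1 ⊗ₜ[A] MvPolynomial.X i
  have hge : g = (Algebra.TensorProduct.map (AlgHom.id K K) π).comp e := MvPolynomial.algHom_ext fun i => by
    simp only [g, e, AlgHom.comp_apply, MvPolynomial.aeval_X, Algebra.TensorProduct.map_tmul, AlgHom.coe_id, id_eq,
      π]
    show eI (Ideal.Quotient.mk I (y i)) = inc (ψ₀ _)
    rw [hb, MvPolynomial.map_map, ← hyz i]
    exact congrArg (fun f : ℤ →+* K => ψ (MvPolynomial.map f (yz i))) (RingHom.ext_int _ _)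
  exact ⟨π, RingHom.Finite.of_comp_finite (f := e.toRingHom) (by rwa [hge] at hg)⟩

end Groth.Agent.S7620
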