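import Groth.Statements.S7628
import Groth.Agent.FBase.PointScheme

set_option autoImplicit false
universe u
open CategoryTheory CategoryTheory.Limits AlgebraicGeometry
open Variety

namespace Groth.Agent.S7628

open TensorProduct

variable {k : Type u} [Field k] {X : Scheme.{u}} (f : X ⟶ Spec (CommRingCat.of k))
  {R : Type u} [CommRing R] [Algebra k R] (j : Spec (CommRingCat.of R) ⟶ X)
  (hj : j ≫ f = Spec.map (CommRingCat.ofHom (algebraMap k R)))
  (A : Type u) [CommRing A] [Algebra k A]

/-- The chart `Spec (R ⊗ A) → X_A`. -/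
noncomputable def chart : Spec (CommRingCat.of (R ⊗[k] A)) ⟶
    pullback f (Spec.map (CommRingCat.ofHom (algebraMap k A))) :=
  (pullbackSpecIso k R A).inv ≫
    pullback.map _ _ _ _ j (𝟙 _) (𝟙 _) (by rw [hj, Category.comp_id]) (by simp)

lemma chart_fst : chart f j hj A ≫ pullback.fst _ _ =
    Spec.map (CommRingCat.ofHom (algebraMap R (R ⊗[k] A))) ≫ j := by
  unfold chart pullback.map
  rw [Category.assoc, pullback.lift_fst, ← Category.assoc]
  exact congrArg (· ≫ j) (pullbackSpecIso_inv_fst' k R A)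

lemma chart_snd : chart f j hj A ≫ pullback.snd _ _ =
    Spec.map (CommRingCat.ofHom (Algebra.TensorProduct.includeRight (R := k) (A := R) (B := A)).toRingHom) := by
  unfold chart pullback.map
  rw [Category.assoc, pullback.lift_snd, Category.comp_id]
  exact pullbackSpecIso_inv_snd k R A

instance [IsOpenImmersion j] : IsOpenImmersion (chart f j hj A) := by
  unfold chart
  infer_instance

lemma range_chart [IsOpenImmersion j] :
    Set.range (chart f j hj A) = pullback.fst f _ ⁻¹' Set.range j := by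
  unfold chart
  simp only [Scheme.Hom.comp_base, TopCat.coe_comp]
  have hs : Function.Surjective (pullbackSpecIso k R A).inv :=
    (Scheme.Hom.homeomorph (pullbackSpecIso k R A).inv).surjective
  rw [Set.range_comp, hs.range_eq, Set.image_univ]
  refine subset_antisymm ?_ fun z hz ↦ ?_
  · exact (Scheme.Pullback.range_map ..).le.trans Set.inter_subset_left
  · exact (Scheme.Pullback.range_map ..).ge ⟨hz, pullback.snd f _ z, by simp⟩

variable {A} (A' : Subalgebra k A)
  (π : pullback f (Spec.map (CommRingCat.ofHom (algebraMap k A))) ⟶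
    pullback f (Spec.map (CommRingCat.ofHom (algebraMap k A'))))
  (h₁ : π ≫ pullback.fst _ _ = pullback.fst _ _)
  (h₂ : π ≫ pullback.snd _ _ = pullback.snd _ _ ≫ Spec.map (CommRingCat.ofHom A'.val.toRingHom))

include h₁ h₂ in
lemma chart_transition : chart f j hj A ≫ π =
    Spec.map (CommRingCat.ofHom (Algebra.TensorProduct.map (AlgHom.id R R) A'.val).toRingHom) ≫
      chart f j hj A' := by
  apply pullback.hom_ext
  · rw [Category.assoc, h₁, chart_fst, Category.assoc, chart_fst, ← Category.assoc, ← Spec.map_comp,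
      ← CommRingCat.ofHom_comp]
    congr 3
  · rw [Category.assoc, h₂, ← Category.assoc, chart_snd, Category.assoc, chart_snd, ← Spec.map_comp,
      ← Spec.map_comp, ← CommRingCat.ofHom_comp, ← CommRingCat.ofHom_comp]
    congr 2

include h₁ h₂ in
lemma preimage_image_basicOpen [IsOpenImmersion j] (t : R ⊗[k] A') :
    π.base ⁻¹' (chart f j hj A' '' (SetLike.coe (PrimeSpectrum.basicOpen t))) =
      chart f j hj A '' (SetLike.coe (PrimeSpectrum.basicOpen
        (Algebra.TensorProduct.map (AlgHom.id R R) A'.val t))) := by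
  ext z
  constructor
  · rintro ⟨q, hq, hqz⟩
    obtain ⟨P, rfl⟩ : z ∈ Set.range (chart f j hj A) := by
      rw [range_chart]
      show pullback.fst f (Spec.map (CommRingCat.ofHom (algebraMap k A))) z ∈ Set.range j
      rw [← h₁, Scheme.Hom.comp_apply, ← hqz, ← Scheme.Hom.comp_apply, chart_fst]
      exact ⟨_, rfl⟩
    refine ⟨P, ?_, rfl⟩
    rw [← Scheme.Hom.comp_apply, chart_transition f j hj A' π h₁ h₂, Scheme.Hom.comp_apply] at hqz
    have := (chart f j hj A').isOpenEmbedding.injective hqz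
    subst this
    exact hq
  · rintro ⟨P, hP, rfl⟩
    refine ⟨_, ?_, ((Scheme.Hom.comp_apply _ _ _).symm.trans
      ((congr($(chart_transition f j hj A' π h₁ h₂) P)).trans (Scheme.Hom.comp_apply _ _ _))).symm⟩
    exact hP

omit [CommRing A] [Algebra k A] in
lemma exists_finset (A : Type u) [CommRing A] [Algebra k A] (t : R ⊗[k] A) :
    ∃ s : Finset A, ∀ A' : Subalgebra k A, (s : Set A) ⊆ A' →
      t ∈ Set.range (Algebra.TensorProduct.map (AlgHom.id R R) A'.val) := by
  classical
  induction t with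
  | zero => exact ⟨∅, fun A' _ ↦ ⟨0, map_zero _⟩⟩
  | tmul r a => exact ⟨{a}, fun A' h ↦ ⟨r ⊗ₜ ⟨a, h (by simp)⟩, by simp⟩⟩
  | add x y hx hy =>
    obtain ⟨s, hs⟩ := hx
    obtain ⟨s', hs'⟩ := hy
    refine ⟨s ∪ s', fun A' h ↦ ?_⟩
    rw [Finset.coe_union, Set.union_subset_iff] at h
    obtain ⟨a, rfl⟩ := hs A' h.1
    obtain ⟨b, rfl⟩ := hs' A' h.2
    exact ⟨a + b, map_add _ _ _⟩

/-- Let X be a scheme over a field k, A a k-algebra and V ⊆ X_A = X ×_k Spec A a quasi-compact open
subset. Then there are a finitely generated k-subalgebra A' ⊆ A and a quasi-compact open subset V' ⊆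
X_{A'} such that V is the inverse image of V' under the transition morphism X_A → X_{A'} (any
morphism compatible with the projections to X and with Spec A → Spec A'; it is unique). -/
theorem result (k : Type u) [Field k] (X : Scheme.{u}) [X.Over (Spec (CommRingCat.of k))] (A : Type u) [CommRing A] [Algebra k A]
    (V : Set ↥(pullback (X ↘ (Spec (CommRingCat.of k))) (Spec.map (CommRingCat.ofHom (algebraMap k A))))) (hV : IsOpen V) (hVc : IsCompact V) :
    ∃ (A' : Subalgebra k A), A'.FG ∧
      ∃ (V' : Set ↥(pullback (X ↘ (Spec (CommRingCat.of k))) (Spec.map (CommRingCat.ofHom (algebraMap k ↥A'))))), IsOpen V' ∧ IsCompact V' ∧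
        ∀ π : pullback (X ↘ (Spec (CommRingCat.of k))) (Spec.map (CommRingCat.ofHom (algebraMap k A))) ⟶
            pullback (X ↘ (Spec (CommRingCat.of k))) (Spec.map (CommRingCat.ofHom (algebraMap k ↥A'))),
          π ≫ pullback.fst _ _ = pullback.fst _ _ →
          π ≫ pullback.snd _ _ = pullback.snd _ _ ≫ Spec.map (CommRingCat.ofHom A'.val.toRingHom) →
            π.base ⁻¹' V' = V := by
  classical
  have h : ∀ v : V, ∃ (R : Type u) (_ : CommRing R) (_ : Algebra k R)
      (j : Spec (CommRingCat.of R) ⟶ X) (_ : IsOpenImmersion j)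
      (hj : j ≫ (X ↘ Spec (CommRingCat.of k)) = Spec.map (CommRingCat.ofHom (algebraMap k R))) (t : TensorProduct k R A),
      v.1 ∈ chart (X ↘ Spec (CommRingCat.of k)) j hj A '' (SetLike.coe (PrimeSpectrum.basicOpen t)) ∧
        chart (X ↘ Spec (CommRingCat.of k)) j hj A '' (SetLike.coe (PrimeSpectrum.basicOpen t)) ⊆ V := by
    intro v
    obtain ⟨R, _, _, j, p, hjo, hjp, hj⟩ :=
      Groth.Agent.FBase.PointScheme.exists_chart (X ↘ Spec (CommRingCat.of k)) (pullback.fst (X ↘ Spec (CommRingCat.of k)) _ v.1)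
    obtain ⟨P, hP⟩ : v.1 ∈ Set.range (chart (X ↘ Spec (CommRingCat.of k)) j hj A) := by
      rw [range_chart]; exact ⟨p, hjp⟩
    obtain ⟨_, ⟨t, rfl⟩, ht, htV⟩ := PrimeSpectrum.isTopologicalBasis_basic_opens.exists_subset_of_mem_open
      (show P ∈ chart (X ↘ Spec (CommRingCat.of k)) j hj A ⁻¹' V by rw [Set.mem_preimage, hP]; exact v.2)
      (hV.preimage (chart (X ↘ Spec (CommRingCat.of k)) j hj A).continuous)
    exact ⟨R, _, _, j, hjo, hj, t, ⟨P, ht, hP⟩, Set.image_subset_iff.mpr htV⟩
  choose R _ _ j _ hj t hvt htV using h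
  obtain ⟨I, hI⟩ := hVc.elim_finite_subcover
    (fun v ↦ chart (X ↘ Spec (CommRingCat.of k)) (j v) (hj v) A '' (SetLike.coe (PrimeSpectrum.basicOpen (t v))))
    (fun v ↦ (chart (X ↘ Spec (CommRingCat.of k)) (j v) (hj v) A).isOpenEmbedding.isOpenMap _ (PrimeSpectrum.basicOpen (t v)).2)
    (fun z hz ↦ Set.mem_iUnion.mpr ⟨⟨z, hz⟩, hvt _⟩)
  choose s hs using fun v ↦ exists_finset (R := R v) A (t v)
  let A' := Algebra.adjoin k (↑(I.biUnion s) : Set A)
  have ht' : ∀ v : I, ∃ t', Algebra.TensorProduct.map (AlgHom.id (R v) (R v)) A'.val t' = t v :=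
    fun v ↦ hs v A' fun a ha ↦ Algebra.subset_adjoin (Finset.mem_biUnion.mpr ⟨v, v.2, ha⟩)
  choose t' ht' using ht'
  refine ⟨A', Subalgebra.fg_adjoin_finset _,
    ⋃ v : I, chart (X ↘ Spec (CommRingCat.of k)) (j v) (hj v) A' '' (SetLike.coe (PrimeSpectrum.basicOpen (t' v))), ?_, ?_, ?_⟩
  · exact isOpen_iUnion fun v ↦ (chart (X ↘ Spec (CommRingCat.of k)) (j v) (hj v) A').isOpenEmbedding.isOpenMap _
      (PrimeSpectrum.basicOpen _).2
  · exact isCompact_iUnion fun v ↦ (PrimeSpectrum.isCompact_basicOpen _).image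
      (chart (X ↘ Spec (CommRingCat.of k)) (j v) (hj v) A').continuous
  · intro π h₁ h₂
    simp only [Set.preimage_iUnion, preimage_image_basicOpen (X ↘ Spec (CommRingCat.of k)) _ _ A' π h₁ h₂, ht']
    refine subset_antisymm (Set.iUnion_subset fun v ↦ htV _) (hI.trans ?_)
    exact Set.iUnion₂_subset fun v hv ↦ Set.subset_iUnion_of_subset ⟨v, hv⟩ subset_rfl

end Groth.Agent.S7628
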