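import Groth.Statements.S7621
import Groth.Agent.VarBC.Galois
import Groth.Agent.S7628

set_option autoImplicit false
universe u
open CategoryTheory CategoryTheory.Limits AlgebraicGeometry
open Variety

namespace Groth.Agent.S7621

/-- Let K be a (possibly infinite) Galois extension of a field k, X a scheme over k and V a
quasi-compact open subset of X_K. Then there is a subextension k'/k of K, finite over k, such that
every k-automorphism of K fixing k' pointwise maps V onto itself under its action on X_K (an open
subgroup of the Galois group stabilises V). -/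
theorem result (k : Type u) [Field k] (K : Type u) [Field K] [Algebra k K] [IsGalois k K]
    (X : Scheme.{u}) [X.Over (Spec (CommRingCat.of k))] (V : Set ↥(Curv2.bc k X K)) (hV : IsOpen V) (hVc : IsCompact V) :
    ∃ E : IntermediateField k K, FiniteDimensional k ↥E ∧
      ∀ σ : K ≃ₐ[k] K, (∀ a : K, a ∈ E → σ a = a) → (Curv2.galAct k X K σ).base '' V = V := by
  classical
  obtain ⟨A', hA', V', -, -, hV'⟩ := Groth.Agent.S7628.result k X K V hV hVc
  obtain ⟨s, hs⟩ := hA'
  refine ⟨IntermediateField.adjoin k (↑s : Set K),
    IntermediateField.finiteDimensional_adjoin fun x _ ↦ Algebra.IsIntegral.isIntegral x, ?_⟩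
  intro σ hσ
  let π : Curv2.bc k X K ⟶ pullback (X ↘ Spec (CommRingCat.of k))
      (Spec.map (CommRingCat.ofHom (algebraMap k A'))) :=
    pullback.lift (pullback.fst _ _)
      (pullback.snd _ _ ≫ Spec.map (CommRingCat.ofHom A'.val.toRingHom))
      (by rw [Category.assoc, ← Spec.map_comp, pullback.condition]; rfl)
  have hπ : π.base ⁻¹' V' = V :=
    hV' π (pullback.lift_fst _ _ _) (pullback.lift_snd _ _ _)
  have hA : (A' : Set K) ⊆ IntermediateField.adjoin k (↑s : Set K) := by
    rw [← hs]
    exact IntermediateField.algebra_adjoin_le_adjoin k _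
  have key : ∀ τ : K ≃ₐ[k] K, (∀ a : K, a ∈ IntermediateField.adjoin k (↑s : Set K) → τ a = a) →
      ∀ z, Curv2.galAct k X K τ z ∈ V ↔ z ∈ V := by
    intro τ hτ z
    have h : Curv2.galAct k X K τ ≫ π = π := by
      apply pullback.hom_ext
      · rw [Category.assoc]
        erw [pullback.lift_fst, Groth.Agent.VarBC.galAct_fst]
      · rw [Category.assoc]
        erw [pullback.lift_snd, ← Category.assoc, Groth.Agent.VarBC.galAct_snd]
        rw [Category.assoc]
        erw [← Spec.map_comp, ← CommRingCat.ofHom_comp]
        congr 3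
        exact RingHom.ext fun a ↦ hτ _ (hA a.2)
    rw [← hπ, Set.mem_preimage, Set.mem_preimage, ← Scheme.Hom.comp_apply, h]
  refine subset_antisymm ?_ fun z hz ↦ ?_
  · rintro _ ⟨z, hz, rfl⟩
    exact (key σ hσ z).mpr hz
  · refine ⟨Curv2.galAct k X K σ.symm z, (key σ.symm (fun a ha ↦ ?_) z).mpr hz,
      Groth.Agent.VarBC.galAct_apply_symm σ z⟩
    exact σ.symm_apply_eq.mpr (hσ a ha).symm

end Groth.Agent.S7621
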