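import Groth.Statements.S7622
import Mathlib
import Groth.Agent.S11740
import Groth.Agent.CAlg48.CoeffField
import Groth.Agent.CAlg48.PSEval
import Groth.Agent.RegLoc.Completion
-- import your own Groth.Agent.* helpers here

set_option autoImplicit false
universe u
open CategoryTheory CategoryTheory.Limits AlgebraicGeometry
open Variety

namespace Groth.Agent.S7622

open IsLocalRing

/-- Let A be a Noetherian local algebra over a field k (such as the local ring of a locally Noetherian
k-scheme at a point) whose residue field κ is a separable extension of k, meaning geometrically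
reduced over k; κ need not be algebraic over k. Then there are n ≥ 0, an ideal I of κ[[x_1, …, x_n]]
and a k-algebra isomorphism e from κ[[x_1, …, x_n]]/I onto the completion A^∧ of A at its maximal
ideal which induces the identity on residue fields: for every a in A, the value of e on the constant
power series whose value is the residue class of a is congruent to the image of a modulo the
extended maximal ideal of A^∧. -/
theorem result (k A : Type u) [Field k] [CommRing A] [Algebra k A]
    [IsNoetherianRing A] [IsLocalRing A] [Algebra.IsGeometricallyReduced k (IsLocalRing.ResidueField A)] :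
    ∃ (n : ℕ) (I : Ideal (MvPowerSeries (Fin n) (IsLocalRing.ResidueField A)))
      (e : (MvPowerSeries (Fin n) (IsLocalRing.ResidueField A) ⧸ I) ≃ₐ[k]
        AdicCompletion (IsLocalRing.maximalIdeal A) A),
      ∀ a : A, e (Ideal.Quotient.mk I (MvPowerSeries.C (IsLocalRing.residue A a))) -
          algebraMap A (AdicCompletion (IsLocalRing.maximalIdeal A) A) a ∈
        (IsLocalRing.maximalIdeal A).map (algebraMap A (AdicCompletion (IsLocalRing.maximalIdeal A) A)) := by
  classical
  let R := AdicCompletion (maximalIdeal A) A
  have : IsNoetherianRing R := Groth.Agent.RegLoc.Completion.isNoetherianRing_adicCompletion' (maximalIdeal A)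
  let K := ResidueField A
  let ρ : K →ₐ[k] ResidueField R :=
    { ResidueField.map (algebraMap A R) with
      commutes' := fun c => by
        show ResidueField.map (algebraMap A R) (algebraMap k K c) = _
        rw [IsScalarTower.algebraMap_apply k A K, IsScalarTower.algebraMap_apply k R (ResidueField R),
          IsScalarTower.algebraMap_apply k A R]
        exact ResidueField.map_residue _ _ }
  have hρ : Function.Bijective ρ := AdicCompletion.residueField_map_bijective A
  have : Algebra.FormallySmooth k K := (Groth.Agent.FieldSep.MacLane.formallySmooth_iff (k := k) (K := K)).mpr inferInstance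
  have : Algebra.FormallySmooth k (ResidueField R) :=
    Algebra.FormallySmooth.of_equiv (AlgEquiv.ofBijective ρ hρ)
  obtain ⟨sR, hsR⟩ := Groth.Agent.CAlg48.CoeffField.exists_section R k
  let j : K →ₐ[k] R := sR.comp ρ
  let _ : Algebra K R := j.toRingHom.toAlgebra
  have : IsScalarTower k K R := .of_algHom j
  have hR : Function.Surjective ((residue R).comp (algebraMap K R)) := fun y => by
    obtain ⟨x, hx⟩ := hρ.surjective y
    exact ⟨x, (hsR (ρ x)).trans hx⟩
  set m := maximalIdeal R with hm
  obtain ⟨T, hT, hTs⟩ := Submodule.FG.exists_span_finset_card_eq_spanFinrank (IsNoetherian.noetherian m)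
  let b : Fin T.card → R := fun i => T.equivFin.symm i
  have hspan : Ideal.span (Set.range b) = m := by
    refine Eq.trans ?_ hTs
    congr 1
    ext x
    refine ⟨fun ⟨i, hi⟩ => hi ▸ (T.equivFin.symm i).2, fun hx => ⟨T.equivFin ⟨x, hx⟩, by simp [b]⟩⟩
  have hb : ∀ i, b i ∈ m := fun i => hspan ▸ Ideal.subset_span ⟨i, rfl⟩
  obtain ⟨ψ, hψ⟩ := Groth.Agent.CAlg48.PSEval.exists_algHom (k := K) m b hb
  have hψm : ∀ i, ψ (MvPowerSeries.X i) ∈ m := fun i => (hψ i).symm ▸ hb i
  have hsp : Submodule.span (ResidueField R)
      (Set.range (fun i => m.toCotangent ⟨ψ (MvPowerSeries.X i), hψm i⟩)) = ⊤ := by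
    have h1 : Submodule.span R (Set.range fun i => (⟨ψ (MvPowerSeries.X i), hψm i⟩ : m)) = ⊤ := by
      apply Submodule.map_injective_of_injective (f := m.subtype) Subtype.val_injective
      rw [Submodule.map_span, Submodule.map_top, Submodule.range_subtype, ← Set.range_comp]
      refine Eq.trans ?_ hspan
      exact congrArg _ (congrArg _ (funext fun i => hψ i))
    rw [← top_le_iff]
    intro x _
    obtain ⟨y, rfl⟩ := Ideal.toCotangent_surjective m x
    have hy : y ∈ Submodule.span R (Set.range fun i => (⟨ψ (MvPowerSeries.X i), hψm i⟩ : m)) := h1 ▸ Submodule.mem_top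
    have := Submodule.mem_map_of_mem (f := m.toCotangent) hy
    rw [Submodule.map_span, ← Set.range_comp] at this
    exact Submodule.span_le_restrictScalars R (ResidueField R) _ this
  have hli := linearIndependent_of_top_le_span_of_card_eq_finrank hsp.ge
    (by rw [Fintype.card_fin, hT, spanFinrank_maximalIdeal_eq_finrank_cotangentSpace])
  have hsurj : Function.Surjective ψ := (Groth.Agent.S11740.result K R hR _ ψ hψm hli hsp).1
  let ψk : MvPowerSeries (Fin T.card) K →ₐ[k] R := ψ.restrictScalars k
  refine ⟨T.card, RingHom.ker ψk, Ideal.quotientKerAlgEquivOfSurjective hsurj, fun a => ?_⟩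
  rw [← AdicCompletion.maximalIdeal_eq_map, ← residue_eq_zero_iff, map_sub, sub_eq_zero]
  have h1 : ψ (MvPowerSeries.C (residue A a)) = j (residue A a) := ψ.commutes (residue A a)
  show residue R (ψ (MvPowerSeries.C (residue A a))) = _
  rw [h1]
  exact (hsR (ρ (residue A a))).trans (ResidueField.map_residue _ _)

end Groth.Agent.S7622
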