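import Groth.Statements.S7623
import Mathlib
import Groth.Agent.JacCrit.Zariski
import Groth.Agent.FBase.TensorAlgClosed
import Groth.Agent.RegLoc.Basic
import Groth.Agent.S9442
-- import your own Groth.Agent.* helpers here

set_option autoImplicit false
universe u
open CategoryTheory CategoryTheory.Limits AlgebraicGeometry
open Variety

namespace Groth.Agent.S7623

open scoped TensorProduct
open KaehlerDifferential

/-- Spanning of the fibre from generation up to units. -/
lemma span_top {P A : Type u} [CommRing P] [CommRing A] [Algebra P A] (κ : Type u) [Field κ]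
    [Algebra P κ] {m : ℕ} (g : Fin m → RingHom.ker (algebraMap P A))
    (h : ∀ z : RingHom.ker (algebraMap P A), ∃ u : P, algebraMap P κ u ≠ 0 ∧
      u * (z : P) ∈ Ideal.span (Set.range fun i => (g i : P))) :
    Submodule.span κ (Set.range fun i => (1 : κ) ⊗ₜ[P] g i) = ⊤ := by
  rw [eq_top_iff, ← Groth.Agent.JacCrit.Zariski.span_pure κ, Submodule.span_le]
  rintro _ ⟨z, rfl⟩
  obtain ⟨u, hu, huz⟩ := h z
  obtain ⟨c, hc⟩ := Ideal.mem_span_range_iff_exists_fun.mp huz
  have h2 : algebraMap P κ u • ((1 : κ) ⊗ₜ[P] z) = ∑ i, algebraMap P κ (c i) • ((1 : κ) ⊗ₜ[P] g i) := by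
    simp only [algebraMap_smul, ← TensorProduct.tmul_smul, ← TensorProduct.tmul_sum]
    congr 1
    apply Subtype.ext
    simp [hc]
  show (1 : κ) ⊗ₜ[P] z ∈ Submodule.span κ _
  rw [← inv_smul_smul₀ hu ((1 : κ) ⊗ₜ[P] z), h2]
  exact Submodule.smul_mem _ _ (Submodule.sum_mem _ fun i _ =>
    Submodule.smul_mem _ _ (Submodule.subset_span ⟨i, rfl⟩))

/-- Formal smoothness at every prime, for a presented algebra. -/
lemma fs_atPrime {k : Type u} [Field k] [PerfectField k] {n : ℕ} {A : Type u} [CommRing A]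
    [Algebra k A] [Algebra (MvPolynomial (Fin n) k) A] [IsScalarTower k (MvPolynomial (Fin n) k) A]
    [Algebra.FiniteType k A] [_root_.IsReduced A] [Module.Projective A Ω[A⁄k]]
    (hsurj : Function.Surjective (algebraMap (MvPolynomial (Fin n) k) A)) (p : Ideal A) [p.IsPrime] :
    Algebra.FormallySmooth k (Localization.AtPrime p) := by
  classical
  let P := MvPolynomial (Fin n) k
  have : IsNoetherianRing A := Algebra.FiniteType.isNoetherianRing k A
  let mbc := KaehlerDifferential.mapBaseChange k P A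
  obtain ⟨sec, hsec⟩ := Module.projective_lifting_property mbc LinearMap.id
    (KaehlerDifferential.mapBaseChange_surjective k P A hsurj)
  let M := LinearMap.ker mbc
  let π : A ⊗[P] Ω[P⁄k] →ₗ[A] M := LinearMap.codRestrict M (LinearMap.id - sec ∘ₗ mbc) fun t => by
    simp [M, LinearMap.mem_ker, show mbc (sec (mbc t)) = mbc t from DFunLike.congr_fun hsec _]
  have hπ : ∀ z : M, π z = z := fun z => Subtype.ext <| by
    simp [π, LinearMap.mem_ker.mp z.2]
  let κ := p.ResidueField
  have hκA : RingHom.ker (algebraMap A κ) = p := Ideal.ker_algebraMap_residueField p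
  obtain ⟨m, x, hli, hspan⟩ := Groth.Agent.JacCrit.Zariski.exists_basis_field (A := A) (M := M) κ
  have hx : ∀ i, ∃ z : RingHom.ker (algebraMap P A), (1 : A) ⊗ₜ[P] D k P (z : P) = (x i).1 := fun i => by
    obtain ⟨c, hc⟩ := (KaehlerDifferential.exact_kerCotangentToTensor_mapBaseChange k P A hsurj (x i).1).mp (x i).2
    obtain ⟨z, rfl⟩ := Ideal.toCotangent_surjective _ c
    exact ⟨z, hc⟩
  choose g hg using hx
  let y : Fin m → Ω[P⁄k] := fun i => D k P (g i : P)
  have hy : LinearIndependent κ fun i => (1 : κ) ⊗ₜ[P] y i := by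
    let φ : Ω[P⁄k] →ₗ[P] κ ⊗[A] M := ((TensorProduct.mk A κ M 1).restrictScalars P) ∘ₗ
      (π.restrictScalars P) ∘ₗ ((TensorProduct.mk P A Ω[P⁄k]) 1)
    refine LinearIndependent.of_comp (LinearMap.liftBaseChange κ φ) ?_
    rw [show (LinearMap.liftBaseChange κ φ) ∘ (fun i => (1 : κ) ⊗ₜ[P] y i) =
      fun i => (1 : κ) ⊗ₜ[A] x i from funext fun i => by simp [φ, y, hg, hπ]]
    exact hli
  obtain ⟨s, hs, hsx⟩ := Groth.Agent.JacCrit.Zariski.exists_smul_mem_span_field p κ hκA x hspan
  let J : Ideal P := Ideal.span (Set.range fun i => (g i : P))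
  let q : Ideal P := p.comap (algebraMap P A)
  have hJI : J ≤ RingHom.ker (algebraMap P A) := Ideal.span_le.mpr <| by
    rintro _ ⟨i, rfl⟩
    exact (g i).2
  have hIq : RingHom.ker (algebraMap P A) ≤ q := fun z hz => by
    simp [q, RingHom.mem_ker.mp hz]
  have hqκ : RingHom.ker (algebraMap P κ) = q := by
    rw [IsScalarTower.algebraMap_eq P A κ, ← RingHom.comap_ker, hκA]
  let p' : Ideal (P ⧸ J) := q.map (Ideal.Quotient.mk J)
  have : p'.IsPrime := Ideal.map_isPrime_of_surjective Ideal.Quotient.mk_surjective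
    (Ideal.mk_ker.le.trans (hJI.trans hIq))
  have hp'q : p'.comap (Ideal.Quotient.mk J) = q := by
    rw [Ideal.comap_map_of_surjective' _ Ideal.Quotient.mk_surjective, Ideal.mk_ker,
      sup_eq_left.mpr (hJI.trans hIq)]
  obtain ⟨g', hg'⟩ := Groth.Agent.LeftInv.Basic.exists_functionals κ y hy
  have hfs' : Algebra.FormallySmooth k (Localization.AtPrime p') := by
    refine (Groth.Agent.JacCrit.Zariski.formallySmooth_iff_exists_derivations J q p' hp'q).mpr
      ⟨m, fun i => (g i : P), fun j => (g' j).compDer (D k P),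
        fun i => Ideal.subset_span ⟨i, rfl⟩, ?_, fun h => hg' ?_⟩
    · rw [Ideal.map_span, ← Set.range_comp]
      rfl
    · rw [← RingHom.mem_ker, hqκ, ← Matrix.det_transpose]
      exact h
  have : Algebra.IsGeometricallyReduced k p'.ResidueField :=
    Groth.Agent.FBase.TensorAlgClosed.isGeometricallyReduced_of_perfectField
  have hreg : IsRegularLocalRing (Localization.AtPrime p') :=
    (Groth.Agent.S9442.result k (P ⧸ J) p').mp hfs'
  have := Groth.Agent.RegLoc.isDomain (Localization.AtPrime p')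
  -- a minimal prime below `p`
  obtain ⟨p0, hp0, hp0p⟩ := Ideal.exists_minimalPrimes_le (bot_le (a := p))
  have : p0.IsPrime := hp0.1.1
  have hdim : Ring.KrullDimLE 0 (Localization.AtPrime p0) := by
    rw [Ring.krullDimLE_iff, IsLocalization.AtPrime.ringKrullDim_eq_height p0,
      Ideal.height_eq_zero_iff.mpr hp0]
    rfl
  let _ : Field (Localization.AtPrime p0) :=
    (Ring.KrullDimLE.isField_of_isReduced (R := Localization.AtPrime p0)).toField
  have hfs0 : Algebra.FormallySmooth k (Localization.AtPrime p0) := by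
    have : Algebra.EssFiniteType k (Localization.AtPrime p0) := .comp k A _
    exact Algebra.FormallySmooth.of_perfectField
  have : Module.Finite P (RingHom.ker (algebraMap P A)).Cotangent :=
    Module.Finite.of_surjective _ (Ideal.toCotangent_surjective _)
  have hinj0 := (Groth.Agent.JacCrit.Quotient.formallySmooth_atPrime_iff (A := k) hsurj p0).mp hfs0
  have hcc : ∀ (K : Type u) [CommRing K] [Algebra P K] [Algebra A K] [IsScalarTower P A K]
      (z : RingHom.ker (algebraMap P A)),
      cotangentComplexBaseChange k A P K ((1 : K) ⊗ₜ[P] z) = (1 : K) ⊗ₜ[P] D k P (z : P) :=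
    fun K _ _ _ _ z => by
      rw [cotangentComplexBaseChange_tmul, kerToTensor_apply, TensorProduct.smul_tmul', smul_eq_mul, mul_one]
  let κ0 := p0.ResidueField
  have hκ0A : RingHom.ker (algebraMap A κ0) = p0 := Ideal.ker_algebraMap_residueField p0
  have hκ0 : RingHom.ker (algebraMap P κ0) = p0.comap (algebraMap P A) := by
    rw [IsScalarTower.algebraMap_eq P A κ0, ← RingHom.comap_ker, hκ0A]
  have hs0 : algebraMap A κ0 s ≠ 0 := fun h => hs (hp0p (hκ0A ▸ RingHom.mem_ker.mpr h))
  have hspan0 : Submodule.span κ0 (Set.range fun i => (1 : κ0) ⊗ₜ[P] g i) = ⊤ := by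
    rw [eq_top_iff, ← Groth.Agent.JacCrit.Zariski.span_pure κ0, Submodule.span_le]
    rintro _ ⟨z, rfl⟩
    have hzM : (1 : A) ⊗ₜ[P] D k P (z : P) ∈ M :=
      (KaehlerDifferential.exact_kerCotangentToTensor_mapBaseChange k P A hsurj _).mpr
        ⟨Ideal.toCotangent _ z, rfl⟩
    obtain ⟨c, hc⟩ := (Submodule.mem_span_range_iff_exists_fun A).mp (hsx ⟨_, hzM⟩)
    let ψ : A ⊗[P] Ω[P⁄k] →ₗ[P] κ0 ⊗[P] Ω[P⁄k] :=
      (IsScalarTower.toAlgHom P A κ0).toLinearMap.rTensor _
    have hψ : ∀ (a : A) (w : Ω[P⁄k]), ψ (a • ((1 : A) ⊗ₜ[P] w)) = algebraMap A κ0 a • ((1 : κ0) ⊗ₜ[P] w) :=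
      fun a w => by simp [ψ, TensorProduct.smul_tmul', Algebra.smul_def]
    have h1 := congrArg (fun t : M => ψ t.1) hc
    simp only [AddSubmonoidClass.coe_finsetSum, Submodule.coe_smul, map_sum, ← hg, hψ] at h1
    have h2 : algebraMap A κ0 s • ((1 : κ0) ⊗ₜ[P] z) =
        ∑ i, algebraMap A κ0 (c i) • ((1 : κ0) ⊗ₜ[P] g i) := by
      apply hinj0
      rw [map_smul, map_sum]
      refine Eq.trans ?_ (h1.symm.trans (Finset.sum_congr rfl fun i _ => ?_))
      · exact congrArg _ (hcc κ0 z)
      · rw [map_smul]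
        exact congrArg _ (hcc κ0 (g i)).symm
    show (1 : κ0) ⊗ₜ[P] z ∈ Submodule.span κ0 _
    rw [← inv_smul_smul₀ hs0 ((1 : κ0) ⊗ₜ[P] z), h2]
    exact Submodule.smul_mem _ _ (Submodule.sum_mem _ fun i _ =>
      Submodule.smul_mem _ _ (Submodule.subset_span ⟨i, rfl⟩))
  obtain ⟨t, ht, htg⟩ := Groth.Agent.JacCrit.Zariski.exists_smul_mem_span_field
    (p0.comap (algebraMap P A)) κ0 hκ0 g hspan0
  -- the ideal is generated by `g` near `q`
  let χ : P →+* Localization.AtPrime p' := (algebraMap (P ⧸ J) _).comp (Ideal.Quotient.mk J)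
  have hχ : ∀ z, χ z = 0 → ∃ u ∉ q, u * z ∈ J := fun z hz => by
    obtain ⟨⟨u, hu⟩, huz⟩ := (IsLocalization.map_eq_zero_iff p'.primeCompl (Localization.AtPrime p')
      (Ideal.Quotient.mk J z)).mp hz
    obtain ⟨u, rfl⟩ := Ideal.Quotient.mk_surjective u
    refine ⟨u, fun h => hu ?_, ?_⟩
    · rw [← hp'q, Ideal.mem_comap] at h
      exact h
    · rwa [← map_mul, Ideal.Quotient.eq_zero_iff_mem] at huz
  refine (Groth.Agent.JacCrit.Quotient.formallySmooth_atPrime_iff hsurj p).mpr ?_
  have hspan1 : Submodule.span κ (Set.range fun i => (1 : κ) ⊗ₜ[P] g i) = ⊤ := by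
    refine span_top κ g fun z => ?_
    have h1 : t * (z : P) ∈ J := by
      have h2 := Submodule.mem_map_of_mem (f := (RingHom.ker (algebraMap P A)).subtype) (htg z)
      rw [Submodule.map_span, ← Set.range_comp] at h2
      exact h2
    have h3 : χ t * χ (z : P) = 0 := by
      rw [← map_mul]
      simp [χ, Ideal.Quotient.eq_zero_iff_mem.mpr h1]
    obtain ⟨u, hu, huz⟩ := hχ _ ((mul_eq_zero.mp h3).resolve_left fun h => by
      obtain ⟨u, hu, hut⟩ := hχ t h
      have h4 : algebraMap P A (u * t) ∈ p0 := by rw [RingHom.mem_ker.mp (hJI hut)]; exact zero_mem _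
      rcases Ideal.IsPrime.mem_or_mem inferInstance (map_mul (algebraMap P A) u t ▸ h4) with h5 | h5
      · exact hu (hp0p h5)
      · exact ht h5)
    exact ⟨u, fun h => hu (hqκ ▸ RingHom.mem_ker.mpr h), huz⟩
  rw [injective_iff_map_eq_zero]
  intro w hw
  obtain ⟨a, rfl⟩ := (Submodule.mem_span_range_iff_exists_fun κ).mp (hspan1 ▸ (Submodule.mem_top : w ∈ ⊤))
  have ha := Fintype.linearIndependent_iff.mp hy a (by
    rw [map_sum] at hw
    refine Eq.trans (Finset.sum_congr rfl fun i _ => ?_) hw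
    rw [map_smul]
    exact congrArg _ (hcc κ (g i)).symm)
  simp [ha]

/-- Let k be a perfect field and A a reduced finite type k-algebra such that Ω_{A/k} is a projective
A-module (locally free, as it is finitely presented). Then A is smooth over k. The scheme statement,
X reduced and locally of finite type over k with Ω_{X/k} locally free is smooth over k, is this
assertion on affine opens. -/
theorem result (k A : Type u) [Field k] [PerfectField k] [CommRing A] [Algebra k A]
    [Algebra.FiniteType k A] [_root_.IsReduced A] [Module.Projective A Ω[A⁄k]] : Algebra.Smooth k A := by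
  obtain ⟨n, f, hf⟩ := Algebra.FiniteType.iff_quotient_mvPolynomial''.mp ‹Algebra.FiniteType k A›
  let _ : Algebra (MvPolynomial (Fin n) k) A := f.toRingHom.toAlgebra
  have : IsScalarTower k (MvPolynomial (Fin n) k) A := .of_algHom f
  have : IsNoetherianRing A := Algebra.FiniteType.isNoetherianRing k A
  have : Algebra.FinitePresentation k A := Algebra.FinitePresentation.of_finiteType.mp ‹_›
  refine ⟨Algebra.smoothLocus_eq_univ_iff.mp (Set.eq_univ_of_forall fun p => ?_), ‹_›⟩
  exact fs_atPrime (n := n) hf p.asIdeal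

end Groth.Agent.S7623
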