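import Groth.Statements.S7624
import Groth.Agent.S4932
import Groth.Agent.FBase.Dim
-- import your own Groth.Agent.* helpers here

set_option autoImplicit false
set_option linter.style.haveILetI false
set_option backward.isDefEq.respectTransparency false
set_option backward.isDefEq.respectTransparency.types false
universe u
open CategoryTheory CategoryTheory.Limits AlgebraicGeometry
open Variety
open TopologicalSpace
open Groth.Agent.FBase.Dim (topDim_image topDim_opens topDim_congr topDim_range)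

namespace Groth.Agent.S7624

/-- Let R be a valuation ring, X an irreducible scheme and f : X → Spec R a surjective morphism locally
of finite type. Then each irreducible component of the fibre of f over the closed point of Spec R
has Krull dimension equal to that of the fibre of f over the generic point. -/
theorem result (R : Type u) [CommRing R] [IsDomain R] [ValuationRing R]
    (X : Scheme.{u}) [IrreducibleSpace ↥X] (f : X ⟶ Spec (CommRingCat.of R)) [LocallyOfFiniteType f] [Surjective f]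
    (Z : Set ↥(f.fiber (IsLocalRing.closedPoint R))) (hZ : Z ∈ irreducibleComponents ↥(f.fiber (IsLocalRing.closedPoint R))) :
    topologicalKrullDim ↥Z = topologicalKrullDim ↥(f.fiber (⟨⊥, Ideal.bot_prime⟩ : PrimeSpectrum R)) := by
  classical
  let y0 : ↥(Spec (CommRingCat.of R)) := IsLocalRing.closedPoint R
  let F := f.fiber y0
  let g := f.fiberToSpecResidueField y0
  haveI : LocallyOfFiniteType g := inferInstanceAs (LocallyOfFiniteType (pullback.snd _ _))
  haveI : IsLocallyNoetherian F := LocallyOfFiniteType.isLocallyNoetherian g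
  obtain ⟨ζ, hζ⟩ := hZ.1.nonempty
  obtain ⟨_, ⟨⟨O, hO, rfl⟩, hζO, -⟩⟩ :=
    F.isBasis_affineOpens.exists_subset_of_mem_open (Set.mem_univ ζ) isOpen_univ
  haveI : IsNoetherianRing Γ(F, O) := IsLocallyNoetherian.component_noetherian ⟨O, hO⟩
  haveI : NoetherianSpace ↥(O : Set F) := noetherianSpace_of_isAffineOpen O hO
  have hemb : Topology.IsOpenEmbedding (Subtype.val : ↥(O : Set F) → F) := O.2.isOpenEmbedding_subtypeVal
  have hc := preimage_mem_irreducibleComponents hZ hemb ⟨ζ, hζ, ⟨ζ, hζO⟩, rfl⟩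
  obtain ⟨o, ho, hne, hoZ⟩ := NoetherianSpace.exists_isOpen_nonempty_subset_irreducibleComponent _ hc
  let W₀ : F.Opens := ⟨Subtype.val '' o, hemb.isOpenMap _ ho⟩
  have hW₀Z : (W₀ : Set F) ⊆ Z := fun _ ⟨a, ha, e⟩ => e ▸ hoZ ha
  obtain ⟨w, hw⟩ : (W₀ : Set F).Nonempty := hne.image _
  have hι : Topology.IsEmbedding (f.fiberι y0) := (f.fiberι y0).isEmbedding
  obtain ⟨U₀, hU₀, hU₀W⟩ := hι.isInducing.isOpen_iff.1 W₀.2
  obtain ⟨_, ⟨⟨U, hU, rfl⟩, hwU, hUsub⟩⟩ := X.isBasis_affineOpens.exists_subset_of_mem_open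
    (show f.fiberι y0 w ∈ U₀ from (hU₀W.ge hw :)) hU₀
  have hZc : IsClosed Z := isClosed_of_mem_irreducibleComponents Z hZ
  -- the dimension of `Z`
  let 𝓩 := Scheme.IdealSheafData.vanishingIdeal ⟨Z, hZc⟩
  have hrange : Set.range 𝓩.subschemeι = Z := by
    rw [Scheme.IdealSheafData.range_subschemeι]
    exact Scheme.IdealSheafData.coe_support_vanishingIdeal _
  have hemb' : Topology.IsEmbedding 𝓩.subschemeι := 𝓩.subschemeι.isEmbedding
  haveI : IrreducibleSpace 𝓩.subscheme := by
    obtain ⟨c, hc'⟩ : hZ.1.genericPoint ∈ Set.range 𝓩.subschemeι := by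
      rw [hrange]
      exact hZc.closure_eq.le hZ.1.isGenericPoint_genericPoint_closure.mem
    have hgen : ∀ d : 𝓩.subscheme, c ⤳ d := fun d => hemb'.isInducing.specializes_iff.1 (by
      rw [hc']
      refine hZ.1.isGenericPoint_genericPoint_closure.specializes ?_
      exact subset_closure (hrange ▸ ⟨d, rfl⟩))
    refine (irreducibleSpace_def _).2 ?_
    convert (isIrreducible_singleton (x := c)).closure using 1
    exact (top_unique fun d _ => (hgen d).mem_closure).symm
  let V : 𝓩.subscheme.Opens := (𝓩.subschemeι ≫ f.fiberι y0) ⁻¹ᵁ U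
  have hVne : (V : Set 𝓩.subscheme).Nonempty := by
    obtain ⟨a, ha⟩ : w ∈ Set.range 𝓩.subschemeι := hrange.symm ▸ hW₀Z hw
    exact ⟨a, show f.fiberι y0 (𝓩.subschemeι a) ∈ U by rw [ha]; exact hwU⟩
  have hUZ : ∀ a, f.fiberι y0 a ∈ U → a ∈ Z := fun a ha => hW₀Z (hU₀W.le (hUsub ha))
  have hdimZ : topologicalKrullDim Z = topologicalKrullDim ((U : Set X) ∩ f ⁻¹' {y0} : Set X) := by
    have h1 : topologicalKrullDim Z = topologicalKrullDim 𝓩.subscheme := by
      rw [topDim_range hemb']
      exact topDim_congr hrange.symm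
    rw [h1, ← topDim_opens (𝓩.subschemeι ≫ g) V hVne, topDim_image (hι.comp hemb')]
    refine topDim_congr (Set.ext fun x => ⟨?_, ?_⟩)
    · rintro ⟨a, ha, rfl⟩
      refine ⟨ha, ?_⟩
      have := f.range_fiberι y0
      exact this ▸ ⟨_, rfl⟩
    · rintro ⟨hxU, hxy⟩
      obtain ⟨a, rfl⟩ : x ∈ Set.range (f.fiberι y0) := by rw [f.range_fiberι y0]; exact hxy
      obtain ⟨c, rfl⟩ : a ∈ Set.range 𝓩.subschemeι := hrange.symm ▸ hUZ a hxU
      exact ⟨c, hxU, rfl⟩
  -- apply the affine case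
  haveI : IsAffine (U : Scheme.{u}) := hU
  haveI : Nonempty (U : Scheme.{u}) := ⟨⟨_, hwU⟩⟩
  have hη : genericPoint (Spec (CommRingCat.of R)) = (⟨⊥, Ideal.bot_prime⟩ : PrimeSpectrum R) := by
    exact genericPoint_eq_bot_of_affine (CommRingCat.of R)
  have hfξ : f (genericPoint X) = genericPoint (Spec (CommRingCat.of R)) := by
    have h9 := (genericPoint_spec X).image f.continuous
    rw [Set.image_univ, f.surjective.range_eq, closure_univ] at h9
    exact h9.eq (genericPoint_spec _)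
  have hξU : genericPoint X ∈ U :=
    ((genericPoint_spec X).mem_open_set_iff U.2).2 (by simpa using ⟨_, hwU⟩)
  haveI : IrreducibleSpace (U : Scheme.{u}) := by
    have hgen : ∀ d : (U : Scheme.{u}), (⟨_, hξU⟩ : (U : Scheme.{u})) ⤳ d := fun d =>
      (Scheme.Opens.ι U).isEmbedding.isInducing.specializes_iff.1 (genericPoint_specializes _)
    refine (irreducibleSpace_def _).2 ?_
    have he : closure ({(⟨_, hξU⟩ : (U : Scheme.{u}))} : Set (U : Scheme.{u})) = Set.univ :=
      Set.eq_univ_of_forall fun d => (hgen d).mem_closure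
    have h2 := (isIrreducible_singleton (x := (⟨_, hξU⟩ : (U : Scheme.{u})))).closure
    rw [he] at h2
    exact h2
  haveI : IsDominant ((Scheme.Opens.ι U) ≫ f) := ⟨by
    have hmem : genericPoint (Spec (CommRingCat.of R)) ∈ Set.range ((Scheme.Opens.ι U) ≫ f) := ⟨⟨_, hξU⟩, hfξ⟩
    refine dense_iff_closure_eq.2 (top_unique fun z _ => ?_)
    exact closure_mono (Set.singleton_subset_iff.2 hmem)
      ((genericPoint_spec (Spec (CommRingCat.of R))).specializes (Set.mem_univ z)).mem_closure⟩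
  have hne0 : Nonempty ↥(((Scheme.Opens.ι U) ≫ f).fiber y0) := by
    have hw0 : f.fiberι y0 w ∈ f ⁻¹' {y0} := f.range_fiberι y0 ▸ ⟨w, rfl⟩
    exact ⟨(((Scheme.Opens.ι U) ≫ f).fiberHomeo y0).symm ⟨⟨_, hwU⟩, hw0⟩⟩
  have key := S4932.result ((Scheme.Opens.ι U) ≫ f) hne0
  have hfib : ∀ y, topologicalKrullDim ↥(((Scheme.Opens.ι U) ≫ f).fiber y) = topologicalKrullDim ((U : Set X) ∩ f ⁻¹' {y} : Set X) := by
    intro y
    rw [(((Scheme.Opens.ι U) ≫ f).fiberHomeo y).isHomeomorph.topologicalKrullDim_eq, topDim_image (Scheme.Opens.ι U).isEmbedding]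
    refine topDim_congr (Set.ext fun x => ⟨?_, ?_⟩)
    · rintro ⟨a, ha, rfl⟩; exact ⟨a.2, ha⟩
    · rintro ⟨hxU, hxy⟩; exact ⟨⟨x, hxU⟩, hxy, rfl⟩
  rw [hfib, hfib, ← hdimZ] at key
  rw [key, hη]
  set η : ↥(Spec (CommRingCat.of R)) := (⟨⊥, Ideal.bot_prime⟩ : PrimeSpectrum R)
  -- the generic fibre
  haveI : LocallyOfFiniteType (f.fiberToSpecResidueField η) :=
    inferInstanceAs (LocallyOfFiniteType (pullback.snd _ _))
  obtain ⟨a, ha⟩ : genericPoint X ∈ Set.range (f.fiberι η) := by
    rw [f.range_fiberι η]; exact hfξ.trans hη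
  haveI : IrreducibleSpace (f.fiber η) := by
    have hgen : ∀ b : f.fiber η, a ⤳ b := fun b =>
      (f.fiberι η).isEmbedding.isInducing.specializes_iff.1 (ha ▸ genericPoint_specializes _)
    refine (irreducibleSpace_def _).2 ?_
    convert (isIrreducible_singleton (x := a)).closure using 1
    exact (top_unique fun b _ => (hgen b).mem_closure).symm
  rw [← topDim_opens (f.fiberToSpecResidueField η) ((f.fiberι η) ⁻¹ᵁ U) ⟨a, show f.fiberι η a ∈ U from ha ▸ hξU⟩,
    topDim_image (f.fiberι η).isEmbedding]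
  refine topDim_congr (Set.ext fun x => ⟨?_, ?_⟩)
  · rintro ⟨hxU, hxy⟩
    obtain ⟨c, rfl⟩ : x ∈ Set.range (f.fiberι η) := by rw [f.range_fiberι η]; exact hxy
    exact ⟨c, hxU, rfl⟩
  · rintro ⟨c, hc', rfl⟩
    exact ⟨hc', f.range_fiberι η ▸ ⟨c, rfl⟩⟩

end Groth.Agent.S7624
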