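import Groth.Statements.S7625
import Groth.Agent.S3386

set_option autoImplicit false
universe u
open CategoryTheory CategoryTheory.Limits AlgebraicGeometry
open Variety

namespace Groth.Agent.S7625

/-- Let f : X → S be locally of finite type, x a point of X with image s, V an affine open neighbourhood
of s in S, and suppose dim_x(X_s) = d. Then there is an affine open neighbourhood U of x with f(U) ⊆
V and a factorisation of f|_U as U → 𝔸^d_V → V with U → 𝔸^d_V locally quasi-finite and locally of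
finite type (hence quasi-finite, U being affine). -/
theorem result {X S : Scheme.{u}} (f : X ⟶ S) [LocallyOfFiniteType f] (x : ↥X)
    (V : S.Opens) (hV : IsAffineOpen V) (hxV : f x ∈ V) (d : ℕ) (hd : FlatMor.fibreDimAt f x = d) :
    ∃ (U : X.Opens), IsAffineOpen U ∧ x ∈ U ∧
      ∃ (g : (U : Scheme.{u}) ⟶ (V : Scheme.{u})) (π : (U : Scheme.{u}) ⟶ 𝔸(ULift.{u} (Fin d); (V : Scheme.{u}))),
        g ≫ V.ι = U.ι ≫ f ∧ π ≫ (𝔸(ULift.{u} (Fin d); (V : Scheme.{u})) ↘ (V : Scheme.{u})) = g ∧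
          LocallyQuasiFinite π ∧ LocallyOfFiniteType π := by
  have hd' : FlatMor.fibreDimAt (f ∣_ V) ⟨x, hxV⟩ = d := by
    rw [Groth.Agent.AlgSpD.fibreDimAt_inv (f ⁻¹ᵁ V).ι V.ι (f ∣_ V) f (morphismRestrict_ι f V) ⟨x, hxV⟩]
    exact hd
  obtain ⟨W, g₀, hxW, hg₀, hqf⟩ := Groth.Agent.S3386.exists_qf_affineSpace (f ∣_ V) ⟨x, hxV⟩ d hd'.le
  let j : (W : Scheme.{u}) ⟶ X := W.ι ≫ (f ⁻¹ᵁ V).ι
  have hxj : x ∈ j.opensRange := ⟨⟨⟨x, hxV⟩, hxW⟩, rfl⟩
  obtain ⟨U, hU, hxU, hUW⟩ := exists_isAffineOpen_mem_and_subset hxj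
  let l : (U : Scheme.{u}) ⟶ (W : Scheme.{u}) := IsOpenImmersion.lift j U.ι
    (by rw [Scheme.Opens.range_ι]; exact hUW)
  have hl : l ≫ j = U.ι := IsOpenImmersion.lift_fac _ _ _
  haveI : IsOpenImmersion l := by
    haveI : IsOpenImmersion (l ≫ j) := by rw [hl]; infer_instance
    exact IsOpenImmersion.of_comp l j
  haveI : IsAffine (U : Scheme.{u}) := hU
  refine ⟨U, hU, hxU, l ≫ W.ι ≫ (f ∣_ V), l ≫ g₀, ?_, ?_, inferInstance, ?_⟩
  · simp only [Category.assoc, morphismRestrict_ι]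
    rw [← hl]
    simp [j]
  · rw [Category.assoc, hg₀]
  · haveI : LocallyOfFiniteType ((l ≫ g₀) ≫ (𝔸(ULift.{u} (Fin d); (V : Scheme.{u})) ↘ (V : Scheme.{u}))) := by
      rw [Category.assoc, hg₀]
      infer_instance
    exact locallyOfFiniteType_of_comp (l ≫ g₀) (𝔸(ULift.{u} (Fin d); (V : Scheme.{u})) ↘ (V : Scheme.{u}))

end Groth.Agent.S7625
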