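import Groth.Statements.S7626
import Groth.Agent.CBC.ProjPic
import Groth.Agent.ProjTwist.Pn.HyperSection
import Groth.Agent.Props.AmpleTwist
import Groth.Agent.AbExt.Collapse
import Groth.Agent.ProjTwist.Tensor
import Groth.Agent.VarBC.Basic
import Groth.Agent.S4413
-- import your own Groth.Agent.* helpers here

set_option autoImplicit false
universe u
open CategoryTheory CategoryTheory.Limits AlgebraicGeometry
open Variety

namespace Groth.Agent.S7626

set_option linter.style.haveILetI false
set_option backward.isDefEq.respectTransparency.types false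

open Groth.Agent MvPolynomial TopologicalSpace in
/-- A linear form vanishing at a rational point of projective space and at none of finitely many other points. -/
theorem exists_form {k : Type u} [Field k] [Infinite k] {N : ℕ}
    (p : Spec (CommRingCat.of k) ⟶ CohB1.ProjSpace N k)
    (hp : p ≫ CohB1.ProjSpace.toSpec N k = 𝟙 _) (T : Set (CohB1.ProjSpace N k)) (hT : T.Finite)
    (hne : p (IsLocalRing.closedPoint k) ∉ T) :
    ∃ G : MvPolynomial (Fin (N + 1)) k, G ∈ CohB1.polyGrading N k 1 ∧
      p (IsLocalRing.closedPoint k) ∉ Proj.basicOpen (CohB1.polyGrading N k) G ∧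
      ∀ z ∈ T, z ∈ Proj.basicOpen (CohB1.polyGrading N k) G := by
  classical
  set y := p (IsLocalRing.closedPoint k) with hy
  obtain ⟨j, hj⟩ := Opens.mem_iSup.mp
    ((ProjTwist.iSup_stdOpen N k).ge (trivial : y ∈ (⊤ : (CohB1.ProjSpace N k).Opens)))
  have hX : ∀ i, (X i : MvPolynomial (Fin (N + 1)) k) ∈ CohB1.polyGrading N k 1 :=
    fun i => ProjTwist.X_mem_polyGrading N k i
  let ι' := Proj.awayι (CohB1.polyGrading N k) (X j) (hX j) one_pos
  have hr : Set.range p ⊆ Set.range ι' := by
    rintro _ ⟨z, rfl⟩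
    have e : z = IsLocalRing.closedPoint k := Subsingleton.elim _ _
    rw [e]
    exact (congrArg (fun U : (CohB1.ProjSpace N k).Opens => (U : Set (CohB1.ProjSpace N k)))
      (Proj.opensRange_awayι (CohB1.polyGrading N k) (X j) (hX j) one_pos)).ge hj
  let χ := Spec.preimage (IsOpenImmersion.lift ι' p hr)
  have hχ : Spec.map χ ≫ ι' = p := by rw [Spec.map_preimage, IsOpenImmersion.lift_fac]
  have hconst : ∀ c : k, χ.hom (HomogeneousLocalization.fromZeroRingHom (CohB1.polyGrading N k) _
      (algebraMap k (CohB1.polyGrading N k 0) c)) = c := by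
    intro c
    have e : CommRingCat.ofHom (algebraMap k (CohB1.polyGrading N k 0)) ≫
        CommRingCat.ofHom (HomogeneousLocalization.fromZeroRingHom (CohB1.polyGrading N k)
          (Submonoid.powers (X j : MvPolynomial (Fin (N + 1)) k))) ≫ χ = 𝟙 _ := by
      apply Spec.map_injective
      simp only [Spec.map_comp, Spec.map_id, Category.assoc]
      rw [← Proj.awayι_toSpecZero (CohB1.polyGrading N k) (X j) (hX j) one_pos, Category.assoc,
        reassoc_of% hχ]
      exact hp
    exact RingHom.congr_fun (congrArg CommRingCat.Hom.hom e) c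
  let q : Fin (N + 1) → k := fun i =>
    χ.hom (HomogeneousLocalization.Away.isLocalizationElem (hX j) (hX i))
  let L : Fin (N + 1) → MvPolynomial (Fin (N + 1)) k := fun i => X i - C (q i) * X j
  have hL : ∀ i, L i ∈ CohB1.polyGrading N k 1 := fun i =>
    Submodule.sub_mem _ (hX i) (by
      rw [← smul_eq_C_mul]; exact Submodule.smul_mem _ _ (hX j))
  have hmemD : ∀ (g : MvPolynomial (Fin (N + 1)) k) (hg : g ∈ CohB1.polyGrading N k 1),
      y ∈ Proj.basicOpen (CohB1.polyGrading N k) g ↔
        χ.hom (HomogeneousLocalization.Away.isLocalizationElem (hX j) hg) ≠ 0 := by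
    intro g hg
    have e : y = ι' ((Spec.map χ) (IsLocalRing.closedPoint k)) :=
      (congrArg (fun f : Spec (CommRingCat.of k) ⟶ CohB1.ProjSpace N k => f (IsLocalRing.closedPoint k))
        hχ).symm.trans (Scheme.Hom.comp_apply _ _ _)
    rw [e]
    show (Spec.map χ) _ ∈ ι' ⁻¹ᵁ Proj.basicOpen (CohB1.polyGrading N k) g ↔ _
    rw [Proj.awayι_preimage_basicOpen (CohB1.polyGrading N k) (hX j) one_pos hg one_pos]
    show _ ∉ IsLocalRing.maximalIdeal k ↔ _
    rw [IsLocalRing.maximalIdeal_eq_bot, Ideal.mem_bot]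
  have hLy : ∀ i, y ∉ Proj.basicOpen (CohB1.polyGrading N k) (L i) := by
    intro i h
    refine (hmemD _ (hL i)).mp h ?_
    have e : HomogeneousLocalization.Away.isLocalizationElem (hX j) (hL i) =
        HomogeneousLocalization.Away.isLocalizationElem (hX j) (hX i) -
          HomogeneousLocalization.fromZeroRingHom (CohB1.polyGrading N k) _
            (algebraMap k (CohB1.polyGrading N k 0) (q i)) := by
      apply HomogeneousLocalization.val_injective
      rw [HomogeneousLocalization.val_sub, eq_sub_iff_add_eq]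
      show Localization.mk (L i ^ 1) _ + Localization.mk (C (q i)) _ = Localization.mk (X i ^ 1) _
      rw [Localization.add_mk, Localization.mk_eq_mk_iff, Localization.r_iff_exists]
      refine ⟨1, ?_⟩
      simp [L]
      ring
    rw [e, map_sub, hconst, sub_self]
  let P : CohB1.ProjSpace N k → HomogeneousIdeal (CohB1.polyGrading N k) := fun z =>
    (show ProjectiveSpectrum (CohB1.polyGrading N k) from z).asHomogeneousIdeal
  have hPb : ∀ z g, z ∈ Proj.basicOpen (CohB1.polyGrading N k) g ↔ g ∉ (P z).toIdeal := fun z g =>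
    Proj.mem_basicOpen _ _ _
  have hXj : ∀ z, (∀ i, L i ∈ (P z).toIdeal) → (X j : MvPolynomial (Fin (N + 1)) k) ∉ (P z).toIdeal := by
    intro z hz hj'
    obtain ⟨i, hi⟩ := Opens.mem_iSup.mp
      ((ProjTwist.iSup_stdOpen N k).ge (trivial : z ∈ (⊤ : (CohB1.ProjSpace N k).Opens)))
    refine (hPb z _).mp hi ?_
    simpa [L] using add_mem (hz i) (Ideal.mul_mem_left _ (C (q i)) hj')
  have hiff : ∀ z, (∀ i, L i ∈ (P z).toIdeal) → ∀ (d : ℕ) (f : MvPolynomial (Fin (N + 1)) k),
      f.IsHomogeneous d → (f ∈ (P z).toIdeal ↔ eval q f = 0) := by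
    intro z hz d f hf
    let π := Ideal.Quotient.mk (P z).toIdeal
    have hπ : ∀ i, π (X i) = π (C (q i)) * π (X j) := fun i => by
      rw [← map_mul]; exact Ideal.Quotient.eq.mpr (hz i)
    have key : π f = π (C (eval q f)) * π (X j) ^ d := by
      have hfs := f.as_sum
      rw [hfs, map_sum, map_sum, map_sum, map_sum, Finset.sum_mul]
      refine Finset.sum_congr rfl fun s hs => ?_
      have hd : (∑ i ∈ s.support, s i) = d := by
        have := hf (mem_support_iff.mp hs)
        simpa [Finsupp.weight_apply, Finsupp.sum] using this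
      rw [monomial_eq]
      simp only [map_mul, eval_C]
      rw [mul_assoc]
      congr 1
      rw [Finsupp.prod, map_prod, map_prod, map_prod, map_prod, ← hd, ← Finset.prod_pow_eq_pow_sum,
        ← Finset.prod_mul_distrib]
      exact Finset.prod_congr rfl fun i _ => by
        simp only [map_pow, eval_X]
        rw [hπ i, mul_pow]
    constructor
    · intro hfm
      by_contra hev
      have h0 : π f = 0 := Ideal.Quotient.eq_zero_iff_mem.mpr hfm
      rw [key, ← map_pow, ← map_mul] at h0
      have hmem := Ideal.Quotient.eq_zero_iff_mem.mp h0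
      have hprime : (P z).toIdeal.IsPrime :=
        (show ProjectiveSpectrum (CohB1.polyGrading N k) from z).isPrime
      rcases hprime.mem_or_mem hmem with h | h
      · exact hprime.ne_top ((P z).toIdeal.eq_top_of_isUnit_mem h ((isUnit_iff_ne_zero.mpr hev).map C))
      · exact hXj z hz (hprime.mem_of_pow_mem _ h)
    · intro hev
      rw [hev, map_zero, map_zero, zero_mul] at key
      exact Ideal.Quotient.eq_zero_iff_mem.mp key
  have hyL : ∀ i, L i ∈ (P y).toIdeal := fun i => not_not.mp fun h => hLy i ((hPb y _).mpr h)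
  let φ := Fintype.linearCombination k L
  let S : T → Submodule k (Fin (N + 1) → k) := fun z =>
    Submodule.comap φ (Submodule.restrictScalars k (P z.1).toIdeal)
  have := hT.to_subtype
  have hS : ∀ z, S z ≠ ⊤ := by
    intro z htop
    have hz : ∀ i, L i ∈ (P z.1).toIdeal := fun i => by
      have h : Pi.single i 1 ∈ S z := htop.symm ▸ Submodule.mem_top
      simp only [S, φ, Submodule.mem_comap, Fintype.linearCombination_apply_single, one_smul] at h
      exact h
    refine hne ?_
    have e : (show ProjectiveSpectrum (CohB1.polyGrading N k) from y) = z.1 := by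
      refine ProjectiveSpectrum.ext (HomogeneousIdeal.ext' fun d f hf => ?_)
      exact (hiff y hyL d f ((mem_homogeneousSubmodule d f).mp hf)).trans
        (hiff z.1 hz d f ((mem_homogeneousSubmodule d f).mp hf)).symm
    exact (show y = z.1 from e) ▸ z.2
  obtain ⟨a, ha⟩ := Submodule.exists_forall_notMem_of_forall_ne_top S hS
  refine ⟨φ a, ?_, fun h => (hPb y _).mp h ?_, fun z hz => (hPb z _).mpr (ha ⟨z, hz⟩)⟩
  · simp only [φ, Fintype.linearCombination_apply]
    exact Submodule.sum_mem _ fun i _ => Submodule.smul_mem _ _ (hL i)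
  · simp only [φ, Fintype.linearCombination_apply]
    refine Ideal.sum_mem _ fun i _ => ?_
    rw [smul_eq_C_mul]
    exact Ideal.mul_mem_left _ _ (hyL i)

/-- Let k be an infinite field, X a scheme of finite type over k, L a very ample invertible O_X-module
on X over k, n ≥ 0, x a k-rational point of X and x_1, …, x_n points of X with x_i ≠ x. Then there
is a global section s of L which vanishes at x (x is not in the open where s generates L) but does
not vanish at any x_i. -/
theorem result (k : Type u) [Field k] (X : Scheme.{u}) [X.Over (Spec (CommRingCat.of k))] [Infinite k]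
    [LocallyOfFiniteType (X ↘ (Spec (CommRingCat.of k)))] [QuasiCompact (X ↘ (Spec (CommRingCat.of k)))]
    (L : X.Modules) (hL : RelAmple.IsRelVeryAmplePn (X ↘ (Spec (CommRingCat.of k))) L)
    (x : ↥X) (hx : Function.Surjective (Curv2.resMap k X x)) (n : ℕ) (pts : Fin n → ↥X) (hne : ∀ i, pts i ≠ x) :
    ∃ s : Coh.structureModule X ⟶ L, x ∉ CohB1.genLocus L s ∧ ∀ i, pts i ∈ CohB1.genLocus L s := by
  open Groth.Agent in
  obtain ⟨N, i, hi, hiw, ⟨eL⟩⟩ := hL
  let sk := Spec (CommRingCat.of k)
  let φc := CBC.ProjPic.chartAt N (𝟙 sk)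
  have hpb := CBC.ProjPic.isPullback_chartAt N (𝟙 sk)
  haveI : IsIso φc := hpb.isIso_fst_of_isIso
  let j := i ≫ inv φc
  haveI := hi
  haveI : IsImmersion j := inferInstance
  have hj : j ≫ CohB1.ProjSpace.toSpec N k = X ↘ sk := by
    have e : CohB1.ProjSpace.toSpec N k = φc ≫ CohB1.ProjSpaceOver.toBase N sk :=
      ((Category.comp_id _).symm.trans hpb.w.symm)
    rw [e, Category.assoc, IsIso.inv_hom_id_assoc]
    exact hiw
  obtain ⟨eT⟩ := CBC.ProjPic.pullback_twistOver N (𝟙 sk) 1
  let O1 := Twist.twistProjSpace N k 1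
  let eL' : L ≅ (Scheme.Modules.pullback j).obj O1 :=
    eL ≪≫ (Scheme.Modules.pullbackCongr (show i = j ≫ φc by simp [j])).app _ ≪≫
      ((Scheme.Modules.pullbackComp j φc).app _).symm ≪≫ (Scheme.Modules.pullback j).mapIso eT
  let er := RingEquiv.ofBijective (Curv2.resMap k X x) ⟨(Curv2.resMap k X x).injective, hx⟩
  let p : sk ⟶ X := Spec.map (CommRingCat.ofHom er.symm.toRingHom) ≫ X.fromSpecResidueField x
  have hp : p ≫ (X ↘ sk) = 𝟙 _ := by
    rw [Category.assoc, VarBC.fromSpecResidueField_comp, ← Spec.map_comp, ← CommRingCat.ofHom_comp,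
      ← Spec.map_id]
    congr 1
    ext c
    exact er.symm_apply_apply c
  have hpx : p (IsLocalRing.closedPoint k) = x := by
    exact (Scheme.Hom.comp_apply _ _ _).trans (Scheme.fromSpecResidueField_apply _ _)
  have hpjx : (p ≫ j) (IsLocalRing.closedPoint k) = j x :=
    (Scheme.Hom.comp_apply p j _).trans (congrArg j hpx)
  have hjinj : Function.Injective j := j.isEmbedding.injective
  obtain ⟨G, hG, hGx, hGp⟩ := exists_form (p ≫ j) (by rw [Category.assoc, hj, hp])
    (Set.range fun l => j (pts l)) (Set.finite_range _) (by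
      erw [hpjx]
      rintro ⟨l, hl⟩
      exact hne l (hjinj hl))
  erw [hpjx] at hGx
  obtain ⟨s, hs⟩ := Props.AmpleTwist.exists_section (𝒜 := CohB1.polyGrading N k) (D := 1)
    (ι := ULift.{u} (Fin (N + 1))) (F := fun l => MvPolynomial.X l.down)
    (fun l => ProjTwist.X_mem_polyGrading N k l.down)
    (by
      exact top_le_iff.mp ((ProjTwist.iSup_stdOpen N k).ge.trans
        (iSup_le fun l => le_iSup_of_le ⟨l⟩ le_rfl))) hG
  let e1 : CohB1.tensorPow (Twist.twist (CohB1.polyGrading N k) ((1 : ℕ) : ℤ)) 1 ≅ O1 :=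
    ProjTwist.oneTens _
  have hs1 : CohB1.genLocus O1 (s ≫ e1.hom) = Proj.basicOpen (CohB1.polyGrading N k) G := by
    exact (AbExt.genLocus_comp s e1.hom).trans hs
  have hO1 : PicF.IsInvertible O1 := ProjTwist.isInvertible_twistProjSpace N k 1
  let eU := (QCoh.pullbackUnitIso j).symm
  refine ⟨(eU.hom ≫ (Scheme.Modules.pullback j).map (s ≫ e1.hom)) ≫ eL'.inv, ?_, fun l => ?_⟩
  · rw [AbExt.genLocus_comp, S4413.result j O1 hO1 (s ≫ e1.hom) eU, hs1]
    exact hGx
  · rw [AbExt.genLocus_comp, S4413.result j O1 hO1 (s ≫ e1.hom) eU, hs1]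
    exact hGp _ ⟨l, rfl⟩

end Groth.Agent.S7626
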