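import Groth.Statements.S7627
import Mathlib
import Groth.Agent.GeomLoc.Regular
import Groth.Agent.GeomFieldLib.Corollaries
-- import your own Groth.Agent.* helpers here

set_option autoImplicit false
set_option maxHeartbeats 1000000
universe u
open CategoryTheory CategoryTheory.Limits AlgebraicGeometry
attribute [local instance] Curv2.resAlgebra
open scoped TensorProduct
open Variety
open scoped TensorProduct

namespace Groth.Agent.S7627

open IsLocalRing in
/-- `m` generates the maximal ideal upstairs. -/
def MapsMax {Y Z : Scheme.{u}} (f : Y ⟶ Z) (y : Y) : Prop :=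
  (maximalIdeal (Z.presheaf.stalk (f y))).map (f.stalkMap y).hom = maximalIdeal (Y.presheaf.stalk y)

open IsLocalRing in
lemma mapsMax_congr {Y Z : Scheme.{u}} (f g : Y ⟶ Z) (h : f = g) (y : Y) :
    MapsMax f y ↔ MapsMax g y := by
  subst h
  rfl

open IsLocalRing in
lemma map_maximalIdeal_stalkMap {Y Z : Scheme.{u}} (f : Y ⟶ Z) [IsOpenImmersion f] (y : Y) :
    (maximalIdeal (Z.presheaf.stalk (f y))).map (f.stalkMap y).hom =
      maximalIdeal (Y.presheaf.stalk y) :=
  map_maximalIdeal_of_surjective (f.stalkMap y).hom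
    (FBase.PointScheme.openStalkEquiv f y).surjective

open IsLocalRing in
lemma map_stalkMap_comp {W Y Z : Scheme.{u}} (a : W ⟶ Y) (b : Y ⟶ Z) (w : W) :
    (maximalIdeal (Z.presheaf.stalk ((a ≫ b) w))).map ((a ≫ b).stalkMap w).hom =
      ((maximalIdeal (Z.presheaf.stalk (b (a w)))).map (b.stalkMap (a w)).hom).map
        (a.stalkMap w).hom := by
  rw [Scheme.Hom.stalkMap_comp]
  exact (Ideal.map_map _ _).symm

open IsLocalRing in
lemma mapsMax_comp_left {W Y Z : Scheme.{u}} (a : W ⟶ Y) (b : Y ⟶ Z) [IsOpenImmersion a] (w : W) :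
    MapsMax (a ≫ b) w ↔ MapsMax b (a w) := by
  unfold MapsMax
  constructor
  · intro h
    have h' := (map_stalkMap_comp a b w).symm.trans (h.trans (map_maximalIdeal_stalkMap a w).symm)
    have e : Function.Bijective (a.stalkMap w).hom := (FBase.PointScheme.openStalkEquiv a w).bijective
    exact (Ideal.comap_map_of_bijective _ e).symm.trans
      ((congrArg (Ideal.comap (a.stalkMap w).hom) h').trans (Ideal.comap_map_of_bijective _ e))
  · intro h
    exact (map_stalkMap_comp a b w).trans
      ((congrArg (Ideal.map (a.stalkMap w).hom) h).trans (map_maximalIdeal_stalkMap a w))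

open IsLocalRing in
lemma mapsMax_comp_right {W Y Z : Scheme.{u}} (a : W ⟶ Y) (b : Y ⟶ Z) [IsOpenImmersion b] (w : W) :
    MapsMax (a ≫ b) w ↔ MapsMax a w := by
  unfold MapsMax
  have e := (map_stalkMap_comp a b w).trans
    (congrArg (Ideal.map (a.stalkMap w).hom) (map_maximalIdeal_stalkMap b (a w)))
  exact ⟨fun h => e.symm.trans h, fun h => e.trans h⟩

open IsLocalRing in
lemma map_max_conj {R R' S S' : Type u} [CommRing R] [CommRing R'] [CommRing S] [CommRing S']
    [IsLocalRing R] [IsLocalRing R'] [IsLocalRing S] [IsLocalRing S'] (e₁ : R ≃+* R') (e₂ : S ≃+* S')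
    (f : R' →+* S) (h : (maximalIdeal R').map f = maximalIdeal S) :
    (maximalIdeal R).map ((e₂.toRingHom.comp f).comp e₁.toRingHom) = maximalIdeal S' := by
  rw [← Ideal.map_map, ← Ideal.map_map,
    map_maximalIdeal_of_surjective e₁.toRingHom e₁.surjective, h,
    map_maximalIdeal_of_surjective e₂.toRingHom e₂.surjective]

open IsLocalRing in
lemma mapsMax_specMap {R S : Type u} [CommRing R] [CommRing S] (φ : R →+* S) (p : PrimeSpectrum S)
    (h : (maximalIdeal (Localization.AtPrime (p.asIdeal.comap φ))).map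
      (Localization.localRingHom (p.asIdeal.comap φ) p.asIdeal φ rfl) = maximalIdeal _) :
    MapsMax (Spec.map (CommRingCat.ofHom φ)) p := by
  have hloc := (Scheme.localRingHom_comp_stalkIso (CommRingCat.ofHom φ) p).symm
  unfold MapsMax
  rw [hloc]
  haveI : IsLocalRing ((Spec (CommRingCat.of R)).presheaf.stalk (PrimeSpectrum.comap φ p)) :=
    inferInstanceAs (IsLocalRing ((Spec (CommRingCat.of R)).presheaf.stalk
      (Spec.map (CommRingCat.ofHom φ) p)))
  let p' : ↥(Spec (CommRingCat.of S)) := p
  haveI : IsLocalRing ((Spec (CommRingCat.of S)).presheaf.stalk p) :=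
    inferInstanceAs (IsLocalRing ((Spec (CommRingCat.of S)).presheaf.stalk p'))
  exact map_max_conj (Spec.stalkIso (CommRingCat.of R) (PrimeSpectrum.comap φ p)).commRingCatIsoToRingEquiv
    (Spec.stalkIso (CommRingCat.of S) p).symm.commRingCatIsoToRingEquiv _ h

open IsLocalRing in
lemma MapsMax.eq {Y Z : Scheme.{u}} {f : Y ⟶ Z} {y : Y} (h : MapsMax f y) :
    (maximalIdeal (Z.presheaf.stalk (f y))).map (f.stalkMap y).hom = maximalIdeal (Y.presheaf.stalk y) := h

attribute [irreducible] MapsMax

open IsLocalRing TensorProduct in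
lemma map_maximal_of_height {k A K : Type u} [Field k] [CommRing A] [Algebra k A] [Field K]
    [Algebra k K] [IsNoetherianRing A] [IsNoetherianRing (A ⊗[k] K)] (P : Ideal (A ⊗[k] K))
    [P.IsPrime] (q : Ideal A) [q.IsPrime] (hq : P.comap (algebraMap A (A ⊗[k] K)) = q)
    (hh : P.height = q.height) (hred : _root_.IsReduced (q.ResidueField ⊗[k] K)) :
    (maximalIdeal (Localization.AtPrime (P.comap (algebraMap A (A ⊗[k] K))))).map
      (Localization.localRingHom (P.comap (algebraMap A (A ⊗[k] K))) P (algebraMap A _) rfl) =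
      maximalIdeal _ := by
  subst hq
  set p := P.comap (algebraMap A (A ⊗[k] K)) with hp
  haveI : P.LiesOver p := ⟨rfl⟩
  have hadd := Ideal.height_eq_height_add_of_liesOver_of_hasGoingDown (S := A ⊗[k] K) p P
  rw [hh] at hadd
  have hfin : p.height ≠ ⊤ := Ideal.height_ne_top Ideal.IsPrime.ne_top'
  have h0 : (P.map (Ideal.Quotient.mk (p.map (algebraMap A (A ⊗[k] K))))).height = 0 :=
    (WithTop.add_left_cancel hfin (hadd.symm.trans (add_zero _).symm))
  have hle : p.map (algebraMap A (A ⊗[k] K)) ≤ P := Ideal.map_comap_le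
  haveI : (P.map (Ideal.Quotient.mk (p.map (algebraMap A (A ⊗[k] K))))).IsPrime :=
    Ideal.map_isPrime_of_surjective Ideal.Quotient.mk_surjective (by rwa [Ideal.mk_ker])
  have hmin : P ∈ (p.map (algebraMap A (A ⊗[k] K))).minimalPrimes := by
    rw [Ideal.height_eq_zero_iff] at h0
    refine ⟨⟨inferInstance, hle⟩, fun q hq hqP => ?_⟩
    haveI := hq.1
    haveI : (q.map (Ideal.Quotient.mk (p.map (algebraMap A (A ⊗[k] K))))).IsPrime :=
      Ideal.map_isPrime_of_surjective Ideal.Quotient.mk_surjective (by rw [Ideal.mk_ker]; exact hq.2)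
    have h1 := h0.2 ⟨this, bot_le⟩ (Ideal.map_mono hqP)
    have h2 := Ideal.comap_mono (f := Ideal.Quotient.mk (p.map (algebraMap A (A ⊗[k] K)))) h1
    rwa [Ideal.comap_map_of_surjective _ Ideal.Quotient.mk_surjective,
      Ideal.comap_map_of_surjective _ Ideal.Quotient.mk_surjective, ← RingHom.ker_eq_comap_bot,
      Ideal.mk_ker, sup_of_le_left hle, sup_of_le_left hq.2] at h2
  obtain ⟨Q, hQ, ⟨eF⟩⟩ := EGA4Lib.nonempty_fibLocRing_equiv A P
  obtain ⟨e⟩ := GeomFieldLib.nonempty_fiber_tensor k A K p
  haveI : _root_.IsReduced (p.Fiber (A ⊗[k] K)) := isReduced_of_injective e e.injective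
  haveI : _root_.IsReduced (Localization.AtPrime Q) :=
    isReduced_localizationPreserves Q.primeCompl (Localization.AtPrime Q) ‹_›
  haveI : _root_.IsReduced (EGA4.FibLocRing A (A ⊗[k] K) P) :=
    isReduced_of_injective eF.symm eF.symm.injective
  have hrad : ((p.map (algebraMap A (A ⊗[k] K))).map
      (algebraMap (A ⊗[k] K) (Localization.AtPrime P))).IsRadical := by
    rw [Ideal.isRadical_iff_quotient_reduced, Ideal.map_map, ← IsScalarTower.algebraMap_eq]
    exact ‹_root_.IsReduced (EGA4.FibLocRing A (A ⊗[k] K) P)›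
  have hmax : (p.map (algebraMap A (A ⊗[k] K))).map (algebraMap (A ⊗[k] K) (Localization.AtPrime P)) =
      maximalIdeal (Localization.AtPrime P) := by
    rw [← hrad.radical, IsLocalization.AtPrime.radical_map_of_mem_minimalPrimes (Localization.AtPrime P) P _ hmin,
      Localization.AtPrime.map_eq_maximalIdeal]
  rw [← hmax, ← Localization.AtPrime.map_eq_maximalIdeal, Ideal.map_map, Ideal.map_map]
  congr 1
  ext a
  rw [RingHom.comp_apply, Localization.localRingHom_to_map, RingHom.comp_apply]

/-- Let X be locally of finite type over a field k, K an extension field of k, y a point of X_K with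
image x in X. Assume dim O_{X, x} = dim O_{X_K, y} and that κ(x) ⊗_k K is reduced (for instance
κ(x)/k separable or K/k separable). Then m_x O_{X_K, y} = m_y. -/
theorem result (k : Type u) [Field k] (X : Scheme.{u}) [X.Over (Spec (CommRingCat.of k))] [LocallyOfFiniteType (X ↘ (Spec (CommRingCat.of k)))]
    (K : Type u) [Field K] [Algebra k K] (y : ↥(Curv2.bc k X K))
    (hdim : ringKrullDim ↥(X.presheaf.stalk (Curv2.bcFst k X K y)) = ringKrullDim ↥((Curv2.bc k X K).presheaf.stalk y))
    (hred : _root_.IsReduced (X.residueField (Curv2.bcFst k X K y) ⊗[k] K)) :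
    Ideal.map ((Curv2.bcFst k X K).stalkMap y).hom (IsLocalRing.maximalIdeal ↥(X.presheaf.stalk (Curv2.bcFst k X K y))) =
      IsLocalRing.maximalIdeal ↥((Curv2.bc k X K).presheaf.stalk y) := by
  obtain ⟨A, _, _, j, p, e, hjo, hp, hj, he⟩ := GeomLoc.exists_chart k X (Curv2.bcFst k X K y)
  obtain ⟨P, hP, hcP, ⟨e'⟩⟩ := FBase.PointScheme.exists_prime_of_point _ j K hj p y hp.symm
  haveI := GeomLoc.finiteType_of_chart j hj
  haveI : IsNoetherianRing A := Algebra.FiniteType.isNoetherianRing k A
  haveI : IsNoetherianRing (TensorProduct k K A) := Algebra.FiniteType.isNoetherianRing K _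
  haveI : IsNoetherianRing (TensorProduct k A K) :=
    isNoetherianRing_of_ringEquiv _ (Algebra.TensorProduct.comm k K A).toRingEquiv
  subst hcP
  have key : MapsMax (Spec.map (CommRingCat.ofHom (algebraMap A (TensorProduct k A K)))) P := by
    refine mapsMax_specMap _ P (map_maximal_of_height P.asIdeal p.asIdeal hP ?_ ?_)
    · have h1 : ringKrullDim (Localization.AtPrime p.asIdeal) =
          ringKrullDim (Localization.AtPrime P.asIdeal) :=
        (ringKrullDim_eq_of_ringEquiv e).symm.trans (hdim.trans (ringKrullDim_eq_of_ringEquiv e'))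
      rw [IsLocalization.AtPrime.ringKrullDim_eq_height p.asIdeal,
        IsLocalization.AtPrime.ringKrullDim_eq_height P.asIdeal] at h1
      have h2 := WithBot.coe_injective h1
      exact h2.symm
    · let ψ : p.asIdeal.ResidueField →ₐ[k] X.residueField
          (Curv2.bcFst k X K (FBase.PointScheme.bcChart _ j K hj P)) :=
        { (IsLocalRing.ResidueField.mapEquiv e).symm.toRingHom with
          commutes' := fun r => by
            show (IsLocalRing.ResidueField.mapEquiv e).symm _ = _
            refine (RingEquiv.symm_apply_eq _).2 ?_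
            show _ = IsLocalRing.residue _ (e (Curv2.stalkMap k X _ r))
            rw [he]
            rfl }
      exact isReduced_of_injective (Algebra.TensorProduct.map ψ (AlgHom.id k K))
        (Module.Flat.rTensor_preserves_injective_linearMap ψ.toLinearMap ψ.toRingHom.injective)
  have h2 := (mapsMax_comp_right (Spec.map (CommRingCat.ofHom (algebraMap A (TensorProduct k A K)))) j P).2 key
  exact ((mapsMax_comp_left _ _ _).1 ((mapsMax_congr _ _ (FBase.PointScheme.bcChart_fst _ j K hj) _).2 h2)).eq

end Groth.Agent.S7627
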