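import Groth.Statements.S7630
import Groth.Agent.S1555
import Groth.Agent.AmpleLib.Rel
import Mathlib.AlgebraicGeometry.Morphisms.LocalFlatDescent

set_option autoImplicit false
universe u
open CategoryTheory CategoryTheory.Limits AlgebraicGeometry
open Variety

namespace Groth.Agent.S7630

/-- Let X be a scheme over a field k and K an extension field of k. If X_K → Spec K is quasi-projective
(of finite type and admitting a relatively ample invertible module), then so is X → Spec k. -/
theorem result (k : Type u) [Field k] (X : Scheme.{u}) [X.Over (Spec (CommRingCat.of k))] (K : Type u) [Field K] [Algebra k K]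
    (h : RelProj.IsQuasiProjective (Curv2.bcSnd k X K)) : RelProj.IsQuasiProjective (X ↘ (Spec (CommRingCat.of k))) := by
  obtain ⟨hft, hqc, L', hL'⟩ := h
  haveI := hqc
  haveI := Groth.Agent.FpqcDesc.descendsAlong_quasiCompact.{u}
  have hq := Groth.Agent.VarAmpleDesc.fpqc_aMap k K
  haveI : QuasiCompact (X ↘ Spec (CommRingCat.of k)) :=
    MorphismProperty.of_pullback_snd_of_descendsAlong (P := @QuasiCompact)
      (Q := Groth.Agent.FpqcDesc.FPQC) (f := X ↘ Spec (CommRingCat.of k)) hq hqc
  have hlft : LocallyOfFiniteType (X ↘ Spec (CommRingCat.of k)) :=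
    MorphismProperty.of_pullback_snd_of_descendsAlong (P := @LocallyOfFiniteType)
      (Q := @Surjective ⊓ @Flat ⊓ @QuasiCompact) (f := X ↘ Spec (CommRingCat.of k)) hq hft
  obtain ⟨L, hL⟩ := Groth.Agent.S1555.result k X K L'
    ((Groth.Agent.AmpleLib.isRelAmple_iff_isAmple _).mp hL')
  exact ⟨hlft, inferInstance, L, Groth.Agent.AmpleLib.isRelAmple_of_isAmple _ hL⟩

end Groth.Agent.S7630
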