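import Groth.Statements.S7631
import Groth.Agent.FlatMor.SchDom
import Groth.Agent.FBase.BC

set_option autoImplicit false
universe u
open CategoryTheory CategoryTheory.Limits AlgebraicGeometry
open Variety

namespace Groth.Agent.S7631

open Scheme.IdealSheafData in
lemma ker_map {k : Type u} [Field k] {A B X Y : Scheme.{u}}
    (a : A ⟶ Spec (CommRingCat.of k)) (b : B ⟶ Spec (CommRingCat.of k))
    (x : X ⟶ Spec (CommRingCat.of k)) (y : Y ⟶ Spec (CommRingCat.of k))
    (f : A ⟶ X) [QuasiCompact f] (g : B ⟶ Y) [QuasiCompact g] (hf : f ≫ x = a) (hg : g ≫ y = b)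
    (F : pullback a b ⟶ pullback x y)
    (hF₁ : F ≫ pullback.fst x y = pullback.fst a b ≫ f)
    (hF₂ : F ≫ pullback.snd x y = pullback.snd a b ≫ g) :
    F.ker = f.ker.comap (pullback.fst x y) ⊔ g.ker.comap (pullback.snd x y) := by
  refine le_antisymm ?_ (sup_le ?_ ?_)
  · have hdf := Groth.Agent.FlatMor.SchDom.toImage_dominant f (Or.inl inferInstance)
    have hdg := Groth.Agent.FlatMor.SchDom.toImage_dominant g (Or.inl inferInstance)
    let I := f.ker.comap (pullback.fst x y) ⊔ g.ker.comap (pullback.snd x y)
    obtain ⟨sZ, hsZ⟩ : ∃ s, s = f.imageι ≫ x := ⟨_, rfl⟩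
    obtain ⟨sW, hsW⟩ : ∃ s, s = g.imageι ≫ y := ⟨_, rfl⟩
    have hta : f.toImage ≫ sZ = a := by simp [hsZ, hf]
    have htb : g.toImage ≫ sW = b := by simp [hsW, hg]
    let G : pullback sZ sW ⟶ pullback x y :=
      pullback.lift (pullback.fst sZ sW ≫ f.imageι) (pullback.snd sZ sW ≫ g.imageι)
        (by simp only [Category.assoc, ← hsZ, ← hsW, pullback.condition])
    let F1 : pullback a b ⟶ pullback sZ b :=
      pullback.lift (pullback.fst a b ≫ f.toImage) (pullback.snd a b)
        (by simp only [Category.assoc, hta, pullback.condition])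
    let F2 : pullback sZ b ⟶ pullback sZ sW :=
      pullback.lift (pullback.fst sZ b) (pullback.snd sZ b ≫ g.toImage)
        (by simp only [Category.assoc, htb, pullback.condition])
    have h1 : IsSchemeTheoreticallyDominant F1 := by
      refine IsSchemeTheoreticallyDominant.of_isPullback (f := f.toImage) (g := pullback.fst sZ b)
        (pX := pullback.fst a b) ?_
      refine (IsPullback.of_right ?_ (by rw [pullback.lift_fst]) (IsPullback.of_hasPullback sZ b).flip).flip
      simp only [F1]
      rw [pullback.lift_snd, hta]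
      exact (IsPullback.of_hasPullback a b).flip
    have h2 : IsSchemeTheoreticallyDominant F2 := by
      refine IsSchemeTheoreticallyDominant.of_isPullback (f := g.toImage) (g := pullback.snd sZ sW)
        (pX := pullback.snd sZ b) ?_
      refine (IsPullback.of_right ?_ (by simp only [F2]; rw [pullback.lift_snd]) (IsPullback.of_hasPullback sZ sW)).flip
      simp only [F2]
      rw [pullback.lift_fst, htb]
      exact IsPullback.of_hasPullback sZ b
    have hF : F = (F1 ≫ F2) ≫ G := by
      apply pullback.hom_ext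
      · simp only [F1, F2, G, Category.assoc]
        rw [pullback.lift_fst, pullback.lift_fst_assoc, pullback.lift_fst_assoc, Category.assoc,
          Scheme.Hom.toImage_imageι, hF₁]
      · simp only [F1, F2, G, Category.assoc]
        rw [pullback.lift_snd, pullback.lift_snd_assoc]
        simp only [Category.assoc]
        rw [pullback.lift_snd_assoc, Scheme.Hom.toImage_imageι, hF₂]
    rw [hF, Scheme.Hom.ker_comp, (F1 ≫ F2).ker_eq_bot, Scheme.IdealSheafData.map_bot]
    let w : I.subscheme ⟶ pullback sZ sW := pullback.lift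
      (subschemeMap I f.ker (pullback.fst x y) (le_map_iff_comap_le.mpr le_sup_left))
      (subschemeMap I g.ker (pullback.snd x y) (le_map_iff_comap_le.mpr le_sup_right))
      (by simp [hsZ, hsW, pullback.condition])
    have hw : w ≫ G = I.subschemeι := by
      apply pullback.hom_ext
      · simp only [w, G, Category.assoc]
        rw [pullback.lift_fst, pullback.lift_fst_assoc, subschemeMap_subschemeι]
      · simp only [w, G, Category.assoc]
        rw [pullback.lift_snd, pullback.lift_snd_assoc, subschemeMap_subschemeι]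
    exact (Scheme.Hom.le_ker_comp w G).trans (by rw [hw, ker_subschemeι])
  · rw [← le_map_iff_comap_le, map_ker, hF₁]
    exact Scheme.Hom.le_ker_comp _ _
  · rw [← le_map_iff_comap_le, map_ker, hF₂]
    exact Scheme.Hom.le_ker_comp _ _

/-- Let f : A → X and g : B → Y be quasi-compact morphisms of schemes over a field k and F = f × g : A
×_k B → X ×_k Y. Then the scheme-theoretic image of F is Z ×_k Z', where Z ⊆ X and Z' ⊆ Y are the
scheme-theoretic images of f and g: in terms of kernel ideal sheaves, ker F is the sum of the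
pullback of ker f along the first projection and of ker g along the second. -/
theorem result (k : Type u) [Field k] (X : Scheme.{u}) [X.Over (Spec (CommRingCat.of k))] (Y : Scheme.{u}) [Y.Over (Spec (CommRingCat.of k))]
    (A B : Scheme.{u}) [A.Over (Spec (CommRingCat.of k))] [B.Over (Spec (CommRingCat.of k))]
    (f : A ⟶ X) [f.IsOver (Spec (CommRingCat.of k))] [QuasiCompact f] (g : B ⟶ Y) [g.IsOver (Spec (CommRingCat.of k))] [QuasiCompact g]
    (F : pullback (A ↘ (Spec (CommRingCat.of k))) (B ↘ (Spec (CommRingCat.of k))) ⟶ pullback (X ↘ (Spec (CommRingCat.of k))) (Y ↘ (Spec (CommRingCat.of k))))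
    (hF₁ : F ≫ pullback.fst (X ↘ (Spec (CommRingCat.of k))) (Y ↘ (Spec (CommRingCat.of k))) = pullback.fst (A ↘ (Spec (CommRingCat.of k))) (B ↘ (Spec (CommRingCat.of k))) ≫ f)
    (hF₂ : F ≫ pullback.snd (X ↘ (Spec (CommRingCat.of k))) (Y ↘ (Spec (CommRingCat.of k))) = pullback.snd (A ↘ (Spec (CommRingCat.of k))) (B ↘ (Spec (CommRingCat.of k))) ≫ g) :
    F.ker = f.ker.comap (pullback.fst (X ↘ (Spec (CommRingCat.of k))) (Y ↘ (Spec (CommRingCat.of k)))) ⊔ g.ker.comap (pullback.snd (X ↘ (Spec (CommRingCat.of k))) (Y ↘ (Spec (CommRingCat.of k)))) := by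
  exact ker_map _ _ _ _ f g (comp_over f _) (comp_over g _) F hF₁ hF₂

end Groth.Agent.S7631
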