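import Groth.Statements.S7633
import Groth.Agent.ComplBC.Present
import Groth.Agent.BCPoint.Local
import Groth.Agent.FBase.BC
-- import your own Groth.Agent.* helpers here

set_option backward.isDefEq.respectTransparency false
set_option backward.isDefEq.respectTransparency.types false
set_option maxHeartbeats 1000000

set_option autoImplicit false
universe u
open CategoryTheory CategoryTheory.Limits AlgebraicGeometry
attribute [local instance] Curv2.stalkAlgebra Curv2.resAlgebra
open Variety
open scoped TensorProduct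

namespace Groth.Agent.S7633

/-- Let X be locally of finite type over a field k, K an extension field of k, y a point of X_K with
image x in X; assume dim O_{X, x} = dim O_{X_K, y} and that κ(x) is separable over k (Spec κ(x) →
Spec k geometrically reduced). Let e : κ(x)[[x_1, …, x_n]]/(g_1, …, g_m) ≅ O_{X, x}^∧ be a k-algebra
isomorphism onto the completion inducing the identity on residue fields (for every a in O_{X, x}, e
applied to the constant with value the residue class of a is congruent to a modulo the extended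
maximal ideal). Then, viewing the g_j over κ(y) through κ(x) → κ(y), there is a K-algebra
isomorphism κ(y)[[x_1, …, x_n]]/(g_1, …, g_m) ≅ O_{X_K, y}^∧ with the same residue property. -/
theorem result (k : Type u) [Field k] (X : Scheme.{u}) [X.Over (Spec (CommRingCat.of k))] [LocallyOfFiniteType (X ↘ (Spec (CommRingCat.of k)))]
    (K : Type u) [Field K] [Algebra k K] (y : ↥(Curv2.bc k X K))
    (hdim : ringKrullDim ↥(X.presheaf.stalk (Curv2.bcFst k X K y)) = ringKrullDim ↥((Curv2.bc k X K).presheaf.stalk y))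
    (hsep : GeometricallyReduced (Spec.map (CommRingCat.ofHom (Curv2.resMap k X (Curv2.bcFst k X K y)))))
    (n m : ℕ) (g : Fin m → MvPowerSeries (Fin n) ↥(X.residueField (Curv2.bcFst k X K y)))
    (e : (MvPowerSeries (Fin n) ↥(X.residueField (Curv2.bcFst k X K y)) ⧸ Ideal.span (Set.range g)) ≃ₐ[k]
      AdicCompletion (IsLocalRing.maximalIdeal ↥(X.presheaf.stalk (Curv2.bcFst k X K y))) ↥(X.presheaf.stalk (Curv2.bcFst k X K y)))
    (he : ∀ a : ↥(X.presheaf.stalk (Curv2.bcFst k X K y)),
      e (Ideal.Quotient.mk _ (MvPowerSeries.C ((X.residue (Curv2.bcFst k X K y)).hom a))) -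
          algebraMap ↥(X.presheaf.stalk (Curv2.bcFst k X K y)) (AdicCompletion (IsLocalRing.maximalIdeal ↥(X.presheaf.stalk (Curv2.bcFst k X K y))) ↥(X.presheaf.stalk (Curv2.bcFst k X K y))) a ∈
        (IsLocalRing.maximalIdeal ↥(X.presheaf.stalk (Curv2.bcFst k X K y))).map (algebraMap ↥(X.presheaf.stalk (Curv2.bcFst k X K y)) (AdicCompletion (IsLocalRing.maximalIdeal ↥(X.presheaf.stalk (Curv2.bcFst k X K y))) ↥(X.presheaf.stalk (Curv2.bcFst k X K y))))) :
    letI : (Curv2.bc k X K).Over (Spec (CommRingCat.of K)) := ⟨Curv2.bcSnd k X K⟩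
    ∃ e' : (MvPowerSeries (Fin n) ↥((Curv2.bc k X K).residueField y) ⧸ Ideal.span (Set.range (fun j =>
        MvPowerSeries.map (σ := Fin n) ((Curv2.bcFst k X K).residueFieldMap y).hom (g j)))) ≃ₐ[K]
          AdicCompletion (IsLocalRing.maximalIdeal ↥((Curv2.bc k X K).presheaf.stalk y)) ↥((Curv2.bc k X K).presheaf.stalk y),
      ∀ b : ↥((Curv2.bc k X K).presheaf.stalk y),
        e' (Ideal.Quotient.mk _ (MvPowerSeries.C (((Curv2.bc k X K).residue y).hom b))) -
            algebraMap ↥((Curv2.bc k X K).presheaf.stalk y) (AdicCompletion (IsLocalRing.maximalIdeal ↥((Curv2.bc k X K).presheaf.stalk y)) ↥((Curv2.bc k X K).presheaf.stalk y)) b ∈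
          (IsLocalRing.maximalIdeal ↥((Curv2.bc k X K).presheaf.stalk y)).map (algebraMap ↥((Curv2.bc k X K).presheaf.stalk y) (AdicCompletion (IsLocalRing.maximalIdeal ↥((Curv2.bc k X K).presheaf.stalk y)) ↥((Curv2.bc k X K).presheaf.stalk y))) := by
  letI : (Curv2.bc k X K).Over (Spec (CommRingCat.of K)) := ⟨Curv2.bcSnd k X K⟩
  haveI : GeometricallyReduced (Spec.map (CommRingCat.ofHom (algebraMap k (X.residueField (Curv2.bcFst k X K y))))) := hsep
  haveI := Groth.Agent.FBase.BC.isGeometricallyReduced_of_geometricallyReduced_specMap (k := k) (X.residueField (Curv2.bcFst k X K y))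
  haveI : _root_.IsReduced (K ⊗[k] X.residueField (Curv2.bcFst k X K y)) :=
    Groth.Agent.FBase.TensorAlgClosed.isReduced_tensor_of_isGeometricallyReduced
  have hred : _root_.IsReduced (X.residueField (Curv2.bcFst k X K y) ⊗[k] K) :=
    isReduced_of_injective _ (Algebra.TensorProduct.comm k (X.residueField (Curv2.bcFst k X K y)) K).injective
  obtain ⟨_, _⟩ := BCPoint.isNoetherianRing_stalk k X K y
  have hm := BCPoint.map_maximalIdeal_eq k X K y hdim hred
  obtain ⟨ψ, h1, h2, hloc⟩ := BCPoint.exists_stalk_equiv k X K y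
  have hφk : ∀ c : k, ((Curv2.bcFst k X K).stalkMap y).hom (algebraMap k _ c) =
      algebraMap K ((Curv2.bc k X K).presheaf.stalk y) (algebraMap k K c) := by
    intro c
    rw [← h1, show (algebraMap k (X.presheaf.stalk (Curv2.bcFst k X K y)) c) ⊗ₜ[k] (1 : K) = (1 : X.presheaf.stalk (Curv2.bcFst k X K y)) ⊗ₜ[k] algebraMap k K c by
      rw [Algebra.algebraMap_eq_smul_one, TensorProduct.smul_tmul, ← Algebra.algebraMap_eq_smul_one], h2]
    rfl
  let e₀ : (MvPowerSeries (Fin n) (IsLocalRing.ResidueField ↥(X.presheaf.stalk (Curv2.bcFst k X K y))) ⧸ Ideal.span (Set.range g)) ≃ₐ[k]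
      AdicCompletion (IsLocalRing.maximalIdeal ↥(X.presheaf.stalk (Curv2.bcFst k X K y))) ↥(X.presheaf.stalk (Curv2.bcFst k X K y)) :=
    AlgEquiv.ofRingEquiv (f := (e.toRingEquiv : _ ≃+* _)) fun c => e.commutes c
  obtain ⟨e', he'⟩ := ComplBC.exists_presentation ((Curv2.bcFst k X K).stalkMap y).hom hm ψ h1 h2 hφk hloc g e₀ he
  exact ⟨AlgEquiv.ofRingEquiv (f := (e'.toRingEquiv : _ ≃+* _)) fun c => e'.commutes c, he'⟩

end Groth.Agent.S7633
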