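import Groth.Statements.S7641
import Groth.Agent.EulerChar.Components
import Groth.Agent.EulerChar.Curve
import Groth.Agent.S4357
import Groth.Agent.QCoh.Pullback
import Groth.Agent.Props.GenLocus
import Groth.Agent.IdealSh.GenericPts

set_option autoImplicit false
universe u
open CategoryTheory CategoryTheory.Limits AlgebraicGeometry
open Variety

namespace Groth.Agent.S7641
open TopologicalSpace Groth.Agent.EulerChar Groth.Agent.PullStalk.Sky Groth.Agent.PullStalk.Exact Groth.Agent.Props.GenLocus

set_option linter.style.haveILetI false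

theorem bijective_stalkLin_iso {X : Scheme.{u}} {A B : X.Modules} (e : A ≅ B) (x : X) :
    Function.Bijective (stalkLin e.hom x) := by
  refine Function.bijective_iff_has_inverse.2 ⟨stalkLin e.inv x, fun t => ?_, fun t => ?_⟩
  · rw [← CohDev.stalkLin_comp_apply, e.hom_inv_id, CohDev.stalkLin_id_apply]
  · rw [← CohDev.stalkLin_comp_apply, e.inv_hom_id, CohDev.stalkLin_id_apply]

theorem support_iso {X : Scheme.{u}} {A B : X.Modules} (e : A ≅ B) :
    CohB1.support A = CohB1.support B := Set.ext fun x =>
  not_congr (Equiv.ofBijective _ (bijective_stalkLin_iso e x)).subsingleton_congr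

/-- A section of an invertible module on a reduced scheme vanishing at all maximal points is zero. -/
theorem eq_zero_of_germ_max {X : Scheme.{u}} [IsReduced X] {L : X.Modules} (hL : PicF.IsInvertible L)
    {U : X.Opens} (m : Γ(L, U))
    (h : ∀ (ξ : X) (hξ : ξ ∈ U), (∀ z : X, z ⤳ ξ → z = ξ) → germM L U ξ hξ m = 0) : m = 0 := by
  choose V hxV φ using fun x : U => (ProjTwist.isFinLocFreeOfRank_one hL) x.1
  refine TopCat.Sheaf.eq_of_locally_eq' (⟨L.presheaf, L.isSheaf⟩ : TopCat.Sheaf Ab X)
    (fun x : U => U ⊓ V x) U (fun x => homOfLE inf_le_left)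
    (fun x hx => Opens.mem_iSup.mpr ⟨⟨x, hx⟩, hx, hxV ⟨x, hx⟩⟩) _ _ fun x => ?_
  refine Eq.trans ?_ (map_zero (L.presheaf.map (homOfLE inf_le_left).op).hom).symm
  obtain ⟨e, he⟩ := VBLib.exists_isFrame_of_iso (φ x).some
  obtain ⟨a, ha⟩ := (he (U ⊓ V x) inf_le_right).2 (L.presheaf.map (homOfLE inf_le_left).op m)
  refine ha.symm.trans ?_
  have ha0 : a = 0 := funext fun i => IdealSh.GenericPts.eq_zero_of_germ_maximal (a i) fun ξ hξ hmax => by
    have h0 : LFFrame.stalkComb L e ξ hξ.2
        (fun i => X.presheaf.germ (U ⊓ V x) ξ hξ (a i)) = 0 := by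
      refine Eq.trans ?_ (Eq.trans (L.presheaf.germ_res_apply (homOfLE inf_le_left) _ hξ m) (h ξ hξ.1 hmax))
      refine Eq.trans ?_ (congrArg (L.presheaf.germ (U ⊓ V x) _ hξ) ha)
      exact (LFFrame.germ_comb L e inf_le_right a _ hξ).symm
    exact congrFun ((he.stalkComb_bijective ξ hξ.2).1 (h0.trans (map_zero _).symm)) i
  simp [ha0, LFFrame.comb]


/-- Let X be proper over a field k, reduced and connected, with every irreducible component of dimension
one, and let L be an invertible module whose restriction to each irreducible component C, with its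
reduced induced structure, has degree at most zero. Then H^0(X, L) = 0 or L is isomorphic to O_X. -/
theorem result (k : Type u) [Field k] (X : Scheme.{u}) [X.Over (Spec (CommRingCat.of k))] [IsProper (X ↘ (Spec (CommRingCat.of k)))]
    [IsReduced X] [ConnectedSpace X] [IsNoetherian X]
    (hdim : ∀ (C : Set X), C ∈ irreducibleComponents (X : Type u) → topologicalKrullDim C = 1)
    (L : X.Modules) (hL : PicF.IsInvertible L)
    (hdeg : ∀ (C : Set X) (hC : C ∈ irreducibleComponents (X : Type u)), @Curv2.deg k _ (X.irreducibleComponentIdeal C hC).radical.subscheme ⟨(X.irreducibleComponentIdeal C hC).radical.subschemeι ≫ (X ↘ (Spec (CommRingCat.of k)))⟩ ((Scheme.Modules.pullback (X.irreducibleComponentIdeal C hC).radical.subschemeι).obj L) 1 ≤ 0) :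
    Subsingleton (Coh.HH X L 0) ∨ Nonempty (L ≅ Coh.structureModule X) := by
  refine or_iff_not_imp_left.2 fun hns => ?_
  rw [not_subsingleton_iff_nontrivial] at hns
  obtain ⟨σ, hσ⟩ := exists_ne (0 : Coh.HH X L 0)
  let τ : Γ(L, ⊤) := ProperFin.h0Sec L σ
  have hτ : τ ≠ 0 := fun h => hσ ((ProperFin.h0Sec L).injective (h.trans (map_zero _).symm))
  let s := homOfSec τ
  have hO := PicLoc.isInvertible_structureModule X
  have hO1 := ProjTwist.isFinLocFreeOfRank_one hO
  have hL1 := ProjTwist.isFinLocFreeOfRank_one hL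
  have hOc := VBLib.isCoh_of_ofRank hO1
  have hQ : Coh.IsCoh (cokernel s) := CohDev.isCoh_cokernel s hOc.1 (VBLib.isCoh_of_ofRank hL1)
  let S : Set X := CohB1.support (cokernel s)
  have hSc : IsClosed S := CohDev.isClosed_support hQ
  -- on a component the cokernel is all or nothing
  have key : ∀ C ∈ irreducibleComponents (X : Type u), C ⊆ S ∨ C ⊆ Sᶜ := by
    intro C hC
    obtain ⟨ξ, hξ⟩ : ∃ ξ : X, IsGenericPoint ξ C := ⟨hC.1.genericPoint, by
      have h := hC.1.isGenericPoint_genericPoint_closure
      rwa [(isClosed_of_mem_irreducibleComponents C hC).closure_eq] at h⟩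
    have hd := hdeg C hC
    rw [radical_componentIdeal hC hξ] at hd
    let i := (IntMult.ptIdeal ξ).subschemeι
    letI : (IntMult.ptIdeal ξ).subscheme.Over (Spec (CommRingCat.of k)) := ⟨i ≫ (X ↘ Spec (CommRingCat.of k))⟩
    haveI : IsProper ((IntMult.ptIdeal ξ).subscheme ↘ Spec (CommRingCat.of k)) :=
      inferInstanceAs (IsProper (i ≫ (X ↘ Spec (CommRingCat.of k))))
    haveI : IsIntegral (IntMult.ptIdeal ξ).subscheme :=
      Groth.Agent.S16188.isIntegral_subscheme _ isIrreducible_singleton.closure
    haveI := EulerChar.isNoetherian k (X := (IntMult.ptIdeal ξ).subscheme)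
    have hr : Set.range i = C := by
      rw [Scheme.IdealSheafData.range_subschemeι]
      exact (CohDev.coe_support_ptIdeal ξ).trans hξ.def
    have hd1 : topologicalKrullDim (IntMult.ptIdeal ξ).subscheme = 1 := by
      rw [← hdim C hC, ← hr]
      exact IsHomeomorph.topologicalKrullDim_eq _ i.isEmbedding.toHomeomorph.isHomeomorph
    have hLi := PicCl.isInvertible_pullback i hL
    have hOi := PicLoc.isInvertible_structureModule (IntMult.ptIdeal ξ).subscheme
    let u₀ : (Scheme.Modules.pullback i).obj (Coh.structureModule X) ≅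
        Coh.structureModule (IntMult.ptIdeal ξ).subscheme := QCoh.pullbackUnitIso i
    let φ : Coh.structureModule (IntMult.ptIdeal ξ).subscheme ⟶ (Scheme.Modules.pullback i).obj L := u₀.inv ≫ (Scheme.Modules.pullback i).map s
    haveI : PreservesColimitsOfShape WalkingParallelPair (Scheme.Modules.pullback i) :=
      (Scheme.Modules.pullbackPushforwardAdjunction i).leftAdjoint_preservesColimits.preservesColimitsOfShape
    let θ : (Scheme.Modules.pullback i).obj (cokernel s) ≅ cokernel φ :=
      PreservesCokernel.iso (Scheme.Modules.pullback i) s ≪≫ (cokernelEpiComp u₀.inv _).symm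
    haveI : Coh.IsQCoh (cokernel s) := hQ.1
    have hsupp : CohB1.support (cokernel φ) = i ⁻¹' S := by
      rw [← support_iso θ]
      exact S4357.result i (cokernel s) hQ.2
    by_cases hφ : φ = 0
    · left
      intro y hy
      obtain ⟨z, rfl⟩ := hr.ge hy
      show z ∈ i ⁻¹' S
      rw [← hsupp, ← support_iso ((cokernelIsoOfEq hφ).trans cokernelZeroIsoTarget).symm]
      intro hsub
      obtain ⟨e⟩ := stalk_ofRank (ProjTwist.isFinLocFreeOfRank_one hLi) z
      haveI := e.toEquiv.subsingleton_congr.2 hsub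
      exact one_ne_zero (congrFun (Subsingleton.elim (1 : Fin 1 → (IntMult.ptIdeal ξ).subscheme.presheaf.stalk z) 0) 0)
    · right
      intro y hy
      obtain ⟨z, rfl⟩ := hr.ge hy
      obtain ⟨hle, heq⟩ := euler_le_of_ne_zero hOi hLi φ hφ k hd1
      rw [Curv2.deg, Nat.cast_one, one_mul] at hd
      haveI := heq (le_antisymm hle (by linarith))
      intro hmem
      have h1 : z ∈ CohB1.support (cokernel φ) := hsupp.ge hmem
      exact CohDev.not_mem_support_cokernel φ
        (bijective_stalkLin_iso (asIso φ) z).2 h1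
  -- so the support is open
  have hS : IsOpen S := by
    have e : S = (⋃₀ {C : Set X | C ∈ irreducibleComponents (X : Type u) ∧ C ⊆ Sᶜ})ᶜ := by
      ext y
      refine ⟨fun hy ⟨C, ⟨_, hC⟩, hyC⟩ => hC hyC hy, fun hy => ?_⟩
      rcases key _ (irreducibleComponent_mem_irreducibleComponents y) with h | h
      · exact h mem_irreducibleComponent
      · exact absurd ⟨_, ⟨irreducibleComponent_mem_irreducibleComponents y, h⟩, mem_irreducibleComponent⟩ hy
    rw [e]
    refine IsClosed.isOpen_compl (self := ?_)
    rw [Set.sUnion_eq_biUnion]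
    exact ((NoetherianSpace.finite_irreducibleComponents (α := X)).subset fun C hC => hC.1).isClosed_biUnion
      fun C hC => isClosed_of_mem_irreducibleComponents C hC.1
  have hsur : ∀ y : X, y ∉ S → Function.Surjective (stalkLin s y) := fun y hy m => by
    have hS' : (ShortComplex.mk (Abelian.image.ι s) (cokernel.π s) (kernel.condition _)).ShortExact :=
      { exact := ShortComplex.exact_of_f_is_kernel _ (kernelIsKernel _)
        mono_f := inferInstanceAs (Mono (kernel.ι (cokernel.π s)))
        epi_g := inferInstanceAs (Epi (cokernel.π s)) }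
    obtain ⟨-, he, -⟩ := stalk_exact hS' y
    obtain ⟨a, ha⟩ := (he m).1 (@Subsingleton.elim _ (not_not.1 hy) _ _)
    obtain ⟨b, hb⟩ := stalk_surjective (Abelian.factorThruImage s) y a
    refine ⟨b, ?_⟩
    rw [← ha, ← hb, ← CohDev.stalkLin_comp_apply, Abelian.image.fac]
  have hgen1 : ∀ (y : X) (b : (Coh.structureModule X).presheaf.stalk y),
      ∃ r : X.presheaf.stalk y, stalkLin s y b = r • germM L ⊤ y trivial τ := fun y b => by
    obtain ⟨W, hW, r, rfl⟩ := exists_germM_eq _ y b
    refine ⟨X.presheaf.germ W y hW r, ?_⟩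
    rw [stalkLin_germ]
    have e : s.app W r = (show Γ(X, W) from r) • sec s W := app_eq s W r
    rw [e, germM_smul, show sec s W = _ from sec_homOfSec τ W]
    exact congrArg (X.presheaf.germ W y hW r • ·) (L.presheaf.germ_res_apply (homOfLE le_top) y hW τ)
  rcases isClopen_iff.1 (⟨hSc, hS⟩ : IsClopen S) with h | h
  · -- no cokernel
    have hbij : ∀ y : X, Function.Bijective (stalkLin s y) := fun y => by
      have h2 := hsur y (by rw [h]; exact Set.notMem_empty _)
      obtain ⟨eO⟩ := stalk_ofRank hO1 y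
      obtain ⟨eL⟩ := stalk_ofRank hL1 y
      let ψ : (Fin 1 → X.presheaf.stalk y) →ₗ[X.presheaf.stalk y] (Fin 1 → X.presheaf.stalk y) :=
        eL.symm.toLinearMap.comp ((stalkLin s y).comp eO.toLinearMap)
      have hψ : Function.Surjective ψ := eL.symm.surjective.comp (h2.comp eO.surjective)
      have hψi := OrzechProperty.injective_of_surjective_endomorphism ψ hψ
      refine ⟨fun a b hab => ?_, h2⟩
      obtain ⟨a, rfl⟩ := eO.surjective a
      obtain ⟨b, rfl⟩ := eO.surjective b
      exact congrArg eO (hψi (congrArg eL.symm hab))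
    haveI : Mono s := Preadditive.mono_of_isZero_kernel s (CohDev.isZero_of_support_eq_empty
      (Set.eq_empty_iff_forall_notMem.2 fun y => CohDev.not_mem_support_kernel s (hbij y).1))
    haveI : Epi s := Preadditive.epi_of_isZero_cokernel s (CohDev.isZero_of_support_eq_empty h)
    haveI := isIso_of_mono_of_epi s
    exact ⟨(asIso s).symm⟩
  · exfalso
    refine hτ (eq_zero_of_germ_max hL τ fun ξ hξ hmax => ?_)
    haveI : Ring.KrullDimLE 0 (X.presheaf.stalk ξ) := Ring.krullDimLE_zero_iff.2 fun q hq => by
      have : IsLocalRing.maximalIdeal (X.presheaf.stalk ξ) ≤ q := fun a ha =>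
        hq.mem_of_pow_mem _ ((IdealSh.Regular.isNilpotent_of_maximal ξ hmax a ha).choose_spec ▸ q.zero_mem)
      rw [← ((IsLocalRing.maximalIdeal.isMaximal _).eq_of_le hq.ne_top this)]
      infer_instance
    have hmem : ξ ∈ S := h ▸ Set.mem_univ ξ
    by_contra hne
    refine CohDev.not_mem_support_cokernel s ?_ hmem
    -- in a field a nonzero element of a line spans it
    obtain ⟨eL⟩ := stalk_ofRank hL1 ξ
    obtain ⟨c, hc⟩ := eL.surjective (germM L ⊤ ξ hξ τ)
    have hu : IsUnit (c 0) := by
      by_contra hu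
      obtain ⟨n, hn⟩ := IdealSh.Regular.isNilpotent_of_maximal ξ hmax (c 0)
        ((IsLocalRing.mem_maximalIdeal _).2 hu)
      have h0 : c 0 = 0 := IsReduced.eq_zero _ ⟨n, hn⟩
      exact hne (by rw [← hc, show c = 0 from funext fun i => by rw [Subsingleton.elim i 0, h0]; rfl, map_zero])
    intro m
    obtain ⟨d, rfl⟩ := eL.surjective m
    obtain ⟨u, hu⟩ := hu
    refine ⟨(d 0 * (↑u⁻¹ : X.presheaf.stalk ξ)) • germM (Coh.structureModule X) ⊤ ξ trivial (one' ⊤), ?_⟩
    have h1 : stalkLin s ξ (germM (Coh.structureModule X) ⊤ ξ trivial (one' ⊤)) = eL c := by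
      refine (stalkLin_germ s ⊤ ξ trivial (one' ⊤)).trans ?_
      rw [show s.app ⊤ (one' ⊤) = sec s ⊤ from rfl, show sec s ⊤ = _ from sec_homOfSec τ ⊤, QCoh.res_self, hc]
    rw [map_smul, h1, ← map_smul]
    congr 1
    funext i
    simp [Subsingleton.elim i 0, mul_assoc, ← hu]

end Groth.Agent.S7641
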