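import Groth.Statements.S7644


set_option autoImplicit false
universe u
open CategoryTheory CategoryTheory.Limits AlgebraicGeometry
open Variety

namespace Groth.Agent.S7644

/-- If X is an irreducible scheme of positive dimension, separated over a field k, and x is a closed
point of X, then the open subscheme obtained by removing x is not proper over k. -/
theorem result (k : Type u) [Field k] (X : Scheme.{u}) [X.Over (Spec (CommRingCat.of k))]
    [IsSeparated (X ↘ (Spec (CommRingCat.of k)))] [IrreducibleSpace X] (hdim : 0 < topologicalKrullDim X)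
    (x : X) (hx : IsClosed ({x} : Set X)) :
    ¬ IsProper (Scheme.Opens.ι (⟨({x} : Set X)ᶜ, hx.isOpen_compl⟩ : X.Opens) ≫ (X ↘ (Spec (CommRingCat.of k)))) := by
  intro hp
  set U : X.Opens := ⟨({x} : Set X)ᶜ, hx.isOpen_compl⟩ with hU
  haveI := hp
  haveI : IsProper U.ι := IsProper.of_comp U.ι (X ↘ Spec (CommRingCat.of k))
  have hc : IsClosed (({x} : Set X)ᶜ) := by
    have := U.ι.isClosedMap.isClosed_range
    rwa [Scheme.Opens.range_ι] at this
  have ho : IsOpen ({x} : Set X) := by simpa using hc.isOpen_compl
  have hd : Dense ({x} : Set X) := ho.dense ⟨x, rfl⟩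
  have : ∀ y : X, y = x := fun y => by
    have := hd y
    rwa [hx.closure_eq, Set.mem_singleton_iff] at this
  haveI : Subsingleton X := ⟨fun a b => (this a).trans (this b).symm⟩
  haveI : DiscreteTopology X := Subsingleton.discreteTopology
  haveI : Nonempty X := ⟨x⟩
  exact absurd hdim (not_lt.2 (topologicalKrullDim_zero_of_discreteTopology X))

end Groth.Agent.S7644
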