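import Groth.Statements.S7648
import Groth.Agent.IntProd70.Rules

open Groth.Agent

set_option autoImplicit false
universe u
open CategoryTheory CategoryTheory.Limits AlgebraicGeometry
open Variety

namespace Groth.Agent.S7648

/-- Let X be proper over a field k of dimension e + 1, let D ⊆ X be an effective Cartier divisor and let
L_0, L_1, …, L_e be invertible modules with L_0 ≅ O_X(D), i.e. L_0 ⊗ I_D ≅ O_X. Then (L_0 ⋯ L_e · X)
= (L_1 ⋯ L_e · D): the coefficient of n_0⋯n_e in the polynomial computing χ(X, ⊗_j L_j^{⊗n_j})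
equals the coefficient of n_1⋯n_e in the polynomial computing χ(X, O_D ⊗ L_1^{⊗n_1} ⊗ ⋯ ⊗
L_e^{⊗n_e}). (The published statement has a closed subscheme Z ⊆ X of dimension d with D ⊆ Z and
L_1|_Z ≅ O_Z(D); this row is its case Z = X.) -/
theorem result (k : Type u) [Field k] (X : Scheme.{u}) [X.Over (Spec (CommRingCat.of k))] [IsProper (X ↘ (Spec (CommRingCat.of k)))]
    (e : ℕ) (hX : topologicalKrullDim X = e + 1) (D : X.IdealSheafData) (hD : FGA.IsEffCartier D)
    (L : Fin (e + 1) → X.Modules) (hL : ∀ j, PicF.IsInvertible (L j))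
    (hLD : ClSub.IsInverseOf (L 0) (ClSub.idealMod D))
    (P : MvPolynomial (Fin (e + 1)) ℚ) (Q : MvPolynomial (Fin e) ℚ)
    (hP : ∀ n : Fin (e + 1) → ℕ, (Curv2.euler k X (Curv2.tensorPows (Coh.structureModule X) (e + 1) L n) : ℚ) = MvPolynomial.eval (fun i => (n i : ℚ)) P)
    (hQ : ∀ n : Fin e → ℕ, (Curv2.euler k X (Curv2.tensorPows (ClSub.quotMod D) e (fun j => L j.succ) n) : ℚ) = MvPolynomial.eval (fun i => (n i : ℚ)) Q) :
    MvPolynomial.coeff (Finsupp.equivFunOnFinite.symm fun _ : Fin (e + 1) => 1) P = MvPolynomial.coeff (Finsupp.equivFunOnFinite.symm fun _ : Fin e => 1) Q := by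
  haveI := EulerChar.isNoetherian k (X := X)
  have hle : topologicalKrullDim X ≤ ((e + 1 : ℕ) : WithBot ℕ∞) := by rw [hX]; exact_mod_cast le_rfl
  obtain ⟨eAD⟩ := hLD
  have hO : Coh.IsCoh (Coh.structureModule X) := ProperFin.isCoh_structureModule _
  rw [IntProd70.coeff_eq k hL hO (EulerChar.dim_support_le hle) hP,
    IntProd70.coeff_quotMod k (fun j => hL j.succ) D (IntProd70.dim_support_le_of_isEffCartier hD hle) hQ,
    show L = Fin.cons (L 0) (fun j => L j.succ) from (Fin.cons_self_tail L).symm,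
    IntProd70.intC_divisor k hle (fun j => hL j.succ) (hL 0) eAD]
  rfl

end Groth.Agent.S7648
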