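import Groth.Statements.S7649
import Groth.Agent.IntProd70.Basic
import Groth.Agent.HilbPolyX.Ample
import Groth.Agent.AmpCrit.SerreVan

/-!
Asymptotic Riemann-Roch for an ample module: the one-variable Hilbert polynomial `Q` satisfies
`P = Q(n₁ + ⋯ + n_d)`, so the coefficient of `n₁⋯n_d` is `d! · q_d`.
-/

set_option autoImplicit false
set_option linter.style.haveILetI false
universe u
open CategoryTheory CategoryTheory.Limits AlgebraicGeometry
open Variety

noncomputable section

namespace Groth.Agent.S7649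

open IntProd70 Snapper ProjTwist

theorem tensorPows_const {X : Scheme.{u}} (L : X.Modules) : ∀ (d : ℕ) (n : Fin d → ℕ),
    Nonempty (Curv2.tensorPows (Coh.structureModule X) d (fun _ => L) n ≅
      CohB1.tensorMod (Coh.structureModule X) (CohB1.tensorPow L (∑ i, n i)))
  | 0, _ => by
    rw [Finset.univ_eq_empty, Finset.sum_empty]
    exact ⟨(tensOne _).symm⟩
  | d + 1, n => by
    obtain ⟨e⟩ := tensorPows_const L d fun i => n i.castSucc
    rw [Fin.sum_univ_castSucc]
    exact ⟨tensCongr e (Iso.refl _) ≪≫ tensAssoc _ _ _ ≪≫ tensCongr (Iso.refl _) (HilbPolyX.powAdd L _ _)⟩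

theorem sum_signed_eval {d : ℕ} (Q : Polynomial ℚ) (hQ : Q.natDegree = d) :
    ∑ I : Finset (Fin d), (-1 : ℚ) ^ (d - I.card) * Q.eval (I.card : ℚ) = d.factorial * Q.coeff d := by
  have h := congrFun Q.fwdDiff_iter_degree_eq_factorial 0
  rw [fwdDiff_iter_eq_sum_shift, hQ] at h
  simp only [Pi.smul_apply, smul_eq_mul, Polynomial.leadingCoeff, hQ] at h
  rw [← Finset.powerset_univ, Finset.sum_powerset_apply_card (fun j => (-1 : ℚ) ^ (d - j) * Q.eval (j : ℚ)),
    Finset.card_univ, Fintype.card_fin, mul_comm (d.factorial : ℚ)]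
  simp only [Pi.natCast_apply, zero_add, nsmul_eq_mul, zsmul_eq_mul, mul_one, Int.cast_mul, Int.cast_pow,
    Int.cast_neg, Int.cast_one, Int.cast_natCast] at h
  rw [← h]
  exact Finset.sum_congr rfl fun j _ => by ring

theorem result (k : Type u) [Field k] (X : Scheme.{u}) [X.Over (Spec (CommRingCat.of k))] [IsProper (X ↘ (Spec (CommRingCat.of k)))]
    (d : ℕ) (hX : topologicalKrullDim X = d) (L : X.Modules) (hL : CohB1.IsAmple L)
    (P : MvPolynomial (Fin d) ℚ)
    (hP : ∀ n : Fin d → ℕ, (Curv2.euler k X (Curv2.tensorPows (Coh.structureModule X) d (fun _ => L) n) : ℚ) = MvPolynomial.eval (fun i => (n i : ℚ)) P) :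
    0 < MvPolynomial.coeff (Finsupp.equivFunOnFinite.symm fun _ : Fin d => 1) P ∧
      ∃ C : ℚ, ∀ n : ℕ,
        |(Module.finrank k (Coh.HH X (CohB1.tensorPow L n) 0) : ℚ) -
            MvPolynomial.coeff (Finsupp.equivFunOnFinite.symm fun _ : Fin d => 1) P / (d.factorial : ℚ) * (n : ℚ) ^ d| ≤
          C * ((n : ℚ) + 1) ^ (d - 1) := by
  classical
  haveI := EulerChar.isNoetherian k (X := X)
  have hO : Coh.IsCoh (Coh.structureModule X) := ProperFin.isCoh_structureModule X
  obtain ⟨Q, hQ⟩ := HilbPolyX.exists_hilbPoly k hL.1 hO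
  have hsupp : topologicalKrullDim (CohB1.support (Coh.structureModule X)) = (d : WithBot ℕ∞) := by
    rw [show CohB1.support (Coh.structureModule X) = Set.univ from Set.eq_univ_of_forall fun x h => by
      obtain ⟨ee⟩ := EulerChar.stalk_ofRank (ProjTwist.isFinLocFreeOfRank_one (LFFrame.isInvertible_structureModule X)) x
      exact not_subsingleton (Fin 1 → X.presheaf.stalk x) (@Equiv.subsingleton _ _ ee.toEquiv h), ← hX]
    exact IsHomeomorph.topologicalKrullDim_eq _ (Homeomorph.Set.univ X).isHomeomorph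
  have hpos := HilbPolyX.coeff_pos k hL d hO hQ hsupp
  have hdeg : Q.natDegree = d :=
    le_antisymm (HilbPolyX.natDegree_le k hL.1 hO hQ hsupp.le) (Polynomial.le_natDegree_of_ne_zero hpos.ne')
  let R : MvPolynomial (Fin d) ℚ := Polynomial.aeval (∑ i, MvPolynomial.X i) Q
  have heval : ∀ n : Fin d → ℕ, MvPolynomial.eval (castV n) R = Q.eval ((∑ i, n i : ℕ) : ℚ) := fun n => by
    rw [← MvPolynomial.aeval_eq_eval, ← Polynomial.aeval_algHom_apply]
    simp [castV]
  have hPR : P = R := IntProd70.poly_ext fun n => by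
    rw [heval, ← hQ, show castV n = fun i => (n i : ℚ) from rfl, ← hP,
      EulerChar.euler_iso k (tensorPows_const L d n).some]
    rfl
  have hRdeg : R.totalDegree ≤ d := by
    refine le_trans ?_ hdeg.le
    show (Polynomial.aeval (∑ i, MvPolynomial.X i : MvPolynomial (Fin d) ℚ) Q).totalDegree ≤ _
    rw [Polynomial.aeval_eq_sum_range]
    refine (MvPolynomial.totalDegree_finsetSum _ _).trans (Finset.sup_le fun j hj => ?_)
    refine (MvPolynomial.totalDegree_smul_le _ _).trans ((MvPolynomial.totalDegree_pow _ _).trans ?_)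
    refine le_trans ?_ (Nat.le_of_lt_succ (Finset.mem_range.1 hj))
    exact (Nat.mul_le_mul_left j ((MvPolynomial.totalDegree_finsetSum _ _).trans
      (Finset.sup_le fun i _ => (MvPolynomial.totalDegree_X i).le))).trans (mul_one j).le
  have hc : MvPolynomial.coeff (Finsupp.equivFunOnFinite.symm fun _ : Fin d => 1) P =
      d.factorial * Q.coeff d := by
    rw [hPR, ← sum_signed_eval Q hdeg]
    refine (coeff_ones R hRdeg).trans (Finset.sum_congr rfl fun I _ => ?_)
    rw [heval]
    simp
  rw [hc, mul_div_cancel_left₀ _ (by exact_mod_cast d.factorial_ne_zero)]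
  refine ⟨mul_pos (by exact_mod_cast d.factorial_pos) hpos, ?_⟩
  obtain ⟨n₀, hn₀⟩ := AmpCrit.SerreVan.serre_vanishing (X ↘ Spec (CommRingCat.of k)) hL _ hO
  have hh : ∀ n, n₀ ≤ n → (Module.finrank k (Coh.HH X (CohB1.tensorPow L n) 0) : ℚ) = Q.eval (n : ℚ) := by
    intro n hn
    have e : ShStab.twist X L (Coh.structureModule X) n ≅ CohB1.tensorPow L n := oneTens _
    rw [← hQ n, EulerChar.euler_iso k e, EulerChar.euler_eq_sum k (M := CohB1.tensorPow L n) (t := 1)
      fun p hp => @AmpCrit.subsingleton_HH_of_iso _ _ _ e p (hn₀ n hn p (by omega))]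
    rw [Finset.sum_range_one, pow_zero, one_mul, Int.cast_natCast]
  let b : ℕ → ℚ := fun n => |(Module.finrank k (Coh.HH X (CohB1.tensorPow L n) 0) : ℚ) - Q.coeff d * (n : ℚ) ^ d|
  refine ⟨(∑ i ∈ Finset.range d, |Q.coeff i|) + ∑ n ∈ Finset.range n₀, b n, fun n => ?_⟩
  have h1 : (1 : ℚ) ≤ ((n : ℚ) + 1) ^ (d - 1) := one_le_pow₀ (le_add_of_nonneg_left n.cast_nonneg)
  have hb : ∀ m, 0 ≤ b m := fun m => abs_nonneg _
  rcases lt_or_ge n n₀ with hn | hn
  · refine le_trans ?_ (le_mul_of_one_le_right ?_ h1)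
    · exact (Finset.single_le_sum (fun m _ => hb m) (Finset.mem_range.2 hn)).trans
        (le_add_of_nonneg_left (Finset.sum_nonneg fun i _ => abs_nonneg _))
    · exact add_nonneg (Finset.sum_nonneg fun i _ => abs_nonneg _) (Finset.sum_nonneg fun m _ => hb m)
  · rw [hh n hn, Polynomial.eval_eq_sum_range' (n := d + 1) (by omega), Finset.sum_range_succ,
      add_sub_cancel_right]
    refine le_trans ?_ (mul_le_mul_of_nonneg_right
      (le_add_of_nonneg_right (Finset.sum_nonneg fun m _ => hb m)) (zero_le_one.trans h1))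
    rw [Finset.sum_mul]
    refine (Finset.abs_sum_le_sum_abs _ _).trans (Finset.sum_le_sum fun i hi => ?_)
    rw [abs_mul, abs_pow, Nat.abs_cast]
    refine mul_le_mul_of_nonneg_left ?_ (abs_nonneg _)
    exact (pow_le_pow_left₀ n.cast_nonneg (le_add_of_nonneg_right zero_le_one) i).trans
      (pow_le_pow_right₀ (le_add_of_nonneg_left n.cast_nonneg) (by have := Finset.mem_range.1 hi; omega))

end Groth.Agent.S7649
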