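import Groth.Statements.S7650
import Groth.Agent.IntProd70.Basic
import Groth.Agent.EulerChar.Components
import Groth.Agent.EulerFam.Tau
import Groth.Agent.Snapper.BaseChange
import Groth.Agent.CohDev.Dim

set_option autoImplicit false
universe u
open CategoryTheory CategoryTheory.Limits AlgebraicGeometry
open Variety

namespace Groth.Agent.S7650

set_option linter.style.haveILetI false

open TopologicalSpace
open Groth.Agent.PullStalk.Sky Groth.Agent.PullStalk.Exact

variable {X : Scheme.{u}}

/-- a function given by a polynomial of degree `< d` -/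
def PolyLT {r : ℕ} (d : ℕ) (f : (Fin r → ℕ) → ℚ) : Prop :=
  ∃ P : MvPolynomial (Fin r) ℚ, (∀ m ∈ P.support, (m.sum fun _ e => e) < d) ∧
    ∀ n, f n = MvPolynomial.eval (fun i => (n i : ℚ)) P

theorem PolyLT.zero {r : ℕ} {d : ℕ} : PolyLT (r := r) d fun _ => 0 := ⟨0, by simp, by simp⟩

theorem PolyLT.add {r : ℕ} {d : ℕ} {f g : (Fin r → ℕ) → ℚ} (hf : PolyLT d f) (hg : PolyLT d g) :
    PolyLT d fun n => f n + g n := by
  classical
  obtain ⟨P, hP, hf⟩ := hf
  obtain ⟨Q, hQ, hg⟩ := hg
  refine ⟨P + Q, fun m hm => ?_, fun n => ?_⟩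
  · rcases Finset.mem_union.1 (MvPolynomial.support_add hm) with h | h
    · exact hP m h
    · exact hQ m h
  · show f n + g n = _
    rw [map_add, hf, hg]

theorem PolyLT.neg {r : ℕ} {d : ℕ} {f : (Fin r → ℕ) → ℚ} (hf : PolyLT d f) :
    PolyLT d fun n => -f n := by
  obtain ⟨P, hP, hf⟩ := hf
  refine ⟨-P, fun m hm => hP m (by rwa [MvPolynomial.support_neg] at hm), fun n => ?_⟩
  show -f n = _
  rw [map_neg, hf]

theorem PolyLT.congr {r : ℕ} {d : ℕ} {f g : (Fin r → ℕ) → ℚ} (hf : PolyLT d f) (h : ∀ n, g n = f n) :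
    PolyLT d g := by
  obtain ⟨P, hP, hf⟩ := hf
  exact ⟨P, hP, fun n => (h n).trans (hf n)⟩

theorem pullback_twistList {Z : Scheme.{u}} (ι : Z ⟶ X) {r : ℕ} (L : Fin r → X.Modules) (n : Fin r → ℕ) :
    ∀ l : List (Fin r), Nonempty ((Scheme.Modules.pullback ι).obj
        (FGA.tensorList (l.map fun i => CohB1.tensorPow (L i) (n i))) ≅
      FGA.tensorList (l.map fun i => CohB1.tensorPow ((Scheme.Modules.pullback ι).obj (L i)) (n i)))
  | [] => ⟨QCoh.pullbackUnitIso ι⟩
  | a :: l => by
    obtain ⟨e⟩ := pullback_twistList ι L n l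
    obtain ⟨e'⟩ := EulerFam.pullback_tensorPow ι (L a) (n a)
    exact ⟨KFlat.PullTensor.pullTensorIso ι (CohB1.tensorPow (L a) (n a))
      (FGA.tensorList (l.map fun i => CohB1.tensorPow (L i) (n i))) ≪≫ ProjTwist.tensCongr e' e⟩

variable (k : Type u) [Field k] [X.Over (Spec (CommRingCat.of k))]
  [IsProper (X ↘ Spec (CommRingCat.of k))] {r : ℕ} (L : Fin r → X.Modules)

/-- the Euler characteristic of the twists restricted to the closure of a point -/
noncomputable def term (ξ : X) (n : Fin r → ℕ) : ℚ :=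
  (@Curv2.euler k _
    (Scheme.IdealSheafData.vanishingIdeal (⟨closure ({ξ} : Set X), isClosed_closure⟩ : TopologicalSpace.Closeds X)).subscheme
    ⟨(Scheme.IdealSheafData.vanishingIdeal (⟨closure ({ξ} : Set X), isClosed_closure⟩ : TopologicalSpace.Closeds X)).subschemeι ≫ (X ↘ (Spec (CommRingCat.of k)))⟩
    (Curv2.tensorPows
      (Coh.structureModule (Scheme.IdealSheafData.vanishingIdeal (⟨closure ({ξ} : Set X), isClosed_closure⟩ : TopologicalSpace.Closeds X)).subscheme)
      r (fun i => (Scheme.Modules.pullback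
        (Scheme.IdealSheafData.vanishingIdeal (⟨closure ({ξ} : Set X), isClosed_closure⟩ : TopologicalSpace.Closeds X)).subschemeι).obj (L i)) n) : ℚ)

/-- twisted Euler characteristic -/
noncomputable def chi (G : X.Modules) (n : Fin r → ℕ) : ℚ :=
  (Curv2.euler k X (CohB1.tensorMod (FGA.multiTwist L n) G) : ℚ)

variable {L}

include k in
theorem chi_oz (hL : ∀ i, PicF.IsInvertible (L i)) (x : X) (n : Fin r → ℕ) :
    chi k L (Cyc.closureStructureSheaf x) n = term k L x n := by
  unfold chi term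
  let D := IntMult.ptIdeal x
  letI : D.subscheme.Over (Spec (CommRingCat.of k)) := ⟨D.subschemeι ≫ (X ↘ Spec (CommRingCat.of k))⟩
  haveI : IsProper (D.subscheme ↘ Spec (CommRingCat.of k)) :=
    inferInstanceAs (IsProper (D.subschemeι ≫ (X ↘ Spec (CommRingCat.of k))))
  have hT : PicF.IsInvertible (FGA.multiTwist L n) := Snapper.isInvertible_multiTwist hL n
  haveI : (FGA.multiTwist L n).IsQuasicoherent :=
    (VBLib.isCoh_of_ofRank (ProjTwist.isFinLocFreeOfRank_one hT)).1
  obtain ⟨e⟩ := pullback_twistList D.subschemeι L n (List.finRange r)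
  obtain ⟨e'⟩ := IntProd70.tensorPows_iso (Coh.structureModule D.subscheme) r
    (fun i => (Scheme.Modules.pullback D.subschemeι).obj (L i)) n
  refine congrArg Int.cast ?_
  refine (EulerChar.euler_iso k (EulerChar.tensQuotIso D.subschemeι (FGA.multiTwist L n))).trans ?_
  refine (EulerChar.euler_push D.subschemeι rfl _ inferInstance).trans ?_
  exact EulerChar.euler_iso k (e ≪≫ (ProjTwist.tensOne _).symm ≪≫ e'.symm)

theorem chi_add (hL : ∀ i, PicF.IsInvertible (L i)) {S : ShortComplex X.Modules} (hS : S.ShortExact)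
    (h₁ : Coh.IsCoh S.X₁) (h₂ : Coh.IsCoh S.X₂) (h₃ : Coh.IsCoh S.X₃) (n : Fin r → ℕ) :
    chi k L S.X₂ n = chi k L S.X₁ n + chi k L S.X₃ n := by
  have hT := Snapper.isInvertible_multiTwist hL n
  unfold chi
  rw [← Snapper.chiT_kcl k hT h₁, ← Snapper.chiT_kcl k hT h₂, ← Snapper.chiT_kcl k hT h₃,
    CohDev.kcl_add hS h₁ h₂ h₃, map_add, Int.cast_add]

/-- twists of a module with small support -/
theorem polyLT_small (hL : ∀ i, PicF.IsInvertible (L i)) {G : X.Modules} (hG : Coh.IsCoh G) {d : ℕ}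
    (hd : topologicalKrullDim ↥(CohB1.support G) < (d : WithBot ℕ∞)) : PolyLT d (chi k L G) := by
  cases d with
  | zero =>
    refine PolyLT.zero.congr fun n => ?_
    unfold chi
    rw [EulerChar.euler_of_isZero k (Snapper.isZero_tens_of_dim_lt_zero hd), Int.cast_zero]
  | succ e =>
    obtain ⟨P, hP, h⟩ := Snapper.exists_snapper k hL e hG (Snapper.le_of_lt_succ hd)
    exact ⟨P, fun m hm => lt_of_le_of_lt ((MvPolynomial.le_totalDegree hm).trans hP) (Nat.lt_succ_self e),
      fun n => h n⟩

/-- the length at a point, as a rational number -/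
noncomputable def len (ξ : X) (G : X.Modules) : ℚ :=
  ((Module.length (X.presheaf.stalk ξ) (G.presheaf.stalk ξ)).toNat : ℚ)

theorem length_eq_zero_of_not_mem {ξ : X} {G : X.Modules} (h : ξ ∉ CohB1.support G) :
    Module.length (X.presheaf.stalk ξ) (G.presheaf.stalk ξ) = 0 := by
  haveI : Subsingleton (G.presheaf.stalk ξ) := by
    by_contra hn
    exact h hn
  exact Module.length_eq_zero

include k in
/-- The comparison for all coherent modules supported in `T`. -/
theorem main (hL : ∀ i, PicF.IsInvertible (L i)) {T : Set X} (hT : IsClosed T) {d : ℕ}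
    (hd : topologicalKrullDim ↥T ≤ (d : WithBot ℕ∞)) (Ξ : Finset X)
    (hΞ : ∀ ξ, ξ ∈ Ξ ↔ ξ ∈ T ∧ topologicalKrullDim ↥(closure ({ξ} : Set X)) = (d : WithBot ℕ∞))
    {G : X.Modules} (hG : Coh.IsCoh G) (hs : CohB1.support G ⊆ T) :
    (∀ ξ ∈ Ξ, Module.length (X.presheaf.stalk ξ) (G.presheaf.stalk ξ) ≠ ⊤) ∧
      PolyLT d fun n => chi k L G n - ∑ ξ ∈ Ξ, len ξ G * term k L ξ n := by
  classical
  haveI := EulerChar.isNoetherian k (X := X)
  have hcl : ∀ {x : X}, x ∈ T → closure ({x} : Set X) ⊆ T := fun hx =>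
    closure_minimal (Set.singleton_subset_iff.2 hx) hT
  have hdx : ∀ {x : X}, x ∈ T → topologicalKrullDim ↥(closure ({x} : Set X)) ≤ (d : WithBot ℕ∞) :=
    fun hx => (CohDev.dim_mono (hcl hx)).trans hd
  have hmax : ∀ ξ ∈ Ξ, ∀ y ∈ T, ξ ∈ closure ({y} : Set X) → ξ = y := fun ξ hξ y hy h =>
    by_contra fun hne => (CohDev.dim_closure_lt h hne (hdx hy)).ne ((hΞ ξ).1 hξ).2
  refine CohDev.devissage (fun M => CohB1.support M ⊆ T →
      (∀ ξ ∈ Ξ, Module.length (X.presheaf.stalk ξ) (M.presheaf.stalk ξ) ≠ ⊤) ∧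
        PolyLT d fun n => chi k L M n - ∑ ξ ∈ Ξ, len ξ M * term k L ξ n)
    (fun M hM _ => ?_) (fun S hS h₁ h₂ h₃ p₁ p₃ hs => ?_) (fun M hM hz => ?_) hG hs
  · have hl : ∀ ξ : X, Module.length (X.presheaf.stalk ξ) (M.presheaf.stalk ξ) = 0 := fun ξ => by
      haveI : Subsingleton (M.presheaf.stalk ξ) := AddCommGrpCat.subsingleton_of_isZero
        ((Scheme.Modules.toPresheaf X ⋙ TopCat.Presheaf.stalkFunctor AddCommGrpCat.{u} ξ).map_isZero hM)
      exact Module.length_eq_zero
    refine ⟨fun ξ _ => by simp [hl ξ], PolyLT.zero.congr fun n => ?_⟩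
    have hz : chi k L M n = 0 := by
      unfold chi
      rw [EulerChar.euler_of_isZero k (M := CohB1.tensorMod (FGA.multiTwist L n) M)
        (((DCoh.tensorBi (X := X)).obj (FGA.multiTwist L n)).map_isZero hM), Int.cast_zero]
    simp [hz, len, hl]
  · haveI := hS.mono_f
    haveI := hS.epi_g
    obtain ⟨l₁, q₁⟩ := p₁ ((CohDev.support_subset_of_mono S.f).trans hs)
    obtain ⟨l₃, q₃⟩ := p₃ ((CohDev.support_subset_of_epi S.g).trans hs)
    have hl : ∀ ξ : X, Module.length (X.presheaf.stalk ξ) (S.X₂.presheaf.stalk ξ) =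
        Module.length (X.presheaf.stalk ξ) (S.X₁.presheaf.stalk ξ) +
          Module.length (X.presheaf.stalk ξ) (S.X₃.presheaf.stalk ξ) := fun ξ => by
      obtain ⟨hi, he, hs⟩ := stalk_exact hS ξ
      exact Module.length_eq_add_of_exact _ _ hi hs he
    refine ⟨fun ξ hξ => by rw [hl]; exact WithTop.add_ne_top.2 ⟨l₁ ξ hξ, l₃ ξ hξ⟩,
      (q₁.add q₃).congr fun n => ?_⟩
    have e : ∀ ξ ∈ Ξ, len ξ S.X₂ * term k L ξ n =
        len ξ S.X₁ * term k L ξ n + len ξ S.X₃ * term k L ξ n := fun ξ hξ => by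
      rw [← add_mul]
      congr 1
      unfold len
      rw [hl, ENat.toNat_add (l₁ ξ hξ) (l₃ ξ hξ), Nat.cast_add]
    rw [chi_add k hL hS h₁ h₂ h₃ n, Finset.sum_congr rfl e, Finset.sum_add_distrib]
    ring
  · obtain ⟨x, J, f, g, hf, hg, hJ, hx⟩ := CohDev.exists_piece hM hz
    refine ⟨J, f, hf, hJ, fun hJ0 => hx ?_, fun hs => ?_⟩
    · exact AddCommGrpCat.subsingleton_of_isZero
        ((Scheme.Modules.toPresheaf X ⋙ TopCat.Presheaf.stalkFunctor AddCommGrpCat.{u} x).map_isZero hJ0)
    have hxT : x ∈ T := hs hx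
    have hJx : CohB1.support J ⊆ closure {x} :=
      (CohDev.support_subset_of_mono g).trans (CohDev.support_oz_subset x)
    have hne : ∀ ξ ∈ Ξ, ξ ≠ x →
        Module.length (X.presheaf.stalk ξ) (J.presheaf.stalk ξ) = 0 := fun ξ hξ hne =>
      length_eq_zero_of_not_mem fun h => hne (hmax ξ hξ x hxT (hJx h))
    by_cases hxΞ : x ∈ Ξ
    · have h1 : Module.length (X.presheaf.stalk x) (J.presheaf.stalk x) = 1 :=
        (LinearEquiv.ofBijective (stalkLin g x) (CohDev.stalk_piece g hx)).length_eq.trans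
          (CohDev.length_stalk_oz x)
      refine ⟨fun ξ hξ => ?_, ?_⟩
      · rcases eq_or_ne ξ x with rfl | h
        · simp [h1]
        · simp [hne ξ hξ h]
      have hQ := CohDev.isCoh_cokernel g hJ.1 (CohDev.isCoh_oz x)
      have hdQ : topologicalKrullDim ↥(CohB1.support (cokernel g)) < (d : WithBot ℕ∞) :=
        CohDev.dim_lt_of_irreducible (CohDev.isClosed_support hQ) isIrreducible_singleton.closure
          ((CohDev.support_subset_of_epi (cokernel.π g)).trans (CohDev.support_oz_subset x))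
          (fun h => CohDev.not_mem_support_cokernel g (CohDev.stalk_piece g hx).2
            (h (subset_closure rfl))) (hdx hxT)
      refine (polyLT_small k hL hQ hdQ).neg.congr fun n => ?_
      have hS : (ShortComplex.mk g (cokernel.π g) (cokernel.condition g)).ShortExact :=
        { exact := ShortComplex.exact_of_g_is_cokernel _ (cokernelIsCokernel g)
          mono_f := hg
          epi_g := inferInstanceAs (Epi (cokernel.π g)) }
      have ha := chi_add k hL hS hJ (CohDev.isCoh_oz x) hQ n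
      rw [chi_oz k hL x n] at ha
      have he : ∑ ξ ∈ Ξ, len ξ J * term k L ξ n = term k L x n := by
        rw [Finset.sum_eq_single x (fun ξ hξ h => by simp [len, hne ξ hξ h]) (fun h => (h hxΞ).elim)]
        simp [len, h1]
      rw [he]
      linarith
    · have hd' : topologicalKrullDim ↥(CohB1.support J) < (d : WithBot ℕ∞) :=
        (CohDev.dim_mono hJx).trans_lt (lt_of_le_of_ne (hdx hxT) fun h => hxΞ ((hΞ x).2 ⟨hxT, h⟩))
      have h0 : ∀ ξ ∈ Ξ, Module.length (X.presheaf.stalk ξ) (J.presheaf.stalk ξ) = 0 := fun ξ hξ =>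
        hne ξ hξ fun h => hxΞ (h ▸ hξ)
      refine ⟨fun ξ hξ => by simp [h0 ξ hξ], (polyLT_small k hL hJ hd').congr fun n => ?_⟩
      rw [Finset.sum_eq_zero fun ξ hξ => by simp [len, h0 ξ hξ], sub_zero]

include k in
theorem finite_top {T : Set X} (hT : IsClosed T) {d : ℕ} (hd : topologicalKrullDim ↥T ≤ (d : WithBot ℕ∞)) :
    {ξ : X | ξ ∈ T ∧ topologicalKrullDim ↥(closure ({ξ} : Set X)) = (d : WithBot ℕ∞)}.Finite := by
  haveI := EulerChar.isNoetherian k (X := X)
  haveI : NoetherianSpace X := inferInstance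
  obtain ⟨S, hSf, hSc, hSi, hSU⟩ := NoetherianSpace.exists_finite_set_isClosed_irreducible hT
  haveI : Finite ↥S := hSf.to_subtype
  refine ((Set.finite_range fun t : S => (hSi t.1 t.2).genericPoint).subset ?_)
  rintro ξ ⟨hξ, hξd⟩
  rw [hSU] at hξ
  obtain ⟨t, ht, hξt⟩ := hξ
  refine ⟨⟨t, ht⟩, ?_⟩
  have hg : IsGenericPoint (hSi t ht).genericPoint t := by
    have h := (hSi t ht).isGenericPoint_genericPoint_closure
    rwa [(hSc t ht).closure_eq] at h
  by_contra hne
  refine (CohDev.dim_closure_lt (x := (hSi t ht).genericPoint) (n := d) (by rw [hg.def]; exact hξt)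
    (Ne.symm hne) ?_).ne hξd
  refine (CohDev.dim_mono ?_).trans hd
  rw [hg.def, hSU]
  exact Set.subset_sUnion_of_mem ht


/-- Let X be proper over a field k, F a coherent module with dim Supp(F) = d and L_1, …, L_r invertible
modules. The Euler characteristic of F twisted by L_1^{⊗n_1} ⊗ ⋯ ⊗ L_r^{⊗n_r}, minus the sum over
the d-dimensional irreducible components Z of Supp(F) of the length of F at the generic point of Z
times the Euler characteristic on Z of the restricted twist, agrees with a rational polynomial in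
the exponents each of whose monomials has total degree less than d. Here the sum is written over all
points ξ of X whose closure has dimension d (the term vanishes unless ξ is the generic point of a
d-dimensional component of Supp(F)), and Z_ξ carries its reduced induced structure. (The published
statement lets the exponents range over all integers; this row takes them in ℕ.) -/
theorem result (k : Type u) [Field k] (X : Scheme.{u}) [X.Over (Spec (CommRingCat.of k))] [IsProper (X ↘ (Spec (CommRingCat.of k)))]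
    (F : X.Modules) (hF : Coh.IsCoh F) (d : ℕ) (hd : topologicalKrullDim (CohB1.support F) = d)
    (r : ℕ) (L : Fin r → X.Modules) (hL : ∀ i, PicF.IsInvertible (L i)) :
    ∃ P : MvPolynomial (Fin r) ℚ, (∀ m ∈ P.support, (m.sum fun _ e => e) < d) ∧
      ∀ n : Fin r → ℕ,
        (Curv2.euler k X (Curv2.tensorPows F r L n) : ℚ) -
          ∑ᶠ ξ : X, (if topologicalKrullDim (closure ({ξ} : Set X)) = (d : WithBot ℕ∞) then
            ((Module.length (X.presheaf.stalk ξ) (F.presheaf.stalk ξ)).toNat : ℚ) *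
              (@Curv2.euler k _
                (Scheme.IdealSheafData.vanishingIdeal (⟨closure ({ξ} : Set X), isClosed_closure⟩ : TopologicalSpace.Closeds X)).subscheme
                ⟨(Scheme.IdealSheafData.vanishingIdeal (⟨closure ({ξ} : Set X), isClosed_closure⟩ : TopologicalSpace.Closeds X)).subschemeι ≫ (X ↘ (Spec (CommRingCat.of k)))⟩
                (Curv2.tensorPows
                  (Coh.structureModule (Scheme.IdealSheafData.vanishingIdeal (⟨closure ({ξ} : Set X), isClosed_closure⟩ : TopologicalSpace.Closeds X)).subscheme)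
                  r (fun i => (Scheme.Modules.pullback
                    (Scheme.IdealSheafData.vanishingIdeal (⟨closure ({ξ} : Set X), isClosed_closure⟩ : TopologicalSpace.Closeds X)).subschemeι).obj (L i)) n) : ℚ)
            else 0)
          = MvPolynomial.eval (fun i => (n i : ℚ)) P := by
  classical
  haveI := EulerChar.isNoetherian k (X := X)
  have hT : IsClosed (CohB1.support F) := CohDev.isClosed_support hF
  let Ξ : Finset X := (finite_top k hT hd.le).toFinset
  have hΞ : ∀ ξ, ξ ∈ Ξ ↔ ξ ∈ CohB1.support F ∧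
      topologicalKrullDim ↥(closure ({ξ} : Set X)) = (d : WithBot ℕ∞) := fun ξ => Set.Finite.mem_toFinset _
  obtain ⟨P, hP, h⟩ := (main k hL hT hd.le Ξ hΞ hF subset_rfl).2
  refine ⟨P, hP, fun n => ?_⟩
  rw [EulerChar.euler_iso k (IntProd70.tensorPows_iso F r L n).some]
  rw [← h n]
  refine congrArg (chi k L F n - ·) ?_
  rw [finsum_eq_sum_of_support_subset _ (s := Ξ) fun ξ hξ => ?_]
  · exact Finset.sum_congr rfl fun ξ hξ => if_pos ((hΞ ξ).1 hξ).2
  · rw [Function.mem_support] at hξ
    refine Finset.mem_coe.2 ((hΞ ξ).2 ⟨by_contra fun hn => hξ ?_, by_contra fun hn => hξ (if_neg hn)⟩)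
    simp [length_eq_zero_of_not_mem hn]

end Groth.Agent.S7650
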