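import Groth.Statements.S7651
import Groth.Agent.OneDim.Basic
import Groth.Agent.Depth.Basic

set_option autoImplicit false
universe u
open CategoryTheory CategoryTheory.Limits AlgebraicGeometry
open Variety

namespace Groth.Agent.S7651

/-- Let (A, m) be a Noetherian local ring of dimension one and f ∈ m. Then (1) m = √(f), (2) f lies in
no minimal prime of A, and (3) A_f ≅ ∏_{p minimal} A_p as A-algebras, are equivalent; such an f
exists; if A has depth one, for instance if A is reduced, they are also equivalent to (4) f is a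
nonzerodivisor and to (5) A → A_f is the localization of A at all its nonzerodivisors; and if A is
reduced they are also equivalent to (6) A_f ≅ ∏_{p minimal} κ(p) as A-algebras. -/
theorem result (A : Type u) [CommRing A] [IsLocalRing A]
    [IsNoetherianRing A] (hdim : ringKrullDim A = 1) :
    (∃ f ∈ IsLocalRing.maximalIdeal A, ∀ p ∈ minimalPrimes A, f ∉ p) ∧
    ∀ f ∈ IsLocalRing.maximalIdeal A,
      ((IsLocalRing.maximalIdeal A = (Ideal.span {f}).radical) ↔ (∀ p ∈ minimalPrimes A, f ∉ p)) ∧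
      ((∀ p ∈ minimalPrimes A, f ∉ p) ↔
        Nonempty (Localization.Away f ≃ₐ[A] (∀ p : {p : PrimeSpectrum A // p.asIdeal ∈ minimalPrimes A}, Localization.AtPrime p.1.asIdeal))) ∧
      ((LocCoh.depth A A = 1 ∨ IsReduced A) →
        ((∀ p ∈ minimalPrimes A, f ∉ p) ↔ f ∈ nonZeroDivisors A) ∧
        ((∀ p ∈ minimalPrimes A, f ∉ p) ↔ IsLocalization (nonZeroDivisors A) (Localization.Away f))) ∧
      (IsReduced A →
        ((∀ p ∈ minimalPrimes A, f ∉ p) ↔
          Nonempty (Localization.Away f ≃ₐ[A] (∀ p : {p : PrimeSpectrum A // p.asIdeal ∈ minimalPrimes A}, p.1.asIdeal.ResidueField)))) := by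
  classical
  refine ⟨OneDim.exists_notMem_minimalPrimes hdim, fun f hfm => ?_⟩
  have h12 : (IsLocalRing.maximalIdeal A = (Ideal.span {f}).radical) ↔ (∀ p ∈ minimalPrimes A, f ∉ p) :=
    ⟨OneDim.notMem_of_radical_span_eq hdim, OneDim.radical_span_eq_of_notMem hdim.le hfm⟩
  have h23 : (∀ p ∈ minimalPrimes A, f ∉ p) ↔
      Nonempty (Localization.Away f ≃ₐ[A]
        (∀ p : {p : PrimeSpectrum A // p.asIdeal ∈ minimalPrimes A}, Localization.AtPrime p.1.asIdeal)) := by
    refine ⟨fun h => ⟨AlgEquiv.ofBijective _ (OneDim.awayToPi_bijective hdim.le hfm h)⟩, ?_⟩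
    rintro ⟨e⟩ p hp hfp
    let P : {p : PrimeSpectrum A // p.asIdeal ∈ minimalPrimes A} := ⟨⟨p, hp.1.1⟩, hp⟩
    have hu : IsUnit (algebraMap A (Localization.Away f) f) :=
      IsLocalization.map_units _ ⟨f, Submonoid.mem_powers f⟩
    have hu' := Pi.isUnit_iff.mp (hu.map e.toAlgHom.toRingHom) P
    rw [show e.toAlgHom.toRingHom (algebraMap A _ f) = algebraMap A _ f from e.commutes f] at hu'
    haveI : P.1.asIdeal.IsPrime := P.1.isPrime
    exact ((IsLocalization.AtPrime.isUnit_to_map_iff (S := Localization.AtPrime P.1.asIdeal)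
      P.1.asIdeal f).mp hu') hfp
  have h26 : IsReduced A → ((∀ p ∈ minimalPrimes A, f ∉ p) ↔
      Nonempty (Localization.Away f ≃ₐ[A]
        (∀ p : {p : PrimeSpectrum A // p.asIdeal ∈ minimalPrimes A}, p.1.asIdeal.ResidueField))) := by
    intro hred
    let E := AlgEquiv.piCongrRight (R := A)
      (fun p : {p : PrimeSpectrum A // p.asIdeal ∈ minimalPrimes A} => OneDim.atPrimeEquivResidueField p.2)
    rw [h23]
    exact ⟨fun ⟨e⟩ => ⟨e.trans E⟩, fun ⟨e⟩ => ⟨e.trans E.symm⟩⟩
  refine ⟨h12, h23, fun hcase => ?_, h26⟩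
  have h24 : (∀ p ∈ minimalPrimes A, f ∉ p) ↔ f ∈ nonZeroDivisors A := by
    refine ⟨fun h => ?_, fun h p hp hfp => notMem_nonZeroDivisors_of_mem_mem_minimalPrimes hfp hp h⟩
    rw [mem_nonZeroDivisors_iff_right]
    intro x hx
    rcases hcase with hd | hred
    · have hne : (IsLocalRing.maximalIdeal A) • (⊤ : Submodule A A) ≠ ⊤ :=
        Depth.smul_top_ne_top_of_le_maximalIdeal le_rfl
      obtain ⟨rs, hrs, hmem, hlen⟩ := Depth.exists_isWeaklyRegular_of_le_idealDepth hne (n := 1)
        (by rw [Nat.cast_one, ← hd]; rfl)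
      obtain ⟨g, rfl⟩ := List.length_eq_one_iff.mp hlen
      have hg : IsSMulRegular A g :=
        ((RingTheory.Sequence.isWeaklyRegular_cons_iff A g []).mp hrs).1
      have hgm : g ∈ (Ideal.span {f}).radical := h12.mpr h ▸ hmem g (List.mem_singleton_self g)
      obtain ⟨n, hn⟩ := hgm
      obtain ⟨c, hc⟩ := Ideal.mem_span_singleton'.mp hn
      refine (hg.pow n).right_eq_zero_of_smul ?_
      rw [smul_eq_mul, ← hc, mul_assoc, mul_comm f, hx, mul_zero]
    · have hx' : x ∈ nilradical A := by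
        rw [nilradical, ← Ideal.sInf_minimalPrimes]
        refine Ideal.mem_sInf.mpr fun {p} hp => ?_
        exact (hp.1.1.mem_or_mem (show x * f ∈ p by rw [hx]; exact p.zero_mem)).resolve_right (h p hp)
      exact IsNilpotent.eq_zero hx'
  refine ⟨h24, fun h => ?_, fun hloc => ?_⟩
  · refine IsLocalization.of_le_of_exists_dvd (Submonoid.powers f) _ ?_ ?_
    · exact Submonoid.powers_le.mpr (h24.mp h)
    · intro g hg
      obtain ⟨n, hn⟩ := OneDim.exists_pow_mem_span hdim.le hfm
        (fun p hp hgp => notMem_nonZeroDivisors_of_mem_mem_minimalPrimes hgp hp hg)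
      obtain ⟨c, hc⟩ := Ideal.mem_span_singleton'.mp hn
      exact ⟨f ^ n, ⟨n, rfl⟩, ⟨c, by rw [← hc, mul_comm]⟩⟩
  · refine h24.mpr (mem_nonZeroDivisors_iff_right.mpr fun x hx => ?_)
    haveI := hloc
    have h0 : algebraMap A (Localization.Away f) x = 0 :=
      (IsLocalization.map_eq_zero_iff (Submonoid.powers f) _ x).mpr
        ⟨⟨f, Submonoid.mem_powers f⟩, by rw [mul_comm]; exact hx⟩
    obtain ⟨⟨m, hm⟩, hm0⟩ := (IsLocalization.map_eq_zero_iff (nonZeroDivisors A) _ x).mp h0
    exact (mem_nonZeroDivisors_iff_right.mp hm) x (by rw [mul_comm]; exact hm0)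

end Groth.Agent.S7651
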