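import Groth.Statements.S7653
import Groth.Agent.RedNorm.Nagata
-- import your own Groth.Agent.* helpers here

set_option autoImplicit false
universe u
open CategoryTheory CategoryTheory.Limits AlgebraicGeometry
open Variety

namespace Groth.Agent.S7653

/-- For a reduced local Nagata ring A of Krull dimension one, the δ-invariant of A is zero exactly when
A is a DVR (in particular a domain). -/
theorem result (A : Type u) [CommRing A] [IsLocalRing A]
    [IsReduced A] (hN : CAlg.IsNagata A) (hdim : ringKrullDim A = 1) :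
    Curv2.deltaInv A = 0 ↔ ∃ _ : IsDomain A, IsDiscreteValuationRing A := by
  haveI := hN.1
  rw [RedNorm.deltaInv_eq_zero_iff_surjective]
  constructor
  · intro h
    obtain ⟨hD, hI⟩ := RedNorm.isDomain_of_surjective A h
    refine ⟨hD, ?_⟩
    haveI : Ring.KrullDimLE 1 A := Ring.krullDimLE_iff.mpr hdim.le
    have hnf : ¬ IsField A := fun hf => by
      rw [ringKrullDim_eq_zero_of_isField hf] at hdim
      exact zero_ne_one hdim
    exact ((IsDiscreteValuationRing.TFAE A hnf).out 0 3 rfl rfl).mpr ⟨hI, IsLocalRing.maximalIdeal A,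
      ⟨Ring.ne_bot_of_isMaximal_of_not_isField (IsLocalRing.maximalIdeal.isMaximal A) hnf, inferInstance⟩,
      fun P hP => IsLocalRing.eq_maximalIdeal ((Ring.krullDimLE_one_iff_of_noZeroDivisors).mp ‹_› P hP.1 hP.2)⟩
  · rintro ⟨_, _⟩ x
    obtain ⟨a, ha⟩ := (IsIntegrallyClosed.isIntegral_iff (R := A) (K := FractionRing A)).mp x.2
    exact ⟨a, Subtype.ext ha⟩

end Groth.Agent.S7653
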