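import Groth.Statements.S7655
import Groth.Agent.RedNorm.Nagata
-- import your own Groth.Agent.* helpers here

set_option autoImplicit false
universe u
open CategoryTheory CategoryTheory.Limits AlgebraicGeometry
open Variety

namespace Groth.Agent.S7655

/-- Let (A, m) be a reduced Nagata local ring of dimension one. Then the δ-invariant of A is at least
the number of geometric branches of A minus one. -/
theorem result (A : Type u) [CommRing A] [IsLocalRing A]
    [IsReduced A] (hN : CAlg.IsNagata A) (hdim : ringKrullDim A = 1) :
    Brnch.numGeomBranches A ≤ Curv2.deltaInv A + 1 := by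
  haveI := hN.1
  exact RedNorm.numGeomBranches_le A (RedNorm.finite_integralClosure_congr
    (RingEquiv.ofBijective (Ideal.Quotient.mk (nilradical A)) ⟨fun a b h => by
      have := Ideal.Quotient.eq.mp h
      rw [nilradical_eq_zero] at this
      exact sub_eq_zero.mp this, Ideal.Quotient.mk_surjective⟩)
    (RedNorm.finite_integralClosure_of_isNagata A hN))

end Groth.Agent.S7655
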