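import Groth.Statements.S7659
import Groth.Agent.LocIso.Basic
import Mathlib.AlgebraicGeometry.Morphisms.FiniteType
-- import your own Groth.Agent.* helpers here

set_option autoImplicit false
universe u
open CategoryTheory CategoryTheory.Limits AlgebraicGeometry
open Variety

namespace Groth.Agent.S7659

/-- Let f : X → S be a morphism of schemes and x a point with image s such that O_{S,s} → O_{X,x} is an
isomorphism, S is reduced with finitely many irreducible components, and f is locally of finite
type. Then f restricted to some open neighbourhood of x is an open immersion. (The published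
statement assumes f of finite type; this row assumes only that f is locally of finite type.) -/
theorem result {X S : Scheme.{u}} (f : X ⟶ S)
    [LocallyOfFiniteType f] [IsReduced S] (hS : (irreducibleComponents (S : Type u)).Finite)
    (x : X) (hx : IsIso (f.stalkMap x)) :
    ∃ U : X.Opens, x ∈ U ∧ IsOpenImmersion (U.ι ≫ f) := by
  obtain ⟨W, hW, hxW, -⟩ := exists_isAffineOpen_mem_and_subset (x := f.base x) (U := ⊤) trivial
  obtain ⟨V, hV, hxV, hVW⟩ := exists_isAffineOpen_mem_and_subset (x := x) (U := f ⁻¹ᵁ W) hxW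
  letI algAB := (f.appLE W V hVW).hom.toAlgebra
  haveI : Algebra.FiniteType Γ(S, W) Γ(X, V) := LocallyOfFiniteType.finiteType_appLE (f := f) hW hV hVW
  have hmin : (minimalPrimes Γ(S, W)).Finite := by
    haveI := hS.to_subtype
    let pt : minimalPrimes Γ(S, W) → S := fun r => hW.fromSpec (⟨r.1, r.2.1.1⟩ : PrimeSpectrum Γ(S, W))
    have hpt : ∀ r, closure ({pt r} : Set S) ∈ irreducibleComponents (S : Type u) := by
      intro r
      refine ⟨isIrreducible_singleton.closure, fun Z hZ hle => ?_⟩
      have hcl : IsIrreducible (closure Z) := hZ.closure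
      obtain ⟨η, hη⟩ := QuasiSober.sober hcl isClosed_closure
      have hηy : η ⤳ pt r := hη.specializes (subset_closure (hle (subset_closure rfl)))
      have hyW : pt r ∈ W := by
        have : pt r ∈ Set.range hW.fromSpec := ⟨_, rfl⟩
        rwa [hW.range_fromSpec] at this
      have hηW : η ∈ W := hηy.mem_open W.2 hyW
      obtain ⟨q, hq⟩ : η ∈ Set.range hW.fromSpec := by rw [hW.range_fromSpec]; exact hηW
      rw [← hq] at hηy
      have h5 : q.asIdeal ≤ r.1 :=
        (PrimeSpectrum.le_iff_specializes q ⟨r.1, r.2.1.1⟩).mpr (hW.fromSpec.isOpenEmbedding.isInducing.specializes_iff.mp hηy)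
      have hqr : q = (⟨r.1, r.2.1.1⟩ : PrimeSpectrum Γ(S, W)) :=
        PrimeSpectrum.ext (le_antisymm h5 (r.2.2 ⟨q.isPrime, bot_le⟩ h5))
      intro z hz
      have h2 := hη.def ▸ subset_closure hz
      rwa [← hq, hqr] at h2
    refine Set.finite_coe_iff.mp (Finite.of_injective (fun r => (⟨_, hpt r⟩ : irreducibleComponents (S : Type u))) ?_)
    intro r r' h
    have h3 := IsGenericPoint.eq (congrArg Subtype.val h : closure ({pt r} : Set S) = closure {pt r'}) rfl
    exact Subtype.ext (congrArg PrimeSpectrum.asIdeal (hW.fromSpec.isOpenEmbedding.injective h3))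
  set q := (hV.primeIdealOf ⟨x, hxV⟩).asIdeal with hq
  have hbij : Function.Bijective
      (Localization.localRingHom (q.comap (algebraMap Γ(S, W) Γ(X, V))) q (algebraMap Γ(S, W) Γ(X, V)) rfl) := by
    have hp : (hW.primeIdealOf ⟨f x, hVW hxV⟩).asIdeal = q.comap (algebraMap Γ(S, W) Γ(X, V)) :=
      congr($(IsAffineOpen.comap_primeIdealOf_appLE W hW V hV hVW hxV).1).symm
    have hiso : (MorphismProperty.isomorphisms CommRingCat) (f.stalkMap x) := hx
    rw [(MorphismProperty.isomorphisms CommRingCat).arrow_mk_iso_iff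
      (IsAffineOpen.arrowStalkMapIso f W hW V hV hVW hxV)] at hiso
    have hb := (ConcreteCategory.isIso_iff_bijective _).mp hiso
    have key : ∀ (p : Ideal Γ(S, W)) [p.IsPrime] (h : p = q.comap (algebraMap Γ(S, W) Γ(X, V))),
        Function.Bijective (Localization.localRingHom p q (algebraMap Γ(S, W) Γ(X, V)) h) →
        Function.Bijective (Localization.localRingHom (q.comap (algebraMap Γ(S, W) Γ(X, V))) q
          (algebraMap Γ(S, W) Γ(X, V)) rfl) := by
      intro p _ h hb'
      subst h
      exact hb'
    exact key _ hp hb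
  obtain ⟨g, hg, c, hc⟩ := LocIso.exists_isLocalization_away hmin q hbij
  refine ⟨X.basicOpen g, ?_, ?_⟩
  · have : hV.primeIdealOf ⟨x, hxV⟩ ∈ hV.fromSpec ⁻¹ᵁ X.basicOpen g := by
      rw [hV.fromSpec_preimage_basicOpen]
      exact hg
    exact Eq.mp (congrArg (· ∈ X.basicOpen g) (hV.fromSpec_primeIdealOf ⟨x, hxV⟩)) this
  · have hU := hV.basicOpen g
    have hUW : X.basicOpen g ≤ f ⁻¹ᵁ W := (X.basicOpen_le g).trans hVW
    letI algBC : Algebra Γ(X, V) Γ(X, X.basicOpen g) := (X.presheaf.map (homOfLE (X.basicOpen_le g)).op).hom.toAlgebra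
    haveI : IsLocalization.Away g Γ(X, X.basicOpen g) := hV.isLocalization_basicOpen g
    letI algAC : Algebra Γ(S, W) Γ(X, X.basicOpen g) := (f.appLE W (X.basicOpen g) hUW).hom.toAlgebra
    haveI : IsScalarTower Γ(S, W) Γ(X, V) Γ(X, X.basicOpen g) := IsScalarTower.of_algebraMap_eq fun r => by
      simp only [RingHom.algebraMap_toAlgebra]
      exact congr($(f.appLE_map hVW (homOfLE (X.basicOpen_le g)).op) r).symm
    haveI : IsLocalization.Away c Γ(X, X.basicOpen g) :=
      IsLocalization.isLocalization_of_algEquiv (Submonoid.powers c)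
        ((IsLocalization.algEquiv (Submonoid.powers g) (Localization.Away g) Γ(X, X.basicOpen g)).restrictScalars Γ(S, W))
    haveI := IsOpenImmersion.of_isLocalization (S := Γ(X, X.basicOpen g)) c
    have key : hU.isoSpec.inv ≫ (X.basicOpen g).ι ≫ f =
        Spec.map (CommRingCat.ofHom (algebraMap Γ(S, W) Γ(X, X.basicOpen g))) ≫ hW.fromSpec := by
      rw [← Category.assoc, hU.isoSpec_inv_ι]
      exact (IsAffineOpen.SpecMap_appLE_fromSpec f hW hU hUW).symm
    rw [← Iso.hom_inv_id_assoc hU.isoSpec ((X.basicOpen g).ι ≫ f), key]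
    infer_instance

end Groth.Agent.S7659
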