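import Groth.Statements.S7661
-- import your own Groth.Agent.* helpers here

set_option autoImplicit false
universe u
open CategoryTheory CategoryTheory.Limits AlgebraicGeometry
open Variety

namespace Groth.Agent.S7661

/-- Let A be a ring, I an ideal, p_1, …, p_r prime ideals with I ⊄ p_i for all i, and let f̄ ∈ A/I. Then
f̄ lifts to an element f ∈ A with f ∉ p_i for all i. -/
theorem result (A : Type u) [CommRing A] (I : Ideal A)
    (s : Finset (Ideal A)) (hs : ∀ p ∈ s, p.IsPrime) (hI : ∀ p ∈ s, ¬ I ≤ p) (fbar : A ⧸ I) :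
    ∃ f : A, Ideal.Quotient.mk I f = fbar ∧ ∀ p ∈ s, f ∉ p := by
  classical
  obtain ⟨f0, rfl⟩ := Ideal.Quotient.mk_surjective fbar
  let smax := s.filter (fun p => ∀ q ∈ s, p ≤ q → p = q)
  let bad := smax.filter (fun p => f0 ∈ p)
  let good := smax.filter (fun p => f0 ∉ p)
  have hnot : ¬ ((I ⊓ good.inf id : Ideal A) : Set A) ⊆ ⋃ p ∈ (bad : Set (Ideal A)), (p : Set A) := by
    intro hsub
    rw [Ideal.subset_union_prime (s := bad) (f := fun p : Ideal A => p) ⊥ ⊥ (fun p hp _ _ => hs p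
      (Finset.mem_filter.mp (Finset.mem_filter.mp hp).1).1)] at hsub
    obtain ⟨q, hq, hle⟩ := hsub
    obtain ⟨hqmax, hfq⟩ := Finset.mem_filter.mp hq
    obtain ⟨hqs, hqm⟩ := Finset.mem_filter.mp hqmax
    rcases ((hs q hqs).inf_le).mp hle with h | h
    · exact hI q hqs h
    · obtain ⟨p, hp, hpq⟩ := ((hs q hqs).inf_le').mp h
      obtain ⟨hpmax, hfp⟩ := Finset.mem_filter.mp hp
      exact hfp (((Finset.mem_filter.mp hpmax).2 q hqs hpq : p = q) ▸ hfq)
  obtain ⟨i, hi, hi'⟩ := Set.not_subset.mp hnot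
  refine ⟨f0 + i, by simp [Ideal.Quotient.eq_zero_iff_mem.mpr hi.1], fun p hp => ?_⟩
  obtain ⟨q, hpq, hq, hqm⟩ := (s : Set (Ideal A)).toFinite.exists_le_maximal (Finset.mem_coe.mpr hp)
  have hqmax : q ∈ smax := Finset.mem_filter.mpr ⟨hq, fun r hr hqr => le_antisymm hqr (hqm hr hqr)⟩
  intro hmem
  have hmem' : f0 + i ∈ q := hpq hmem
  by_cases hf : f0 ∈ q
  · exact hi' (Set.mem_biUnion (Finset.mem_filter.mpr ⟨hqmax, hf⟩) ((q.add_mem_iff_right hf).mp hmem'))
  · have hiq : i ∈ q := (Finset.inf_le (Finset.mem_filter.mpr ⟨hqmax, hf⟩) : good.inf id ≤ id q) hi.2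
    exact hf ((q.add_mem_iff_left hiq).mp hmem')

end Groth.Agent.S7661
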