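import Groth.Statements.S7663
import Groth.Agent.OneDim.Semilocal

set_option autoImplicit false
universe u
open CategoryTheory CategoryTheory.Limits AlgebraicGeometry
open Variety

namespace Groth.Agent.S7663

/-- Let K be a field and A, B ⊆ K subrings with fraction field K, with A Noetherian of dimension one.
Then A ⊗ B → K is not surjective (equivalently, the subring generated by A and B is not K) if and
only if some discrete valuation ring O ⊆ K with fraction field K contains both A and B. -/
theorem result (K : Type u) [Field K]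
    (A : Subring K) [IsFractionRing A K] (B : Subring K) [IsFractionRing B K] [IsNoetherianRing A] (hdim : ringKrullDim A = 1) :
    A ⊔ B ≠ ⊤ ↔ ∃ O : ValuationSubring K, IsDiscreteValuationRing O ∧ A ≤ O.toSubring ∧ B ≤ O.toSubring := by
  haveI : Ring.KrullDimLE 1 A := Ring.krullDimLE_iff.mpr hdim.le
  constructor
  · intro hne
    set R := A ⊔ B with hRdef
    have hAR : A ≤ R := le_sup_left
    have hnf : ¬ IsField R := fun hf => hne (eq_top_iff.mpr fun z _ => by
      obtain ⟨a, b, rfl⟩ := IsLocalization.exists_mk'_eq (nonZeroDivisors A) z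
      have hb : ((b : A) : K) ≠ 0 := fun h0 => nonZeroDivisors.coe_ne_zero b (Subtype.ext h0)
      obtain ⟨c, hc⟩ := hf.mul_inv_cancel (a := ⟨((b : A) : K), hAR (b : A).2⟩)
        (fun h => hb (congrArg Subtype.val h))
      have hc' : ((b : A) : K) * (c : K) = 1 := congrArg Subtype.val hc
      rw [IsFractionRing.mk'_eq_div]
      change (a : K) / ((b : A) : K) ∈ R
      rw [div_eq_mul_inv, ← eq_inv_of_mul_eq_one_right hc']
      exact R.mul_mem (hAR a.2) c.2)
    obtain ⟨P, hP⟩ := Ideal.exists_maximal R
    obtain ⟨O, hRO, hO, -⟩ :=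
      OneDim.exists_valuationSubring_dominating R P (Ring.ne_bot_of_isMaximal_of_not_isField hP hnf)
    exact ⟨O, OneDim.isDiscreteValuationRing_of_le A (hAR.trans hRO) hO, hAR.trans hRO,
      le_sup_right.trans hRO⟩
  · rintro ⟨O, hO, hA, hB⟩ htop
    apply IsDiscreteValuationRing.not_isField O
    have hmem : ∀ z : K, z ∈ O := fun z => (sup_le hA hB) (htop ▸ Subring.mem_top z)
    refine ⟨⟨0, 1, zero_ne_one⟩, mul_comm, fun {x} hx => ?_⟩
    exact ⟨⟨(x : K)⁻¹, hmem _⟩, Subtype.ext (mul_inv_cancel₀ (fun h0 => hx (Subtype.ext h0)))⟩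

end Groth.Agent.S7663
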