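import Groth.Statements.S7687
import Groth.Agent.OneDim.Gluing

set_option autoImplicit false
universe u
open CategoryTheory CategoryTheory.Limits AlgebraicGeometry
open Variety

namespace Groth.Agent.S7687

/-- Let K be a field and A, B ⊆ K Noetherian semi-local domains of dimension one with fraction field K
such that A ⊗ B → K is surjective, and R = A ∩ B. Then Spec A and Spec B each map to Spec R by an
open immersion, Spec R is the union of the two images, and the natural map A ⊗_R B → K is an
isomorphism. -/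
theorem result (K : Type u) [Field K]
    (A : Subring K) [IsFractionRing A K] (B : Subring K) [IsFractionRing B K] [IsNoetherianRing A] [IsNoetherianRing B]
    (hdimA : ringKrullDim A = 1) (hdimB : ringKrullDim B = 1)
    (hslA : Finite (MaximalSpectrum A)) (hslB : Finite (MaximalSpectrum B)) (hgen : A ⊔ B = ⊤) :
    IsOpenImmersion (Spec.map (CommRingCat.ofHom (Subring.inclusion (inf_le_left : A ⊓ B ≤ A)))) ∧
      IsOpenImmersion (Spec.map (CommRingCat.ofHom (Subring.inclusion (inf_le_right : A ⊓ B ≤ B)))) ∧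
      Set.range (Spec.map (CommRingCat.ofHom (Subring.inclusion (inf_le_left : A ⊓ B ≤ A)))).base ∪
        Set.range (Spec.map (CommRingCat.ofHom (Subring.inclusion (inf_le_right : A ⊓ B ≤ B)))).base = Set.univ ∧
      IsPushout (CommRingCat.ofHom (Subring.inclusion (inf_le_left : A ⊓ B ≤ A)))
        (CommRingCat.ofHom (Subring.inclusion (inf_le_right : A ⊓ B ≤ B)))
        (CommRingCat.ofHom A.subtype) (CommRingCat.ofHom B.subtype) := by
  haveI : ∀ i : Fin 2, IsNoetherianRing (![A, B] i : Subring K) := Fin.forall_fin_two.mpr ⟨‹_›, ‹_›⟩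
  haveI : ∀ i : Fin 2, IsFractionRing (![A, B] i : Subring K) K := Fin.forall_fin_two.mpr ⟨‹_›, ‹_›⟩
  have hdim : ∀ i : Fin 2, ringKrullDim (![A, B] i : Subring K) = 1 := Fin.forall_fin_two.mpr ⟨hdimA, hdimB⟩
  obtain ⟨t, ht⟩ := OneDim.exists_isSeparating (A := ![A, B]) hdim (Fin.forall_fin_two.mpr ⟨hslA, hslB⟩)
    (by
      intro i j hij
      fin_cases i <;> fin_cases j <;> first | exact absurd rfl hij | exact hgen | exact (sup_comm B A).trans hgen)
  have hR : ∀ z, z ∈ A ⊓ B ↔ ∀ i : Fin 2, z ∈ (![A, B] i : Subring K) := fun z => by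
    rw [Fin.forall_fin_two]; exact Iff.rfl
  have h : ∀ i : Fin 2, A ⊓ B ≤ (![A, B] i : Subring K) := Fin.forall_fin_two.mpr ⟨inf_le_left, inf_le_right⟩
  refine ⟨OneDim.isOpenImmersion hR ht hdim (i := 0) (h 0), OneDim.isOpenImmersion hR ht hdim (i := 1) (h 1),
    ?_, OneDim.isPushout hR ht hdim (i := 0) (j := 1) (by decide) (h 0) (h 1)⟩
  refine Set.eq_univ_of_forall fun m => ?_
  obtain ⟨i, hi⟩ := Set.mem_iUnion.mp ((OneDim.iUnion_range_eq hR ht hdim h).ge (Set.mem_univ m))
  fin_cases i
  · exact Or.inl hi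
  · exact Or.inr hi

end Groth.Agent.S7687
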