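import Groth.Statements.S7664
import Groth.Agent.S7687
import Groth.Agent.OneDim.Gluing

set_option autoImplicit false
universe u
open CategoryTheory CategoryTheory.Limits AlgebraicGeometry
open Variety

namespace Groth.Agent.S7664

/-- Let K be a field, A ⊆ K a Noetherian semi-local domain of dimension one and B ⊆ K a discrete
valuation ring, both with fraction field K, and R = A ∩ B. (a) If some unit of A does not lie in R,
then Spec A and Spec B each map to Spec R by an open immersion, Spec R is the union of the two
images, and the natural map A ⊗_R B → K is an isomorphism. (b) If every unit of A lies in R, then B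
dominates the local ring of A at one of its maximal ideals (A ⊆ B and the maximal ideal of B
contracts to a maximal ideal of A) and A ⊗ B → K is not surjective. -/
theorem result (K : Type u) [Field K]
    (A : Subring K) [IsFractionRing A K] [IsNoetherianRing A] (hdim : ringKrullDim A = 1) (hsl : Finite (MaximalSpectrum A))
    (B : ValuationSubring K) [IsDiscreteValuationRing B] :
    ((∃ u : A, IsUnit u ∧ (u : K) ∉ B) →
      IsOpenImmersion (Spec.map (CommRingCat.ofHom (Subring.inclusion (inf_le_left : A ⊓ B.toSubring ≤ A)))) ∧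
      IsOpenImmersion (Spec.map (CommRingCat.ofHom (Subring.inclusion (inf_le_right : A ⊓ B.toSubring ≤ B.toSubring)))) ∧
      Set.range (Spec.map (CommRingCat.ofHom (Subring.inclusion (inf_le_left : A ⊓ B.toSubring ≤ A)))).base ∪
        Set.range (Spec.map (CommRingCat.ofHom (Subring.inclusion (inf_le_right : A ⊓ B.toSubring ≤ B.toSubring)))).base = Set.univ ∧
      IsPushout (CommRingCat.ofHom (Subring.inclusion (inf_le_left : A ⊓ B.toSubring ≤ A)))
        (CommRingCat.ofHom (Subring.inclusion (inf_le_right : A ⊓ B.toSubring ≤ B.toSubring)))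
        (CommRingCat.ofHom A.subtype) (CommRingCat.ofHom B.toSubring.subtype)) ∧
    ((∀ u : A, IsUnit u → (u : K) ∈ B) →
      (∃ h : A ≤ B.toSubring,
        (Ideal.comap (Subring.inclusion h) (IsLocalRing.maximalIdeal B)).IsMaximal) ∧ A ⊔ B.toSubring ≠ ⊤) := by
  haveI := OneDim.krullDimLE_one_of_eq hdim
  have hBne : B ≠ ⊤ := by
    rintro rfl
    apply IsDiscreteValuationRing.not_isField (⊤ : ValuationSubring K)
    refine ⟨⟨0, 1, zero_ne_one⟩, mul_comm, fun {x} hx => ?_⟩
    exact ⟨⟨(x : K)⁻¹, Subsemiring.mem_top _⟩, Subtype.ext (mul_inv_cancel₀ (fun h0 => hx (Subtype.ext h0)))⟩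
  haveI : IsFractionRing B.toSubring K := inferInstanceAs (IsFractionRing B K)
  haveI : IsNoetherianRing B.toSubring := inferInstanceAs (IsNoetherianRing B)
  haveI : Ring.KrullDimLE 1 B.toSubring := inferInstanceAs (Ring.KrullDimLE 1 B)
  constructor
  · rintro ⟨u, hu, huB⟩
    have hsup : A ⊔ B.toSubring = ⊤ := by
      by_contra hne
      set W := A ⊔ B.toSubring with hW
      have hBW : B.toSubring ≤ W := le_sup_right
      let O : ValuationSubring K :=
        { toSubring := W, mem_or_inv_mem' := fun z => (B.mem_or_inv_mem z).imp (fun h => hBW h) (fun h => hBW h) }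
      have hO : O ≠ ⊤ := fun h => hne (congrArg ValuationSubring.toSubring h :)
      have hcentre := IsLocalRing.eq_maximalIdeal (R := B) (OneDim.isMaximal_centre B.toSubring (O := O) hBW hO)
      have hu1 : (u : K)⁻¹ ∈ B.nonunits := OneDim.inv_mem_nonunits_of_notMem B huB
      obtain ⟨h1, h2⟩ := B.mem_nonunits_iff_exists_mem_maximalIdeal.mp hu1
      rw [← hcentre] at h2
      have h3 : (u : K)⁻¹ ∈ O.nonunits := O.coe_mem_nonunits_iff.mpr h2
      exact OneDim.notMem_of_mem_nonunits_inv O (fun h0 => hu.ne_zero (Subtype.ext h0)) h3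
        ((le_sup_left : A ≤ W) u.2)
    have hdimB : ringKrullDim B.toSubring = 1 :=
      IsPrincipalIdealRing.ringKrullDim_eq_one B (IsDiscreteValuationRing.not_isField B)
    haveI : Finite (MaximalSpectrum B.toSubring) :=
      Finite.of_injective (fun _ => ()) fun a b _ => MaximalSpectrum.ext
        ((IsLocalRing.eq_maximalIdeal (R := B) a.isMaximal).trans (IsLocalRing.eq_maximalIdeal (R := B) b.isMaximal).symm)
    exact Groth.Agent.S7687.result K A B.toSubring hdim hdimB hsl inferInstance hsup
  · intro hunits
    have hAB : A ≤ B.toSubring := by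
      by_contra hcon
      obtain ⟨u, hu, hu0, huinv, huB⟩ := OneDim.exists_unit_notMem A hsl {B}
        (fun O hO y hy w => by
          rw [Finset.mem_singleton] at hO
          subst hO
          exact OneDim.eventually_pow_mul_mem_nonunits O.toSubring le_rfl hBne hy w)
        (fun O hO => by rw [Finset.mem_singleton] at hO; subst hO; exact hcon)
      exact OneDim.notMem_of_mem_nonunits_inv B hu0 (huB B (Finset.mem_singleton_self B))
        (hunits ⟨u, hu⟩ (OneDim.isUnit_of_inv_mem hu hu0 huinv))
    refine ⟨⟨hAB, OneDim.isMaximal_centre A hAB hBne⟩, fun htop => hBne ?_⟩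
    exact eq_top_iff.mpr fun z _ => (sup_le hAB le_rfl) (htop ▸ Subring.mem_top z : z ∈ A ⊔ B.toSubring)

end Groth.Agent.S7664
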