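import Groth.Statements.S7666
import Groth.Agent.OneDim.Basic

set_option autoImplicit false
universe u
open CategoryTheory CategoryTheory.Limits AlgebraicGeometry
open Variety

namespace Groth.Agent.S7666

/-- Let A be a one-dimensional Noetherian local ring and L = ∏ A_p, the product over the minimal primes
of A. If a_1, a_2 ∈ m_A have the same image in L, then a_1 and a_2 have equal n-th powers for some
positive integer n. -/
theorem result (A : Type u) [CommRing A]
    [IsLocalRing A] [IsNoetherianRing A] (hdim : ringKrullDim A = 1)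
    (a₁ a₂ : A) (h₁ : a₁ ∈ IsLocalRing.maximalIdeal A) (h₂ : a₂ ∈ IsLocalRing.maximalIdeal A)
    (heq : ∀ p : {p : PrimeSpectrum A // p.asIdeal ∈ minimalPrimes A},
      algebraMap A (Localization.AtPrime p.1.asIdeal) a₁ = algebraMap A (Localization.AtPrime p.1.asIdeal) a₂) :
    ∃ n : ℕ, 0 < n ∧ a₁ ^ n = a₂ ^ n := by
  obtain ⟨f, hfm, hf⟩ := OneDim.exists_notMem_minimalPrimes hdim
  have h0 : algebraMap A (Localization.Away f) (a₁ - a₂) = 0 := by
    apply (OneDim.awayToPi_bijective hdim.le hfm hf).1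
    rw [map_zero, AlgHom.commutes]
    funext p
    change algebraMap A (Localization.AtPrime p.1.asIdeal) (a₁ - a₂) = 0
    rw [map_sub, heq p, sub_self]
  obtain ⟨⟨_, k, rfl⟩, hk⟩ := (IsLocalization.map_eq_zero_iff (Submonoid.powers f) _ _).mp h0
  obtain ⟨N, hN⟩ := (OneDim.radical_span_eq_of_notMem hdim.le hfm hf ▸
    Ideal.exists_radical_pow_le_of_fg (Ideal.span {f}) (IsNoetherian.noetherian _) :
      ∃ N, IsLocalRing.maximalIdeal A ^ N ≤ Ideal.span {f})
  refine ⟨N * k + 1, Nat.succ_pos _, ?_⟩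
  rw [← sub_eq_zero, ← geom_sum₂_mul]
  have hmem : (∑ i ∈ Finset.range (N * k + 1), a₁ ^ i * a₂ ^ (N * k + 1 - 1 - i)) ∈
      Ideal.span {f ^ k} := by
    rw [← Ideal.span_singleton_pow]
    refine Ideal.sum_mem _ fun i hi => ?_
    refine (Ideal.pow_right_mono hN k) ?_
    rw [← pow_mul]
    have := Ideal.mul_mem_mul (Ideal.pow_mem_pow h₁ i) (Ideal.pow_mem_pow h₂ (N * k - i))
    rw [← pow_add] at this
    have hi' := Finset.mem_range.mp hi
    rwa [show i + (N * k - i) = N * k by omega, show N * k - i = N * k + 1 - 1 - i by omega] at this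
  obtain ⟨c, hc⟩ := Ideal.mem_span_singleton'.mp hmem
  rw [← hc, mul_assoc, hk, mul_zero]

end Groth.Agent.S7666
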