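import Groth.Statements.S7667
import Groth.Agent.OneDim.Basic

set_option autoImplicit false
universe u
open CategoryTheory CategoryTheory.Limits AlgebraicGeometry
open Variety

namespace Groth.Agent.S7667

/-- Let A be a one-dimensional Noetherian local ring, L the product of the localizations A_p over its
minimal primes p, and I the intersection of those primes (the nilradical of A). If f ∈ L equals i +
a with a in the maximal ideal of A and i ∈ I·L, then for some positive integer n, f^n belongs to the
subring of L obtained as the image of the structure map from A. -/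
theorem result (A : Type u) [CommRing A]
    [IsLocalRing A] [IsNoetherianRing A] (hdim : ringKrullDim A = 1)
    (a : A) (ha : a ∈ IsLocalRing.maximalIdeal A)
    (i : ∀ p : {p : PrimeSpectrum A // p.asIdeal ∈ minimalPrimes A}, Localization.AtPrime p.1.asIdeal)
    (hi : i ∈ (nilradical A).map (algebraMap A (∀ p : {p : PrimeSpectrum A // p.asIdeal ∈ minimalPrimes A}, Localization.AtPrime p.1.asIdeal))) :
    ∃ n : ℕ, 0 < n ∧ (i + algebraMap A (∀ p : {p : PrimeSpectrum A // p.asIdeal ∈ minimalPrimes A}, Localization.AtPrime p.1.asIdeal) a) ^ n ∈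
      (algebraMap A (∀ p : {p : PrimeSpectrum A // p.asIdeal ∈ minimalPrimes A}, Localization.AtPrime p.1.asIdeal)).range := by
  obtain ⟨f, hfm, hf⟩ := OneDim.exists_notMem_minimalPrimes hdim
  obtain ⟨z, hz⟩ := (OneDim.awayToPi_bijective hdim.le hfm hf).2 i
  obtain ⟨⟨b, _, k, rfl⟩, hb⟩ := IsLocalization.surj (Submonoid.powers f) z
  have hb' : i * algebraMap A (∀ p : {p : PrimeSpectrum A // p.asIdeal ∈ minimalPrimes A}, Localization.AtPrime p.1.asIdeal) f ^ k = algebraMap A (∀ p : {p : PrimeSpectrum A // p.asIdeal ∈ minimalPrimes A}, Localization.AtPrime p.1.asIdeal) b := by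
    have h := congrArg (OneDim.awayToPi hf) hb
    rw [map_mul, hz, AlgHom.commutes, AlgHom.commutes, map_pow] at h
    exact h
  obtain ⟨K, hK⟩ : IsNilpotent i := by
    refine mem_nilradical.mp ((Ideal.map_le_iff_le_comap.mpr fun x hx => ?_) hi)
    exact mem_nilradical.mpr ((mem_nilradical.mp hx).map _)
  obtain ⟨M, hM⟩ : ∃ M, a ^ M ∈ Ideal.span {f} := by
    rw [OneDim.radical_span_eq_of_notMem hdim.le hfm hf] at ha
    exact ha
  obtain ⟨c, hc⟩ := Ideal.mem_span_singleton'.mp hM
  refine ⟨K + M * (k * K) + 1, Nat.succ_pos _, ?_⟩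
  rw [add_pow]
  refine Subring.sum_mem _ fun j _ => Subring.mul_mem _ ?_ (natCast_mem _ _)
  rcases le_or_gt K j with h | h
  · rw [pow_eq_zero_of_le h hK, zero_mul]
    exact Subring.zero_mem _
  · have hkj : k * j ≤ k * K := Nat.mul_le_mul_left k h.le
    refine ⟨b ^ j * (c ^ (k * K) * f ^ (k * K - k * j) * a ^ (K + M * (k * K) + 1 - j - M * (k * K))), ?_⟩
    have hsplit : K + M * (k * K) + 1 - j = M * (k * K) + (K + M * (k * K) + 1 - j - M * (k * K)) := by omega
    conv_rhs => rw [hsplit, pow_add, pow_mul, ← map_pow (algebraMap A (∀ p : {p : PrimeSpectrum A // p.asIdeal ∈ minimalPrimes A}, Localization.AtPrime p.1.asIdeal)) a M, ← hc, map_mul, mul_pow,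
      show algebraMap A (∀ p : {p : PrimeSpectrum A // p.asIdeal ∈ minimalPrimes A}, Localization.AtPrime p.1.asIdeal) f ^ (k * K) = algebraMap A (∀ p : {p : PrimeSpectrum A // p.asIdeal ∈ minimalPrimes A}, Localization.AtPrime p.1.asIdeal) f ^ (k * j) * algebraMap A (∀ p : {p : PrimeSpectrum A // p.asIdeal ∈ minimalPrimes A}, Localization.AtPrime p.1.asIdeal) f ^ (k * K - k * j) by
        rw [← pow_add, Nat.add_sub_cancel' hkj]]
    rw [map_mul, map_mul, map_mul, map_pow, map_pow, map_pow, map_pow, ← hb', mul_pow, ← pow_mul]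
    ring

end Groth.Agent.S7667
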