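import Groth.Statements.S7668
-- import your own Groth.Agent.* helpers here

set_option autoImplicit false
universe u
open CategoryTheory CategoryTheory.Limits AlgebraicGeometry
open Variety

namespace Groth.Agent.S7668

/-- Let A be a ring, p_1, …, p_r primes of A and S = A ∖ ⋃ p_i. Then S is a multiplicative subset, S⁻¹A
is semi-local, and contraction to A is a bijection from the maximal ideals of S⁻¹A onto the maximal
elements of {p_1, …, p_r}. -/
theorem result (A : Type u) [CommRing A]
    (r : ℕ) (p : Fin r → PrimeSpectrum A) :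
    Finite (MaximalSpectrum (Localization (⨅ i, (p i).asIdeal.primeCompl))) ∧
      Set.BijOn (fun m : Ideal (Localization (⨅ i, (p i).asIdeal.primeCompl)) =>
          m.comap (algebraMap A (Localization (⨅ i, (p i).asIdeal.primeCompl))))
        {m | m.IsMaximal}
        {q | q ∈ Set.range (fun i => (p i).asIdeal) ∧
          ∀ j, q ≤ (p j).asIdeal → q = (p j).asIdeal} := by
  classical
  set S := ⨅ i, (p i).asIdeal.primeCompl with hS
  have hmemS : ∀ x, x ∈ S ↔ ∀ i, x ∉ (p i).asIdeal := fun x => by simp [hS, Submonoid.mem_iInf]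
  have hdisj : ∀ i, Disjoint (S : Set A) (p i).asIdeal := fun i =>
    Set.disjoint_left.mpr fun x hx => (hmemS x).mp hx i
  have hsub : ∀ q : Ideal A, Disjoint (S : Set A) q → ∃ i, q ≤ (p i).asIdeal := by
    intro q hq
    have : (q : Set A) ⊆ ⋃ i ∈ ((Finset.univ : Finset (Fin r)) : Set (Fin r)), ((p i).asIdeal : Set A) := by
      intro x hx
      have := Set.disjoint_right.mp hq hx
      simp only [SetLike.mem_coe, hmemS, not_forall, not_not] at this
      simpa using this
    rcases Nat.eq_zero_or_pos r with rfl | hr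
    · have h0 := this q.zero_mem
      simp at h0
    · rw [Ideal.subset_union_prime ⟨0, hr⟩ ⟨0, hr⟩ (fun i _ _ _ => (p i).2)] at this
      obtain ⟨i, -, hi⟩ := this
      exact ⟨i, hi⟩
  have key : ∀ m : Ideal (Localization S), m.IsMaximal →
      ∃ i, m.comap (algebraMap A (Localization S)) = (p i).asIdeal ∧
        ∀ j, (p i).asIdeal ≤ (p j).asIdeal → (p i).asIdeal = (p j).asIdeal := by
    intro m hm
    obtain ⟨hcp, hcd⟩ := (IsLocalization.isPrime_iff_isPrime_disjoint S _ m).mp hm.isPrime
    obtain ⟨i, hi⟩ := hsub _ hcd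
    have hple : ∀ j, m.comap (algebraMap A (Localization S)) ≤ (p j).asIdeal →
        m.comap (algebraMap A (Localization S)) = (p j).asIdeal := by
      intro j hj
      have hne : ((p j).asIdeal.map (algebraMap A (Localization S))) ≠ ⊤ :=
        (IsLocalization.isPrime_of_isPrime_disjoint S _ _ (p j).2 (hdisj j)).ne_top
      have hle : m ≤ (p j).asIdeal.map (algebraMap A (Localization S)) := by
        rw [← IsLocalization.map_comap S (Localization S) m]
        exact Ideal.map_mono hj
      rw [hm.eq_of_le hne hle]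
      exact IsLocalization.under_map_of_isPrime_disjoint S (Localization S) (p j).2 (hdisj j)
    exact ⟨i, hple i hi, fun j hj => (hple i hi).symm.trans (hple j (hi.trans hj))⟩
  have hbij : Set.BijOn (fun m : Ideal (Localization S) => m.comap (algebraMap A (Localization S)))
      {m | m.IsMaximal}
      {q | q ∈ Set.range (fun i => (p i).asIdeal) ∧ ∀ j, q ≤ (p j).asIdeal → q = (p j).asIdeal} := by
    refine ⟨fun m hm => ?_, fun m hm n hn h => ?_, ?_⟩
    · obtain ⟨i, hi, hi'⟩ := key m hm
      simp only [Set.mem_setOf_eq, hi]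
      exact ⟨⟨i, rfl⟩, hi'⟩
    · rw [← IsLocalization.map_comap S (Localization S) m, ← IsLocalization.map_comap S (Localization S) n]
      exact congrArg _ h
    · rintro q ⟨⟨i, rfl⟩, hmax⟩
      have hpr := IsLocalization.isPrime_of_isPrime_disjoint S (Localization S) _ (p i).2 (hdisj i)
      obtain ⟨m, hm, hle⟩ := Ideal.exists_le_maximal _ hpr.ne_top
      obtain ⟨j, hj, -⟩ := key m hm
      refine ⟨m, hm, ?_⟩
      have h1 : (p i).asIdeal ≤ (p j).asIdeal := hj ▸ Ideal.map_le_iff_le_comap.mp hle
      exact hj.trans (hmax j h1).symm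
  refine ⟨?_, hbij⟩
  have hfin : {m : Ideal (Localization S) | m.IsMaximal}.Finite :=
    Set.Finite.of_finite_image
      ((Set.finite_range (fun i => (p i).asIdeal)).subset (by rintro _ ⟨m, hm, rfl⟩; exact (hbij.mapsTo hm).1))
      hbij.injOn
  haveI := hfin.to_subtype
  exact Finite.of_injective
    (fun m : MaximalSpectrum (Localization S) => (⟨m.asIdeal, m.isMaximal⟩ : {m : Ideal (Localization S) | m.IsMaximal}))
    (fun a b h => MaximalSpectrum.ext (congrArg Subtype.val h :))

end Groth.Agent.S7668
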