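import Groth.Statements.S7669
import Groth.Agent.InvExt.Main
import Groth.Agent.InvExt.Nbhd
-- import your own Groth.Agent.* helpers here

set_option linter.style.haveILetI false
set_option backward.isDefEq.respectTransparency false
set_option backward.isDefEq.respectTransparency.types false

set_option autoImplicit false
universe u
open CategoryTheory CategoryTheory.Limits AlgebraicGeometry
open Variety

namespace Groth.Agent.S7669

open Groth.Agent TopologicalSpace Groth.Agent.InvExt Groth.Agent.QCoh Groth.Agent.Props.GenLocus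
  Groth.Agent.Props.GenPull

variable (X : Scheme.{u}) (U : X.Opens) [QuasiCompact U.ι]
  (hdisc : DiscreteTopology ↥((U : Set X)ᶜ))
  (hloc : ∀ x : X, x ∉ U → IsNoetherianRing (X.presheaf.stalk x) ∧ ringKrullDim (X.presheaf.stalk x) ≤ 1)

include hdisc hloc in
lemma exists_chart' (x : X) (hx : x ∉ U) (M : X.Modules)
    (hM : ∀ z ∈ U, ∃ (O : X.Opens) (g : Γ(M, O)), z ∈ O ∧ O ≤ U ∧ IsGen M O g) :
    ∃ (W : X.Opens), x ∈ W ∧ (∀ z ∈ W, z ∉ U → z = x) ∧
      (∃ f : Γ(X, W), X.basicOpen f = U ⊓ W) ∧ ∃ g : Γ(M, U ⊓ W), IsGen M (U ⊓ W) g := by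
  obtain ⟨O, hO, hO'⟩ := isOpen_induced_iff.mp (isOpen_discrete ({⟨x, hx⟩} : Set ↥((U : Set X)ᶜ)))
  refine exists_chart U x hx ⟨⟨O, hO⟩, ?_, fun z hz hzU => ?_⟩ (hloc x hx).1 (hloc x hx).2 M hM
  · exact (show (⟨x, hx⟩ : ↥((U : Set X)ᶜ)) ∈ Subtype.val ⁻¹' O by rw [hO']; rfl)
  · have : (⟨z, hzU⟩ : ↥((U : Set X)ᶜ)) ∈ Subtype.val ⁻¹' O := hz
    rw [hO'] at this
    exact congrArg Subtype.val this

/-- The indices: `none` is the open `U` (or points of `U`), the rest are boundary points. -/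
theorem exists_section (W : {x : X // x ∉ U} → X.Opens) (hxW : ∀ x, x.1 ∈ W x)
    (hW : ∀ x, ∀ z ∈ W x, z ∉ U → z = x.1) (f : ∀ x, Γ(X, W x)) (hf : ∀ x, X.basicOpen (f x) = U ⊓ W x) :
    ∃ (L : X.Modules) (s : Coh.structureModule X ⟶ L), PicF.IsInvertible L ∧ CohB1.genLocus L s = U := by
  classical
  let W' : Option {x : X // x ∉ U} → X.Opens := fun i => i.elim U W
  let σ : ∀ i, Γ(X, W' i) := fun i => match i with
    | none => (1 : Γ(X, U))
    | some x => f x
  have hunit : ∀ i (V : X.Opens) (h : V ≤ W' i), V ≤ U → IsUnit (rres h (σ i)) := by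
    rintro (_ | x) V h hV
    · exact (map_one (rres h).hom).symm ▸ isUnit_one
    · refine RingedSpace.isUnit_of_isUnit_germ X.toLocallyRingedSpace.toRingedSpace V _ fun y hy => ?_
      have hb : y ∈ X.basicOpen (f x) := by rw [hf]; exact ⟨hV hy, h hy⟩
      exact (germ_rres h y hy (f x)).symm ▸ (X.mem_basicOpen (f x) y (h hy)).mp hb
  have hdia : ∀ i j, i ≠ j → W' i ⊓ W' j ≤ U := by
    rintro (_ | x) (_ | y) hne z ⟨hzi, hzj⟩
    · exact hzi
    · exact hzi
    · exact hzj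
    · by_contra hzU
      exact hne (congrArg some (Subtype.ext ((hW x z hzi hzU).symm.trans (hW y z hzj hzU))))
  have ha : ∀ i j, ∃ a : Γ(X, W' i ⊓ W' j), (i = j → a = 1) ∧
      rres (inf_le_left : W' i ⊓ W' j ≤ W' i) (σ i) = a * rres (inf_le_right : W' i ⊓ W' j ≤ W' j) (σ j) := by
    intro i j
    by_cases hij : i = j
    · subst hij; exact ⟨1, fun _ => rfl, (one_mul _).symm⟩
    · obtain ⟨w, hw⟩ := hunit j _ (inf_le_right : W' i ⊓ W' j ≤ W' j) (hdia i j hij)
      exact ⟨rres (inf_le_left : W' i ⊓ W' j ≤ W' i) (σ i) * (↑w⁻¹ : Γ(X, W' i ⊓ W' j)), fun h => absurd h hij, by rw [← hw, Units.inv_mul_cancel_right]⟩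
  choose a ha1 ha using ha
  have haV : ∀ i j (V : X.Opens) (h : V ≤ W' i ⊓ W' j),
      rres (h.trans inf_le_left) (σ i) = rres h (a i j) * rres (h.trans inf_le_right) (σ j) := by
    intro i j V h
    have h1 := congrArg (rres h) (ha i j)
    rw [map_mul, rres_rres, rres_rres] at h1
    exact h1
  let C : LineCoc.Cocycle X :=
    ⟨Option {x : X // x ∉ U}, W', a, fun z _ => by
        by_cases hz : z ∈ U
        · exact Opens.mem_iSup.mpr ⟨none, hz⟩
        · exact Opens.mem_iSup.mpr ⟨some ⟨z, hz⟩, hxW ⟨z, hz⟩⟩,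
      fun i => ha1 i i rfl, fun i j k V h₁ h₂ h₃ => by
        by_cases hU : V ≤ U
        · refine (hunit k V (h₂.trans inf_le_right) hU).mul_right_cancel ?_
          rw [mul_assoc, ← haV j k V h₂, ← haV i j V h₁, ← haV i k V h₃]
        · obtain ⟨z, hzV, hzU⟩ := SetLike.not_le_iff_exists.mp hU
          have hij : i = j := by_contra fun h => hzU (hdia i j h (h₁ hzV))
          have hjk : j = k := by_contra fun h => hzU (hdia j k h (h₂ hzV))
          subst hij hjk
          rw [ha1 i i rfl, map_one, one_mul]⟩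
  let s₀ : LineCoc.fam C ⊤ := ⟨fun i => rres (inf_le_right : ⊤ ⊓ C.W i ≤ C.W i) (σ i), fun k l => by
    rw [rres_rres, rres_rres]
    exact haV k l _ inf_le_right⟩
  let τ : Γ(LineCoc.mod C, ⊤) := s₀
  refine ⟨LineCoc.mod C, homOfSec τ, LineCoc.isInvertible C, ?_⟩
  have hcoef : ∀ i : C.ι, sec (homOfSec τ) (C.W i) = σ i • LineCoc.gen C i := by
    intro i
    rw [sec_homOfSec]
    refine Subtype.ext (funext fun k => ?_)
    show rres (inf_le_inf_right (C.W k) (le_top : C.W i ≤ ⊤)) (rres (inf_le_right : ⊤ ⊓ C.W k ≤ C.W k) (σ k)) =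
      rres (inf_le_left : C.W i ⊓ C.W k ≤ C.W i) (σ i) *
        rres (le_inf inf_le_right inf_le_left : C.W i ⊓ C.W k ≤ C.W k ⊓ C.W i) (C.a k i)
    rw [rres_rres, mul_comm]
    exact haV k i (C.W i ⊓ C.W k) (le_inf inf_le_right inf_le_left)
  have hloc' : ∀ i : C.ι, CohB1.genLocus _ (homOfSec τ) ⊓ C.W i = X.basicOpen (σ i) := fun i =>
    genLocus_inf (LineCoc.isGen_gen C i) _ (hcoef i)
  ext z
  by_cases hz : z ∈ U
  · refine iff_of_true ?_ hz
    have h1 : z ∈ X.basicOpen (σ none) := by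
      rw [show σ none = 1 from rfl, Scheme.basicOpen_of_isUnit _ isUnit_one]; exact hz
    rw [← hloc' none] at h1
    exact h1.1
  · refine iff_of_false (fun h => hz ?_) hz
    have h1 : z ∈ CohB1.genLocus _ (homOfSec τ) ⊓ C.W (some ⟨z, hz⟩) := ⟨h, hxW ⟨z, hz⟩⟩
    rw [hloc' (some ⟨z, hz⟩), show σ (some ⟨z, hz⟩) = f ⟨z, hz⟩ from rfl, hf] at h1
    exact h1.1

/-- Invertible modules on `U` extend. -/
theorem exists_extension (N : (U : Scheme.{u}).Modules) (hN : PicF.IsInvertible N)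
    (W : {x : X // x ∉ U} → X.Opens) (hxW : ∀ x, x.1 ∈ W x)
    (hW : ∀ x, ∀ z ∈ W x, z ∉ U → z = x.1)
    (g : ∀ x, Γ(pushM U N, U ⊓ W x)) (hg : ∀ x, IsGen (pushM U N) (U ⊓ W x) (g x)) :
    ∃ L : X.Modules, PicF.IsInvertible L ∧ Nonempty (L.restrict U.ι ≅ N) := by
  classical
  choose O e hzO hOU he using exists_gen_push U N hN
  let W' : {x : X // x ∈ U} ⊕ {x : X // x ∉ U} → X.Opens := Sum.elim (fun z => O z.1 z.2) W
  have hdata : ∀ i, ∃ G : Γ(pushM U N, U ⊓ W' i), IsGen (pushM U N) (U ⊓ W' i) G := by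
    rintro (z | x)
    · exact ⟨res _ inf_le_right (e z.1 z.2), (he z.1 z.2).restrict _⟩
    · exact ⟨g x, hg x⟩
  choose G hG using hdata
  have hdia : ∀ i j, i ≠ j → W' i ⊓ W' j ≤ U := by
    rintro (z | x) (z' | y) hne w ⟨hwi, hwj⟩
    · exact hOU _ _ hwi
    · exact hOU _ _ hwi
    · exact hOU _ _ hwj
    · by_contra hwU
      exact hne (congrArg Sum.inr (Subtype.ext ((hW x w hwi hwU).symm.trans (hW y w hwj hwU))))
  have ha : ∀ i j, ∃ a : Γ(X, W' i ⊓ W' j), (i = j → a = 1) ∧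
      ∀ (V : X.Opens) (h : V ≤ W' i ⊓ W' j) (hV : V ≤ U),
        res (pushM U N) (le_inf hV (h.trans inf_le_right) : V ≤ U ⊓ W' j) (G j) =
          rres h a • res (pushM U N) (le_inf hV (h.trans inf_le_left) : V ≤ U ⊓ W' i) (G i) := by
    intro i j
    by_cases hij : i = j
    · subst hij
      exact ⟨1, fun _ => rfl, fun V h hV => by rw [map_one, one_smul]⟩
    · obtain ⟨c, hc, -⟩ := (hG i).exists_eq (le_inf (hdia i j hij) inf_le_left : W' i ⊓ W' j ≤ U ⊓ W' i)
        (res _ (le_inf (hdia i j hij) inf_le_right : W' i ⊓ W' j ≤ U ⊓ W' j) (G j))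
      refine ⟨c, fun h => absurd h hij, fun V h hV => ?_⟩
      have h1 := congrArg (res (pushM U N) h) hc
      rw [res_res, res_smul, res_res] at h1
      exact h1
  choose a ha1 ha using ha
  let C : LineCoc.Cocycle X :=
    ⟨_, W', a, fun z _ => by
        by_cases hz : z ∈ U
        · exact Opens.mem_iSup.mpr ⟨Sum.inl ⟨z, hz⟩, hzO z hz⟩
        · exact Opens.mem_iSup.mpr ⟨Sum.inr ⟨z, hz⟩, hxW ⟨z, hz⟩⟩,
      fun i => ha1 i i rfl, fun i j k V h₁ h₂ h₃ => by
        by_cases hU : V ≤ U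
        · refine (hG i).injective (le_inf hU (h₁.trans inf_le_left)) ?_
          rw [mul_comm, mul_smul, ← ha i j V h₁ hU, ← ha j k V h₂ hU, ← ha i k V h₃ hU]
        · obtain ⟨z, hzV, hzU⟩ := SetLike.not_le_iff_exists.mp hU
          have hij : i = j := by_contra fun h => hzU (hdia i j h (h₁ hzV))
          have hjk : j = k := by_contra fun h => hzU (hdia j k h (h₂ hzV))
          subst hij hjk
          rw [ha1 i i rfl, map_one, one_mul]⟩
  refine ⟨LineCoc.mod C, LineCoc.isInvertible C, ?_⟩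
  have hle : ∀ i, U.ι ⁻¹ᵁ W' i ≤ U.ι ⁻¹ᵁ (U ⊓ W' i) := fun i z hz => ⟨z.2, hz⟩
  have hgen : ∀ i, IsGen N (U.ι ⁻¹ᵁ W' i) (res N (hle i) (G i)) := fun i =>
    ((isGen_push_iff U N inf_le_left _).mp (hG i)).restrict (hle i)
  obtain ⟨e', -⟩ := AmpleLib.exists_iso_of_gen (M := N)
    (N := (Scheme.Modules.pullback U.ι).obj (LineCoc.mod C)) (fun i => U.ι ⁻¹ᵁ W' i)
    (fun z _ => by
      obtain ⟨i, hi⟩ := Opens.mem_iSup.1 (C.cover (trivial : U.ι z ∈ (⊤ : X.Opens)))
      exact Opens.mem_iSup.2 ⟨i, hi⟩)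
    (fun i => res N (hle i) (G i)) hgen
    (fun i => pb U.ι (LineCoc.gen C i)) (fun i => isGen_pb U.ι (LineCoc.isGen_gen C i))
    (fun i j V hi hj w hw => by
      have hV : V ≤ U.ι ⁻¹ᵁ (W' i ⊓ W' j) := le_inf hi hj
      have hVU : V ≤ U.ι ⁻¹ᵁ ((W' i ⊓ W' j) ⊓ U) := fun z hz => ⟨hV hz, z.2⟩
      have h0 : res N (U.ι.preimage_mono (le_inf inf_le_right (inf_le_left.trans inf_le_right) :
            (W' i ⊓ W' j) ⊓ U ≤ U ⊓ W' j)) (G j) =
          U.ι.app _ (rres (inf_le_left : (W' i ⊓ W' j) ⊓ U ≤ W' i ⊓ W' j) (a i j)) •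
            res N (U.ι.preimage_mono (le_inf inf_le_right (inf_le_left.trans inf_le_left) :
              (W' i ⊓ W' j) ⊓ U ≤ U ⊓ W' i)) (G i) := ha i j _ inf_le_left inf_le_right
      have h1 := congrArg (res N hVU) h0
      rw [res_res, res_smul, res_res, app_rres, rres_rres] at h1
      have h2 : w = rres hV (U.ι.app _ (a i j)) := by
        refine (hgen i).injective hi ?_
        refine hw.symm.trans ?_
        simp only [res_res]
        exact h1
      have h3 := congrArg (LFFrame.unitSec U.ι (LineCoc.mod C) (W' i ⊓ W' j)) (LineCoc.res_gen_eq C i j)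
      rw [LFFrame.unitSec_smul, LFFrame.unitSec_res, LFFrame.unitSec_res] at h3
      have h4 := congrArg (res _ hV) h3
      rw [res_res, res_smul, res_res] at h4
      rw [h2]
      exact h4)
  exact ⟨(Scheme.Modules.restrictFunctorIsoPullback U.ι).app _ ≪≫ e'.symm⟩

/-- Let X be a scheme and U ⊆ X a retrocompact open such that X ∖ U is discrete and O_{X,x} is
Noetherian of dimension ≤ 1 for every x ∈ X ∖ U. Then (1) there are an invertible module L and a
global section s with U = X_s, and (2) Pic(X) → Pic(U) is surjective. -/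
theorem result (X : Scheme.{u}) (U : X.Opens)
    [QuasiCompact U.ι] (hdisc : DiscreteTopology ↥((U : Set X)ᶜ))
    (hloc : ∀ x : X, x ∉ U → IsNoetherianRing (X.presheaf.stalk x) ∧ ringKrullDim (X.presheaf.stalk x) ≤ 1) :
    (∃ (L : X.Modules) (s : Coh.structureModule X ⟶ L), PicF.IsInvertible L ∧ CohB1.genLocus L s = U) ∧
      ∀ N : (↑U : Scheme.{u}).Modules, PicF.IsInvertible N →
        ∃ L : X.Modules, PicF.IsInvertible L ∧ Nonempty (L.restrict U.ι ≅ N) := by
  refine ⟨?_, fun N hN => ?_⟩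
  · have h1 : ∀ z ∈ U, ∃ (O : X.Opens) (g : Γ(Coh.structureModule X, O)),
        z ∈ O ∧ O ≤ U ∧ IsGen (Coh.structureModule X) O g := fun z hz =>
      ⟨U, one' U, hz, le_rfl, Props.GenTensor.isGen_one U⟩
    choose W hxW hW hf _ _ using fun x : {x : X // x ∉ U} =>
      exists_chart' X U hdisc hloc x.1 x.2 (Coh.structureModule X) h1
    choose f hf using hf
    exact exists_section X U W hxW hW f hf
  · choose W hxW hW _ g hg using fun x : {x : X // x ∉ U} =>
      exists_chart' X U hdisc hloc x.1 x.2 (pushM U N) (exists_gen_push U N hN)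
    exact exists_extension X U N hN W hxW hW g hg

end Groth.Agent.S7669
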