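import Groth.Statements.S7675
import Groth.Agent.ProjDim.Points
import Groth.Agent.ProjDim.Tensor


set_option autoImplicit false
universe u
open CategoryTheory CategoryTheory.Limits AlgebraicGeometry
open Variety

namespace Groth.Agent.S7675

/-- Let k be a field, n ≥ 0 and X, Y ⊆ P^n_k nonempty closed subsets of dimensions r and s with r + s ≥
n. Then X ∩ Y is nonempty and dim(X ∩ Y) ≥ r + s − n. -/
theorem result (k : Type u) [Field k] (n r s : ℕ)
    (X Y : Set ↥(CohB1.ProjSpace n k)) (hX : IsClosed X) (hY : IsClosed Y)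
    (hXne : X.Nonempty) (hYne : Y.Nonempty)
    (hXr : topologicalKrullDim X = r) (hYs : topologicalKrullDim Y = s) (hrs : n ≤ r + s) :
    (X ∩ Y).Nonempty ∧ ((r + s : ℕ) : WithBot ℕ∞) ≤ topologicalKrullDim ↥(X ∩ Y) + (n : WithBot ℕ∞) := by
  change Set (ProjectiveSpectrum (CohB1.polyGrading n k)) at X Y
  obtain ⟨x, hx, hxd⟩ := ProjDim.exists_pt_dim_eq (Z := X) hX hXr
  obtain ⟨y, hy, hyd⟩ := ProjDim.exists_pt_dim_eq (Z := Y) hY hYs
  have hne : ProjDim.pt x ⊔ ProjDim.pt y ≠ ⊤ :=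
    ne_top_of_le_ne_top (Ideal.IsPrime.ne_top' (I := GenPt.irr k n))
      (sup_le (ProjDim.pt_lt_irr x).le (ProjDim.pt_lt_irr y).le)
  obtain ⟨M, hM⟩ := Ideal.nonempty_minimalPrimes hne
  haveI := hM.1.1
  have key := ProjDim.add_le_of_mem_minimalPrimes_sup k (ProjDim.pt x) (ProjDim.pt y) M hM
    (ProjDim.dimQ_spec _) (ProjDim.dimQ_spec _) (ProjDim.dimQ_spec M)
  obtain ⟨z, rfl⟩ := ProjDim.exists_pt_of_dim M (GenPt.minimal_isHomogeneous
    ((ProjDim.pt_isHomogeneous x).sup (ProjDim.pt_isHomogeneous y)) hM) (by omega)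
  have hz : z ∈ X ∩ Y :=
    ⟨closure_minimal (Set.singleton_subset_iff.2 hx) hX
      ((ProjDim.mem_closure_iff x z).2 (le_sup_left.trans hM.1.2)),
    closure_minimal (Set.singleton_subset_iff.2 hy) hY
      ((ProjDim.mem_closure_iff y z).2 (le_sup_right.trans hM.1.2))⟩
  refine ⟨⟨z, hz⟩, ?_⟩
  obtain ⟨c, hc⟩ : ∃ c, ProjDim.dimQ (ProjDim.pt z) = c + 1 :=
    ⟨ProjDim.dimQ (ProjDim.pt z) - 1, by have := ProjDim.one_le_dimQ_pt z; omega⟩
  have hle : (c : WithBot ℕ∞) ≤ topologicalKrullDim ↥(X ∩ Y) := by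
    have h1 : topologicalKrullDim (closure ({z} : Set _)) ≤ topologicalKrullDim ↥(X ∩ Y) :=
      (Topology.IsEmbedding.inclusion (closure_minimal (Set.singleton_subset_iff.2 hz)
        (hX.inter hY))).isInducing.topologicalKrullDim_le
    rwa [ProjDim.topDim_closure_singleton, (ProjDim.coheight_eq_iff z c).2 hc] at h1
  calc ((r + s : ℕ) : WithBot ℕ∞) ≤ ((c + n : ℕ) : WithBot ℕ∞) := by
        exact_mod_cast (show r + s ≤ c + n by omega)
    _ = (c : WithBot ℕ∞) + n := by push_cast; rfl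
    _ ≤ _ := add_le_add hle le_rfl

end Groth.Agent.S7675
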