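import Groth.Statements.S7678
import Groth.Agent.FBase.BC

set_option autoImplicit false
universe u
open CategoryTheory CategoryTheory.Limits AlgebraicGeometry
open Variety

namespace Groth.Agent.S7678

open TensorProduct Groth.Agent.FBase.BC

section Alg

variable {k : Type u} [Field k] (p : ℕ) [Fact p.Prime] [CharP k p]

/-- `k`, as an algebra over itself by the Frobenius. -/
def FrobField (k : Type u) [Field k] (_p : ℕ) : Type u := k

noncomputable instance : Field (FrobField k p) := inferInstanceAs (Field k)

noncomputable instance : Algebra k (FrobField k p) :=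
  RingHom.toAlgebra (show k →+* FrobField k p from frobenius k p)

lemma expChar_of_algebra (R : Type u) [CommRing R] [Nontrivial R] [Algebra k R] : ExpChar R p :=
  have : CharP R p := charP_of_injective_algebraMap (algebraMap k R).injective p
  ExpChar.prime Fact.out

/-- If `A ⊗ k^{1/p}` is reduced then `A ⊗ Ω` is reduced for algebraically closed `Ω`. -/
lemma isReduced_tensor_algClosed {A : Type u} [CommRing A] [Algebra k A]
    (Ω : Type u) [Field Ω] [Algebra k Ω] [IsAlgClosed Ω]
    [h : _root_.IsReduced (A ⊗[k] FrobField k p)] : _root_.IsReduced (A ⊗[k] Ω) := by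
  classical
  rcases subsingleton_or_nontrivial (A ⊗[k] Ω) with _ | _
  · exact ⟨fun x _ ↦ Subsingleton.elim _ _⟩
  rcases subsingleton_or_nontrivial (A ⊗[k] FrobField k p) with hs | _
  · have : Nontrivial A := by
      by_contra hA
      rw [not_nontrivial_iff_subsingleton] at hA
      exact not_subsingleton (A ⊗[k] Ω) inferInstance
    exact absurd hs (not_subsingleton_iff_nontrivial.mpr
      (Algebra.TensorProduct.includeLeft_injective (R := k) (S := k) (A := A) (B := FrobField k p)
        (RingHom.injective _)).nontrivial)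
  have : CharP Ω p := charP_of_injective_algebraMap (algebraMap k Ω).injective p
  have hEΩ : ExpChar Ω p := ExpChar.prime Fact.out
  have hET := expChar_of_algebra (k := k) p (A ⊗[k] Ω)
  have hEK := expChar_of_algebra (k := k) p (A ⊗[k] FrobField k p)
  have : PerfectRing Ω p := PerfectField.toPerfectRing p
  let g : FrobField k p →+* Ω :=
    ((frobeniusEquiv Ω p).symm.toRingHom).comp (show FrobField k p →+* Ω from algebraMap k Ω)
  have hg : ∀ c : FrobField k p, g c ^ p = algebraMap k Ω c := fun c ↦ by
    exact frobenius_apply_frobeniusEquiv_symm Ω p _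
  algebraize [g]
  have : IsScalarTower k (FrobField k p) Ω := .of_algebraMap_eq fun c ↦ by
    refine frobenius_inj Ω p ?_
    show _ = g (frobenius k p c) ^ p
    rw [hg]
    exact (map_pow (algebraMap k Ω) c p).symm
  let b := Module.Basis.ofVectorSpace (FrobField k p) Ω
  let ψ : A ⊗[k] FrobField k p →ₐ[k] A ⊗[k] Ω :=
    Algebra.TensorProduct.map (AlgHom.id k A) (IsScalarTower.toAlgHom k (FrobField k p) Ω)
  -- pth powers lie in `A`
  have hpow : ∀ y : A ⊗[k] FrobField k p, ∃ a : A, y ^ p = a ⊗ₜ 1 := by
    intro y
    induction y with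
    | zero => exact ⟨0, by rw [zero_pow (Fact.out : p.Prime).ne_zero, zero_tmul]⟩
    | tmul a c =>
      refine ⟨(show k from c) • a ^ p, ?_⟩
      rw [Algebra.TensorProduct.tmul_pow, smul_tmul, Algebra.smul_def, mul_one]
      rfl
    | add x y hx hy =>
      obtain ⟨a, ha⟩ := hx
      obtain ⟨a', ha'⟩ := hy
      exact ⟨a + a', by rw [add_pow_expChar, ha, ha', add_tmul]⟩
  -- coordinates
  have hdec : ∀ x : A ⊗[k] Ω, ∃ y : _ →₀ (A ⊗[k] FrobField k p),
      x = y.sum fun l v ↦ (1 ⊗ₜ b l) * ψ v := by
    intro x
    induction x with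
    | zero => exact ⟨0, by simp⟩
    | tmul a ω =>
      refine ⟨(b.repr ω).mapRange (fun c ↦ a ⊗ₜ c) (tmul_zero _ _), ?_⟩
      rw [Finsupp.sum_mapRange_index (by simp)]
      conv_lhs => rw [← b.linearCombination_repr ω, Finsupp.linearCombination_apply,
        Finsupp.sum, tmul_sum]
      refine Finset.sum_congr rfl fun l _ ↦ ?_
      simp [ψ, Algebra.smul_def, mul_comm]
    | add x y hx hy =>
      obtain ⟨a, rfl⟩ := hx
      obtain ⟨a', rfl⟩ := hy
      exact ⟨a + a', (Finsupp.sum_add_index' (by simp) (by simp [mul_add])).symm⟩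
  refine isReduced_iff_pow_one_lt p (Fact.out : p.Prime).one_lt |>.mpr fun x hx ↦ ?_
  obtain ⟨y, rfl⟩ := hdec x
  choose a ha using fun l ↦ hpow (y l)
  -- `p`th powers of a basis of `Ω` over `k^{1/p}` are independent over `k`
  have hli : LinearIndependent k fun l ↦ b l ^ p := by
    rw [linearIndependent_iff']
    intro s c hc l hl
    have h0 : (∑ i ∈ s, (show FrobField k p from c i) • b i) = 0 := by
      refine frobenius_inj Ω p ?_
      rw [map_sum, map_zero, ← hc]
      refine Finset.sum_congr rfl fun i _ ↦ ?_
      rw [frobenius_def, Algebra.smul_def, mul_pow, Algebra.smul_def]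
      congr 1
      exact hg _
    exact linearIndependent_iff'.mp b.linearIndependent s _ h0 l hl
  obtain ⟨φ, hφ⟩ := LinearMap.exists_leftInverse_of_injective _
    (LinearMap.ker_eq_bot.mpr hli.finsuppLinearCombination_injective)
  rw [Finsupp.sum, sum_pow_char] at hx
  refine Finset.sum_eq_zero fun l hl ↦ ?_
  suffices a l = 0 by
    have : y l ^ p = 0 := by rw [ha, this, zero_tmul]
    show (1 ⊗ₜ b l) * ψ (y l) = 0
    rw [(isReduced_iff_pow_one_lt p (Fact.out : p.Prime).one_lt).mp h _ this, map_zero, mul_zero]
  have h2 : ∀ i, ((1 ⊗ₜ b i) * ψ (y i)) ^ p = a i ⊗ₜ (b i ^ p) := fun i ↦ by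
    rw [mul_pow, ← map_pow, ha]
    simp [ψ, Algebra.TensorProduct.tmul_pow]
  rw [Finset.sum_congr rfl fun i _ ↦ h2 i] at hx
  have h3 := congrArg (fun z ↦ TensorProduct.rid k A
    ((((Finsupp.lapply l).comp φ)).lTensor A z)) hx
  have hφ' : ∀ i, φ (b i ^ p) = Finsupp.single i 1 := fun i ↦ by
    have := congr($hφ (Finsupp.single i 1))
    simpa using this
  simp only [map_sum, LinearMap.lTensor_tmul, LinearMap.comp_apply, hφ', map_zero] at h3
  rw [Finset.sum_eq_single l (fun i _ hi ↦ by simp [Finsupp.single_eq_of_ne' hi])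
    (fun h ↦ absurd hl h)] at h3
  simpa using h3

end Alg

lemma geometricallyReduced_affine {k : Type u} [Field k] (p : ℕ) [Fact p.Prime] [CharP k p]
    {A : CommRingCat.{u}} (φ : CommRingCat.of k ⟶ A)
    [IsReduced (pullback (Spec.map φ) (specMap k (FrobField k p)))] :
    GeometricallyReduced (Spec.map φ) := by
  obtain ⟨φ⟩ := φ
  let := φ.toAlgebra
  have : IsReduced (Spec (CommRingCat.of (A ⊗[k] FrobField k p))) :=
    isReduced_of_isOpenImmersion (pullbackSpecIso k A (FrobField k p)).inv
  have : _root_.IsReduced (A ⊗[k] FrobField k p) := (affine_isReduced_iff _).mp this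
  have := isReduced_tensor_algClosed (k := k) p (A := A) (AlgebraicClosure k)
  have : Algebra.IsGeometricallyReduced k A := by
    rw [Algebra.isGeometricallyReduced_field_iff]
    exact isReduced_of_injective _ (Algebra.TensorProduct.comm k (AlgebraicClosure k) A).injective
  exact geometricallyReduced_specMap_algebra (k := k) A

lemma geometricallyReduced_of_twist {k : Type u} [Field k] (p : ℕ) [Fact p.Prime] [CharP k p]
    {X : Scheme.{u}} (f : X ⟶ Spec (CommRingCat.of k))
    [IsReduced (pullback f (specMap k (FrobField k p)))] : GeometricallyReduced f := by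
  refine geometricallyReduced_of_affineCover f fun i ↦ ?_
  obtain ⟨φ, hφ⟩ := Spec.map_surjective (X.affineCover.f i ≫ f)
  refine Eq.mp (congrArg (fun g ↦ GeometricallyReduced g) hφ) ?_
  have : IsReduced (pullback (X.affineCover.f i ≫ f) (specMap k (FrobField k p))) :=
    have : IsOpenImmersion (X.affineCover.f i) := X.affineCover.map_prop i
    isReduced_of_isOpenImmersion (pullback.map _ _ f (specMap k (FrobField k p))
      (X.affineCover.f i) (𝟙 _) (𝟙 _) (Category.comp_id _) (by simp))
  replace this : IsReduced (pullback (Spec.map φ) (specMap k (FrobField k p))) := hφ.symm ▸ this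
  exact geometricallyReduced_affine p φ

/-- For a field k of positive characteristic p and a k-scheme X, the base change of X along the p-th
power map of k is a reduced scheme exactly when X is geometrically reduced over k. -/
theorem result (k : Type u) [Field k] (X : Scheme.{u}) [X.Over (Spec (CommRingCat.of k))]
    (p : ℕ) [Fact p.Prime] [CharP k p] :
    GeometricallyReduced (X ↘ (Spec (CommRingCat.of k))) ↔
      IsReduced ↑(pullback (X ↘ (Spec (CommRingCat.of k))) (Spec.map (CommRingCat.ofHom (frobenius k p)))) := by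
  refine ⟨fun h ↦ ?_, fun h ↦ ?_⟩
  · exact pullback_of_geometrically (K := FrobField k p)
      GeometricallyReduced.geometrically_isReduced (specMap k (FrobField k p))
  · exact @geometricallyReduced_of_twist k _ p _ _ X _ h

end Groth.Agent.S7678
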