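import Groth.Statements.S7682
import Groth.Agent.IntProd70.Degree
import Groth.Agent.S9802

set_option autoImplicit false
universe u
open CategoryTheory CategoryTheory.Limits AlgebraicGeometry
open Variety

namespace Groth.Agent.S7682

/-- Let f : Y → X be a morphism of proper schemes over a field k, Z ⊆ Y an integral closed subscheme of
dimension d and L_1, …, L_d invertible modules on X. Then (f^*L_1 ⋯ f^*L_d · Z) = deg(Z → f(Z)) ·
(L_1 ⋯ L_d · f(Z)), f(Z) being the scheme-theoretic image and deg the degree of the function field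
extension, read as 0 when dim f(Z) < d (equivalently when that extension is infinite). Both
intersection numbers are the n_1⋯n_d-coefficients of the polynomials computing the corresponding
Euler characteristics. -/
theorem result (k : Type u) [Field k] (X Y : Scheme.{u})
    [X.Over (Spec (CommRingCat.of k))] [Y.Over (Spec (CommRingCat.of k))]
    [IsProper (X ↘ (Spec (CommRingCat.of k)))] [IsProper (Y ↘ (Spec (CommRingCat.of k)))]
    (f : Y ⟶ X) (hf : f ≫ (X ↘ (Spec (CommRingCat.of k))) = Y ↘ (Spec (CommRingCat.of k)))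
    (Z : Y.IdealSheafData) [IsIntegral Z.subscheme] (d : ℕ)
    (hZ : topologicalKrullDim (Z.support : Set Y) = d)
    (L : Fin d → X.Modules) (hL : ∀ i, PicF.IsInvertible (L i))
    (PY PX : MvPolynomial (Fin d) ℚ)
    (hPY : ∀ n : Fin d → ℕ, (Curv2.euler k Y (Curv2.tensorPows (ClSub.quotMod Z) d (fun i => (Scheme.Modules.pullback f).obj (L i)) n) : ℚ) = MvPolynomial.eval (fun i => (n i : ℚ)) PY)
    (hPX : ∀ n : Fin d → ℕ, (Curv2.euler k X (Curv2.tensorPows (ClSub.quotMod (Z.subschemeι ≫ f).ker) d L n) : ℚ) = MvPolynomial.eval (fun i => (n i : ℚ)) PX) :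
    MvPolynomial.coeff (Finsupp.equivFunOnFinite.symm fun _ : Fin d => 1) PY =
      ((Z.subschemeι ≫ f).residueDegree (genericPoint Z.subscheme) : ℚ) *
        MvPolynomial.coeff (Finsupp.equivFunOnFinite.symm fun _ : Fin d => 1) PX := by
  let g := Z.subschemeι ≫ f
  letI : Z.subscheme.Over (Spec (CommRingCat.of k)) := ⟨Z.subschemeι ≫ (Y ↘ Spec (CommRingCat.of k))⟩
  haveI : IsProper (Z.subscheme ↘ Spec (CommRingCat.of k)) :=
    inferInstanceAs (IsProper (Z.subschemeι ≫ (Y ↘ Spec (CommRingCat.of k))))
  letI : g.ker.subscheme.Over (Spec (CommRingCat.of k)) :=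
    ⟨g.ker.subschemeι ≫ (X ↘ Spec (CommRingCat.of k))⟩
  haveI : IsProper (g.ker.subscheme ↘ Spec (CommRingCat.of k)) :=
    inferInstanceAs (IsProper (g.ker.subschemeι ≫ (X ↘ Spec (CommRingCat.of k))))
  have wg : g ≫ (X ↘ Spec (CommRingCat.of k)) = Z.subscheme ↘ Spec (CommRingCat.of k) := by
    show (Z.subschemeι ≫ f) ≫ _ = Z.subschemeι ≫ _
    rw [Category.assoc, hf]
  haveI : IsProper g := EulerChar.isProper_hom g wg
  haveI : IsIntegral g.ker.subscheme := S9802.isIntegral_image g
  let g' : Z.subscheme ⟶ g.ker.subscheme := g.toImage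
  have hg' : g' ≫ g.ker.subschemeι = g := g.toImage_imageι
  have wg' : g' ≫ (g.ker.subscheme ↘ Spec (CommRingCat.of k)) = Z.subscheme ↘ Spec (CommRingCat.of k) := by
    show g' ≫ g.ker.subschemeι ≫ _ = _
    rw [← Category.assoc, hg', wg]
  have hgen : g' (genericPoint Z.subscheme) = genericPoint g.ker.subscheme := by
    haveI : IsDominant g' := inferInstanceAs (IsDominant g.toImage)
    exact ((genericPoint_spec _).image g'.continuous |>.eq (by
      have h : closure (Set.range g') = Set.univ := g'.denseRange.closure_range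
      rw [Set.image_univ, h]; exact genericPoint_spec _))
  have hdZ : topologicalKrullDim Z.subscheme ≤ (d : WithBot ℕ∞) := by
    rw [← hZ]
    refine Topology.IsInducing.topologicalKrullDim_le (f := Set.codRestrict Z.subschemeι _ fun x => ?_)
      (Z.subschemeι.isEmbedding.isInducing.codRestrict _)
    rw [← Z.range_subschemeι]
    exact ⟨x, rfl⟩
  have hdW : topologicalKrullDim g.ker.subscheme ≤ (d : WithBot ℕ∞) := by
    haveI : IsProper g' := EulerChar.isProper_hom g' wg'
    haveI : IsDominant g' := inferInstanceAs (IsDominant g.toImage)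
    have hsurj : Function.Surjective g' := by
      rw [← Set.range_eq_univ, ← g'.denseRange.closure_range]
      exact g'.isClosedMap.isClosed_range.closure_eq.symm
    rw [← IsHomeomorph.topologicalKrullDim_eq _ (Homeomorph.Set.univ g.ker.subscheme).isHomeomorph]
    refine LangWeil.dim_le_of_forall k isClosed_univ fun x _ => ?_
    obtain ⟨z, rfl⟩ := hsurj x
    obtain ⟨e, -, he⟩ := FibBound.dimPt_eq_add g' k wg' z
    have h := (LangWeil.dimPt_le_dim k isClosed_univ (Set.mem_univ z)).trans
      ((IsHomeomorph.topologicalKrullDim_eq _ (Homeomorph.Set.univ Z.subscheme).isHomeomorph).le.trans hdZ)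
    have h' : VarDim.dimPt k Z.subscheme z ≤ d := by exact_mod_cast h
    omega
  have hL' : ∀ i, PicF.IsInvertible ((Scheme.Modules.pullback f).obj (L i)) := fun i =>
    PicCl.isInvertible_pullback f (hL i)
  have hW' : ∀ i, PicF.IsInvertible ((Scheme.Modules.pullback g.ker.subschemeι).obj (L i)) := fun i =>
    PicCl.isInvertible_pullback _ (hL i)
  have hdk : topologicalKrullDim (g.ker.support : Set X) ≤ (d : WithBot ℕ∞) :=
    le_trans (le_of_eq (IsHomeomorph.topologicalKrullDim_eq _ (g.ker.subschemeι.isEmbedding.toHomeomorph.trans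
      (Homeomorph.setCongr g.ker.range_subschemeι)).isHomeomorph).symm) hdW
  rw [IntProd70.coeff_quotMod k hL' Z hZ.le hPY, IntProd70.coeff_quotMod k hL g.ker hdk hPX]
  have hres : g.residueDegree (genericPoint Z.subscheme) = g'.residueDegree (genericPoint Z.subscheme) := by
    conv_lhs => rw [← hg']
    rw [CycLib.residueDegree_comp, CycLib.residueDegree_closedImmersion g.ker.subschemeι, mul_one]
  rw [hres, IntProd70.intC, IntProd70.intC, IntProd70.intE_quotMod k Z rfl hdZ hL',
    IntProd70.intE_quotMod k g.ker rfl hdW hL,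
    IntProd70.intE_congr k
      (A := fun i => (Scheme.Modules.pullback Z.subschemeι).obj ((Scheme.Modules.pullback f).obj (L i))) (B := fun i => (Scheme.Modules.pullback g').obj
      ((Scheme.Modules.pullback g.ker.subschemeι).obj (L i))) (fun i => ⟨
        (Scheme.Modules.pullbackComp Z.subschemeι f).app (L i) ≪≫
          (Scheme.Modules.pullbackCongr hg'.symm).app (L i) ≪≫
          ((Scheme.Modules.pullbackComp g' g.ker.subschemeι).app (L i)).symm⟩),
    IntProd70.intE_dominant k g' wg' hgen hdZ hdW hW']
  push_cast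
  ring

end Groth.Agent.S7682
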