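import Groth.Statements.S7689
import Groth.Agent.Curv2Norm.Coker
import Groth.Agent.S9688
-- import your own Groth.Agent.* helpers here

set_option autoImplicit false
universe u
open CategoryTheory CategoryTheory.Limits AlgebraicGeometry
open Variety

namespace Groth.Agent.S7689

/-- For an integral X: let X be an integral Nagata scheme of dimension one (every affine open has a
Nagata coordinate ring) with normalization ν : X^ν → X. Then ν is finite and birational (an
isomorphism over a dense open), O_X ⊆ ν_*O_{X^ν}, and the quotient ν_*O_{X^ν}/O_X is supported at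
closed points, its stalk at a closed point x having length equal to the δ-invariant of O_{X,x}. (The
published statement is for reduced Nagata schemes of dimension one; it also says that ν is
surjective and that the quotient is nonzero exactly at the singular points, and it describes the
stalk A' of ν_*O_{X^ν} at x, namely the integral closure of O_{X,x} in its total fraction ring, a
semi-local ring that is a finite product of Dedekind domains, together with the completions of
O_{X,x} and A'. This row takes X integral, does not restate surjectivity, which holds for the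
normalization of every integral scheme, and keeps the finiteness, birationality, injectivity and
length clauses.) -/
theorem result (X : Scheme.{u}) [IsIntegral X]
    [QuasiCompact (X.fromSpecStalk (genericPoint X))] [QuasiSeparated (X.fromSpecStalk (genericPoint X))]
    (hN : ∀ U : X.affineOpens, CAlg.IsNagata Γ(X, (U : X.Opens))) (hdim : topologicalKrullDim X = 1) :
    IsFinite (Curv2.normalizationι X) ∧
      (∃ U : X.Opens, Dense ((U : Set X)) ∧ IsIso (Curv2.normalizationι X ∣_ U)) ∧
      Mono (ClSub.unitToPush (Curv2.normalizationι X)) ∧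
      (∀ x : X, IsClosed ({x} : Set X) →
        Module.length (X.presheaf.stalk x) ((cokernel (ClSub.unitToPush (Curv2.normalizationι X))).presheaf.stalk x) =
          Curv2.deltaInv (X.presheaf.stalk x)) ∧
      (∀ x : X, ¬ IsClosed ({x} : Set X) →
        Subsingleton ((cokernel (ClSub.unitToPush (Curv2.normalizationι X))).presheaf.stalk x)) := by
  classical
  haveI hfin : IsFinite (Curv2.normalizationι X) := by
    refine Groth.Agent.S9688.result X fun U hU hne => ?_
    haveI := hne
    obtain ⟨hnoeth, hq⟩ := hN ⟨U, hU⟩
    haveI : IsDomain Γ(X, U) := @IsIntegral.component_integral X _ U hne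
    haveI : (⊥ : Ideal Γ(X, U)).IsPrime := Ideal.isPrime_bot
    exact Props.N2Local.isN2_of_ringEquiv (RingEquiv.quotientBot Γ(X, U)) (hq ⊥)
  refine ⟨hfin, ?_, Curv2Norm.mono_unitToPush X, fun x _ => Curv2Norm.length_stalk_cokernel X x, fun x hx => ?_⟩
  · -- birationality
    obtain ⟨U, hU, hηU, -⟩ := exists_isAffineOpen_mem_and_subset (x := genericPoint X) (U := ⊤) trivial
    haveI : Nonempty U := ⟨⟨_, hηU⟩⟩
    set ν := Curv2.normalizationι X
    obtain ⟨hinj, hfrac⟩ := NormUniv.normalizationι_frac X U hU ⟨_, hηU⟩
    have hf : (ν.app U).hom.Finite := IsFinite.finite_app ν U hU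
    letI algAB := (ν.app U).hom.toAlgebra
    haveI : Module.Finite Γ(X, U) Γ(Curv2.normalization X, ν ⁻¹ᵁ U) := hf
    obtain ⟨t, ht⟩ := Module.Finite.fg_top (R := Γ(X, U)) (M := Γ(Curv2.normalization X, ν ⁻¹ᵁ U))
    choose a b hb hab using hfrac
    set d := ∏ i ∈ t, b i with hd
    have hd0 : d ≠ 0 := Finset.prod_ne_zero_iff.mpr fun i _ => hb i
    have hdB : ∀ y, ∃ c, ν.app U d * y = ν.app U c := fun y => by
      have hy : y ∈ Submodule.span Γ(X, U) (t : Set Γ(Curv2.normalization X, ν ⁻¹ᵁ U)) := ht ▸ Submodule.mem_top
      induction hy using Submodule.span_induction with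
      | mem i hi =>
        refine ⟨(∏ j ∈ t.erase i, b j) * a i, ?_⟩
        rw [hd, ← Finset.prod_erase_mul t b hi, map_mul, map_mul, mul_assoc, hab]
      | zero => exact ⟨0, by rw [mul_zero, map_zero]⟩
      | add u v _ _ hu hv =>
        obtain ⟨c, hc⟩ := hu
        obtain ⟨c', hc'⟩ := hv
        exact ⟨c + c', by rw [mul_add, hc, hc', map_add]⟩
      | smul r u _ hu =>
        obtain ⟨c, hc⟩ := hu
        exact ⟨r * c, by rw [Algebra.smul_def, map_mul, ← hc]; exact mul_left_comm _ _ _⟩
    refine ⟨X.basicOpen d, (X.basicOpen d).2.dense ?_, ?_⟩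
    · refine ⟨genericPoint X, (X.mem_basicOpen d _ hηU).mpr ?_⟩
      exact isUnit_iff_ne_zero.mpr (fun h => hd0 (germ_injective_of_isIntegral X _ hηU (h.trans (map_zero _).symm)) :
        (X.presheaf.germ U (genericPoint X) hηU d : X.functionField) ≠ 0)
    · rw [isIso_morphismRestrict_iff_isIso_app _ (hU.basicOpen d)]
      rw [ConcreteCategory.isIso_iff_bijective]
      refine ⟨Curv2Norm.app_injective X _, fun y => ?_⟩
      letI algA : Algebra Γ(X, U) Γ(X, X.basicOpen d) := (X.presheaf.map (homOfLE (X.basicOpen_le d)).op).hom.toAlgebra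
      haveI : IsLocalization.Away d Γ(X, X.basicOpen d) := hU.isLocalization_basicOpen d
      have hV := hU.preimage ν
      letI algB : Algebra Γ(Curv2.normalization X, ν ⁻¹ᵁ U) Γ(Curv2.normalization X, (Curv2.normalization X).basicOpen (ν.app U d)) :=
        ((Curv2.normalization X).presheaf.map (homOfLE ((Curv2.normalization X).basicOpen_le _)).op).hom.toAlgebra
      haveI : IsLocalization.Away (ν.app U d) Γ(Curv2.normalization X, (Curv2.normalization X).basicOpen (ν.app U d)) :=
        hV.isLocalization_basicOpen _
      have he : ν ⁻¹ᵁ X.basicOpen d = (Curv2.normalization X).basicOpen (ν.app U d) := Scheme.preimage_basicOpen ν d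
      obtain ⟨⟨z, _, n, rfl⟩, hz⟩ := IsLocalization.surj (Submonoid.powers (ν.app U d))
        ((Curv2.normalization X).presheaf.map (eqToHom he.symm).op y)
      obtain ⟨c, hc⟩ := hdB z
      have hu : IsUnit (algebraMap Γ(X, U) Γ(X, X.basicOpen d) (d ^ (n + 1))) :=
        IsLocalization.map_units _ (⟨d ^ (n + 1), n + 1, rfl⟩ : Submonoid.powers d)
      obtain ⟨v, hv⟩ := hu.exists_right_inv
      refine ⟨algebraMap Γ(X, U) Γ(X, X.basicOpen d) c * v, ?_⟩
      have happ : ∀ r, ν.app (X.basicOpen d) (algebraMap Γ(X, U) Γ(X, X.basicOpen d) r) =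
          (Curv2.normalization X).presheaf.map (homOfLE (ν.preimage_mono (X.basicOpen_le d))).op (ν.app U r) :=
        fun r => congr($(ν.naturality (homOfLE (X.basicOpen_le d)).op) r)
      have hres : ∀ r, (Curv2.normalization X).presheaf.map (eqToHom he).op
          (algebraMap Γ(Curv2.normalization X, ν ⁻¹ᵁ U) Γ(Curv2.normalization X, (Curv2.normalization X).basicOpen (ν.app U d)) r) =
          (Curv2.normalization X).presheaf.map (homOfLE (ν.preimage_mono (X.basicOpen_le d))).op r := fun r => by
        rw [RingHom.algebraMap_toAlgebra, ← CommRingCat.comp_apply, ← Functor.map_comp]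
        rfl
      have hz2 := congrArg ((Curv2.normalization X).presheaf.map (eqToHom he).op).hom hz
      rw [map_mul, hres, hres, ← CommRingCat.comp_apply, ← Functor.map_comp, ← op_comp, eqToHom_trans, eqToHom_refl,
        op_id, CategoryTheory.Functor.map_id, CommRingCat.id_apply] at hz2
      have hu2 : IsUnit (ν.app (X.basicOpen d) (algebraMap Γ(X, U) Γ(X, X.basicOpen d) (d ^ (n + 1)))) :=
        hu.map (ν.app (X.basicOpen d)).hom
      apply hu2.mul_left_cancel
      rw [← map_mul, ← mul_assoc, mul_comm (algebraMap Γ(X, U) Γ(X, X.basicOpen d) (d ^ (n + 1))), mul_assoc, hv,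
        mul_one, happ, happ, map_pow, pow_succ, ← hc, map_mul, map_mul, ← hz2]
      simp only [map_pow]
      ring
  · -- non-closed points
    have hxη : x = genericPoint X := by
      by_contra hne
      obtain ⟨y, hy, hyx⟩ : ∃ y, y ∈ closure ({x} : Set X) ∧ y ≠ x := by
        by_contra hcon
        push_neg at hcon
        exact hx (closure_eq_iff_isClosed.mp (Set.Subset.antisymm (fun y hy => hcon y hy) subset_closure))
      have h1 : y < x := lt_of_le_not_ge (specializes_iff_mem_closure.mpr hy : y ≤ x)
        fun h => hyx ((specializes_iff_mem_closure.mpr hy).antisymm h).eq.symm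
      have h2 : x < genericPoint X := lt_of_le_not_ge (genericPoint_specializes x : x ≤ genericPoint X)
        fun h => hne ((genericPoint_specializes x).antisymm h).eq.symm
      let l : LTSeries X := ⟨2, ![y, x, genericPoint X], fun i => by
        fin_cases i
        · exact h1
        · exact h2⟩
      have hl : (l.length : WithBot ℕ∞) ≤ 1 := by
        rw [← hdim, show topologicalKrullDim X = Order.krullDim X from
          Order.krullDim_eq_of_orderIso irreducibleSetEquivPoints]
        exact Order.LTSeries.length_le_krullDim l
      have hl2 : l.length = 2 := rfl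
      rw [hl2] at hl
      norm_num at hl
    subst hxη
    rw [← Module.length_eq_zero_iff (R := X.presheaf.stalk (genericPoint X)),
      Curv2Norm.length_stalk_cokernel X (genericPoint X), RedNorm.deltaInv_eq_zero_iff_surjective]
    intro z
    haveI : IsIntegrallyClosed (X.presheaf.stalk (genericPoint X)) := inferInstanceAs (IsIntegrallyClosed X.functionField)
    obtain ⟨w, hw⟩ := (IsIntegrallyClosed.isIntegral_iff (R := X.presheaf.stalk (genericPoint X))
      (K := FractionRing (X.presheaf.stalk (genericPoint X)))).mp z.2
    exact ⟨w, Subtype.ext hw⟩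

end Groth.Agent.S7689
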