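import Groth.Statements.S8431
import Groth.Agent.DiagRig.TorusCommutator
import Groth.Agent.GrpScheme.IdComponent
import Groth.Agent.DiagRig.SubDescent
-- import your own Groth.Agent.* helpers here

set_option autoImplicit false
universe u
open CategoryTheory MonoidalCategory CartesianMonoidalCategory MonObj GrpObj AlgebraicGeometry
open SGA3x

namespace Groth.Agent.S8431

set_option backward.isDefEq.respectTransparency.types false

/-- Let G be an algebraic group over a field k and Z a central algebraic subgroup such that G′ = G/Z is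
a torus. Then G is commutative. Here q : G → G′ is a homomorphism representing the fppf quotient of
G by Z, and G′ is a k-torus. -/
theorem result (k : Type u) [Field k]
    (G : Over (Spec (CommRingCat.of k))) [GrpObj G] [QuasiCompact G.hom] [LocallyOfFiniteType G.hom]
    (Z : Over (Spec (CommRingCat.of k))) [GrpObj Z] (z : Z ⟶ G) [IsMonHom z] [Mono z]
    (hz : ∀ (X : Over (Spec (CommRingCat.of k))) (x : X ⟶ Z) (g : X ⟶ G), (x ≫ z) * g = g * (x ≫ z))
    (G' : Over (Spec (CommRingCat.of k))) [GrpObj G'] (q : G ⟶ G') [IsMonHom q] (hq : RedSub.IsQuotient z q) (hT : Red.IsTorus G') :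
    ∀ (X : Over (Spec (CommRingCat.of k))) (g h : X ⟶ G), g * h = h * g := by
  obtain ⟨S', f, hf, hfs, -, hloc⟩ := hT
  obtain ⟨s⟩ : Nonempty ↥(Spec (CommRingCat.of k)) := inferInstanceAs (Nonempty (PrimeSpectrum k))
  obtain ⟨s', -⟩ := hfs.surj s
  obtain ⟨U, hs', r, ⟨e⟩⟩ := hloc s'
  let L : Type u := S'.residueField s'
  let j : Spec (CommRingCat.of L) ⟶ U := IsOpenImmersion.lift U.ι (S'.fromSpecResidueField s') (by
    rintro _ ⟨y, rfl⟩
    rw [Scheme.Opens.range_ι, Scheme.fromSpecResidueField_apply]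
    exact hs')
  let κ : Spec (CommRingCat.of L) ⟶ Spec (CommRingCat.of k) := j ≫ U.ι ≫ f
  obtain ⟨d, -⟩ := DiagRig.DSQuot.exists_dsBC j (Fin r → ℤ)
  let e' := (DiagRig.bcGrpIso (U.ι ≫ f) j κ rfl G').symm ≪≫ DiagRig.bcGrpMap j e ≪≫ d
  let i : Red.bc κ G' ≅ Red.DS (Spec (CommRingCat.of L)) (Fin r → ℤ) := (Grp.forget _).mapIso e'
  have : IsMonHom i.hom := e'.hom.hom.isMonHom_hom
  have := DiagRig.isMonHom_bcMap κ q
  have : IsSeparated (Red.bc κ G).hom := GrpScheme.IdComponent.isSeparated _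
  have hrel := (DiagRig.DSQuot.Rel.of_isQuotient hq).bc κ
  have hq' : DiagRig.DSQuot.Rel ((Over.pullback κ).map z) ((Over.pullback κ).map q ≫ i.hom) :=
    ⟨hrel.1.comp ⟨inferInstance, inferInstance, inferInstance⟩,
      fun Y a b => by rw [← Category.assoc, ← Category.assoc, cancel_mono]; exact hrel.2 Y a b⟩
  have hz' : ∀ (X : Over (Spec (CommRingCat.of L))) (x : X ⟶ Red.bc κ Z) (g : X ⟶ Red.bc κ G),
      (x ≫ (Over.pullback κ).map z) * g = g * (x ≫ (Over.pullback κ).map z) := fun X x g =>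
    DiagRig.bcTr_injective κ (by rw [DiagRig.bcTr_mul, DiagRig.bcTr_mul, DiagRig.bcTr_map]; exact hz _ _ _)
  intro X g h
  obtain ⟨ψ, hψ⟩ := Spec.map_surjective κ
  let ψ' : CommRingCat.of k ⟶ CommRingCat.of L := ψ
  have : Flat κ := hψ ▸ DiagRig.flat_specMap_field _ _ ψ'.hom
  have : Surjective κ := hψ ▸ DiagRig.surjective_specMap_field _ _ ψ'.hom
  let Y : Over (Spec (CommRingCat.of L)) := Over.mk (Limits.pullback.snd X.hom κ)
  let c : (Over.map κ).obj Y ⟶ X := Over.homMk (Limits.pullback.fst X.hom κ) Limits.pullback.condition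
  have : EffectiveEpi c.left := inferInstanceAs (EffectiveEpi (Limits.pullback.fst X.hom κ))
  refine GrpdLib.GrpOver.cancel_left c ?_
  have e2 := DiagRig.TorusCommutator.comm_of_split _ hz' _ hq' (DiagRig.bcUn κ (c ≫ g)) (DiagRig.bcUn κ (c ≫ h))
  have e3 := congrArg (DiagRig.bcTr κ) e2
  rw [DiagRig.bcTr_mul, DiagRig.bcTr_mul, DiagRig.bcTr_bcUn, DiagRig.bcTr_bcUn] at e3
  rw [MonObj.comp_mul, MonObj.comp_mul]
  exact e3

end Groth.Agent.S8431
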