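import Groth.Statements.S9025
import Groth.Agent.EssFreeLocus.Basic
import Groth.Agent.RGFlat.PureProjective
import Groth.Agent.GrpScheme.FlatFib.Scheme

set_option autoImplicit false
universe u
open FlatMor

namespace Groth.Agent.S9025

open CategoryTheory CategoryTheory.Limits AlgebraicGeometry Opposite in
theorem projective_sections {A B : CommRingCat.{u}} (φ : A ⟶ B) (hproj : letI := φ.hom.toAlgebra; Module.Projective A B)
    {P : Scheme.{u}} (j : P ≅ Spec B) (p : P ⟶ Spec A) (h : p = j.hom ≫ Spec.map φ) :
    letI := p.appTop.hom.toAlgebra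
    Module.Projective Γ(Spec A, ⊤) Γ(P, ⊤) := by
  letI := φ.hom.toAlgebra
  letI := p.appTop.hom.toAlgebra
  let σ : A ≃+* Γ(Spec A, ⊤) := (Scheme.ΓSpecIso A).symm.commRingCatIsoToRingEquiv
  haveI : IsIso j.hom.appTop := inferInstanceAs (IsIso (Scheme.Γ.map j.hom.op))
  let τ : B ≃+* Γ(P, ⊤) := ((Scheme.ΓSpecIso B).symm ≪≫ (asIso j.hom.appTop : Γ(Spec B, ⊤) ≅ Γ(P, ⊤))).commRingCatIsoToRingEquiv
  haveI := RingHomInvPair.of_ringEquiv σ
  haveI := RingHomInvPair.of_ringEquiv_symm σ
  have hc : φ ≫ (Scheme.ΓSpecIso B).inv ≫ j.hom.appTop = (Scheme.ΓSpecIso A).inv ≫ p.appTop := by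
    rw [h, Scheme.Hom.comp_appTop, Scheme.ΓSpecIso_inv_naturality_assoc]
  let e : B ≃ₛₗ[(σ : A →+* Γ(Spec A, ⊤))] Γ(P, ⊤) :=
    { τ.toAddEquiv with
      map_smul' := fun a b => by
        refine (map_mul τ (φ.hom a) b).trans ?_
        exact congrArg (· * τ b) (congrArg (fun k => k.hom a) hc) }
  exact Module.Projective.of_equiv e

open CategoryTheory CategoryTheory.Limits AlgebraicGeometry Opposite in
/-- For X = Spec B and S = Spec A affine (purity of a morphism is available here only in ring form), let
A → B be a flat ring map of finite presentation such that the structure sheaf of X = Spec B is pure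
relative to S = Spec A, and let i : Y → Spec B be a closed immersion (a closed subscheme Y of X).
Then the Weil restriction functor of Y along X → S, the functor on schemes over S with one point on
T when the base change Y_T → X_T of i is an isomorphism and empty otherwise (the subfunctor of the
final functor generated by that condition), is representable by a scheme Z over S whose structure
morphism Z → S is a closed immersion. If moreover Y → S is locally of finite presentation (hence of
finite presentation) then Z → S is locally of finite presentation. -/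
theorem result {A B : Type u} [CommRing A] [CommRing B] [Algebra A B] [Algebra.FinitePresentation A B] [Module.Flat A B]
    (hpure : FlatCA.IsPure A B B) {Y : Scheme.{u}} (i : Y ⟶ Spec (CommRingCat.of B)) [IsClosedImmersion i] :
    ∃ Z : Over (Spec (CommRingCat.of A)), IsClosedImmersion Z.hom ∧
      Nonempty ((FlatFun.genPSp (Spec (CommRingCat.of A)) (fun T =>
        IsIso (pullback.snd i (pullback.fst (Spec.map (CommRingCat.ofHom (algebraMap A B))) T.hom)))).RepresentableBy Z) ∧
      (LocallyOfFinitePresentation (i ≫ Spec.map (CommRingCat.ofHom (algebraMap A B))) →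
        LocallyOfFinitePresentation Z.hom) := by
  set f : Spec (CommRingCat.of B) ⟶ Spec (CommRingCat.of A) := Spec.map (CommRingCat.ofHom (algebraMap A B)) with hfdef
  haveI hproj : Module.Projective A B :=
    Groth.Agent.RGFlat.Impurity.projective_of_atPrime (B := B) B fun p _ =>
      Groth.Agent.RGFlat.Impurity.projective_atPrime_of_pure (B := B) B p (hpure p)
  have hess : SGA3x.IsEssentiallyFree f := fun s => by
    refine ⟨⊤, trivial, isAffineOpen_top _, Spec (CommRingCat.of A), inferInstance, (Scheme.topIso _).inv,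
      inferInstance, inferInstance, fun x => ⟨⊤, trivial, ?_, ?_⟩⟩
    · exact isAffineOpen_top _
    · have hq : (Scheme.topIso (Spec (CommRingCat.of A))).inv ≫ (⊤ : (Spec (CommRingCat.of A)).Opens).ι = 𝟙 _ :=
        (Scheme.topIso _).inv_hom_id
      haveI : IsIso ((Scheme.topIso (Spec (CommRingCat.of A))).inv ≫ (⊤ : (Spec (CommRingCat.of A)).Opens).ι) := by
        rw [hq]; infer_instance
      refine projective_sections (CommRingCat.ofHom (algebraMap A B)) ?_
        (Scheme.topIso _ ≪≫ asIso (pullback.fst f ((Scheme.topIso (Spec (CommRingCat.of A))).inv ≫ (⊤ : (Spec (CommRingCat.of A)).Opens).ι))) _ ?_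
      · show @Module.Projective A _ B _ (algebraMap A B).toAlgebra.toModule
        rw [show (algebraMap A B).toAlgebra = (inferInstance : Algebra A B) from Algebra.algebra_ext _ _ fun _ => rfl]
        exact hproj
      · rw [Iso.trans_hom, asIso_hom, Category.assoc]
        show _ = _ ≫ pullback.fst f _ ≫ f
        exact (congrArg ((Scheme.topIso _).hom ≫ ·) (pullback.condition.trans ((congrArg (pullback.snd f _ ≫ ·) hq).trans (Category.comp_id _)))).symm
  obtain ⟨Z, t, ht, hZ, hfp⟩ := Groth.Agent.EssFreeLocus.exists_closed_lands f i hess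
  let P : Over (Spec (CommRingCat.of A)) → Prop := fun T => IsIso (pullback.snd i (pullback.fst f T.hom))
  have hP : ∀ T : Over (Spec (CommRingCat.of A)), P T ↔ ∃ g' : T.left ⟶ Z, g' ≫ t = T.hom := fun T => by
    refine Iff.trans ⟨fun h => ?_, fun h => ?_⟩ (hZ T.left T.hom).symm
    · haveI : IsIso (pullback.snd i (pullback.fst f T.hom)) := h
      exact ⟨inv (pullback.snd i (pullback.fst f T.hom)) ≫ pullback.fst _ _, by
        rw [Category.assoc, pullback.condition, IsIso.inv_hom_id_assoc]⟩
    · obtain ⟨l, hl⟩ := h
      refine ⟨pullback.lift l (𝟙 _) (by rw [hl, Category.id_comp]), ?_, pullback.lift_snd _ _ _⟩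
      rw [← cancel_mono (pullback.snd i (pullback.fst f T.hom)), Category.assoc, pullback.lift_snd, Category.comp_id, Category.id_comp]
  have hmem : ∀ T : Over (Spec (CommRingCat.of A)), Nonempty ((FlatFun.genPSp _ P).obj (op T)) ↔
      ∃ g' : T.left ⟶ Z, g' ≫ t = T.hom := fun T =>
    (FlatFun.genPSp_nonempty_iff_of_stable P (fun T T₀ k h => (hP T).mpr (by
      obtain ⟨g', hg'⟩ := (hP T₀).mp h
      exact ⟨k.left ≫ g', by rw [Category.assoc, hg', Over.w]⟩)) T).trans (hP T)
  haveI := ht
  refine ⟨Over.mk t, ht, ⟨{ homEquiv := fun {T} => ?_, homEquiv_comp := fun _ _ => Subsingleton.elim _ _ }⟩, fun h => hfp inferInstance ?_⟩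
  · haveI : Subsingleton (T ⟶ Over.mk t) := ⟨fun a b => Over.OverMorphism.ext ((cancel_mono t).mp ((Over.w a).trans (Over.w b).symm))⟩
    exact equivOfSubsingletonOfSubsingleton (fun a => ((hmem T).mpr ⟨a.left, Over.w a⟩).some)
      (fun x => Over.homMk ((hmem T).mp ⟨x⟩).choose ((hmem T).mp ⟨x⟩).choose_spec)
  · haveI := h
    haveI : LocallyOfFiniteType f :=
      (HasRingHomProperty.Spec_iff (P := @LocallyOfFiniteType)).mpr (RingHom.finiteType_algebraMap.mpr inferInstance)
    exact Groth.Agent.GrpScheme.FlatFib.locallyOfFinitePresentation_of_comp i f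

end Groth.Agent.S9025
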