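import Groth.Statements.S8261
import Groth.Agent.RelProjLib.Basic
import Groth.Agent.RelProjLib.ProjMap
import Mathlib.AlgebraicGeometry.Morphisms.FiniteType
import Mathlib.AlgebraicGeometry.Morphisms.QuasiSeparated

set_option autoImplicit false
universe u
open CategoryTheory CategoryTheory.Limits AlgebraicGeometry Opposite TopologicalSpace
open scoped HomogeneousIdeal
open EGA2

namespace Groth.Agent.S8261

section

variable {A σ : Type u} [CommRing A] [SetLike σ A] [AddSubgroupClass σ A] (𝒜 : ℕ → σ) [GradedRing 𝒜]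
  {t : A} (ht : t ∈ 𝒜 1)

/-- `a ↦ Σ aₙ / tⁿ`, as a ring homomorphism `A → A_(t)` for `t` of degree one. -/
def dehom : A →+* HomogeneousLocalization.Away 𝒜 t :=
  (DirectSum.toSemiring
    (fun i => AddMonoidHom.mk' (fun x : 𝒜 i => HomogeneousLocalization.Away.mk 𝒜 ht i (x : A) (by simp))
      (fun x y => by
        apply HomogeneousLocalization.val_injective
        simp [HomogeneousLocalization.val_add, Localization.add_mk_self]))
    (by
      apply HomogeneousLocalization.val_injective
      simp [Localization.mk_self])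
    (fun {i j} x y => by
      apply HomogeneousLocalization.val_injective
      simp [HomogeneousLocalization.val_mul, Localization.mk_mul, pow_add])).comp
    (DirectSum.decomposeRingEquiv 𝒜).toRingHom

lemma dehom_of_mem {i : ℕ} {x : A} (hx : x ∈ 𝒜 i) :
    dehom 𝒜 ht x = HomogeneousLocalization.Away.mk 𝒜 ht i x (by simpa using hx) := by
  simp only [dehom, RingHom.comp_apply]
  erw [DirectSum.decompose_of_mem 𝒜 hx]
  rw [DirectSum.toSemiring_of]
  rfl

lemma dehom_surjective : Function.Surjective (dehom 𝒜 ht) := by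
  intro y
  obtain ⟨n, x, hx, rfl⟩ := HomogeneousLocalization.Away.mk_surjective 𝒜 ht y
  exact ⟨x, dehom_of_mem 𝒜 ht (by simpa using hx)⟩

end

/-- Let 𝒮 be a quasi-coherent positively graded O_Y-algebra generated by 𝒮_1 with 𝒮_1 of finite type
over O_Y. Then Proj(𝒮) is of finite type over Y. -/
theorem result {Y P : Scheme.{u}} (𝒮 : RelProj.QCGrAlg Y)
    (hgen : 𝒮.IsGenDegOne) (hft : 𝒮.IsFTDeg 1) (p : P ⟶ Y)
    (chart : ∀ (U : Y.Opens) (hU : IsAffineOpen U), (((p ⁻¹ᵁ U : P.Opens) : Scheme.{u}) ≅ Proj (𝒮.deg U hU)))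
    (hP : RelProj.IsRelProj 𝒮 p chart) : LocallyOfFiniteType p ∧ QuasiCompact p := by
  classical
  have key : ∀ (U : Y.Opens) (hU : IsAffineOpen U),
      LocallyOfFiniteType (Proj.toSpecZero (𝒮.deg U hU) ≫ Spec.map (𝒮.strZero U hU)) ∧
      QuasiCompact (Proj.toSpecZero (𝒮.deg U hU) ≫ Spec.map (𝒮.strZero U hU)) := by
    intro U hU
    obtain ⟨T, hT, hTspan⟩ := hft U hU
    let pr := GradedRing.projZeroRingHom (𝒮.deg U hU)
    have hgen' := hgen U hU
    have hmem : ∀ x, x - pr x ∈ Ideal.span (Set.range (fun t : T => (t : 𝒮.presheaf.obj (op U)))) := by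
      intro x
      have hx : x ∈ Subring.closure ((𝒮.deg U hU 0 : Set (𝒮.presheaf.obj (op U))) ∪ (𝒮.deg U hU 1 : Set _)) :=
        hgen' ▸ Subring.mem_top x
      induction hx using Subring.closure_induction with
      | mem y hy =>
        rcases hy with hy | hy
        · rw [show pr y = y by rw [GradedRing.projZeroRingHom_apply, DirectSum.decompose_of_mem_same _ hy], sub_self]
          exact zero_mem _
        · rw [show pr y = 0 by rw [GradedRing.projZeroRingHom_apply, DirectSum.decompose_of_mem_ne _ hy one_ne_zero],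
            sub_zero]
          obtain ⟨c, rfl⟩ := hTspan y hy
          exact Ideal.sum_mem _ fun t ht => Ideal.mul_mem_left _ _ (Ideal.subset_span ⟨⟨t, ht⟩, rfl⟩)
      | zero => rw [map_zero, sub_zero]; exact zero_mem _
      | one => rw [map_one, sub_self]; exact zero_mem _
      | add a b _ _ ha hb => rw [map_add, add_sub_add_comm]; exact add_mem ha hb
      | neg a _ ha => rw [map_neg, ← neg_sub', neg_mem_iff]; exact ha
      | mul a b _ _ ha hb =>
        rw [map_mul, show a * b - pr a * pr b = a * (b - pr b) + pr b * (a - pr a) by ring]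
        exact add_mem (Ideal.mul_mem_left _ _ hb) (Ideal.mul_mem_left _ _ ha)
    have hirr : (HomogeneousIdeal.irrelevant (𝒮.deg U hU)).toIdeal ≤
        Ideal.span (Set.range (fun t : T => (t : 𝒮.presheaf.obj (op U)))) := by
      intro x hx
      have h0 : pr x = 0 := by
        rw [GradedRing.projZeroRingHom_apply, ← GradedRing.proj_apply]
        exact (HomogeneousIdeal.mem_irrelevant_iff _ _).1 hx
      simpa [h0] using hmem x
    have hcov := Proj.iSup_basicOpen_eq_top (𝒮.deg U hU) _ hirr
    refine ⟨?_, ?_⟩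
    · rw [IsZariskiLocalAtSource.iff_of_iSup_eq_top (P := @LocallyOfFiniteType) _ hcov]
      rintro ⟨t, ht⟩
      rw [← MorphismProperty.cancel_left_of_respectsIso (P := @LocallyOfFiniteType)
        (Proj.basicOpenIsoSpec (𝒮.deg U hU) t (hT ht) one_pos).inv, ← Category.assoc, ← Proj.awayι,
        Proj.awayι_toSpecZero_assoc, ← Spec.map_comp, HasRingHomProperty.Spec_iff (P := @LocallyOfFiniteType)]
      let ψ := dehom (𝒮.deg U hU) (hT ht)
      let : Algebra Γ(Y, U) (HomogeneousLocalization.Away (𝒮.deg U hU) t) :=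
        ((HomogeneousLocalization.fromZeroRingHom (𝒮.deg U hU) _).comp (𝒮.strZero U hU).hom).toAlgebra
      have hψalg : ∀ r, ψ ((𝒮.str.app (op U)).hom r) = algebraMap Γ(Y, U) _ r := by
        intro r
        rw [show ψ _ = _ from dehom_of_mem (𝒮.deg U hU) (hT ht) (𝒮.str_mem U hU r)]
        apply HomogeneousLocalization.val_injective
        rw [HomogeneousLocalization.Away.val_mk]
        exact congrArg₂ Localization.mk rfl (Subtype.ext (pow_zero t))
      show Algebra.FiniteType Γ(Y, U) (HomogeneousLocalization.Away (𝒮.deg U hU) t)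
      refine ⟨⟨T.image ψ, ?_⟩⟩
      rw [eq_top_iff]
      rintro z -
      obtain ⟨x, rfl⟩ := dehom_surjective (𝒮.deg U hU) (hT ht) z
      let G := Algebra.adjoin Γ(Y, U) (↑(T.image ψ) : Set (HomogeneousLocalization.Away (𝒮.deg U hU) t))
      have h1 : ∀ y ∈ 𝒮.deg U hU 1, ψ y ∈ G := by
        intro y hy
        obtain ⟨c, rfl⟩ := hTspan y hy
        rw [map_sum]
        refine sum_mem fun s hs => ?_
        rw [map_mul, hψalg]
        exact mul_mem (G.algebraMap_mem _) (Algebra.subset_adjoin (Finset.mem_image_of_mem ψ hs))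
      have hψt : ψ t = 1 := by
        rw [show ψ t = _ from dehom_of_mem (𝒮.deg U hU) (hT ht) (hT ht)]
        apply HomogeneousLocalization.val_injective
        simp [Localization.mk_self]
      have hx : x ∈ Subring.closure ((𝒮.deg U hU 0 : Set (𝒮.presheaf.obj (op U))) ∪ (𝒮.deg U hU 1 : Set _)) :=
        hgen' ▸ Subring.mem_top x
      have hsub : Subring.closure ((𝒮.deg U hU 0 : Set (𝒮.presheaf.obj (op U))) ∪ (𝒮.deg U hU 1 : Set _)) ≤
          G.toSubring.comap ψ := by
        rw [Subring.closure_le]
        rintro y (hy | hy)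
        · have hy1 : y * t ∈ 𝒮.deg U hU 1 := by
            simpa using SetLike.mul_mem_graded (A := 𝒮.deg U hU) hy (hT ht)
          have := h1 _ hy1
          rwa [map_mul, hψt, mul_one] at this
        · exact h1 y hy
      exact hsub hx
    · have : CompactSpace ↥(Proj (𝒮.deg U hU)) := by
        rw [← isCompact_univ_iff]
        have h := congrArg (fun V : (Proj (𝒮.deg U hU)).Opens => (V : Set ↥(Proj (𝒮.deg U hU)))) hcov
        simp only [Opens.coe_iSup, Opens.coe_top] at h
        rw [← h]
        exact isCompact_iUnion fun t =>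
          (Proj.isAffineOpen_basicOpen (𝒮.deg U hU) (t : 𝒮.presheaf.obj (op U)) (hT t.2) one_pos).isCompact
      exact (quasiCompact_iff_compactSpace _).2 this
  exact ⟨Groth.Agent.RelProjLib.property_of_charts @LocallyOfFiniteType hP fun U hU => (key U hU).1,
    Groth.Agent.RelProjLib.property_of_charts @QuasiCompact hP fun U hU => (key U hU).2⟩

end Groth.Agent.S8261
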