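import Groth.Statements.S8263
import Groth.Agent.RelProjLib.Basic
import Groth.Agent.RelProjLib.ProjMap
import Groth.Agent.S8262

set_option autoImplicit false
universe u
open CategoryTheory CategoryTheory.Limits AlgebraicGeometry Opposite TopologicalSpace
open scoped HomogeneousIdeal
open EGA2

namespace Groth.Agent.S8263

/-- Let φ : 𝒜 → ℬ be a graded homomorphism of quasi-coherent positively graded O_Y-algebras that is
surjective over every affine open of Y, and let h : Proj(ℬ) → Proj(𝒜) be the morphism it induces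
(chartwise the morphism of Proj's induced by φ(U)). Then h is a closed immersion. (The published
statement allows φ to be only eventually surjective in high degrees; this row is the surjective
case, to which the general one reduces.) -/
theorem result {Y PA PB : Scheme.{u}} {𝒜 ℬ : RelProj.QCGrAlg Y}
    (φ : 𝒜.toQCAlg ⟶ ℬ.toQCAlg) (hφ : RelProj.IsGradedHom φ)
    (hsurj : ∀ (U : Y.Opens) (hU : IsAffineOpen U), Function.Surjective (φ.hom.app (op U)).hom)
    (hirr : ∀ (U : Y.Opens) (hU : IsAffineOpen U),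
      (ℬ.deg U hU)₊ ≤ ((𝒜.deg U hU)₊).map (RelProj.gradedHomAt φ hφ U hU))
    (pA : PA ⟶ Y) (pB : PB ⟶ Y)
    (chartA : ∀ (U : Y.Opens) (hU : IsAffineOpen U), (((pA ⁻¹ᵁ U : PA.Opens) : Scheme.{u}) ≅ Proj (𝒜.deg U hU)))
    (chartB : ∀ (U : Y.Opens) (hU : IsAffineOpen U), (((pB ⁻¹ᵁ U : PB.Opens) : Scheme.{u}) ≅ Proj (ℬ.deg U hU)))
    (hA : RelProj.IsRelProj 𝒜 pA chartA) (hB : RelProj.IsRelProj ℬ pB chartB)
    (h : PB ⟶ PA) (hh : RelProj.IsRelProjMap φ hφ hirr chartA chartB h) : IsClosedImmersion h := by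
  have hpA : h ≫ pA = pB := (Groth.Agent.S8262.result φ hφ hirr pA pB chartA chartB hA hB).2 h hh
  rw [IsZariskiLocalAtTarget.iff_of_iSup_eq_top (P := @IsClosedImmersion)
    (fun U : {U : Y.Opens // IsAffineOpen U} => pA ⁻¹ᵁ U.1) ?_]
  · rintro ⟨U, hU⟩
    have hpre : h ⁻¹ᵁ (pA ⁻¹ᵁ U) = pB ⁻¹ᵁ U := by rw [← hpA]; rfl
    have := Groth.Agent.RelProjLib.isClosedImmersion_map (RelProj.gradedHomAt φ hφ U hU) (hirr U hU) (hsurj U hU)
    have e : h ∣_ (pA ⁻¹ᵁ U) = (PB.isoOfEq hpre).hom ≫ (chartB U hU).hom ≫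
        Proj.map (RelProj.gradedHomAt φ hφ U hU) (hirr U hU) ≫ (chartA U hU).inv := by
      rw [← cancel_mono (pA ⁻¹ᵁ U).ι, morphismRestrict_ι]
      simp only [Category.assoc]
      rw [← hh U hU, Scheme.isoOfEq_hom_ι_assoc]
    show IsClosedImmersion (h ∣_ (pA ⁻¹ᵁ U))
    rw [e, MorphismProperty.cancel_left_of_respectsIso (P := @IsClosedImmersion),
      MorphismProperty.cancel_left_of_respectsIso (P := @IsClosedImmersion),
      MorphismProperty.cancel_right_of_respectsIso (P := @IsClosedImmersion)]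
    exact this
  · rw [eq_top_iff]
    intro x _
    obtain ⟨U, hU, y, hy⟩ := Groth.Agent.RelProjLib.exists_emb_apply_eq (p := pA) (chart := chartA) x
    refine Opens.mem_iSup.2 ⟨⟨U, hU⟩, ?_⟩
    show x ∈ pA ⁻¹ᵁ U
    rw [← Groth.Agent.RelProjLib.emb_opensRange (chart := chartA) U hU]
    exact ⟨y, hy⟩

end Groth.Agent.S8263
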