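import Groth.Statements.S8264
import Groth.Agent.RelProjLib.Integral
-- import your own Groth.Agent.* helpers here

set_option autoImplicit false
universe u
open CategoryTheory CategoryTheory.Limits AlgebraicGeometry Opposite TopologicalSpace
open scoped HomogeneousIdeal
open EGA2

namespace Groth.Agent.S8264

/-- Let Y be an integral scheme and 𝒮 a quasi-coherent positively graded O_Y-algebra with 𝒮_0 = O_Y
which is integral, stated here affine-locally: over every nonempty affine open U the ring 𝒮(U) is an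
integral domain whose irrelevant ideal is nonzero (for Y integral this is equivalent to the
stalkwise condition of the published text: every stalk 𝒮_y an integral domain with (𝒮_y)_+ ≠ 0).
Then Proj(𝒮) is integral and its structure morphism to Y is dominant. -/
theorem result {Y P : Scheme.{u}} [IsIntegral Y] (𝒮 : RelProj.QCGrAlg Y)
    (h0 : ∀ (U : Y.Opens) (hU : IsAffineOpen U), Function.Bijective (𝒮.strZero U hU).hom)
    (hint : ∀ (U : Y.Opens) (hU : IsAffineOpen U), (U : Set Y).Nonempty →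
      IsDomain (𝒮.presheaf.obj (op U)) ∧ ((𝒮.deg U hU)₊).toIdeal ≠ ⊥)
    (p : P ⟶ Y)
    (chart : ∀ (U : Y.Opens) (hU : IsAffineOpen U), (((p ⁻¹ᵁ U : P.Opens) : Scheme.{u}) ≅ Proj (𝒮.deg U hU)))
    (hP : RelProj.IsRelProj 𝒮 p chart) : IsIntegral P ∧ DenseRange p.base := by
  classical
  have hP' : ∀ (U : Y.Opens) (hU : IsAffineOpen U), (U : Set Y).Nonempty →
      ∃ η : Proj (𝒮.deg U hU), ∀ O : (Proj (𝒮.deg U hU)).Opens, (O : Set (Proj (𝒮.deg U hU))).Nonempty → η ∈ O := by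
    intro U hU hne
    have := (hint U hU hne).1
    exact RelProjLib.exists_point_dense (hint U hU hne).2
  -- every nonempty affine has a point over it
  have hpt : ∀ (U : Y.Opens) (hU : IsAffineOpen U), (U : Set Y).Nonempty → ∃ x : P, p x ∈ U := by
    intro U hU hne
    obtain ⟨η, -⟩ := hP' U hU hne
    have h : RelProj.emb p chart U hU η ∈ (RelProj.emb p chart U hU).opensRange := ⟨η, rfl⟩
    rw [RelProjLib.emb_opensRange] at h
    exact ⟨_, h⟩
  have hdense : DenseRange p.base := by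
    intro y
    refine mem_closure_iff.2 fun O hO hyO => ?_
    obtain ⟨_, ⟨U, hU, rfl⟩, hyU, hUO⟩ := Y.isBasis_affineOpens.exists_subset_of_mem_open hyO hO
    obtain ⟨x, hx⟩ := hpt U hU ⟨y, hyU⟩
    exact ⟨p x, hUO hx, x, rfl⟩
  have hne : Nonempty P := by
    obtain ⟨y⟩ := (inferInstance : Nonempty Y)
    obtain ⟨_, ⟨U, hU, rfl⟩, hyU, -⟩ := Y.isBasis_affineOpens.exists_subset_of_mem_open
      (show y ∈ (⊤ : Y.Opens) from trivial) isOpen_univ
    exact ⟨(hpt U hU ⟨y, hyU⟩).choose⟩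
  have hmeet : ∀ O₁ O₂ : P.Opens, (O₁ : Set P).Nonempty → (O₂ : Set P).Nonempty → ((O₁ : Set P) ∩ O₂).Nonempty := by
    rintro O₁ O₂ ⟨x₁, hx₁⟩ ⟨x₂, hx₂⟩
    obtain ⟨U₁, hU₁, y₁, rfl⟩ := RelProjLib.exists_emb_apply_eq (p := p) (chart := chart) x₁
    obtain ⟨U₂, hU₂, y₂, rfl⟩ := RelProjLib.exists_emb_apply_eq (p := p) (chart := chart) x₂
    have hin : ∀ (U : Y.Opens) (hU : IsAffineOpen U) (y : Proj (𝒮.deg U hU)), p (RelProj.emb p chart U hU y) ∈ U := by
      intro U hU y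
      have h : RelProj.emb p chart U hU y ∈ (RelProj.emb p chart U hU).opensRange := ⟨y, rfl⟩
      rwa [RelProjLib.emb_opensRange] at h
    obtain ⟨w, hw⟩ := nonempty_preirreducible_inter U₁.2 U₂.2 ⟨_, hin U₁ hU₁ y₁⟩ ⟨_, hin U₂ hU₂ y₂⟩
    obtain ⟨_, ⟨W, hW, rfl⟩, hwW, hWle⟩ := Y.isBasis_affineOpens.exists_subset_of_mem_open hw (U₁.2.inter U₂.2)
    obtain ⟨x, hx⟩ := hpt W hW ⟨w, hwW⟩
    have move : ∀ (U : Y.Opens) (hU : IsAffineOpen U) (O : P.Opens) (y : Proj (𝒮.deg U hU)),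
        W ≤ U → RelProj.emb p chart U hU y ∈ O → ∃ z, RelProj.emb p chart W hW z ∈ O := by
      intro U hU O y hWU hy
      obtain ⟨η, hη⟩ := hP' U hU ⟨_, hin U hU y⟩
      have h1 := hη (RelProj.emb p chart U hU ⁻¹ᵁ O) ⟨y, hy⟩
      obtain ⟨v, rfl⟩ : x ∈ (RelProj.emb p chart U hU).opensRange := by
        rw [RelProjLib.emb_opensRange]; exact hWU hx
      have h2 := hη (RelProj.emb p chart U hU ⁻¹ᵁ (p ⁻¹ᵁ W)) ⟨v, hx⟩
      obtain ⟨z, hz⟩ : RelProj.emb p chart U hU η ∈ (RelProj.emb p chart W hW).opensRange := by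
        rw [RelProjLib.emb_opensRange]; exact h2
      exact ⟨z, hz ▸ h1⟩
    obtain ⟨z₁, hz₁⟩ := move U₁ hU₁ O₁ y₁ (fun a ha => (hWle ha).1) hx₁
    obtain ⟨z₂, hz₂⟩ := move U₂ hU₂ O₂ y₂ (fun a ha => (hWle ha).2) hx₂
    obtain ⟨η, hη⟩ := hP' W hW ⟨w, hwW⟩
    exact ⟨RelProj.emb p chart W hW η, hη (RelProj.emb p chart W hW ⁻¹ᵁ O₁) ⟨z₁, hz₁⟩,
      hη (RelProj.emb p chart W hW ⁻¹ᵁ O₂) ⟨z₂, hz₂⟩⟩
  have : IrreducibleSpace P :=
    { isPreirreducible_univ := fun u v hu hv hu' hv' => by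
        simpa using hmeet ⟨u, hu⟩ ⟨v, hv⟩ (by simpa using hu') (by simpa using hv')
      toNonempty := hne }
  have : IsReduced P := by
    apply +allowSynthFailures @IsReduced.of_openCover (𝒰 := RelProjLib.embCover p chart)
    rintro ⟨U, hU⟩
    refine RelProjLib.isReduced_proj _ fun x hx hnil => ?_
    rcases (U : Set Y).eq_empty_or_nonempty with hU0 | hne'
    · have hb : U = ⊥ := Opens.ext hU0
      have : Subsingleton Γ(Y, U) := by rw [hb]; infer_instance
      have h01 : (1 : 𝒮.presheaf.obj (op U)) = 0 := by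
        rw [← map_one (𝒮.str.app (op U)).hom, Subsingleton.elim (1 : Γ(Y, U)) 0, map_zero]
      rw [← mul_one x, h01, mul_zero]
    · have := (hint U hU hne').1
      exact hnil.eq_zero
  exact ⟨isIntegral_of_irreducibleSpace_of_isReduced P, hdense⟩

end Groth.Agent.S8264
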