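import Groth.Statements.S8265
import Groth.Agent.RelProjLib.Integral
-- import your own Groth.Agent.* helpers here

set_option autoImplicit false
universe u
open CategoryTheory CategoryTheory.Limits AlgebraicGeometry Opposite TopologicalSpace
open scoped HomogeneousIdeal
open EGA2

namespace Groth.Agent.S8265

/-- Let Y be an integral scheme and 𝒮 a quasi-coherent positively graded O_Y-algebra with 𝒮_0 = O_Y
which is essentially reduced (affine-locally, every nilpotent element of the irrelevant ideal of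
𝒮(U) vanishes). If Proj(𝒮) is integral and dominant over Y, then 𝒮 is integral: over every nonempty
affine open U, 𝒮(U) is an integral domain with nonzero irrelevant ideal (for Y integral, the
affine-local form of the stalkwise condition of the text). -/
theorem result {Y P : Scheme.{u}} [IsIntegral Y] (𝒮 : RelProj.QCGrAlg Y)
    (h0 : ∀ (U : Y.Opens) (hU : IsAffineOpen U), Function.Bijective (𝒮.strZero U hU).hom)
    (hred : ∀ (U : Y.Opens) (hU : IsAffineOpen U) (x : 𝒮.presheaf.obj (op U)),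
      x ∈ (𝒮.deg U hU)₊ → IsNilpotent x → x = 0)
    (p : P ⟶ Y)
    (chart : ∀ (U : Y.Opens) (hU : IsAffineOpen U), (((p ⁻¹ᵁ U : P.Opens) : Scheme.{u}) ≅ Proj (𝒮.deg U hU)))
    (hP : RelProj.IsRelProj 𝒮 p chart) [IsIntegral P] (hdom : DenseRange p.base)
    (U : Y.Opens) (hU : IsAffineOpen U) (hne : (U : Set Y).Nonempty) :
    IsDomain (𝒮.presheaf.obj (op U)) ∧ ((𝒮.deg U hU)₊).toIdeal ≠ ⊥ := by
  classical
  obtain ⟨x, hxU⟩ := hdom.exists_mem_open U.2 hne
  obtain ⟨y₀, rfl⟩ : x ∈ (RelProj.emb p chart U hU).opensRange := by rw [RelProjLib.emb_opensRange]; exact hxU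
  let f := RelProj.emb p chart U hU
  have : Nonempty (Proj (𝒮.deg U hU)) := ⟨y₀⟩
  have : IsIntegral (Proj (𝒮.deg U hU)) := isIntegral_of_isOpenImmersion f
  let η : Proj (𝒮.deg U hU) := genericPoint (Proj (𝒮.deg U hU))
  have hη : ∀ a, a ∈ η.asHomogeneousIdeal → ∀ y : Proj (𝒮.deg U hU), a ∈ y.asHomogeneousIdeal := by
    intro a ha y
    by_contra hay
    exact ((genericPoint_spec (Proj (𝒮.deg U hU))).mem_open_set_iff (Proj.basicOpen (𝒮.deg U hU) a).2).2
      ⟨y, trivial, hay⟩ ha
  have hz : ∀ (k : ℕ), 0 < k → ∀ a ∈ 𝒮.deg U hU k, a ∈ η.asHomogeneousIdeal → a = 0 := fun k hk a hak ha =>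
    hred U hU a (HomogeneousIdeal.mem_irrelevant_of_mem _ hk hak)
      (RelProjLib.isNilpotent_of_forall_mem hk hak (hη a ha))
  have hbot : η.asHomogeneousIdeal.toIdeal = ⊥ := by
    rw [eq_bot_iff]
    intro a ha
    rw [Submodule.mem_bot, ← DirectSum.sum_support_decompose (𝒮.deg U hU) a]
    refine Finset.sum_eq_zero fun k _ => ?_
    have hk := η.asHomogeneousIdeal.isHomogeneous k ha
    rcases Nat.eq_zero_or_pos k with rfl | hk0
    · obtain ⟨r, hr⟩ := (h0 U hU).2 (DirectSum.decompose (𝒮.deg U hU) a 0)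
      have hr' : (𝒮.str.app (op U)).hom r = (DirectSum.decompose (𝒮.deg U hU) a 0 : 𝒮.presheaf.obj (op U)) :=
        congrArg Subtype.val hr
      suffices r = 0 by rw [← hr', this, map_zero]
      by_contra hr0
      have hne' : (Y.basicOpen r : Set Y).Nonempty := Set.nonempty_iff_ne_empty.2 fun he =>
        hr0 ((basicOpen_eq_bot_iff r).1 (Opens.ext he))
      obtain ⟨x', hxr⟩ := hdom.exists_mem_open (Y.basicOpen r).2 hne'
      obtain ⟨y, rfl⟩ : x' ∈ (RelProj.emb p chart U hU).opensRange := by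
        rw [RelProjLib.emb_opensRange]; exact Y.basicOpen_le r hxr
      have hry := RelProjLib.str_notMem hP hU r y hxr
      obtain ⟨i, hi, g, hg, hgy⟩ : ∃ i, 0 < i ∧ ∃ g ∈ 𝒮.deg U hU i, g ∉ y.asHomogeneousIdeal := by
        by_contra hne''
        push Not at hne''
        exact y.not_irrelevant_le ((HomogeneousIdeal.irrelevant_le _).2 fun i hi g hg => hne'' i hi g hg)
      have hrg : (𝒮.str.app (op U)).hom r * g = 0 := by
        refine hz i hi _ ?_ (Ideal.mul_mem_right _ _ (hr' ▸ hk))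
        have := SetLike.mul_mem_graded (A := 𝒮.deg U hU) (𝒮.str_mem U hU r) hg
        rwa [zero_add] at this
      exact (y.isPrime.mem_or_mem (show _ * g ∈ y.asHomogeneousIdeal.toIdeal from
        hrg ▸ zero_mem _)).elim hry hgy
    · exact hz k hk0 _ (SetLike.coe_mem _) hk
  have hprime : (⊥ : Ideal (𝒮.presheaf.obj (op U))).IsPrime := hbot ▸ η.isPrime
  exact ⟨IsDomain.of_bot_isPrime _, fun h => η.not_irrelevant_le ((le_of_eq h).trans bot_le)⟩

end Groth.Agent.S8265
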