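import Groth.Statements.S8269
import Groth.Agent.VBEmbed65.Basic

set_option autoImplicit false
universe u
open CategoryTheory CategoryTheory.Limits AlgebraicGeometry Opposite TopologicalSpace
open EGA2

namespace Groth.Agent.S8269

/-- Let Y be either a quasi-compact separated scheme or a scheme with Noetherian underlying space, and X
affine and of finite type over Y. Then X is Y-isomorphic to a closed subscheme of a vector bundle
V(E) with E a quasi-coherent O_Y-module of finite type: there are such an E, its symmetric algebra
A, and a closed immersion X → Spec(A) over Y. -/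
theorem result {X Y : Scheme.{u}}
    (hY : (CompactSpace Y ∧ Y.IsSeparated) ∨ NoetherianSpace Y) (f : X ⟶ Y) [IsAffineHom f]
    [LocallyOfFiniteType f] :
    ∃ (E : Y.Modules) (_ : Coh.IsCoh E) (A : RelSpec.QCAlg Y) (j : E ⟶ A.toModule)
      (_ : RelSpec.IsSymAlg E A j) (i : X ⟶ A.spec), IsClosedImmersion i ∧ i ≫ A.π = f := by
  obtain ⟨hc, hqs⟩ : CompactSpace Y ∧ QuasiSeparatedSpace Y := by
    rcases hY with ⟨h1, h2⟩ | h
    · exact ⟨h1, inferInstance⟩
    · exact ⟨inferInstance, inferInstance⟩
  exact VBEmbed65.exists_closedImmersion f

end Groth.Agent.S8269
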