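import Groth.Statements.S8271
import Groth.Agent.SymLib.Affine
import Groth.Agent.RelSpecLib.Prod
import Groth.Agent.QCoh.Exact
-- import your own Groth.Agent.* helpers here

set_option autoImplicit false
universe u
open CategoryTheory CategoryTheory.Limits AlgebraicGeometry Opposite TopologicalSpace
open EGA2

namespace Groth.Agent.S8271

/-- For quasi-coherent O_S-modules E and F, the vector bundle V(E ⊕ F) is identified with V(E) ×_S V(F):
with A_E, A_F, A the symmetric algebras of E, F, E ⊕ F and ψ_E : A_E → A, ψ_F : A_F → A the algebra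
maps extending the inclusions of the two summands, the square formed by Spec(A) → Spec(A_E), Spec(A)
→ Spec(A_F) and the two structure morphisms to S is a pullback square. -/
theorem result {S : Scheme.{u}} (E F : S.Modules) (hE : Coh.IsQCoh E) (hF : Coh.IsQCoh F)
    (AE AF A : RelSpec.QCAlg S) (jE : E ⟶ AE.toModule) (jF : F ⟶ AF.toModule) (j : E ⊞ F ⟶ A.toModule)
    (hAE : RelSpec.IsSymAlg E AE jE) (hAF : RelSpec.IsSymAlg F AF jF) (hA : RelSpec.IsSymAlg (E ⊞ F) A j)
    (ψE : AE ⟶ A) (ψF : AF ⟶ A)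
    (hψE : jE ≫ RelSpec.QCAlg.Hom.toModuleMap ψE = biprod.inl ≫ j)
    (hψF : jF ≫ RelSpec.QCAlg.Hom.toModuleMap ψF = biprod.inr ≫ j) :
    IsPullback (RelSpec.QCAlg.specMap ψE) (RelSpec.QCAlg.specMap ψF) AE.π AF.π := by
  have : E.IsQuasicoherent := hE
  have : F.IsQuasicoherent := hF
  have : (E ⊞ F).IsQuasicoherent := by
    have : ∀ k : Discrete WalkingPair, ((pair E F).obj k).IsQuasicoherent := by
      rintro ⟨⟨⟩⟩ <;> assumption
    have := QCoh.isQuasicoherent_colimit (pair E F)
    exact QCoh.isQuasicoherent_of_iso (biprod.isoCoprod E F).symm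
  refine RelSpecLib.isPullback_specMap ψE ψF fun U hU => ?_
  have wE : ∀ r, (ψE.hom.app (op U)).hom ((AE.str.app (op U)).hom r) = (A.str.app (op U)).hom r := fun r =>
    congr($(NatTrans.congr_app ψE.comm (op U)).hom r)
  have wF : ∀ r, (ψF.hom.app (op U)).hom ((AF.str.app (op U)).hom r) = (A.str.app (op U)).hom r := fun r =>
    congr($(NatTrans.congr_app ψF.comm (op U)).hom r)
  refine ⟨⟨CommRingCat.hom_ext (RingHom.ext fun r => (wE r).trans (wF r).symm)⟩,
    ⟨PushoutCocone.isColimitAux' _ fun c => ?_⟩⟩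
  let C := (c.pt : Type u)
  let iC : Algebra Γ(S, U) C := (c.inl.hom.comp (AE.str.app (op U)).hom).toAlgebra
  have hc : ∀ r, c.inl.hom ((AE.str.app (op U)).hom r) = c.inr.hom ((AF.str.app (op U)).hom r) := fun r =>
    congr($(c.condition).hom r)
  let a₁ : Γ(E ⊞ F, U) → C := fun m => c.inl.hom (jE.app U ((biprod.fst : E ⊞ F ⟶ E).app U m))
  let a₂ : Γ(E ⊞ F, U) → C := fun m => c.inr.hom (jF.app U ((biprod.snd : E ⊞ F ⟶ F).app U m))
  let l : Γ(E ⊞ F, U) →ₗ[Γ(S, U)] C :=
    { toFun := fun m => a₁ m + a₂ m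
      map_add' := fun a b => by
        have e1 : a₁ (a + b) = a₁ a + a₁ b := ((congrArg c.inl.hom ((congrArg (jE.app U) (map_add _ a b)).trans
          (map_add _ _ _))).trans (map_add c.inl.hom _ _))
        have e2 : a₂ (a + b) = a₂ a + a₂ b := ((congrArg c.inr.hom ((congrArg (jF.app U) (map_add _ a b)).trans
          (map_add _ _ _))).trans (map_add c.inr.hom _ _))
        rw [e1, e2, add_add_add_comm]
      map_smul' := fun r m => by
        have e1 : a₁ (r • m) = c.inl.hom ((AE.str.app (op U)).hom r) * a₁ m :=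
          ((congrArg c.inl.hom ((congrArg (jE.app U) (Scheme.Modules.Hom.app_smul _ r m)).trans
            (jE.app_smul r _))).trans (map_mul c.inl.hom _ _))
        have e2 : a₂ (r • m) = c.inl.hom ((AE.str.app (op U)).hom r) * a₂ m := by
          rw [hc r]
          exact ((congrArg c.inr.hom ((congrArg (jF.app U) (Scheme.Modules.Hom.app_smul _ r m)).trans
            (jF.app_smul r _))).trans (map_mul c.inr.hom _ _))
        rw [e1, e2, ← mul_add]
        rfl }
  let Ψ := (SymmetricAlgebra.lift l).toRingHom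
  let e := RingEquiv.ofBijective (SymLib.affLift j U) (SymLib.affLift_bijective hA hU)
  let desc : A.presheaf.obj (op U) ⟶ c.pt := CommRingCat.ofHom (Ψ.comp e.symm.toRingHom)
  have hdl : ∀ x, desc.hom (SymLib.affLift j U x) = Ψ x := fun x => congrArg Ψ (e.symm_apply_apply x)
  have d1 : ∀ r, desc.hom ((A.str.app (op U)).hom r) = c.inl.hom ((AE.str.app (op U)).hom r) := fun r => by
    rw [← SymLib.affLift_algebraMap j U r, hdl]
    exact AlgHom.commutes _ r
  have d2 : ∀ m, desc.hom (j.app U m) = a₁ m + a₂ m := fun m => by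
    rw [← SymLib.affLift_ι j U m, hdl]
    exact SymmetricAlgebra.lift_ι_apply _ _
  have ifst : ∀ m : Γ(E, U), (biprod.fst : E ⊞ F ⟶ E).app U ((biprod.inl : E ⟶ E ⊞ F).app U m) = m := fun m =>
    congrArg (fun f : E ⟶ E => f.app U m) (biprod.inl_fst (X := E) (Y := F))
  have isnd : ∀ m : Γ(F, U), (biprod.snd : E ⊞ F ⟶ F).app U ((biprod.inr : F ⟶ E ⊞ F).app U m) = m := fun m =>
    congrArg (fun f : F ⟶ F => f.app U m) (biprod.inr_snd (X := E) (Y := F))
  have ifs : ∀ m : Γ(F, U), (biprod.fst : E ⊞ F ⟶ E).app U ((biprod.inr : F ⟶ E ⊞ F).app U m) = 0 := fun m =>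
    congrArg (fun f : F ⟶ E => f.app U m) (biprod.inr_fst (X := E) (Y := F))
  have isf : ∀ m : Γ(E, U), (biprod.snd : E ⊞ F ⟶ F).app U ((biprod.inl : E ⟶ E ⊞ F).app U m) = 0 := fun m =>
    congrArg (fun f : E ⟶ F => f.app U m) (biprod.inl_snd (X := E) (Y := F))
  have itot : ∀ x : Γ(E ⊞ F, U), x = (biprod.inl : E ⟶ E ⊞ F).app U ((biprod.fst : E ⊞ F ⟶ E).app U x) +
      (biprod.inr : F ⟶ E ⊞ F).app U ((biprod.snd : E ⊞ F ⟶ F).app U x) := fun x =>
    congrArg (fun f : E ⊞ F ⟶ E ⊞ F => f.app U x) (biprod.total (X := E) (Y := F)).symm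
  have kE : ∀ m, (ψE.hom.app (op U)).hom (jE.app U m) = j.app U ((biprod.inl : E ⟶ E ⊞ F).app U m) := fun m =>
    congr(($(hψE).app U) m)
  have kF : ∀ m, (ψF.hom.app (op U)).hom (jF.app U m) = j.app U ((biprod.inr : F ⟶ E ⊞ F).app U m) := fun m =>
    congr(($(hψF).app U) m)
  have z1 : c.inl.hom (jE.app U 0) = 0 := (congrArg c.inl.hom (map_zero _)).trans (map_zero c.inl.hom)
  have z2 : c.inr.hom (jF.app U 0) = 0 := (congrArg c.inr.hom (map_zero _)).trans (map_zero c.inr.hom)
  refine ⟨desc, CommRingCat.hom_ext (RingHom.ext fun a => ?_), CommRingCat.hom_ext (RingHom.ext fun a => ?_),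
    fun {m} h1 h2 => CommRingCat.hom_ext (RingHom.ext fun a => ?_)⟩
  · change desc.hom ((ψE.hom.app (op U)).hom a) = c.inl.hom a
    induction a using SymLib.affInduction hAE hU with
    | hstr r => rw [wE, d1]
    | hj n => rw [kE, d2]; simp only [a₁, a₂, ifst, isf, z2, add_zero]
    | hmul a b ha hb => simp only [map_mul, ha, hb]
    | hadd a b ha hb => simp only [map_add, ha, hb]
  · change desc.hom ((ψF.hom.app (op U)).hom a) = c.inr.hom a
    induction a using SymLib.affInduction hAF hU with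
    | hstr r => rw [wF, d1, hc]
    | hj n => rw [kF, d2]; simp only [a₁, a₂, isnd, ifs, z1, zero_add]
    | hmul a b ha hb => simp only [map_mul, ha, hb]
    | hadd a b ha hb => simp only [map_add, ha, hb]
  · induction a using SymLib.affInduction hA hU with
    | hstr r =>
      exact (congrArg m.hom (wE r).symm).trans ((congr($(h1).hom ((AE.str.app (op U)).hom r))).trans (d1 r).symm)
    | hj n =>
      have e : (j.app U n : A.presheaf.obj (op U)) = (ψE.hom.app (op U)).hom (jE.app U ((biprod.fst : E ⊞ F ⟶ E).app U n)) +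
          (ψF.hom.app (op U)).hom (jF.app U ((biprod.snd : E ⊞ F ⟶ F).app U n)) :=
        (congrArg (j.app U) (itot n)).trans ((map_add _ _ _).trans (congrArg₂ (· + ·) (kE _).symm (kF _).symm))
      refine ((congrArg m.hom e).trans (map_add m.hom _ _)).trans ((congrArg₂ (· + ·) ?_ ?_).trans (d2 n).symm)
      · exact congr($(h1).hom (jE.app U ((biprod.fst : E ⊞ F ⟶ E).app U n)))
      · exact congr($(h2).hom (jF.app U ((biprod.snd : E ⊞ F ⟶ F).app U n)))
    | hmul a b ha hb => exact (map_mul m.hom a b).trans ((congrArg₂ (· * ·) ha hb).trans (map_mul desc.hom a b).symm)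
    | hadd a b ha hb => exact (map_add m.hom a b).trans ((congrArg₂ (· + ·) ha hb).trans (map_add desc.hom a b).symm)

end Groth.Agent.S8271
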