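import Groth.Statements.S8272
import Mathlib.AlgebraicGeometry.Morphisms.Affine
import Mathlib.AlgebraicGeometry.ProjectiveSpectrum.Proper

set_option autoImplicit false
universe u
open CategoryTheory CategoryTheory.Limits AlgebraicGeometry Opposite TopologicalSpace
open EGA2

namespace Groth.Agent.S8272

/-- Let T be a positively graded ring, Z = Proj T and g ∈ T_d (d > 0) a homogeneous element that is not
a zero divisor in T. Then Z is the smallest closed subscheme of Z containing the open D_+(g);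
equivalently the kernel (ideal sheaf) of the open immersion D_+(g) → Z vanishes. -/
theorem result {R A : Type u} [CommRing R] [CommRing A] [Algebra R A]
    (𝒜 : ℕ → Submodule R A) [GradedAlgebra 𝒜] {d : ℕ} (hd : 0 < d) (g : A) (hg : g ∈ 𝒜 d)
    (hnz : g ∈ nonZeroDivisors A) :
    (Proj.basicOpen 𝒜 g).ι.ker = ⊥ := by
  have : QuasiCompact (Proj.basicOpen 𝒜 g).ι := by
    have : IsAffine (Proj.basicOpen 𝒜 g) := Proj.isAffineOpen_basicOpen 𝒜 g hg hd
    have : QuasiCompact ((Proj.basicOpen 𝒜 g).ι ≫ Proj.toSpecZero 𝒜) := inferInstance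
    exact QuasiCompact.of_comp _ (Proj.toSpecZero 𝒜)
  refine Scheme.IdealSheafData.ext_of_iSup_eq_top
    (fun i : Σ i : PNat, 𝒜 i => ⟨Proj.basicOpen 𝒜 (i.2 : A), Proj.isAffineOpen_basicOpen 𝒜 _ i.2.2 i.1.2⟩) ?_ fun ⟨e, ⟨f, hf⟩⟩ => ?_
  · refine top_unique fun x _ => ?_
    obtain ⟨j, y, hy⟩ := (Proj.affineOpenCover 𝒜).openCover.exists_eq x
    refine Opens.mem_iSup.2 ⟨j, ?_⟩
    show x ∈ Proj.basicOpen 𝒜 (j.2 : A)
    rw [← Proj.opensRange_awayι 𝒜 _ j.2.2 j.1.2]
    exact ⟨y, hy⟩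
  · rw [Scheme.Hom.ker_apply, Scheme.IdealSheafData.ideal_bot, Pi.bot_apply]
    refine (RingHom.injective_iff_ker_eq_bot _).1 ((injective_iff_map_eq_zero _).2 fun s hs => ?_)
    have h1 : ((Proj 𝒜).presheaf.map (homOfLE (Proj.basicOpen_mono 𝒜 _ _ (Dvd.intro g rfl : f ∣ f * g))).op).hom s = 0 := by
      have hle : Proj.basicOpen 𝒜 (f * g) ≤ (Proj.basicOpen 𝒜 g).ι ''ᵁ ((Proj.basicOpen 𝒜 g).ι ⁻¹ᵁ Proj.basicOpen 𝒜 f) := by
        rw [Scheme.Hom.image_preimage_eq_opensRange_inf, Scheme.Opens.opensRange_ι, Proj.basicOpen_mul, inf_comm]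
      rw [Scheme.Opens.ι_app] at hs
      have := congrArg ((Proj 𝒜).presheaf.map (homOfLE hle).op).hom hs
      erw [map_zero, ← CommRingCat.comp_apply, ← Functor.map_comp] at this
      exact this
    obtain ⟨z, rfl⟩ := (ConcreteCategory.bijective_of_isIso (Proj.basicOpenIsoAway 𝒜 f hf e.pos).hom).2 s
    rw [Proj.basicOpenIsoAway_hom] at *
    have h2 := Proj.awayMap_awayToSection 𝒜 (f := f) (g := g) hg rfl
    have h3 : (Proj.awayToSection 𝒜 (f * g)).hom (HomogeneousLocalization.awayMap 𝒜 hg rfl z) = 0 :=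
      (congr($(h2).hom z)).trans h1
    have h4 : HomogeneousLocalization.awayMap 𝒜 hg rfl z = 0 := by
      refine (ConcreteCategory.bijective_of_isIso (Proj.basicOpenIsoAway 𝒜 (f * g) (SetLike.mul_mem_graded hf hg) (Nat.add_pos_left e.pos _)).hom).1 ?_
      rw [Proj.basicOpenIsoAway_hom, map_zero]
      exact h3
    obtain ⟨n, a, ha, rfl⟩ := HomogeneousLocalization.Away.mk_surjective 𝒜 hf z
    suffices h : HomogeneousLocalization.Away.mk 𝒜 hf n a ha = 0 by rw [h]; exact map_zero _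
    rw [← (HomogeneousLocalization.val_injective _).eq_iff] at h4 ⊢
    rw [HomogeneousLocalization.Away.mk, HomogeneousLocalization.val_awayMap_mk, Localization.mk_eq_mk', HomogeneousLocalization.val_zero,
      IsLocalization.mk'_eq_zero_iff] at h4
    obtain ⟨⟨_, m, rfl⟩, hm⟩ := h4
    simp only [map_zero, HomogeneousLocalization.val_zero] 
    rw [HomogeneousLocalization.Away.val_mk, Localization.mk_eq_mk', IsLocalization.mk'_eq_zero_iff]
    refine ⟨⟨_, m, rfl⟩, ?_⟩
    simp only [mul_pow] at hm ⊢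
    have : (f ^ m * a) * g ^ (m + n) = 0 := by rw [pow_add]; linear_combination hm
    exact (mem_nonZeroDivisors_iff_right.1 (pow_mem hnz _)) _ this

end Groth.Agent.S8272
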