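import Groth.Statements.S8273
import Groth.Agent.RelProjLib.Basic

set_option autoImplicit false
universe u
open CategoryTheory CategoryTheory.Limits AlgebraicGeometry Opposite TopologicalSpace
open scoped HomogeneousIdeal
open EGA2

namespace Groth.Agent.S8273

/-- Uniqueness of the relative homogeneous spectrum: two schemes over Y equipped with the chart data of
Proj(𝒮) are related by a unique morphism compatible with the charts (chartwise the identity of Proj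
𝒮(U)), and that morphism is a Y-isomorphism. -/
theorem result {Y P P' : Scheme.{u}} (𝒮 : RelProj.QCGrAlg Y) (p : P ⟶ Y)
    (chart : ∀ (U : Y.Opens) (hU : IsAffineOpen U), (((p ⁻¹ᵁ U : P.Opens) : Scheme.{u}) ≅ Proj (𝒮.deg U hU)))
    (hP : RelProj.IsRelProj 𝒮 p chart) (p' : P' ⟶ Y)
    (chart' : ∀ (U : Y.Opens) (hU : IsAffineOpen U), (((p' ⁻¹ᵁ U : P'.Opens) : Scheme.{u}) ≅ Proj (𝒮.deg U hU)))
    (hP' : RelProj.IsRelProj 𝒮 p' chart') :
    (∃! e : P ⟶ P', ∀ (U : Y.Opens) (hU : IsAffineOpen U),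
        (p ⁻¹ᵁ U).ι ≫ e = (chart U hU).hom ≫ (chart' U hU).inv ≫ (p' ⁻¹ᵁ U).ι) ∧
      ∀ e : P ⟶ P', (∀ (U : Y.Opens) (hU : IsAffineOpen U),
        (p ⁻¹ᵁ U).ι ≫ e = (chart U hU).hom ≫ (chart' U hU).inv ≫ (p' ⁻¹ᵁ U).ι) → IsIso e ∧ e ≫ p' = p := by
  have agree : ∀ {Q Q' : Scheme.{u}} (q : Q ⟶ Y) (q' : Q' ⟶ Y)
      (cQ : ∀ (U : Y.Opens) (hU : IsAffineOpen U), (((q ⁻¹ᵁ U : Q.Opens) : Scheme.{u}) ≅ Proj (𝒮.deg U hU)))
      (cQ' : ∀ (U : Y.Opens) (hU : IsAffineOpen U), (((q' ⁻¹ᵁ U : Q'.Opens) : Scheme.{u}) ≅ Proj (𝒮.deg U hU))),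
      RelProj.IsRelProj 𝒮 q cQ → RelProj.IsRelProj 𝒮 q' cQ' →
      ∃! e : Q ⟶ Q', ∀ (U : Y.Opens) (hU : IsAffineOpen U),
        RelProj.emb q cQ U hU ≫ e = RelProj.emb q' cQ' U hU :=
    fun q q' cQ cQ' hQ hQ' => Groth.Agent.RelProjLib.existsUnique_glue hQ
      (fun U hU => RelProj.emb q' cQ' U hU) (fun U hU r => RelProj.map_res_emb hQ' U hU r)
  have key : ∀ (e : P ⟶ P') (U : Y.Opens) (hU : IsAffineOpen U),
      ((p ⁻¹ᵁ U).ι ≫ e = (chart U hU).hom ≫ (chart' U hU).inv ≫ (p' ⁻¹ᵁ U).ι ↔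
        RelProj.emb p chart U hU ≫ e = RelProj.emb p' chart' U hU) := by
    intro e U hU
    rw [RelProj.emb, RelProj.emb, Category.assoc, Iso.inv_comp_eq]
  obtain ⟨e, he, heu⟩ := agree p p' chart chart' hP hP'
  refine ⟨⟨e, fun U hU => (key e U hU).2 (he U hU), fun g hg => heu g fun U hU => (key g U hU).1 (hg U hU)⟩,
    fun g hg => ?_⟩
  obtain rfl : g = e := heu g fun U hU => (key g U hU).1 (hg U hU)
  obtain ⟨e', he', -⟩ := agree p' p chart' chart hP' hP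
  refine ⟨⟨e', ?_, ?_⟩, ?_⟩
  · exact Groth.Agent.RelProjLib.hom_ext (chart := chart) fun U hU => by
      rw [reassoc_of% (he U hU), he', Category.comp_id]
  · exact Groth.Agent.RelProjLib.hom_ext (chart := chart') fun U hU => by
      rw [reassoc_of% (he' U hU), he, Category.comp_id]
  · exact Groth.Agent.RelProjLib.hom_ext (chart := chart) fun U hU => by
      rw [reassoc_of% (he U hU), Groth.Agent.RelProjLib.emb_comp hP', Groth.Agent.RelProjLib.emb_comp hP]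

end Groth.Agent.S8273
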