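import Groth.Statements.S8274
import Groth.Agent.RelProjLib.Res
-- import your own Groth.Agent.* helpers here

set_option autoImplicit false
universe u
open CategoryTheory CategoryTheory.Limits AlgebraicGeometry Opposite TopologicalSpace
open scoped HomogeneousIdeal
open EGA2

namespace Groth.Agent.S8274

/-- Let 𝒮 be a quasi-coherent positively graded O_Y-algebra, P = Proj(𝒮) with structure morphism p and
charts, and f a global section of 𝒮 homogeneous of degree d > 0. There is an open subset X_f of P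
such that for every affine open U of Y, X_f ∩ p⁻¹(U) is the open D_+(f|U) of Proj 𝒮(U) transported
by the chart; moreover X_f is affine over Y. (The identification of X_f with the spectrum of a
quotient of the d-th Veronese algebra is not stated here.) -/
theorem result {Y P : Scheme.{u}} (𝒮 : RelProj.QCGrAlg Y) (p : P ⟶ Y)
    (chart : ∀ (U : Y.Opens) (hU : IsAffineOpen U), (((p ⁻¹ᵁ U : P.Opens) : Scheme.{u}) ≅ Proj (𝒮.deg U hU)))
    (hP : RelProj.IsRelProj 𝒮 p chart) {d : ℕ} (hd : 0 < d) (f : 𝒮.presheaf.obj (op ⊤))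
    (hf : ∀ (U : Y.Opens) (hU : IsAffineOpen U), (𝒮.presheaf.map (homOfLE le_top).op).hom f ∈ 𝒮.deg U hU d) :
    ∃ Xf : P.Opens,
      (∀ (U : Y.Opens) (hU : IsAffineOpen U),
        Xf ⊓ p ⁻¹ᵁ U =
          (p ⁻¹ᵁ U).ι ''ᵁ ((chart U hU).hom ⁻¹ᵁ
            Proj.basicOpen (𝒮.deg U hU) ((𝒮.presheaf.map (homOfLE le_top).op).hom f))) ∧
      IsAffineHom (Xf.ι ≫ p) := by
  let fU : ∀ U : Y.Opens, 𝒮.presheaf.obj (op U) := fun U => (𝒮.presheaf.map (homOfLE le_top).op).hom f
  have hres : ∀ (U W : Y.Opens) (i : W ≤ U), (𝒮.presheaf.map (homOfLE i).op).hom (fU U) = fU W := fun U W i => by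
    show (𝒮.presheaf.map (homOfLE i).op).hom ((𝒮.presheaf.map (homOfLE le_top).op).hom f) = _
    rw [← CommRingCat.comp_apply, ← Functor.map_comp]
    rfl
  let D : ∀ (U : Y.Opens) (hU : IsAffineOpen U), P.Opens := fun U hU =>
    RelProj.emb p chart U hU ''ᵁ Proj.basicOpen (𝒮.deg U hU) (fU U)
  have hmove : ∀ (U : Y.Opens) (hU : IsAffineOpen U) (W : Y.Opens) (hW : IsAffineOpen W) (i : W ≤ U)
      (x : P), p x ∈ W → (x ∈ D U hU ↔ x ∈ D W hW) := by
    intro U hU W hW i x hx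
    obtain ⟨y, rfl⟩ : x ∈ (RelProj.emb p chart W hW).opensRange := by
      rw [RelProjLib.emb_opensRange]; exact hx
    have e := RelProjLib.map_res_emb_affine 𝒮 hP hU hW i
    have ey : RelProj.emb p chart W hW y = RelProj.emb p chart U hU
        (Proj.map (𝒮.res hU hW i) (RelProjLib.irrelevant_le_map_affine 𝒮 hU hW i) y) := by
      rw [← Scheme.Hom.comp_apply, e]
    have hpre := Proj.map_preimage_basicOpen (𝒮.res hU hW i) (RelProjLib.irrelevant_le_map_affine 𝒮 hU hW i) (fU U)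
    rw [RelProj.QCGrAlg.res_apply, hres] at hpre
    constructor
    · rintro ⟨z, hz, hzy⟩
      rw [ey] at hzy
      obtain rfl := (RelProj.emb p chart U hU).isOpenEmbedding.injective hzy
      exact ⟨y, hpre.le hz, rfl⟩
    · rintro ⟨z, hz, hzy⟩
      obtain rfl := (RelProj.emb p chart W hW).isOpenEmbedding.injective hzy
      exact ⟨_, hpre.ge hz, ey.symm⟩
  have hD : ∀ (U : Y.Opens) (hU : IsAffineOpen U) (x : P), x ∈ D U hU → p x ∈ U := by
    rintro U hU _ ⟨y, -, rfl⟩
    have h : RelProj.emb p chart U hU y ∈ (RelProj.emb p chart U hU).opensRange := ⟨y, rfl⟩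
    rwa [RelProjLib.emb_opensRange] at h
  let Xf : P.Opens := ⨆ U : Y.affineOpens, D U.1 U.2
  have key : ∀ (U : Y.Opens) (hU : IsAffineOpen U), Xf ⊓ p ⁻¹ᵁ U = D U hU := by
    intro U hU
    refine le_antisymm (fun x hx => ?_) (le_inf (le_iSup_of_le (⟨U, hU⟩ : Y.affineOpens) le_rfl) (hD U hU))
    obtain ⟨⟨V, hV⟩, hxV⟩ := Opens.mem_iSup.1 hx.1
    obtain ⟨_, ⟨W, hW, rfl⟩, hxW, hWle⟩ := Y.isBasis_affineOpens.exists_subset_of_mem_open
      (show p x ∈ (U : Set Y) ∩ V from ⟨hx.2, hD V hV x hxV⟩) (U.2.inter V.2)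
    exact (hmove U hU W hW (fun a ha => (hWle ha).1) x hxW).2
      ((hmove V hV W hW (fun a ha => (hWle ha).2) x hxW).1 hxV)
  refine ⟨Xf, fun U hU => ?_, ⟨fun U hU => ?_⟩⟩
  · rw [key U hU]
    show RelProj.emb p chart U hU ''ᵁ _ = _
    ext x
    constructor
    · rintro ⟨y, hy, rfl⟩
      refine ⟨(chart U hU).inv y, ?_, rfl⟩
      show (chart U hU).hom ((chart U hU).inv y) ∈ (Proj.basicOpen (𝒮.deg U hU) (fU U) : (Proj (𝒮.deg U hU)).Opens)
      rw [← Scheme.Hom.comp_apply, Iso.inv_hom_id]; exact hy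
    · rintro ⟨y, hy, rfl⟩
      refine ⟨(chart U hU).hom y, hy, ?_⟩
      exact congr($(RelProjLib.chart_hom_emb (p := p) (chart := chart) U hU) y)
  · rw [← Xf.ι.isAffineOpen_iff_of_isOpenImmersion, Scheme.Hom.comp_preimage,
      Scheme.Hom.image_preimage_eq_opensRange_inf, Scheme.Opens.opensRange_ι, key U hU]
    exact (Proj.isAffineOpen_basicOpen _ (fU U) (hf U hU) hd).image_of_isOpenImmersion _

end Groth.Agent.S8274
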