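import Groth.Statements.S8279
import Groth.Agent.RelProjLib.Basic
import Groth.Agent.RelProjLib.ProjMap
import Groth.Agent.RelProjLib.QMapHom
-- import your own Groth.Agent.* helpers here

set_option autoImplicit false
universe u
open CategoryTheory CategoryTheory.Limits AlgebraicGeometry Opposite TopologicalSpace
open scoped HomogeneousIdeal
open EGA2

namespace Groth.Agent.S8279

/-- Let 𝒮 be a quasi-coherent positively graded O_Y-algebra and 𝒮' the graded O_Y-algebra O_Y ⊕ (⊕_{n>0}
𝒮_n), presented here as a quasi-coherent graded algebra 𝒮' with 𝒮'_0 = O_Y together with a graded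
homomorphism φ : 𝒮' → 𝒮 that is bijective in every positive degree over every affine open. Then the
morphism Proj(𝒮) → Proj(𝒮') induced by φ is an isomorphism (the canonical Y-isomorphism of the two
relative homogeneous spectra). -/
theorem result {Y P P' : Scheme.{u}} {𝒮' 𝒮 : RelProj.QCGrAlg Y}
    (φ : 𝒮'.toQCAlg ⟶ 𝒮.toQCAlg) (hφ : RelProj.IsGradedHom φ)
    (h0 : ∀ (U : Y.Opens) (hU : IsAffineOpen U), Function.Bijective (𝒮'.strZero U hU).hom)
    (hpos : ∀ (U : Y.Opens) (hU : IsAffineOpen U) (n : ℕ), 0 < n →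
      Set.BijOn (φ.hom.app (op U)).hom (𝒮'.deg U hU n) (𝒮.deg U hU n))
    (hirr : ∀ (U : Y.Opens) (hU : IsAffineOpen U),
      (𝒮.deg U hU)₊ ≤ ((𝒮'.deg U hU)₊).map (RelProj.gradedHomAt φ hφ U hU))
    (p' : P' ⟶ Y) (p : P ⟶ Y)
    (chart' : ∀ (U : Y.Opens) (hU : IsAffineOpen U), (((p' ⁻¹ᵁ U : P'.Opens) : Scheme.{u}) ≅ Proj (𝒮'.deg U hU)))
    (chart : ∀ (U : Y.Opens) (hU : IsAffineOpen U), (((p ⁻¹ᵁ U : P.Opens) : Scheme.{u}) ≅ Proj (𝒮.deg U hU)))
    (hP' : RelProj.IsRelProj 𝒮' p' chart') (hP : RelProj.IsRelProj 𝒮 p chart)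
    (h : P ⟶ P') (hh : RelProj.IsRelProjMap φ hφ hirr chart' chart h) : IsIso h := by
  have hcomp : h ≫ p' = p := by
    refine RelProjLib.hom_ext_ι chart fun U hU => ?_
    rw [← Category.assoc, hh U hU]
    simp only [Category.assoc]
    rw [← hP'.chart_over U hU, Iso.inv_hom_id_assoc, ← hP.chart_over U hU]
    congr 1
    rw [← Category.assoc, RelProjLib.map_toSpecZero, Category.assoc, ← Spec.map_comp_assoc]
    congr 3
    refine CommRingCat.hom_ext (RingHom.ext fun r => Subtype.ext ?_)
    exact congr($(NatTrans.congr_app φ.comm (op U)).hom r)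
  change MorphismProperty.isomorphisms Scheme h
  refine (IsZariskiLocalAtTarget.iff_of_openCover (P := MorphismProperty.isomorphisms Scheme)
    (RelProjLib.embCover p' chart')).2 ?_
  rintro ⟨U, hU⟩
  have hcomm : RelProj.emb p chart U hU ≫ h =
      Proj.map (RelProj.gradedHomAt φ hφ U hU) (hirr U hU) ≫ RelProj.emb p' chart' U hU := by
    rw [RelProj.emb, RelProj.emb, Category.assoc, hh U hU, Iso.inv_hom_id_assoc]
  have hrange : h ⁻¹ᵁ (RelProj.emb p' chart' U hU).opensRange = (RelProj.emb p chart U hU).opensRange := by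
    rw [RelProjLib.emb_opensRange, RelProjLib.emb_opensRange, ← Scheme.Hom.comp_preimage, hcomp]
  have pb := IsOpenImmersion.isPullback _ (RelProj.emb p chart U hU) (RelProj.emb p' chart' U hU) h hcomm hrange
  change (MorphismProperty.isomorphisms Scheme) (pullback.snd h (RelProj.emb p' chart' U hU))
  rw [← pb.flip.isoPullback_inv_snd,
    MorphismProperty.cancel_left_of_respectsIso (MorphismProperty.isomorphisms Scheme)]
  refine RelProjLib.map_property _ _ (MorphismProperty.isomorphisms Scheme) fun d hd f hf => ?_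
  have : IsIso (CommRingCat.ofHom (HomogeneousLocalization.Away.map (RelProj.gradedHomAt φ hφ U hU) f)) :=
    (ConcreteCategory.isIso_iff_bijective _).2
      ⟨RelProjLib.away_map_injective_of_eventually _ (n := 1) (fun k hk x hx h0 =>
          (hpos U hU k hk).injOn hx (zero_mem _) (h0.trans (map_zero _).symm)) hd hf,
        RelProjLib.away_map_surjective_of_eventually (RelProj.gradedHomAt φ hφ U hU) (n := 1) (fun k hk y hy => (hpos U hU k hk).surjOn hy) hd hf⟩
  exact (inferInstance : IsIso (Spec.map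
    (CommRingCat.ofHom (HomogeneousLocalization.Away.map (RelProj.gradedHomAt φ hφ U hU) f))))

end Groth.Agent.S8279
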