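import Groth.Statements.S8280
import Groth.Agent.RelProjLib.Basic

set_option autoImplicit false
universe u
open CategoryTheory CategoryTheory.Limits AlgebraicGeometry Opposite TopologicalSpace
open scoped HomogeneousIdeal
open EGA2

namespace Groth.Agent.S8280

/-- Let (f_α) be global sections of the quasi-coherent positively graded O_Y-algebra 𝒮, homogeneous of
positive degrees, such that the ideal they generate contains all 𝒮_n from some degree on
(affine-locally). Then the opens X_{f_α} of Proj(𝒮) (characterised chartwise by the basic opens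
D_+(f_α|U)) cover Proj(𝒮). (The published hypothesis fixes one degree, valid over all of Y, from
which on the f_α generate; this row asks for such a degree over each affine open separately, which
is all the proof, carried out one affine open at a time, uses.) -/
theorem result {Y P : Scheme.{u}} (𝒮 : RelProj.QCGrAlg Y) (p : P ⟶ Y)
    (chart : ∀ (U : Y.Opens) (hU : IsAffineOpen U), (((p ⁻¹ᵁ U : P.Opens) : Scheme.{u}) ≅ Proj (𝒮.deg U hU)))
    (hP : RelProj.IsRelProj 𝒮 p chart) {ι : Type u} (d : ι → ℕ) (hd : ∀ a, 0 < d a)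
    (f : ι → 𝒮.presheaf.obj (op ⊤))
    (hf : ∀ (a : ι) (U : Y.Opens) (hU : IsAffineOpen U), (𝒮.presheaf.map (homOfLE le_top).op).hom (f a) ∈ 𝒮.deg U hU (d a))
    (hgen : ∀ (U : Y.Opens) (hU : IsAffineOpen U), ∃ n₀ : ℕ, ∀ n, n₀ ≤ n →
      (𝒮.deg U hU n : Set (𝒮.presheaf.obj (op U))) ⊆
        (Ideal.span (Set.range fun a => (𝒮.presheaf.map (homOfLE (le_top : U ≤ ⊤)).op).hom (f a)) :
          Set (𝒮.presheaf.obj (op U))))
    (X : ι → P.Opens)
    (hX : ∀ (a : ι) (U : Y.Opens) (hU : IsAffineOpen U),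
      X a ⊓ p ⁻¹ᵁ U =
        (p ⁻¹ᵁ U).ι ''ᵁ ((chart U hU).hom ⁻¹ᵁ
          Proj.basicOpen (𝒮.deg U hU) ((𝒮.presheaf.map (homOfLE le_top).op).hom (f a)))) :
    ⨆ a, X a = ⊤ := by
  classical
  rw [eq_top_iff]
  intro x _
  obtain ⟨U, hU, y, hy⟩ := Groth.Agent.RelProjLib.exists_emb_apply_eq (p := p) (chart := chart) x
  rw [Opens.mem_iSup]
  by_contra hne
  push Not at hne
  have hall : ∀ a, (𝒮.presheaf.map (homOfLE (le_top : U ≤ ⊤)).op).hom (f a) ∈ y.asHomogeneousIdeal := by
    intro a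
    by_contra hya
    refine hne a (SetLike.le_def.1 (inf_le_left (b := p ⁻¹ᵁ U)) ?_)
    rw [hX a U hU]
    refine ⟨(chart U hU).inv y, ?_, ?_⟩
    · show (chart U hU).hom ((chart U hU).inv y) ∈ Proj.basicOpen _ _
      rw [← Scheme.Hom.comp_apply, Iso.inv_hom_id]
      exact hya
    · rw [← hy]; rfl
  obtain ⟨n₀, hn₀⟩ := hgen U hU
  refine y.not_irrelevant_le ((HomogeneousIdeal.irrelevant_le _).2 fun i hi b hb => ?_)
  have hsub : Ideal.span (Set.range fun a => (𝒮.presheaf.map (homOfLE (le_top : U ≤ ⊤)).op).hom (f a)) ≤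
      y.asHomogeneousIdeal.toIdeal := Ideal.span_le.2 (by rintro _ ⟨a, rfl⟩; exact hall a)
  have hle : n₀ ≤ (n₀ + 1) • i := (Nat.le_succ _).trans (Nat.le_mul_of_pos_right _ hi)
  have hm : b ^ (n₀ + 1) ∈ 𝒮.deg U hU ((n₀ + 1) • i) :=
    SetLike.pow_mem_graded (A := 𝒮.deg U hU) (n₀ + 1) hb
  have hb' := hsub (hn₀ _ hle hm)
  exact y.isPrime.mem_of_pow_mem _ hb'

end Groth.Agent.S8280
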