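import Groth.Statements.S8282
import Groth.Agent.ProjSpec.DomMap
import Mathlib.RingTheory.GradedAlgebra.FiniteType
import Mathlib.RingTheory.GradedAlgebra.Radical

set_option autoImplicit false
universe u
open CategoryTheory CategoryTheory.Limits AlgebraicGeometry
open EGA2

namespace Groth.Agent.S8282

section
variable {R A B : Type u} [CommRing R] [CommRing A] [Algebra R A] {𝒜 : ℕ → Submodule R A} [GradedAlgebra 𝒜]
  [CommRing B] [Algebra R B] {ℬ : ℕ → Submodule R B} [GradedAlgebra ℬ] (φ : 𝒜 →+*ᵍ ℬ)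

/-- Graded homomorphisms whose map of `Proj` is everywhere defined and surjective on degree one charts are
surjective in high degrees. -/
theorem eventually_surjOn [Algebra.FiniteType (ℬ 0) B] (hφ : Function.Injective φ)
    (h0 : Set.BijOn φ (𝒜 0) (ℬ 0)) (h1 : Set.BijOn φ (𝒜 1) (ℬ 1))
    (hgen : ∀ n : ℕ, 1 ≤ n → 𝒜 n = 𝒜 1 ^ n) (hdom : PCone.dom φ = ⊤)
    (hsurj : ∀ f ∈ 𝒜 1, ∀ (d : ℕ) (b : B), b ∈ ℬ d → ∃ N a, φ a = φ f ^ N * b) :
    ∃ n₀ : ℕ, ∀ d, n₀ ≤ d → Set.SurjOn φ (𝒜 d) (ℬ d) := by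
  classical
  obtain ⟨s, hs, hdeg⟩ := GradedAlgebra.exists_finset_adjoin_eq_top_and_homogeneous_ne_zero ℬ
  choose! e he0 he using hdeg
  have hc0 : ∀ x : B, ∃ c ∈ ℬ 0, x - c ∈ Ideal.span (s : Set B) := by
    intro x
    have hx : x ∈ Algebra.adjoin (ℬ 0) (s : Set B) := hs ▸ trivial
    induction hx using Algebra.adjoin_induction with
    | mem b hb => exact ⟨0, zero_mem _, by rw [sub_zero]; exact Ideal.subset_span hb⟩
    | algebraMap r =>
      exact ⟨r, r.2, by rw [show (algebraMap (ℬ 0) B r) = (r : B) from rfl, sub_self]; exact zero_mem _⟩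
    | add a b _ _ iha ihb =>
      obtain ⟨c, hc, hac⟩ := iha
      obtain ⟨c', hc', hbc⟩ := ihb
      exact ⟨c + c', add_mem hc hc', by convert add_mem hac hbc using 1; ring⟩
    | mul a b _ _ iha ihb =>
      obtain ⟨c, hc, hac⟩ := iha
      obtain ⟨c', hc', hbc⟩ := ihb
      refine ⟨c * c', by simpa using SetLike.mul_mem_graded hc hc', ?_⟩
      have : a * b - c * c' = (a - c) * b + c * (b - c') := by ring
      rw [this]
      exact add_mem (Ideal.mul_mem_right _ _ hac) (Ideal.mul_mem_left _ _ hbc)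
  have hsH : (Ideal.span (s : Set B)).IsHomogeneous ℬ :=
    Ideal.homogeneous_span ℬ _ fun b hb => ⟨e b, he b hb⟩
  have hpos : ∀ d, 0 < d → ∀ x ∈ ℬ d, x ∈ Ideal.span (s : Set B) := by
    intro d hd x hx
    obtain ⟨c, hc, hxc⟩ := hc0 x
    have h := hsH d hxc
    rwa [DirectSum.decompose_sub, DirectSum.sub_apply, AddSubgroupClass.coe_sub,
      DirectSum.decompose_of_mem_same ℬ hx, DirectSum.decompose_of_mem_ne ℬ hc hd.ne, sub_zero] at h
  have hcomp : ∀ d : ℕ, 0 < d → ∀ x ∈ ℬ d, ∀ P : B → Prop, P 0 → (∀ y z, P y → P z → P (y + z)) →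
      (∀ b ∈ s, e b ≤ d → ∀ c ∈ ℬ (d - e b), P (c * b)) → P x := by
    intro d hd x hx P hP0 hPadd hP
    obtain ⟨w, hw⟩ := Submodule.mem_span_finset.mp (hpos d hd x hx)
    have hwx := congrArg (GradedRing.proj ℬ d) hw.2
    rw [map_sum] at hwx
    simp only [GradedRing.proj_apply, DirectSum.decompose_of_mem_same ℬ hx, smul_eq_mul] at hwx
    rw [← hwx]
    refine Finset.sum_induction _ P hPadd hP0 fun b hb => ?_
    by_cases hle : e b ≤ d
    · rw [DirectSum.coe_decompose_mul_of_right_mem_of_le ℬ (he b hb) hle]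
      exact hP b hb hle _ (SetLike.coe_mem _)
    · rw [DirectSum.coe_decompose_mul_of_right_mem_of_not_le ℬ (he b hb) hle]
      exact hP0
  let E := s.sup e
  have hpow : ∀ M d, M * E < d → ∀ x ∈ ℬ d, x ∈ Ideal.span (s : Set B) ^ M := by
    intro M
    induction M with
    | zero => intro d _ x _; simp
    | succ M ih =>
      intro d hd x hx
      rw [Nat.add_mul, one_mul] at hd
      refine hcomp d (by omega) x hx (fun y => y ∈ Ideal.span (s : Set B) ^ (M + 1)) (zero_mem _)
        (fun _ _ => add_mem) fun b hb hle c hc => ?_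
      rw [pow_succ]
      refine Ideal.mul_mem_mul (ih _ ?_ c hc) (Ideal.subset_span hb)
      have : e b ≤ E := Finset.le_sup hb
      omega
  -- generators of degree one
  choose g hg hgf using fun b : {b // b ∈ s ∧ e b = 1} => h1.surjOn
    (show b.1 ∈ ℬ 1 by simpa [b.2.2] using he b.1 b.2.1)
  have : Finite {b // b ∈ s ∧ e b = 1} :=
    Finite.of_injective (fun b => (⟨b.1, b.2.1⟩ : s)) fun b b' h => Subtype.ext congr($h.1)
  let 𝔞 : Ideal A := Ideal.span (Set.range g)
  have h𝔞fg : 𝔞.FG := Submodule.fg_span (Set.finite_range g)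
  have h𝒜1 : ∀ a ∈ 𝒜 1, a ∈ 𝔞 := by
    intro a ha
    obtain ⟨a', ha', heq⟩ := hcomp 1 one_pos (φ a) (φ.2 ha) (fun y => ∃ a' ∈ 𝔞, φ a' = y)
      ⟨0, zero_mem _, map_zero _⟩
      (fun y z ⟨a, ha, hay⟩ ⟨b, hb, hbz⟩ => ⟨a + b, add_mem ha hb, by rw [map_add, hay, hbz]⟩)
      fun b hb hle c hc => by
        have hb1 : e b = 1 := le_antisymm hle (Nat.one_le_iff_ne_zero.mpr (he0 b hb))
        rw [hb1] at hc
        obtain ⟨c', -, hcφ⟩ := h0.surjOn hc
        exact ⟨c' * g ⟨b, hb, hb1⟩, Ideal.mul_mem_left _ _ (Ideal.subset_span ⟨_, rfl⟩),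
          by rw [map_mul, hcφ, hgf]⟩
    rwa [← hφ heq]
  have hpowa : ∀ n, ∀ a ∈ 𝒜 1 ^ n, a ∈ 𝔞 ^ n := by
    intro n
    induction n with
    | zero => intro a _; simp
    | succ n ih =>
      intro a ha
      rw [pow_succ] at ha ⊢
      induction ha using Submodule.mul_induction_on' with
      | mem_mul_mem x hx y hy => exact Ideal.mul_mem_mul (ih x hx) (h𝒜1 y hy)
      | add x _ y _ hx hy => exact add_mem hx hy
  -- each generator pushes a power of the degree-one ideal into the image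
  have hNb : ∀ b ∈ s, ∃ N, ∀ a ∈ 𝔞 ^ N, ∃ a', φ a' = φ a * b := by
    intro b hb
    let Ib : Ideal A :=
      { carrier := {a | ∃ a', φ a' = φ a * b}
        zero_mem' := ⟨0, by simp⟩
        add_mem' := fun {x y} ⟨x', hx⟩ ⟨y', hy⟩ => ⟨x' + y', by rw [map_add, hx, hy, map_add, add_mul]⟩
        smul_mem' := fun r {x} ⟨x', hx⟩ => ⟨r * x', by rw [smul_eq_mul, map_mul, hx, map_mul, mul_assoc]⟩ }
    obtain ⟨N, hN⟩ := Ideal.exists_pow_le_of_le_radical_of_fg (I := 𝔞) (J := Ib) (Ideal.span_le.mpr (by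
      rintro _ ⟨i, rfl⟩
      obtain ⟨N, a, ha⟩ := hsurj (g i) (hg i) (e b) b (he b hb)
      exact ⟨N, a, by rw [map_pow]; exact ha⟩)) h𝔞fg
    exact ⟨N, fun a ha => hN ha⟩
  choose! Nb hNb using hNb
  let N := s.sup Nb + 1
  let 𝔟 : Ideal A := Ideal.span (𝒜 N : Set A)
  have hhigh : ∀ n, N < n → ∀ a ∈ 𝒜 n, a ∈ 𝔟 := by
    intro n hn a ha
    rw [hgen n (by omega), ← Nat.add_sub_cancel' hn.le, pow_add, ← hgen N (by omega)] at ha
    induction ha using Submodule.mul_induction_on' with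
    | mem_mul_mem x hx y hy => exact Ideal.mul_mem_right _ _ (Ideal.subset_span hx)
    | add x _ y _ hx hy => exact add_mem hx hy
  have hQgen : ∀ b ∈ s, ∀ a ∈ 𝒜 N, ∃ a' ∈ 𝔟, φ a' = φ a * b := by
    intro b hb a ha
    have : a ∈ 𝔞 ^ Nb b := by
      refine Ideal.pow_le_pow_right (m := Nb b) (n := N) ?_ (hpowa N a (hgen N (by omega) ▸ ha))
      exact le_trans (Finset.le_sup hb) (Nat.le_succ _)
    obtain ⟨a₀, ha₀⟩ := hNb b hb a this
    refine ⟨DirectSum.decompose 𝒜 a₀ (N + e b), hhigh _ ?_ _ (SetLike.coe_mem _), ?_⟩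
    · have := he0 b hb
      omega
    · rw [GradedRingHom.map_directSumDecompose, ha₀]
      exact DirectSum.decompose_of_mem_same ℬ (SetLike.mul_mem_graded (φ.2 ha) (he b hb))
  have hQ : ∀ c : B, ∀ a ∈ 𝔟, ∃ a' ∈ 𝔟, φ a' = φ a * c := by
    intro c
    have hc : c ∈ Algebra.adjoin (ℬ 0) (s : Set B) := hs ▸ trivial
    induction hc using Algebra.adjoin_induction with
    | mem b hb =>
      intro a ha
      induction ha using Submodule.span_induction with
      | mem x hx => exact hQgen b hb x hx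
      | zero => exact ⟨0, zero_mem _, by simp⟩
      | add x y _ _ hx hy =>
        obtain ⟨x', hx', hx''⟩ := hx
        obtain ⟨y', hy', hy''⟩ := hy
        exact ⟨x' + y', add_mem hx' hy', by rw [map_add, hx'', hy'', map_add, add_mul]⟩
      | smul r x _ hx =>
        obtain ⟨x', hx', hx''⟩ := hx
        exact ⟨r * x', Ideal.mul_mem_left _ _ hx', by rw [smul_eq_mul, map_mul, hx'', map_mul, mul_assoc]⟩
    | algebraMap r =>
      intro a ha
      obtain ⟨r', -, hr⟩ := h0.surjOn r.2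
      exact ⟨a * r', Ideal.mul_mem_right _ _ ha, by rw [map_mul, hr]; rfl⟩
    | add x y _ _ hx hy =>
      intro a ha
      obtain ⟨x', hx', hx''⟩ := hx a ha
      obtain ⟨y', hy', hy''⟩ := hy a ha
      exact ⟨x' + y', add_mem hx' hy', by rw [map_add, hx'', hy'', mul_add]⟩
    | mul x y _ _ hx hy =>
      intro a ha
      obtain ⟨x', hx', hx''⟩ := hx a ha
      obtain ⟨y', hy', hy''⟩ := hy x' hx'
      exact ⟨y', hy', by rw [hy'', hx'', mul_assoc]⟩
  let J0 : Ideal B := Ideal.span (φ '' Set.range g)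
  let J : Ideal B := Ideal.span (φ '' (𝒜 N : Set A))
  have hJ0 : J0 ≤ J.radical := Ideal.span_le.mpr (by
    rintro _ ⟨_, ⟨i, rfl⟩, rfl⟩
    refine ⟨N, ?_⟩
    rw [← map_pow]
    exact Ideal.subset_span ⟨_, by simpa using SetLike.pow_mem_graded N (hg i), rfl⟩)
  have hrad : Ideal.span (s : Set B) ≤ J0.radical := by
    refine Ideal.span_le.mpr fun b hb => ?_
    have hJ0H : J0.IsHomogeneous ℬ :=
      Ideal.homogeneous_span ℬ _ (by rintro _ ⟨_, ⟨i, rfl⟩, rfl⟩; exact ⟨1, φ.2 (hg i)⟩)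
    rw [SetLike.mem_coe, hJ0H.radical_eq, Submodule.mem_sInf]
    rintro P ⟨hPH, hle, hP⟩
    by_contra hbP
    let y : ProjectiveSpectrum ℬ :=
      { asHomogeneousIdeal := ⟨P, hPH⟩
        isPrime := hP
        not_irrelevant_le := fun h => hbP (h (show b ∈ (HomogeneousIdeal.irrelevant ℬ) from
          HomogeneousIdeal.mem_irrelevant_of_mem ℬ (Nat.pos_of_ne_zero (he0 b hb)) (he b hb))) }
    have hy : y ∈ PCone.dom φ := hdom ▸ trivial
    obtain ⟨⟨f, d, hd, hf⟩, hfy⟩ := TopologicalSpace.Opens.mem_iSup.mp hy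
    refine hfy ?_
    rw [hgen d hd] at hf
    have hf' : f ∈ 𝔞 := (Ideal.pow_le_self (Nat.pos_iff_ne_zero.mp hd)) (hpowa d f hf)
    have hmap : ∀ z ∈ 𝔞, φ z ∈ J0 := by
      intro z hz
      induction hz using Submodule.span_induction with
      | mem x hx => exact Ideal.subset_span ⟨x, hx, rfl⟩
      | zero => rw [map_zero]; exact zero_mem _
      | add x y _ _ hx hy => rw [map_add]; exact add_mem hx hy
      | smul r x _ hx => rw [smul_eq_mul, map_mul]; exact Ideal.mul_mem_left _ _ hx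
    exact hle (hmap f hf')
  obtain ⟨M, hM⟩ := Ideal.exists_pow_le_of_le_radical_of_fg (I := Ideal.span (s : Set B)) (J := J)
    (hrad.trans ((Ideal.radical_mono hJ0).trans (Ideal.radical_idem _).le))
    (Submodule.fg_span s.finite_toSet)
  refine ⟨M * E + 1, fun d hd x hx => ?_⟩
  have hxJ : x ∈ J := hM (hpow M d (by omega) x hx)
  have hJimg : ∀ z ∈ J, ∀ c : B, ∃ a ∈ 𝔟, φ a = z * c := by
    intro z hz
    induction hz using Submodule.span_induction with
    | mem w hw =>
      obtain ⟨a, ha, rfl⟩ := hw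
      exact fun c => hQ c a (Ideal.subset_span ha)
    | zero => exact fun c => ⟨0, zero_mem _, by simp⟩
    | add u v _ _ hu hv =>
      intro c
      obtain ⟨u', hu', hu''⟩ := hu c
      obtain ⟨v', hv', hv''⟩ := hv c
      exact ⟨u' + v', add_mem hu' hv', by rw [map_add, hu'', hv'', add_mul]⟩
    | smul r u _ hu =>
      intro c
      obtain ⟨u', hu', hu''⟩ := hu (r * c)
      exact ⟨u', hu', by rw [hu'', smul_eq_mul]; ring⟩
  obtain ⟨a, -, ha⟩ := hJimg x hxJ 1
  refine ⟨DirectSum.decompose 𝒜 a d, SetLike.coe_mem _, ?_⟩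
  rw [GradedRingHom.map_directSumDecompose, ha, mul_one, DirectSum.decompose_of_mem_same ℬ hx]

end

/-- Let T be a positively graded ring which is a T_0-algebra of finite type, and T' = ⊕_n T_1^n → T the
injective graded homomorphism from the subalgebra generated by T_1 (T' presented as a graded ring
with φ : T' → T injective, bijective in degrees 0 and 1, and T'_n = (T'_1)^n for n ≥ 1). If the
morphism of homogeneous spectra induced by φ is everywhere defined (its domain G(φ) is the whole of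
Proj T) and is an isomorphism onto Proj T', then there is n₀ with T_n = T_1^n for all n ≥ n₀. -/
theorem result {R A B : Type u} [CommRing R] [CommRing A] [Algebra R A]
    (𝒜 : ℕ → Submodule R A) [GradedAlgebra 𝒜] [CommRing B] [Algebra R B] (ℬ : ℕ → Submodule R B) [GradedAlgebra ℬ]
    [Algebra.FiniteType (ℬ 0) B] (φ : 𝒜 →+*ᵍ ℬ) (hφ : Function.Injective φ)
    (h0 : Set.BijOn φ (𝒜 0) (ℬ 0)) (h1 : Set.BijOn φ (𝒜 1) (ℬ 1))
    (hgen : ∀ n : ℕ, 1 ≤ n → 𝒜 n = 𝒜 1 ^ n)
    (hdom : PCone.dom φ = ⊤)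
    (p : (PCone.dom φ : Scheme.{u}) ⟶ Proj 𝒜)
    (hp : ∀ (d : ℕ) (f : A) (hd : 0 < d) (hf : f ∈ 𝒜 d),
      PCone.chart φ hf hd ≫ p =
        Spec.map (CommRingCat.ofHom (HomogeneousLocalization.Away.map φ f)) ≫ Proj.awayι 𝒜 f hf hd)
    [IsIso p] :
    ∃ n₀ : ℕ, ∀ n : ℕ, n₀ ≤ n → ℬ n = ℬ 1 ^ n := by
  classical
  have hsurj : ∀ f ∈ 𝒜 1, ∀ (d : ℕ) (b : B), b ∈ ℬ d → ∃ N a, φ a = φ f ^ N * b := by
    intro f hf d b hb
    have H : p ⁻¹ᵁ (Proj.awayι 𝒜 f hf one_pos).opensRange = (PCone.chart φ hf one_pos).opensRange := by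
      rw [Proj.opensRange_awayι]; exact ProjSpec.map_preimage φ p hp one_pos hf
    have h : IsPullback (PCone.chart φ hf one_pos)
        (Spec.map (CommRingCat.ofHom (HomogeneousLocalization.Away.map φ f))) p
        (Proj.awayι 𝒜 f hf one_pos) :=
      (IsOpenImmersion.isPullback _ _ _ p (hp _ _ one_pos hf) H).flip
    have : IsIso (Spec.map (CommRingCat.ofHom (HomogeneousLocalization.Away.map φ f))) :=
      h.isIso_snd_of_isIso
    have : IsIso (CommRingCat.ofHom (HomogeneousLocalization.Away.map φ f)) := by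
      have : IsIso (Scheme.Spec.map (CommRingCat.ofHom (HomogeneousLocalization.Away.map φ f)).op) := this
      have := isIso_of_reflects_iso (CommRingCat.ofHom (HomogeneousLocalization.Away.map φ f)).op Scheme.Spec
      exact isIso_of_op _
    obtain ⟨z, hz⟩ := (ConcreteCategory.bijective_of_isIso
      (CommRingCat.ofHom (HomogeneousLocalization.Away.map φ f))).2
      (HomogeneousLocalization.Away.mk ℬ (φ.2 hf) d b (by simpa using hb))
    obtain ⟨n, a, ha, rfl⟩ := HomogeneousLocalization.Away.mk_surjective 𝒜 hf z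
    have h2 := congrArg HomogeneousLocalization.val hz
    erw [HomogeneousLocalization.Away.map_mk] at h2
    rw [ HomogeneousLocalization.Away.val_mk,
      HomogeneousLocalization.Away.val_mk, Localization.mk_eq_mk_iff, Localization.r_iff_exists] at h2
    obtain ⟨⟨_, m, rfl⟩, hm⟩ := h2
    refine ⟨m + n, f ^ (m + d) * a, ?_⟩
    simp only [map_mul, map_pow] at hm ⊢
    rw [pow_add, pow_add, mul_assoc, mul_assoc]
    convert hm using 1
  obtain ⟨n₀, hn₀⟩ := eventually_surjOn φ hφ h0 h1 hgen hdom hsurj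
  refine ⟨n₀ + 1, fun n hn => le_antisymm (fun x hx => ?_) ?_⟩
  · obtain ⟨a, ha, rfl⟩ := hn₀ n (by omega) hx
    rw [SetLike.mem_coe, hgen n (by omega)] at ha
    have : ∀ m, ∀ a ∈ 𝒜 1 ^ m, 0 < m → φ a ∈ ℬ 1 ^ m := by
      intro m
      induction m with
      | zero => intro a _ h; omega
      | succ m ih =>
        intro a ha _
        rcases Nat.eq_zero_or_pos m with rfl | hm
        · rw [pow_one] at ha ⊢; exact φ.2 ha
        rw [pow_succ] at ha ⊢
        induction ha using Submodule.mul_induction_on' with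
        | mem_mul_mem x hx y hy => rw [map_mul]; exact Submodule.mul_mem_mul (ih x hx hm) (φ.2 hy)
        | add x _ y _ hx hy => rw [map_add]; exact add_mem hx hy
    exact this n a ha (by omega)
  · intro x hx
    induction n generalizing x with
    | zero => omega
    | succ m _ =>
      have : ∀ k, ∀ y ∈ ℬ 1 ^ k, y ∈ ℬ k := by
        intro k
        induction k with
        | zero =>
          intro y hy
          rw [pow_zero] at hy
          obtain ⟨r, rfl⟩ := Submodule.mem_one.mp hy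
          exact SetLike.algebraMap_mem_graded ℬ r
        | succ k ih =>
          intro y hy
          rw [pow_succ] at hy
          induction hy using Submodule.mul_induction_on' with
          | mem_mul_mem u hu v hv => exact SetLike.mul_mem_graded (ih u hu) hv
          | add u _ v _ hu hv => exact add_mem hu hv
      exact this _ x hx

end Groth.Agent.S8282
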