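import Groth.Statements.S8283
import Groth.Agent.FlatMor.FibreStalk
import Groth.Agent.IdealSh.EffCartier
import Groth.Agent.IdealSh.Regular
import Groth.Agent.Omega.ConormalZero
import Groth.Agent.RegImm44.BaseChange
import Groth.Agent.SecSmooth27.Stalk
import Mathlib.RingTheory.ZariskisMainTheorem
import Mathlib.AlgebraicGeometry.Morphisms.QuasiFinite
import Mathlib.RingTheory.DiscreteValuationRing.TFAE

set_option autoImplicit false
universe u
open CategoryTheory CategoryTheory.Limits AlgebraicGeometry Opposite TopologicalSpace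
open EGA2

namespace Groth.Agent.S8283

open IsLocalRing TopologicalSpace

/-- A nonzerodivisor killed by a retraction is not integral over the base. -/
lemma not_isIntegralElem {A B C : Type*} [CommRing A] [CommRing B] [CommRing C] [Nontrivial C]
    (φ : A →+* B) (σ : B →+* C) (hinj : Function.Injective (σ.comp φ)) (t : B)
    (ht : t ∈ nonZeroDivisors B) (hσ : σ t = 0) : ¬ φ.IsIntegralElem t := by
  rintro ⟨g, hg, he⟩
  induction h : g.natDegree using Nat.strong_induction_on generalizing g with
  | _ n ih =>
    subst h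
    rcases Nat.eq_zero_or_pos g.natDegree with h0 | hpos
    · rw [hg.natDegree_eq_zero.mp h0, Polynomial.eval₂_one] at he
      have := congrArg σ he
      rw [map_one, map_zero] at this
      exact one_ne_zero this
    · have hc : g.coeff 0 = 0 := by
        apply hinj
        have := congrArg σ he
        rw [Polynomial.hom_eval₂, hσ, map_zero, Polynomial.eval₂_at_zero] at this
        rw [this, map_zero]
      have hX : g.divX * Polynomial.X = g := by
        conv_rhs => rw [← Polynomial.divX_mul_X_add g, hc, map_zero, add_zero]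
      refine ih g.divX.natDegree ?_ g.divX ?_ ?_ rfl
      · rw [Polynomial.natDegree_divX_eq_natDegree_tsub_one]; omega
      · exact Polynomial.Monic.of_mul_monic_right Polynomial.monic_X (hX.symm ▸ hg)
      · rw [← hX, Polynomial.eval₂_mul, Polynomial.eval₂_X] at he
        exact (mem_nonZeroDivisors_iff.mp ht).2 _ he

/-- A Noetherian local ring whose maximal ideal is generated by one non-nilpotent element is a DVR. -/
lemma isDVR_of_principal (R : Type*) [CommRing R] [IsLocalRing R] [IsNoetherianRing R] (t : R)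
    (hm : maximalIdeal R = Ideal.span {t}) (hn : ¬ IsNilpotent t) :
    ∃ _ : IsDomain R, IsDiscreteValuationRing R := by
  classical
  have hdec : ∀ a : R, a ≠ 0 → ∃ (n : ℕ) (u : R), IsUnit u ∧ a = u * t ^ n := by
    intro a ha
    have h1 : ∃ n, a ∉ Ideal.span {t ^ n} := by
      by_contra hcon
      apply ha
      have h2 : a ∈ ⨅ n : ℕ, maximalIdeal R ^ n := by
        refine (Ideal.mem_iInf).mpr fun n => ?_
        rw [hm, Ideal.span_singleton_pow]
        exact not_not.mp fun h => hcon ⟨n, h⟩
      rwa [Ideal.iInf_pow_eq_bot_of_isLocalRing _ (maximalIdeal.isMaximal R).ne_top,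
        Ideal.mem_bot] at h2
    obtain ⟨n, hn'⟩ : ∃ n, Nat.find h1 = n + 1 := by
      refine Nat.exists_eq_succ_of_ne_zero fun h0 => ?_
      have := Nat.find_spec h1
      rw [h0, pow_zero, Ideal.span_singleton_one] at this
      exact this trivial
    obtain ⟨u, hu⟩ := Ideal.mem_span_singleton'.mp
      (not_not.mp (Nat.find_min h1 (show n < Nat.find h1 by omega)))
    refine ⟨n, u, not_not.mp fun hnu => ?_, hu.symm⟩
    obtain ⟨w, rfl⟩ := Ideal.mem_span_singleton'.mp
      (hm ▸ (mem_maximalIdeal u).mpr hnu : u ∈ Ideal.span {t})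
    refine Nat.find_spec h1 (Ideal.mem_span_singleton'.mpr ⟨w, ?_⟩)
    rw [hn', pow_succ', ← mul_assoc]
    exact hu
  have : NoZeroDivisors R := ⟨fun {a b} hab => by
    by_contra hcon
    push_neg at hcon
    obtain ⟨n, u, hu, rfl⟩ := hdec a hcon.1
    obtain ⟨m, v, hv, rfl⟩ := hdec b hcon.2
    refine hn ⟨n + m, (hu.mul hv).mul_right_eq_zero.mp ?_⟩
    rw [pow_add, ← hab]
    ring⟩
  have : IsDomain R := NoZeroDivisors.to_isDomain R
  have hnf : ¬ IsField R := fun hf => by
    rw [IsLocalRing.isField_iff_maximalIdeal_eq, hm, Ideal.span_singleton_eq_bot] at hf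
    exact hn (hf ▸ IsNilpotent.zero)
  exact ⟨this, ((IsDiscreteValuationRing.TFAE R hnf).out 0 4 :
    IsDiscreteValuationRing R ↔ Submodule.IsPrincipal (maximalIdeal R)).mpr ⟨⟨t, hm⟩⟩⟩

/-- A closed point without proper generalisation in a locally Noetherian scheme is open. -/
lemma isOpen_singleton {F : Scheme.{u}} [IsLocallyNoetherian F] (z : F)
    (hc : IsClosed ({z} : Set F)) (hmax : ∀ y : F, y ⤳ z → y = z) : IsOpen ({z} : Set F) := by
  obtain ⟨O, hO, hz, -⟩ := exists_isAffineOpen_mem_and_subset (X := F) (x := z) (U := ⊤) trivial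
  have : IsAffine O.toScheme := hO
  have : IsLocallyNoetherian O.toScheme := LocallyOfFiniteType.isLocallyNoetherian O.ι
  have : IsNoetherian O.toScheme := { }
  suffices h : IsOpen ({⟨z, hz⟩} : Set O.toScheme) by
    have := O.ι.isOpenEmbedding.isOpenMap _ h
    convert this using 1
    exact (Set.image_singleton (f := fun y => O.ι.base y) (a := (⟨z, hz⟩ : O.toScheme))).symm
  have hmax' : ∀ y : O.toScheme, y ⤳ ⟨z, hz⟩ → y = ⟨z, hz⟩ := fun y hy =>
    O.ι.isOpenEmbedding.injective (hmax _ (hy.map O.ι.continuous))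
  rw [← isClosed_compl_iff]
  have e : ({⟨z, hz⟩}ᶜ : Set O.toScheme) =
      ⋃ C ∈ {C ∈ irreducibleComponents O.toScheme | (⟨z, hz⟩ : O.toScheme) ∉ C}, C := by
    ext w
    simp only [Set.mem_compl_iff, Set.mem_singleton_iff, Set.mem_iUnion, Set.mem_setOf_eq]
    refine ⟨fun hw => ?_, fun ⟨C, ⟨_, hzC⟩, hwC⟩ h => hzC (h ▸ hwC)⟩
    refine ⟨irreducibleComponent w, ⟨irreducibleComponent_mem_irreducibleComponents w, ?_⟩,
      mem_irreducibleComponent⟩
    intro hzC
    have hirr : IsIrreducible (irreducibleComponent w) := isIrreducible_irreducibleComponent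
    have hg : closure ({hirr.genericPoint} : Set O.toScheme) = irreducibleComponent w := by
      rw [hirr.isGenericPoint_genericPoint_closure.def, isClosed_irreducibleComponent.closure_eq]
    have := hmax' _ (specializes_iff_mem_closure.mpr (hg.symm ▸ hzC))
    rw [this, (hc.preimage O.ι.continuous |> fun h => ?_ : closure ({⟨z, hz⟩} : Set O.toScheme) = {⟨z, hz⟩})] at hg
    · exact hw (Set.mem_singleton_iff.mp (hg.symm ▸ mem_irreducibleComponent))
    · refine IsClosed.closure_eq ?_
      convert h
      ext y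
      exact ⟨fun hy => hy ▸ rfl, fun hy => Subtype.ext hy⟩
  rw [e]
  exact Set.Finite.isClosed_biUnion
    (NoetherianSpace.finite_irreducibleComponents.subset fun C hC => hC.1)
    fun C hC => isClosed_of_mem_irreducibleComponents C hC.1

/-- A quasi-finite point carries no nonzerodivisor killed by a retraction of the local ring. -/
lemma not_quasiFiniteAt {X V : Scheme.{u}} (π : V ⟶ X) [LocallyOfFiniteType π] (v : V)
    {C : Type*} [CommRing C] [Nontrivial C] (σ : V.presheaf.stalk v →+* C)
    (hinj : Function.Injective (σ.comp (π.stalkMap v).hom))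
    (t : V.presheaf.stalk v) (ht : t ∈ nonZeroDivisors _) (hσ : σ t = 0) :
    ¬ π.QuasiFiniteAt v := by
  intro hq
  obtain ⟨U, hU, hxU, -⟩ := exists_isAffineOpen_mem_and_subset (X := X) (x := π v) (U := ⊤) trivial
  obtain ⟨W, hW, hvW, hWU⟩ := exists_isAffineOpen_mem_and_subset (X := V) (x := v) (U := π ⁻¹ᵁ U) hxU
  have hWU' : W ≤ π ⁻¹ᵁ U := hWU
  let := (π.appLE U W hWU').hom.toAlgebra
  have hft : Algebra.FiniteType Γ(X, U) Γ(V, W) :=
    LocallyOfFiniteType.finiteType_appLE (f := π) hU hW hWU'
  have hP : Algebra.QuasiFiniteAt Γ(X, U) (hW.primeIdealOf ⟨v, hvW⟩).asIdeal :=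
    hq.quasiFiniteAt hW hU hWU' hvW
  obtain ⟨r, hr, hint⟩ := Algebra.zariskisMainProperty_iff'.mp
    (Algebra.ZariskisMainProperty.of_finiteType (R := Γ(X, U)) (hW.primeIdealOf ⟨v, hvW⟩).asIdeal)
  let := TopCat.Presheaf.algebra_section_stalk V.presheaf (⟨v, hvW⟩ : W)
  have : IsLocalization.AtPrime (V.presheaf.stalk v) (hW.primeIdealOf ⟨v, hvW⟩).asIdeal :=
    hW.isLocalization_stalk ⟨v, hvW⟩
  obtain ⟨⟨a, s⟩, has⟩ := IsLocalization.surj (hW.primeIdealOf ⟨v, hvW⟩).asIdeal.primeCompl t
  obtain ⟨m, hm⟩ := hint a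
  have hus : IsUnit (algebraMap Γ(V, W) (V.presheaf.stalk v) s) :=
    IsLocalization.map_units (V.presheaf.stalk v) s
  have hur : IsUnit (algebraMap Γ(V, W) (V.presheaf.stalk v) r) :=
    IsLocalization.map_units (V.presheaf.stalk v)
      (⟨r, hr⟩ : (hW.primeIdealOf ⟨v, hvW⟩).asIdeal.primeCompl)
  have he : algebraMap Γ(V, W) (V.presheaf.stalk v) (r ^ m * a) =
      (algebraMap Γ(V, W) (V.presheaf.stalk v) r ^ m *
        algebraMap Γ(V, W) (V.presheaf.stalk v) s) * t := by
    rw [map_mul, map_pow, ← has]; ring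
  refine not_isIntegralElem (π.stalkMap v).hom σ hinj
    (algebraMap Γ(V, W) (V.presheaf.stalk v) (r ^ m * a)) ?_ ?_ ?_
  · rw [he]; exact Submonoid.mul_mem _ ((hur.pow m).mul hus).mem_nonZeroDivisors ht
  · rw [he, map_mul, hσ, mul_zero]
  · obtain ⟨g, hg, hge⟩ := hm
    refine ⟨g.map (X.presheaf.germ U (π v) (hWU' hvW)).hom, hg.map _, ?_⟩
    rw [Polynomial.eval₂_map]
    have hcomp : (π.stalkMap v).hom.comp (X.presheaf.germ U (π v) (hWU' hvW)).hom =
        (algebraMap Γ(V, W) (V.presheaf.stalk v)).comp (algebraMap Γ(X, U) Γ(V, W)) := by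
      show _ = (V.presheaf.germ W v hvW).hom.comp (π.appLE U W hWU').hom
      rw [← CommRingCat.hom_comp, ← CommRingCat.hom_comp]
      congr 1
      erw [Scheme.Hom.germ_stalkMap]
      rw [Scheme.Hom.appLE, Category.assoc, V.presheaf.germ_res]
    rw [hcomp, ← Polynomial.hom_eval₂, hge, map_zero]

/-- Let π : V → X be locally of finite type and j : X → V a section of π that is a closed immersion with
invertible ideal sheaf. Then for every x ∈ X the local ring at j(x) of the fibre π⁻¹(π(j(x))) =
π⁻¹(x) is a regular local ring of dimension one, i.e. a discrete valuation ring (so j(x) lies on a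
single irreducible component of the fibre; the completion of that local ring is then a power-series
ring in one variable over the residue field of x). (The published statement assumes π of finite
type; this row assumes only that π is locally of finite type, which is all the proof uses: it needs
no more than the Noetherian property of the local rings of the fibre.) -/
theorem result {X V : Scheme.{u}} (π : V ⟶ X) [LocallyOfFiniteType π]
    (j : X ⟶ V) [IsClosedImmersion j] (hj : j ≫ π = 𝟙 X) (hJ : BlowUp.IsEffCartierIdeal j.ker) (x : X) :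
    ∃ _ : IsDomain ((π.fiber (π.base (j.base x))).presheaf.stalk (π.asFiber (j.base x))),
      IsDiscreteValuationRing ((π.fiber (π.base (j.base x))).presheaf.stalk (π.asFiber (j.base x))) := by
  have : IsIso (j ≫ π) := hj.symm ▸ inferInstance
  let σ : V.presheaf.stalk (j.base x) →+* X.presheaf.stalk x := (j.stalkMap x).hom
  let φ := (π.stalkMap (j.base x)).hom
  have hbij : Function.Bijective (σ.comp φ) := by
    have h := ConcreteCategory.bijective_of_isIso ((j ≫ π).stalkMap x)
    rw [Scheme.Hom.stalkMap_comp] at h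
    exact h
  obtain ⟨U, hU, -, f, hf, he⟩ :=
    IdealSh.EffCartier.exists_equation hJ (j.base x) ⊤ trivial
  let t := (V.presheaf.germ U.1 (j.base x) hU).hom f
  have ht : t ∈ nonZeroDivisors (V.presheaf.stalk (j.base x)) :=
    IdealSh.Regular.germ_mem_nonZeroDivisors U.2 _ hU hf
  have : IsClosedImmersion (j ∣_ U.1) := MorphismProperty.of_isPullback (P := @IsClosedImmersion)
    (isPullback_morphismRestrict j U.1).flip inferInstance
  have hker : RingHom.ker σ = Ideal.span {t} := by
    show RingHom.ker (j.stalkMap x).hom = _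
    rw [Omega.ConormalZero.ker_stalkMap_eq j U.2 (RegImm44.isAffineOpen_preimage j U.2) hU
      (RegImm44.app_surjective j U.2), ← Scheme.Hom.ker_apply j U, he, Ideal.map_span,
      Set.image_singleton]

  have hσt : σ t = 0 := RingHom.mem_ker.mp (hker ▸ Ideal.mem_span_singleton_self t)
  let I := (maximalIdeal (X.presheaf.stalk (π.base (j.base x)))).map φ
  obtain ⟨e⟩ : Nonempty ((V.presheaf.stalk (j.base x) ⧸ I) ≃+*
      (π.fiber (π.base (j.base x))).presheaf.stalk (π.asFiber (j.base x))) :=
    FlatMor.FibreStalk.exists_fibre_stalk_equiv π (j.base x)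
  have hN : IsNoetherianRing ((π.fiber (π.base (j.base x))).presheaf.stalk (π.asFiber (j.base x))) :=
    SecSmooth27.isNoetherianRing_fiberStalk π (j.base x)
  let t' := e (Ideal.Quotient.mk I t)
  have hm : maximalIdeal ((π.fiber (π.base (j.base x))).presheaf.stalk (π.asFiber (j.base x))) =
      Ideal.span {t'} := by
    refine le_antisymm (fun c hc => ?_) ?_
    · obtain ⟨q, rfl⟩ := e.surjective c
      obtain ⟨b, rfl⟩ := Ideal.Quotient.mk_surjective q
      obtain ⟨a, ha⟩ := hbij.2 (σ b)
      have hb : ¬ IsUnit b := fun hu => (mem_maximalIdeal _).mp hc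
        ((hu.map (Ideal.Quotient.mk I)).map e)
      have ham : a ∈ maximalIdeal (X.presheaf.stalk (π.base (j.base x))) := fun hu => hb
        (isUnit_of_map_unit (j.stalkMap x).hom b (show IsUnit (σ b) from ha ▸ hu.map (σ.comp φ)))
      obtain ⟨w, hw⟩ := Ideal.mem_span_singleton'.mp (show b - φ a ∈ Ideal.span {t} by
        rw [← hker, RingHom.mem_ker, map_sub, ← ha]; exact sub_self _)
      refine Ideal.mem_span_singleton'.mpr ⟨e (Ideal.Quotient.mk I w), ?_⟩
      rw [← map_mul e, ← map_mul, hw, map_sub,
        Ideal.Quotient.eq_zero_iff_mem.mpr (Ideal.mem_map_of_mem φ ham), sub_zero]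
    · rw [Ideal.span_le, Set.singleton_subset_iff, SetLike.mem_coe, mem_maximalIdeal]
      intro hu
      have hu' : IsUnit (Ideal.Quotient.mk I t) := (MulEquiv.isUnit_map e).mp hu
      have : IsLocalHom (Ideal.Quotient.mk I) := by
        have : Nontrivial (V.presheaf.stalk (j.base x) ⧸ I) := e.toEquiv.nontrivial
        exact IsLocalHom.of_surjective _ Ideal.Quotient.mk_surjective
      have := (isUnit_of_map_unit (Ideal.Quotient.mk I) t hu').map σ
      rw [hσt] at this
      exact not_isUnit_zero this
  refine isDVR_of_principal _ t' hm fun hnil => ?_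
  refine not_quasiFiniteAt π (j.base x) σ hbij.1 t ht hσt ?_
  rw [Scheme.Hom.quasiFiniteAt_iff_isOpen_singleton_asFiber]
  have : LocallyOfFiniteType (π.fiberToSpecResidueField (π.base (j.base x))) :=
    inferInstanceAs (LocallyOfFiniteType (pullback.snd π (X.fromSpecResidueField _)))
  have := LocallyOfFiniteType.isLocallyNoetherian (π.fiberToSpecResidueField (π.base (j.base x)))
  refine isOpen_singleton _ ?_ fun y hy => ?_
  · have hset : ({π.asFiber (j.base x)} : Set (π.fiber (π.base (j.base x)))) =
        π.fiberι _ ⁻¹' Set.range j.base := by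
      ext w
      refine ⟨fun hw => ⟨x, by rw [Set.mem_singleton_iff.mp hw, π.fiberι_asFiber]⟩, fun ⟨x', hx'⟩ => ?_⟩
      refine Set.mem_singleton_iff.mpr ((π.fiberι _).isEmbedding.injective ?_)
      rw [π.fiberι_asFiber, ← hx']
      have h1 : π.base (π.fiberι _ w) = π.base (j.base x) :=
        (π.range_fiberι _).le (Set.mem_range_self w)
      rw [← hx', ← Scheme.Hom.comp_apply, ← Scheme.Hom.comp_apply, hj] at h1
      exact congrArg _ h1
    rw [hset]
    exact j.isClosedEmbedding.isClosed_range.preimage (π.fiberι _).continuous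
  · have hd : Ring.KrullDimLE 0 ((π.fiber (π.base (j.base x))).presheaf.stalk (π.asFiber (j.base x))) :=
      Ring.krullDimLE_zero_iff.mpr fun P hP => by
        have hle : maximalIdeal _ ≤ P := by
          rw [hm, Ideal.span_le, Set.singleton_subset_iff]
          obtain ⟨n, hn⟩ := hnil
          exact hP.mem_of_pow_mem n (hn ▸ P.zero_mem)
        rw [← (maximalIdeal.isMaximal _).eq_of_le hP.ne_top hle]
        infer_instance
    have h0 := (ringKrullDimZero_iff_ringKrullDim_eq_zero).1 hd
    rw [ringKrullDim_stalk_eq_coheight] at h0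
    have h0' : Order.coheight (π.asFiber (j.base x)) = 0 := WithBot.coe_injective h0
    exact Inseparable.eq (Specializes.antisymm hy (Order.coheight_eq_zero.mp h0' (show _ ≤ y from hy)))

end Groth.Agent.S8283
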