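import Groth.Statements.S8296
import Groth.Agent.RelSpecLib.Vertex

set_option autoImplicit false
universe u
open CategoryTheory CategoryTheory.Limits AlgebraicGeometry Opposite TopologicalSpace
open scoped HomogeneousIdeal
noncomputable section
open EGA2

namespace Groth.Agent.S8296

/-- The pointed affine cone: let 𝒮 be a quasi-coherent positively graded O_Y-algebra with 𝒮_0 = O_Y, aug
its augmentation, C = Spec(𝒮) its affine cone and ε : Y → C the vertex section. Then the open subset
of C which is the union, over the affine opens U of Y, of the chart images of the complements of the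
closed sets V(𝒮(U)_+) in Spec 𝒮(U), is exactly the complement of ε(Y); in other words the pointed
affine cone E, defined chart by chart through the irrelevant ideals, is C − ε(Y). -/
theorem result {Y : Scheme.{u}} (𝒮 : RelProj.QCGrAlg Y)
    (h0 : RelCone.StrZeroBij 𝒮) (aug : 𝒮.toQCAlg ⟶ RelSpec.QCAlg.unit Y) (haug : RelCone.IsAugmentation 𝒮 aug)
    (ε : Y ⟶ 𝒮.toQCAlg.spec) (hε : RelCone.IsVertex 𝒮 aug ε) :
    ((RelCone.pointedCone 𝒮 : 𝒮.toQCAlg.spec.Opens) : Set 𝒮.toQCAlg.spec) = (Set.range ε.base)ᶜ := by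
  classical
  have hker : ∀ (U : Y.Opens) (hU : IsAffineOpen U) (x : 𝒮.presheaf.obj (op U)),
      (aug.hom.app (op U)).hom x = 0 ↔ x ∈ (𝒮.deg U hU)₊.toIdeal := by
    intro U hU x
    let f := (aug.hom.app (op U)).hom
    have e : f x = f (DirectSum.decompose (𝒮.deg U hU) x 0 : 𝒮.presheaf.obj (op U)) := by
      conv_lhs => rw [← DirectSum.sum_support_decompose (𝒮.deg U hU) x]
      rw [map_sum, Finset.sum_eq_single 0]
      · intro b _ hb
        obtain ⟨d, rfl⟩ := Nat.exists_eq_succ_of_ne_zero hb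
        exact haug U hU d _ (SetLike.coe_mem _)
      · intro h
        rw [DFinsupp.notMem_support_iff.1 h]
        simp
    obtain ⟨r, hr⟩ := (h0 U hU).2 (DirectSum.decompose (𝒮.deg U hU) x 0)
    have hr' : (𝒮.str.app (op U)).hom r = (DirectSum.decompose (𝒮.deg U hU) x 0 : 𝒮.presheaf.obj (op U)) :=
      congrArg Subtype.val hr
    rw [← hr'] at e
    refine (show f x = 0 ↔ _ from ?_)
    rw [HomogeneousIdeal.mem_iff, HomogeneousIdeal.mem_irrelevant_iff, GradedRing.proj_apply, ← hr', e,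
      show f ((𝒮.str.app (op U)).hom r) = r from Groth.Agent.RelSpecLib.str_comp_app aug U r]
    constructor
    · rintro rfl; exact map_zero _
    · intro h
      refine (h0 U hU).1 (Subtype.ext ?_)
      exact h.trans (map_zero (𝒮.str.app (op U)).hom).symm
  have hrange : ∀ (U : Y.Opens) (hU : IsAffineOpen U) (z : Spec (𝒮.presheaf.obj (op U))),
      𝒮.toQCAlg.ι U hU z ∈ Set.range ε.base ↔ z ∉ RelCone.vertexCompl (𝒮.deg U hU) := by
    intro U hU z
    have hsurj : Function.Surjective (aug.hom.app (op U)).hom :=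
      fun r => ⟨_, Groth.Agent.RelSpecLib.str_comp_app aug U r⟩
    have hz : z ∉ RelCone.vertexCompl (𝒮.deg U hU) ↔
        z ∈ Set.range (Spec.map (aug.hom.app (op U))).base := by
      have e := range_comap_of_surjective _ (aug.hom.app (op U)).hom hsurj
      have e2 : (RingHom.ker (aug.hom.app (op U)).hom) = (𝒮.deg U hU)₊.toIdeal :=
        Ideal.ext fun x => hker U hU x
      rw [e2] at e
      exact not_not.trans (Set.ext_iff.1 e z).symm
    rw [hz]
    constructor
    · rintro ⟨y, hy⟩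
      have hyU : y ∈ U := by
        have h : 𝒮.toQCAlg.ι U hU z ∈ (𝒮.toQCAlg.ι U hU).opensRange := ⟨_, rfl⟩
        rw [← 𝒮.toQCAlg.π_preimage U hU] at h
        change 𝒮.toQCAlg.π (𝒮.toQCAlg.ι U hU z) ∈ U at h
        rwa [← hy, ← Scheme.Hom.comp_apply, hε.comp_π] at h
      replace hyU : y ∈ Set.range hU.fromSpec := by rw [hU.range_fromSpec]; exact hyU
      obtain ⟨w, rfl⟩ := hyU
      refine ⟨w, (𝒮.toQCAlg.ι U hU).isOpenEmbedding.injective ?_⟩
      rw [← hy, ← Scheme.Hom.comp_apply, ← Scheme.Hom.comp_apply, hε.chart U hU]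
      rfl
    · rintro ⟨w, rfl⟩
      refine ⟨hU.fromSpec w, ?_⟩
      rw [← Scheme.Hom.comp_apply, hε.chart U hU]
      rfl
  ext x
  constructor
  · intro hx
    obtain ⟨⟨U, hU⟩, z, hz, rfl⟩ := Opens.mem_iSup.1 hx
    exact fun h => (hrange U hU z).1 h hz
  · intro hx
    obtain ⟨_, ⟨U, hU, rfl⟩, hxU, -⟩ := Y.isBasis_affineOpens.exists_subset_of_mem_open
      (show 𝒮.toQCAlg.π x ∈ (⊤ : Y.Opens) from trivial) isOpen_univ
    obtain ⟨z, rfl⟩ := Groth.Agent.RelSpecLib.exists_ι_apply_eq 𝒮.toQCAlg x U hU hxU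
    exact Opens.mem_iSup.2 ⟨⟨U, hU⟩, z, of_not_not fun h => hx ((hrange U hU z).2 h), rfl⟩

end Groth.Agent.S8296
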