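import Groth.Statements.S8297
import Groth.Agent.RelConeLib.Pointed

set_option autoImplicit false
universe u
open CategoryTheory CategoryTheory.Limits AlgebraicGeometry Opposite TopologicalSpace
open scoped HomogeneousIdeal
noncomputable section
open EGA2

namespace Groth.Agent.S8297

/-- The relation i(C) = Ĉ − j(X): let 𝒮 be a quasi-coherent positively graded O_Y-algebra with 𝒮_0 =
O_Y, Ŝ = 𝒮[z] (given through a graded homomorphism ι : 𝒮 → Ŝ and a global section z of degree one,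
the map 𝒮(U)[X] → Ŝ(U), X ↦ z, being bijective over every affine open U), C = Spec(𝒮) the affine
cone, Ĉ = Proj(Ŝ) the projective cone and X = Proj(𝒮), each relative homogeneous spectrum given with
its charts; let i : C → Ĉ be the canonical open immersion (chartwise Spec of Ŝ(U)_(z) → 𝒮(U), z ↦ 1,
followed by the inclusion of D_+(z)), θ : Ŝ → 𝒮 the graded retraction of ι sending z to 0, and j : X
→ Ĉ the morphism chartwise induced by θ (the immersion of the locus at infinity). Then the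
underlying set of the image of i is the complement of the image of j. -/
theorem result {Y PC P : Scheme.{u}} (𝒮 𝒮h : RelProj.QCGrAlg Y) (h0 : RelCone.StrZeroBij 𝒮)
    (ι : 𝒮.toQCAlg ⟶ 𝒮h.toQCAlg) (z : 𝒮h.presheaf.obj (op ⊤)) (hz : RelCone.IsPolyOver 𝒮 𝒮h ι z)
    (pC : PC ⟶ Y)
    (chartC : ∀ (U : Y.Opens) (hU : IsAffineOpen U), (((pC ⁻¹ᵁ U : PC.Opens) : Scheme.{u}) ≅ Proj (𝒮h.deg U hU)))
    (hPC : RelProj.IsRelProj 𝒮h pC chartC)
    (i : 𝒮.toQCAlg.spec ⟶ PC) (hi : RelCone.IsConeImm 𝒮 hz pC chartC i)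
    (θ : 𝒮h.toQCAlg ⟶ 𝒮.toQCAlg) (hθ : RelProj.IsGradedHom θ) (hιθ : ι ≫ θ = 𝟙 _)
    (hθz : (θ.hom.app (op ⊤)).hom z = 0)
    (hirr : ∀ (U : Y.Opens) (hU : IsAffineOpen U),
      (𝒮.deg U hU)₊ ≤ ((𝒮h.deg U hU)₊).map (RelProj.gradedHomAt θ hθ U hU))
    (p : P ⟶ Y)
    (chart : ∀ (U : Y.Opens) (hU : IsAffineOpen U), (((p ⁻¹ᵁ U : P.Opens) : Scheme.{u}) ≅ Proj (𝒮.deg U hU)))
    (hP : RelProj.IsRelProj 𝒮 p chart) (j : P ⟶ PC) (hj : RelProj.IsRelProjMap θ hθ hirr chartC chart j) :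
    Set.range i.base = (Set.range j.base)ᶜ := by
  have hi' := RelConeLib.isImm_of_isConeImm pC chartC hi
  have hzU : ∀ (U : Y.Opens) (hU : IsAffineOpen U),
      RelProj.gradedHomAt θ hθ U hU (RelCone.restrictTop 𝒮h z U) = 0 := fun U hU => by
    refine (congr($(θ.hom.naturality (homOfLE (le_top : U ≤ ⊤)).op).hom z)).trans ?_
    rw [CommRingCat.comp_apply, hθz, map_zero]
  have hθι : ∀ (U : Y.Opens) (hU : IsAffineOpen U) (a : 𝒮.presheaf.obj (op U)),
      RelProj.gradedHomAt θ hθ U hU (RelProj.gradedHomAt ι hz.graded U hU a) = a := fun U hU a =>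
    congr(((RelSpec.QCAlg.Hom.hom $hιθ).app (op U)).hom a)
  have hjU : ∀ (U : Y.Opens) (hU : IsAffineOpen U), RelProj.emb p chart U hU ≫ j =
      Proj.map (RelProj.gradedHomAt θ hθ U hU) (hirr U hU) ≫ RelProj.emb pC chartC U hU := fun U hU => by
    rw [RelProj.emb, RelProj.emb, Category.assoc, hj U hU, Iso.inv_hom_id_assoc]
  ext x
  obtain ⟨U, hU, y, rfl⟩ := RelProjLib.exists_emb_apply_eq (p := pC) (chart := chartC) x
  rw [Set.mem_compl_iff]
  constructor
  · rintro hx ⟨q, hq⟩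
    obtain ⟨V, hV, q', rfl⟩ := RelProjLib.exists_emb_apply_eq (p := p) (chart := chart) q
    rw [← Scheme.Hom.comp_apply, hjU V hV, Scheme.Hom.comp_apply] at hq
    rw [← hq, RelConeLib.emb_mem_range_iff hPC hi'] at hx
    refine hx ?_
    show RelProj.gradedHomAt θ hθ V hV (RelCone.restrictTop 𝒮h z V) ∈ q'.asHomogeneousIdeal
    rw [hzU]
    exact zero_mem _
  · intro hx
    rw [RelConeLib.emb_mem_range_iff hPC hi']
    intro hzy
    have hmem : ∀ b, b ∈ y.asHomogeneousIdeal ↔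
        RelProj.gradedHomAt ι hz.graded U hU (RelProj.gradedHomAt θ hθ U hU b) ∈ y.asHomogeneousIdeal := by
      intro b
      obtain ⟨a, c, rfl⟩ := RelConeLib.exists_eq_add_z_mul (hz.bij U hU) b
      rw [map_add, map_mul, hzU, zero_mul, add_zero]
      show _ ↔ RelProj.gradedHomAt ι hz.graded U hU
        (RelProj.gradedHomAt θ hθ U hU (RelProj.gradedHomAt ι hz.graded U hU a)) ∈ _
      rw [hθι]
      exact (y.asHomogeneousIdeal.toIdeal.add_mem_iff_left (Ideal.mul_mem_right c _ hzy))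
    obtain ⟨n, a, hn, ha, hay⟩ := RelConeLib.exists_notMem_of_z_mem (RelProj.gradedHomAt ι hz.graded U hU)
      (hz.bij U hU) y hzy
    let q : Proj (𝒮.deg U hU) :=
      (⟨y.asHomogeneousIdeal.comap (RelProj.gradedHomAt ι hz.graded U hU),
        Ideal.IsPrime.comap _ (hK := y.isPrime),
        fun hle => hay (hle (HomogeneousIdeal.mem_irrelevant_of_mem _ hn ha))⟩ : ProjectiveSpectrum (𝒮.deg U hU))
    refine hx ⟨RelProj.emb p chart U hU q, ?_⟩
    rw [← Scheme.Hom.comp_apply, hjU U hU, Scheme.Hom.comp_apply]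
    congr 1
    refine ProjectiveSpectrum.ext (HomogeneousIdeal.ext (Ideal.ext fun b => ?_))
    exact (hmem b).symm

end Groth.Agent.S8297
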