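import Groth.Statements.S8298
import Groth.Agent.RelConeLib.Pointed
import Groth.Agent.S8296

set_option autoImplicit false
universe u
open CategoryTheory CategoryTheory.Limits AlgebraicGeometry Opposite TopologicalSpace
open scoped HomogeneousIdeal
noncomputable section
open EGA2

namespace Groth.Agent.S8298

/-- The pointed projective cone: let 𝒮 be a quasi-coherent positively graded O_Y-algebra with 𝒮_0 = O_Y,
aug its augmentation and ε : Y → C = Spec(𝒮) the vertex section; let Ŝ = 𝒮[z] (given through a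
graded homomorphism ι : 𝒮 → Ŝ and a degree-one global section z, polynomial over every affine open),
Ĉ = Proj(Ŝ) its relative homogeneous spectrum with charts, and i : C → Ĉ the canonical open
immersion. Then the open subset of Ĉ which is the union, over the affine opens U of Y, of the chart
images of the opens of Proj Ŝ(U) where the morphism induced by ι(U) : 𝒮(U) → Ŝ(U) is defined (the
complement of V_+ of the ideal generated by ι(𝒮(U)_+)) has underlying set exactly the complement of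
i(ε(Y)): the pointed projective cone Ê is Ĉ minus its vertex section. -/
theorem result {Y PC : Scheme.{u}} (𝒮 𝒮h : RelProj.QCGrAlg Y) (h0 : RelCone.StrZeroBij 𝒮)
    (ι : 𝒮.toQCAlg ⟶ 𝒮h.toQCAlg) (z : 𝒮h.presheaf.obj (op ⊤)) (hz : RelCone.IsPolyOver 𝒮 𝒮h ι z)
    (pC : PC ⟶ Y)
    (chartC : ∀ (U : Y.Opens) (hU : IsAffineOpen U), (((pC ⁻¹ᵁ U : PC.Opens) : Scheme.{u}) ≅ Proj (𝒮h.deg U hU)))
    (hPC : RelProj.IsRelProj 𝒮h pC chartC)
    (aug : 𝒮.toQCAlg ⟶ RelSpec.QCAlg.unit Y) (haug : RelCone.IsAugmentation 𝒮 aug)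
    (ε : Y ⟶ 𝒮.toQCAlg.spec) (hε : RelCone.IsVertex 𝒮 aug ε)
    (i : 𝒮.toQCAlg.spec ⟶ PC) (hi : RelCone.IsConeImm 𝒮 hz pC chartC i) :
    ((RelCone.pointedProjCone 𝒮 hz pC chartC : PC.Opens) : Set PC) = (Set.range (ε ≫ i).base)ᶜ := by
  have hP0 := S8296.result 𝒮 h0 aug haug ε hε
  have hi' := RelConeLib.isImm_of_isConeImm pC chartC hi
  ext x
  obtain ⟨U, hU, y, rfl⟩ := RelProjLib.exists_emb_apply_eq (p := pC) (chart := chartC) x
  rw [SetLike.mem_coe, RelConeLib.mem_pointedProjCone_iff hz hPC U hU y, Set.mem_compl_iff, ← not_iff_not, not_not,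
    RelConeLib.notMem_domOpen_iff]
  have hEι : ∀ a, (RelConeLib.polyData_of_isPolyOver hz).E U hU (RelProj.gradedHomAt ι hz.graded U hU a) = a :=
    fun a => RelConeLib.evalAtOne_map _ a
  constructor
  · intro hy
    have hzy : RelCone.restrictTop 𝒮h z U ∉ y.asHomogeneousIdeal := by
      intro hm
      obtain ⟨n, a, hn, ha, hay⟩ := RelConeLib.exists_notMem_of_z_mem (RelProj.gradedHomAt ι hz.graded U hU)
        (hz.bij U hU) y hm
      exact hay (hy n a hn ha)
    obtain ⟨w, rfl⟩ : y ∈ Set.range ((RelConeLib.polyData_of_isPolyOver hz).c U hU) := by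
      rw [RelConeLib.range_coneChart _ _ _ ((RelConeLib.polyData_of_isPolyOver hz).bijective_θ U hU)]
      exact hzy
    have hw : 𝒮.toQCAlg.ι U hU w ∉ RelCone.pointedCone 𝒮 := by
      rw [RelConeLib.mem_pointedCone_iff, RelConeLib.notMem_vertexCompl_iff]
      intro n a hn ha
      have h := (RelConeLib.mem_coneChart_iff _ _ _ hn ((RelProj.gradedHomAt ι hz.graded U hU).2 ha) w).1 (hy n a hn ha)
      exact (congrArg (· ∈ w.asIdeal) (hEι a)).mp h
    rw [← SetLike.mem_coe, hP0, Set.mem_compl_iff, not_not] at hw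
    obtain ⟨t, ht⟩ := hw
    refine ⟨t, ?_⟩
    rw [Scheme.Hom.comp_apply, ht, ← Scheme.Hom.comp_apply, hi' U hU, Scheme.Hom.comp_apply]
  · rintro ⟨t, ht⟩ n a hn ha
    rw [Scheme.Hom.comp_apply] at ht
    have htU : ε t ∈ i ⁻¹ᵁ (pC ⁻¹ᵁ U) := by
      show pC (i (ε t)) ∈ U
      rw [ht]
      exact RelProjLib.emb_mem_base 𝒮h U hU y
    rw [RelConeLib.preimage_base hPC hi' U hU] at htU
    obtain ⟨w, hw⟩ := htU
    rw [← hw, ← Scheme.Hom.comp_apply, hi' U hU, Scheme.Hom.comp_apply] at ht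
    obtain rfl := (RelProj.emb pC chartC U hU).isOpenEmbedding.injective ht
    refine (RelConeLib.mem_coneChart_iff _ _ _ hn ((RelProj.gradedHomAt ι hz.graded U hU).2 ha) w).2 ?_
    refine (congrArg (· ∈ w.asIdeal) (hEι a)).mpr ((RelConeLib.notMem_vertexCompl_iff _ w).1 ?_ n a hn ha)
    rw [← RelConeLib.mem_pointedCone_iff, ← SetLike.mem_coe, hP0, Set.mem_compl_iff, not_not]
    exact ⟨t, hw.symm⟩

end Groth.Agent.S8298
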