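import Groth.Statements.S8300
import Groth.Agent.RelConeLib.Pointed
import Groth.Agent.RelSpecLib.Basic

set_option autoImplicit false
universe u
open CategoryTheory CategoryTheory.Limits AlgebraicGeometry Opposite TopologicalSpace
open scoped HomogeneousIdeal
noncomputable section
open EGA2

namespace Groth.Agent.S8300

/-- Let q : Y' → Y be a morphism of schemes, 𝒮 and 𝒮' quasi-coherent positively graded algebras over O_Y
and O_{Y'} with 𝒮_0 = O_Y and 𝒮'_0 = O_{Y'}, and φ : 𝒮 → q_*𝒮' a graded q-morphism (a map of sheaves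
of rings compatible with the structure maps through q^♯, whose components 𝒮(U) → 𝒮'(U') for affine
opens U' ⊆ q⁻¹(U) preserve degrees, recorded as graded ring homomorphisms); let C = Spec(𝒮), C' =
Spec(𝒮') be the affine cones and Φ : C' → C the morphism Spec(φ), i.e. the morphism which on the
charts over affine opens U' ⊆ q⁻¹(U) is Spec of 𝒮(U) → 𝒮'(U'); let E ⊆ C and E' ⊆ C' be the pointed
affine cones (defined chart by chart as the complements of V(𝒮(U)_+), resp. V(𝒮'(U')_+)). Then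
Proj(φ) is everywhere defined, which here means that for all affine opens U' ⊆ q⁻¹(U) the open of
Proj 𝒮'(U') where the morphism induced by 𝒮(U) → 𝒮'(U') is defined (the complement of V_+ of the
ideal generated by the image of the irrelevant ideal of 𝒮(U)) is the whole of Proj 𝒮'(U'), if and
only if the inverse image of E under Φ equals E'. -/
theorem result {Y Y' : Scheme.{u}} (q : Y' ⟶ Y) (𝒮 : RelProj.QCGrAlg Y) (𝒮' : RelProj.QCGrAlg Y')
    (h0 : RelCone.StrZeroBij 𝒮) (h0' : RelCone.StrZeroBij 𝒮')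
    (u : 𝒮.presheaf ⟶ q.base _* 𝒮'.presheaf)
    (hu : 𝒮.str ≫ u = q.c ≫ (TopCat.Presheaf.pushforward CommRingCat.{u} q.base).map 𝒮'.str)
    (φ : ∀ (U : Y.Opens) (hU : IsAffineOpen U) (U' : Y'.Opens) (hU' : IsAffineOpen U') (_ : U' ≤ q ⁻¹ᵁ U),
      𝒮.deg U hU →+*ᵍ 𝒮'.deg U' hU')
    (hφ : ∀ (U : Y.Opens) (hU : IsAffineOpen U) (U' : Y'.Opens) (hU' : IsAffineOpen U') (hle : U' ≤ q ⁻¹ᵁ U),
      (φ U hU U' hU' hle).toRingHom =
        ((u.app (op U) : 𝒮.presheaf.obj (op U) ⟶ 𝒮'.presheaf.obj (op (q ⁻¹ᵁ U))) ≫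
          𝒮'.presheaf.map (homOfLE hle).op).hom)
    (Φ : 𝒮'.toQCAlg.spec ⟶ 𝒮.toQCAlg.spec)
    (hΦ : ∀ (U : Y.Opens) (hU : IsAffineOpen U) (U' : Y'.Opens) (hU' : IsAffineOpen U') (hle : U' ≤ q ⁻¹ᵁ U),
      𝒮'.toQCAlg.ι U' hU' ≫ Φ =
        Spec.map ((u.app (op U) : 𝒮.presheaf.obj (op U) ⟶ 𝒮'.presheaf.obj (op (q ⁻¹ᵁ U))) ≫
          𝒮'.presheaf.map (homOfLE hle).op) ≫ 𝒮.toQCAlg.ι U hU) :
    (∀ (U : Y.Opens) (hU : IsAffineOpen U) (U' : Y'.Opens) (hU' : IsAffineOpen U') (hle : U' ≤ q ⁻¹ᵁ U),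
        RelCone.domOpen (φ U hU U' hU' hle) = ⊤) ↔
      Φ ⁻¹ᵁ RelCone.pointedCone 𝒮 = RelCone.pointedCone 𝒮' := by
  have hφ' : ∀ (U : Y.Opens) (hU : IsAffineOpen U) (U' : Y'.Opens) (hU' : IsAffineOpen U') (hle : U' ≤ q ⁻¹ᵁ U)
      (w : Spec (𝒮'.presheaf.obj (op U'))), 𝒮'.toQCAlg.ι U' hU' w ∈ Φ ⁻¹ᵁ RelCone.pointedCone 𝒮 ↔
        ∃ (n : ℕ) (a : 𝒮.presheaf.obj (op U)), 0 < n ∧ a ∈ 𝒮.deg U hU n ∧ φ U hU U' hU' hle a ∉ w.asIdeal := by
    intro U hU U' hU' hle w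
    show Φ (𝒮'.toQCAlg.ι U' hU' w) ∈ RelCone.pointedCone 𝒮 ↔ _
    rw [← Scheme.Hom.comp_apply, hΦ U hU U' hU' hle, Scheme.Hom.comp_apply, RelConeLib.mem_pointedCone_iff,
      RelConeLib.mem_vertexCompl_iff]
    refine exists_congr fun n => exists_congr fun a => and_congr_right fun _ => and_congr_right fun _ => ?_
    show _ ↔ (φ U hU U' hU' hle).toRingHom a ∉ w.asIdeal
    rw [hφ U hU U' hU' hle]
    rfl
  constructor
  · intro h
    refine Opens.ext (Set.ext fun x => ?_)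
    obtain ⟨_, ⟨U, hU, rfl⟩, hxU, -⟩ := Y.isBasis_affineOpens.exists_subset_of_mem_open
      (show q (𝒮'.toQCAlg.π x) ∈ (⊤ : Y.Opens) from trivial) isOpen_univ
    obtain ⟨_, ⟨U', hU', rfl⟩, hxU', hle⟩ := Y'.isBasis_affineOpens.exists_subset_of_mem_open
      (show 𝒮'.toQCAlg.π x ∈ q ⁻¹ᵁ U from hxU) (q ⁻¹ᵁ U).2
    replace hU : IsAffineOpen U := hU
    replace hU' : IsAffineOpen U' := hU'
    replace hle : U' ≤ q ⁻¹ᵁ U := hle
    obtain ⟨w, rfl⟩ := RelSpecLib.exists_ι_apply_eq 𝒮'.toQCAlg x U' hU' hxU'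
    rw [SetLike.mem_coe, SetLike.mem_coe, hφ' U hU U' hU' hle, RelConeLib.mem_pointedCone_iff,
      RelConeLib.mem_vertexCompl_iff]
    constructor
    · rintro ⟨n, a, hn, ha, haw⟩
      exact ⟨n, _, hn, (φ U hU U' hU' hle).2 ha, haw⟩
    · rintro ⟨n, b, hn, hb, hbw⟩
      have hp : w.asIdeal.IsPrime := w.isPrime
      obtain ⟨m, a, hm, ha, hay⟩ := (RelConeLib.mem_domOpen_iff _ _).1
        ((h U hU U' hU' hle).ge (Set.mem_univ (RelConeLib.corePoint w.asIdeal hn hb hbw)))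
      exact ⟨m, a, hm, ha,
        fun h' => hay ((RelConeLib.mem_corePoint_iff _ _ _ _ ((φ U hU U' hU' hle).2 ha)).2 h')⟩
  · intro h U hU U' hU' hle
    refine top_le_iff.1 fun y _ => ?_
    rw [RelConeLib.mem_domOpen_iff]
    let w : Spec (𝒮'.presheaf.obj (op U')) := (⟨y.asHomogeneousIdeal.toIdeal, y.isPrime⟩ : PrimeSpectrum _)
    have hw : 𝒮'.toQCAlg.ι U' hU' w ∈ RelCone.pointedCone 𝒮' := by
      rw [RelConeLib.mem_pointedCone_iff]
      by_contra hne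
      exact y.not_irrelevant_le ((RelConeLib.irrelevant_le_ideal_iff _).2 ((RelConeLib.notMem_vertexCompl_iff _ w).1 hne))
    rw [← h, hφ' U hU U' hU' hle] at hw
    exact hw

end Groth.Agent.S8300
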