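import Groth.Statements.S8302
import Groth.Agent.DirImgAff.Full

set_option autoImplicit false
universe u
open CategoryTheory CategoryTheory.Limits AlgebraicGeometry Opposite TopologicalSpace
noncomputable section
open EGA2

namespace Groth.Agent.S8302

/-- The case of a single scheme X affine over S and the identity morphism of X: let f : X → S be an
affine morphism and F, G quasi-coherent O_X-modules. Then the direct image u ↦ f_*(u) is a bijection
from the set of O_X-module homomorphisms F → G onto the set of homomorphisms f_*F → f_*G of modules
over the direct-image algebra f_*O_X. -/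
theorem result {X S : Scheme.{u}} (f : X ⟶ S) [IsAffineHom f]
    (F G : X.Modules) (hF : Coh.IsQCoh F) (hG : Coh.IsQCoh G) :
    Function.Bijective
      ((AMod.dirImg f).map : (F ⟶ G) → ((AMod.dirImg f).obj F ⟶ (AMod.dirImg f).obj G)) := by
  have : F.IsQuasicoherent := hF
  have : G.IsQuasicoherent := hG
  exact ⟨Groth.Agent.DirImgAff.dirImg_map_injective, Groth.Agent.DirImgAff.dirImg_map_surjective⟩

end Groth.Agent.S8302
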