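import Groth.Statements.S8303
import Groth.Agent.ModAlg.Main
import Groth.Agent.QCoh.Qcqs
import Groth.Agent.QCoh.FiniteType
import Groth.Agent.WeakAssSch.Unit
-- import your own Groth.Agent.* helpers here

set_option autoImplicit false
universe u
open CategoryTheory CategoryTheory.Limits AlgebraicGeometry Opposite TopologicalSpace
noncomputable section
open EGA2

namespace Groth.Agent.S8303
open Groth.Agent.ModAlg Groth.Agent.QCoh

/-- For the algebra f_*O_X of a scheme X affine over S: let f : X → S be an affine morphism and F a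
quasi-coherent O_X-module. Then F is of finite type (locally on X generated by finitely many
sections) if and only if the direct image f_*F is of finite type as a module over the sheaf of rings
f_*O_X (locally on S generated by finitely many sections over f_*O_X). -/
theorem result {X S : Scheme.{u}} (f : X ⟶ S) [IsAffineHom f]
    (F : X.Modules) (hF : Coh.IsQCoh F) :
    SheafOfModules.IsFiniteType.{u} (R := X.ringCatSheaf) F ↔
      SheafOfModules.IsFiniteType.{u} (R := AMod.ringSheaf (RelSpec.QCAlg.directImage f)) ((AMod.dirImg f).obj F) := by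
  have : F.IsQuasicoherent := hF
  let B : Sheaf (Opens.grothendieckTopology S) CommRingCat.{u} :=
    ⟨(RelSpec.QCAlg.directImage f).presheaf, (RelSpec.QCAlg.directImage f).isSheaf⟩
  let φ : S.sheaf ⟶ B := ⟨(RelSpec.QCAlg.directImage f).str⟩
  let M : SheafOfModules.{u} (BR B) := (AMod.dirImg f).obj F
  have : (SheafOfModules.unit X.ringCatSheaf : X.Modules).IsQuasicoherent := Groth.Agent.WeakAssSch.isQuasicoherent_unit X
  have hB : IsQCAlg φ := isQCAlg_of_isQuasicoherent
    (isQuasicoherent_pushforward f (SheafOfModules.unit X.ringCatSheaf : X.Modules))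
  have hM : (toX φ M).IsQuasicoherent := isQuasicoherent_pushforward f F
  constructor
  · intro _
    have hU : ∀ U : S.affineOpens, ∃ G : (M.over U.1).GeneratingSections, Finite G.I := by
      intro U
      obtain ⟨t, ht⟩ := (finite_sections_of_isFiniteType F (U.2.preimage f)).fg_top
      let s : (↥(t : Set Γ(F, f ⁻¹ᵁ U.1))) → Sec M U.1 := fun i => i.1
      have hs : ∀ y, y ∈ Submodule.span (BS B U.1) (Set.range s) := fun y => by
        have : (show Γ(F, f ⁻¹ᵁ U.1) from y) ∈ Submodule.span Γ(X, f ⁻¹ᵁ U.1) (t : Set Γ(F, f ⁻¹ᵁ U.1)) :=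
          ht ▸ trivial
        rw [← Subtype.range_val (s := (t : Set Γ(F, f ⁻¹ᵁ U.1)))] at this
        exact this
      exact ⟨{ I := ↥(t : Set Γ(F, f ⁻¹ᵁ U.1))
               s := fun i => gsec (s i)
               epi := epi_genHom φ U.2 ((isQuasicoherent_iff_forall_isAffineOpen _).mp hM U.1 U.2) s hs },
        inferInstanceAs (Finite ↥(t : Set Γ(F, f ⁻¹ᵁ U.1)))⟩
    choose G hG using hU
    let σ : SheafOfModules.LocalGeneratorsData.{u} M :=
      { I := S.affineOpens
        X := fun U => U.1
        coversTop := (Opens.coversTop_iff (U := fun U : S.affineOpens => U.1)).mpr (iSup_affineOpens_eq_top S)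
        generators := G }
    have hf : ∀ U, (G U).IsFiniteType := fun U => { finite := hG U }
    have hσ : SheafOfModules.LocalGeneratorsData.IsFiniteType.{u} σ := { isFiniteType := hf }
    constructor
    exact ⟨σ, hσ⟩
  · intro h
    obtain ⟨σ, hσ⟩ := h.exists_localGeneratorsData
    refine isFiniteType_of_forall_exists F fun x => ?_
    obtain ⟨i, hi⟩ := Opens.mem_iSup.mp
      (((Opens.coversTop_iff (U := σ.X)).mp σ.coversTop).ge (trivial : f x ∈ (⊤ : S.Opens)))
    obtain ⟨_, ⟨U, hU, rfl⟩, hxU, hUi⟩ := S.isBasis_affineOpens.exists_subset_of_mem_open hi (σ.X i).2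
    refine ⟨f ⁻¹ᵁ U, hU.preimage f, hxU, ?_⟩
    have : Finite (σ.generators i).I := (hσ.isFiniteType i).finite
    let v : (σ.generators i).I → Γ(F, f ⁻¹ᵁ U) :=
      fun k => fres M hUi (gval (σ.generators i).π k)
    have : Fintype (σ.generators i).I := Fintype.ofFinite _
    classical
    refine ⟨⟨Finset.univ.image v, eq_top_iff.mpr fun y _ => ?_⟩⟩
    rw [Finset.coe_image, Finset.coe_univ, Set.image_univ]
    exact mem_span_of_generators hB M hM (σ.generators i) hU hUi y

end Groth.Agent.S8303
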