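import Groth.Statements.S8304
import Groth.Agent.SymLib.Affine
import Groth.Agent.RelConeLib.Ring

set_option autoImplicit false
universe u
open CategoryTheory CategoryTheory.Limits AlgebraicGeometry Opposite TopologicalSpace
open scoped HomogeneousIdeal
noncomputable section
open EGA2

namespace Groth.Agent.S8304

/-- At the level of graded algebras: let E be a quasi-coherent O_Y-module and 𝒮 = Sym(E) its graded
symmetric algebra (j : E → 𝒮 landing in degree one), and let Ŝ = 𝒮[z] be given through a graded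
homomorphism ι : 𝒮 → Ŝ and a global section z of degree one with 𝒮(U)[X] → Ŝ(U), X ↦ z, bijective
over every affine open U. If k : O_Y → Ŝ is a module homomorphism sending the unit section to z over
every open, then Ŝ together with the map E ⊕ O_Y → Ŝ whose components are j followed by ι, and k, is
the graded symmetric algebra of E ⊕ O_Y. Consequently the projective cone of V(E) = Spec(Sym E),
which is Proj(Ŝ), is the projective bundle P(E ⊕ O_Y), and its locus at infinity Proj(𝒮) is P(E). -/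
theorem result {Y : Scheme.{u}} (E : Y.Modules) (hE : Coh.IsQCoh E)
    (𝒮 𝒮h : RelProj.QCGrAlg Y) (j : E ⟶ 𝒮.toModule) (hS : RelProj.IsGrSymAlg E 𝒮 j)
    (ι : 𝒮.toQCAlg ⟶ 𝒮h.toQCAlg) (z : 𝒮h.presheaf.obj (op ⊤)) (hz : RelCone.IsPolyOver 𝒮 𝒮h ι z)
    (k : Coh.structureModule Y ⟶ 𝒮h.toModule)
    (hk : ∀ U : Y.Opens, (k.app U) (1 : Γ(Y, U)) = RelCone.restrictTop 𝒮h z U) :
    RelProj.IsGrSymAlg (E ⊞ Coh.structureModule Y) 𝒮h
      (biprod.desc (j ≫ RelSpec.QCAlg.Hom.toModuleMap ι) k) := by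
  haveI : E.IsQuasicoherent := hE
  set b : E ⊞ Coh.structureModule Y ⟶ 𝒮h.toModule := biprod.desc (j ≫ RelSpec.QCAlg.Hom.toModuleMap ι) k with hb
  have hfst : ∀ (U : Y.Opens) (e : Γ(E, U)),
      b.app U ((biprod.inl : E ⟶ E ⊞ Coh.structureModule Y).app U e) = (ι.hom.app (op U)).hom (j.app U e) :=
    fun U e => congr(($(biprod.inl_desc (j ≫ RelSpec.QCAlg.Hom.toModuleMap ι) k)).app U e)
  have hsnd : ∀ (U : Y.Opens) (r : Γ(Coh.structureModule Y, U)),
      b.app U ((biprod.inr : Coh.structureModule Y ⟶ E ⊞ Coh.structureModule Y).app U r) = k.app U r :=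
    fun U r => congr(($(biprod.inr_desc (j ≫ RelSpec.QCAlg.Hom.toModuleMap ι) k)).app U r)
  have hk1 : ∀ (U : Y.Opens) (r : Γ(Y, U)),
      k.app U r = (𝒮h.str.app (op U)).hom r * RelCone.restrictTop 𝒮h z U := fun U r => by
    have h := k.app_smul r (1 : Γ(Y, U))
    rw [hk U] at h
    refine (congrArg (k.app U) (mul_one r).symm).trans (h.trans ?_)
    rfl
  refine ⟨fun B φ => ?_, fun U hU x => ?_⟩
  swap
  · have hx : x = (biprod.inl : E ⟶ E ⊞ Coh.structureModule Y).app U
          ((biprod.fst : E ⊞ Coh.structureModule Y ⟶ E).app U x) +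
        (biprod.inr : Coh.structureModule Y ⟶ E ⊞ Coh.structureModule Y).app U
          ((biprod.snd : E ⊞ Coh.structureModule Y ⟶ Coh.structureModule Y).app U x) :=
      congr(($(biprod.total (X := E) (Y := Coh.structureModule Y))).app U x).symm
    rw [hx, map_add, hfst, hsnd, hk1]
    refine add_mem (hz.graded U hU _ _ (hS.2 U hU _)) ?_
    have h2 := SetLike.mul_mem_graded (A := 𝒮h.deg U hU) (𝒮h.str_mem U hU
      ((biprod.snd : E ⊞ Coh.structureModule Y ⟶ Coh.structureModule Y).app U x)) (hz.deg_z U hU)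
    rwa [zero_add] at h2
  obtain ⟨ψ₀, hψ₀, huniq⟩ := hS.1 B (biprod.inl ≫ φ)
  let t : B.presheaf.obj (op ⊤) := (biprod.inr ≫ φ).app ⊤ (1 : Γ(Y, ⊤))
  let tU : ∀ U : Y.Opens, B.presheaf.obj (op U) := fun U => (B.presheaf.map (homOfLE le_top).op).hom t
  have ht : ∀ U : Y.Opens, tU U = (biprod.inr ≫ φ).app U (1 : Γ(Y, U)) := fun U => by
    refine (QCoh.app_res (biprod.inr ≫ φ) (le_top : U ≤ ⊤) (1 : Γ(Y, ⊤))).symm.trans
      (congrArg ((biprod.inr ≫ φ).app U) ?_)
    exact map_one (Y.presheaf.map (homOfLE (le_top : U ≤ ⊤)).op).hom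
  let P : ∀ (U : Y.Opens), IsAffineOpen U → (𝒮h.presheaf.obj (op U) →+* B.presheaf.obj (op U)) := fun U hU =>
    (Polynomial.eval₂RingHom (ψ₀.hom.app (op U)).hom (tU U)).comp
      (RingEquiv.ofBijective _ (hz.bij U hU)).symm.toRingHom
  have hP1 : ∀ U hU a, P U hU ((ι.hom.app (op U)).hom a) = (ψ₀.hom.app (op U)).hom a := fun U hU a => by
    have h : (RingEquiv.ofBijective _ (hz.bij U hU)).symm ((ι.hom.app (op U)).hom a) = Polynomial.C a :=
      (RingEquiv.symm_apply_eq _).2 (Polynomial.eval₂_C _ _).symm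
    refine (congrArg (Polynomial.eval₂RingHom (ψ₀.hom.app (op U)).hom (tU U)) h).trans ?_
    exact Polynomial.eval₂_C _ _
  have hP2 : ∀ U hU, P U hU (RelCone.restrictTop 𝒮h z U) = tU U := fun U hU => by
    have h : (RingEquiv.ofBijective _ (hz.bij U hU)).symm (RelCone.restrictTop 𝒮h z U) = Polynomial.X :=
      (RingEquiv.symm_apply_eq _).2 (Polynomial.eval₂_X _ _).symm
    refine (congrArg (Polynomial.eval₂RingHom (ψ₀.hom.app (op U)).hom (tU U)) h).trans ?_
    exact Polynomial.eval₂_X _ _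
  let η : (Scheme.AffineZariskiSite.toOpensFunctor Y).op ⋙ 𝒮h.presheaf ⟶
      (Scheme.AffineZariskiSite.toOpensFunctor Y).op ⋙ B.presheaf :=
    { app := fun U => CommRingCat.ofHom (P U.unop.1 U.unop.2)
      naturality := fun U V i => by
        have hle : V.unop.1 ≤ U.unop.1 := Scheme.AffineZariskiSite.toOpens_mono i.unop.le
        refine CommRingCat.hom_ext (RelConeLib.hom_ext_poly (hz.bij U.unop.1 U.unop.2) (fun a => ?_) ?_)
        · change P V.unop.1 V.unop.2 ((𝒮h.presheaf.map (homOfLE hle).op).hom _) =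
            (B.presheaf.map (homOfLE hle).op).hom (P U.unop.1 U.unop.2 _)
          rw [hP1 U.unop.1 U.unop.2]
          refine (congrArg (P V.unop.1 V.unop.2) (congr($(ι.hom.naturality (homOfLE hle).op).hom a)).symm).trans ?_
          exact (hP1 V.unop.1 V.unop.2 _).trans (congr($(ψ₀.hom.naturality (homOfLE hle).op).hom a))
        · change P V.unop.1 V.unop.2 ((𝒮h.presheaf.map (homOfLE hle).op).hom _) =
            (B.presheaf.map (homOfLE hle).op).hom (P U.unop.1 U.unop.2 _)
          rw [hP2 U.unop.1 U.unop.2]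
          have h1 : (𝒮h.presheaf.map (homOfLE hle).op).hom (RelCone.restrictTop 𝒮h z U.unop.1) =
              RelCone.restrictTop 𝒮h z V.unop.1 :=
            congr($((𝒮h.presheaf.map_comp (homOfLE le_top).op (homOfLE hle).op).symm).hom z)
          refine (congrArg (P V.unop.1 V.unop.2) h1).trans ((hP2 V.unop.1 V.unop.2).trans ?_)
          exact congr($(B.presheaf.map_comp (homOfLE le_top).op (homOfLE hle).op).hom t) }
  let ψ : 𝒮h.toQCAlg ⟶ B := QCAlgLib.homOfSite η fun U => by
    refine CommRingCat.hom_ext (RingHom.ext fun r => ?_)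
    change P U.1 U.2 ((𝒮h.str.app (op U.1)).hom r) = _
    refine (congrArg (P U.1 U.2) (congr($(NatTrans.congr_app ι.comm (op U.1)).hom r)).symm).trans ?_
    exact (hP1 U.1 U.2 _).trans congr($(NatTrans.congr_app ψ₀.comm (op U.1)).hom r)
  have hψ : ∀ U (hU : IsAffineOpen U) a, (ψ.hom.app (op U)).hom a = P U hU a := fun U hU a =>
    congr($(QCAlgLib.homOfSite_app η _ U hU).hom a)
  refine ⟨ψ, ?_, fun ψ' hψ' => ?_⟩
  · refine biprod.hom_ext' _ _ (SymLib.hom_ext_affine fun U hU => ?_) (SymLib.hom_ext_affine fun U hU => ?_)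
    · ext e
      change (ψ.hom.app (op U)).hom (b.app U ((biprod.inl : E ⟶ E ⊞ Coh.structureModule Y).app U e)) = _
      rw [hfst, hψ U hU, hP1 U hU]
      exact congr(($(hψ₀).app U) e)
    · ext r
      change (ψ.hom.app (op U)).hom (b.app U ((biprod.inr : Coh.structureModule Y ⟶ E ⊞ Coh.structureModule Y).app U r)) = _
      rw [hsnd]
      refine (congrArg (ψ.hom.app (op U)).hom (hk1 U r)).trans ?_
      rw [map_mul, hψ U hU (RelCone.restrictTop 𝒮h z U), hP2 U hU]
      refine (congrArg (fun c : B.presheaf.obj (op U) => c * tU U)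
        congr($(NatTrans.congr_app ψ.comm (op U)).hom r)).trans ?_
      change (B.str.app (op U)).hom r * tU U = _
      rw [ht U]
      refine ((biprod.inr ≫ φ).app_smul r (1 : Γ(Y, U))).symm.trans ?_
      exact congrArg ((biprod.inr ≫ φ).app U) (@mul_one Γ(Y, U) _ r)
  · have h0 : ι ≫ ψ' = ψ₀ := huniq _ (SymLib.hom_ext_affine fun U hU => by
      ext e
      change (ψ'.hom.app (op U)).hom ((ι.hom.app (op U)).hom (j.app U e)) = _
      rw [← hfst]
      exact congr(($(hψ').app U) ((biprod.inl : E ⟶ E ⊞ Coh.structureModule Y).app U e)))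
    refine QCAlgLib.hom_ext_affine fun U hU => CommRingCat.hom_ext
      (RelConeLib.hom_ext_poly (hz.bij U hU) (fun a => ?_) ?_)
    · rw [hψ U hU, hP1 U hU]
      exact congr(($h0).hom.app (op U) a)
    · rw [hψ U hU, hP2 U hU, ht U, ← hk U, ← hsnd]
      exact congr(($(hψ').app U) ((biprod.inr : Coh.structureModule Y ⟶ E ⊞ Coh.structureModule Y).app U (1 : Γ(Y, U))))

end Groth.Agent.S8304
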