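import Groth.Statements.S8310
import Groth.Agent.NaturalLib.Tensor
import Groth.Agent.RelProjLib.ProjMap
-- import your own Groth.Agent.* helpers here

set_option autoImplicit false
universe u
open CategoryTheory AlgebraicGeometry
open scoped HomogeneousIdeal
open EGA2

namespace Groth.Agent.S8310

/-- Let S be a positively graded ring (an ℕ-graded R-algebra), S♮ the graded ring with S♮_n = S_[n] =
⊕_{m ≥ n} S_m (presented as a graded ring S' with an injective algebra homomorphism φ : S' → S[X]
carrying S'_n onto S_[n]·X^n), and T = S♮ ⊗_S S_0 = ⊕_n S_[n]/S_+S_[n] (presented as a graded ring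
with a surjective graded homomorphism π : S' → T whose kernel is the ideal generated by the elements
of S' corresponding to the constants in S_+); let ρ : T → S be the surjective graded homomorphism
sending the class of a ∈ S_[n] (in degree n) to the degree-n component of a, and Proj S → Proj T the
morphism it induces (a closed immersion, ρ being surjective). Then this morphism Proj S → Proj T is
bijective. -/
theorem result {R A B C : Type u} [CommRing R] [CommRing A] [Algebra R A]
    (𝒜 : ℕ → Submodule R A) [GradedAlgebra 𝒜] [CommRing B] [Algebra R B] (ℬ : ℕ → Submodule R B) [GradedAlgebra ℬ]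
    (φ : B →ₐ[R] Polynomial A) (hφ : Function.Injective φ)
    (hdeg : ∀ n : ℕ, Submodule.map φ.toLinearMap (ℬ n) =
      Submodule.map ((Polynomial.monomial n : A →ₗ[A] Polynomial A).restrictScalars R) (⨆ (m : ℕ) (_ : n ≤ m), 𝒜 m))
    [CommRing C] [Algebra R C] (𝒞 : ℕ → Submodule R C) [GradedAlgebra 𝒞]
    (π : ℬ →+*ᵍ 𝒞) (hπ : Function.Surjective π)
    (hker : RingHom.ker π.toRingHom =
      Ideal.span (⇑φ ⁻¹' (⇑(Polynomial.C : A →+* Polynomial A) '' ((HomogeneousIdeal.irrelevant 𝒜).toIdeal : Set A))))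
    (ρ : 𝒞 →+*ᵍ 𝒜) (hρ : ∀ (n : ℕ) (b : B), b ∈ ℬ n → ρ (π b) = GradedRing.proj 𝒜 n ((φ b).coeff n))
    (hirr : HomogeneousIdeal.irrelevant 𝒜 ≤ (HomogeneousIdeal.irrelevant 𝒞).map ρ) :
    Function.Bijective (Proj.map ρ hirr).base := by
  have hs : Function.Surjective ρ := NaturalLib.rho_surjective 𝒜 hdeg hρ
  constructor
  · intro x y h
    have h' := congrArg (fun z : ProjectiveSpectrum 𝒞 => z.asHomogeneousIdeal.toIdeal) h
    refine ProjectiveSpectrum.ext (HomogeneousIdeal.toIdeal_injective ?_)
    exact Ideal.comap_injective_of_surjective ρ hs h'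
  · intro q
    have hle : RingHom.ker ρ.toRingHom ≤ q.asHomogeneousIdeal.toIdeal := fun c hc =>
      (nilradical_le_prime (H := q.isPrime) q.asHomogeneousIdeal.toIdeal)
        (NaturalLib.ker_rho_le_nilradical 𝒜 hdeg hφ hπ hker hρ hc)
    have hcm : (q.asHomogeneousIdeal.map ρ).toIdeal.comap ρ = q.asHomogeneousIdeal.toIdeal := by
      rw [HomogeneousIdeal.toIdeal_map]
      refine (Ideal.comap_map_of_surjective ρ.toRingHom hs _).trans (sup_eq_left.2 ?_)
      exact hle
    have hp : (q.asHomogeneousIdeal.map ρ).toIdeal.IsPrime := by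
      rw [HomogeneousIdeal.toIdeal_map]
      exact @Ideal.map_isPrime_of_surjective _ _ _ _ _ _ _ (f := ρ.toRingHom) hs _ q.isPrime hle
    refine ⟨(⟨q.asHomogeneousIdeal.map ρ, hp, fun hirr' => q.not_irrelevant_le ?_⟩ : ProjectiveSpectrum 𝒜),
      ProjectiveSpectrum.ext (HomogeneousIdeal.toIdeal_injective hcm)⟩
    refine (HomogeneousIdeal.irrelevant_le _).2 fun i hi a ha => ?_
    show a ∈ q.asHomogeneousIdeal.toIdeal
    rw [← hcm]
    exact hirr' (HomogeneousIdeal.mem_irrelevant_of_mem _ hi (ρ.2 ha))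

end Groth.Agent.S8310
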