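import Groth.Statements.S8312
import Groth.Agent.NaturalLib.Basic
-- import your own Groth.Agent.* helpers here

set_option autoImplicit false
universe u
open scoped HomogeneousIdeal
open EGA2

namespace Groth.Agent.S8312

/-- Let S be a positively graded ring (an ℕ-graded R-algebra) and S♮ the graded ring with S♮_n = S_[n] =
⊕_{m ≥ n} S_m, presented as a graded ring S' with an injective algebra homomorphism φ : S' → S[X]
carrying S'_n onto S_[n]·X^n; for a homogeneous f ∈ S_d write f♮ for the element of S' with φ(f♮) =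
f·X^d (f placed in degree d of S♮). If (f_α) is a family of homogeneous elements of S of positive
degrees such that every element of the irrelevant ideal S_+ has a positive power in the ideal
generated by the f_α (that is, S_+ is the radical in S_+ of that ideal), then every element of the
irrelevant ideal S'_+ has a positive power in the ideal of S' generated by the f_α♮. -/
theorem result {R A B : Type u} [CommRing R] [CommRing A] [Algebra R A]
    (𝒜 : ℕ → Submodule R A) [GradedAlgebra 𝒜] [CommRing B] [Algebra R B] (ℬ : ℕ → Submodule R B) [GradedAlgebra ℬ]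
    (φ : B →ₐ[R] Polynomial A) (hφ : Function.Injective φ)
    (hdeg : ∀ n : ℕ, Submodule.map φ.toLinearMap (ℬ n) =
      Submodule.map ((Polynomial.monomial n : A →ₗ[A] Polynomial A).restrictScalars R) (⨆ (m : ℕ) (_ : n ≤ m), 𝒜 m))
    {ι : Type u} (d : ι → ℕ) (hd : ∀ a, 0 < d a) (f : ι → A) (hf : ∀ a, f a ∈ 𝒜 (d a))
    (hrad : ∀ g ∈ (HomogeneousIdeal.irrelevant 𝒜).toIdeal, ∃ n : ℕ, 0 < n ∧ g ^ n ∈ Ideal.span (Set.range f))
    (fn : ι → B) (hfn : ∀ a, φ (fn a) = Polynomial.monomial (d a) (f a)) :
    ∀ g ∈ (HomogeneousIdeal.irrelevant ℬ).toIdeal, ∃ n : ℕ, 0 < n ∧ g ^ n ∈ Ideal.span (Set.range fn) := by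
  classical
  intro g hg
  suffices g ∈ (Ideal.span (Set.range fn)).radical by
    obtain ⟨k, hk⟩ := this
    exact ⟨k + 1, k.succ_pos, by rw [pow_succ]; exact Ideal.mul_mem_right _ _ hk⟩
  rw [← DirectSum.sum_support_decompose ℬ g]
  refine sum_mem fun n _ => ?_
  rcases Nat.eq_zero_or_pos n with rfl | hn
  · rw [show (DirectSum.decompose ℬ g 0 : B) = 0 from hg]
    exact zero_mem _
  refine NaturalLib.induction_on_deg 𝒜 hdeg hφ (P := (Ideal.span (Set.range fn)).radical.toAddSubmonoid)
    (SetLike.coe_mem _) fun b' _ m hm a ha _ hb' => ?_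
  obtain ⟨k, -, hk⟩ := hrad a (HomogeneousIdeal.mem_irrelevant_of_mem 𝒜 (hn.trans_le hm) ha)
  obtain ⟨c, hc⟩ := Finsupp.mem_ideal_span_range_iff_exists_finsupp.1 hk
  let D := c.support.sup d
  refine ⟨k + D, ?_⟩
  let c' : ι → A := fun i => if d i ≤ k • m then (DirectSum.decompose 𝒜 (c i) (k • m - d i) : A) else 0
  have hak : a ^ (k + D) = ∑ i ∈ c.support, (a ^ D * c' i) * f i := by
    have h1 : a ^ k = ∑ i ∈ c.support, c' i * f i := by
      have hkm := SetLike.pow_mem_graded k ha
      conv_lhs => rw [← DirectSum.decompose_of_mem_same 𝒜 hkm, ← hc, Finsupp.sum, DirectSum.decompose_sum,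
        DFinsupp.finsetSum_apply, AddSubmonoidClass.coe_finsetSum]
      refine Finset.sum_congr rfl fun i _ => ?_
      simp only [c']
      split_ifs with hle
      · exact DirectSum.coe_decompose_mul_of_right_mem_of_le 𝒜 (hf i) hle
      · rw [DirectSum.coe_decompose_mul_of_right_mem_of_not_le 𝒜 (hf i) hle, zero_mul]
    rw [pow_add, h1, Finset.sum_mul]
    exact Finset.sum_congr rfl fun i _ => by ring
  have hmem : ∀ i ∈ c.support, d i ≤ n * (k + D) ∧ a ^ D * c' i ∈ NaturalLib.F 𝒜 (n * (k + D) - d i) := by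
    intro i hi
    have hD : d i ≤ D := Finset.le_sup (f := d) hi
    refine ⟨hD.trans ((Nat.le_add_left D k).trans (Nat.le_mul_of_pos_left _ hn)), ?_⟩
    simp only [c']
    split_ifs with hle
    · refine NaturalLib.deg_le_F 𝒜 ?_ (SetLike.mul_mem_graded (SetLike.pow_mem_graded D ha) (SetLike.coe_mem _))
      rw [smul_eq_mul, smul_eq_mul, ← Nat.add_sub_assoc (by simpa using hle)]
      refine Nat.sub_le_sub_right ?_ _
      calc n * (k + D) ≤ m * (k + D) := Nat.mul_le_mul_right _ hm
        _ = D * m + k * m := by ring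
    · rw [mul_zero]
      exact zero_mem _
  choose β _ hβ using fun (i : c.support) => NaturalLib.exists_deg 𝒜 hdeg (hmem i.1 i.2).2
  have : b' ^ (k + D) = ∑ i : c.support, β i * fn i.1 := hφ (by
    rw [map_pow, hb', Polynomial.monomial_pow, hak, map_sum, map_sum, ← Finset.sum_coe_sort c.support]
    refine Finset.sum_congr rfl fun i _ => ?_
    rw [map_mul φ, hβ i, hfn, Polynomial.monomial_mul_monomial, Nat.sub_add_cancel (hmem i.1 i.2).1])
  rw [this]
  exact sum_mem fun i _ => Ideal.mul_mem_left _ _ (Ideal.subset_span ⟨_, rfl⟩)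

end Groth.Agent.S8312
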