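import Groth.Statements.S8313
import Groth.Agent.Swap65.Exchange
-- import your own Groth.Agent.* helpers here

set_option autoImplicit false
universe u
open CategoryTheory CategoryTheory.Limits AlgebraicGeometry Opposite TopologicalSpace
open scoped HomogeneousIdeal
noncomputable section
open EGA2

open Groth.Agent.Swap65

namespace Groth.Agent.S8313

/-- Let L be an invertible O_Y-module and L' an inverse of L (invertible, with L ⊗ L' isomorphic to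
O_Y). For L form 𝒮 = Sym(L) (graded symmetric algebra, degree-zero part O_Y), the line bundle C =
V(L) = Spec(𝒮) with its vertex (zero) section ε attached to the augmentation, 𝒮[z] (graded
homomorphism ι and degree-one global section z, polynomial over affine opens), the projective
closure Ĉ = Proj(𝒮[z]) with its charts and the canonical open immersion i : C → Ĉ; and likewise 𝒮',
C' = V(L'), ε', 𝒮'[z'], Ĉ', i' for L'. Then there is an isomorphism Φ : Ĉ ≅ Ĉ' of schemes over Y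
which maps the zero section i(ε(Y)) of Ĉ onto the locus at infinity Ĉ' − i'(C') of Ĉ', and the locus
at infinity Ĉ − i(C) of Ĉ onto the zero section i'(ε'(Y)) of Ĉ' (both as subsets; existence of an
isomorphism — the published isomorphism is canonical and identifies the corresponding closed
subschemes). -/
theorem result {Y PC PC' : Scheme.{u}} (L L' : Y.Modules)
    (hL : PicF.IsInvertible L) (hL' : PicF.IsInvertible L') (hLq : Coh.IsQCoh L) (hL'q : Coh.IsQCoh L')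
    (hLL' : Nonempty (CohB1.tensorMod L L' ≅ Coh.structureModule Y))
    (𝒮 𝒮h : RelProj.QCGrAlg Y) (j : L ⟶ 𝒮.toModule) (hS : RelProj.IsGrSymAlg L 𝒮 j)
    (h0 : RelCone.StrZeroBij 𝒮)
    (ι : 𝒮.toQCAlg ⟶ 𝒮h.toQCAlg) (z : 𝒮h.presheaf.obj (op ⊤)) (hz : RelCone.IsPolyOver 𝒮 𝒮h ι z)
    (pC : PC ⟶ Y)
    (chartC : ∀ (U : Y.Opens) (hU : IsAffineOpen U), (((pC ⁻¹ᵁ U : PC.Opens) : Scheme.{u}) ≅ Proj (𝒮h.deg U hU)))
    (hPC : RelProj.IsRelProj 𝒮h pC chartC)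
    (aug : 𝒮.toQCAlg ⟶ RelSpec.QCAlg.unit Y) (haug : RelCone.IsAugmentation 𝒮 aug)
    (ε : Y ⟶ 𝒮.toQCAlg.spec) (hε : RelCone.IsVertex 𝒮 aug ε)
    (i : 𝒮.toQCAlg.spec ⟶ PC) (hi : RelCone.IsConeImm 𝒮 hz pC chartC i)
    (𝒮' 𝒮h' : RelProj.QCGrAlg Y) (j' : L' ⟶ 𝒮'.toModule) (hS' : RelProj.IsGrSymAlg L' 𝒮' j')
    (h0' : RelCone.StrZeroBij 𝒮')
    (ι' : 𝒮'.toQCAlg ⟶ 𝒮h'.toQCAlg) (z' : 𝒮h'.presheaf.obj (op ⊤)) (hz' : RelCone.IsPolyOver 𝒮' 𝒮h' ι' z')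
    (pC' : PC' ⟶ Y)
    (chartC' : ∀ (U : Y.Opens) (hU : IsAffineOpen U), (((pC' ⁻¹ᵁ U : PC'.Opens) : Scheme.{u}) ≅ Proj (𝒮h'.deg U hU)))
    (hPC' : RelProj.IsRelProj 𝒮h' pC' chartC')
    (aug' : 𝒮'.toQCAlg ⟶ RelSpec.QCAlg.unit Y) (haug' : RelCone.IsAugmentation 𝒮' aug')
    (ε' : Y ⟶ 𝒮'.toQCAlg.spec) (hε' : RelCone.IsVertex 𝒮' aug' ε')
    (i' : 𝒮'.toQCAlg.spec ⟶ PC') (hi' : RelCone.IsConeImm 𝒮' hz' pC' chartC' i') :
    ∃ Φ : PC ≅ PC', Φ.hom ≫ pC' = pC ∧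
      Φ.hom.base '' Set.range (ε ≫ i).base = (Set.range i'.base)ᶜ ∧
        Φ.hom.base '' (Set.range i.base)ᶜ = Set.range (ε' ≫ i').base := by
  have : L.IsQuasicoherent := hLq
  have : L'.IsQuasicoherent := hL'q
  obtain ⟨θ⟩ := hLL'
  let F := frSys hL hL' θ
  obtain ⟨Φ, hΦ₀, hΦ⟩ := exists_exchange hS hz hS' hz' hPC hPC' F
  obtain ⟨Ψ, hΨ₀, hΨ⟩ := exists_exchange hS' hz' hS hz hPC' hPC F.symm
  have h1 : Φ ≫ Ψ = 𝟙 PC := by
    refine Scheme.hom_ext_of_forall _ _ fun x => ?_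
    obtain ⟨W, hW, e, e', hx, hP⟩ := F.cover (pC x)
    refine ⟨pC ⁻¹ᵁ W, hx, ?_⟩
    rw [← RelProjLib.chart_hom_emb (chart := chartC) W hW, Category.assoc, Category.assoc,
      reassoc_of% (hΦ W hW e e' hP), hΨ W hW e' e hP, ← Category.assoc (chartMap _ _ _ _ _ _ _),
      chartMap_comp, Category.id_comp, Category.comp_id]
  have h2 : Ψ ≫ Φ = 𝟙 PC' := by
    refine Scheme.hom_ext_of_forall _ _ fun x => ?_
    obtain ⟨W, hW, e, e', hx, hP⟩ := F.cover (pC' x)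
    refine ⟨pC' ⁻¹ᵁ W, hx, ?_⟩
    rw [← RelProjLib.chart_hom_emb (chart := chartC') W hW, Category.assoc, Category.assoc,
      reassoc_of% (hΨ W hW e' e hP), hΦ W hW e e' hP, ← Category.assoc (chartMap _ _ _ _ _ _ _),
      chartMap_comp, Category.id_comp, Category.comp_id]
  let Φ' : PC ≅ PC' := ⟨Φ, Ψ, h1, h2⟩
  have key : ∀ x : PC, (x ∈ Set.range (ε ≫ i).base ↔ Φ x ∈ (Set.range i'.base)ᶜ) ∧
      (x ∈ (Set.range i.base)ᶜ ↔ Φ x ∈ Set.range (ε' ≫ i').base) := by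
    intro x
    obtain ⟨W, hW, e, e', hx, hP⟩ := F.cover (pC x)
    have hx' : x ∈ (RelProj.emb pC chartC W hW).opensRange := by rw [RelProjLib.emb_opensRange]; exact hx
    obtain ⟨y, rfl⟩ := hx'
    rw [← Scheme.Hom.comp_apply, hΦ W hW e e' hP, Scheme.Hom.comp_apply,
      emb_mem_zero_iff hS hz hPC h0 haug hε hi hW (F.gen hP), emb_mem_inf_iff hz hPC hi hW,
      emb_mem_zero_iff hS' hz' hPC' h0' haug' hε' hi' hW (F.gen' hP), emb_mem_inf_iff hz' hPC' hi' hW,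
      mem_chartMap_iff, mem_chartMap_iff, psi_x, psi_z]
    exact ⟨Iff.rfl, Iff.rfl⟩
  have hinv : ∀ x' : PC', Φ (Ψ x') = x' := fun x' => by
    rw [← Scheme.Hom.comp_apply, h2, Scheme.Hom.id_base]
    rfl
  refine ⟨Φ', hΦ₀, ?_, ?_⟩
  · refine Set.ext fun x' => ⟨?_, fun h => ⟨Ψ x', (key _).1.2 (by rwa [hinv]), hinv x'⟩⟩
    rintro ⟨x, hx, rfl⟩
    exact (key x).1.1 hx
  · refine Set.ext fun x' => ⟨?_, fun h => ⟨Ψ x', (key _).2.2 (by rwa [hinv]), hinv x'⟩⟩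
    rintro ⟨x, hx, rfl⟩
    exact (key x).2.1 hx

end Groth.Agent.S8313
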