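import Groth.Statements.S8314
import Groth.Agent.Contr65.Backward
import Groth.Agent.Contr65.Forward
-- import your own Groth.Agent.* helpers here

set_option autoImplicit false
universe u
open CategoryTheory CategoryTheory.Limits AlgebraicGeometry Opposite TopologicalSpace
open scoped HomogeneousIdeal
noncomputable section
open EGA2

namespace Groth.Agent.S8314

/-- Variant with C separated over Y: let p : X → Y be a separated quasi-compact morphism, L an
invertible O_X-module, V = V(L) = Spec(Sym L) the associated line bundle over X (Sym L presented as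
the graded symmetric algebra of L, whose degree-zero part is O_X), j0 : X → V its zero section (the
vertex section of the cone V, attached to the augmentation Sym L → O_X) and V0 the open complement
of j0(X) in V. Then L is ample relative to p if and only if there are a scheme C over Y with
structure morphism g, a section ε : Y → C of g, and a morphism q : V → C over Y (q ≫ g equals the
structure morphism V → X → Y) with g separated, such that j0 ≫ q = p ≫ ε and the restriction of q to
V0 is an open immersion V0 → C whose image does not meet ε(Y). (The open immersion is not required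
to be quasi-compact.) -/
theorem result {X Y : Scheme.{u}} (p : X ⟶ Y) [IsSeparated p] [QuasiCompact p]
    (L : X.Modules) (hL : PicF.IsInvertible L) (hLq : Coh.IsQCoh L) (𝒜 : RelProj.QCGrAlg X) (jL : L ⟶ 𝒜.toModule)
    (hA : RelProj.IsGrSymAlg L 𝒜 jL) (h0 : RelCone.StrZeroBij 𝒜)
    (aug : 𝒜.toQCAlg ⟶ RelSpec.QCAlg.unit X) (haug : RelCone.IsAugmentation 𝒜 aug)
    (j0 : X ⟶ 𝒜.toQCAlg.spec) (hj0 : RelCone.IsVertex 𝒜 aug j0)
    (V0 : 𝒜.toQCAlg.spec.Opens) (hV0 : (V0 : Set 𝒜.toQCAlg.spec) = (Set.range j0.base)ᶜ) :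
    RelAmple.IsRelAmple p L ↔
      ∃ (C : Scheme.{u}) (g : C ⟶ Y) (ε : Y ⟶ C) (q : 𝒜.toQCAlg.spec ⟶ C),
        ε ≫ g = 𝟙 Y ∧ q ≫ g = 𝒜.toQCAlg.π ≫ p ∧ j0 ≫ q = p ≫ ε ∧
          IsSeparated g ∧ IsOpenImmersion (V0.ι ≫ q) ∧
            Set.range (V0.ι ≫ q).base ∩ Set.range ε.base = ∅ := by
  have : L.IsQuasicoherent := hLq
  constructor
  · intro hamp
    obtain ⟨ε, q, hεq⟩ := Contr65.exists_isContr hj0 p
    obtain ⟨h1, h2, h3⟩ := hεq.openImmersion hA haug hV0 hamp
    exact ⟨(Contr65.contrAlg hj0 p).spec, (Contr65.contrAlg hj0 p).π, ε, q, hεq.ε_π, hεq.q_π, hεq.comm, inferInstance, h1, h3⟩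
  · rintro ⟨C, g, ε, q, -, -, hjq, -, hopen, hdisj⟩
    exact Contr65.isRelAmple_of_contraction hA haug hj0 p hL hV0 ε q hjq hopen hdisj

end Groth.Agent.S8314
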