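import Groth.Statements.S8317
import Groth.Agent.DirImgInt65.Basic
-- import your own Groth.Agent.* helpers here

set_option autoImplicit false
universe u
open CategoryTheory CategoryTheory.Limits AlgebraicGeometry Opposite TopologicalSpace
open scoped HomogeneousIdeal
noncomputable section
open EGA2

namespace Groth.Agent.S8317

/-- Let f : X → Y be a separated quasi-compact morphism such that f^♯ : O_Y → f_*O_X is an isomorphism,
L an invertible O_X-module, V = V(L) = Spec(Sym L) its line bundle with projection π : V → X, and C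
= Spec((f∘π)_*O_V) the relative spectrum over Y of the direct-image algebra of f∘π. (The published
statement takes C to be the affine cone Spec(O_Y ⊕ ⊕_{n≥1} f_*(L^{⊗n})); when f^♯ is an isomorphism
that cone is this relative spectrum.) Then: if X is integral, C is integral; and if X is locally
integral (every point has an integral open neighbourhood) and normal (all local rings integrally
closed domains), then C is normal. -/
theorem result {X Y : Scheme.{u}} (f : X ⟶ Y) [IsSeparated f] [QuasiCompact f]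
    (hlam : IsIso f.c) (L : X.Modules) (hL : PicF.IsInvertible L) (hLq : Coh.IsQCoh L)
    (𝒜 : RelSpec.QCAlg X) (jL : L ⟶ 𝒜.toModule) (hA : RelSpec.IsSymAlg L 𝒜 jL) :
    (IsIntegral X → IsIntegral (RelSpec.QCAlg.directImage (𝒜.π ≫ f)).spec) ∧
      ((∀ x : X, ∃ U : X.Opens, x ∈ U ∧ IsIntegral (U : Scheme.{u})) → Pi1.IsNormalScheme X →
        Pi1.IsNormalScheme (RelSpec.QCAlg.directImage (𝒜.π ≫ f)).spec) := by
  have : L.IsQuasicoherent := hLq
  let A := RelSpec.QCAlg.directImage (𝒜.π ≫ f)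
  refine ⟨fun hX => ?_, fun hint hX => ?_⟩
  · have := DirImgInt65.isIntegral_bundle hA hL
    refine DirImgInt65.isIntegral_spec A (fun U => Nonempty ((𝒜.π ≫ f) ⁻¹ᵁ U : 𝒜.spec.Opens).toScheme) ?_ ?_ ?_ ?_
    · intro z
      obtain ⟨U, hU, hzU, -⟩ := exists_isAffineOpen_mem_and_subset (X := Y) (x := A.π z) (U := ⊤) trivial
      refine ⟨U, hU, ?_, hzU⟩
      by_contra hne
      rw [not_nonempty_iff] at hne
      have h0 : (𝒜.π ≫ f) ⁻¹ᵁ U = ⊥ := eq_bot_iff.2 fun x hx => (hne.false ⟨x, hx⟩).elim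
      have : Subsingleton Γ(𝒜.spec, (𝒜.π ≫ f) ⁻¹ᵁ U) := by rw [h0]; infer_instance
      obtain ⟨P, -⟩ := RelSpecLib.exists_ι_apply_eq A z U hU hzU
      have : Subsingleton (A.presheaf.obj (op U) : Type u) := this
      exact (P : PrimeSpectrum (A.presheaf.obj (op U) : Type u)).isPrime.ne_top (Subsingleton.elim _ _)
    · intro U _ hne
      have := hne
      exact IsIntegral.component_integral _
    · intro U U' _ _ hne hne'
      obtain ⟨⟨x, hx⟩⟩ := hne
      obtain ⟨⟨x', hx'⟩⟩ := hne'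
      obtain ⟨w, hw⟩ := nonempty_preirreducible_inter ((𝒜.π ≫ f) ⁻¹ᵁ U).2 ((𝒜.π ≫ f) ⁻¹ᵁ U').2 ⟨x, hx⟩ ⟨x', hx'⟩
      obtain ⟨W, hW, hwW, hWU⟩ := exists_isAffineOpen_mem_and_subset (X := Y) (x := (𝒜.π ≫ f) w) (U := U ⊓ U') hw
      replace hWU : W ≤ U ⊓ U' := hWU
      have hn : Nonempty ((𝒜.π ≫ f) ⁻¹ᵁ W : 𝒜.spec.Opens).toScheme := ⟨⟨w, hwW⟩⟩
      exact ⟨W, hW, hn, hWU.trans inf_le_left, hWU.trans inf_le_right,
        map_injective_of_isIntegral 𝒜.spec (homOfLE ((𝒜.π ≫ f).preimage_mono (hWU.trans inf_le_left))) (H := hn),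
        map_injective_of_isIntegral 𝒜.spec (homOfLE ((𝒜.π ≫ f).preimage_mono (hWU.trans inf_le_right))) (H := hn)⟩
    · obtain ⟨z⟩ := (inferInstance : Nonempty 𝒜.spec)
      obtain ⟨U, hU, hzU, -⟩ := exists_isAffineOpen_mem_and_subset (X := Y) (x := (𝒜.π ≫ f) z) (U := ⊤) trivial
      exact ⟨U, hU, ⟨⟨z, hzU⟩⟩⟩
  · obtain ⟨hVn, hVi⟩ := DirImgInt65.normal_bundle hA hL hint hX
    refine DirImgInt65.isNormal_spec A fun z => ?_
    obtain ⟨U, hU, hzU, -⟩ := exists_isAffineOpen_mem_and_subset (X := Y) (x := A.π z) (U := ⊤) trivial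
    refine ⟨U, hU, hzU, ?_⟩
    let O := (𝒜.π ≫ f) ⁻¹ᵁ U
    have : CompactSpace O.toScheme :=
      isCompact_iff_compactSpace.1 ((𝒜.π ≫ f).isCompact_preimage hU.isCompact)
    refine EGA4Lib.isNormalRing_of_ringEquiv O.topIso.commRingCatIsoToRingEquiv
      (DirImgInt65.isNormalRing_sections O.toScheme (fun y => ?_) fun y => ?_)
    · obtain ⟨V, hyV, hV⟩ := hVi (O.ι y)
      have : IsIntegral V.toScheme := hV
      refine ⟨O.ι ⁻¹ᵁ V, hyV, ?_⟩
      have : Nonempty (O.ι ⁻¹ᵁ V).toScheme := ⟨⟨y, hyV⟩⟩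
      exact isIntegral_of_isOpenImmersion (O.ι ∣_ V)
    · have := (hVn (O.ι y)).1
      have := (hVn (O.ι y)).2
      let e := (asIso (O.ι.stalkMap y)).commRingCatIsoToRingEquiv
      exact ⟨e.symm.toMulEquiv.isDomain, IsIntegrallyClosed.of_equiv e⟩

end Groth.Agent.S8317
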