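import Groth.Statements.S8319
import Groth.Agent.Contr65.Transfer
-- import your own Groth.Agent.* helpers here

set_option autoImplicit false
universe u
open CategoryTheory CategoryTheory.Limits AlgebraicGeometry Opposite TopologicalSpace
open scoped HomogeneousIdeal
noncomputable section
open EGA2

namespace Groth.Agent.S8319

/-- Let p : X → Y be a proper morphism with p^♯ : O_Y → p_*O_X an isomorphism, L an invertible
O_X-module ample relative to p, V = V(L) = Spec(Sym L) with projection π and zero section j0 (the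
vertex section), C a scheme over Y (structure morphism g) with a section ε and a Y-morphism q : V →
C with j0 ≫ q = p ≫ ε; let C' = Spec(𝒮') with 𝒮' = ⊕_{n≥0} p_*(L^{⊗n}) = (p∘π)_*O_V (the relative
spectrum over Y of the direct-image algebra of p∘π) and q' : V → C' the canonical Y-morphism (the
one corresponding to the identity of (p∘π)_*O_V under the universal property of the relative
spectrum); suppose moreover that q is proper and that the restriction of q to V0 = V − j0(X) is an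
open immersion whose image is exactly C − ε(Y). Then every morphism u : C' → C over Y with q = q' ≫
u is universally closed, surjective and radicial (universally injective), and its restriction to the
open complement of q'(j0(X)) — the vertex section of C' — is an open immersion whose image is
exactly C − ε(Y). -/
theorem result {X Y C : Scheme.{u}} (p : X ⟶ Y) [IsProper p] (hθ : IsIso p.c)
    (L : X.Modules) (hL : PicF.IsInvertible L) (hLq : Coh.IsQCoh L) (hamp : RelAmple.IsRelAmple p L)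
    (𝒜 : RelProj.QCGrAlg X) (jL : L ⟶ 𝒜.toModule) (hA : RelProj.IsGrSymAlg L 𝒜 jL) (h0 : RelCone.StrZeroBij 𝒜)
    (aug : 𝒜.toQCAlg ⟶ RelSpec.QCAlg.unit X) (haug : RelCone.IsAugmentation 𝒜 aug)
    (j0 : X ⟶ 𝒜.toQCAlg.spec) (hj0 : RelCone.IsVertex 𝒜 aug j0)
    (g : C ⟶ Y) (ε : Y ⟶ C) (hε : ε ≫ g = 𝟙 Y) (q : 𝒜.toQCAlg.spec ⟶ C)
    (hqg : q ≫ g = 𝒜.toQCAlg.π ≫ p) (hjq : j0 ≫ q = p ≫ ε)
    (q' : 𝒜.toQCAlg.spec ⟶ (RelSpec.QCAlg.directImage (𝒜.toQCAlg.π ≫ p)).spec)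
    (hq'π : q' ≫ (RelSpec.QCAlg.directImage (𝒜.toQCAlg.π ≫ p)).π = 𝒜.toQCAlg.π ≫ p)
    (hq' : AffAlg.algHom (RelSpec.QCAlg.directImage (𝒜.toQCAlg.π ≫ p)).π (𝒜.toQCAlg.π ≫ p) q' hq'π = (RelSpec.QCAlg.directImage (𝒜.toQCAlg.π ≫ p)).gammaMap)
    [IsProper q] (V0 : 𝒜.toQCAlg.spec.Opens) (hV0 : (V0 : Set 𝒜.toQCAlg.spec) = (Set.range j0.base)ᶜ)
    (hqo : IsOpenImmersion (V0.ι ≫ q)) (hqr : Set.range (V0.ι ≫ q).base = (Set.range ε.base)ᶜ)
    (u : (RelSpec.QCAlg.directImage (𝒜.toQCAlg.π ≫ p)).spec ⟶ C) (hug : u ≫ g = (RelSpec.QCAlg.directImage (𝒜.toQCAlg.π ≫ p)).π) (hu : q' ≫ u = q) :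
    UniversallyClosed u ∧ Function.Surjective u.base ∧ UniversallyInjective u ∧
      ∀ W : (RelSpec.QCAlg.directImage (𝒜.toQCAlg.π ≫ p)).spec.Opens, (W : Set (RelSpec.QCAlg.directImage (𝒜.toQCAlg.π ≫ p)).spec) = (q'.base '' Set.range j0.base)ᶜ →
        IsOpenImmersion (W.ι ≫ u) ∧ Set.range (W.ι ≫ u).base = (Set.range ε.base)ᶜ := by
  have : L.IsQuasicoherent := hLq
  obtain ⟨ε₀, q₀, hεq⟩ := Contr65.exists_isContr hj0 p
  have := Contr65.isIso_cmp (hj0 := hj0) (p := p) hθ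
  have hc := Contr65.comp_cmp hεq q' hq'π hq'
  let e := Contr65.cmp (hj0 := hj0) (p := p)
  obtain ⟨u₀, rfl⟩ : ∃ u₀, u = e ≫ u₀ := ⟨inv e ≫ u, (IsIso.hom_inv_id_assoc e u).symm⟩
  have hu₀ : q₀ ≫ u₀ = q := by rw [← hc, Category.assoc]; exact hu
  have hu₀g : u₀ ≫ g = (Contr65.contrAlg hj0 p).π := by
    rw [← cancel_epi e, ← Category.assoc, hug]
    exact (Contr65.cmp_π (hj0 := hj0) (p := p)).symm
  obtain ⟨h1, h2, h3, h4, h5⟩ := hεq.factor_props hA haug hθ hV0 hamp ε q hjq u₀ hu₀ hqo hqr g hu₀g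
  have hinj : UniversallyInjective (e ≫ u₀) := MorphismProperty.comp_mem _ _ _ inferInstance h5
  refine ⟨inferInstance, h2.comp e.homeomorph.surjective, hinj, fun W hW => ?_⟩
  obtain ⟨ho, -, -⟩ := hεq.openImmersion hA haug hV0 hamp
  have hp := Contr65.surjective_p hθ
  have hr : Set.range (W.ι ≫ e).base = Set.range (V0.ι ≫ q₀).base := by
    rw [hεq.range_eq hA haug hV0 hamp]
    ext c
    constructor
    · rintro ⟨w, rfl⟩ ⟨y, hy⟩
      obtain ⟨x, rfl⟩ := hp y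
      refine hW.le w.2 ⟨j0 x, ⟨x, rfl⟩, e.homeomorph.injective ?_⟩
      exact (congr($(hc) (j0 x))).trans ((congr($(hεq.comm) x)).trans hy)
    · intro hc'
      refine ⟨⟨e.homeomorph.symm c, hW.ge ?_⟩, e.homeomorph.apply_symm_apply c⟩
      rintro ⟨v, ⟨x, rfl⟩, hv⟩
      refine hc' ⟨p x, ?_⟩
      have h6 := congrArg e hv
      rw [show e (e.homeomorph.symm c) = c from e.homeomorph.apply_symm_apply c] at h6
      exact ((congr($(hc) (j0 x))).trans (congr($(hεq.comm) x))).symm.trans h6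
  let k := IsOpenImmersion.lift (V0.ι ≫ q₀) (W.ι ≫ e) hr.le
  have hk : k ≫ V0.ι ≫ q₀ = W.ι ≫ e := IsOpenImmersion.lift_fac _ _ _
  have heq : W.ι ≫ e ≫ u₀ = k ≫ V0.ι ≫ q := by rw [← reassoc_of% hk, hu₀]
  have : IsOpenImmersion (k ≫ V0.ι ≫ q₀) := by rw [hk]; infer_instance
  have : IsOpenImmersion k := IsOpenImmersion.of_comp k (V0.ι ≫ q₀)
  have hks : Function.Surjective k.base := fun v => by
    obtain ⟨w, hw⟩ := hr.ge ⟨v, rfl⟩
    exact ⟨w, ho.base_open.injective ((congr($(hk) w)).trans hw)⟩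
  refine ⟨by rw [heq]; infer_instance, ?_⟩
  rw [← hqr, heq]
  refine Set.Subset.antisymm ?_ ?_
  · rintro _ ⟨w, rfl⟩
    exact ⟨k w, rfl⟩
  · rintro _ ⟨v, rfl⟩
    obtain ⟨w, rfl⟩ := hks v
    exact ⟨w, rfl⟩

end Groth.Agent.S8319
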