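import Groth.Statements.S8333
import Groth.Agent.ProjBundleLib.TwistPow
-- import your own Groth.Agent.* helpers here

set_option autoImplicit false
universe u
open CategoryTheory CategoryTheory.Limits AlgebraicGeometry Opposite TopologicalSpace
open scoped HomogeneousIdeal
noncomputable section
open EGA2

namespace Groth.Agent.S8333

/-- Let Y be a scheme with quasi-compact underlying space, 𝒮 a quasi-coherent positively graded
O_Y-algebra generated by 𝒮_1 with 𝒮_1 of finite type, p : P = Proj(𝒮) → Y, and F a quasi-coherent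
O_P-module of finite type. Then there is n₀ such that for all n ≥ n₀ the canonical morphism
p^*(p_*(F(n))) → F(n) is an epimorphism, where F(n) = F ⊗ O_P(n) with O_P(n) given through its
chartwise identifications. -/
theorem result {Y P : Scheme.{u}} (𝒮 : RelProj.QCGrAlg Y) (p : P ⟶ Y)
    (chart : ∀ (U : Y.Opens) (hU : IsAffineOpen U), (((p ⁻¹ᵁ U : P.Opens) : Scheme.{u}) ≅ Proj (𝒮.deg U hU)))
    (hP : RelProj.IsRelProj 𝒮 p chart) [CompactSpace Y] (hgen : 𝒮.IsGenDegOne)
    (hft : 𝒮.IsFTDeg 1) (F : P.Modules) (hFq : Coh.IsQCoh F) (hFt : CohB1.IsFT F) :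
    ∃ n₀ : ℤ, ∀ (n : ℤ), n₀ ≤ n → ∀ (L : P.Modules)
      (lam : ∀ (U : Y.Opens) (hU : IsAffineOpen U),
      L ⟶ (Scheme.Modules.pushforward (RelProj.emb p chart U hU)).obj (GrTwist.twist (𝒮.deg U hU) n)),
      RelProj.IsRelTwist 𝒮 p chart n L lam →
        Epi ((Scheme.Modules.pullbackPushforwardAdjunction p).counit.app (CohB1.tensorMod F L)) := by
  obtain ⟨O1, lam1, hO1⟩ := RelTildeLib.exists_isRelTwist hP 1
  obtain ⟨hI, hA, hp⟩ := ProjBundleLib.isRelAmple_twist_one hP hgen hft hO1
  obtain ⟨N, hN⟩ := ProjBundleLib.eventually_epi_counit hI hA hFq hFt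
  refine ⟨(N : ℤ) + 1, fun n hn L lam hL => ?_⟩
  obtain ⟨k, rfl⟩ : ∃ k : ℕ, n = (k : ℤ) + 1 := ⟨(n - 1).toNat, by omega⟩
  obtain ⟨φ⟩ := ProjBundleLib.nonempty_twist_pow hP hgen hO1 k _ rfl L lam hL
  let e := ProjTwist.tensCongr (Iso.refl F) φ
  have h := hN (k + 1) (by omega)
  have hnat := (Scheme.Modules.pullbackPushforwardAdjunction p).counit.naturality e.hom
  have : Epi ((Scheme.Modules.pushforward p ⋙ Scheme.Modules.pullback p).map e.hom ≫
      (Scheme.Modules.pullbackPushforwardAdjunction p).counit.app (CohB1.tensorMod F L)) := by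
    rw [hnat]
    exact epi_comp' h inferInstance
  exact epi_of_epi ((Scheme.Modules.pushforward p ⋙ Scheme.Modules.pullback p).map e.hom) _

end Groth.Agent.S8333
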