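import Groth.Statements.S8334
import Groth.Agent.ProjBundleLib.TwistPow
-- import your own Groth.Agent.* helpers here

set_option autoImplicit false
universe u
open CategoryTheory CategoryTheory.Limits AlgebraicGeometry Opposite TopologicalSpace
open scoped HomogeneousIdeal
noncomputable section
open EGA2

namespace Groth.Agent.S8334

/-- Let Y be a quasi-compact separated scheme, or a scheme with Noetherian underlying space, 𝒮 a
quasi-coherent positively graded O_Y-algebra generated by 𝒮_1 with 𝒮_1 of finite type, p : P =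
Proj(𝒮) → Y, and F a quasi-coherent O_P-module of finite type. Then there is n₀ such that for every
n ≥ n₀, F is a quotient of (p^*G)(−n) = p^*(G) ⊗ O_P(−n) for some quasi-coherent O_Y-module G of
finite type (which may vary with n), O_P(−n) being given through its chartwise identifications. -/
theorem result {Y P : Scheme.{u}} (𝒮 : RelProj.QCGrAlg Y) (p : P ⟶ Y)
    (chart : ∀ (U : Y.Opens) (hU : IsAffineOpen U), (((p ⁻¹ᵁ U : P.Opens) : Scheme.{u}) ≅ Proj (𝒮.deg U hU)))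
    (hP : RelProj.IsRelProj 𝒮 p chart)
    (hY : (CompactSpace Y ∧ Y.IsSeparated) ∨ NoetherianSpace Y) (hgen : 𝒮.IsGenDegOne)
    (hft : 𝒮.IsFTDeg 1) (F : P.Modules) (hFq : Coh.IsQCoh F) (hFt : CohB1.IsFT F) :
    ∃ n₀ : ℤ, ∀ (n : ℤ), n₀ ≤ n → ∀ (L : P.Modules)
      (lam : ∀ (U : Y.Opens) (hU : IsAffineOpen U),
      L ⟶ (Scheme.Modules.pushforward (RelProj.emb p chart U hU)).obj (GrTwist.twist (𝒮.deg U hU) (-n))),
      RelProj.IsRelTwist 𝒮 p chart (-n) L lam →
        ∃ (G : Y.Modules) (π : CohB1.tensorMod ((Scheme.Modules.pullback p).obj G) L ⟶ F),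
          Coh.IsQCoh G ∧ CohB1.IsFT G ∧ Epi π := by
  obtain ⟨_, _⟩ := ProjBundleLib.qcqs_of_or hY
  obtain ⟨O1, lam1, hO1⟩ := RelTildeLib.exists_isRelTwist hP 1
  obtain ⟨hI, hA, hp⟩ := ProjBundleLib.isRelAmple_twist_one hP hgen hft hO1
  obtain ⟨N, hN⟩ := ProjBundleLib.eventually_epi_counit hI hA hFq hFt
  refine ⟨(N : ℤ) + 1, fun n hn L lam hL => ?_⟩
  obtain ⟨k, rfl⟩ : ∃ k : ℕ, n = (k : ℤ) + 1 := ⟨(n - 1).toNat, by omega⟩
  obtain ⟨On, lamn, hOn⟩ := RelTildeLib.exists_isRelTwist hP ((k : ℤ) + 1)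
  obtain ⟨φ⟩ := ProjBundleLib.nonempty_twist_pow hP hgen hO1 k _ rfl On lamn hOn
  obtain ⟨O0, lam0, hO0⟩ := RelTildeLib.exists_isRelTwist hP (((k : ℤ) + 1) + -((k : ℤ) + 1))
  obtain ⟨μ⟩ := RelTildeLib.nonempty_tensor_iso hP hgen hOn hL hO0
  have hz : ∀ (j : ℤ) (M : P.Modules) (lamM : ∀ (U : Y.Opens) (hU : IsAffineOpen U),
      M ⟶ (Scheme.Modules.pushforward (RelProj.emb p chart U hU)).obj (GrTwist.twist (𝒮.deg U hU) j)),
      j = 0 → RelProj.IsRelTwist 𝒮 p chart j M lamM → Nonempty (M ≅ Coh.structureModule P) := by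
    rintro j M lamM rfl hM
    exact ProjBundleLib.nonempty_twist_zero hP hgen hM
  obtain ⟨ν⟩ := hz _ O0 lam0 (by omega) hO0
  have hLI : PicF.IsInvertible L := GrModLib.isInvertible_relTwist hgen hL
  have hIk := AmpleLib.isInvertible_tensorPow hI (k + 1)
  have := ProjTwist.isQCoh_of_isInvertible hIk
  have : F.IsQuasicoherent := hFq
  have : F.IsFiniteType := hFt
  have : (CohB1.tensorPow O1 (k + 1)).IsFiniteType := ZeroSchemeLib.isFiniteType_of_isInvertible hIk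
  have : (CohB1.tensorMod F (CohB1.tensorPow O1 (k + 1))).IsQuasicoherent :=
    LimTop.TensorQC.isQuasicoherent_tensM F (CohB1.tensorPow O1 (k + 1))
  have : (KFlat.StalkTensor.tensM F (CohB1.tensorPow O1 (k + 1))).IsQuasicoherent :=
    LimTop.TensorQC.isQuasicoherent_tensM F (CohB1.tensorPow O1 (k + 1))
  obtain ⟨G, ψ, hGq, hGft, hψ⟩ := ProjBundleLib.exists_ft_epi
    (LimTop.TensorQC.isFT_tensM (F := F) (G := CohB1.tensorPow O1 (k + 1))) (hN (k + 1) (by omega))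
  obtain ⟨q', hq'⟩ := ProjBundleLib.exists_epi_tensor hLI ψ
  let e := ProjTwist.tensAssoc F (CohB1.tensorPow O1 (k + 1)) L ≪≫
    ProjTwist.tensCongr (Iso.refl F) (ProjTwist.tensCongr φ (Iso.refl L) ≪≫ μ ≪≫ ν) ≪≫ ProjTwist.tensOne F
  exact ⟨G, q' ≫ e.hom, hGq, hGft, epi_comp' hq' inferInstance⟩

end Groth.Agent.S8334
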