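import Groth.Statements.S8342
import Groth.Agent.RelTildeLib.TwistXf
import Groth.Agent.GrModLib.RelTwistLoc

set_option autoImplicit false
universe u
open CategoryTheory CategoryTheory.Limits AlgebraicGeometry Opposite TopologicalSpace
open scoped HomogeneousIdeal
noncomputable section
open EGA2

namespace Groth.Agent.S8342

/-- Let 𝒮 be a quasi-coherent positively graded O_Y-algebra generated by 𝒮_1, P = Proj(𝒮), and f a
global section of 𝒮 of degree d > 0. Then the open X_f (chartwise D_+(f|U)) is the set of points of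
P where the global section α_d(f) of the invertible module O_P(d) does not vanish — here: X_f equals
the largest open over which the module map O_P → O_P(d) defined by α_d(f) is an isomorphism; O_P(d)
is given through its chartwise identifications and α_d(f) is pinned as the section reading f|U / 1
on every chart. -/
theorem result {Y P : Scheme.{u}} (𝒮 : RelProj.QCGrAlg Y) (p : P ⟶ Y)
    (chart : ∀ (U : Y.Opens) (hU : IsAffineOpen U), (((p ⁻¹ᵁ U : P.Opens) : Scheme.{u}) ≅ Proj (𝒮.deg U hU)))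
    (hP : RelProj.IsRelProj 𝒮 p chart) (hgen : 𝒮.IsGenDegOne) {d : ℕ} (hd : 0 < d)
    (f : 𝒮.presheaf.obj (op ⊤))
    (hf : ∀ (U : Y.Opens) (hU : IsAffineOpen U), (𝒮.presheaf.map (homOfLE le_top).op).hom f ∈ 𝒮.deg U hU d)
    (Xf : P.Opens)
    (hXf : ∀ (U : Y.Opens) (hU : IsAffineOpen U),
      Xf ⊓ p ⁻¹ᵁ U =
        (p ⁻¹ᵁ U).ι ''ᵁ ((chart U hU).hom ⁻¹ᵁ
          Proj.basicOpen (𝒮.deg U hU) ((𝒮.presheaf.map (homOfLE le_top).op).hom f)))
    (L : P.Modules)
    (lam : ∀ (U : Y.Opens) (hU : IsAffineOpen U),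
      L ⟶ (Scheme.Modules.pushforward (RelProj.emb p chart U hU)).obj (GrTwist.twist (𝒮.deg U hU) (d : ℤ)))
    (hL : RelProj.IsRelTwist 𝒮 p chart (d : ℤ) L lam) (s : Coh.structureModule P ⟶ L)
    (hs : ∀ (U : Y.Opens) (hU : IsAffineOpen U) (y : Proj (𝒮.deg U hU)),
      GrTwist.val (V := RelProj.emb p chart U hU ⁻¹ᵁ ⊤)
        ((lam U hU).app ⊤ (s.app ⊤ (show Γ(Coh.structureModule P, ⊤) from (1 : Γ(P, ⊤))))) ⟨y, Set.mem_univ _⟩ =
        Localization.mk ((𝒮.presheaf.map (homOfLE le_top).op).hom f) 1) :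
    Xf = CohB1.genLocus L s := by
  have hval : ∀ (W : P.Opens) (U : Y.Opens) (hU : IsAffineOpen U)
      (y : ProjectiveSpectrum (𝒮.deg U hU)) (hy : (RelProj.emb p chart U hU).base y ∈ W),
      RelTildeLib.tv lam U hU (Props.GenLocus.sec s W) y hy =
        Localization.mk (RelTildeLib.secOn f U) 1 := fun W U hU y hy ↦ by
    rw [← Props.GenLocus.sec_res s (le_top : W ≤ ⊤), RelTildeLib.tv_res]
    exact hs U hU y
  refine le_antisymm (Props.GenLocus.le_genLocus ?_) fun x hx ↦ ?_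
  · refine RelTildeLib.isGen_of_isUnit hL _ fun x hx ↦ ?_
    obtain ⟨U, hU, hxU⟩ := RelTildeLib.exists_affine_mem (p := p) x
    refine ⟨U, hU, Xf ⊓ p ⁻¹ᵁ U, inf_le_left, ⟨hx, hxU⟩, inf_le_right, fun y hy ↦ ?_⟩
    rw [hval, RelTildeLib.isUnit_mk_iff]
    exact (RelTildeLib.emb_mem_Xf_iff hXf hU y).mp hy.1
  · obtain ⟨W, hxW, hW⟩ := (Props.GenLocus.mem_genLocus_iff s x).mp hx
    obtain ⟨U, hU, hxU⟩ := RelTildeLib.exists_affine_mem (p := p) x
    obtain ⟨y, rfl⟩ := RelTildeLib.exists_emb_eq (chart := chart) U hU hxU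
    obtain ⟨g, hg, hgy⟩ := GrModLib.exists_degree_one_of_closure _ (hgen U hU)
      (show ProjectiveSpectrum (𝒮.deg U hU) from y)
    set O : P.Opens := W ⊓ RelProj.emb p chart U hU ''ᵁ Proj.basicOpen (𝒮.deg U hU) g
    obtain ⟨e, he⟩ := RelTildeLib.exists_tv_eq hL hU (W := O) (s := 1)
      (inf_le_right.trans (RelTildeLib.image_le_preimage hU _))
      (GrModLib.pow_mem_deg' hg d) SetLike.GradedOne.one_mem (by simp)
      fun z _ ↦ GrMod.one_nin z
    have hyO : (RelProj.emb p chart U hU).base y ∈ O :=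
      ⟨hxW, (RelTildeLib.mem_image_dPlus_iff g y).mpr hgy⟩
    have hu := RelTildeLib.isUnit_tv_of_isGen hW (inf_le_left : O ≤ W) e y hyO (by
      rw [he y hyO, RelTildeLib.isUnit_mk_iff]
      exact GrModLib.pow_nin hgy d)
    rw [hval, RelTildeLib.isUnit_mk_iff] at hu
    exact (RelTildeLib.emb_mem_Xf_iff hXf hU y).mpr hu

end Groth.Agent.S8342
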