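import Groth.Statements.S8345
import Groth.Agent.ConstrLib.Basic

set_option autoImplicit false
universe u
open ConstrTop

namespace Groth.Agent.S8345

open Set TopologicalSpace Groth.Agent.ConstrLib

open TopologicalSpace in
/-- Suppose X is a topological space that is Noetherian. Then a subset s of X is constructible exactly
when s can be written as the union of finitely many locally closed subsets of X. -/
theorem result {X : Type u} [TopologicalSpace X]
    [NoetherianSpace X] (s : Set X) :
    Topology.IsConstructible s ↔
      ∃ (n : ℕ) (Z : Fin n → Set X), (∀ i, IsLocallyClosed (Z i)) ∧ s = ⋃ i, Z i := by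
  constructor
  · intro hs
    obtain ⟨S, hSf, hSl, rfl⟩ := exists_locallyClosed_cover hs
    obtain ⟨n, Z, -, hZ⟩ := hSf.fin_param
    exact ⟨n, Z, fun i => hSl _ (hZ ▸ mem_range_self i), by rw [← sUnion_range, hZ]⟩
  · rintro ⟨n, Z, hZ, rfl⟩
    exact Topology.IsConstructible.iUnion fun i => isConstructible_of_isLocallyClosed (hZ i)

end Groth.Agent.S8345
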