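import Groth.Statements.S8346
import Groth.Agent.ConstrLib.Basic

set_option autoImplicit false
universe u
open ConstrTop

namespace Groth.Agent.S8346

open Set TopologicalSpace Groth.Agent.ConstrLib

open TopologicalSpace in
/-- Let X be a topological space admitting a basis of open subsets which are retrocompact in X. Then
every locally constructible subset T of X is retrocompact in X. -/
theorem result {X : Type u} [TopologicalSpace X]
    {B : Set (Set X)} (hB : IsTopologicalBasis B) (hBr : ∀ U ∈ B, IsRetrocompact U) {T : Set X}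
    (hT : Topology.IsLocallyConstructible T) : IsRetrocompact T := by
  intro W hW hWo
  choose U hU hUo hTU using hT
  choose b hb hxb hbU using fun x => hB.exists_subset_of_mem_open (mem_of_mem_nhds (hU x)) (hUo x)
  obtain ⟨t, ht⟩ := hW.elim_finite_subcover b (fun x => hB.isOpen (hb x))
    fun x _ => mem_iUnion.2 ⟨x, hxb x⟩
  have key : T ∩ W = ⋃ x ∈ t, T ∩ (W ∩ b x) := by
    ext a
    constructor
    · rintro ⟨haT, haW⟩
      obtain ⟨x, hx, hax⟩ := mem_iUnion₂.1 (ht haW)
      exact mem_iUnion₂.2 ⟨x, hx, haT, haW, hax⟩
    · intro h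
      obtain ⟨x, -, haT, haW, -⟩ := mem_iUnion₂.1 h
      exact ⟨haT, haW⟩
  rw [key]
  refine t.isCompact_biUnion fun x _ => ?_
  have hc : IsCompact (W ∩ b x) := inter_comm W _ ▸ hBr _ (hb x) hW hWo
  have hsub : W ∩ b x ⊆ range (Subtype.val : U x → X) := by
    rw [Subtype.range_coe]; exact inter_subset_right.trans (hbU x)
  have h2 : IsCompact ((Subtype.val : U x → X) ⁻¹' (W ∩ b x)) :=
    Topology.IsInducing.subtypeVal.isCompact_preimage' hc hsub
  have h3 := (isRetrocompact_of_isConstructible (hTU x) h2
    ((hWo.inter (hB.isOpen (hb x))).preimage continuous_subtype_val)).image continuous_subtype_val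
  convert! h3 using 1
  rw [← preimage_inter, image_preimage_eq_of_subset (inter_subset_right.trans hsub)]

end Groth.Agent.S8346
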