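import Groth.Statements.S8348
import Mathlib

set_option autoImplicit false
universe v u
open CategoryTheory CategoryTheory.Limits
open HomAlg3

namespace Groth.Agent.S8348

section
open CategoryTheory CategoryTheory.Limits HomologicalComplex

theorem main {C : Type u} [Category.{v} C] [Abelian C]
    (Q : CochainComplex C ℕ) (hinj : ∀ i : ℕ, Injective (Q.X i)) (hac : ∀ i : ℕ, IsZero (Q.homology (i + 1)))
    (hsplit : ∀ i : ℕ, IsSplitMono (Q.iCycles i)) : Injective Q := by
  have hj : ∀ i : ℕ, (ComplexShape.up ℕ).next i = i + 1 := fun i => by simp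
  let z : ∀ i, ShortComplex C := fun i => ShortComplex.mk (Q.iCycles i) (Q.toCycles i (i + 1)) (by
    rw [← cancel_mono (Q.iCycles (i + 1)), Category.assoc, toCycles_i, iCycles_d, zero_comp])
  have hex : ∀ i, (z i).Exact := fun i =>
    (z i).exact_of_f_is_kernel (KernelFork.IsLimit.ofι _ _
      (fun {W} k hk => Q.liftCycles k (i + 1) (hj i) (by
        rw [← toCycles_i, ← Category.assoc, hk, zero_comp]))
      (fun {W} k hk => Q.liftCycles_i k (i + 1) (hj i) _)
      (fun {W} k hk m hm => by rw [← cancel_mono (Q.iCycles i), Q.liftCycles_i]; exact hm))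
  have hepi : ∀ i, Epi (Q.toCycles i (i + 1)) := fun i =>
    Preadditive.epi_of_isZero_cokernel' _
      (Q.homologyIsCokernel i (i + 1) (by simp)) (hac i)
  let r : ∀ i, Q.X i ⟶ Q.cycles i := fun i => haveI := hsplit i; retraction (Q.iCycles i)
  have hr : ∀ i, Q.iCycles i ≫ r i = 𝟙 _ := fun i => haveI := hsplit i; IsSplitMono.id _
  let sp : ∀ i, (z i).Splitting := fun i =>
    ShortComplex.Splitting.ofExactOfRetraction _ (hex i) (r i) (hr i) (hepi i)
  have hzi : ∀ i, Injective (Q.cycles i) := fun i =>
    Retract.injective (i := hinj i) ⟨Q.iCycles i, r i, hr i⟩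
  refine ⟨fun {A B} g m hm => ?_⟩
  haveI : ∀ i, Mono (m.f i) := fun i => inferInstance
  let v : ∀ i, B.X i ⟶ Q.cycles i := fun i => haveI := hzi i; Injective.factorThru (g.f i ≫ r i) (m.f i)
  have hv : ∀ i, m.f i ≫ v i = g.f i ≫ r i := fun i => haveI := hzi i; Injective.comp_factorThru _ _
  let h : ∀ i, B.X i ⟶ Q.X i := fun i =>
    v i ≫ Q.iCycles i + B.d i (i + 1) ≫ v (i + 1) ≫ (sp i).s
  have hs : ∀ i, (sp i).s ≫ Q.toCycles i (i + 1) = 𝟙 _ := fun i => (sp i).s_g
  have hid : ∀ i, r i ≫ Q.iCycles i + Q.toCycles i (i + 1) ≫ (sp i).s = 𝟙 _ := fun i => (sp i).id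
  have hd : ∀ i, (sp i).s ≫ Q.d i (i + 1) = Q.iCycles (i + 1) := fun i => by
    rw [← toCycles_i, ← Category.assoc, hs i, Category.id_comp]
  refine ⟨{ f := h, comm' := ?_ }, ?_⟩
  · rintro i j (rfl : i + 1 = j)
    simp only [h, Preadditive.add_comp, Preadditive.comp_add, Category.assoc, iCycles_d, comp_zero, hd,
      zero_add]
    rw [← Category.assoc (B.d i (i + 1)) (B.d (i + 1) (i + 1 + 1)), B.d_comp_d, zero_comp, add_zero]
  · ext i
    change m.f i ≫ h i = g.f i
    simp only [h, Preadditive.comp_add]
    rw [← Category.assoc, hv i, ← Category.assoc (m.f i), m.comm i (i + 1), Category.assoc,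
      Category.assoc, ← Category.assoc (m.f (i + 1)), hv (i + 1)]
    simp only [← Category.assoc]
    rw [← g.comm i (i + 1)]
    have : Q.d i (i + 1) ≫ r (i + 1) = Q.toCycles i (i + 1) := by
      rw [← toCycles_i, Category.assoc, hr, Category.comp_id]
    simp only [Category.assoc]
    rw [← Category.assoc (Q.d i (i + 1)), this, ← Preadditive.comp_add, hid i, Category.comp_id]

end

/-- Let C be an abelian category and Q a cochain complex of objects of C in degrees 0, 1, 2, ... such
that every Q^i is injective, every homology object H^i(Q) with i ≥ 1 is zero, and every inclusion of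
the cycles Z^i(Q) into Q^i (i ≥ 0) is a split monomorphism. Then Q is an injective object of the
category of cochain complexes of C indexed by the natural numbers. (The published statement is for
the narrower class of complexes with Z^i(Q) = B^i(Q) for every i ≥ 0, which in degree 0, where there
is no incoming differential, forces Z^0(Q) = 0; this row allows a nonzero Z^0(Q), so that it pairs
with the embedding of an arbitrary complex into such a Q. Such a Q is the direct sum of Z^0(Q)
placed in degree 0 and of the two-term complexes with Z^{i+1}(Q) in degrees i and i+1 and the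
identity as differential, and the published argument carries over with Z^i(Q) in place of B^i(Q) as
the first summand of Q^i.) -/
theorem result {C : Type u} [Category.{v} C] [Abelian C]
    (Q : CochainComplex C ℕ) (hinj : ∀ i : ℕ, Injective (Q.X i)) (hac : ∀ i : ℕ, IsZero (Q.homology (i + 1)))
    (hsplit : ∀ i : ℕ, IsSplitMono (Q.iCycles i)) : Injective Q := by
  exact main Q hinj hac hsplit

end Groth.Agent.S8348
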