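import Groth.Statements.S8349
import Mathlib

set_option autoImplicit false
universe v u
open CategoryTheory CategoryTheory.Limits
open HomAlg3

namespace Groth.Agent.S8349

section
open CategoryTheory CategoryTheory.Limits HomologicalComplex

theorem main {C : Type u} [Category.{v} C] [Abelian C] [EnoughInjectives C] (A : CochainComplex C ℕ) :
    ∃ (Q : CochainComplex C ℕ) (f : A ⟶ Q), Mono f ∧ (∀ i : ℕ, Injective (Q.X i)) ∧
      (∀ i : ℕ, IsZero (Q.homology (i + 1))) ∧ ∀ i : ℕ, IsSplitMono (Q.iCycles i) := by
  let I : ℕ → C := fun i => Injective.under (A.X i)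
  let Q : CochainComplex C ℕ := CochainComplex.of (fun i => I i ⊞ I (i + 1))
    (fun i => biprod.snd ≫ biprod.inl) (fun i => by simp)
  have hQd : ∀ i, Q.d i (i + 1) = biprod.snd ≫ biprod.inl := fun i => by simp [Q]
  let fi : ∀ i, A.X i ⟶ Q.X i := fun i =>
    biprod.lift (Injective.ι (A.X i)) (A.d i (i + 1) ≫ Injective.ι (A.X (i + 1)))
  let f : A ⟶ Q := HomologicalComplex.Hom.mk fi (by
    rintro i j (rfl : i + 1 = j)
    rw [hQd]
    apply biprod.hom_ext
    · simp [fi]
    · simp [fi])
  have hj : ∀ i : ℕ, (ComplexShape.up ℕ).next i = i + 1 := fun i => by simp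
  refine ⟨Q, f, ?_, fun i => inferInstanceAs (Injective (I i ⊞ I (i + 1))), fun i => ?_, fun i => ?_⟩
  · haveI : ∀ i, Mono (f.f i) := fun i =>
      mono_of_mono_fac (show f.f i ≫ (biprod.fst : I i ⊞ I (i + 1) ⟶ I i) = Injective.ι (A.X i) from biprod.lift_fst _ _)
    exact HomologicalComplex.mono_of_mono_f f this
  · rw [← exactAt_iff_isZero_homology, exactAt_iff' (i := i) (k := i + 1 + 1) _ (i + 1) (by simp) (by simp),
      ShortComplex.exact_iff_epi_kernel_lift]
    let t : Q.X (i + 1) ⟶ Q.X i :=
      biprod.lift 0 (biprod.fst : I (i + 1) ⊞ I (i + 1 + 1) ⟶ I (i + 1))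
    have ht : ∀ {W : C} (k : W ⟶ Q.X (i + 1)), k ≫ Q.d (i + 1) (i + 1 + 1) = 0 →
        (k ≫ t) ≫ Q.d i (i + 1) = k := by
      intro W k hk
      rw [hQd] at hk
      rw [hQd]
      have hk' : k ≫ (biprod.snd : I (i + 1) ⊞ I (i + 1 + 1) ⟶ _) = 0 := by
        have := congrArg (· ≫ biprod.fst) hk
        simpa using this
      apply biprod.hom_ext
      · simp [t]
      · simp [hk']
    haveI : IsSplitEpi (kernel.lift (Q.sc' i (i + 1) (i + 1 + 1)).g (Q.sc' i (i + 1) (i + 1 + 1)).f
        (Q.sc' i (i + 1) (i + 1 + 1)).zero) :=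
      IsSplitEpi.mk' ⟨kernel.ι _ ≫ t, by
        rw [← cancel_mono (kernel.ι _), Category.assoc, kernel.lift_ι, Category.id_comp]
        exact ht _ (kernel.condition _)⟩
    infer_instance
  · let r : Q.X i ⟶ Q.cycles i := Q.liftCycles ((biprod.fst : I i ⊞ I (i + 1) ⟶ I i) ≫ biprod.inl)
      (i + 1) (hj i) (by rw [hQd]; simp)
    refine IsSplitMono.mk' ⟨r, ?_⟩
    rw [← cancel_mono (Q.iCycles i), Category.assoc, Q.liftCycles_i, Category.id_comp]
    have hk := Q.iCycles_d i (i + 1)
    rw [hQd] at hk
    have hk' : Q.iCycles i ≫ (biprod.snd : I i ⊞ I (i + 1) ⟶ _) = 0 := by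
      have := congrArg (· ≫ biprod.fst) hk
      simpa using this
    apply biprod.hom_ext
    · simp
    · simp [hk']

end

/-- Let C be an abelian category in which every object embeds in an injective object, and let A be a
cochain complex of objects of C in degrees 0, 1, 2, .... Then there are a cochain complex Q, with
every Q^i injective, H^i(Q) = 0 for every i ≥ 1 and every cycle inclusion Z^i(Q) ⟶ Q^i (i ≥ 0) a
split monomorphism, and a monomorphism of complexes A ⟶ Q. (The published statement asks Z^i(Q) =
B^i(Q) for every i ≥ 0; in degree 0, where there is no incoming differential, this makes Z^0(Q) = 0,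
and then no complex with nonzero degree-0 cycles, for instance a nonzero object placed in degree 0,
embeds in such a Q, because the degree-0 component of a chain map into Q factors through Z^0(Q).
This row asks vanishing homology in positive degrees only; the published construction, which embeds
each A^i in an injective I^i and takes Q^i = I^i ⊕ I^{i+1}, proves that version once an injective
I^0 containing A^0 is used in degree 0 as well.) -/
theorem result {C : Type u} [Category.{v} C] [Abelian C]
    [EnoughInjectives C] (A : CochainComplex C ℕ) :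
    ∃ (Q : CochainComplex C ℕ) (f : A ⟶ Q), Mono f ∧ (∀ i : ℕ, Injective (Q.X i)) ∧
      (∀ i : ℕ, IsZero (Q.homology (i + 1))) ∧ ∀ i : ℕ, IsSplitMono (Q.iCycles i) := by
  exact main A

end Groth.Agent.S8349
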