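import Groth.Statements.S8350
import Mathlib

set_option autoImplicit false
universe v u
open CategoryTheory CategoryTheory.Limits
open HomAlg3

namespace Groth.Agent.S8350

section
open CategoryTheory CategoryTheory.Limits Opposite

variable {C : Type u} [Category.{v} C] [Abelian C]

section Diagram
variable {J : Type} [SmallCategory J] [Finite J] [Quiver.IsThin J]

instance finite_hom (a b : J) : Finite (a ⟶ b) := Finite.of_subsingleton

instance hasProducts_hom (a b : J) : HasProductsOfShape (a ⟶ b) C := inferInstance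

instance hasCoproducts_hom (a b : J) : HasCoproductsOfShape (a ⟶ b) C := inferInstance

lemma enoughInjectives_diagram [EnoughInjectives C] : EnoughInjectives (J ⥤ C) := by
  refine ⟨fun Q => ⟨?_⟩⟩
  let R : J → (J ⥤ C) := fun j => (evaluationRightAdjoint C j).obj (Injective.under (Q.obj j))
  have hR (j : J) : Injective (R j) :=
    Injective.injective_of_adjoint (evaluationAdjunctionLeft C j) (Injective.under (Q.obj j))
  let φ : ∀ j, Q ⟶ R j := fun j => (evaluationAdjunctionLeft C j).homEquiv _ _ (Injective.ι (Q.obj j))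
  refine { J := ∏ᶜ R, f := Pi.lift φ, injective := inferInstance, mono := ?_ }
  have (j : J) : Mono ((Pi.lift φ).app j) := by
    have h : (Pi.lift φ).app j ≫ (((evaluation J C).obj j).map (Pi.π R j) ≫
        (evaluationAdjunctionLeft C j).counit.app (Injective.under (Q.obj j))) = Injective.ι (Q.obj j) := by
      have h1 := (evaluationAdjunctionLeft C j).homEquiv_counit (Q) (Injective.under (Q.obj j)) (φ j)
      simp only [φ, Equiv.symm_apply_apply] at h1
      rw [← Category.assoc]
      refine Eq.trans ?_ h1.symm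
      congr 1
      exact NatTrans.congr_app (Pi.lift_π φ j) j
    exact mono_of_mono_fac h
  exact NatTrans.mono_of_mono_app _

lemma mono_sigma_map {c t : J} {X Y : C} (f : X ⟶ Y) [Mono f] :
    Mono (Limits.Sigma.map (fun _ : c ⟶ t => f)) := by
  by_cases h : Nonempty (c ⟶ t)
  · obtain ⟨h⟩ := h
    haveI : Mono (Limits.Sigma.desc (fun _ : c ⟶ t => 𝟙 X)) := by
      haveI : IsIso (Limits.Sigma.desc (fun _ : c ⟶ t => 𝟙 X)) := by
        refine ⟨Sigma.ι (fun _ : c ⟶ t => X) h, Sigma.hom_ext _ _ fun g => ?_, by simp⟩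
        obtain rfl : g = h := Subsingleton.elim _ _
        simp
      infer_instance
    have w : Limits.Sigma.map (fun _ : c ⟶ t => f) ≫ Limits.Sigma.desc (fun _ : c ⟶ t => 𝟙 Y) =
        Limits.Sigma.desc (fun _ : c ⟶ t => 𝟙 X) ≫ f := Sigma.hom_ext _ _ fun g => by simp
    haveI : Mono (Limits.Sigma.map (fun _ : c ⟶ t => f) ≫ Limits.Sigma.desc (fun _ : c ⟶ t => 𝟙 Y)) := by
      rw [w]; infer_instance
    exact mono_of_mono _ (Limits.Sigma.desc (fun _ : c ⟶ t => 𝟙 Y))
  · have : IsEmpty (c ⟶ t) := ⟨fun x => h ⟨x⟩⟩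
    exact ⟨fun x y _ => IsZero.eq_of_tgt ((IsZero.iff_id_eq_zero _).2
      (Sigma.hom_ext _ _ fun g => isEmptyElim g)) x y⟩

lemma injective_obj (I : J ⥤ C) [Injective I] (c : J) : Injective (I.obj c) := by
  haveI : (evaluationLeftAdjoint C c).PreservesMonomorphisms := by
    refine ⟨fun {X Y} f _ => ?_⟩
    have (t : J) : Mono (((evaluationLeftAdjoint C c).map f).app t) := by
      have e : ((evaluationLeftAdjoint C c).map f).app t = Limits.Sigma.map (fun _ : c ⟶ t => f) :=
        Sigma.hom_ext _ _ fun h => (Sigma.ι_desc _ _).trans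
          (Sigma.ι_map (fun _ : c ⟶ t => f) h).symm
      rw [e]
      exact mono_sigma_map f
    exact NatTrans.mono_of_mono_app _
  exact Injective.injective_of_adjoint (evaluationAdjunctionRight C c) I

lemma exists_section (I : J ⥤ C) [Injective I] {a b : J} (u : a ⟶ b) :
    ∃ s : I.obj b ⟶ I.obj a, s ≫ I.map u = 𝟙 _ := by
  let La : J ⥤ C :=
    { obj := fun t => ∐ fun _ : a ⟶ t => I.obj b
      map := fun f => Sigma.desc fun g => Sigma.ι (fun _ : a ⟶ _ => I.obj b) (g ≫ f) }
  let Lb : J ⥤ C :=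
    { obj := fun t => ∐ fun _ : b ⟶ t => I.obj b
      map := fun f => Sigma.desc fun g => Sigma.ι (fun _ : b ⟶ _ => I.obj b) (g ≫ f) }
  let φ : Lb ⟶ La :=
    { app := fun t => Sigma.desc fun g => Sigma.ι (fun _ : a ⟶ t => I.obj b) (u ≫ g)
      naturality := fun t t' f => Sigma.hom_ext _ _ fun g => by simp [La, Lb] }
  let e : Lb ⟶ I :=
    { app := fun t => Sigma.desc fun g => I.map g
      naturality := fun t t' f => Sigma.hom_ext _ _ fun g => by simp [Lb] }
  have (t : J) : Mono (φ.app t) := by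
    by_cases h : Nonempty (b ⟶ t)
    · obtain ⟨h⟩ := h
      suffices w : φ.app t ≫ Sigma.desc (fun _ : a ⟶ t => Sigma.ι (fun _ : b ⟶ t => I.obj b) h) = 𝟙 _ by
        exact mono_of_mono_fac w
      refine Sigma.hom_ext _ _ fun g => ?_
      have : g = h := Subsingleton.elim _ _
      subst this
      simp [φ, La, Lb]
    · have : IsEmpty (b ⟶ t) := ⟨fun x => h ⟨x⟩⟩
      exact ⟨fun x y _ => IsZero.eq_of_tgt ((IsZero.iff_id_eq_zero _).2
        (Sigma.hom_ext _ _ fun g => isEmptyElim g)) x y⟩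
  have : Mono φ := NatTrans.mono_of_mono_app _
  obtain ⟨ψ, hψ⟩ : ∃ ψ : La ⟶ I, φ ≫ ψ = e := ⟨_, Injective.comp_factorThru e φ⟩
  have h2 := congrArg (fun k : Lb ⟶ I => Sigma.ι (fun _ : b ⟶ b => I.obj b) (𝟙 b) ≫ k.app b)
    hψ
  refine ⟨Sigma.ι (fun _ : a ⟶ a => I.obj b) (𝟙 a) ≫ ψ.app a, ?_⟩
  rw [Category.assoc, ← ψ.naturality]
  simpa [φ, e, La, Lb] using h2

end Diagram

open HomologicalComplex HomologySequence ComposableArrows in
lemma quasiIso_τ₁ {S₁ S₂ : ShortComplex (CochainComplex C ℕ)}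
    (φ : S₁ ⟶ S₂) (hS₁ : S₁.ShortExact) (hS₂ : S₂.ShortExact)
    (h₂ : QuasiIso φ.τ₂) (h₃ : QuasiIso φ.τ₃) : QuasiIso φ.τ₁ := by
  rw [quasiIso_iff] at h₂ h₃ ⊢
  intro j
  simp only [quasiIsoAt_iff_isIso_homologyMap] at h₂ h₃ ⊢
  cases j with
  | succ i =>
    have hij : (ComplexShape.up ℕ).Rel i (i + 1) := rfl
    exact Abelian.isIso_of_epi_of_isIso_of_isIso_of_mono
      (composableArrows₅_exact hS₁ i (i + 1) hij).δ₀
      (composableArrows₅_exact hS₂ i (i + 1) hij).δ₀
      (δ₀Functor.map (mapComposableArrows₅ φ hS₁ hS₂ i (i + 1) hij))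
      (have := h₂ i; IsIso.epi_of_iso (homologyMap φ.τ₂ i))
      (h₃ i) (h₂ (i + 1))
      (have := h₃ (i + 1); IsIso.mono_of_iso (homologyMap φ.τ₃ (i + 1)))
  | zero =>
    haveI := hS₁.mono_f
    haveI := hS₂.mono_f
    haveI : Mono (homologyMap S₁.f 0) := mono_homologyMap_of_mono_of_not_rel S₁.f 0 (by simp)
    haveI : Mono (homologyMap S₂.f 0) := mono_homologyMap_of_mono_of_not_rel S₂.f 0 (by simp)
    haveI := h₂ 0
    haveI := h₃ 0
    have c₁₂ : homologyMap φ.τ₁ 0 ≫ homologyMap S₂.f 0 = homologyMap S₁.f 0 ≫ homologyMap φ.τ₂ 0 := by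
      rw [← homologyMap_comp, ← homologyMap_comp, φ.comm₁₂]
    have c₂₃ : homologyMap φ.τ₂ 0 ≫ homologyMap S₂.g 0 = homologyMap S₁.g 0 ≫ homologyMap φ.τ₃ 0 := by
      rw [← homologyMap_comp, ← homologyMap_comp, φ.comm₂₃]
    have hk : (homologyMap S₂.f 0 ≫ inv (homologyMap φ.τ₂ 0)) ≫ homologyMap S₁.g 0 = 0 := by
      rw [← cancel_mono (homologyMap φ.τ₃ 0), Category.assoc, Category.assoc, ← c₂₃, IsIso.inv_hom_id_assoc,
        ← homologyMap_comp, S₂.zero, homologyMap_zero, zero_comp]
    have hX := hS₁.homology_exact₂ 0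
    haveI : Mono (ShortComplex.mk _ _ (show homologyMap S₁.f 0 ≫ homologyMap S₁.g 0 = 0 by
      rw [← homologyMap_comp, S₁.zero, homologyMap_zero])).f := inferInstanceAs (Mono (homologyMap S₁.f 0))
    refine ⟨hX.lift _ hk, ?_, ?_⟩
    · rw [← cancel_mono (homologyMap S₁.f 0), Category.assoc]
      erw [hX.lift_f]
      rw [← Category.assoc, c₁₂, Category.assoc, IsIso.hom_inv_id, Category.comp_id, Category.id_comp]
    · rw [← cancel_mono (homologyMap S₂.f 0), Category.assoc, c₁₂, ← Category.assoc]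
      erw [hX.lift_f]
      rw [Category.assoc, IsIso.inv_hom_id, Category.comp_id, Category.id_comp]

variable [EnoughInjectives C]

attribute [local instance] enoughInjectives_diagram

theorem main (K : SpSeq.FilObj C) (hK : K.IsFinite) :
    ∃ (X : InjectiveResolution K.obj) (G : ℤ → Subobject X.cocomplex), Antitone G ∧
      (∀ i : ℤ, K.fil i = ⊤ → G i = ⊤) ∧ (∀ i : ℤ, K.fil i = ⊥ → G i = ⊥) ∧
      ∀ i : ℤ, (∀ j : ℕ, Injective ((G i : CochainComplex C ℕ).X j)) ∧
        ∃ ι : (CochainComplex.single₀ C).obj (K.step i) ⟶ (G i : CochainComplex C ℕ),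
          ι ≫ (G i).arrow = (CochainComplex.single₀ C).map (K.fil i).arrow ≫ X.ι ∧ QuasiIso ι := by
  classical
  -- the outer steps are dealt with uniformly
  have top_step : ∀ (X : InjectiveResolution K.obj) (i : ℤ), K.fil i = ⊤ →
      (∀ j : ℕ, Injective (((⊤ : Subobject X.cocomplex) : CochainComplex C ℕ).X j)) ∧
        ∃ ι : (CochainComplex.single₀ C).obj (K.step i) ⟶ ((⊤ : Subobject X.cocomplex) : CochainComplex C ℕ),
          ι ≫ (⊤ : Subobject X.cocomplex).arrow = (CochainComplex.single₀ C).map (K.fil i).arrow ≫ X.ι ∧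
            QuasiIso ι := by
    intro X i hi
    haveI : IsIso (K.fil i).arrow := (Subobject.isIso_arrow_iff_eq_top _).2 hi
    refine ⟨fun j => Injective.of_iso
      ((HomologicalComplex.eval C _ j).mapIso (asIso (⊤ : Subobject X.cocomplex).arrow)).symm (X.injective j),
      ((CochainComplex.single₀ C).map (K.fil i).arrow ≫ X.ι) ≫ inv (⊤ : Subobject X.cocomplex).arrow,
      by simp, inferInstance⟩
  by_cases hz : IsZero K.obj
  · refine ⟨⟨(CochainComplex.single₀ C).obj K.obj, fun n => IsZero.injective ?_, 𝟙 _, inferInstance⟩,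
      fun _ => ⊤, antitone_const, fun _ _ => rfl, fun i _ => ?_, fun i => top_step _ i ?_⟩
    · cases n with
      | zero => exact hz
      | succ n => exact HomologicalComplex.isZero_single_obj_X _ _ _ _ (Nat.succ_ne_zero n)
    · symm
      rw [← Subobject.isIso_arrow_iff_eq_top]
      have hs : IsZero ((CochainComplex.single₀ C).obj K.obj) := Functor.map_isZero _ hz
      exact ⟨0, (IsZero.of_mono (⊥ : Subobject _).arrow hs).eq_of_src _ _, hs.eq_of_src _ _⟩
    · rw [← Subobject.isIso_arrow_iff_eq_top]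
      exact ⟨0, (IsZero.of_mono (K.fil i).arrow hz).eq_of_src _ _, hz.eq_of_src _ _⟩
  obtain ⟨⟨a, ha⟩, b₀, hb₀⟩ := hK
  let b := max a b₀
  have hb : K.fil b = ⊥ := le_bot_iff.1 (hb₀ ▸ K.anti (le_max_right a b₀))
  let P := {z : ℤ // z ∈ Finset.Icc a b}
  let Q : Pᵒᵖ ⥤ C :=
    { obj := fun x => K.quot x.unop.1
      map := fun {x y} u => K.quotMap (leOfHom u.unop)
      map_id := fun x => by rw [← cancel_epi (cokernel.π _), SpSeq.FilObj.quotMap, cokernel.π_desc, Category.comp_id]
      map_comp := fun f g => by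
        rw [← cancel_epi (cokernel.π _)]
        simp [SpSeq.FilObj.quotMap] }
  let R := injectiveResolution Q
  let Z : Pᵒᵖ → CochainComplex C ℕ := fun x =>
    (((evaluation Pᵒᵖ C).obj x).mapHomologicalComplex (ComplexShape.up ℕ)).obj R.cocomplex
  let tr : ∀ {x y : Pᵒᵖ}, (x ⟶ y) → (Z x ⟶ Z y) := fun u =>
    { f := fun n => (R.cocomplex.X n).map u
      comm' := fun i j _ => (R.cocomplex.d i j).naturality u }
  have trc : ∀ {x y z : Pᵒᵖ} (u : x ⟶ y) (v : y ⟶ z), tr u ≫ tr v = tr (u ≫ v) := fun u v => by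
    ext n; exact ((R.cocomplex.X n).map_comp u v).symm
  let cmp : ∀ x : Pᵒᵖ, (CochainComplex.single₀ C).obj (Q.obj x) ⟶ Z x := fun x =>
    (HomologicalComplex.singleMapHomologicalComplex ((evaluation Pᵒᵖ C).obj x) (ComplexShape.up ℕ) 0).inv.app Q ≫
      (((evaluation Pᵒᵖ C).obj x).mapHomologicalComplex (ComplexShape.up ℕ)).map R.ι
  have qcmp : ∀ x, QuasiIso (cmp x) := fun x => by
    haveI : QuasiIso ((((evaluation Pᵒᵖ C).obj x).mapHomologicalComplex (ComplexShape.up ℕ)).map R.ι) :=
      inferInstance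
    exact inferInstanceAs (QuasiIso (_ ≫ _))
  have cnat : ∀ {x y : Pᵒᵖ} (u : x ⟶ y), cmp x ≫ tr u = (CochainComplex.single₀ C).map (Q.map u) ≫ cmp y := by
    intro x y u
    refine HomologicalComplex.from_single_hom_ext ?_
    have h := (R.ι.f 0).naturality u
    simp [cmp, tr, CochainComplex.single₀, HomologicalComplex.single_map_f_self]
    refine (Category.id_comp _).trans (h.symm.trans ?_)
    exact congrArg (Q.map u ≫ ·) (Category.id_comp _).symm
  let t : Pᵒᵖ := op ⟨b, Finset.mem_Icc.2 ⟨le_max_left _ _, le_rfl⟩⟩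
  let toP : ∀ x : Pᵒᵖ, t ⟶ x := fun x => (homOfLE (show x.unop ≤ t.unop from (Finset.mem_Icc.1 x.unop.2).2)).op
  haveI : IsIso (cokernel.π (K.fil b).arrow) := by
    have h : (K.fil b).arrow = 0 := by rw [hb]; exact Subobject.bot_arrow
    exact ⟨cokernel.desc _ (𝟙 _) (by rw [h, zero_comp]), cokernel.π_desc _ _ _,
      (cancel_epi (cokernel.π (K.fil b).arrow)).1 (by rw [cokernel.π_desc_assoc]; simp)⟩
  haveI := qcmp t
  have hinj : ∀ (x : Pᵒᵖ) (n : ℕ), Injective ((Z x).X n) := fun x n => injective_obj (R.cocomplex.X n) x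
  let X : InjectiveResolution K.obj :=
    ⟨Z t, hinj t, (CochainComplex.single₀ C).map (cokernel.π (K.fil b).arrow) ≫ cmp t,
      inferInstanceAs (QuasiIso (_ ≫ _))⟩
  have hXr : ∀ x : Pᵒᵖ, X.ι ≫ tr (toP x) =
      (CochainComplex.single₀ C).map (cokernel.π (K.fil x.unop.1).arrow) ≫ cmp x := fun x => by
    show ((CochainComplex.single₀ C).map (cokernel.π (K.fil b).arrow) ≫ cmp t) ≫ tr (toP x) = _
    rw [Category.assoc, cnat, ← Category.assoc, ← Functor.map_comp]
    congr 2
    exact cokernel.π_desc _ _ _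
  let mid : Pᵒᵖ → Subobject X.cocomplex := fun x => Subobject.mk (kernel.ι (tr (toP x)))
  have mem : ∀ i, K.fil i ≠ ⊤ → K.fil i ≠ ⊥ → i ∈ Finset.Icc a b := fun i h1 h2 => by
    refine Finset.mem_Icc.2 ⟨le_of_lt (not_le.1 fun h => h1 ?_), le_of_lt (not_le.1 fun h => h2 ?_)⟩
    · exact top_le_iff.1 (ha ▸ K.anti h)
    · exact le_bot_iff.1 (hb ▸ K.anti h)
  let G : ℤ → Subobject X.cocomplex := fun i =>
    if h1 : K.fil i = ⊤ then ⊤ else if h2 : K.fil i = ⊥ then ⊥ else mid (op ⟨i, mem i h1 h2⟩)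
  have htb : ∀ i, K.fil i = ⊥ → K.fil i ≠ ⊤ := fun i h h' => hz (by
    haveI : IsIso (⊥ : Subobject K.obj).arrow := (Subobject.isIso_arrow_iff_eq_top _).2 (h.symm.trans h')
    exact (IsZero.of_epi_eq_zero (⊥ : Subobject K.obj).arrow Subobject.bot_arrow))
  refine ⟨X, G, fun i j hij => ?_, fun i h => dif_pos h, fun i h => (dif_neg (htb i h)).trans (dif_pos h),
    fun i => ?_⟩
  · show G j ≤ G i
    by_cases i1 : K.fil i = ⊤
    · simp only [G, dif_pos i1]; exact le_top
    by_cases j2 : K.fil j = ⊥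
    · simp only [G, dif_neg (htb j j2), dif_pos j2]; exact bot_le
    have j1 : K.fil j ≠ ⊤ := fun h => i1 (top_le_iff.1 (h ▸ K.anti hij))
    have i2 : K.fil i ≠ ⊥ := fun h => j2 (le_bot_iff.1 (h ▸ K.anti hij))
    simp only [G, dif_neg i1, dif_neg i2, dif_neg j1, dif_neg j2]
    refine Subobject.mk_le_mk_of_comm (kernel.lift _ (kernel.ι _) ?_) (kernel.lift_ι _ _ _)
    rw [show toP (op ⟨i, mem i i1 i2⟩) = toP (op ⟨j, mem j j1 j2⟩) ≫
      (homOfLE (show (⟨i, mem i i1 i2⟩ : P) ≤ ⟨j, mem j j1 j2⟩ from hij)).op from Subsingleton.elim _ _,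
      ← trc, kernel.condition_assoc, zero_comp]
  · by_cases i1 : K.fil i = ⊤
    · rw [show G i = ⊤ from dif_pos i1]; exact top_step X i i1
    by_cases i2 : K.fil i = ⊥
    · rw [show G i = ⊥ from (dif_neg i1).trans (dif_pos i2)]
      have z1 : IsZero ((⊥ : Subobject X.cocomplex) : CochainComplex C ℕ) :=
        IsZero.of_mono_eq_zero (⊥ : Subobject X.cocomplex).arrow Subobject.bot_arrow
      have hf0 : (K.fil i).arrow = 0 := by rw [i2]; exact Subobject.bot_arrow
      have z0 : IsZero ((CochainComplex.single₀ C).obj (K.step i)) :=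
        Functor.map_isZero _ (IsZero.of_mono_eq_zero (K.fil i).arrow hf0)
      refine ⟨fun j => IsZero.injective ((HomologicalComplex.eval C _ j).map_isZero z1), 0,
        z0.eq_of_src _ _, ?_⟩
      haveI : IsIso (0 : (CochainComplex.single₀ C).obj (K.step i) ⟶
          ((⊥ : Subobject X.cocomplex) : CochainComplex C ℕ)) :=
        ⟨0, z0.eq_of_src _ _, z1.eq_of_src _ _⟩
      infer_instance
    rw [show G i = mid (op ⟨i, mem i i1 i2⟩) from (dif_neg i1).trans (dif_neg i2)]
    let x : Pᵒᵖ := op ⟨i, mem i i1 i2⟩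
    let r := tr (toP x)
    have hs : ∀ n, ∃ s : (Z x).X n ⟶ (Z t).X n, s ≫ r.f n = 𝟙 _ := fun n =>
      exists_section (R.cocomplex.X n) (toP x)
    haveI : Epi r := HomologicalComplex.epi_of_epi_f _ fun n =>
      let ⟨s, hs⟩ := hs n
      epi_of_epi_fac hs
    let S₂ : ShortComplex (CochainComplex C ℕ) := ShortComplex.mk _ r (kernel.condition r)
    have hS₂ : S₂.ShortExact := { exact := ShortComplex.exact_kernel r }
    let e := Subobject.underlyingIso (kernel.ι r)
    refine ⟨fun n => ?_, ?_⟩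
    · have hn := hS₂.map_of_exact (HomologicalComplex.eval C (ComplexShape.up ℕ) n)
      let σ := ShortComplex.Splitting.ofExactOfSection _ hn.exact (hs n).choose (hs n).choose_spec hn.mono_f
      haveI : Injective (S₂.map (HomologicalComplex.eval C (ComplexShape.up ℕ) n)).X₂ := hinj t n
      exact Injective.of_iso ((HomologicalComplex.eval C _ n).mapIso e).symm
        (Retract.injective { i := S₂.f.f n, r := σ.r, retract := σ.f_r })
    let S₁ : ShortComplex (CochainComplex C ℕ) :=
      (ShortComplex.mk _ _ (cokernel.condition (K.fil i).arrow)).map (CochainComplex.single₀ C)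
    have hS₁ : S₁.ShortExact :=
      ShortComplex.ShortExact.map_of_exact
        { exact := ShortComplex.exact_cokernel (K.fil i).arrow } (CochainComplex.single₀ C)
    let l : (CochainComplex.single₀ C).obj (K.step i) ⟶ kernel r :=
      kernel.lift r ((CochainComplex.single₀ C).map (K.fil i).arrow ≫ X.ι) (by
        rw [Category.assoc, hXr x, ← Category.assoc, ← Functor.map_comp, cokernel.condition, Functor.map_zero,
          zero_comp])
    let φ : S₁ ⟶ S₂ :=
      { τ₁ := l, τ₂ := X.ι, τ₃ := cmp x, comm₁₂ := kernel.lift_ι _ _ _, comm₂₃ := hXr x }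
    haveI : QuasiIso l := quasiIso_τ₁ φ hS₁ hS₂ X.quasiIso (qcmp x)
    refine ⟨l ≫ e.inv, ?_, inferInstance⟩
    show (l ≫ e.inv) ≫ (Subobject.mk (kernel.ι r)).arrow = _
    rw [Category.assoc, Subobject.underlyingIso_arrow]
    exact kernel.lift_ι _ _ _

end

/-- Let C be an abelian category in which every object embeds in an injective object, and let A be an
object of C with a finite decreasing filtration (F^i A). Then there are an injective resolution X of
A and a decreasing filtration of X by subcomplexes F^i X such that F^i X = X when F^i A = A, F^i X =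
0 when F^i A = 0, and, for every i, F^i X is a complex of injective objects into which F^i A (placed
in degree 0) maps, compatibly with the augmentation A ⟶ X, by a quasi-isomorphism; thus F^i X is an
injective resolution of F^i A. -/
theorem result {C : Type u} [Category.{v} C] [Abelian C] [EnoughInjectives C]
    (K : SpSeq.FilObj C) (hK : K.IsFinite) :
    ∃ (X : InjectiveResolution K.obj) (G : ℤ → Subobject X.cocomplex), Antitone G ∧
      (∀ i : ℤ, K.fil i = ⊤ → G i = ⊤) ∧ (∀ i : ℤ, K.fil i = ⊥ → G i = ⊥) ∧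
      ∀ i : ℤ, (∀ j : ℕ, Injective ((G i : CochainComplex C ℕ).X j)) ∧
        ∃ ι : (CochainComplex.single₀ C).obj (K.step i) ⟶ (G i : CochainComplex C ℕ),
          ι ≫ (G i).arrow = (CochainComplex.single₀ C).map (K.fil i).arrow ≫ X.ι ∧ QuasiIso ι := by
  exact main K hK

end Groth.Agent.S8350
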