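import Groth.Statements.S8351
import Groth.Agent.SiteCoh.HDUPush
import Groth.Agent.RDPlus.Basic

set_option autoImplicit false
universe u
open CategoryTheory CategoryTheory.Limits TopologicalSpace
open CohCx

namespace Groth.Agent.S8351

/-- For abelian sheaves on topological spaces and a complex bounded below. Let f : X ⟶ Y be a continuous
map and K a bounded below complex of abelian sheaves on X. For every p, the p-th cohomology sheaf of
the derived direct image R f_*(K) (bounded below right derived functor of f_*, computed with
injective resolutions) is isomorphic to the sheaf associated with the presheaf U ↦ H^p(f⁻¹(U), K) on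
Y, where H^p(V, K) denotes hypercohomology (morphisms from the free abelian sheaf on V to K[p] in
the derived category). (The published statement is for modules over arbitrary ringed spaces,
complexes unbounded via Cartan-Eilenberg resolutions, and a canonical isomorphism; here only the
existence of an isomorphism is asserted, and the derived categories are assumed to exist with
morphism types in the universe of X and Y.) -/
theorem result {X Y : TopCat.{u}} (f : X ⟶ Y)
    [HasDerivedCategory.{u} (CohTop.Ab X)] [HasDerivedCategory.{u} (CohTop.Ab Y)]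
    (K : CochainComplex.Plus (CohTop.Ab X)) (p : ℤ) :
    Nonempty ((DerivedCategory.Plus.homologyFunctor (CohTop.Ab Y) p).obj
        ((CohTop.push f).rightDerivedFunctorPlus.obj
          (DerivedCategory.Plus.Qh.obj ((HomotopyCategory.Plus.quotient (CohTop.Ab X)).obj K))) ≅
      (presheafToSheaf (Opens.grothendieckTopology Y) AddCommGrpCat.{u}).obj
        ((Opens.map f).op ⋙ CohCx.HDUPresheaf (DerivedCategory.Q.obj K.obj) p)) := by
  open Groth.Agent.RDPlus.Basic Limits in
  obtain ⟨a, ha⟩ := K.property
  have : K.obj.IsStrictlyGE a := ha
  obtain ⟨L, -, i, hi⟩ := CochainComplex.Plus.exists_quasiIso_injective K a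
  have : QuasiIso i.hom := hi
  let I := ((InjectiveObject.ι (CohTop.Ab X)).mapCochainComplexPlus.obj L).obj
  have : CochainComplex.IsKInjective I := inferInstanceAs (CochainComplex.IsKInjective
    (((InjectiveObject.ι (CohTop.Ab X)).mapHomologicalComplex (.up ℤ)).obj L.obj))
  have hQ : IsIso (DerivedCategory.Plus.Q.map i) := by
    have : IsIso (DerivedCategory.Qh.map ((HomotopyCategory.quotient (CohTop.Ab X) (ComplexShape.up ℤ)).map i.hom)) :=
      (NatIso.isIso_map_iff (DerivedCategory.quotientCompQhIso (CohTop.Ab X)) i.hom).2 inferInstance
    have : IsIso (DerivedCategory.Plus.ι.map (DerivedCategory.Plus.Q.map i)) := this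
    exact isIso_of_fully_faithful DerivedCategory.Plus.ι _
  have : (CohTop.push f).IsRightAdjoint :=
    ((Opens.map f).sheafAdjunctionContinuous AddCommGrpCat.{u} (Opens.grothendieckTopology Y)
      (Opens.grothendieckTopology X)).isRightAdjoint
  have : PreservesFiniteLimits (CohTop.push f) := inferInstance
  obtain ⟨e⟩ := Groth.Agent.SiteCoh.HDUPush.nonempty_iso (Opens.grothendieckTopology Y) (Opens.map f) i.hom
    (CohTop.push f) (Iso.refl _) p
  let F := CohTop.push f
  let Y' := (HomotopyCategory.Plus.quotient (InjectiveObject (CohTop.Ab X))).obj L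
  let H := DerivedCategory.Plus.homologyFunctor (CohTop.Ab Y) p
  exact ⟨H.mapIso (F.rightDerivedFunctorPlus.mapIso (@asIso _ _ _ _ (DerivedCategory.Plus.Q.map i) hQ)) ≪≫
    H.mapIso ((injIso F).symm.app Y') ≪≫
    (DerivedCategory.homologyFunctor (CohTop.Ab Y) p).mapIso ((DerivedCategory.quotientCompQhIso (CohTop.Ab Y)).app _) ≪≫
    (DerivedCategory.homologyFunctorFactors (CohTop.Ab Y) p).app _ ≪≫ e.symm⟩

end Groth.Agent.S8351
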