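import Groth.Statements.S8353
import Mathlib.RingTheory.AdicCompletion.Basic
import Mathlib.RingTheory.Noetherian.Basic
-- import your own Groth.Agent.* helpers here

set_option autoImplicit false
universe u
open HomAlg3

namespace Groth.Agent.S8353

variable {S : Type u} [CommRing S] [IsNoetherianRing S] (J : Ideal S) [IsAdicComplete J S]
  {M : Type u} [AddCommGroup M] [Module S M]

/-- If `G (m) = J ^ m • L + G (m+1)` for a finitely generated `L` then `G m = J ^ m • L`. -/
theorem le_pow_smul (G : ℕ → Submodule S M) (hG : Antitone G) (hsep : ⨅ n, G n = ⊥) {s : ℕ}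
    (g : Fin s → M) (hL : ∀ m, J ^ m • Submodule.span S (Set.range g) ≤ G m)
    (hstep : ∀ m, G m ≤ J ^ m • Submodule.span S (Set.range g) ⊔ G (m + 1)) (m : ℕ) :
    G m ≤ J ^ m • Submodule.span S (Set.range g) := by
  classical
  intro y hy
  have hone : ∀ i, ∀ z ∈ G (m + i), ∃ a : Fin s → S, (∀ k, a k ∈ J ^ (m + i)) ∧
      z - ∑ k, a k • g k ∈ G (m + (i + 1)) := by
    intro i z hz
    obtain ⟨u, hu, v, hv, rfl⟩ := Submodule.mem_sup.mp (hstep (m + i) hz)
    obtain ⟨a, ha, rfl⟩ := (Submodule.mem_ideal_smul_span_iff_exists_sum _ g u).mp hu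
    refine ⟨a, ha, ?_⟩
    rw [Finsupp.sum_fintype _ _ (fun k => zero_smul S (g k)), add_sub_cancel_left]
    exact hv
  choose a ha haz using hone
  let z : ∀ i, G (m + i) :=
    Nat.rec ⟨y, hy⟩ fun i zi => ⟨zi.1 - ∑ k, a i zi.1 zi.2 k • g k, haz i zi.1 zi.2⟩
  let c : ℕ → Fin s → S := fun i => a i (z i).1 (z i).2
  have hc : ∀ i k, c i k ∈ J ^ (m + i) := fun i k => ha i _ _ k
  let A : Fin s → ℕ → S := fun k N => ∑ i ∈ Finset.range N, c i k
  have hy' : ∀ N, y = (z N).1 + ∑ k, A k N • g k := by
    intro N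
    induction N with
    | zero => simp [A, z]
    | succ N ih =>
      have hz : (z (N + 1)).1 = (z N).1 - ∑ k, c N k • g k := rfl
      simp only [A, hz, Finset.sum_range_succ, add_smul, Finset.sum_add_distrib]
      conv_lhs => rw [ih]
      simp only [A]
      abel
  have hcauchy : ∀ k {N N'}, N ≤ N' → A k N ≡ A k N' [SMOD (J ^ N • ⊤ : Submodule S S)] := by
    intro k N N' hN
    rw [SModEq.sub_mem, smul_eq_mul, Ideal.mul_top, ← neg_mem_iff, neg_sub]
    simp only [A]
    rw [← Finset.sum_Ico_eq_sub _ hN]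
    exact sum_mem fun i hi => Ideal.pow_le_pow_right
      (by have := (Finset.mem_Ico.mp hi).1; omega) (hc i k)
  choose l hl using fun k => IsPrecomplete.prec' (I := J) (A k) (hcauchy k)
  have hl' : ∀ k N, A k N - l k ∈ J ^ N := fun k N => by
    have := hl k N
    rwa [SModEq.sub_mem, smul_eq_mul, Ideal.mul_top] at this
  have hlm : ∀ k, l k ∈ J ^ m := fun k => by
    have h1 : A k m ∈ J ^ m :=
      sum_mem fun i _ => Ideal.pow_le_pow_right (Nat.le_add_right m i) (hc i k)
    simpa using sub_mem h1 (hl' k m)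
  have hzero : y - ∑ k, l k • g k = 0 := by
    rw [← Submodule.mem_bot S, ← hsep, Submodule.mem_iInf]
    intro N
    have he : y - ∑ k, l k • g k = (z N).1 + ∑ k, (A k N - l k) • g k := by
      conv_lhs => rw [hy' N]
      simp only [sub_smul, Finset.sum_sub_distrib]
      abel
    rw [he]
    refine add_mem (hG (Nat.le_add_left N m) (z N).2) (hL N ?_)
    exact Submodule.sum_mem _ fun k _ =>
      Submodule.smul_mem_smul (hl' k N) (Submodule.subset_span ⟨k, rfl⟩)
  rw [sub_eq_zero.mp hzero]
  exact Submodule.sum_mem _ fun k _ =>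
    Submodule.smul_mem_smul (hlm k) (Submodule.subset_span ⟨k, rfl⟩)


/-- Let S be a Noetherian ring which is separated and complete for the adic topology of an ideal J, and
let M be an S-module with a decreasing filtration (F^p M)_{p ∈ ℤ} by submodules such that F^p M = M
for some p, J·F^p M ⊆ F^{p+1} M for all p, and ⋂_p F^p M = 0. Then the following are equivalent: (a)
M is a finitely generated S-module and J·F^p M = F^{p+1} M for all large p; (c) every F^p M /
F^{p+1} M is a finitely generated S-module and, for all large p, the map J ⊗ (F^p M/F^{p+1} M) ⟶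
F^{p+1} M/F^{p+2} M is surjective, that is F^{p+1} M = J·F^p M + F^{p+2} M. (The published statement
also lists a third equivalent condition, finite generation of the associated graded module over the
associated graded ring; this row states the equivalence of the other two.) -/
theorem result {S : Type u} [CommRing S] [IsNoetherianRing S]
    (J : Ideal S) [IsAdicComplete J S] {M : Type u} [AddCommGroup M] [Module S M]
    (F : ℤ → Submodule S M) (hF : Antitone F) (hcod : ∃ p₀ : ℤ, F p₀ = ⊤)
    (hJ : ∀ p : ℤ, J • F p ≤ F (p + 1)) (hsep : ⨅ p : ℤ, F p = ⊥) :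
    (Module.Finite S M ∧ ∃ p₁ : ℤ, ∀ p : ℤ, p₁ ≤ p → J • F p = F (p + 1)) ↔
      ((∀ p : ℤ, (Submodule.map (F (p + 1)).mkQ (F p)).FG) ∧
        ∃ p₁ : ℤ, ∀ p : ℤ, p₁ ≤ p → F (p + 1) = J • F p ⊔ F (p + 2)) := by
  obtain ⟨p₀, hp₀⟩ := hcod
  constructor
  · rintro ⟨hfin, p₁, hp₁⟩
    have := isNoetherian_of_isNoetherianRing_of_finite S M
    refine ⟨fun p => IsNoetherian.noetherian _, p₁, fun p hp => ?_⟩
    rw [hp₁ p hp]
    exact (sup_eq_left.mpr (hF (by omega))).symm
  · rintro ⟨hgr, p₁, hp₁⟩
    set P := max p₀ p₁ with hP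
    -- lifts of generators of the piece in degree `P`
    obtain ⟨L, hLfg, hLle, hLgen⟩ : ∃ L : Submodule S M, L.FG ∧ L ≤ F P ∧ F P ≤ L ⊔ F (P + 1) := by
      classical
      obtain ⟨T, hT⟩ := hgr P
      have hlift : ∀ t ∈ T, ∃ x ∈ F P, (F (P + 1)).mkQ x = t := fun t ht =>
        Submodule.mem_map.mp (hT ▸ Submodule.subset_span ht)
      choose x hx hxt using hlift
      refine ⟨Submodule.span S ↑(T.attach.image fun t => x t.1 t.2), ⟨_, rfl⟩, ?_, ?_⟩
      · rw [Submodule.span_le]
        intro y hy
        obtain ⟨t, -, rfl⟩ := Finset.mem_image.mp hy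
        exact hx _ _
      · rw [sup_comm, ← Submodule.comap_map_mkQ]
        intro y hy
        have hy' : (F (P + 1)).mkQ y ∈ Submodule.span S (T : Set (M ⧸ F (P + 1))) := hT ▸ Submodule.mem_map_of_mem hy
        rw [Submodule.mem_comap]
        suffices hsub : Submodule.span S (T : Set (M ⧸ F (P + 1))) ≤ _ from hsub hy'
        refine Submodule.span_le.mpr ?_
        intro t ht
        exact ⟨x t ht, Submodule.subset_span (Finset.mem_image.mpr ⟨⟨t, ht⟩, Finset.mem_attach _ _, rfl⟩),
          hxt t ht⟩
    obtain ⟨s, g, hg⟩ := Submodule.fg_iff_exists_fin_generating_family.mp hLfg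
    have hpow : ∀ m : ℕ, J ^ m • Submodule.span S (Set.range g) ≤ F (P + m) := by
      intro m
      induction m with
      | zero => simpa [hg] using hLle
      | succ m ih =>
        rw [pow_succ', Submodule.mul_smul, Nat.cast_succ, ← add_assoc]
        exact (smul_mono_right J ih).trans (hJ _)
    have hstep : ∀ m : ℕ, F (P + m) ≤ J ^ m • Submodule.span S (Set.range g) ⊔ F (P + (m + 1 : ℕ)) := by
      intro m
      induction m with
      | zero => simpa [hg] using hLgen
      | succ m ih =>
        conv_lhs => rw [Nat.cast_succ, ← add_assoc, hp₁ (P + m) (by omega)]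
        refine sup_le ((smul_mono_right J ih).trans ?_) (le_sup_of_le_right (le_of_eq (congrArg F (by push_cast; ring))))
        rw [Submodule.smul_sup, ← Submodule.mul_smul, ← pow_succ']
        exact sup_le_sup_left ((hJ _).trans (le_of_eq (congrArg F (by push_cast; ring)))) _
    have hsep' : ⨅ n : ℕ, F (P + n) = ⊥ := by
      rw [eq_bot_iff, ← hsep]
      refine le_iInf fun p => iInf_le_of_le (p - P).toNat (hF ?_)
      omega
    have hle := le_pow_smul J (fun n : ℕ => F (P + n)) (fun a b h => hF (by omega)) hsep' g hpow hstep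
    have hstable : ∀ p, P ≤ p → J • F p = F (p + 1) := by
      intro p hp
      obtain ⟨m, rfl⟩ : ∃ m : ℕ, p = P + m := ⟨(p - P).toNat, by omega⟩
      refine le_antisymm (hJ _) ?_
      rw [show P + (m : ℤ) + 1 = P + ((m + 1 : ℕ) : ℤ) by push_cast; ring]
      refine (hle (m + 1)).trans ?_
      rw [pow_succ', Submodule.mul_smul]
      exact smul_mono_right J (hpow m)
    have hfg : ∀ (e : ℕ) (p : ℤ), P ≤ p + e → (F p).FG := by
      intro e
      induction e with
      | zero =>
        intro p hp
        obtain ⟨m, rfl⟩ : ∃ m : ℕ, p = P + m := ⟨(p - P).toNat, by omega⟩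
        rw [show F (P + m) = J ^ m • Submodule.span S (Set.range g) from le_antisymm (hle m) (hpow m)]
        have := isNoetherian_span_of_finite S (Set.finite_range g)
        exact Submodule.FG.of_le_of_isNoetherian (T := Submodule.span S (Set.range g)) Submodule.smul_le_right
      | succ e ih =>
        intro p hp
        refine Submodule.fg_of_fg_map_of_fg_inf_ker (F (p + 1)).mkQ (hgr p) ?_
        rw [Submodule.ker_mkQ, inf_eq_right.mpr (hF (by omega))]
        exact ih (p + 1) (by omega)
    refine ⟨⟨?_⟩, P, hstable⟩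
    rw [← hp₀]
    exact hfg (P - p₀).toNat p₀ (by omega)

end Groth.Agent.S8353
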