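import Groth.Statements.S8358
import Groth.Agent.LieSLib.Diag
-- import your own Groth.Agent.* helpers here

set_option autoImplicit false
universe u
open CategoryTheory MonObj AlgebraicGeometry
open LieS

namespace Groth.Agent.S8358

/-- First isomorphism: over an affine base: for a commutative ring R, a commutative group M, the
diagonalisable group D(M) = Spec R[M] over Spec R and a commutative R-algebra B, the group
Lie(D(M))(Spec B) is identified with the additive group Hom(M, B) of group homomorphisms: there is a
multiplicative isomorphism which sends a point v of D(M) with values in B[ε], read as an R-algebra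
homomorphism from R[M] to B[ε], to the homomorphism m ↦ (ε-coefficient of the image of m), and which
carries the rescaling action of b in B to multiplication of homomorphisms by b. -/
theorem result (R : Type u) [CommRing R] (M : Type) [AddCommGroup M]
    (B : Type u) [CommRing B] [Algebra R B] :
    ∃ e : LieS.LieR (Red.diag R M) B ≃* Multiplicative (M →+ B),
      (∀ (v : LieS.LieR (Red.diag R M) B) (m : M),
        Multiplicative.toAdd (e v) m =
          TrivSqZeroExt.snd (((Spec.mapMulEquiv.symm ((LieS.dptIso B).inv ≫ v.1)).ofConv :
            MonoidAlgebra R (Multiplicative M) →ₐ[R] DualNumber B)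
            (MonoidAlgebra.single (Multiplicative.ofAdd m) 1))) ∧
      ∀ (b : B) (v : LieS.LieR (Red.diag R M) B),
        e (b • v) = Multiplicative.ofAdd (b • Multiplicative.toAdd (e v)) := by
  exact ⟨LieSLib.Diag.lieEquiv, fun v m => rfl,
    fun b v => congrArg Multiplicative.ofAdd (LieSLib.Diag.toHom_smul b v)⟩


end Groth.Agent.S8358
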