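import Groth.Statements.S8359
import Groth.Agent.DiagRig.Diag
-- import your own Groth.Agent.* helpers here

set_option autoImplicit false
universe u
open CategoryTheory MonObj AlgebraicGeometry
open Red

namespace Groth.Agent.S8359

/-- Over an affine base S = Spec R with S₀ = Spec (R/I) for a nilpotent ideal I: for a commutative group
M, the diagonalisable group D(M) = Spec R[M] over S, a group scheme X locally of finite presentation
over S and a homomorphism f from D(M) to X, if the base change of f to S₀ is the unit homomorphism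
then f is the unit homomorphism. (The published statement is over an arbitrary base scheme with S₀
defined by a nilpotent quasi-coherent ideal; this row is its case of an affine base.) -/
theorem result (R : Type u) [CommRing R] (I : Ideal R) (hI : IsNilpotent I)
    (M : Type) [AddCommGroup M] (X : Over (Spec (CommRingCat.of R))) [GrpObj X]
    [LocallyOfFinitePresentation X.hom] (f : Red.diag R M ⟶ X) [IsMonHom f]
    (h : (Over.pullback (Spec.map (CommRingCat.ofHom (Ideal.Quotient.mk I)))).map f = 1) :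
    f = 1 := by
  open Groth.Agent.DiagRig in
  let i₀ : Spec (CommRingCat.of (R ⧸ I)) ⟶ Spec (CommRingCat.of R) :=
    Spec.map (CommRingCat.ofHom (Ideal.Quotient.mk I))
  have : IsClosedImmersion i₀ := IsClosedImmersion.spec_of_surjective _ Ideal.Quotient.mk_surjective
  have hU : IsAffineOpen (⊤ : (Spec (CommRingCat.of R)).Opens) := isAffineOpen_top _
  have hn : IsNilpotent (i₀.ker.ideal ⟨⊤, hU⟩) := by
    obtain ⟨n, hn⟩ := hI
    refine ⟨n, ?_⟩
    let e : R →+* Γ(Spec (CommRingCat.of R), ⊤) := (Scheme.ΓSpecIso (CommRingCat.of R)).inv.hom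
    have hle : i₀.ker.ideal ⟨⊤, hU⟩ ≤ I.map e := by
      intro x hx
      rw [Scheme.Hom.ker_apply, RingHom.mem_ker] at hx
      have hx' : Ideal.Quotient.mk I ((Scheme.ΓSpecIso (CommRingCat.of R)).hom x) = 0 :=
        (congr($((Scheme.ΓSpecIso_naturality (CommRingCat.ofHom (Ideal.Quotient.mk I))).symm) x)).trans
          ((congrArg (Scheme.ΓSpecIso (CommRingCat.of (R ⧸ I))).hom.hom hx).trans (map_zero _))
      have := Ideal.mem_map_of_mem e (Ideal.Quotient.eq_zero_iff_mem.mp hx')
      rwa [show e ((Scheme.ΓSpecIso (CommRingCat.of R)).hom x) = x from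
        congr($(Iso.hom_inv_id (Scheme.ΓSpecIso (CommRingCat.of R))) x)] at this
    refine le_antisymm ((Ideal.pow_right_mono hle n).trans ?_) bot_le
    rw [← Ideal.map_pow, hn]
    exact Ideal.map_bot.le
  have key := Groth.Agent.DiagRig.trivial_of_cover (Groth.Agent.DiagRig.transAction f) (𝟙 _)
    (fun s => ⟨⊤, trivial, M, inferInstance,
      ⟨(Groth.Agent.DiagRig.SplitPts.diag R M).restrict (⊤ : (Spec (CommRingCat.of R)).Opens).ι⟩⟩)
    (fun z => ⟨⟨⊤, hU⟩, trivial, i₀.ker.ideal ⟨⊤, hU⟩, hn, fun Y q hq hk g x => by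
      obtain ⟨q₀, hp⟩ := Groth.Agent.DiagRig.exists_lift_of_kills i₀ ⟨⊤, hU⟩ q hk
      have e : (Over.map i₀).obj (Over.mk q₀) = Over.mk (q₀ ≫ i₀) := rfl
      let j : Y ⟶ (Over.map i₀).obj (Over.mk q₀) :=
        Over.homMk (𝟙 _) (show 𝟙 _ ≫ (q₀ ≫ i₀) = Y.hom by rw [Category.id_comp, hp, hq])
      let j' : (Over.map i₀).obj (Over.mk q₀) ⟶ Y :=
        Over.homMk (𝟙 _) (show 𝟙 _ ≫ Y.hom = q₀ ≫ i₀ by rw [Category.id_comp, hp, hq])
      have hj : j ≫ j' = 𝟙 _ := by
        ext1
        exact Category.comp_id _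
      have h1 : (j' ≫ g) ≫ f = Groth.Agent.DiagRig.bcTr i₀
          (Groth.Agent.DiagRig.bcUn i₀ (j' ≫ g) ≫ (Over.pullback i₀).map f) := by
        simp only [Groth.Agent.DiagRig.bcTr, Groth.Agent.DiagRig.bcUn,
          Adjunction.homEquiv_naturality_right_symm, Equiv.symm_apply_apply]
      rw [h, MonObj.comp_one] at h1
      have h2 : Groth.Agent.DiagRig.bcTr i₀ (1 : Over.mk q₀ ⟶ Red.bc i₀ X) = 1 := by
        have h3 := Groth.Agent.DiagRig.bcTr_mul i₀ (1 : Over.mk q₀ ⟶ Red.bc i₀ X) 1
        rw [_root_.mul_one] at h3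
        exact mul_eq_left.mp h3.symm
      have h4 : g ≫ f = 1 := by
        have h5 := congrArg (j ≫ ·) (h1.trans h2)
        simp only [reassoc_of% hj, MonObj.comp_one, Category.assoc] at h5
        exact h5
      rw [Groth.Agent.DiagRig.lift_transAction, h4, _root_.one_mul]⟩)
  have := key _ (𝟙 (Red.diag R M)) 1
  rw [Groth.Agent.DiagRig.lift_transAction, Category.id_comp, _root_.mul_one] at this
  exact this

end Groth.Agent.S8359
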