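import Groth.Statements.S8360
import Groth.Agent.DiagRig.HomLiftNil
import Groth.Agent.DiagRig.DiagInj

set_option autoImplicit false
universe u
open CategoryTheory MonObj AlgebraicGeometry
open Red

namespace Groth.Agent.S8360

/-- Over the affine base S = Spec R with S₀ = Spec (R/I) for a nilpotent ideal I, for a commutative
group M, the diagonalisable group D(M) = Spec R[M] over S and a group scheme X smooth over S, every
homomorphism of S₀-group schemes from D(M) ×_S S₀ to X ×_S S₀ is the base change of a homomorphism
of S-group schemes from D(M) to X. -/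
theorem result (R : Type u) [CommRing R] (I : Ideal R)
    (hI : IsNilpotent I) (M : Type) [AddCommGroup M] (X : Over (Spec (CommRingCat.of R))) [GrpObj X]
    [Smooth X.hom]
    (f₀ : Red.bc (Spec.map (CommRingCat.ofHom (Ideal.Quotient.mk I))) (Red.diag R M) ⟶ Red.bc (Spec.map (CommRingCat.ofHom (Ideal.Quotient.mk I))) X) [IsMonHom f₀] :
    ∃ f : Red.diag R M ⟶ X, IsMonHom f ∧ (Over.pullback (Spec.map (CommRingCat.ofHom (Ideal.Quotient.mk I)))).map f = f₀ := by
  have : IsAffine (Red.diag R M).left := isAffine_Spec _
  exact Groth.Agent.DiagRig.exists_hom_lift_smooth (R := R) (H := Red.diag R M) (G := X) I hI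
    (Groth.Agent.DiagRig.splitLoc_diag R M) ‹Smooth X.hom› f₀

end Groth.Agent.S8360
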