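import Groth.Statements.S8362
import Mathlib
import Groth.Agent.SqZero27.Basic
-- import your own Groth.Agent.* helpers here

set_option autoImplicit false
universe u
open CategoryTheory AlgebraicGeometry
open SGA3

namespace Groth.Agent.S8362

/-- Over an affine base S = Spec R with S₀ = Spec (R/J) for an ideal J of square zero: for an arbitrary
S-scheme X, every S-endomorphism of X inducing the identity on X ×_S S₀ is an automorphism. (The
published statement is over an arbitrary base scheme with a quasi-coherent ideal of square zero;
this row is its case of an affine base, to which it reduces since being an isomorphism is local on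
the base.) -/
theorem result (R : Type u) [CommRing R] (J : Ideal R) (hJ : J * J = ⊥)
    (X : Over (Spec (CommRingCat.of R))) (u : X ⟶ X)
    (h : (Over.pullback (Spec.map (CommRingCat.ofHom (Ideal.Quotient.mk J)))).map u = 𝟙 _) :
    IsIso u := by
  have hc : Groth.Agent.SqZero27.Congr J u (𝟙 X) :=
    Groth.Agent.SqZero27.congr_of_map_eq J (by rw [h, CategoryTheory.Functor.map_id])
  have := Groth.Agent.SqZero27.isIso_left_of_congr_id J hJ u hc
  have : IsIso ((Over.forget (Spec (CommRingCat.of R))).map u) := this
  exact isIso_of_reflects_iso u (Over.forget _)

end Groth.Agent.S8362
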