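import Groth.Statements.S8364
import Mathlib

set_option autoImplicit false
universe u
open SGA3

namespace Groth.Agent.S8364

/-- For a commutative ring R, an ideal J of R of square zero, a smooth R-algebra A and the extended
ideal I = J·A, every R-algebra automorphism of A/I lifts to an R-algebra automorphism of A. (The
published statement concerns the automorphism functor of a smooth affine S-scheme E and affine test
schemes Y; this row is the case Y = S = Spec R, E = Spec A, which gives the general one after
replacing R by the ring of Y.) -/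
theorem result (R A : Type u) [CommRing R] [CommRing A] [Algebra R A]
    [Algebra.Smooth R A] (J : Ideal R) (hJ : J * J = ⊥)
    (φ₀ : (A ⧸ Ideal.map (algebraMap R A) J) ≃ₐ[R] (A ⧸ Ideal.map (algebraMap R A) J)) :
    ∃ φ : A ≃ₐ[R] A,
      (Ideal.Quotient.mkₐ R (Ideal.map (algebraMap R A) J)).comp φ.toAlgHom =
        φ₀.toAlgHom.comp (Ideal.Quotient.mkₐ R (Ideal.map (algebraMap R A) J)) := by
  let I := Ideal.map (algebraMap R A) J
  have hI : IsNilpotent I := ⟨2, by
    rw [Ideal.zero_eq_bot, sq, ← Ideal.map_mul, hJ, Ideal.map_bot]⟩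
  have lift : ∀ g : (A ⧸ I) ≃ₐ[R] (A ⧸ I), ∃ f : A →ₐ[R] A,
      ∀ a, Ideal.Quotient.mk I (f a) = g (Ideal.Quotient.mk I a) := fun g =>
    ⟨Algebra.FormallySmooth.lift I hI (g.toAlgHom.comp (Ideal.Quotient.mkₐ R I)),
      fun a => Algebra.FormallySmooth.mk_lift I hI _ a⟩
  have bij : ∀ f : A →ₐ[R] A, (∀ a, f a - a ∈ I) → Function.Bijective f := by
    intro f hf
    have hI0 : ∀ i ∈ I, f i = i := by
      intro i hi
      induction hi using Submodule.span_induction with
      | mem w hw => obtain ⟨r, -, rfl⟩ := hw; exact f.commutes r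
      | zero => exact map_zero f
      | add a b _ _ ha hb => rw [map_add, ha, hb]
      | smul c w hw hc =>
        rw [smul_eq_mul, map_mul, hc]
        have h0 : (f c - c) * w = 0 := by
          have : (f c - c) * w ∈ I * I := Ideal.mul_mem_mul (hf c) hw
          rwa [← Ideal.map_mul, hJ, Ideal.map_bot] at this
        rw [← sub_eq_zero, ← sub_mul]
        exact h0
    refine ⟨fun a b hab => ?_, fun a => ⟨a - (f a - a), ?_⟩⟩
    · have h := hI0 _ (sub_mem (hf a) (hf b))
      rw [map_sub, map_sub, map_sub, hab, sub_self] at h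
      have h2 : a - b ∈ I := by
        have := sub_mem (hf b) (hf a)
        rw [hab] at this
        simpa using this
      have h3 := hI0 _ h2
      rw [map_sub, hab, sub_self] at h3
      exact sub_eq_zero.mp h3.symm
    · rw [map_sub, hI0 _ (hf a)]
      abel
  obtain ⟨f, hf⟩ := lift φ₀
  obtain ⟨g, hg⟩ := lift φ₀.symm
  have h1 := bij (f.comp g) fun a => by
    rw [← Ideal.Quotient.eq]
    exact (hf (g a)).trans ((congrArg φ₀ (hg a)).trans (φ₀.apply_symm_apply _))
  have h2 := bij (g.comp f) fun a => by
    rw [← Ideal.Quotient.eq]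
    exact (hg (f a)).trans ((congrArg φ₀.symm (hf a)).trans (φ₀.symm_apply_apply _))
  exact ⟨AlgEquiv.ofBijective f ⟨fun a b h => h2.1 (congrArg g h), fun a => ⟨g (h1.2 a).choose, (h1.2 a).choose_spec⟩⟩,
    AlgHom.ext hf⟩


end Groth.Agent.S8364
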