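import Groth.Statements.S8365
import Mathlib

set_option autoImplicit false
universe u
open CategoryTheory MonObj AlgebraicGeometry
open LieS

namespace Groth.Agent.S8365

open CategoryTheory AlgebraicGeometry MonoidalCategory CartesianMonoidalCategory
open scoped MonObj
open TrivSqZeroExt (map)

/-- Two morphisms out of an affine scheme agree if they agree on two nil-thickened closed pieces which jointly embed the ring. -/
theorem hom_ext_of_pair {X : Scheme.{u}} {A A₁ A₂ : Type u} [CommRing A] [CommRing A₁] [CommRing A₂]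
    (p₁ : A →+* A₁) (p₂ : A →+* A₂) (hinj : ∀ z, p₁ z = 0 → p₂ z = 0 → z = 0)
    (hs : Function.Surjective p₁) (hnil : ∀ z, p₁ z = 0 → IsNilpotent z)
    (a b : Spec (CommRingCat.of A) ⟶ X)
    (h₁ : Spec.map (CommRingCat.ofHom p₁) ≫ a = Spec.map (CommRingCat.ofHom p₁) ≫ b)
    (h₂ : Spec.map (CommRingCat.ofHom p₂) ≫ a = Spec.map (CommRingCat.ofHom p₂) ≫ b) : a = b := by
  classical
  have hsurj : Function.Surjective (Spec.map (CommRingCat.ofHom p₁)) := by
    intro q
    have hker : RingHom.ker p₁ ≤ q.asIdeal := fun z hz =>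
      q.isPrime.mem_of_pow_mem _ ((hnil z hz).choose_spec ▸ q.asIdeal.zero_mem)
    haveI := q.isPrime
    refine ⟨⟨Ideal.map p₁ q.asIdeal, Ideal.map_isPrime_of_surjective hs hker⟩, PrimeSpectrum.ext ?_⟩
    change Ideal.comap p₁ (Ideal.map p₁ q.asIdeal) = q.asIdeal
    rw [Ideal.comap_map_of_surjective p₁ hs, sup_eq_left]
    exact hker
  have hbase : ∀ q, a q = b q := by
    intro q
    obtain ⟨q', rfl⟩ := hsurj q
    rw [← Scheme.Hom.comp_apply, h₁, Scheme.Hom.comp_apply]
  have hloc : ∀ q : Spec (CommRingCat.of A), ∃ g : A, q ∈ PrimeSpectrum.basicOpen g ∧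
      ∃ V : X.Opens, IsAffineOpen V ∧ ∀ r, r ∈ PrimeSpectrum.basicOpen g → a r ∈ V := by
    intro q
    obtain ⟨V, hV, hqV, -⟩ := exists_isAffineOpen_mem_and_subset (X := X) (x := a q) (U := ⊤) trivial
    obtain ⟨-, ⟨g, rfl⟩, hqg, hgV⟩ := PrimeSpectrum.isTopologicalBasis_basic_opens.exists_subset_of_mem_open
      (show q ∈ (a ⁻¹ᵁ V : Set _) from hqV) (a ⁻¹ᵁ V).isOpen
    exact ⟨g, hqg, V, hV, fun r hr => hgV hr⟩
  choose g hg V hV hgV using hloc
  have hspan : Ideal.span (Set.range g) = ⊤ := by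
    rw [← PrimeSpectrum.iSup_basicOpen_eq_top_iff, eq_top_iff]
    exact fun q _ => TopologicalSpace.Opens.mem_iSup.2 ⟨q, hg q⟩
  refine (Scheme.affineOpenCoverOfSpanRangeEqTop g hspan).openCover.hom_ext _ _ fun q => ?_
  let jq := Spec.map (CommRingCat.ofHom (algebraMap A (Localization.Away (g q))))
  change jq ≫ a = jq ≫ b
  haveI : IsOpenImmersion jq := IsOpenImmersion.of_isLocalization (g q)
  have hr : ∀ r, jq r ∈ PrimeSpectrum.basicOpen (g q) := fun r => by
    have := PrimeSpectrum.localization_away_comap_range (Localization.Away (g q)) (g q)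
    exact (Set.ext_iff.1 this _).1 (Set.mem_range_self r)
  have ha : Set.range (jq ≫ a) ⊆ Set.range (V q).ι := by
    rw [Scheme.Opens.range_ι]; rintro _ ⟨r, rfl⟩; exact hgV q _ (hr r)
  have hb : Set.range (jq ≫ b) ⊆ Set.range (V q).ι := by
    rw [Scheme.Opens.range_ι]; rintro _ ⟨r, rfl⟩
    rw [Scheme.Hom.comp_apply, ← hbase]; exact hgV q _ (hr r)
  let e := (hV q).isoSpec
  obtain ⟨α, hα⟩ := Spec.map_surjective (IsOpenImmersion.lift _ (jq ≫ a) ha ≫ e.hom)
  obtain ⟨β, hβ⟩ := Spec.map_surjective (IsOpenImmersion.lift _ (jq ≫ b) hb ≫ e.hom)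
  have hfa : Spec.map α ≫ e.inv ≫ (V q).ι = jq ≫ a := by
    rw [hα, Category.assoc, Iso.hom_inv_id_assoc, IsOpenImmersion.lift_fac]
  have hfb : Spec.map β ≫ e.inv ≫ (V q).ι = jq ≫ b := by
    rw [hβ, Category.assoc, Iso.hom_inv_id_assoc, IsOpenImmersion.lift_fac]
  rw [← hfa, ← hfb]
  have key : ∀ {A' : Type u} [CommRing A'] (p : A →+* A')
      (_ : Spec.map (CommRingCat.ofHom p) ≫ a = Spec.map (CommRingCat.ofHom p) ≫ b),
      α ≫ CommRingCat.ofHom (Localization.awayMap p (g q)) = β ≫ CommRingCat.ofHom (Localization.awayMap p (g q)) := by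
    intro A' _ p hp
    refine Spec.map_injective ?_
    rw [Spec.map_comp, Spec.map_comp]
    rw [← cancel_mono (e.inv ≫ (V q).ι), Category.assoc, Category.assoc, hfa, hfb]
    have hsq : Spec.map (CommRingCat.ofHom (Localization.awayMap p (g q))) ≫ jq =
        Spec.map (CommRingCat.ofHom (algebraMap A' (Localization.Away (p (g q))))) ≫ Spec.map (CommRingCat.ofHom p) := by
      simp only [jq, ← Spec.map_comp, ← CommRingCat.ofHom_comp]
      congr 2
      refine RingHom.ext fun z => ?_
      simp [Localization.awayMap, IsLocalization.Away.map, IsLocalization.map_eq]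
    rw [reassoc_of% hsq, reassoc_of% hsq, hp]
  have k1 := key p₁ h₁
  have k2 := key p₂ h₂
  congr 1
  apply congrArg Spec.map
  refine CommRingCat.hom_ext (RingHom.ext fun c => ?_)
  obtain ⟨⟨x, sx⟩, hxe⟩ := IsLocalization.surj (Submonoid.powers (g q)) (α.hom c - β.hom c)
  rw [← sub_eq_zero]
  have hp : ∀ {A' : Type u} [CommRing A'] (p : A →+* A'),
      α ≫ CommRingCat.ofHom (Localization.awayMap p (g q)) = β ≫ CommRingCat.ofHom (Localization.awayMap p (g q)) →
      ∃ n : ℕ, p (g q ^ n * x) = 0 := by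
    intro A' _ p hk
    have h0 : Localization.awayMap p (g q) (algebraMap A _ x) = 0 := by
      rw [← hxe, map_mul, map_sub]
      have := congrArg (fun φ => φ.hom c) hk
      simp only [CommRingCat.hom_comp, CommRingCat.hom_ofHom, RingHom.comp_apply] at this
      rw [this, sub_self, zero_mul]
    simp only [Localization.awayMap, IsLocalization.Away.map, IsLocalization.map_eq] at h0
    obtain ⟨⟨_, n, rfl⟩, hn⟩ := (IsLocalization.map_eq_zero_iff (Submonoid.powers (p (g q))) _ _).1 h0
    exact ⟨n, by rw [map_mul, map_pow]; exact hn⟩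
  obtain ⟨n, hn⟩ := hp p₁ k1
  obtain ⟨m, hm⟩ := hp p₂ k2
  have hz : g q ^ (n + m) * x = 0 := by
    refine hinj _ ?_ ?_
    · rw [pow_add, mul_comm (g q ^ n), _root_.mul_assoc, map_mul, hn, mul_zero]
    · rw [pow_add, _root_.mul_assoc, map_mul, hm, mul_zero]
  have hu : IsUnit (algebraMap A (Localization.Away (g q)) (sx : A)) := IsLocalization.map_units _ sx
  have hgu : IsUnit (algebraMap A (Localization.Away (g q)) (g q)) := IsLocalization.Away.algebraMap_isUnit _
  refine hu.mul_left_eq_zero.1 ((hgu.pow (n + m)).mul_right_eq_zero.1 ?_)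
  rw [hxe, ← map_pow, ← map_mul, hz, map_zero]

variable (B : Type u) [CommRing B] {S : Scheme.{u}} (f : Spec (CommRingCat.of B) ⟶ S)

/-- `Spec` of `B ⊕ B²` over `S`. -/
noncomputable def twoPt : Over S :=
  Over.mk (Spec.map (CommRingCat.ofHom (algebraMap B (TrivSqZeroExt B (B × B)))) ≫ f)

variable {B}

noncomputable def inMap (l : B →ₗ[B] B × B) : twoPt B f ⟶ LieS.dpt B f :=
  Over.homMk (Spec.map (CommRingCat.ofHom (map l).toRingHom)) (by
    change Spec.map _ ≫ Spec.map _ ≫ f = Spec.map _ ≫ f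
    rw [← Category.assoc, LieS.specMap_comp, AlgHom.toRingHom_eq_coe, AlgHom.comp_algebraMap])

noncomputable def outMap (l : B × B →ₗ[B] B) : LieS.dpt B f ⟶ twoPt B f :=
  Over.homMk (Spec.map (CommRingCat.ofHom (map l).toRingHom)) (by
    change Spec.map _ ≫ Spec.map _ ≫ f = Spec.map _ ≫ f
    rw [← Category.assoc, LieS.specMap_comp, AlgHom.toRingHom_eq_coe, AlgHom.comp_algebraMap])

noncomputable def selfMap (l : B →ₗ[B] B) : LieS.dpt B f ⟶ LieS.dpt B f :=
  Over.homMk (Spec.map (CommRingCat.ofHom (map l).toRingHom)) (by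
    change Spec.map _ ≫ Spec.map _ ≫ f = Spec.map _ ≫ f
    rw [← Category.assoc, LieS.specMap_comp, AlgHom.toRingHom_eq_coe, AlgHom.comp_algebraMap])

theorem out_in (l : B × B →ₗ[B] B) (l' : B →ₗ[B] B × B) : outMap f l ≫ inMap f l' = selfMap f (l ∘ₗ l') := by
  refine Over.OverMorphism.ext ?_
  change Spec.map _ ≫ Spec.map _ = Spec.map _
  rw [LieS.specMap_comp, TrivSqZeroExt.map_comp_map]
  rfl

theorem selfMap_id : selfMap f (LinearMap.id : B →ₗ[B] B) = 𝟙 _ := by
  refine Over.OverMorphism.ext ?_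
  change Spec.map _ = 𝟙 _
  rw [TrivSqZeroExt.map_id]
  exact Spec.map_id _

theorem selfMap_zero : selfMap f (0 : B →ₗ[B] B) = LieS.proj B f ≫ LieS.zeroSec B f := by
  refine Over.OverMorphism.ext ?_
  change Spec.map _ = Spec.map _ ≫ Spec.map _
  rw [LieS.specMap_comp]
  congr 2
  refine RingHom.ext fun z => TrivSqZeroExt.ext ?_ ?_ <;> simp [TrivSqZeroExt.algebraMap_eq_inl']

theorem twoPt_ext {X : Over S} (a b : twoPt B f ⟶ X)
    (h₁ : outMap f (LinearMap.fst B B B) ≫ a = outMap f (LinearMap.fst B B B) ≫ b)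
    (h₂ : outMap f (LinearMap.snd B B B) ≫ a = outMap f (LinearMap.snd B B B) ≫ b) : a = b := by
  refine Over.OverMorphism.ext (hom_ext_of_pair (map (LinearMap.fst B B B)).toRingHom (map (LinearMap.snd B B B)).toRingHom
    ?_ ?_ ?_ a.left b.left (congrArg CommaMorphism.left h₁) (congrArg CommaMorphism.left h₂))
  · intro z e₁ e₂
    refine TrivSqZeroExt.ext ?_ (Prod.ext ?_ ?_)
    · simpa using congrArg TrivSqZeroExt.fst e₁
    · simpa using congrArg TrivSqZeroExt.snd e₁
    · simpa using congrArg TrivSqZeroExt.snd e₂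
  · intro z
    exact ⟨TrivSqZeroExt.inl z.fst + TrivSqZeroExt.inr (z.snd, 0), TrivSqZeroExt.ext (by simp) (by simp)⟩
  · intro z e
    have h0 : z.fst = 0 := by simpa using congrArg TrivSqZeroExt.fst e
    exact ⟨2, by rw [pow_two]; exact TrivSqZeroExt.ext (by simp [h0]) (by simp [h0])⟩

variable {X : Over S} [MonObj X]

/-- Tangent points at the unit are invertible. -/
theorem isUnit_of_zeroSec (v : LieS.dpt B f ⟶ X) (h : LieS.zeroSec B f ≫ v = 1) : IsUnit v := by
  have hv0 : selfMap f (0 : B →ₗ[B] B) ≫ v = 1 := by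
    rw [selfMap_zero, Category.assoc, h, MonObj.comp_one]
  let i₁ := LinearMap.inl B B B
  let i₂ := LinearMap.inr B B B
  let a := inMap f i₁ ≫ v
  let b := inMap f i₂ ≫ v
  let c := inMap f (i₁ + i₂) ≫ v
  have pull : ∀ (l : B × B →ₗ[B] B) (l' : B →ₗ[B] B × B) (m : B →ₗ[B] B), l ∘ₗ l' = m →
      outMap f l ≫ inMap f l' ≫ v = selfMap f m ≫ v := fun l l' m e => by
    rw [← Category.assoc, out_in, e]
  have a1 : outMap f (LinearMap.fst B B B) ≫ a = v := by
    rw [pull _ _ LinearMap.id (LinearMap.fst_comp_inl ..), selfMap_id, Category.id_comp]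
  have a2 : outMap f (LinearMap.snd B B B) ≫ a = 1 := by
    rw [pull _ _ 0 (LinearMap.snd_comp_inl ..), hv0]
  have b1 : outMap f (LinearMap.fst B B B) ≫ b = 1 := by
    rw [pull _ _ 0 (LinearMap.fst_comp_inr ..), hv0]
  have b2 : outMap f (LinearMap.snd B B B) ≫ b = v := by
    rw [pull _ _ LinearMap.id (LinearMap.snd_comp_inr ..), selfMap_id, Category.id_comp]
  have c1 : outMap f (LinearMap.fst B B B) ≫ c = v := by
    rw [pull _ _ LinearMap.id (by ext; simp [i₁, i₂]), selfMap_id, Category.id_comp]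
  have c2 : outMap f (LinearMap.snd B B B) ≫ c = v := by
    rw [pull _ _ LinearMap.id (by ext; simp [i₁, i₂]), selfMap_id, Category.id_comp]
  have hab : a * b = c := twoPt_ext f _ _ (by rw [MonObj.comp_mul, a1, b1, _root_.mul_one, c1]) (by rw [MonObj.comp_mul, a2, b2, _root_.one_mul, c2])
  have hba : b * a = c := twoPt_ext f _ _ (by rw [MonObj.comp_mul, a1, b1, _root_.one_mul, c1]) (by rw [MonObj.comp_mul, a2, b2, _root_.mul_one, c2])
  let d := LinearMap.fst B B B - LinearMap.snd B B B
  have da : outMap f d ≫ a = v := by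
    rw [pull _ _ LinearMap.id (by ext; simp [d, i₁]), selfMap_id, Category.id_comp]
  have db : outMap f d ≫ b = selfMap f (-LinearMap.id) ≫ v := pull _ _ _ (by ext; simp [d, i₂])
  have dc : outMap f d ≫ c = 1 := by
    rw [pull _ _ 0 (by ext; simp [d, i₁, i₂]), hv0]
  refine isUnit_iff_exists.2 ⟨selfMap f (-LinearMap.id) ≫ v, ?_, ?_⟩
  · rw [← dc, ← hab, MonObj.comp_mul, da, db]
  · rw [← dc, ← hba, MonObj.comp_mul, da, db]

/-- For a monoid scheme X over a scheme S (an associative unital monoid object in S-schemes) and an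
affine S-scheme T = Spec B, a point of X with values in the dual numbers over T is invertible if and
only if its restriction along the zero section ε = 0 is invertible in X(T); in particular every such
point restricting to the unit section is invertible. (The published statement is for monoid-valued
functors satisfying a tangent-space exactness condition, which every representable functor
satisfies, and its special case where the restriction is the unit section allows unital composition
laws that need not be associative; this row treats monoid schemes only.) -/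
theorem result (S : Scheme.{u}) (X : Over S) [MonObj X] (B : Type u) [CommRing B]
    (f : Spec (CommRingCat.of B) ⟶ S) (v : LieS.dpt B f ⟶ X) :
    IsUnit v ↔ IsUnit (LieS.zeroSec B f ≫ v) := by
  constructor
  · intro hv
    obtain ⟨w, h1, h2⟩ := isUnit_iff_exists.1 hv
    exact isUnit_iff_exists.2 ⟨LieS.zeroSec B f ≫ w, by rw [← MonObj.comp_mul, h1, MonObj.comp_one],
      by rw [← MonObj.comp_mul, h2, MonObj.comp_one]⟩
  · intro hv
    obtain ⟨u₀, h1, h2⟩ := isUnit_iff_exists.1 hv
    let w := LieS.proj B f ≫ u₀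
    have hw : IsUnit w := isUnit_iff_exists.2 ⟨LieS.proj B f ≫ LieS.zeroSec B f ≫ v,
      by rw [← MonObj.comp_mul, h2, MonObj.comp_one], by rw [← MonObj.comp_mul, h1, MonObj.comp_one]⟩
    obtain ⟨w', hw'⟩ : ∃ w' : (LieS.dpt B f ⟶ X)ˣ, (w' : LieS.dpt B f ⟶ X) = w := hw
    have hvw : IsUnit (v * (w' : LieS.dpt B f ⟶ X)) := isUnit_of_zeroSec f _ (by
      rw [MonObj.comp_mul, hw']
      rw [show LieS.zeroSec B f ≫ w = u₀ by simp only [w, ← Category.assoc, LieS.zeroSec_proj, Category.id_comp], h1])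
    simpa using hvw

end Groth.Agent.S8365
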