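import Groth.Statements.S8366
import Groth.Agent.NilIso19.Basic

set_option autoImplicit false
universe u
open CategoryTheory MonoidalCategory MonObj AlgebraicGeometry
open SGA3

namespace Groth.Agent.S8366

open Groth.Agent CartesianMonoidalCategory
set_option linter.style.haveILetI false
set_option backward.isDefEq.respectTransparency false
set_option synthInstance.maxHeartbeats 200000
set_option maxHeartbeats 1000000

/-- Over an affine base S = Spec R with S₀ = Spec (R/I) for a nilpotent ideal I: let X be an S-scheme
which is flat and either quasi-compact or locally of finite presentation over S, and P : X ×_S X → X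
a composition law. If P is associative and its base change to S₀ is the multiplication of some
group-scheme structure on X ×_S S₀, then P is the multiplication of a group-scheme structure on X.
(The published statement is over an arbitrary base scheme with S₀ defined by a nilpotent
quasi-coherent ideal; this row is its case of an affine base.) -/
theorem result (R : Type u) [CommRing R] (I : Ideal R)
    (hI : IsNilpotent I) (X : Over (Spec (CommRingCat.of R))) [Flat X.hom]
    (hX : QuasiCompact X.hom ∨ LocallyOfFinitePresentation X.hom) (P : X ⊗ X ⟶ X)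
    (hassoc : (P ▷ X) ≫ P = (α_ X X X).hom ≫ (X ◁ P) ≫ P)
    (h0 : ∃ _ : GrpObj ((Over.pullback (Spec.map (CommRingCat.ofHom (Ideal.Quotient.mk I)))).obj X),
      μ[(Over.pullback (Spec.map (CommRingCat.ofHom (Ideal.Quotient.mk I)))).obj X] =
        Functor.LaxMonoidal.μ (Over.pullback (Spec.map (CommRingCat.ofHom (Ideal.Quotient.mk I)))) X X ≫ (Over.pullback (Spec.map (CommRingCat.ofHom (Ideal.Quotient.mk I)))).map P) :
    ∃ _ : GrpObj X, μ[X] = P := by
  obtain ⟨hG, hμ⟩ := h0
  letI := hG
  let F := Over.pullback (NilIso19.red I)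
  have hμ' : μ[F.obj X] = Functor.LaxMonoidal.μ F X X ≫ F.map P := hμ
  haveI : Flat (X ⊗ X).hom := inferInstanceAs (Flat (Limits.pullback.fst X.hom X.hom ≫ X.hom))
  haveI h1 : IsIso (lift (fst X X) P) := by
    haveI : IsIso (lift (fst (F.obj X) (F.obj X)) μ[F.obj X]) := by
      refine ⟨lift (fst _ _) ((fst (F.obj X) (F.obj X))⁻¹ * snd _ _), ?_, ?_⟩ <;>
        refine CartesianMonoidalCategory.hom_ext _ _ (by simp) ?_ <;>
        simp [MonObj.mul_eq_mul, MonObj.comp_mul, GrpObj.comp_inv]
    have e : Functor.LaxMonoidal.μ F X X ≫ F.map (lift (fst X X) P) =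
        lift (fst (F.obj X) (F.obj X)) μ[F.obj X] ≫ Functor.LaxMonoidal.μ F X X := by
      rw [← cancel_mono (inv (Functor.LaxMonoidal.μ F X X)), Category.assoc, Category.assoc, IsIso.hom_inv_id,
        Category.comp_id]
      refine CartesianMonoidalCategory.hom_ext _ _ ?_ ?_
      · simp [← Functor.map_comp]
      · simp [hμ', ← Functor.map_comp]
    haveI : IsIso (Functor.LaxMonoidal.μ F X X ≫ F.map (lift (fst X X) P)) := by rw [e]; infer_instance
    haveI : IsIso (F.map (lift (fst X X) P)) := IsIso.of_isIso_comp_left (Functor.LaxMonoidal.μ F X X) _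
    exact NilIso19.isIso_of_red hI _
  haveI h2 : IsIso (lift P (snd X X)) := by
    haveI : IsIso (lift μ[F.obj X] (snd (F.obj X) (F.obj X))) := by
      refine ⟨lift (fst _ _ * (snd (F.obj X) (F.obj X))⁻¹) (snd _ _), ?_, ?_⟩ <;>
        refine CartesianMonoidalCategory.hom_ext _ _ ?_ (by simp) <;>
        simp [MonObj.mul_eq_mul, MonObj.comp_mul, GrpObj.comp_inv]
      exact mul_inv_cancel_right (fst (F.obj X) (F.obj X)) (snd (F.obj X) (F.obj X))
    have e : Functor.LaxMonoidal.μ F X X ≫ F.map (lift P (snd X X)) =
        lift μ[F.obj X] (snd (F.obj X) (F.obj X)) ≫ Functor.LaxMonoidal.μ F X X := by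
      rw [← cancel_mono (inv (Functor.LaxMonoidal.μ F X X)), Category.assoc, Category.assoc, IsIso.hom_inv_id,
        Category.comp_id]
      refine CartesianMonoidalCategory.hom_ext _ _ ?_ ?_
      · simp [hμ', ← Functor.map_comp]
      · simp [← Functor.map_comp]
    haveI : IsIso (Functor.LaxMonoidal.μ F X X ≫ F.map (lift P (snd X X))) := by rw [e]; infer_instance
    haveI : IsIso (F.map (lift P (snd X X))) := IsIso.of_isIso_comp_left (Functor.LaxMonoidal.μ F X X) _
    exact NilIso19.isIso_of_red hI _
  haveI : Surjective X.hom := by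
    haveI := NilIso19.surjective_red (R := R) hI
    refine ⟨fun s => ?_⟩
    obtain ⟨t, rfl⟩ := (NilIso19.red I).surjective s
    refine ⟨GrpArtin.proj (NilIso19.red I) X ((η[F.obj X]).left t), ?_⟩
    rw [← Scheme.Hom.comp_apply, Limits.pullback.condition, Scheme.Hom.comp_apply]
    exact congrArg (NilIso19.red I) (congr(($(Over.w η[F.obj X])) t))
  haveI : EffectiveEpi X.hom := by
    rcases hX with h | h
    · haveI := h; infer_instance
    · haveI := h
      exact FpqcCov27.effectiveEpi (FpqcCov27.liftsAffines_of_isOpenMap X.hom X.hom.isOpenMap X.hom.surjective)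
  exact NilIso19.exists_grpObj X P hassoc

end Groth.Agent.S8366
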