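import Groth.Statements.S8660
import Groth.Agent.CIntCI.Syntomic
import Groth.Agent.FlatMor.LCIChart

set_option autoImplicit false
universe u
open CategoryTheory CategoryTheory.Limits AlgebraicGeometry
open Synt

namespace Groth.Agent.S8660

/-- Let f : X ⟶ Y be flat and locally of finite presentation. Then f is a local complete intersection
morphism in the factorisation sense (around each point of X, f is locally of finite type and factors
as a Koszul-regular immersion followed by a smooth morphism) if and only if f is a
complete-intersection morphism in the fibrewise sense: flat, locally of finite presentation, and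
every local ring of every fibre is a complete intersection (its completion is a regular local ring
modulo a regular sequence). -/
theorem result {X Y : Scheme.{u}} (f : X ⟶ Y) [Flat f] [LocallyOfFinitePresentation f] :
    (∀ x : X, Synt.IsKoszulAt f x) ↔ CInt.IsCIMorphism f := by
  rw [CIntCI.isCIMorphism_iff]
  constructor
  · intro h
    rw [Synt44.isSyntomicMor_iff_appLE]
    intro V U e
    letI := (f.appLE V.1 U.1 e).hom.toAlgebra
    exact (S9287.result Γ(Y, V.1) Γ(X, U.1)).2 ⟨HasRingHomProperty.appLE @Flat f inferInstance V U e,
      FlatMor.LCIChart.isLCI_of_isKoszulAt f h U.1 V.1 U.2 V.2 e⟩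
  · intro h x
    obtain ⟨U, V, e, hxU, hs⟩ := h x
    letI := (f.appLE V.1 U.1 e).hom.toAlgebra
    exact FlatMor.LCIChart.isKoszulAt_of_isLCI f U.2 V.2 e ((S9287.result Γ(Y, V.1) Γ(X, U.1)).1 hs).2 x hxU

end Groth.Agent.S8660
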