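import Groth.Statements.S8367
import Groth.Agent.S2890
import Groth.Agent.S8660
import Groth.Agent.GrpScheme.Syntomic.Main
import Groth.Agent.RegImm44.Local
import Groth.Agent.Synt44.CISpread
-- import your own Groth.Agent.* helpers here

set_option autoImplicit false
universe u
open CategoryTheory MonObj AlgebraicGeometry
open SGA3
set_option linter.style.haveILetI false

namespace Groth.Agent.S8367

/-- A Koszul-regular closed immersion into a locally Noetherian scheme is a regular closed immersion. -/
theorem regular_of_koszul {X Y : Scheme.{u}} [IsLocallyNoetherian X] (i : Y ⟶ X) [IsClosedImmersion i]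
    (h : RegImm.IsRegularImmersion .koszul i) : Mor2.IsRegularClosedImmersion i := by
  refine (CIntCI.isRegularClosedImmersion_iff i).2 fun y => (CIntCI.exists_restrict_iff_at i y).1
    ((CIntImm.exists_restrict_iff i y).2 ?_)
  obtain ⟨⟨U, hU⟩, hyU, -, rs, hrs, hker⟩ := h.2 y
  haveI := CIntCI.isClosedImmersion_restrict' i U
  letI := TopCat.Presheaf.algebra_section_stalk X.presheaf (⟨i y, hyU⟩ : ↥U)
  haveI := hU.isLocalization_stalk ⟨i y, hyU⟩
  haveI : Module.Flat Γ(X, U) (X.presheaf.stalk (i y)) :=
    IsLocalization.flat _ ((hU.primeIdealOf ⟨i y, hyU⟩).asIdeal.primeCompl)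
  have hk : RingHom.ker (i.stalkMap y).hom =
      Ideal.ofList (rs.map (algebraMap Γ(X, U) (X.presheaf.stalk (i y)))) := by
    refine (RegImm38.ker_stalkMap_eq_map i hU y hyU).trans ?_
    rw [show RingHom.ker (i.app U).hom = Ideal.ofList rs from hker, Ideal.map_ofList]
    rfl
  have hne : Ideal.ofList rs ≠ ⊤ := RegImm38.ofList_ne_top i hU y hyU hker
  have hneS : Ideal.ofList (rs.map (algebraMap Γ(X, U) (X.presheaf.stalk (i y)))) ≠ ⊤ :=
    hk ▸ RingHom.ker_ne_top _
  have hseq : LCI.IsKoszulRegularSeq (X.presheaf.stalk (i y)) (rs.map (algebraMap Γ(X, U) (X.presheaf.stalk (i y)))) :=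
    RegImm38.seq_map_flat .koszul (algebraMap Γ(X, U) (X.presheaf.stalk (i y)))
      (RingHom.flat_algebraMap_iff.2 inferInstance) hrs hneS
  refine ⟨_, Synt44.isRegular_of_isKoszulRegularSeq hseq fun x hx => ?_, hk.symm⟩
  exact IsLocalRing.le_maximalIdeal (RingHom.ker_ne_top (i.stalkMap y).hom) (hk ▸ Ideal.subset_span hx)

/-- regularity of an immersion from that of its closed part -/
theorem regularAt_of_liftCoborder {X Y : Scheme.{u}} (i : Y ⟶ X) [IsImmersion i] (y : Y)
    (h : RegImm.IsRegularImmersionAt .regular i.liftCoborder y) : RegImm.IsRegularImmersionAt .regular i y := by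
  obtain ⟨⟨U, hU⟩, hy, -, rs, hrs, hk⟩ := h
  have hiy : i y ∈ i.coborderRange.ι ''ᵁ U :=
    ⟨i.liftCoborder y, hy, (Scheme.Hom.comp_apply i.liftCoborder i.coborderRange.ι y).symm.trans
      (congrArg (fun f : Y ⟶ X => f y) i.liftCoborder_ι)⟩
  refine ⟨⟨i.coborderRange.ι ''ᵁ U, (show IsAffineOpen U from hU).image_of_isOpenImmersion _⟩, hiy, ?_, rs, hrs, ?_⟩
  · haveI : IsImmersion (i ∣_ (i.coborderRange.ι ''ᵁ U)) :=
      MorphismProperty.of_isPullback (isPullback_morphismRestrict i _).flip inferInstance
    refine .of_isPreimmersion _ ?_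
    have hle : ((i.coborderRange.ι ''ᵁ U : X.Opens) : Set X) ⊆ coborder (Set.range i) := by
      rintro _ ⟨z, -, rfl⟩
      exact z.2
    have hr : Set.range (i ∣_ (i.coborderRange.ι ''ᵁ U)) =
        Set.inclusion hle ⁻¹' (Subtype.val ⁻¹' Set.range i) := by
      ext z
      constructor
      · rintro ⟨w, rfl⟩
        exact ⟨w.1, (morphismRestrict_base_coe i _ w).symm⟩
      · rintro ⟨w, hw⟩
        have hw' : w ∈ i ⁻¹ᵁ (i.coborderRange.ι ''ᵁ U) := by
          show i w ∈ (i.coborderRange.ι ''ᵁ U : X.Opens)
          rw [hw]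
          exact z.2
        exact ⟨⟨w, hw'⟩, Subtype.ext ((morphismRestrict_base_coe i _ ⟨w, hw'⟩).trans hw)⟩
    rw [hr]
    exact isClosed_preimage_val_coborder.preimage (continuous_inclusion hle)
  · refine Eq.trans ?_ hk
    show RingHom.ker (i.app (i.coborderRange.ι ''ᵁ U)).hom = RingHom.ker (i.liftCoborder.app U).hom
    rw [liftCoborder_app]
    refine Ideal.ext fun x => ?_
    show (i.app (i.coborderRange.ι ''ᵁ U)).hom x = 0 ↔
      (Y.presheaf.map (eqToHom <| i.liftCoborder_preimage U).op).hom ((i.app (i.coborderRange.ι ''ᵁ U)).hom x) = 0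
    exact (map_eq_zero_iff _ (ConcreteCategory.bijective_of_isIso
      (Y.presheaf.map (eqToHom <| i.liftCoborder_preimage U).op)).1).symm

end Groth.Agent.S8367

namespace Groth.Agent.S8367

/-- For a scheme S, a group scheme X smooth over S and a sub-group-scheme Y of X (a homomorphism of
S-group schemes from Y to X which is an immersion) with Y flat and locally of finite presentation
over S, the immersion of Y in X is regular: each point of Y has an affine open neighbourhood in X
over which the immersion is closed and cut out by a regular sequence. (The published statement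
concludes that Y is a local complete intersection in X, in the Koszul sense; this row states the
stronger conclusion that the immersion is regular, which is what the printed proof establishes.) -/
theorem result (S : Scheme.{u}) (X Y : Over S) [GrpObj X] [GrpObj Y]
    [Smooth X.hom] [Flat Y.hom] [LocallyOfFinitePresentation Y.hom] (i : Y ⟶ X) [IsMonHom i]
    [IsImmersion i.left] :
    RegImm.IsRegularImmersion .regular i.left := by
  let u := i.left.liftCoborder
  let g : (i.left.coborderRange : Scheme.{u}) ⟶ S := i.left.coborderRange.ι ≫ X.hom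
  have hug : u ≫ g = Y.hom := by
    show i.left.liftCoborder ≫ i.left.coborderRange.ι ≫ X.hom = _
    rw [Scheme.Hom.liftCoborder_ι_assoc, Over.w]
  haveI : Smooth g := inferInstanceAs (Smooth (i.left.coborderRange.ι ≫ X.hom))
  haveI : Flat g := inferInstance
  haveI : LocallyOfFinitePresentation g := inferInstance
  haveI : LocallyOfFinitePresentation (u ≫ g) := by rw [hug]; infer_instance
  haveI : Flat (u ≫ g) := by rw [hug]; infer_instance
  have hfib : ∀ s : S, Mor2.IsRegularClosedImmersion (CInt.fiberMap u g s) := fun s => by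
    haveI := CIntCI.isLocallyNoetherian_fiber g s
    haveI : IsClosedImmersion (CInt.fiberMap u g s) :=
      MorphismProperty.of_isPullback (CIntCodim.isPullback_fiberMap u g s).flip inferInstance
    haveI : IsImmersion (CInt.fiberMap u g s) :=
      { isLocallyClosed_range := (CInt.fiberMap u g s).isClosedEmbedding.isClosed_range.isLocallyClosed }
    refine regular_of_koszul _ ?_
    let p := S.fromSpecResidueField s
    let Ys := (Over.pullback p).obj Y
    letI : GrpObj Ys := Functor.grpObjObj
    haveI : Flat Ys.hom := inferInstanceAs (Flat (Limits.pullback.snd Y.hom p))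
    haveI : LocallyOfFinitePresentation Ys.hom :=
      inferInstanceAs (LocallyOfFinitePresentation (Limits.pullback.snd Y.hom p))
    haveI : Smooth (g.fiberToSpecResidueField s) := MorphismProperty.pullback_snd _ _ inferInstance
    have hk : ∀ x, Synt.IsKoszulAt (Limits.pullback.snd Y.hom p) x :=
      (S8660.result _).2 ((CIntCI.isCIMorphism_iff _).2 (GrpScheme.Syntomic.Main.isSyntomicMor Ys))
    have hk' : ∀ (f : Y.left ⟶ S) (_ : f = Y.hom), ∀ x, Synt.IsKoszulAt (Limits.pullback.snd f p) x := by
      rintro f rfl
      exact hk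
    exact RegImm44.isRegularImmersion_of_isKoszulAt (f := (u ≫ g).fiberToSpecResidueField s) (hk' _ hug)
      (g.fiberToSpecResidueField s) (CInt.fiberMap u g s)
      ((Limits.pullback.lift_snd _ _ _).trans (Category.comp_id _))
  have hu := ((S2890.result u g).2 ⟨fun y => Flat.stalkMap g (u y), inferInstance, hfib⟩).2
  exact ⟨inferInstance, fun y => regularAt_of_liftCoborder i.left y
    ((CIntCI.isRegularClosedImmersion_iff u).1 hu y)⟩

end Groth.Agent.S8367
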