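import Groth.Statements.S8368
import Groth.Agent.SqZeroKoszul.Basic
-- import your own Groth.Agent.* helpers here

set_option autoImplicit false
universe u
open SGA3

namespace Groth.Agent.S8368

/-- Let A be a commutative ring, J an ideal of A of square zero, B a flat A-algebra and f₁, …, f_d
elements of B (a linear map from a free B-module of rank d to B). If the reductions of the f_i to
B/JB form a Koszul-regular sequence and the quotient of B/JB by them is flat over A/J, then f₁, …,
f_d is a Koszul-regular sequence in B and B/(f₁, …, f_d) is flat over A. -/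
theorem result (A B : Type u) [CommRing A] [CommRing B] [Algebra A B]
    [Module.Flat A B] (J : Ideal A) (hJ : J * J = ⊥) (rs : List B)
    (hreg : LCI.IsKoszulRegularSeq (B ⧸ Ideal.map (algebraMap A B) J)
      (rs.map (Ideal.Quotient.mk (Ideal.map (algebraMap A B) J))))
    (hflat : Module.Flat (A ⧸ J) ((B ⧸ Ideal.map (algebraMap A B) J) ⧸
      Ideal.ofList (rs.map (Ideal.Quotient.mk (Ideal.map (algebraMap A B) J))))) :
    LCI.IsKoszulRegularSeq B rs ∧ Module.Flat A (B ⧸ Ideal.ofList rs) := by
  exact Groth.Agent.SqZeroKoszul.isKoszulRegularSeq_and_flat J hJ rs hreg hflat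

end Groth.Agent.S8368
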