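import Groth.Statements.S8369
import Mathlib

set_option autoImplicit false
universe u v
open SGA3

namespace Groth.Agent.S8369

/-- Let A be a commutative ring, J a nilpotent ideal, N ⊆ M A-modules with M/N flat over A. If elements
of N have images generating the image of N in M/JM, then they generate N. (The published statement
takes finitely many elements; this row allows an arbitrary set, which the same argument permits.) -/
theorem result (A : Type u) [CommRing A] (J : Ideal A) (hJ : IsNilpotent J)
    (M : Type v) [AddCommGroup M] [Module A M] (N : Submodule A M) [Module.Flat A (M ⧸ N)] (s : Set M)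
    (hs : s ⊆ N)
    (hgen : (Submodule.span A s).map (J • (⊤ : Submodule A M)).mkQ = N.map (J • (⊤ : Submodule A M)).mkQ) :
    Submodule.span A s = N := by
  have h1 : Submodule.span A s ≤ N := Submodule.span_le.mpr hs
  refine le_antisymm h1 ?_
  have h2 : N ≤ Submodule.span A s ⊔ J • N := by
    intro x hx
    have : (J • (⊤ : Submodule A M)).mkQ x ∈ (Submodule.span A s).map (J • (⊤ : Submodule A M)).mkQ :=
      hgen ▸ Submodule.mem_map_of_mem hx
    obtain ⟨y, hy, hyx⟩ := this
    rw [Submodule.mkQ_apply, Submodule.mkQ_apply, Submodule.Quotient.eq] at hyx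
    have hmem : x - y ∈ N := sub_mem hx (h1 hy)
    have key : ∀ z ∈ J • (⊤ : Submodule A M), ∃ (l : ℕ) (c : Fin l → A) (m : Fin l → M),
        (∀ i, c i ∈ J) ∧ z = ∑ i, c i • m i := fun z hz => by
      refine Submodule.smul_induction_on hz (fun r hr m _ => ⟨1, fun _ => r, fun _ => m, fun _ => hr, by simp⟩) ?_
      rintro a b ⟨l, c, m, hc, rfl⟩ ⟨l', c', m', hc', rfl⟩
      exact ⟨l + l', Fin.append c c', Fin.append m m',
        fun i => Fin.addCases (fun i => by simp [hc i]) (fun i => by simp [hc' i]) i,
        by simp [Fin.sum_univ_add]⟩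
    have h4 : x - y ∈ J • N := by
      obtain ⟨l, c, m, hc, hxy⟩ := key (x - y) (by simpa using neg_mem hyx)
      have h0 : ∑ i, c i • N.mkQ (m i) = 0 := by
        simp only [← map_smul, ← map_sum, ← hxy]
        exact (Submodule.Quotient.mk_eq_zero N).mpr hmem
      obtain ⟨k, a, w, hw, ha⟩ := Module.Flat.isTrivialRelation_of_sum_smul_eq_zero h0
      choose n hn using fun j => N.mkQ_surjective (w j)
      have hd : ∀ i, m i - ∑ j, a i j • n j ∈ N := fun i => by
        rw [← Submodule.Quotient.mk_eq_zero N, ← Submodule.mkQ_apply]
        simp only [map_sub, map_sum, map_smul, hn, ← hw, sub_self]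
      have : x - y = ∑ i, c i • (m i - ∑ j, a i j • n j) := by
        simp only [smul_sub, Finset.sum_sub_distrib, Finset.smul_sum, smul_smul, ← hxy]
        rw [Finset.sum_comm]
        simp only [← Finset.sum_smul, ha, zero_smul, Finset.sum_const_zero, sub_zero]
      rw [this]
      exact Submodule.sum_mem _ fun i _ => Submodule.smul_mem_smul (hc i) (hd i)
    rw [show x = y + (x - y) by abel]
    exact Submodule.add_mem_sup hy h4
  obtain ⟨n, hn⟩ := hJ
  have h5 : ∀ k, N ≤ Submodule.span A s ⊔ J ^ k • N := by
    intro k
    induction k with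
    | zero => simp
    | succ k ih =>
      refine ih.trans (sup_le le_sup_left ((Submodule.smul_mono le_rfl h2).trans ?_))
      rw [Submodule.smul_sup, pow_succ, Submodule.mul_smul]
      exact sup_le_sup_right Submodule.smul_le_right _
  simpa [hn] using h5 n


end Groth.Agent.S8369
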