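import Groth.Statements.S8383
import Mathlib.LinearAlgebra.Matrix.NonsingularInverse
import Mathlib.LinearAlgebra.Dual.Lemmas
import Mathlib.RingTheory.TensorProduct.Free
import Mathlib.LinearAlgebra.Matrix.ToLinearEquiv
-- import your own Groth.Agent.* helpers here

set_option autoImplicit false
universe u
open scoped TensorProduct
open SGA3t2b

namespace Groth.Agent.S8383

/-- Let k be a finite field with algebraic closure K, V a finite-dimensional vector space over k, and
θ₁, …, θₙ a basis of the dual of the K-vector space K ⊗ V. Then there is x ∈ V with θᵢ(1 ⊗ x) ≠ 0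
for every i. -/
theorem result (k : Type u) [Field k] [Finite k]
    (V : Type u) [AddCommGroup V] [Module k V] [Module.Finite k V] {ι : Type} [Fintype ι]
    (θ : Module.Basis ι (AlgebraicClosure k) (Module.Dual (AlgebraicClosure k) (AlgebraicClosure k ⊗[k] V))) :
    ∃ x : V, ∀ i : ι, θ i ((1 : AlgebraicClosure k) ⊗ₜ[k] x) ≠ 0 := by
  classical
  let K := AlgebraicClosure k
  have hcard : Module.finrank k V = Fintype.card ι := by
    rw [← Module.finrank_eq_card_basis θ, Subspace.dual_finrank_eq, Module.finrank_baseChange]
  let e : Module.Basis ι k V := (Module.finBasis k V).reindex (Fintype.equivFinOfCardEq hcard.symm).symm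
  let M : Matrix ι ι K := Matrix.of fun i j => θ i ((1 : K) ⊗ₜ[k] e j)
  have hM : M.det ≠ 0 := by
    rw [← isUnit_iff_ne_zero, ← Matrix.isUnit_iff_isUnit_det, ← Matrix.linearIndependent_rows_iff_isUnit,
      Fintype.linearIndependent_iff]
    intro g hg
    refine Fintype.linearIndependent_iff.1 θ.linearIndependent g ?_
    refine (Algebra.TensorProduct.basis K e).ext fun j => ?_
    have := congrFun hg j
    simp [M, Finset.sum_apply, Matrix.row] at this
    simpa [LinearMap.sum_apply] using this
  have key : ∀ s : Finset ι, ∃ N : Matrix ι ι K, N.det ≠ 0 ∧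
      (∀ i ∈ s, ∃ ψ : K →ₗ[k] k, ∀ j, N i j = algebraMap k K (ψ (M i j))) ∧
      ∀ i ∉ s, ∀ j, N i j = M i j := by
    intro s
    induction s using Finset.induction with
    | empty => exact ⟨M, hM, by simp, fun i _ j => rfl⟩
    | @insert a s has ih =>
      obtain ⟨N, hN, hs, hns⟩ := ih
      let b := Module.Basis.ofVectorSpace k K
      let S : Finset (Module.Basis.ofVectorSpaceIndex k K) :=
        Finset.univ.biUnion fun j => (b.repr (M a j)).support
      have hrow : (fun j => M a j) =
          ∑ l ∈ S, (b l) • fun j => algebraMap k K (b.repr (M a j) l) := by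
        funext j
        rw [Finset.sum_apply]
        refine ((b.linearCombination_repr (M a j)).symm.trans
          ((Finsupp.linearCombination_apply k _).trans (Finsupp.sum_of_support_subset _
            (show (b.repr (M a j)).support ⊆ S from Finset.subset_biUnion_of_mem
              (fun j => (b.repr (M a j)).support) (Finset.mem_univ j)) _
            (fun l _ => zero_smul k _)))).trans ?_
        refine Finset.sum_congr rfl fun l _ => ?_
        simp [Algebra.smul_def, mul_comm]
      let D : (ι → K) →ₗ[K] K := (Matrix.detRowAlternating (R := K)).toMultilinearMap.toLinearMap N a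
      have hD : ∀ r, D r = (Matrix.updateRow N a r).det := fun r => rfl
      obtain ⟨l, hl⟩ : ∃ l, D (fun j => algebraMap k K (b.repr (M a j) l)) ≠ 0 := by
        by_contra hc
        simp only [not_exists, not_not] at hc
        refine hN ?_
        have h0 : N = Matrix.updateRow N a (fun j => M a j) := by
          conv_lhs => rw [← Matrix.updateRow_eq_self N a]
          congr 1
          funext j
          exact hns a has j
        rw [h0, ← hD, hrow, map_sum]
        exact Finset.sum_eq_zero fun l _ => by rw [map_smul, hc l, smul_zero]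
      refine ⟨Matrix.updateRow N a fun j => algebraMap k K (b.repr (M a j) l), by rwa [← hD],
        fun i hi => ?_, fun i hi j => ?_⟩
      · rcases eq_or_ne i a with rfl | hne
        · exact ⟨b.coord l, fun j => by rw [Matrix.updateRow_self]; rfl⟩
        · obtain ⟨ψ, hψ⟩ := hs i ((Finset.mem_insert.1 hi).resolve_left hne)
          exact ⟨ψ, fun j => by rw [Matrix.updateRow_ne hne]; exact hψ j⟩
      · simp only [Finset.mem_insert, not_or] at hi
        rw [Matrix.updateRow_ne hi.1]
        exact hns i hi.2 j
  obtain ⟨N, hN, hψ, -⟩ := key Finset.univ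
  choose ψ hψ using fun i => hψ i (Finset.mem_univ i)
  let L : Matrix ι ι k := Matrix.of fun i j => ψ i (M i j)
  have hL : L.det ≠ 0 := by
    intro h
    refine hN ?_
    rw [show N = L.map (algebraMap k K) from Matrix.ext hψ, ← RingHom.mapMatrix_apply,
      ← RingHom.map_det, h, map_zero]
  obtain ⟨c, hc⟩ := (Matrix.mulVec_surjective_iff_isUnit.2
    ((Matrix.isUnit_iff_isUnit_det L).2 (isUnit_iff_ne_zero.2 hL))) 1
  refine ⟨∑ j, c j • e j, fun i hi => one_ne_zero (α := k) ?_⟩
  have h1 := congrArg (ψ i) hi
  rw [TensorProduct.tmul_sum, map_sum, map_sum, map_zero] at h1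
  simp only [TensorProduct.tmul_smul, LinearMap.map_smul_of_tower, map_smul, smul_eq_mul] at h1
  have h2 := congrFun hc i
  rw [Pi.one_apply] at h2
  rw [← h2, ← h1]
  exact Finset.sum_congr rfl fun j _ => mul_comm _ _

end Groth.Agent.S8383
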