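import Groth.Statements.S8384
import Mathlib.RingTheory.AdicCompletion.RingHom
-- import your own Groth.Agent.* helpers here

set_option autoImplicit false
universe u
open CategoryTheory MonoidalCategory CartesianMonoidalCategory MonObj GrpObj AlgebraicGeometry
open SGA3x

namespace Groth.Agent.S8384

/-- Let A be a local ring, separated and complete for the topology defined by its maximal ideal m, S =
Spec A and Sₙ = Spec(A/mⁿ). Then for every scheme X the canonical map Hom(S, X) → lim Hom(Sₙ, X) is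
bijective: two morphisms S → X that agree on every Sₙ are equal, and every family of morphisms Sₙ →
X compatible with the closed immersions Sₙ → Sₙ₊₁ is induced by a morphism S → X. -/
theorem result (A : Type u) [CommRing A] [IsLocalRing A]
    [IsAdicComplete (IsLocalRing.maximalIdeal A) A] (X : Scheme.{u}) :
    (∀ f g : (Spec (CommRingCat.of A)) ⟶ X,
      (∀ n : ℕ, (Spec.map (CommRingCat.ofHom (Ideal.Quotient.mk ((IsLocalRing.maximalIdeal A) ^ n)))) ≫ f = (Spec.map (CommRingCat.ofHom (Ideal.Quotient.mk ((IsLocalRing.maximalIdeal A) ^ n)))) ≫ g) → f = g) ∧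
    (∀ u : (n : ℕ) → (Spec (CommRingCat.of (A ⧸ (IsLocalRing.maximalIdeal A) ^ n)) ⟶ X),
      (∀ n : ℕ, (Spec.map (CommRingCat.ofHom (Ideal.Quotient.factor
          (Ideal.pow_le_pow_right (I := (IsLocalRing.maximalIdeal A)) (Nat.le_succ n))))) ≫ u (n + 1) = u n) →
      ∃ f : (Spec (CommRingCat.of A)) ⟶ X, ∀ n : ℕ, (Spec.map (CommRingCat.ofHom (Ideal.Quotient.mk ((IsLocalRing.maximalIdeal A) ^ n)))) ≫ f = u n) := by
  let I := IsLocalRing.maximalIdeal A
  let pt : Spec (CommRingCat.of A) := IsLocalRing.closedPoint A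
  have hin : ∀ (n : ℕ), 0 < n → pt ∈ Set.range (Spec.map (CommRingCat.ofHom (Ideal.Quotient.mk (I ^ n)))) := fun n hn => by
    have h : Nonempty (PrimeSpectrum (A ⧸ I ^ n)) := PrimeSpectrum.nonempty_iff_nontrivial.mpr
      (Ideal.Quotient.nontrivial_iff.mpr fun e => (IsLocalRing.maximalIdeal.isMaximal A).ne_top
        (top_unique (e ▸ Ideal.pow_le_self hn.ne')))
    obtain ⟨q⟩ := h
    refine ⟨q, PrimeSpectrum.ext ?_⟩
    show q.asIdeal.comap (Ideal.Quotient.mk (I ^ n)) = I
    refine le_antisymm (IsLocalRing.le_maximalIdeal (Ideal.IsPrime.ne_top inferInstance)) ?_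
    refine (Ideal.IsPrime.pow_le_iff hn.ne').mp ?_
    intro a ha
    show Ideal.Quotient.mk (I ^ n) a ∈ q.asIdeal
    rw [Ideal.Quotient.eq_zero_iff_mem.mpr ha]
    exact zero_mem _
  refine ⟨fun f g h => ?_, fun u hu => ?_⟩
  · obtain ⟨q, hq⟩ := hin 1 one_pos
    have hfg : f.base pt = g.base pt := by
      rw [← hq, ← Scheme.Hom.comp_apply, ← Scheme.Hom.comp_apply, h 1]
    obtain ⟨U, hU, hmem, -⟩ := exists_isAffineOpen_mem_and_subset (x := f.base pt) (U := ⊤) trivial
    have lf : ∀ k : Spec (CommRingCat.of A) ⟶ X, k.base pt ∈ U → ∃ φ : Γ(X, U) ⟶ CommRingCat.of A, Spec.map φ ≫ hU.fromSpec = k := fun k hk => by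
      have hr : Set.range k.base ⊆ Set.range hU.fromSpec := by
        rw [IsAffineOpen.range_fromSpec]
        rintro _ ⟨z, rfl⟩
        exact (Scheme.preimage_eq_top_of_closedPoint_mem k hk).ge (trivial : z ∈ (⊤ : (Spec (CommRingCat.of A)).Opens))
      have : IsOpenImmersion hU.fromSpec := IsAffineOpen.isOpenImmersion_fromSpec hU
      obtain ⟨φ, hφ⟩ := Spec.map_surjective (IsOpenImmersion.lift hU.fromSpec k hr)
      exact ⟨φ, by rw [hφ, IsOpenImmersion.lift_fac]⟩
    obtain ⟨φ, rfl⟩ := lf f hmem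
    obtain ⟨ψ, rfl⟩ := lf g (hfg ▸ hmem)
    congr 2
    refine CommRingCat.hom_ext (RingHom.ext fun a => sub_eq_zero.mp (IsHausdorff.haus (inferInstance : IsHausdorff I A) _ fun n => ?_))
    have : IsOpenImmersion hU.fromSpec := IsAffineOpen.isOpenImmersion_fromSpec hU
    have h1 := h n
    rw [← Category.assoc, ← Category.assoc, cancel_mono, ← Spec.map_comp, ← Spec.map_comp] at h1
    have h2 := DFunLike.congr_fun (congrArg CommRingCat.Hom.hom (Spec.map_injective h1)) a
    rw [smul_eq_mul, Ideal.mul_top, SModEq.zero]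
    exact Ideal.Quotient.eq.mp h2
  · obtain ⟨q, hq⟩ := hin 1 one_pos
    let x₀ := (u 1).base q
    obtain ⟨U, hU, hmem, -⟩ := exists_isAffineOpen_mem_and_subset (x := x₀) (U := ⊤) trivial
    have : IsOpenImmersion hU.fromSpec := IsAffineOpen.isOpenImmersion_fromSpec hU
    let tr : ∀ n : ℕ, Spec (CommRingCat.of (A ⧸ I ^ (n + 1))) ⟶ Spec (CommRingCat.of (A ⧸ I ^ (n + 2))) := fun n =>
      Spec.map (CommRingCat.ofHom (Ideal.Quotient.factor (Ideal.pow_le_pow_right (Nat.le_succ (n + 1)))))
    have hsub : ∀ (m : ℕ) (y z : Spec (CommRingCat.of (A ⧸ I ^ (m + 1)))), y = z := fun m y z => by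
      refine PrimeSpectrum.ext ?_
      have key : ∀ w : PrimeSpectrum (A ⧸ I ^ (m + 1)), w.asIdeal.comap (Ideal.Quotient.mk (I ^ (m + 1))) = I := fun w => by
        refine le_antisymm (IsLocalRing.le_maximalIdeal (Ideal.IsPrime.ne_top inferInstance)) ?_
        refine (Ideal.IsPrime.pow_le_iff m.succ_ne_zero).mp ?_
        intro a ha
        show Ideal.Quotient.mk (I ^ (m + 1)) a ∈ w.asIdeal
        rw [Ideal.Quotient.eq_zero_iff_mem.mpr ha]
        exact zero_mem _
      exact Ideal.comap_injective_of_surjective _ Ideal.Quotient.mk_surjective ((key y).trans (key z).symm)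
    have hall : ∀ m y, (u (m + 1)).base y ∈ U := fun m => by
      induction m with
      | zero => intro y; rw [hsub 0 y q]; exact hmem
      | succ m ih =>
        intro y
        obtain ⟨z⟩ : Nonempty (Spec (CommRingCat.of (A ⧸ I ^ (m + 1)))) := by
          obtain ⟨z, -⟩ := hin (m + 1) m.succ_pos
          exact ⟨z⟩
        rw [hsub (m + 1) y ((tr m).base z), ← Scheme.Hom.comp_apply, show tr m ≫ u (m + 2) = u (m + 1) from hu (m + 1)]
        exact ih z
    have hex : ∀ m, ∃ φ : Γ(X, U) ⟶ CommRingCat.of (A ⧸ I ^ (m + 1)), Spec.map φ ≫ hU.fromSpec = u (m + 1) := fun m => by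
      have hr : Set.range (u (m + 1)).base ⊆ Set.range hU.fromSpec := by
        rw [IsAffineOpen.range_fromSpec]
        rintro _ ⟨z, rfl⟩
        exact hall m z
      obtain ⟨φ, hφ⟩ := Spec.map_surjective (IsOpenImmersion.lift hU.fromSpec (u (m + 1)) hr)
      exact ⟨φ, by rw [hφ, IsOpenImmersion.lift_fac]⟩
    choose φ hφ using hex
    have hcomp : ∀ m, φ (m + 1) ≫ CommRingCat.ofHom (Ideal.Quotient.factor (Ideal.pow_le_pow_right (Nat.le_succ (m + 1)))) = φ m := fun m => by
      apply Spec.map_injective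
      rw [← cancel_mono hU.fromSpec, Spec.map_comp, Category.assoc, hφ, hφ]
      exact hu (m + 1)
    let l : Γ(X, U) →+* A := IsAdicComplete.StrictMono.liftRingHom I
      (a := fun m => m + 1) (fun a b h => Nat.add_lt_add_right h 1) (fun m => (φ m).hom)
      (fun {m} => congrArg CommRingCat.Hom.hom (hcomp m))
    refine ⟨Spec.map (CommRingCat.ofHom l) ≫ hU.fromSpec, fun n => ?_⟩
    match n with
    | 0 =>
      have : Subsingleton (A ⧸ I ^ 0) := Ideal.Quotient.subsingleton_iff.mpr (by rw [pow_zero, Ideal.one_eq_top])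
      have : IsEmpty (Spec (CommRingCat.of (A ⧸ (IsLocalRing.maximalIdeal A) ^ 0))) :=
        inferInstanceAs (IsEmpty (PrimeSpectrum (A ⧸ I ^ 0)))
      exact (isInitialOfIsEmpty (X := Spec (CommRingCat.of (A ⧸ (IsLocalRing.maximalIdeal A) ^ 0)))).hom_ext _ _
    | m + 1 =>
      rw [← hφ m, ← Category.assoc, ← Spec.map_comp]
      have e : CommRingCat.ofHom l ≫ CommRingCat.ofHom (Ideal.Quotient.mk (I ^ (m + 1))) = φ m :=
        CommRingCat.hom_ext (RingHom.ext fun a => IsAdicComplete.StrictMono.mk_liftRingHom I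
          (a := fun m => m + 1) (fun a b h => Nat.add_lt_add_right h 1) (fun m => (φ m).hom)
          (fun {m} => congrArg CommRingCat.Hom.hom (hcomp m)) (n := m) a)
      exact congrArg (fun z => Spec.map z ≫ hU.fromSpec) e


end Groth.Agent.S8384
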