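import Groth.Statements.S8385
import Groth.Agent.Hensel.Local
import Groth.Agent.Adic.Basic
import Mathlib.AlgebraicGeometry.PointsPi
import Mathlib.RingTheory.AdicCompletion.RingHom
-- import your own Groth.Agent.* helpers here

set_option autoImplicit false
universe u
open CategoryTheory MonoidalCategory CartesianMonoidalCategory MonObj GrpObj AlgebraicGeometry
open SGA3x

namespace Groth.Agent.S8385

section Pi

variable {κ : Type u} [Fintype κ] {B : Type u} [CommRing B] {e : κ → B}

/-- The piece of the spectrum cut out by an idempotent. -/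
noncomputable abbrev piece (e : κ → B) (i : κ) :
    Spec (CommRingCat.of (B ⧸ Ideal.span {1 - e i})) ⟶ Spec (CommRingCat.of B) :=
  Spec.map (CommRingCat.ofHom (Ideal.Quotient.mk (Ideal.span {1 - e i})))

/-- The spectrum is the sum of the pieces cut out by complete orthogonal idempotents. -/
theorem exists_unique_desc (he : CompleteOrthogonalIdempotents e) {Y : Scheme.{u}}
    (φ : ∀ i, Spec (CommRingCat.of (B ⧸ Ideal.span {1 - e i})) ⟶ Y) :
    ∃! f : Spec (CommRingCat.of B) ⟶ Y, ∀ i, piece e i ≫ f = φ i := by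
  let R : κ → CommRingCat.{u} := fun i => CommRingCat.of (B ⧸ Ideal.span {1 - e i})
  let π : CommRingCat.of B ⟶ CommRingCat.of (∀ i, R i) :=
    CommRingCat.ofHom (RingHom.pi fun i => Ideal.Quotient.mk (Ideal.span {1 - e i}))
  have : IsIso π := by
    rw [ConcreteCategory.isIso_iff_bijective]
    exact he.bijective_pi
  have hpiece : ∀ i, piece e i = Limits.Sigma.ι (fun i => Spec (R i)) i ≫ sigmaSpec R ≫ Spec.map π := fun i => by
    rw [ι_sigmaSpec_assoc, ← Spec.map_comp]
    rfl
  have : IsIso (Spec.map π) := inferInstance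
  have : IsIso (sigmaSpec R) := inferInstance
  have : IsIso (sigmaSpec R ≫ Spec.map π) := IsIso.comp_isIso
  refine ⟨inv (sigmaSpec R ≫ Spec.map π) ≫ Limits.Sigma.desc φ, fun i => ?_, fun g hg => ?_⟩
  · rw [hpiece, Category.assoc, IsIso.hom_inv_id_assoc]
    exact Limits.Sigma.ι_desc φ i
  · rw [← cancel_epi (sigmaSpec R ≫ Spec.map π), IsIso.hom_inv_id_assoc]
    refine Limits.Sigma.hom_ext _ _ fun i => ?_
    rw [Limits.Sigma.ι_desc, ← Category.assoc, ← hpiece]
    exact hg i

theorem hom_ext_idem (he : CompleteOrthogonalIdempotents e) {Y : Scheme.{u}}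
    {f g : Spec (CommRingCat.of B) ⟶ Y} (h : ∀ i, piece e i ≫ f = piece e i ≫ g) : f = g :=
  (exists_unique_desc he fun i => piece e i ≫ g).unique h fun _ => rfl

end Pi

section Local

variable {A : Type u} [CommRing A] [IsLocalRing A] [IsNoetherianRing A]
  [IsAdicComplete (IsLocalRing.maximalIdeal A) A] {C : Type u} [CommRing C] [Algebra A C] [Module.Finite A C]
  [IsLocalRing C]

variable (A C) in
/-- The closed subscheme of the `n`-th truncation. -/
noncomputable abbrev trunc (n : ℕ) :
    Spec (CommRingCat.of (C ⧸ Ideal.map (algebraMap A C) ((IsLocalRing.maximalIdeal A) ^ n))) ⟶ Spec (CommRingCat.of C) :=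
  Spec.map (CommRingCat.ofHom (Ideal.Quotient.mk _))

theorem complete : IsAdicComplete ((IsLocalRing.maximalIdeal A).map (algebraMap A C)) C := by
  have : IsAdicComplete (IsLocalRing.maximalIdeal A) C := Groth.Agent.Adic.isAdicComplete_of_finite _
  exact (IsAdicComplete.map_algebraMap_iff (IsLocalRing.maximalIdeal A) C).mpr this

theorem ringHom_ext {R : Type u} [CommRing R] {a b : R →+* C}
    (h : ∀ n, (Ideal.Quotient.mk (Ideal.map (algebraMap A C) ((IsLocalRing.maximalIdeal A) ^ n))).comp a =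
      (Ideal.Quotient.mk _).comp b) : a = b := by
  have : IsAdicComplete ((IsLocalRing.maximalIdeal A).map (algebraMap A C)) C := complete
  apply DFunLike.coe_injective
  refine IsHausdorff.funext' ((IsLocalRing.maximalIdeal A).map (algebraMap A C)) fun n x => ?_
  have hx := congr($(h n) x)
  simp only [RingHom.comp_apply] at hx
  rw [Ideal.Quotient.eq, Ideal.map_pow] at hx
  exact Ideal.Quotient.eq.mpr hx

theorem J_ne_top {n : ℕ} (hn : 1 ≤ n) : Ideal.map (algebraMap A C) ((IsLocalRing.maximalIdeal A) ^ n) ≠ ⊤ := by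
  have : IsAdicComplete ((IsLocalRing.maximalIdeal A).map (algebraMap A C)) C := complete
  intro h
  rw [Ideal.map_pow, Ideal.pow_eq_top_iff] at h
  rcases h with h | h
  · have hj := IsAdicComplete.le_jacobson_bot ((IsLocalRing.maximalIdeal A).map (algebraMap A C))
    rw [h, top_le_iff, IsLocalRing.jacobson_eq_maximalIdeal _ bot_ne_top] at hj
    exact (IsLocalRing.maximalIdeal.isMaximal C).ne_top hj
  · omega

/-- All points of a truncation go to any open containing the closed point of the first one. -/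
theorem range_subset {Y : Scheme.{u}}
    (u : (n : ℕ) → (Spec (CommRingCat.of (C ⧸ Ideal.map (algebraMap A C) ((IsLocalRing.maximalIdeal A) ^ n))) ⟶ Y))
    (hu : ∀ n : ℕ, Spec.map (CommRingCat.ofHom (Ideal.Quotient.factor
          (Ideal.map_mono (Ideal.pow_le_pow_right (I := (IsLocalRing.maximalIdeal A)) (Nat.le_succ n))))) ≫ u (n + 1) = u n) :
    ∃ U : Y.Opens, IsAffineOpen U ∧ ∀ n, Set.range (u n) ⊆ U := by
  let cp : ∀ n, 1 ≤ n → Spec (CommRingCat.of (C ⧸ Ideal.map (algebraMap A C) ((IsLocalRing.maximalIdeal A) ^ n))) := fun n hn =>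
    have := Ideal.Quotient.nontrivial_iff.mpr (J_ne_top (A := A) (C := C) hn)
    have := IsLocalRing.of_surjective' (Ideal.Quotient.mk (Ideal.map (algebraMap A C) ((IsLocalRing.maximalIdeal A) ^ n)))
      Ideal.Quotient.mk_surjective
    IsLocalRing.closedPoint _
  have hcp : ∀ n hn, u n (cp n hn) = u 1 (cp 1 le_rfl) := by
    intro n hn
    induction n, hn using Nat.le_induction with
    | base => rfl
    | succ n hn ih =>
      rw [← ih, ← hu n, Scheme.Hom.comp_apply]
      congr 1
      have := Ideal.Quotient.nontrivial_iff.mpr (J_ne_top (A := A) (C := C) hn)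
      have := IsLocalRing.of_surjective' (Ideal.Quotient.mk (Ideal.map (algebraMap A C) ((IsLocalRing.maximalIdeal A) ^ n)))
        Ideal.Quotient.mk_surjective
      have := Ideal.Quotient.nontrivial_iff.mpr (J_ne_top (A := A) (C := C) (n := n + 1) (by omega))
      have := IsLocalRing.of_surjective' (Ideal.Quotient.mk (Ideal.map (algebraMap A C) ((IsLocalRing.maximalIdeal A) ^ (n + 1))))
        Ideal.Quotient.mk_surjective
      refine (PrimeSpectrum.ext ?_).symm
      refine IsLocalRing.eq_maximalIdeal ?_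
      exact Ideal.comap_isMaximal_of_surjective
        (K := IsLocalRing.maximalIdeal (C ⧸ Ideal.map (algebraMap A C) ((IsLocalRing.maximalIdeal A) ^ n)))
        (Ideal.Quotient.factor (Ideal.map_mono (f := algebraMap A C)
          (Ideal.pow_le_pow_right (I := (IsLocalRing.maximalIdeal A)) (Nat.le_succ n))))
        (Ideal.Quotient.factor_surjective _)
  obtain ⟨_, ⟨U, hU, rfl⟩, hyU, -⟩ :=
    Y.isBasis_affineOpens.exists_subset_of_mem_open (Set.mem_univ (u 1 (cp 1 le_rfl))) isOpen_univ
  refine ⟨U, hU, fun n => ?_⟩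
  rintro _ ⟨x, rfl⟩
  rcases Nat.eq_zero_or_pos n with rfl | hn
  · exact absurd (PrimeSpectrum.isPrime x) (by
      have : Ideal.map (algebraMap A C) ((IsLocalRing.maximalIdeal A) ^ 0) = ⊤ := by simp [Ideal.map_top]
      have := Ideal.Quotient.subsingleton_iff.mpr this
      exact fun hp => hp.ne_top (Subsingleton.elim _ _))
  · have := Ideal.Quotient.nontrivial_iff.mpr (J_ne_top (A := A) (C := C) hn)
    have := IsLocalRing.of_surjective' (Ideal.Quotient.mk (Ideal.map (algebraMap A C) ((IsLocalRing.maximalIdeal A) ^ n)))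
        Ideal.Quotient.mk_surjective
    refine ((IsLocalRing.specializes_closedPoint x).map (u n).continuous).mem_open U.2 ?_
    show u n (cp n hn) ∈ U
    rw [hcp n hn]
    exact hyU

theorem local_eq (Y : Scheme.{u}) (f g : Spec (CommRingCat.of C) ⟶ Y)
    (h : ∀ n, trunc A C n ≫ f = trunc A C n ≫ g) : f = g := by
  obtain ⟨U, hU, hr⟩ := range_subset (fun n => trunc A C n ≫ f) fun n => by
    rw [← Category.assoc, ← Spec.map_comp]; rfl
  have hcl : ∃ c, trunc A C 1 c = IsLocalRing.closedPoint C := by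
    refine ⟨?_, ?_⟩
    · have := Ideal.Quotient.nontrivial_iff.mpr (J_ne_top (A := A) (C := C) (le_refl 1))
      have := IsLocalRing.of_surjective' (Ideal.Quotient.mk (Ideal.map (algebraMap A C) ((IsLocalRing.maximalIdeal A) ^ 1)))
        Ideal.Quotient.mk_surjective
      exact IsLocalRing.closedPoint _
    · refine PrimeSpectrum.ext (IsLocalRing.eq_maximalIdeal ?_)
      have := Ideal.Quotient.nontrivial_iff.mpr (J_ne_top (A := A) (C := C) (le_refl 1))
      have := IsLocalRing.of_surjective' (Ideal.Quotient.mk (Ideal.map (algebraMap A C) ((IsLocalRing.maximalIdeal A) ^ 1)))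
        Ideal.Quotient.mk_surjective
      exact Ideal.comap_isMaximal_of_surjective
        (K := IsLocalRing.maximalIdeal (C ⧸ Ideal.map (algebraMap A C) ((IsLocalRing.maximalIdeal A) ^ 1))) _
        Ideal.Quotient.mk_surjective
  obtain ⟨c, hc⟩ := hcl
  have hf : f (IsLocalRing.closedPoint C) ∈ U := hr 1 ⟨c, by rw [Scheme.Hom.comp_apply, hc]⟩
  have hg : g (IsLocalRing.closedPoint C) ∈ U := by
    rw [← hc, ← Scheme.Hom.comp_apply, ← h, Scheme.Hom.comp_apply, hc]; exact hf
  have key : ∀ k : Spec (CommRingCat.of C) ⟶ Y, k (IsLocalRing.closedPoint C) ∈ U →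
      ∃ a : Γ(Y, U) ⟶ CommRingCat.of C, Spec.map a ≫ hU.fromSpec = k := fun k hk => by
    obtain ⟨a, ha⟩ := Spec.map_surjective (IsOpenImmersion.lift hU.fromSpec k (by
      rw [hU.range_fromSpec]
      rintro _ ⟨x, rfl⟩
      exact ((IsLocalRing.specializes_closedPoint x).map k.continuous).mem_open U.2 hk))
    exact ⟨a, by rw [ha, IsOpenImmersion.lift_fac]⟩
  obtain ⟨a, ha⟩ := key f hf
  obtain ⟨b, hb⟩ := key g hg
  suffices hab : a = b by rw [← ha, ← hb, hab]
  ext1
  refine ringHom_ext (A := A) fun n => ?_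
  have := h n
  rw [← ha, ← hb, ← Spec.map_comp_assoc, ← Spec.map_comp_assoc, cancel_mono] at this
  exact congrArg CommRingCat.Hom.hom (Spec.map_injective this)

theorem local_exists (Y : Over (Spec (CommRingCat.of A)))
    (u : (n : ℕ) → (Spec (CommRingCat.of (C ⧸ Ideal.map (algebraMap A C) ((IsLocalRing.maximalIdeal A) ^ n))) ⟶ Y.left))
    (hY : ∀ n : ℕ, u n ≫ Y.hom =
        Spec.map (CommRingCat.ofHom ((Ideal.Quotient.mk (Ideal.map (algebraMap A C) ((IsLocalRing.maximalIdeal A) ^ n))).comp (algebraMap A C))))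
    (hu : ∀ n : ℕ, Spec.map (CommRingCat.ofHom (Ideal.Quotient.factor
          (Ideal.map_mono (Ideal.pow_le_pow_right (I := (IsLocalRing.maximalIdeal A)) (Nat.le_succ n))))) ≫ u (n + 1) = u n) :
    ∃ f : Spec (CommRingCat.of C) ⟶ Y.left, f ≫ Y.hom = Spec.map (CommRingCat.ofHom (algebraMap A C)) ∧
      ∀ n, trunc A C n ≫ f = u n := by
  obtain ⟨U, hU, hr⟩ := range_subset u hu
  choose ψ hψ using fun n => Spec.map_surjective (IsOpenImmersion.lift hU.fromSpec (u n) (by
    rw [hU.range_fromSpec]; exact hr n))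
  have hψ' : ∀ n, Spec.map (ψ n) ≫ hU.fromSpec = u n := fun n => by rw [hψ, IsOpenImmersion.lift_fac]
  let I := (IsLocalRing.maximalIdeal A).map (algebraMap A C)
  have : IsAdicComplete I C := complete
  let ε : ∀ n, C ⧸ Ideal.map (algebraMap A C) ((IsLocalRing.maximalIdeal A) ^ n) →+* C ⧸ I ^ n := fun n =>
    (Ideal.quotEquivOfEq (Ideal.map_pow _ _ n)).toRingHom
  have hε : ∀ n, Function.Injective (ε n) := fun n => (Ideal.quotEquivOfEq (Ideal.map_pow _ _ n)).injective
  let Ψ : ∀ n, Γ(Y.left, U) →+* C ⧸ I ^ n := fun n => (ε n).comp (ψ n).hom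
  have hsucc : ∀ n x, Ideal.Quotient.factor
      (Ideal.map_mono (Ideal.pow_le_pow_right (I := (IsLocalRing.maximalIdeal A)) (Nat.le_succ n))) (ψ (n + 1) x) = ψ n x := fun n x => by
    have e := hu n
    rw [← hψ', ← hψ', ← Spec.map_comp_assoc, cancel_mono] at e
    exact congr($(Spec.map_injective e) x)
  have hfac : ∀ {m n : ℕ} (hle : m ≤ n), (Ideal.Quotient.factorPow I hle).comp (Ψ n) = Ψ m := by
    intro m n hle
    refine RingHom.ext fun x => ?_
    induction n, hle using Nat.le_induction with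
    | base =>
      obtain ⟨c, hc⟩ := Ideal.Quotient.mk_surjective (ψ m x)
      show Ideal.Quotient.factorPow I le_rfl (ε m (ψ m x)) = ε m (ψ m x)
      rw [← hc]; rfl
    | succ n hmn ih =>
      rw [← ih]
      show Ideal.Quotient.factorPow I (Nat.le_succ_of_le hmn) (ε (n + 1) (ψ (n + 1) x)) = Ideal.Quotient.factorPow I hmn (ε n (ψ n x))
      obtain ⟨c, hc⟩ := Ideal.Quotient.mk_surjective (ψ (n + 1) x)
      rw [← hsucc n x, ← hc]
      rfl
  let Φ := IsAdicComplete.liftRingHom I Ψ hfac
  have hΦ : ∀ n, trunc A C n ≫ Spec.map (CommRingCat.ofHom Φ) ≫ hU.fromSpec = u n := fun n => by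
    rw [← hψ' n, ← Spec.map_comp_assoc]
    congr 2
    ext x
    exact hε n (IsAdicComplete.mk_liftRingHom I Ψ hfac n x)
  refine ⟨Spec.map (CommRingCat.ofHom Φ) ≫ hU.fromSpec, local_eq (A := A) _ _ _ fun n => ?_, hΦ⟩
  rw [← Category.assoc, hΦ, hY, ← Spec.map_comp]
  rfl

end Local

/-- Let A be a complete Noetherian local ring with maximal ideal m, S = Spec A, Sₙ = Spec(A/mⁿ), X =
Spec B a scheme finite over S (B a finite A-algebra) and Y an S-scheme. Then the canonical map
Hom_S(X, Y) → lim Hom_{Sₙ}(Xₙ, Yₙ), Xₙ = Spec(B/mⁿB), is bijective: two S-morphisms X → Y agreeing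
on every Xₙ are equal, and every family of S-morphisms Xₙ → Y compatible with the closed immersions
Xₙ → Xₙ₊₁ comes from an S-morphism X → Y. -/
theorem result (A : Type u) [CommRing A] [IsLocalRing A]
    [IsNoetherianRing A] [IsAdicComplete (IsLocalRing.maximalIdeal A) A] (B : Type u) [CommRing B] [Algebra A B]
    [Module.Finite A B] (Y : Over (Spec (CommRingCat.of A))) :
    (∀ f g : Spec (CommRingCat.of B) ⟶ Y.left, f ≫ Y.hom = Spec.map (CommRingCat.ofHom (algebraMap A B)) →
      g ≫ Y.hom = Spec.map (CommRingCat.ofHom (algebraMap A B)) →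
      (∀ n : ℕ, Spec.map (CommRingCat.ofHom (Ideal.Quotient.mk (Ideal.map (algebraMap A B) ((IsLocalRing.maximalIdeal A) ^ n)))) ≫ f =
        Spec.map (CommRingCat.ofHom (Ideal.Quotient.mk (Ideal.map (algebraMap A B) ((IsLocalRing.maximalIdeal A) ^ n)))) ≫ g) → f = g) ∧
    (∀ u : (n : ℕ) → (Spec (CommRingCat.of (B ⧸ (Ideal.map (algebraMap A B) ((IsLocalRing.maximalIdeal A) ^ n)))) ⟶ Y.left),
      (∀ n : ℕ, u n ≫ Y.hom =
        Spec.map (CommRingCat.ofHom ((Ideal.Quotient.mk (Ideal.map (algebraMap A B) ((IsLocalRing.maximalIdeal A) ^ n))).comp (algebraMap A B)))) →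
      (∀ n : ℕ, Spec.map (CommRingCat.ofHom (Ideal.Quotient.factor
          (Ideal.map_mono (Ideal.pow_le_pow_right (I := (IsLocalRing.maximalIdeal A)) (Nat.le_succ n))))) ≫ u (n + 1) = u n) →
      ∃ f : Spec (CommRingCat.of B) ⟶ Y.left, f ≫ Y.hom = Spec.map (CommRingCat.ofHom (algebraMap A B)) ∧
        ∀ n : ℕ, Spec.map (CommRingCat.ofHom (Ideal.Quotient.mk (Ideal.map (algebraMap A B) ((IsLocalRing.maximalIdeal A) ^ n)))) ≫ f = u n) := by
  have : HenselianRing A (IsLocalRing.maximalIdeal A) := inferInstance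
  have : HenselianLocalRing A := ⟨fun f hf a₀ h₁ h₂ => HenselianRing.is_henselian (I := IsLocalRing.maximalIdeal A) f hf a₀ h₁
    (h₂.map (Ideal.Quotient.mk (IsLocalRing.maximalIdeal A)))⟩
  obtain ⟨N, e₀, he₀, hloc₀⟩ := Groth.Agent.Hensel.exists_pi_local (R := A) B
  let e : ULift.{u} (Fin N) → B := e₀ ∘ Equiv.ulift
  have he : CompleteOrthogonalIdempotents e := (CompleteOrthogonalIdempotents.equiv (e := e₀) Equiv.ulift).mpr he₀
  have hloc : ∀ i, IsLocalRing (B ⧸ Ideal.span {1 - e i}) := fun i => hloc₀ i.down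
  let J : ℕ → Ideal B := fun n => Ideal.map (algebraMap A B) ((IsLocalRing.maximalIdeal A) ^ n)
  let q : ∀ n i, B ⧸ J n →+*
      (B ⧸ Ideal.span {1 - e i}) ⧸ Ideal.map (algebraMap A (B ⧸ Ideal.span {1 - e i})) ((IsLocalRing.maximalIdeal A) ^ n) :=
    fun n i => Ideal.Quotient.lift _ ((Ideal.Quotient.mk _).comp (Ideal.Quotient.mk _)) fun a ha => by
      rw [RingHom.comp_apply, Ideal.Quotient.eq_zero_iff_mem, IsScalarTower.algebraMap_eq A B (B ⧸ Ideal.span {1 - e i}),
        ← Ideal.map_map]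
      exact Ideal.mem_map_of_mem _ ha
  refine ⟨fun f g hf hg h => hom_ext_idem he fun i => ?_, fun u hY hu => ?_⟩
  · have := hloc i
    refine local_eq (A := A) Y.left _ _ fun n => ?_
    have hq : trunc A (B ⧸ Ideal.span {1 - e i}) n ≫ piece e i =
        Spec.map (CommRingCat.ofHom (q n i)) ≫ Spec.map (CommRingCat.ofHom (Ideal.Quotient.mk (J n))) := by
      rw [← Spec.map_comp, ← Spec.map_comp]; rfl
    rw [reassoc_of% hq, reassoc_of% hq, h n]
  · have key : ∀ i, ∃ f : Spec (CommRingCat.of (B ⧸ Ideal.span {1 - e i})) ⟶ Y.left,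
        f ≫ Y.hom = Spec.map (CommRingCat.ofHom (algebraMap A (B ⧸ Ideal.span {1 - e i}))) ∧
          ∀ n, trunc A (B ⧸ Ideal.span {1 - e i}) n ≫ f = Spec.map (CommRingCat.ofHom (q n i)) ≫ u n := fun i => by
      have := hloc i
      refine local_exists Y (fun n => Spec.map (CommRingCat.ofHom (q n i)) ≫ u n) (fun n => ?_) (fun n => ?_)
      · rw [Category.assoc, hY, ← Spec.map_comp]; rfl
      · rw [← hu n, ← Spec.map_comp_assoc, ← Spec.map_comp_assoc]
        congr 2
        ext b
        rfl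
    choose φ hφY hφ using key
    obtain ⟨f, hf, -⟩ := exists_unique_desc he φ
    refine ⟨f, hom_ext_idem he fun i => ?_, fun n => ?_⟩
    · rw [reassoc_of% (hf i), hφY, ← Spec.map_comp]; rfl
    · refine hom_ext_idem (he.map (Ideal.Quotient.mk (J n))) fun i => ?_
      -- the piece of the truncation is covered by the truncation of the piece
      let C := B ⧸ Ideal.span {1 - e i}
      let ρ : C →+* (B ⧸ J n) ⧸ Ideal.span {1 - Ideal.Quotient.mk (J n) (e i)} :=
        Ideal.Quotient.lift _ ((Ideal.Quotient.mk _).comp (Ideal.Quotient.mk _)) fun a ha => by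
          obtain ⟨c, rfl⟩ := Ideal.mem_span_singleton'.mp ha
          rw [RingHom.comp_apply, Ideal.Quotient.eq_zero_iff_mem, map_mul, map_sub, map_one]
          exact Ideal.mul_mem_left _ _ (Ideal.mem_span_singleton_self _)
      let σ : C ⧸ Ideal.map (algebraMap A C) ((IsLocalRing.maximalIdeal A) ^ n) →+*
          (B ⧸ J n) ⧸ Ideal.span {1 - Ideal.Quotient.mk (J n) (e i)} :=
        Ideal.Quotient.lift _ ρ fun a ha => by
          refine (Ideal.map_le_iff_le_comap.mpr fun x hx => ?_ : _ ≤ RingHom.ker ρ) ha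
          show (Ideal.Quotient.mk _) ((Ideal.Quotient.mk (J n)) (algebraMap A B x)) = 0
          rw [Ideal.Quotient.eq_zero_iff_mem.mpr (Ideal.mem_map_of_mem _ hx), map_zero]
      have h1 : piece (fun j => Ideal.Quotient.mk (J n) (e j)) i =
          Spec.map (CommRingCat.ofHom σ) ≫ Spec.map (CommRingCat.ofHom (q n i)) := by
        rw [← Spec.map_comp]
        refine congrArg Spec.map ?_
        ext x
        rfl
      have h2 : Spec.map (CommRingCat.ofHom (q n i)) ≫ Spec.map (CommRingCat.ofHom (Ideal.Quotient.mk (J n))) ≫ f =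
          Spec.map (CommRingCat.ofHom (q n i)) ≫ u n := by
        rw [← hφ i n, ← hf i]
        show Spec.map (CommRingCat.ofHom (q n i)) ≫ Spec.map (CommRingCat.ofHom (Ideal.Quotient.mk (J n))) ≫ f =
          Spec.map (CommRingCat.ofHom (Ideal.Quotient.mk _)) ≫ Spec.map (CommRingCat.ofHom (Ideal.Quotient.mk _)) ≫ f
        rw [← Spec.map_comp_assoc, ← Spec.map_comp_assoc]
        congr 2
      show piece (fun j => Ideal.Quotient.mk (J n) (e j)) i ≫ _ = piece (fun j => Ideal.Quotient.mk (J n) (e j)) i ≫ _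
      rw [h1, Category.assoc, Category.assoc, h2]

end Groth.Agent.S8385
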