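import Groth.Statements.S8389
import Groth.Agent.FormalHom60.Near
import Groth.Agent.DiagRig.CentralLift
import Groth.Agent.DiagRig.SubDescent
import Groth.Agent.NeutralOpen27.Points
import Groth.Agent.GrpdLib.GrpOver
-- import your own Groth.Agent.* helpers here

set_option autoImplicit false
universe u
open CategoryTheory MonoidalCategory CartesianMonoidalCategory MonObj GrpObj AlgebraicGeometry
open SGA3x

namespace Groth.Agent.S8389

open Groth.Agent.FormalHom60 in
/-- The lift of a central homomorphism to a thickening. -/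
theorem exists_level_lift {S T T₀ : Scheme.{u}} (t : T₀ ⟶ T) (q : T ⟶ S) (q₀ : T₀ ⟶ S) (w : t ≫ q = q₀)
    [IsClosedImmersion t] [Surjective t] (M G : Over S) [GrpObj M] [GrpObj G] [Flat G.hom]
    [LocallyOfFinitePresentation G.hom] [Smooth M.hom] [IsFinite M.hom] (hM : SGA3x.IsMultTypeFT M)
    (u₀ : Red.bc q₀ M ⟶ Red.bc q₀ G) [IsMonHom u₀]
    (hc₀ : ∀ (X : Over T₀) (x : X ⟶ Red.bc q₀ M) (g : X ⟶ Red.bc q₀ G), (x ≫ u₀) * g = g * (x ≫ u₀)) :
    ∃ v : Red.bc q M ⟶ Red.bc q G, IsMonHom v ∧ restr t w v = u₀ ∧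
      (∀ (Y : Over T) (x : Y ⟶ Red.bc q M) (g : Y ⟶ Red.bc q G), (x ≫ v) * g = g * (x ≫ v)) ∧
      ∀ v' : Red.bc q M ⟶ Red.bc q G, IsMonHom v' → restr t w v' = u₀ → v' = v := by
  have : Flat (Red.bc q G).hom := inferInstanceAs (Flat (Limits.pullback.snd G.hom q))
  have : LocallyOfFinitePresentation (Red.bc q G).hom :=
    inferInstanceAs (LocallyOfFinitePresentation (Limits.pullback.snd G.hom q))
  have : Smooth (Red.bc q M).hom := inferInstanceAs (Smooth (Limits.pullback.snd M.hom q))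
  have : IsFinite (Red.bc q M).hom := inferInstanceAs (IsFinite (Limits.pullback.snd M.hom q))
  have := Groth.Agent.LimGrp.isMonHom_cmp w M
  have := Groth.Agent.LimGrp.isMonHom_cmp w G
  let cM := Groth.Agent.LimGrp.cmp w M
  let cG := Groth.Agent.LimGrp.cmp w G
  have : IsMonHom cG.inv := inferInstance
  obtain ⟨v, hv, hvu, hvc, hvuniq⟩ := Groth.Agent.DiagRig.exists_central_lift t (Red.bc q M)
    (Groth.Agent.DiagRig.isMultTypeFT_bc q hM) (cM.hom ≫ u₀ ≫ cG.inv) (fun Y x g => by
      rw [← cancel_mono cG.hom, MonObj.mul_comp, MonObj.mul_comp]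
      simp only [Category.assoc, Iso.inv_hom_id, Category.comp_id]
      simpa only [Category.assoc] using hc₀ Y (x ≫ cM.hom) (g ≫ cG.hom))
  refine ⟨v, hv, ?_, hvc, fun v' hv' h => hvuniq v' hv' ?_⟩
  · simp only [restr, hvu, cM, cG, Category.assoc, Iso.inv_hom_id, Category.comp_id, Iso.inv_hom_id_assoc]
  · rw [← h]
    simp only [restr, cM, cG, Category.assoc, Iso.hom_inv_id, Category.comp_id, Iso.hom_inv_id_assoc]

/-- Let A be a complete Noetherian local ring with residue field k, S = Spec A, S₀ = Spec k the closed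
point, M an S-group scheme of multiplicative type which is smooth and finite over S, G an S-group
scheme flat and of finite type over S, and u₀ : M₀ → G₀ a central homomorphism between the closed
fibres. Then u₀ is the restriction of exactly one homomorphism u : M → G; and u is central when the
fibres of G are connected. -/
theorem result (A : Type u) [CommRing A]
    [IsLocalRing A] [IsNoetherianRing A] [IsAdicComplete (IsLocalRing.maximalIdeal A) A]
    (M : Over (Spec (CommRingCat.of A))) [GrpObj M] [IsFinite M.hom] [Smooth M.hom] (hM : SGA3x.IsMultTypeFT M)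
    (G : Over (Spec (CommRingCat.of A))) [GrpObj G] [Flat G.hom] [QuasiCompact G.hom] [LocallyOfFiniteType G.hom]
    (u₀ : Red.bc (Spec.map (CommRingCat.ofHom (Ideal.Quotient.mk (IsLocalRing.maximalIdeal A)))) M ⟶ Red.bc (Spec.map (CommRingCat.ofHom (Ideal.Quotient.mk (IsLocalRing.maximalIdeal A)))) G) [IsMonHom u₀]
    (hc₀ : ∀ (X : Over _) (x : X ⟶ Red.bc (Spec.map (CommRingCat.ofHom (Ideal.Quotient.mk (IsLocalRing.maximalIdeal A)))) M) (g : X ⟶ Red.bc (Spec.map (CommRingCat.ofHom (Ideal.Quotient.mk (IsLocalRing.maximalIdeal A)))) G), (x ≫ u₀) * g = g * (x ≫ u₀)) :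
    (∃ u : M ⟶ G, IsMonHom u ∧ (Over.pullback (Spec.map (CommRingCat.ofHom (Ideal.Quotient.mk (IsLocalRing.maximalIdeal A))))).map u = u₀ ∧
      ∀ u' : M ⟶ G, IsMonHom u' → (Over.pullback (Spec.map (CommRingCat.ofHom (Ideal.Quotient.mk (IsLocalRing.maximalIdeal A))))).map u' = u₀ → u' = u) ∧
    ((∀ s : (Spec (CommRingCat.of A)), _root_.IsConnected (G.hom.base ⁻¹' {s})) →
      ∀ u : M ⟶ G, IsMonHom u → (Over.pullback (Spec.map (CommRingCat.ofHom (Ideal.Quotient.mk (IsLocalRing.maximalIdeal A))))).map u = u₀ →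
        ∀ (X : Over (Spec (CommRingCat.of A))) (x : X ⟶ M) (g : X ⟶ G), (x ≫ u) * g = g * (x ≫ u)) := by
  open Groth.Agent.FormalHom60 in
  classical
  let q₀ := Spec.map (CommRingCat.ofHom (Ideal.Quotient.mk (IsLocalRing.maximalIdeal A)))
  have : IsLocallyNoetherian G.left := LocallyOfFiniteType.isLocallyNoetherian G.hom
  have : LocallyOfFinitePresentation G.hom := inferInstance
  let r : ∀ k : ℕ, Spec (CommRingCat.of (A ⧸ IsLocalRing.maximalIdeal A)) ⟶
      Spec (CommRingCat.of (A ⧸ IsLocalRing.maximalIdeal A ^ (k + 1))) := fun k =>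
    Spec.map (CommRingCat.ofHom (Ideal.Quotient.factor (Ideal.pow_le_self (Nat.succ_ne_zero k))))
  have hr : ∀ k, r k ≫ lvl A k = q₀ := fun k => by
    rw [← Spec.map_comp, ← CommRingCat.ofHom_comp, Ideal.Quotient.factor_comp_mk]
  have hrs : ∀ k, r k ≫ step A k = r (k + 1) := fun k => by
    rw [← Spec.map_comp]
    congr 1
    ext x
    rfl
  have hrc : ∀ k, IsClosedImmersion (r k) := fun k => IsClosedImmersion.spec_of_surjective _ (Ideal.Quotient.factor_surjective (Ideal.pow_le_self (Nat.succ_ne_zero k)))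
  have hrj : ∀ k, Surjective (r k) := fun k => ⟨fun y => by
    let z : Spec (CommRingCat.of (A ⧸ IsLocalRing.maximalIdeal A)) :=
      ⟨⊥, Ideal.isPrime_bot⟩
    refine ⟨z, ?_⟩
    apply PrimeSpectrum.comap_injective_of_surjective (Ideal.Quotient.mk (IsLocalRing.maximalIdeal A ^ (k + 1))) Ideal.Quotient.mk_surjective
    have hy : IsLocalRing.maximalIdeal A ≤ Ideal.comap (Ideal.Quotient.mk (IsLocalRing.maximalIdeal A ^ (k + 1))) y.asIdeal :=
      (y.2.comap _).le_of_pow_le (n := k + 1) fun a ha => by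
        show Ideal.Quotient.mk _ a ∈ y.asIdeal
        rw [Ideal.Quotient.eq_zero_iff_mem.mpr ha]; exact zero_mem _
    refine PrimeSpectrum.ext (Eq.trans ?_ ((IsLocalRing.maximalIdeal.isMaximal A).eq_of_le (y.2.comap _).ne_top hy))
    show Ideal.comap _ (Ideal.comap (Ideal.Quotient.factor (Ideal.pow_le_self (Nat.succ_ne_zero k))) (⊥ : Ideal (A ⧸ IsLocalRing.maximalIdeal A))) = _
    rw [Ideal.comap_comap, Ideal.Quotient.factor_comp_mk, ← RingHom.ker_eq_comap_bot, Ideal.mk_ker]⟩
  have hv₀ : ∀ k, ∃ w : Red.bc (lvl A k) M ⟶ Red.bc (lvl A k) G, IsMonHom w ∧ restr (r k) (hr k) w = u₀ ∧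
      (∀ (Y : Over _) (x : Y ⟶ Red.bc (lvl A k) M) (g : Y ⟶ Red.bc (lvl A k) G), (x ≫ w) * g = g * (x ≫ w)) ∧
      ∀ w' : Red.bc (lvl A k) M ⟶ Red.bc (lvl A k) G, IsMonHom w' → restr (r k) (hr k) w' = u₀ → w' = w := by
    intro k
    have := hrc k
    have := hrj k
    exact exists_level_lift (r k) (lvl A k) q₀ (hr k) M G hM u₀ hc₀
  choose v hvm hvu hvc hvuniq using hv₀
  have hrestr : ∀ k, restr (step A k) (step_lvl k) (v (k + 1)) = v k := fun k => by
    have := hvm (k + 1)
    have := Groth.Agent.LimGrp.isMonHom_cmp (step_lvl (A := A) k) M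
    have := Groth.Agent.LimGrp.isMonHom_cmp (step_lvl (A := A) k) G
    refine hvuniq k _ (by dsimp only [restr]; infer_instance) ?_
    refine Groth.Agent.LimGrp.bc_hom_ext ?_
    show φ _ = φ u₀
    rw [φ_restr, φ_restr, ← Category.assoc, jmp_jmp]
    rw [← hvu (k + 1), φ_restr]
    congr 2
    exact hrs k
  obtain ⟨f, hf⟩ := exists_of_levels v fun k => by rw [← hrestr k, φ_restr]
  have : IsFinite (M ⊗ M).hom := inferInstanceAs (IsFinite (Limits.pullback.fst M.hom M.hom ≫ M.hom))
  have hmul : (fst M M * snd M M) ≫ f = (fst M M ≫ f) * (snd M M ≫ f) := eq_of_levels _ _ fun k => by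
    have := hvm k
    rw [Functor.map_comp, Functor.map_mul, Functor.map_mul, Functor.map_comp, Functor.map_comp, hf k, MonObj.mul_comp]
  have hfm : IsMonHom f := Groth.Agent.DiagRig.isMonHom_of_pts _ fun X x y => by
    have := congrArg (lift x y ≫ ·) hmul
    simpa only [← Category.assoc, MonObj.comp_mul, lift_fst, lift_snd] using this
  have hf₀ : (Over.pullback q₀).map f = u₀ := by
    refine Groth.Agent.LimGrp.bc_hom_ext ?_
    show φ _ = φ u₀
    rw [← hvu 0, φ_restr, ← hf 0, φ_map, φ_map, ← Category.assoc, jmp_fst]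
  have huniq : ∀ u' : M ⟶ G, IsMonHom u' → (Over.pullback q₀).map u' = u₀ → u' = f := fun u' hu' h' =>
    eq_of_levels _ _ fun k => by
      rw [hf k]
      refine hvuniq k _ inferInstance (Groth.Agent.LimGrp.bc_hom_ext ?_)
      show φ _ = φ u₀
      rw [φ_restr, φ_map, ← Category.assoc, jmp_fst, ← h', φ_map]
  refine ⟨⟨f, hfm, hf₀, huniq⟩, fun hconn u hu h₀ => ?_⟩
  rw [huniq u hu h₀]
  -- centrality on a neighbourhood of the closed fibre
  have : IsFinite (fst G M).left := inferInstanceAs (IsFinite (Limits.pullback.fst G.hom M.hom))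
  have : IsLocallyNoetherian (G ⊗ M).left := LocallyOfFiniteType.isLocallyNoetherian (fst G M).left
  obtain ⟨W, hW, hWe⟩ := exists_open_agree (f := fst G M * (snd G M ≫ f)) (g := (snd G M ≫ f) * fst G M)
    fun k X x t hxt => by
      have e : (Over.pullback (lvl A k)).map (fst G M * (snd G M ≫ f)) =
          (Over.pullback (lvl A k)).map ((snd G M ≫ f) * fst G M) := by
        rw [Functor.map_mul, Functor.map_mul, Functor.map_comp, hf k]
        exact (hvc k _ _ _).symm
      have e' := congrArg φ e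
      rw [φ_map, φ_map] at e'
      have e'' := congrArg (Limits.pullback.lift x t hxt ≫ ·) e'
      simpa only [Limits.pullback.lift_fst_assoc] using e''
  let V : G.left.Opens := ⟨((fst G M).left '' (W : Set (G ⊗ M).left)ᶜ)ᶜ,
    ((fst G M).left.isClosedMap _ W.2.isClosed_compl).isOpen_compl⟩
  have hV : ∀ x, G.hom x = IsLocalRing.closedPoint A → x ∈ V := fun x hx => by
    rintro ⟨z, hz, rfl⟩
    refine hz (hW z ?_)
    rw [← Over.w (fst G M), Scheme.Hom.comp_apply]
    exact hx
  have hunit : ∀ s, Groth.Agent.NeutralOpen27.unitSec G s ∈ V := fun s =>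
    (IsLocalRing.specializes_closedPoint s).mem_open ((Groth.Agent.NeutralOpen27.unitSec G ⁻¹ᵁ V).2)
      (hV _ (Groth.Agent.NeutralOpen27.hom_unitSec G _))
  have hcV : ∀ {T : Over (Spec (CommRingCat.of A))} (b : T ⟶ G) (m : T ⟶ M),
      Set.range b.left ⊆ V → b * (m ≫ f) = (m ≫ f) * b := fun {T} b m hb => by
    have hrange : Set.range (lift b m).left ⊆ Set.range W.ι := by
      rw [Scheme.Opens.range_ι]
      rintro _ ⟨z, rfl⟩
      by_contra hn
      refine hb ⟨z, rfl⟩ ⟨(lift b m).left z, hn, ?_⟩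
      rw [← Scheme.Hom.comp_apply, ← Over.comp_left, lift_fst]
    have : lift b m ≫ (fst G M * (snd G M ≫ f)) = lift b m ≫ ((snd G M ≫ f) * fst G M) :=
      Over.OverMorphism.ext (by
        rw [Over.comp_left, Over.comp_left, ← IsOpenImmersion.lift_fac W.ι _ hrange, Category.assoc, Category.assoc, hWe])
    simpa only [MonObj.comp_mul, lift_fst, lift_snd_assoc] using this
  let O : (G ⊗ G).left.Opens := ((fst G G).left ⁻¹ᵁ V) ⊓ ((snd G G).left ⁻¹ᵁ V)
  let C : Over (Spec (CommRingCat.of A)) := Over.mk (O.ι ≫ (G ⊗ G).hom)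
  let o : C ⟶ G ⊗ G := Over.homMk O.ι rfl
  let c : C ⟶ G := o ≫ μ[G]
  have : IsNoetherian G.left := { toIsLocallyNoetherian := inferInstance, toCompactSpace :=
    QuasiCompact.compactSpace_of_compactSpace G.hom }
  have : LocallyOfFiniteType (G ⊗ G).hom :=
    inferInstanceAs (LocallyOfFiniteType (Limits.pullback.fst G.hom G.hom ≫ G.hom))
  have : QuasiCompact (G ⊗ G).hom :=
    inferInstanceAs (QuasiCompact (Limits.pullback.fst G.hom G.hom ≫ G.hom))
  have : IsNoetherian (G ⊗ G).left := { toIsLocallyNoetherian := LocallyOfFiniteType.isLocallyNoetherian (G ⊗ G).hom, toCompactSpace :=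
    QuasiCompact.compactSpace_of_compactSpace (G ⊗ G).hom }
  have : QuasiCompact c.left := by
    have : TopologicalSpace.NoetherianSpace C.left := O.ι.isOpenEmbedding.isEmbedding.isInducing.noetherianSpace
    infer_instance
  have : Flat c.left := by
    have : Flat μ[G].left := Groth.Agent.GrpScheme.Basic.mul_mem @Flat inferInstance
    exact inferInstanceAs (Flat (O.ι ≫ μ[G].left))
  have : Surjective c.left := ⟨fun x => by
    have hx : x ∈ SGA3x.neutralSet G := by
      rw [Groth.Agent.NeutralOpen27.mem_neutralSet]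
      rw [(hconn (G.hom x)).isPreconnected.connectedComponentIn (Groth.Agent.NeutralOpen27.hom_unitSec G _)]
      exact rfl
    obtain ⟨z, h1, h2, h3⟩ := Groth.Agent.NeutralOpen27.exists_mul G V (hunit (G.hom x)) hx rfl
    exact ⟨⟨z, h1, h2⟩, h3⟩⟩
  intro X x g
  obtain ⟨T, d, w, _, _, _, _, hw⟩ := Groth.Agent.GrpdLib.GrpOver.exists_lift c g
  refine Groth.Agent.GrpdLib.GrpOver.cancel_left d ?_
  have hg : d ≫ g = (w ≫ o ≫ fst G G) * (w ≫ o ≫ snd G G) := by
    rw [← hw, ← MonObj.comp_mul, ← MonObj.comp_mul, ← mul_eq_mul]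
  have hab : ∀ z : T.left, (w ≫ o ≫ fst G G).left z ∈ V ∧ (w ≫ o ≫ snd G G).left z ∈ V := fun z => (w.left z).2
  rw [MonObj.comp_mul, MonObj.comp_mul, hg, ← Category.assoc d x f, _root_.mul_assoc,
    hcV (w ≫ o ≫ snd G G) (d ≫ x) (by rintro _ ⟨z, rfl⟩; exact (hab z).2), ← _root_.mul_assoc, ← _root_.mul_assoc,
    hcV (w ≫ o ≫ fst G G) (d ≫ x) (by rintro _ ⟨z, rfl⟩; exact (hab z).1)]

end Groth.Agent.S8389
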