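import Groth.Statements.S8395
import Groth.Agent.DiagRig.PowEtale

set_option autoImplicit false
universe u
open CategoryTheory MonoidalCategory CartesianMonoidalCategory MonObj GrpObj AlgebraicGeometry
open SGA3x

namespace Groth.Agent.S8395

set_option backward.isDefEq.respectTransparency.types false

/-- Let k be a field, G a k-group scheme locally of finite type, n an integer invertible in k, and u : G
→ G the n-th power morphism. Then u is etale at every point of G lying in the centre of G; here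
stated at a k-rational point g of G which is central (commutes with all points of G): u is etale on
some open neighbourhood of g. (The published statement is for any point of the centre; its proof
reduces to rational points by extending the base field.) -/
theorem result (k : Type u) [Field k]
    (G : Over (Spec (CommRingCat.of k))) [GrpObj G] [LocallyOfFiniteType G.hom] (n : ℕ) (hn : (n : k) ≠ 0)
    (g : 𝟙_ (Over (Spec (CommRingCat.of k))) ⟶ G)
    (hg : ∀ (X : Over (Spec (CommRingCat.of k))) (x : X ⟶ G), (toUnit X ≫ g) * x = x * (toUnit X ≫ g)) :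
    ∃ U : G.left.Opens, Set.range g.left.base ⊆ (U : Set ↥G.left) ∧
      Etale (U.ι ≫ ((𝟙 G : G ⟶ G) ^ n).left) := by
  obtain ⟨U, hU, hUet⟩ := Groth.Agent.S4111.etale_near_unit G n (by exact_mod_cast hn)
  simp only [zpow_natCast] at hUet
  let a : G ⟶ G := toUnit G ≫ g
  have hta : ∀ (Y : Over (Spec (CommRingCat.of k))) (y : Y ⟶ G), y ≫ a = toUnit Y ≫ g := fun Y y => by
    rw [← Category.assoc, comp_toUnit]
  have hc : Commute a (𝟙 G) := hg G (𝟙 G)
  have inv_comp' : ∀ b : G ⟶ G, (∀ y : G ⟶ G, y ≫ b = b) → (b⁻¹ * 𝟙 G) ≫ (b * 𝟙 G) = 𝟙 G ∧ (b * 𝟙 G) ≫ (b⁻¹ * 𝟙 G) = 𝟙 G := by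
    intro b hb
    constructor <;>
    · rw [MonObj.comp_mul, Category.comp_id]
      simp only [GrpObj.comp_inv, hb]
      simp [← _root_.mul_assoc]
  have ha : ∀ y : G ⟶ G, y ≫ a = a := fun y => hta G y
  have han : ∀ y : G ⟶ G, y ≫ a ^ n = a ^ n := fun y => by rw [MonObj.comp_pow, ha]
  let τ : G ≅ G := ⟨a⁻¹ * 𝟙 G, a * 𝟙 G, (inv_comp' a ha).1, (inv_comp' a ha).2⟩
  let σ : G ≅ G := ⟨a ^ n * 𝟙 G, (a ^ n)⁻¹ * 𝟙 G, (inv_comp' _ han).2, (inv_comp' _ han).1⟩
  have hτ : (τ.hom ≫ ((𝟙 G : G ⟶ G) ^ n)) ≫ σ.hom = 𝟙 G ^ n := by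
    rw [MonObj.comp_pow, Category.comp_id]
    show ((a⁻¹ * 𝟙 G) ^ n) ≫ (a ^ n * 𝟙 G) = _
    rw [MonObj.comp_mul, han, Category.comp_id, hc.inv_left.mul_pow, inv_pow, mul_inv_cancel_left]
  have hxe : g ≫ τ.hom = η[G] := by
    show g ≫ (a⁻¹ * 𝟙 G) = _
    rw [MonObj.comp_mul, GrpObj.comp_inv, hta, Category.comp_id, toUnit_unique (toUnit _) (𝟙 _),
      Category.id_comp, inv_mul_cancel, Hom.one_def, toUnit_unique (toUnit _) (𝟙 _), Category.id_comp]
  have : IsIso τ.hom.left := ((Over.forget (Spec (CommRingCat.of k))).mapIso τ).isIso_hom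
  have : IsIso σ.hom.left := ((Over.forget (Spec (CommRingCat.of k))).mapIso σ).isIso_hom
  refine ⟨τ.hom.left ⁻¹ᵁ U, ?_, ?_⟩
  · rintro _ ⟨p, rfl⟩
    show τ.hom.left.base (g.left.base p) ∈ U
    rw [← Scheme.Hom.comp_apply, ← Over.comp_left, hxe]
    obtain rfl : p = IsLocalRing.closedPoint k := Subsingleton.elim (α := PrimeSpectrum k) _ _
    exact hU
  · rw [← hτ, Over.comp_left, Over.comp_left, ← Category.assoc, ← morphismRestrict_ι_assoc]
    infer_instance

end Groth.Agent.S8395
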