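import Groth.Statements.S8405
import Groth.Agent.GrpdLib.CentreAffine
import Groth.Agent.GrpdLib.AffNormalQuot
import Groth.Agent.GrpdLib.FppfSourceDescentScheme

set_option linter.style.haveILetI false
set_option backward.isDefEq.respectTransparency false

set_option autoImplicit false
universe u
open CategoryTheory MonoidalCategory CartesianMonoidalCategory MonObj GrpObj AlgebraicGeometry
open SGA3x

namespace Groth.Agent.S8405

/-- Let G be a connected algebraic group (a group scheme of finite type) over a field k, z : Z → G the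
centre of G and q : G → Q a morphism representing the fppf quotient G/Z. Then Q is an affine scheme.
(The published statement allows any subgroup of finite index in the centre; this row takes Z to be
the centre itself.) -/
theorem result (k : Type u) [Field k]
    (G : Over (Spec (CommRingCat.of k))) [GrpObj G] [QuasiCompact G.hom] [LocallyOfFiniteType G.hom] [ConnectedSpace ↥G.left]
    (Z : Over (Spec (CommRingCat.of k))) [GrpObj Z] (z : Z ⟶ G) (hZ : Red.IsCentre z)
    (Q : Over (Spec (CommRingCat.of k))) (q : G ⟶ Q) (hq : RedSub.IsQuotient z q) : IsAffine Q.left := by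
  obtain ⟨hqs, hqf, hqfp, sq⟩ := hq
  haveI := hqs; haveI := hqf; haveI := hqfp
  haveI : IsMonHom z := hZ.1
  haveI : Mono z := hZ.2.1
  have hcomm : ∀ {X : Over (Spec (CommRingCat.of k))} (g : X ⟶ G) (n : X ⟶ Z), g * (n ≫ z) = (n ≫ z) * g := by
    intro X g n
    have h := (hZ.2.2 X (n ≫ z)).1 ⟨n, rfl⟩ X (𝟙 X) g
    simpa using h.symm
  have hn : AlgGrp.IsNormalHom z := fun T g n => ⟨n, by rw [hcomm, mul_inv_cancel_right]⟩
  have hmul : (G ◁ z) ≫ μ[G] = fst G Z * (snd G Z ≫ z) := by
    rw [MonObj.mul_eq_mul, MonObj.comp_mul, whiskerLeft_fst, whiskerLeft_snd]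
  have hrel : ∀ {T : Over (Spec (CommRingCat.of k))} (x y : T ⟶ G), x ≫ q = y ≫ q ↔ ∃ w : T ⟶ Z, w ≫ z = x⁻¹ * y := by
    intro T x y
    refine ⟨fun he => ?_, fun ⟨w, hw⟩ => ?_⟩
    · obtain ⟨l, hl1, hl2⟩ := sq.exists_lift x y he
      refine ⟨l ≫ snd G Z, ?_⟩
      rw [hmul, MonObj.comp_mul, hl1] at hl2
      rw [Category.assoc]
      exact eq_inv_mul_iff_mul_eq.2 hl2
    · have h := congrArg (lift x w ≫ ·) sq.w
      simp only [← Category.assoc, hmul, MonObj.comp_mul, lift_fst] at h
      rw [lift_snd, hw, mul_inv_cancel_left] at h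
      exact h
  obtain ⟨gQ, hqm, hqk⟩ := GrpdLib.AffNormalQuot.exists_quotGroup z q hrel hn
  haveI := hqm
  haveI : LocallyOfFiniteType (q.left ≫ Q.hom) := by rw [Over.w q]; infer_instance
  haveI : LocallyOfFiniteType Q.hom :=
    GrpdLib.FppfSourceDescent.locallyOfFiniteType_of_comp_fppf q.left Q.hom
  have hzq : z ≫ q = 1 := by
    have h := (hrel (1 : Z ⟶ G) z).2 ⟨𝟙 Z, by simp⟩
    rw [← h, MonObj.one_comp]
  exact GrpdLib.CentreAffine.isAffine_quotient_centre hZ q hzq

end Groth.Agent.S8405
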