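import Groth.Statements.S8441
-- import your own Groth.Agent.* helpers here

set_option autoImplicit false
universe u v w
open SGA3t2b

namespace Groth.Agent.S8441

lemma foldl_sub_mem {ι : Type u} {M : Type v} {N : Type w} [AddCommGroup M] [Module ℤ M]
    [AddCommGroup N] [Module ℤ N] (P : RootPairing ι ℤ M N) {κ : Type*} (f : κ → ι) (W : Submodule ℤ M) :
    ∀ (L : List κ) (x : M), (∀ j ∈ L, P.root (f j) ∈ W) → L.foldl (fun x j => P.reflection (f j) x) x - x ∈ W := by
  intro L
  induction L with
  | nil => intro x _; simp
  | cons a L ih =>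
    intro x h
    rw [List.foldl_cons, show ∀ y : M, y - x = (y - P.reflection (f a) x) + (P.reflection (f a) x - x) from fun y => by abel]
    refine W.add_mem (ih _ fun j hj => h j (List.mem_cons_of_mem _ hj)) ?_
    rw [RootPairing.reflection_apply, sub_sub_cancel_left]
    exact W.neg_mem (W.smul_mem _ (h a (List.mem_cons_self)))


/-- Let R be a root system with a system of simple roots a₁, …, aₙ and simple reflections rᵢ, and put θᵢ
= rₙ ⋯ rᵢ₊₁(aᵢ). Then the θᵢ form a basis of the group generated by the roots. Stated for a root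
pairing over ℤ (Mathlib) with a base whose support is enumerated by Fin n: the θᵢ are ℤ-linearly
independent and their ℤ-span is the ℤ-span of all roots. -/
theorem result {ι : Type u} {M : Type v} {N : Type w} [AddCommGroup M] [Module ℤ M]
    [AddCommGroup N] [Module ℤ N] (P : RootPairing ι ℤ M N) (b : P.Base) (n : ℕ) (e : Fin n ≃ ↥b.support) :
    LinearIndependent ℤ (fun i : Fin n =>
      ((List.finRange n).filter (fun j => i < j)).foldl (fun x j => P.reflection (e j : ι) x) (P.root (e i : ι))) ∧
    Submodule.span ℤ (Set.range (fun i : Fin n =>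
      ((List.finRange n).filter (fun j => i < j)).foldl (fun x j => P.reflection (e j : ι) x) (P.root (e i : ι)))) =
      Submodule.span ℤ (Set.range P.root) := by
  classical
  obtain rfl : ‹Module ℤ M› = AddCommGroup.toIntModule M := Subsingleton.elim _ _
  let α : Fin n → M := fun i => P.root (e i : ι)
  set θ : Fin n → M := fun i : Fin n =>
    ((List.finRange n).filter (fun j => i < j)).foldl (fun x j => P.reflection (e j : ι) x) (P.root (e i : ι)) with hθ
  have hαli : LinearIndependent ℤ α := b.linearIndepOn_root.comp e e.injective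
  have hαspan : Submodule.span ℤ (Set.range α) = Submodule.span ℤ (Set.range P.root) := by
    refine le_antisymm (Submodule.span_mono (by rintro _ ⟨i, rfl⟩; exact ⟨_, rfl⟩)) (Submodule.span_le.2 ?_)
    rintro _ ⟨i, rfl⟩
    refine Submodule.span_mono ?_ (b.root_mem_span_int i)
    rintro _ ⟨j, hj, rfl⟩
    exact ⟨e.symm ⟨j, hj⟩, by simp [α]⟩
  have hdiff : ∀ i, θ i - α i ∈ Submodule.span ℤ (α '' Set.Ioi i) := fun i =>
    foldl_sub_mem P (fun j => (e j : ι)) _ _ _ fun j hj => Submodule.subset_span
      ⟨j, by simpa using (List.mem_filter.1 hj).2, rfl⟩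
  have hαθ : ∀ (m : ℕ) (i : Fin n), n ≤ i.val + m → α i ∈ Submodule.span ℤ (Set.range θ) := by
    intro m
    induction m with
    | zero => intro i hi; exact absurd i.2 (by omega)
    | succ m ih =>
      intro i hi
      rw [show α i = θ i - (θ i - α i) by abel]
      refine sub_mem (Submodule.subset_span ⟨i, rfl⟩) (Submodule.span_le.2 ?_ (hdiff i))
      rintro _ ⟨j, hj, rfl⟩
      exact ih j (by have := Fin.lt_def.1 (Set.mem_Ioi.1 hj); omega)
  have hspan : Submodule.span ℤ (Set.range θ) = Submodule.span ℤ (Set.range α) := by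
    refine le_antisymm (Submodule.span_le.2 ?_) (Submodule.span_le.2 ?_)
    · rintro _ ⟨i, rfl⟩
      rw [SetLike.mem_coe, show θ i = α i + (θ i - α i) by abel]
      exact add_mem (Submodule.subset_span ⟨i, rfl⟩) (Submodule.span_mono (Set.image_subset_range _ _) (hdiff i))
    · rintro _ ⟨i, rfl⟩; exact hαθ n i (by omega)
  refine ⟨?_, hspan.trans hαspan⟩
  have hmem : ∀ c, Fintype.linearCombination ℤ θ c ∈ Submodule.span ℤ (Set.range α) := fun c => by
    rw [← hspan, ← Fintype.range_linearCombination ℤ θ]
    exact ⟨c, rfl⟩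
  let bα := Module.Basis.span hαli
  let T : (Fin n → ℤ) →ₗ[ℤ] (Fin n → ℤ) :=
    bα.equivFun.toLinearMap ∘ₗ (Fintype.linearCombination ℤ θ).codRestrict _ hmem
  have hT : Function.Surjective T := by
    refine bα.equivFun.surjective.comp fun x => ?_
    obtain ⟨c, hc⟩ : (x : M) ∈ LinearMap.range (Fintype.linearCombination ℤ θ) := by
      rw [Fintype.range_linearCombination, hspan]; exact x.2
    exact ⟨c, Subtype.ext hc⟩
  have hinj := OrzechProperty.injective_of_surjective_endomorphism T hT
  rw [Fintype.linearIndependent_iff]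
  intro c hc
  have : T c = T 0 := congrArg bα.equivFun (Subtype.ext (by
    show Fintype.linearCombination ℤ θ c = Fintype.linearCombination ℤ θ 0
    rw [map_zero, Fintype.linearCombination_apply]; exact hc))
  exact congrFun (hinj this)

end Groth.Agent.S8441
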