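import Groth.Statements.S8446
import Groth.Agent.Cor85.WtdTorus
import Groth.Agent.S18072
import Groth.Agent.GrpScheme.DenseOpen
import Groth.Agent.Borel50.ConjDense

set_option autoImplicit false
universe u
open CategoryTheory MonoidalCategory CartesianMonoidalCategory MonObj GrpObj AlgebraicGeometry CategoryTheory.Limits
open Red

namespace Groth.Agent.S8446
attribute [-instance] Groth.Agent.GrpArtin.grpObjBC CategoryTheory.Hom.commGroup
open CategoryTheory MonoidalCategory CartesianMonoidalCategory MonObj GrpObj AlgebraicGeometry Limits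
open Groth.Agent.RedPts Groth.Agent.Cor85 Groth.Agent.Cor85.Weight

namespace Aux

variable {S : Scheme.{u}} {K : Type u} [Field K] (b : Spec (CommRingCat.of K) ⟶ S)

/-- The affine line. -/
noncomputable abbrev A1 : Over (Spec (CommRingCat.of K)) :=
  Over.mk (Spec.map (CommRingCat.ofHom (Polynomial.C : K →+* Polynomial K)))

/-- The function on the fibre of `𝔾_a`. -/
noncomputable def fnGa : Γ((Red.bc b (Red.Ga S)).left, ⊤) :=
  (Red.gaFn ((tr b (Red.bc b (Red.Ga S)) (Red.Ga S)).symm (𝟙 _)) :)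

instance : IsAffine (A1 (K := K)).left := inferInstanceAs (IsAffine (Spec (CommRingCat.of (Polynomial K))))

theorem exists_iso_line : ∃ u : A1 (K := K) ⟶ Red.bc b (Red.Ga S), IsIso u := by
  let U := Red.bc b (Red.Ga S)
  let R' := CommRingCat.of (Polynomial K)
  let κ : K →+* Γ(U.left, ⊤) := U.hom.appTop.hom.comp (fn (CommRingCat.of K))
  let ψ : R' ⟶ Γ(U.left, ⊤) := CommRingCat.ofHom (Polynomial.eval₂RingHom κ (fnGa b))
  let v₀ : U.left ⟶ Spec R' := U.left.toSpecΓ ≫ Spec.map ψ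
  have hv₀ : ∀ P : Polynomial K, v₀.appTop (fn R' P) = ψ P := fun P => by
    have h1 := congr($(Scheme.ΓSpecIso_inv_naturality ψ) P)
    show (v₀.appTop) _ = _
    rw [Scheme.Hom.comp_appTop, Scheme.toSpecΓ_appTop]
    show (Scheme.ΓSpecIso Γ(U.left, ⊤)).hom ((Spec.map ψ).appTop ((Scheme.ΓSpecIso R').inv P)) = _
    rw [show (Spec.map ψ).appTop ((Scheme.ΓSpecIso R').inv P) = (Scheme.ΓSpecIso _).inv (ψ P) from h1.symm]
    exact congr($((Scheme.ΓSpecIso Γ(U.left, ⊤)).inv_hom_id) (ψ P))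
  let v : U ⟶ A1 := Over.homMk v₀ (by
    apply ext_of_isAffine
    ext z
    obtain ⟨r, rfl⟩ := (fn_bijective (CommRingCat.of K)).2 z
    rw [Scheme.Hom.comp_appTop]
    show v₀.appTop ((Spec.map _).appTop (fn (CommRingCat.of K) r)) = _
    have h1 : (Spec.map (CommRingCat.ofHom (Polynomial.C : K →+* Polynomial K))).appTop (fn (CommRingCat.of K) r) =
        fn R' (Polynomial.C r) :=
      (congr($(Scheme.ΓSpecIso_inv_naturality (CommRingCat.ofHom (Polynomial.C : K →+* Polynomial K))) r)).symm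
    erw [h1, hv₀]
    exact Polynomial.eval₂_C _ _)
  let u : A1 (K := K) ⟶ U := tr b A1 (Red.Ga S) (gaPt (X := (Over.map b).obj A1) (fn R' Polynomial.X))
  have hu : u.left.appTop (fnGa b) = fn R' Polynomial.X := by
    have h := ga_comp ((Over.map b).map u) ((tr b U (Red.Ga S)).symm (𝟙 U))
    rw [show (Over.map b).map u ≫ (tr b U (Red.Ga S)).symm (𝟙 U) = gaPt (X := (Over.map b).obj A1) (fn R' Polynomial.X) from by
      apply (tr b A1 (Red.Ga S)).injective
      rw [tr_pre, Equiv.apply_symm_apply, Category.comp_id]] at h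
    exact h.symm.trans (gaFn_gaPt _)
  have h1 : u ≫ v = 𝟙 _ := by
    ext1
    have hcomp : (u.left ≫ v₀).appTop = 𝟙 _ := by
      ext z
      obtain ⟨P, rfl⟩ := (fn_bijective R').2 z
      rw [Scheme.Hom.comp_appTop]
      show u.left.appTop (v₀.appTop (fn R' P)) = fn R' P
      rw [hv₀]
      show (u.left.appTop.hom.comp (Polynomial.eval₂RingHom κ (fnGa b))) P = fn R' P
      congr 1
      apply Polynomial.ringHom_ext
      · intro r
        simp only [RingHom.comp_apply, Polynomial.coe_eval₂RingHom, Polynomial.eval₂_C, κ]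
        show (U.hom.appTop ≫ u.left.appTop) (fn (CommRingCat.of K) r) = _
        rw [← Scheme.Hom.comp_appTop, Over.w u]
        exact (congr($(Scheme.ΓSpecIso_inv_naturality (CommRingCat.ofHom (Polynomial.C : K →+* Polynomial K))) r)).symm
      · simp only [RingHom.comp_apply, Polynomial.coe_eval₂RingHom, Polynomial.eval₂_X]
        exact hu
    apply ext_of_isAffine
    exact hcomp.trans (Scheme.Hom.id_appTop).symm
  have h2 : v ≫ u = 𝟙 _ := by
    apply (tr b U (Red.Ga S)).symm.injective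
    apply ga_injective
    have e : (tr b U (Red.Ga S)).symm (v ≫ u) = (Over.map b).map v ≫ gaPt (X := (Over.map b).obj A1) (fn R' Polynomial.X) := by
      rw [Equiv.symm_apply_eq, tr_pre]
    rw [e, ga_comp, gaFn_gaPt]
    exact (hv₀ Polynomial.X).trans (Polynomial.eval₂_X _ _)
  exact ⟨u, v, h1, h2⟩

theorem smooth_Ga : Smooth (Red.bc b (Red.Ga S)).hom ∧ ConnectedSpace (Red.bc b (Red.Ga S)).left ∧
    IsAffine (Red.bc b (Red.Ga S)).left := by
  obtain ⟨u, hu⟩ := exists_iso_line b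
  have hA : Smooth (A1 (K := K)).hom := by
    show Smooth (Spec.map _)
    rw [HasRingHomProperty.Spec_iff (P := @Smooth)]
    rw [CommRingCat.hom_ofHom, ← Polynomial.algebraMap_eq, RingHom.smooth_algebraMap]
    show Algebra.Smooth K (Polynomial K)
    exact { formallySmooth := inferInstance, finitePresentation := inferInstance }
  have : IsIso u.left := inferInstanceAs (IsIso ((Over.forget _).map u))
  have : IsIso (inv u).left := inferInstanceAs (IsIso ((Over.forget _).map (inv u)))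
  have : IrreducibleSpace (A1 (K := K)).left := inferInstanceAs (IrreducibleSpace (PrimeSpectrum (Polynomial K)))
  refine ⟨?_, u.left.surjective.connectedSpace u.left.continuous, .of_isIso (inv u).left⟩
  rw [← Over.w (inv u)]
  infer_instance

variable [IsAlgClosed K]

open Groth.Agent.GrpScheme.CharSplit in
theorem noSubtorus_Ga : Red.HasNoSubtorus K (Red.bc b (Red.Ga S)) := by
  intro R _ j _ _ hR
  obtain ⟨hRa, hRlft, hRint, -, -, hd⟩ := Borel50.Lin.TorusSch.torus_facts hR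
  let U := Red.bc b (Red.Ga S)
  let W₁ := 𝟙_ (Over (Spec (CommRingCat.of K)))
  have htor : ∀ x : Pt R, ∀ n : ℕ, (n : K) ≠ 0 → x ^ n = 1 → x = 1 := by
    intro x n hn hx
    obtain ⟨z, hz⟩ := (tr b W₁ (Red.Ga S)).surjective (x ≫ j)
    let F : (W₁ ⟶ U) →* Multiplicative Γ(W₁.left, ⊤) :=
      MonoidHom.mk' (fun w => Multiplicative.ofAdd ((Red.gaFn ((tr b W₁ (Red.Ga S)).symm w) :) : Γ(W₁.left, ⊤))) (fun w w' => by
        obtain ⟨w, rfl⟩ := (tr b W₁ (Red.Ga S)).surjective w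
        obtain ⟨w', rfl⟩ := (tr b W₁ (Red.Ga S)).surjective w'
        rw [← Cor85.tr_mul, Equiv.symm_apply_apply, Equiv.symm_apply_apply, Equiv.symm_apply_apply, ga_mul]
        rfl)
    have hF : Function.Injective F := fun w w' h =>
      (tr b W₁ (Red.Ga S)).symm.injective (ga_injective (Multiplicative.ofAdd.injective h))
    have e : F (x ≫ j) ^ n = 1 := by
      let Φ : (W₁ ⟶ R) →* (W₁ ⟶ U) := MonoidHom.mk' (fun w : W₁ ⟶ R => w ≫ j) (fun a c => MonObj.mul_comp a c j)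
      have h : (F.comp Φ) (x ^ n) = 1 := by rw [hx, map_one]
      rw [map_pow] at h
      exact h
    have e2 : (n : Γ(W₁.left, ⊤)) * Multiplicative.toAdd (F (x ≫ j)) = 0 := by
      rw [← nsmul_eq_mul, ← toAdd_pow, e, toAdd_one]
    have hnu : IsUnit (n : Γ(W₁.left, ⊤)) := by
      have := (isUnit_iff_ne_zero.2 hn).map (fn (CommRingCat.of K))
      rw [map_natCast] at this
      exact this
    have e3 : F (x ≫ j) = 1 := Multiplicative.toAdd.injective ((hnu.mul_right_eq_zero.1 e2).trans toAdd_one.symm)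
    apply (cancel_mono j).1
    exact (hF (e3.trans (map_one F).symm)).trans (MonObj.one_comp j).symm
  have hall : ∀ x : Pt R, x = 1 := by
    intro x
    letI := Borel50.Lin.ptTop R
    have hcl : IsClosed {y : Pt R | cpt y ∈ ({cpt (1 : Pt R)} : Set R.left)} :=
      (isClosed_cpt (1 : Pt R)).preimage continuous_induced_dom
    refine pt_ext (closure_minimal ?_ hcl (hd.ge (Set.mem_univ x)))
    rintro y ⟨n, hn, hy⟩
    rw [htor y n hn hy]
    exact Set.mem_singleton _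
  have : Subsingleton R.left := by
    have key : ({cpt (1 : Pt R)} : Set R.left) = Set.univ := by
      by_contra hne
      obtain ⟨y, hy⟩ := exists_pt_mem (G := R) (U := ({cpt (1 : Pt R)} : Set R.left)ᶜ)
        (isClosed_cpt _).isOpen_compl.isLocallyClosed (Set.nonempty_compl.2 hne)
      exact hy (by rw [hall y]; rfl)
    exact ⟨fun a c => by
      have ha := key.ge (Set.mem_univ a); have hc := key.ge (Set.mem_univ c)
      exact ha.trans hc.symm⟩
  exact S18072.isTrivialGrp_of_subsingleton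

attribute [local instance] Cel.hi Cel.hα Cel.hp Cel.hm

variable {G T : Over S} [GrpObj G] [GrpObj T] (C : Cel S G T)

theorem not_commute [Mono C.pp] (hG : Red.IsReductiveOver K (Red.bc b G))
    (hc : ∀ (W : Over (Spec (CommRingCat.of K))) (x y : Γ(((Over.map b).obj W).left, ⊤)),
      (gaPt x ≫ C.pp) * (gaPt y ≫ C.pm) = (gaPt y ≫ C.pm) * (gaPt x ≫ C.pp)) : False := by
  obtain ⟨hGa, hGs, hGc, hrad⟩ := hG
  let Gk := Red.bc b G
  have := AbVarLib.Basics.irreducibleSpace_of_connectedSpace Gk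
  have := C.open_cell
  have := C.hp
  have hfst : ∀ {W : Over (Spec (CommRingCat.of K))} (p : (Over.map b).obj W ⟶ G) (z : W.left),
      pullback.fst G.hom b ((tr b W G p).left z) = p.left z := fun p z => congr($(tr_left b p) z)
  let V : (Red.bc b G).left.Opens := pullback.fst G.hom b ⁻¹ᵁ C.map.left.opensRange
  have hmul : ∀ {W : Over (Spec (CommRingCat.of K))} (y y' x x' : Γ(((Over.map b).obj W).left, ⊤))
      (t t' : (Over.map b).obj W ⟶ T), ∃ y'' t'' x'', C.pt y t x * C.pt y' t' x' = C.pt y'' t'' x'' := by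
    intro W y y' x x' t t'
    obtain ⟨z, hz, -⟩ := C.hpm _ t (gaPt y')
    obtain ⟨w, hw, -⟩ := C.hpp _ t'⁻¹ (gaPt x)
    refine ⟨Red.gaFn (gaPt y * z), t * t', Red.gaFn (w * gaPt x'), ?_⟩
    simp only [Cel.pt, gaPt_gaFn, MonObj.mul_comp]
    rw [hz, hw, GrpObj.inv_comp]
    calc (gaPt y ≫ C.pm) * (t ≫ C.i) * (gaPt x ≫ C.pp) * ((gaPt y' ≫ C.pm) * (t' ≫ C.i) * (gaPt x' ≫ C.pp))
        = (gaPt y ≫ C.pm) * (t ≫ C.i) * ((gaPt x ≫ C.pp) * (gaPt y' ≫ C.pm)) * (t' ≫ C.i) * (gaPt x' ≫ C.pp) := by group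
      _ = (gaPt y ≫ C.pm) * (t ≫ C.i) * ((gaPt y' ≫ C.pm) * (gaPt x ≫ C.pp)) * (t' ≫ C.i) * (gaPt x' ≫ C.pp) := by rw [hc]
      _ = _ := by group
  have hV : ∀ {W : Over (Spec (CommRingCat.of K))} (g : W ⟶ Gk), (∀ z, g.left z ∈ V) →
      ∃ y t x, g = tr b W G (C.pt y t x) := by
    intro W g hg
    obtain ⟨p, rfl⟩ := (tr b W G).surjective g
    obtain ⟨y, t, x, rfl⟩ := C.exists_pt p (by
      rintro _ ⟨z, rfl⟩
      exact hfst p z ▸ hg z)
    exact ⟨y, t, x, rfl⟩
  have htop : ∀ g : Gk.left, g ∈ V := by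
    have hne : (V : Set Gk.left).Nonempty := by
      refine ⟨((tr b (𝟙_ _) G) (C.pt 0 1 0)).left (IsLocalRing.closedPoint K), ?_⟩
      show pullback.fst G.hom b _ ∈ Set.range C.map.left
      exact (hfst _ _).symm ▸ C.pt_mem _ _ _ _
    have hd : Dense (V : Set Gk.left) := V.2.dense hne
    intro g
    obtain ⟨q, h1, h2, h3⟩ := GrpScheme.DenseOpen.exists_mul V V hd hd g
    let W := GrpScheme.Points.pointObj (Gk ⊗ Gk) q
    let h : W ⟶ Gk ⊗ Gk := GrpScheme.Points.pointHom (Gk ⊗ Gk) q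
    obtain ⟨y, t, x, e1⟩ := hV (h ≫ fst _ _) (fun z => by
      rw [GrpScheme.Points.comp_apply, GrpScheme.Points.pointHom_apply]; exact h1)
    obtain ⟨y', t', x', e2⟩ := hV (h ≫ snd _ _) (fun z => by
      rw [GrpScheme.Points.comp_apply, GrpScheme.Points.pointHom_apply]; exact h2)
    obtain ⟨y'', t'', x'', e3⟩ := hmul y y' x x' t t'
    have e : h ≫ μ[Gk] = tr b W G (C.pt y'' t'' x'') := by
      rw [← e3, tr_mul, ← e1, ← e2, Hom.mul_def, ← comp_lift, lift_fst_snd]
      simp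
    obtain ⟨z⟩ : Nonempty W.left := inferInstance
    have h4 : (h ≫ μ[Gk]).left z ∈ V := by
      rw [e]
      show pullback.fst G.hom b _ ∈ Set.range C.map.left
      exact (hfst _ _).symm ▸ C.pt_mem _ _ _ _
    rwa [GrpScheme.Points.comp_apply, GrpScheme.Points.pointHom_apply, h3] at h4
  let U := Red.bc b (Red.Ga S)
  let iU : U ⟶ Gk := (Over.pullback b).map C.pp
  have : IsMonHom iU := DiagRig.isMonHom_bcMap b C.pp
  have : Mono iU := inferInstance
  obtain ⟨hs, hconn, hUa⟩ := smooth_Ga b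
  have : QuasiCompact U.hom := inferInstance
  have : QuasiCompact iU.left := GrpdLib.GrpOver.quasiCompact_left iU
  have hcl : IsClosedImmersion iU.left := GrpArtin.Descend.isClosedImmersion_of_mono iU
  have hnorm : AlgGrp.IsNormalHom iU := by
    intro W g n
    obtain ⟨y, t, x, rfl⟩ := hV g (fun z => htop _)
    obtain ⟨a, rfl⟩ := (tr b W (Red.Ga S)).surjective n
    obtain ⟨w, hw, -⟩ := C.hpp _ t a
    refine ⟨tr b W _ w, ?_⟩
    rw [show tr b W (Red.Ga S) a ≫ iU = tr b W G (a ≫ C.pp) from (tr_comp b a C.pp).symm,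
      show tr b W (Red.Ga S) w ≫ iU = tr b W G (w ≫ C.pp) from (tr_comp b w C.pp).symm]
    have hinv : tr b W G (C.pt y t x)⁻¹ = (tr b W G (C.pt y t x))⁻¹ :=
      eq_inv_of_mul_eq_one_left (by rw [← Cor85.tr_mul, inv_mul_cancel, tr_one])
    rw [← hinv, ← tr_mul, ← tr_mul]
    congr 1
    rw [hw, Cel.pt]
    have hxa : (gaPt x ≫ C.pp) * (a ≫ C.pp) = (a ≫ C.pp) * (gaPt x ≫ C.pp) := by
      rw [← gaPt_gaFn a, ← @MonObj.mul_comp _ _ _ _ _ _ _ _ (gaPt x) _ C.pp C.hp, ← @MonObj.mul_comp _ _ _ _ _ _ _ _ _ (gaPt x) C.pp C.hp, ← gaPt_add, ← gaPt_add, add_comm]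
    have hyw : (gaPt y ≫ C.pm) * (w ≫ C.pp) = (w ≫ C.pp) * (gaPt y ≫ C.pm) := by
      rw [← gaPt_gaFn w, hc]
    calc (gaPt y ≫ C.pm) * (t ≫ C.i) * (gaPt x ≫ C.pp) * (a ≫ C.pp) * ((gaPt y ≫ C.pm) * (t ≫ C.i) * (gaPt x ≫ C.pp))⁻¹
        = (gaPt y ≫ C.pm) * (t ≫ C.i) * ((gaPt x ≫ C.pp) * (a ≫ C.pp)) * (gaPt x ≫ C.pp)⁻¹ * (t ≫ C.i)⁻¹ *
          (gaPt y ≫ C.pm)⁻¹ := by group
      _ = (gaPt y ≫ C.pm) * ((t ≫ C.i) * (a ≫ C.pp) * (t ≫ C.i)⁻¹) * (gaPt y ≫ C.pm)⁻¹ := by rw [hxa]; group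
      _ = (t ≫ C.i) * (a ≫ C.pp) * (t ≫ C.i)⁻¹ := by rw [← hw, hyw]; group
  have htriv : IsIso U.hom := hrad U iU hcl hs hconn hnorm (noSubtorus_Ga b)
  let W₁ := 𝟙_ (Over (Spec (CommRingCat.of K)))
  have e : tr b W₁ (Red.Ga S) (gaPt 1) = tr b W₁ (Red.Ga S) (gaPt 0) := by
    apply Over.OverMorphism.ext
    rw [← cancel_mono U.hom, Over.w, Over.w]
  have e1 := congrArg Red.gaFn ((tr b W₁ (Red.Ga S)).injective e)
  rw [gaFn_gaPt, gaFn_gaPt] at e1
  exact one_ne_zero ((fn_bijective (CommRingCat.of K)).1 (((map_one _).trans e1).trans (map_zero _).symm))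

end Aux

/-- Let G be a reductive S-group, i : T ⟶ G a maximal torus, α a character of T non-trivial on every
geometric fibre, and p₊, p₋ : 𝔾_a ⟶ G monomorphisms of groups normalised by T with multipliers α and
α⁻¹ such that 𝔾_a ×_S T ×_S 𝔾_a ⟶ G, (y, t, x) ↦ p₋(y) i(t) p₊(x), is an open immersion (a rank-one
system: G has semisimple rank 1 and p₊, p₋ trivialise the root groups of α and -α). Then on no
geometric fibre of S do the images of p₊ and p₋ commute: for every s there are points x, y of 𝔾_a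
with values in some scheme over the geometric point at s such that p₊(x) p₋(y) ≠ p₋(y) p₊(x). -/
theorem result (S : Scheme.{u}) (G T : Over S) [GrpObj G] [GrpObj T] (i : T ⟶ G) [IsMonHom i] [Mono i] (hG : Red.IsReductive G) (hTm : Red.IsMaximalTorus i)
    (α : T ⟶ Red.Gm S) [IsMonHom α] (hα : ∀ s : S, (Over.pullback (Red.geomPt s)).map α ≠ 1)
    (pp pm : Red.Ga S ⟶ G) [IsMonHom pp] [Mono pp] [IsMonHom pm] [Mono pm]
    (hpp : ∀ (X : Over S) (t : X ⟶ T) (x : X ⟶ Red.Ga S), ∃ x' : X ⟶ Red.Ga S,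
      x' ≫ pp = (t ≫ i) * (x ≫ pp) * (t ≫ i)⁻¹ ∧ Red.gaFn x' = Red.gmFn (t ≫ α) * Red.gaFn x)
    (hpm : ∀ (X : Over S) (t : X ⟶ T) (y : X ⟶ Red.Ga S), ∃ y' : X ⟶ Red.Ga S,
      y' ≫ pm = (t ≫ i) * (y ≫ pm) * (t ≫ i)⁻¹ ∧ Red.gaFn y' * Red.gmFn (t ≫ α) = Red.gaFn y)
    (hΩ : IsOpenImmersion (((pm ⊗ₘ i) ⊗ₘ pp) ≫ (μ[G] ▷ G) ≫ μ[G]).left) (s : S) :
    ∃ (X : Over (Spec (CommRingCat.of (AlgebraicClosure (S.residueField s)))))
      (x y : X ⟶ Red.bc (Red.geomPt s) (Red.Ga S)),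
      (x ≫ (Over.pullback (Red.geomPt s)).map pp) * (y ≫ (Over.pullback (Red.geomPt s)).map pm) ≠
        (y ≫ (Over.pullback (Red.geomPt s)).map pm) * (x ≫ (Over.pullback (Red.geomPt s)).map pp) := by
  by_contra hne
  simp only [not_exists, not_not] at hne
  let C : Cor85.Weight.Cel S G T := @Cor85.Weight.Cel.mk S G T _ _ i α pp pm inferInstance inferInstance inferInstance inferInstance hpp hpm hTm.2.2.1 hΩ
  have : Mono C.pp := ‹Mono pp›
  refine Aux.not_commute (K := AlgebraicClosure (S.residueField s)) (Red.geomPt s) C (hG.2.2 s) fun W x y => ?_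
  have h := hne W (Cor85.tr (Red.geomPt s) W (Red.Ga S) (gaPt x)) (Cor85.tr (Red.geomPt s) W (Red.Ga S) (gaPt y))
  rw [← Cor85.tr_comp, ← Cor85.tr_comp, ← Cor85.tr_mul, ← Cor85.tr_mul] at h
  exact (Cor85.tr _ W G).injective h

end Groth.Agent.S8446
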