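import Groth.Statements.S8447
import Groth.Agent.Cor85.WtdTorus
import Groth.Agent.GrpScheme.DenseOpen
import Groth.Agent.Borel50.ConjDense

set_option autoImplicit false
universe u
open CategoryTheory MonoidalCategory CartesianMonoidalCategory MonObj GrpObj AlgebraicGeometry CategoryTheory.Limits
open Red

namespace Groth.Agent.S8447
attribute [-instance] Groth.Agent.GrpArtin.grpObjBC CategoryTheory.Hom.commGroup
open CategoryTheory MonoidalCategory CartesianMonoidalCategory MonObj GrpObj AlgebraicGeometry Limits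
open Groth.Agent.RedPts Groth.Agent.Cor85 Groth.Agent.Cor85.Weight

namespace Aux

attribute [local instance] Borel50.Lin.ptTop
attribute [local instance] Cel.hi Cel.hα Cel.hp Cel.hm

variable {S : Scheme.{u}} {G T : Over S} [GrpObj G] [GrpObj T] (C : Cel S G T)

/-- Geometric fibres of a reductive group. -/
theorem fibre_props (hG : Red.IsReductive G) {K : Type u} [Field K] [IsAlgClosed K] (s : S)
    (g₁ : Spec (CommRingCat.of K) ⟶ Spec (S.residueField s)) :
    IsAffine (Red.bc (g₁ ≫ S.fromSpecResidueField s) G).left ∧ Smooth (Red.bc (g₁ ≫ S.fromSpecResidueField s) G).hom ∧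
      ConnectedSpace (Red.bc (g₁ ≫ S.fromSpecResidueField s) G).left := by
  obtain ⟨hGa, hGs, hGf⟩ := hG
  refine ⟨?_, inferInstanceAs (Smooth (pullback.snd _ _)), ?_⟩
  · show IsAffine (pullback G.hom _)
    exact isAffine_of_isAffineHom (pullback.snd G.hom _)
  · let g₀ : Spec (CommRingCat.of (AlgebraicClosure (S.residueField s))) ⟶ Spec (S.residueField s) :=
      Spec.map (CommRingCat.ofHom (algebraMap (S.residueField s) (AlgebraicClosure (S.residueField s))))
    have h0 : ConnectedSpace ↥(pullback (pullback.snd G.hom (S.fromSpecResidueField s)) g₀) := by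
      have : ConnectedSpace ↥(pullback G.hom (g₀ ≫ S.fromSpecResidueField s)) := (hGf s).2.2.1
      let e := pullbackLeftPullbackSndIso G.hom (S.fromSpecResidueField s) g₀
      exact e.inv.surjective.connectedSpace e.inv.continuous
    have : Surjective g₀ :=
      ⟨fun q => ⟨IsLocalRing.closedPoint _, Subsingleton.elim (α := PrimeSpectrum (S.residueField s)) _ _⟩⟩
    let q := pullback.fst (pullback.snd G.hom (S.fromSpecResidueField s)) g₀
    have : ConnectedSpace (Red.bc (S.fromSpecResidueField s) G).left :=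
      q.surjective.connectedSpace q.continuous
    have : LocallyOfFiniteType (Red.bc (S.fromSpecResidueField s) G).hom :=
      inferInstanceAs (LocallyOfFiniteType (pullback.snd _ _))
    have : ConnectedSpace ↥(pullback (pullback.snd G.hom (S.fromSpecResidueField s)) g₁) :=
      @Borel50.BaseChange.connectedSpace_bc (S.residueField s) _ K _ g₁ (Red.bc (S.fromSpecResidueField s) G)
        (inferInstanceAs (GrpObj ((Over.pullback (S.fromSpecResidueField s)).obj G))) _ _
    let e := pullbackLeftPullbackSndIso G.hom (S.fromSpecResidueField s) g₁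
    exact e.hom.surjective.connectedSpace e.hom.continuous

/-- The map to the residue field under a geometric point. -/
noncomputable abbrev g₁ {X : Over S} (x : X.left) :
    Spec (CommRingCat.of (AlgebraicClosure (X.left.residueField x))) ⟶ Spec (S.residueField (X.hom x)) :=
  Spec.map (CommRingCat.ofHom (algebraMap (X.left.residueField x) (AlgebraicClosure (X.left.residueField x)))) ≫
    Spec.map (X.hom.residueFieldMap x)

theorem hab {X : Over S} (x : X.left) : Red.geomPt x ≫ X.hom = g₁ x ≫ S.fromSpecResidueField (X.hom x) := by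
  simp only [g₁, Red.geomPt, Category.assoc, Scheme.Hom.SpecMap_residueFieldMap_fromSpecResidueField]

theorem geomPt_apply {X : Over S} (x : X.left) (z : Spec (CommRingCat.of (AlgebraicClosure (X.left.residueField x)))) :
    (Red.geomPt x) z = x := by
  have key : ∀ {Z : Scheme.{u}} (h : Z ⟶ Spec (X.left.residueField x)) (w : Z),
      (h ≫ X.left.fromSpecResidueField x) w = x := fun h w => by
    rw [Scheme.Hom.comp_apply]; exact Scheme.fromSpecResidueField_apply x _
  exact key (Spec.map (CommRingCat.ofHom (algebraMap (X.left.residueField x) _))) z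

theorem lands_T [Mono C.i] (hG : Red.IsReductive G) (hα : ∀ s : S, (Over.pullback (Red.geomPt s)).map C.α ≠ 1)
    {X : Over S} (g : X ⟶ G)
    (hg : ∀ (X' : Over S) (y : X' ⟶ X) (t : X' ⟶ T), (y ≫ g) * (t ≫ C.i) = (t ≫ C.i) * (y ≫ g)) (x : X.left) :
    g.left x ∈ Set.range C.map.left := by
  let K := AlgebraicClosure (X.left.residueField x)
  let b : Spec (CommRingCat.of K) ⟶ S := g₁ x ≫ S.fromSpecResidueField (X.hom x)
  obtain ⟨hGaff, hGsm, hGc⟩ : IsAffine (Red.bc b G).left ∧ Smooth (Red.bc b G).hom ∧ ConnectedSpace (Red.bc b G).left :=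
    fibre_props hG (X.hom x) (g₁ x)
  let W₁ := 𝟙_ (Over (Spec (CommRingCat.of K)))
  let P := (Over.map b).obj W₁
  let iT₀ := (Over.pullback b).map C.i
  have := C.hi
  have : IsMonHom iT₀ := inferInstance
  have : Mono iT₀ := inferInstance
  have hTt := AbSch51.TorusToProper.isTorus_bc b C.hT
  obtain ⟨_, hTlft, hTint, -⟩ := Borel50.Lin.TorusSch.torus_facts (k := K) (T := Red.bc b T) hTt
  have : ConnectedSpace (Red.bc b T).left := inferInstance
  let U : Set (Red.bc b G).left := (pullback.fst G.hom b) ⁻¹' Set.range C.map.left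
  have := C.open_cell
  have hU : IsOpen U := C.map.left.isOpenEmbedding.isOpen_range.preimage (pullback.fst G.hom b).continuous
  have hfst : ∀ p : P ⟶ G, pullback.fst G.hom b (Borel50.Pts.pt (tr b W₁ G p)) =
      p.left (IsLocalRing.closedPoint K) := fun p => congr($(tr_left b p) (IsLocalRing.closedPoint K))
  have hit : ∀ z, Borel50.Density.ptHom iT₀ (tr b W₁ T z) = tr b W₁ G (z ≫ C.i) := fun z => (tr_comp b _ _).symm
  have hTU : ∀ q ∈ (Borel50.Density.ptHom iT₀).range, Borel50.Pts.pt q ∈ U := by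
    rintro _ ⟨z, rfl⟩
    obtain ⟨t, rfl⟩ := (tr b W₁ T).surjective z
    show pullback.fst G.hom b _ ∈ Set.range C.map.left
    rw [hit, hfst, show t ≫ C.i = C.pt 0 1 0 * (t ≫ C.i) by rw [Cel.pt_one, _root_.one_mul]]
    rw [Cel.pt_one, _root_.one_mul, show t ≫ C.i = C.pt 0 t 0 by simp [Cel.pt, Cel.gaPt_zero_comp]]
    exact C.pt_mem _ _ _ _
  have hcell : ∀ q ∈ Subgroup.centralizer ((Borel50.Density.ptHom iT₀).range : Set (Borel50.Pts.Pt (Red.bc b G))),
      Borel50.Pts.pt q ∈ U → q ∈ (Borel50.Density.ptHom iT₀).range := by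
    intro q hq hqU
    obtain ⟨p, rfl⟩ := (tr b W₁ G).surjective q
    obtain ⟨y, t, c, rfl⟩ := C.exists_pt p (by
      rintro _ ⟨w, rfl⟩
      rw [show w = (IsLocalRing.closedPoint K : Spec (CommRingCat.of K)) from
        Subsingleton.elim (α := PrimeSpectrum K) _ _, ← hfst]
      exact hqU)
    let K₀ := AlgebraicClosure (S.residueField (X.hom x))
    letI : Algebra (S.residueField (X.hom x)) K :=
      ((algebraMap (X.left.residueField x) K).comp (X.hom.residueFieldMap x).hom).toAlgebra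
    let σ : K₀ →ₐ[S.residueField (X.hom x)] K := IsAlgClosed.lift
    let m : P ⟶ Over.mk (Red.geomPt (X.hom x)) := Over.homMk (Spec.map (CommRingCat.ofHom σ.toRingHom)) (by
      show Spec.map _ ≫ Spec.map _ ≫ _ = 𝟙 _ ≫ (Spec.map _ ≫ Spec.map _) ≫ _
      rw [Category.id_comp, ← Category.assoc, ← Spec.map_comp, ← Spec.map_comp]
      congr 2
      ext r
      exact σ.commutes r)
    obtain ⟨s₀, hs₀⟩ := exists_value_ne C.hT C.α (X.hom x) (hα _) 1 one_pos
    rw [pow_one] at hs₀
    let s : P ⟶ T := m ≫ s₀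
    have hu : IsUnit (Red.gmFn (s ≫ C.α) - 1) := by
      obtain ⟨u₀, hu₀⟩ := (fn_bijective (CommRingCat.of K₀)).2 (Red.gmFn (s₀ ≫ C.α))
      have e : Red.gmFn (s ≫ C.α) = fn (CommRingCat.of K) (σ u₀) := by
        rw [Category.assoc, gm_comp, ← hu₀]
        exact (congr($(Scheme.ΓSpecIso_inv_naturality (CommRingCat.ofHom σ.toRingHom)) u₀)).symm
      have h0 : σ u₀ - 1 ≠ 0 := by
        rw [sub_ne_zero, ← map_one σ]
        intro h
        exact hs₀ (by rw [← hu₀, σ.toRingHom.injective h, map_one])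
      have := (isUnit_iff_ne_zero.2 h0).map (fn (CommRingCat.of K))
      rw [map_sub, map_one, ← e] at this
      exact this
    have hcm := Subgroup.mem_centralizer_iff.1 hq (tr b W₁ G (s ≫ C.i)) ⟨tr b W₁ T s, hit s⟩
    rw [← Cor85.tr_mul, ← Cor85.tr_mul] at hcm
    have e := C.conj_pt s y c t
    rw [(tr b W₁ G).injective hcm, mul_inv_cancel_right] at e
    obtain ⟨e1, -, e2⟩ := C.pt_inj e
    have hc : c = 0 := hu.mul_right_eq_zero.1 (by rw [sub_mul, _root_.one_mul, ← gmU_val, ← e2, sub_self])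
    have hy : y = 0 := hu.mul_right_eq_zero.1 (by
      have := congrArg ((gmU (s ≫ C.α) : Γ(P.left, ⊤)) * ·) e1
      simp only [Units.mul_inv_cancel_left] at this
      rw [sub_mul, _root_.one_mul, ← gmU_val, this, sub_self])
    refine ⟨tr b W₁ T t, ?_⟩
    rw [hit, hc, hy]
    simp [Cel.pt, Cel.gaPt_zero_comp]
  let a₀ : P ⟶ X := Over.homMk (Red.geomPt x) ((hab x).trans (Category.id_comp b).symm)
  obtain ⟨z, hz⟩ := mem_range_of_commute iT₀ hTt (Borel50.Density.ptHom iT₀).range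
    (Borel50.Density.isPreconnected_range iT₀) le_rfl U hU hTU hcell
    (g := tr b W₁ G (a₀ ≫ g)) (Subgroup.mem_centralizer_iff.2 (by
      rintro _ ⟨w, rfl⟩
      obtain ⟨w, rfl⟩ := (tr b W₁ T).surjective w
      rw [hit, ← Cor85.tr_mul, ← Cor85.tr_mul, hg P a₀ w]))
  have h1 : Borel50.Pts.pt (tr b W₁ G (a₀ ≫ g)) ∈ U := hz ▸ hTU _ ⟨z, rfl⟩
  have h2 : (a₀ ≫ g).left (IsLocalRing.closedPoint K) ∈ Set.range C.map.left := hfst _ ▸ h1
  change g.left ((Red.geomPt x) (IsLocalRing.closedPoint K)) ∈ Set.range C.map.left at h2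
  exact (geomPt_apply x (IsLocalRing.closedPoint K)) ▸ h2

/-- Products of two points of the cell cover the group. -/
theorem mul_cell_surjective (hG : Red.IsReductive G) :
    Surjective ((C.map ⊗ₘ C.map) ≫ μ[G]).left := by
  constructor
  intro g
  let K := AlgebraicClosure (G.left.residueField g)
  let b : Spec (CommRingCat.of K) ⟶ S := g₁ g ≫ S.fromSpecResidueField (G.hom g)
  obtain ⟨hGaff, hGsm, hGc⟩ : IsAffine (Red.bc b G).left ∧ Smooth (Red.bc b G).hom ∧ ConnectedSpace (Red.bc b G).left :=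
    fibre_props hG (G.hom g) (g₁ g)
  let Gk := Red.bc b G
  have := AbVarLib.Basics.irreducibleSpace_of_connectedSpace Gk
  have := C.open_cell
  have hfst : ∀ {W : Over (Spec (CommRingCat.of K))} (p : (Over.map b).obj W ⟶ G) (z : W.left),
      pullback.fst G.hom b ((tr b W G p).left z) = p.left z := fun p z => congr($(tr_left b p) z)
  let V : Gk.left.Opens := pullback.fst G.hom b ⁻¹ᵁ C.map.left.opensRange
  let W₁ := 𝟙_ (Over (Spec (CommRingCat.of K)))
  have hne : (V : Set Gk.left).Nonempty := ⟨(tr b W₁ G (C.pt 0 1 0)).left (IsLocalRing.closedPoint K), by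
    show pullback.fst G.hom b _ ∈ Set.range C.map.left
    exact (hfst _ _).symm ▸ C.pt_mem _ _ _ _⟩
  have hd : Dense (V : Set Gk.left) := V.2.dense hne
  let a₀ : (Over.map b).obj W₁ ⟶ G := Over.homMk (Red.geomPt g) ((hab g).trans (Category.id_comp b).symm)
  obtain ⟨q, h1, h2, h3⟩ := GrpScheme.DenseOpen.exists_mul V V hd hd ((tr b W₁ G a₀).left (IsLocalRing.closedPoint K))
  let W := GrpScheme.Points.pointObj (Gk ⊗ Gk) q
  let h : W ⟶ Gk ⊗ Gk := GrpScheme.Points.pointHom (Gk ⊗ Gk) q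
  have hV : ∀ v : W ⟶ Gk, (∀ z, v.left z ∈ V) → ∃ l : (Over.map b).obj W ⟶ (Red.Ga S ⊗ T) ⊗ Red.Ga S,
      v = tr b W G (l ≫ C.map) := by
    intro v hv
    obtain ⟨p, rfl⟩ := (tr b W G).surjective v
    obtain ⟨y, t, c, rfl⟩ := C.exists_pt p (by
      rintro _ ⟨z, rfl⟩
      exact hfst p z ▸ hv z)
    exact ⟨lift (lift (gaPt y) t) (gaPt c), by rw [Cel.lift_map]; rfl⟩
  obtain ⟨l₁, e1⟩ := hV (h ≫ fst _ _) (fun z => by
    rw [GrpScheme.Points.comp_apply, GrpScheme.Points.pointHom_apply]; exact h1)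
  obtain ⟨l₂, e2⟩ := hV (h ≫ snd _ _) (fun z => by
    rw [GrpScheme.Points.comp_apply, GrpScheme.Points.pointHom_apply]; exact h2)
  have e : h ≫ μ[Gk] = tr b W G (lift l₁ l₂ ≫ (C.map ⊗ₘ C.map) ≫ μ[G]) := by
    rw [lift_map_assoc, ← Hom.mul_def, Cor85.tr_mul, ← e1, ← e2, Hom.mul_def, ← comp_lift_assoc, lift_fst_snd, Category.id_comp]
  obtain ⟨z⟩ : Nonempty W.left := inferInstance
  have h4 := congr($(e).left z)
  rw [GrpScheme.Points.comp_apply, GrpScheme.Points.pointHom_apply, h3] at h4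
  have h5 := (hfst a₀ _).symm.trans ((congrArg (pullback.fst G.hom b) h4).trans (hfst _ z))
  change (Red.geomPt g) (IsLocalRing.closedPoint K) = _ at h5
  exact ⟨(lift l₁ l₂).left z, h5.symm.trans (geomPt_apply g (IsLocalRing.closedPoint K))⟩

theorem mul_cell_flat (hG : Red.IsReductive G) : Flat ((C.map ⊗ₘ C.map) ≫ μ[G]).left := by
  have := hG.2.1
  have := C.open_cell
  have : Flat ((Red.Ga S ⊗ T) ⊗ Red.Ga S).hom := by
    rw [← Over.w C.map]; infer_instance
  have h1 : Flat (((Red.Ga S ⊗ T) ⊗ Red.Ga S) ◁ C.map).left :=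
    GrpScheme.Basic.whiskerLeft_mem @Flat C.map _ inferInstance
  have h2 : Flat ((C.map ▷ G) ≫ μ[G]).left :=
    GrpScheme.Basic.whiskerRight_comp_mul_mem @Flat C.map inferInstance
  rw [tensorHom_def', Category.assoc, Over.comp_left]
  infer_instance

end Aux

/-- Let G be a reductive S-group, i : T ⟶ G a maximal torus, α a character of T non-trivial on every
geometric fibre, and p₊, p₋ : 𝔾_a ⟶ G monomorphisms of groups normalised by T with multipliers α and
α⁻¹ such that 𝔾_a ×_S T ×_S 𝔾_a ⟶ G, (y, t, x) ↦ p₋(y) i(t) p₊(x), is an open immersion (a rank-one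
system: G has semisimple rank 1 and p₊, p₋ trivialise the root groups of α and -α). Then the centre
of G is Ker α: a point g of G with values in an S-scheme X commutes with all points of G after every
base change X' ⟶ X if and only if g = i(t) for some X-point t of T with α(t) = 1. (In particular the
centre is a closed subgroup of multiplicative type; only the equality of points is stated.) -/
theorem result (S : Scheme.{u}) (G T : Over S) [GrpObj G] [GrpObj T] (i : T ⟶ G) [IsMonHom i] [Mono i] (hG : Red.IsReductive G) (hTm : Red.IsMaximalTorus i)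
    (α : T ⟶ Red.Gm S) [IsMonHom α] (hα : ∀ s : S, (Over.pullback (Red.geomPt s)).map α ≠ 1)
    (pp pm : Red.Ga S ⟶ G) [IsMonHom pp] [Mono pp] [IsMonHom pm] [Mono pm]
    (hpp : ∀ (X : Over S) (t : X ⟶ T) (x : X ⟶ Red.Ga S), ∃ x' : X ⟶ Red.Ga S,
      x' ≫ pp = (t ≫ i) * (x ≫ pp) * (t ≫ i)⁻¹ ∧ Red.gaFn x' = Red.gmFn (t ≫ α) * Red.gaFn x)
    (hpm : ∀ (X : Over S) (t : X ⟶ T) (y : X ⟶ Red.Ga S), ∃ y' : X ⟶ Red.Ga S,
      y' ≫ pm = (t ≫ i) * (y ≫ pm) * (t ≫ i)⁻¹ ∧ Red.gaFn y' * Red.gmFn (t ≫ α) = Red.gaFn y)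
    (hΩ : IsOpenImmersion (((pm ⊗ₘ i) ⊗ₘ pp) ≫ (μ[G] ▷ G) ≫ μ[G]).left) (X : Over S) (g : X ⟶ G) :
    (∀ (X' : Over S) (x : X' ⟶ X) (k : X' ⟶ G), (x ≫ g) * k = k * (x ≫ g)) ↔
      ∃ t : X ⟶ T, t ≫ i = g ∧ t ≫ α = 1 := by
  have hT : Red.IsTorus T := hTm.2.2.1
  let C : Cor85.Weight.Cel S G T := @Cor85.Weight.Cel.mk S G T _ _ i α pp pm inferInstance inferInstance inferInstance inferInstance hpp hpm hT hΩ
  have : Mono C.i := ‹Mono i›
  constructor
  · intro hg
    obtain ⟨y, t, c, e⟩ := C.exists_pt g (by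
      rintro _ ⟨w, rfl⟩
      exact Aux.lands_T C hG hα g (fun X' z s => hg X' z (s ≫ C.i)) w)
    obtain ⟨Y, π, hπ, s, hs⟩ := Cor85.Weight.exists_cover hT α 1 (fun s => Cor85.Weight.exists_value_ne hT α s (hα s) 1 one_pos) X
    rw [pow_one] at hs
    have e' := C.conj_pt s (π.left.appTop y) (π.left.appTop c) (π ≫ t)
    rw [← Cor85.Weight.Cel.comp_pt, ← e, show (s ≫ C.i) * (π ≫ g) = (π ≫ g) * (s ≫ C.i) from (hg Y π _).symm,
      mul_inv_cancel_right, e, Cor85.Weight.Cel.comp_pt] at e'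
    obtain ⟨e1, -, e2⟩ := C.pt_inj e'
    have hc : π.left.appTop c = 0 := hs.mul_right_eq_zero.1 (by rw [sub_mul, _root_.one_mul, ← gmU_val, ← e2, sub_self])
    have hy : π.left.appTop y = 0 := hs.mul_right_eq_zero.1 (by
      have := congrArg ((gmU (s ≫ α) : Γ(Y.left, ⊤)) * ·) e1
      simp only [C, Units.mul_inv_cancel_left] at this
      rw [sub_mul, _root_.one_mul, ← gmU_val, this, sub_self])
    have key : ∀ z : Γ(X.left, ⊤), π.left.appTop z = 0 → z = 0 := fun z hz => by
      have e3 : π ≫ (gaPt z : X ⟶ Red.Ga S) = π ≫ gaPt 0 := by rw [gaPt_comp, gaPt_comp, hz, map_zero]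
      have := congrArg Red.gaFn ((cancel_epi π).1 e3)
      rwa [gaFn_gaPt, gaFn_gaPt] at this
    have ht : t ≫ i = g := by
      rw [e, key c hc, key y hy]
      simp [Cor85.Weight.Cel.pt, Cor85.Weight.Cel.gaPt_zero_comp, C]
    refine ⟨t, ht, ?_⟩
    have e4 := C.conj_pt t 0 1 (1 : X ⟶ T)
    have e5 : (t ≫ C.i) * C.pt 0 1 1 = C.pt 0 1 1 * (t ≫ C.i) := by
      have := hg X (𝟙 X) (C.pt 0 1 1)
      rwa [Category.id_comp, ← ht] at this
    rw [e5, mul_inv_cancel_right, mul_zero, _root_.mul_one] at e4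
    have e6 := (C.pt_inj e4).2.2
    apply gm_injective
    rw [Cor85.Weight.gm_one', ← gmU_val]
    exact e6.symm
  · rintro ⟨t, rfl, hα1⟩ X' x k
    rw [← Category.assoc]
    have := Aux.mul_cell_surjective C hG
    have := Aux.mul_cell_flat C hG
    let mm := (C.map ⊗ₘ C.map) ≫ μ[G]
    let Y : Over S := Over.mk (pullback.fst k.left mm.left ≫ X'.hom)
    let π : Y ⟶ X' := Over.homMk (pullback.fst k.left mm.left) rfl
    let l : Y ⟶ ((Red.Ga S ⊗ T) ⊗ Red.Ga S) ⊗ ((Red.Ga S ⊗ T) ⊗ Red.Ga S) := Over.homMk (pullback.snd k.left mm.left) (by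
      show _ = pullback.fst k.left mm.left ≫ X'.hom
      rw [← Over.w k, ← Category.assoc, pullback.condition, Category.assoc, Over.w mm])
    have hl : π ≫ k = l ≫ mm := Over.OverMorphism.ext pullback.condition
    have : Epi π.left := Flat.epi_of_flat_of_surjective (pullback.fst k.left mm.left)
    have : Epi π := Over.epi_of_epi_left π
    rw [← cancel_epi π, MonObj.comp_mul, MonObj.comp_mul, hl]
    have hcomm : ∀ w : Y ⟶ (Red.Ga S ⊗ T) ⊗ Red.Ga S,
        (π ≫ (x ≫ t) ≫ i) * (w ≫ C.map) = (w ≫ C.map) * (π ≫ (x ≫ t) ≫ i) := by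
      intro w
      rw [show w = lift (lift (gaPt (Red.gaFn (w ≫ fst _ _ ≫ fst _ _))) (w ≫ fst _ _ ≫ snd _ _))
        (gaPt (Red.gaFn (w ≫ snd _ _))) by rw [gaPt_gaFn, gaPt_gaFn]; ext <;> simp]
      rw [Cor85.Weight.Cel.lift_map, show π ≫ (x ≫ t) ≫ i = (π ≫ x ≫ t) ≫ C.i by simp only [Category.assoc]; rfl]
      have e := C.conj_pt (π ≫ x ≫ t) (Red.gaFn (w ≫ fst _ _ ≫ fst _ _)) (Red.gaFn (w ≫ snd _ _)) (w ≫ fst _ _ ≫ snd _ _)
      have h1 : gmU ((π ≫ x ≫ t) ≫ C.α) = 1 := Units.ext (by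
        rw [gmU_val, show (π ≫ x ≫ t) ≫ C.α = π ≫ x ≫ 1 by simp only [Category.assoc]; rw [← hα1],
          Units.val_one, MonObj.comp_one, MonObj.comp_one, Cor85.Weight.gm_one'])
      rw [h1, inv_one, Units.val_one, _root_.one_mul, _root_.one_mul, mul_inv_eq_iff_eq_mul] at e
      exact e
    have hl' : π ≫ k = ((l ≫ fst _ _) ≫ C.map) * ((l ≫ snd _ _) ≫ C.map) := by
      rw [hl, Hom.mul_def, ← lift_map_assoc, ← comp_lift, lift_fst_snd, Category.comp_id]
    rw [← hl, hl']
    have h1 := hcomm (l ≫ fst _ _)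
    have h2 := hcomm (l ≫ snd _ _)
    simp only [Category.assoc] at h1 h2 ⊢
    rw [← _root_.mul_assoc, h1, _root_.mul_assoc, h2, ← _root_.mul_assoc]

end Groth.Agent.S8447
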