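import Groth.Statements.S8448
import Groth.Agent.RedPts.RankOne
-- import your own Groth.Agent.* helpers here

set_option autoImplicit false
universe u
open CategoryTheory MonoidalCategory CartesianMonoidalCategory MonObj GrpObj AlgebraicGeometry CategoryTheory.Limits
open Red

namespace Groth.Agent.S8448

open Groth.Agent.RedPts

lemma neg_inv_eq {S : Scheme.{u}} {X : Over S} (a : (Γ(X.left, ⊤))ˣ) (x x' : X ⟶ Red.Ga S)
    (ha : (a : Γ(X.left, ⊤)) = Red.gaFn x) (hx : Red.gaFn x' * Red.gaFn x = -1) :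
    -(↑a⁻¹ : Γ(X.left, ⊤)) = Red.gaFn x' := by
  apply a.isUnit.mul_right_cancel
  rw [neg_mul, Units.inv_mul, ha, hx]

lemma weyl_eq {S : Scheme.{u}} {G T : Over S} [GrpObj G] [GrpObj T] (D : Sys S G T) {X : Over S}
    (x x' : X ⟶ Red.Ga S) (hx : Red.gaFn x' * Red.gaFn x = -1) :
    ∃ a : (Γ(X.left, ⊤))ˣ, (a : Γ(X.left, ⊤)) = Red.gaFn x ∧
      (x ≫ D.pp) * (x' ≫ D.pm) * (x ≫ D.pp) = (D.rk X).w a := by
  have hu : IsUnit (Red.gaFn x) := IsUnit.of_mul_eq_one (-Red.gaFn x') (by rw [mul_neg, _root_.mul_comm, hx, neg_neg])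
  refine ⟨hu.unit, hu.unit_spec, ?_⟩
  rw [D.pp_eq, D.pm_eq, Rk1.w, neg_inv_eq hu.unit x x' hu.unit_spec hx, hu.unit_spec]


/-- Let G be an S-group scheme, i : T ⟶ G a torus of G (a monomorphism of groups), α : T ⟶ 𝔾_m and α^* :
𝔾_m ⟶ T homomorphisms with α ∘ α^* the squaring map, and p₊, p₋ : 𝔾_a ⟶ G homomorphisms normalised
by T with multipliers α and α⁻¹ which satisfy the rank-one commutation rule: whenever 1 + xy is
invertible, p₊(x) p₋(y) = p₋(y/(1+xy)) · i(α^*(1+xy)) · p₊(x/(1+xy)) (the situation of any reductive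
group of semisimple rank 1 with trivialised root groups, where α^* is the coroot). For a point x of
𝔾_a whose coordinate is invertible put w(x) = p₊(x) p₋(-x⁻¹) p₊(x). Then w(x) normalises T: w(x)
i(t) w(x)⁻¹ = i(α^*(α(t)))⁻¹ · i(t) for every point t of T, and for every point z of 𝔾_m one has
w(zx) = i(α^*(z)) · w(x) = w(x) · i(α^*(z))⁻¹. (The published statement is for a reductive group of
semisimple rank one with a maximal torus and a root; this row assumes only the commutation rule, the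
normalisation of p₊, p₋ by T and α ∘ α^* the squaring map, which is all the published proof uses.) -/
theorem result (S : Scheme.{u}) (G T : Over S) [GrpObj G] [GrpObj T] (i : T ⟶ G) [IsMonHom i] [Mono i] (hT : Red.IsTorus T)
    (α : T ⟶ Red.Gm S) [IsMonHom α]
    (pp pm : Red.Ga S ⟶ G) [IsMonHom pp] [IsMonHom pm]
    (hpp : ∀ (X : Over S) (t : X ⟶ T) (x : X ⟶ Red.Ga S), ∃ x' : X ⟶ Red.Ga S,
      x' ≫ pp = (t ≫ i) * (x ≫ pp) * (t ≫ i)⁻¹ ∧ Red.gaFn x' = Red.gmFn (t ≫ α) * Red.gaFn x)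
    (hpm : ∀ (X : Over S) (t : X ⟶ T) (y : X ⟶ Red.Ga S), ∃ y' : X ⟶ Red.Ga S,
      y' ≫ pm = (t ≫ i) * (y ≫ pm) * (t ≫ i)⁻¹ ∧ Red.gaFn y' * Red.gmFn (t ≫ α) = Red.gaFn y)
    (av : Red.Gm S ⟶ T) [IsMonHom av] (h2 : av ≫ α = (𝟙 (Red.Gm S)) ^ 2)
    (hF : ∀ (X : Over S) (x y : X ⟶ Red.Ga S), IsUnit (1 + Red.gaFn x * Red.gaFn y) →
      ∃ (x' y' : X ⟶ Red.Ga S) (z : X ⟶ Red.Gm S), Red.gmFn z = 1 + Red.gaFn x * Red.gaFn y ∧
        Red.gaFn x' * Red.gmFn z = Red.gaFn x ∧ Red.gaFn y' * Red.gmFn z = Red.gaFn y ∧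
        (x ≫ pp) * (y ≫ pm) = (y' ≫ pm) * (z ≫ av ≫ i) * (x' ≫ pp))
    (X : Over S) (x x' : X ⟶ Red.Ga S) (hx : Red.gaFn x' * Red.gaFn x = -1) :
    (∀ t : X ⟶ T, ((x ≫ pp) * (x' ≫ pm) * (x ≫ pp)) * (t ≫ i) * ((x ≫ pp) * (x' ≫ pm) * (x ≫ pp))⁻¹ =
        (t ≫ α ≫ av ≫ i)⁻¹ * (t ≫ i)) ∧
      ∀ (z : X ⟶ Red.Gm S) (y y' : X ⟶ Red.Ga S), Red.gaFn y = Red.gmFn z * Red.gaFn x →
        Red.gaFn y' * Red.gaFn y = -1 →
        (y ≫ pp) * (y' ≫ pm) * (y ≫ pp) = (z ≫ av ≫ i) * ((x ≫ pp) * (x' ≫ pm) * (x ≫ pp)) ∧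
          (y ≫ pp) * (y' ≫ pm) * (y ≫ pp) = ((x ≫ pp) * (x' ≫ pm) * (x ≫ pp)) * (z ≫ av ≫ i)⁻¹ := by
  let D : Groth.Agent.RedPts.Sys S G T := { i := i, α := α, av := av, pp := pp, pm := pm, hpp := hpp, hpm := hpm, h2 := h2, hF := hF }
  let R := D.rk X
  obtain ⟨a, ha, hw⟩ := weyl_eq D x x' hx
  rw [show (x ≫ pp) * (x' ≫ pm) * (x ≫ pp) = R.w a from hw]
  refine ⟨fun t => ?_, fun z y y' hy hy' => ?_⟩
  · rw [show t ≫ α ≫ av ≫ i = R.h (R.χ t) from D.αavi_eq t]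
    exact R.w_conj_it t a
  · obtain ⟨b, hb, hw'⟩ := weyl_eq D y y' hy'
    rw [show (y ≫ pp) * (y' ≫ pm) * (y ≫ pp) = R.w b from hw', show z ≫ av ≫ i = R.h (gmU z) from D.avi_eq z]
    have : b = gmU z * a := Units.ext (by rw [Units.val_mul, hb, hy, gmU_val, ha])
    subst this
    exact ⟨R.w_mul_left _ _, R.w_mul_right _ _⟩

end Groth.Agent.S8448
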