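import Groth.Statements.S8452
import Groth.Agent.Cor85.WtdMake
import Groth.Agent.S8478
import Groth.Agent.DiagRig.AgreeGraph

set_option autoImplicit false
universe u
open CategoryTheory MonoidalCategory CartesianMonoidalCategory MonObj GrpObj AlgebraicGeometry CategoryTheory.Limits
open Red

namespace Groth.Agent.S8452
attribute [-instance] Groth.Agent.GrpArtin.grpObjBC CategoryTheory.Hom.commGroup
open CategoryTheory MonoidalCategory CartesianMonoidalCategory MonObj GrpObj AlgebraicGeometry Limits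
open Groth.Agent.RedPts Groth.Agent.Cor85 Groth.Agent.S8478

namespace Aux

attribute [local instance] Sys.hi Sys.hα Sys.hav Sys.hp Sys.hm

variable {S : Scheme.{u}} {G T G' T' : Over S} [GrpObj G] [GrpObj T] [GrpObj G'] [GrpObj T']
  (D : Sys S G T) (D' : Sys S G' T') (q : ℕ) (f : G ⟶ G') [IsMonHom f]

/-- The coroot powers of the target commute with the image of the torus, which thus lands in the torus. -/
theorem exists_torus_map [Mono D'.i] [IsOpenImmersion (Cor85.cell D').left] (hT : Red.IsTorus T)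
    (hG' : Red.IsReductive G') (hT' : Red.IsTorus T') (hq0 : 0 < q)
    (h1 : S8478.Aux.P1 D D' q f) :
    ∃ fT : T ⟶ T', IsMonHom fT ∧ D.i ≫ f = fT ≫ D'.i := by
  obtain ⟨fT, hfT⟩ := (Cor85.centralizer D' hG' hT' (q : ℤ) (by exact_mod_cast hq0.ne') (D.i ≫ f)).1 (by
    intro X y z
    have hz : ((z ≫ D'.av) ^ (q : ℤ)) ≫ D'.i = ((z ≫ D.av) ≫ D.i) ≫ f := by
      rw [coroot_zpow_eq, zpow_natCast, ← h1 X (gmU z), ← D.avi_eq]
      simp only [Category.assoc]
    rw [hz, ← Category.assoc, ← MonObj.mul_comp, ← MonObj.mul_comp, ← MonObj.mul_comp, ← MonObj.mul_comp,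
      Cor85.torus_comm hT])
  refine ⟨fT, DiagRig.isMonHom_of_pts fT fun X x y => ?_, hfT.symm⟩
  apply (cancel_mono D'.i).1
  simp only [Category.assoc, MonObj.mul_comp, hfT]

/-- The multiplier of the map of tori. -/
theorem char_eq [Mono D'.pp] (fT : T ⟶ T') (hfT : D.i ≫ f = fT ≫ D'.i) (c : 𝟙_ (Over S) ⟶ Red.Gm S)
    (hP : ∀ (X : Over S) (a : Γ(X.left, ⊤)), (D.rk X).P a ≫ f = (D'.rk X).P ((S8478.Aux.cst c X : Γ(X.left, ⊤)) * a ^ q)) :
    fT ≫ D'.α = D.α ^ q := by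
  have e := congrArg (· ≫ f) ((D.rk T).conjP (𝟙 T) 1)
  simp only [MonObj.mul_comp, GrpObj.inv_comp, hP, _root_.mul_one, one_pow] at e
  have hit : (D.rk T).it (𝟙 T) ≫ f = (D'.rk T).it fT := by
    show (𝟙 T ≫ D.i) ≫ f = fT ≫ D'.i
    rw [Category.id_comp, hfT]
  rw [hit, (D'.rk T).conjP] at e
  have e2 : ((D'.rk T).χ fT : Γ(T.left, ⊤)) * (S8478.Aux.cst c T : Γ(T.left, ⊤)) =
      (S8478.Aux.cst c T : Γ(T.left, ⊤)) * ((D.rk T).χ (𝟙 T) : Γ(T.left, ⊤)) ^ q := by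
    have e1 := congrArg Red.gaFn ((cancel_mono D'.pp).1 e)
    rwa [gaFn_gaPt, gaFn_gaPt] at e1
  rw [_root_.mul_comm] at e2
  have e3 := (S8478.Aux.cst c T).isUnit.mul_left_cancel e2
  rw [D'.χ_val, D.χ_val, Category.id_comp] at e3
  apply gm_injective
  rw [e3]
  exact (map_pow (⟨⟨fun z => Red.gmFn z, Cor85.Weight.gm_one'⟩, gm_mul⟩ : (T ⟶ Red.Gm S) →* Γ(T.left, ⊤)) D.α q).symm

/-- The weighted homomorphism given by the image of the positive root group. -/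
theorem wtd [Mono D'.i] (hT' : Red.IsTorus T') [IsOpenImmersion (Cor85.cell D').left]
    (h1 : S8478.Aux.P1 D D' q f) :
    Cor85.Weight.Wtd (@Cor85.Weight.Cel.mk S G' T' _ _ D'.i D'.α D'.pp D'.pm D'.hi D'.hα D'.hp D'.hm D'.hpp D'.hpm hT' ‹_›)
      (Red.Gm S) D'.av q (D.pp ≫ f) := by
  have hsq : ∀ {X : Over S} (t : X ⟶ Red.Gm S), Red.gmFn (t ≫ D'.av ≫ D'.α) = Red.gmFn t ^ 2 := by
    intro X t
    rw [D'.h2, MonObj.comp_pow, Category.comp_id, pow_two, gm_mul, pow_two]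
  classical
  refine ⟨inferInstance, D'.hav, fun X t x => ?_, fun s r hr => ?_, fun X r hr => ?_⟩
  · have e : (gmU (t ≫ D'.av ≫ D'.α) : Γ(X.left, ⊤)) * x = ((D.rk X).χ ((D.rk X).av (gmU t)) : Γ(X.left, ⊤)) * x := by
      rw [(D.rk X).χav, Units.val_pow_eq_pow_val, gmU_val, gmU_val, hsq]
    rw [e]
    have e2 := congrArg (· ≫ f) ((D.rk X).conjP ((D.rk X).av (gmU t)) x)
    simp only [MonObj.mul_comp, GrpObj.inv_comp] at e2
    rw [← Category.assoc, ← Category.assoc]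
    refine e2.symm.trans ?_
    have e3 : ((t ≫ D'.av) ^ q) ≫ D'.i = (D.rk X).it ((D.rk X).av (gmU t)) ≫ f := by
      rw [← zpow_natCast, coroot_zpow_eq, zpow_natCast]
      exact (h1 X (gmU t)).symm
    rw [e3]
    rfl
  · let K := AlgebraicClosure (S.residueField s)
    obtain ⟨k, hk⟩ := Infinite.exists_notMem_finset (insert (0 : K) (Polynomial.nthRootsFinset (2 * r) (1 : K)))
    simp only [Finset.mem_insert, Polynomial.mem_nthRootsFinset (by omega : 0 < 2 * r), not_or] at hk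
    refine ⟨gmPt (X := Over.mk (Red.geomPt s))
      ((isUnit_iff_ne_zero.2 hk.1).map (Cor85.Weight.fn (CommRingCat.of K))).unit, fun h => hk.2 ?_⟩
    rw [hsq, gmFn_gmPt, IsUnit.unit_spec, ← pow_mul] at h
    apply (Cor85.Weight.fn_bijective (CommRingCat.of K)).1
    rw [map_pow, map_one]
    exact h
  · obtain ⟨Y, π, v, _, _, _, hv⟩ := Cor85.exists_unit_cover X.left (r : ℤ) (by omega)
    let Y' : Over S := Over.mk (π ≫ X.hom)
    let π' : Y' ⟶ X := Over.homMk π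
    have : Epi π := Flat.epi_of_flat_of_surjective π
    have : Epi π'.left := this
    refine ⟨Y', π', Over.epi_of_epi_left π', gmPt (X := Y') v, ?_⟩
    rw [hsq, gmFn_gmPt]
    rw [zpow_natCast, Units.val_pow_eq_pow_val, ← pow_mul, _root_.mul_comm r 2, pow_mul] at hv
    exact hv

/-- On a field the positive root group cannot be killed. -/
theorem rk_not_kill {R : Type u} [CommRing R] {A B A' B' : Type u} [Group A] [Group B] [Group A'] [Group B']
    (E : Rk1 R A B) (E' : Rk1 R A' B') (F : A →* A') {K : Type u} [Field K] [IsAlgClosed K] (κ : K →+* R)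
    (hκ : Function.Injective κ) (hinj : Function.Injective E'.it) (hq0 : 0 < q)
    (h1 : ∀ u, F (E.h u) = E'.h (u ^ q)) (h0 : ∀ a, F (E.P a) = 1) : False := by
  classical
  obtain ⟨k, hk⟩ := Infinite.exists_notMem_finset (insert (0 : K) (Polynomial.nthRootsFinset (2 * q) (1 : K)))
  simp only [Finset.mem_insert, Polynomial.mem_nthRootsFinset (by omega : 0 < 2 * q), not_or] at hk
  let v : Rˣ := ((isUnit_iff_ne_zero.2 hk.1).map κ).unit
  let a : R := 1 - ↑v⁻¹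
  have hF : ∀ a b : R, F (E.M (a + b)) = F (E.M a) * F (E.M b) := fun a b => by rw [E.M_add, map_mul]
  have hMa : F (E.M a) = E'.h (v ^ q) := by
    have e := congrArg F (E.rule ((v : R) - 1) 1 v (by ring))
    simp only [map_mul, h0, _root_.mul_one, _root_.one_mul] at e
    have e2 : F (E.M 1) = F (E.M ↑v⁻¹) * F (E.M a) := by rw [← hF, add_sub_cancel]
    rw [← Rk1.h_apply, h1] at e
    exact mul_left_cancel (e2.symm.trans e)
  have hscale : ∀ u : Rˣ, F (E.M ((↑u⁻¹ : R) ^ 2 * a)) = F (E.M a) := by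
    intro u
    have e := congrArg F (E.h_M u a)
    rw [map_mul, map_mul, h1, hMa, ← map_mul, _root_.mul_comm (u ^ q), map_mul] at e
    rw [hMa]
    exact (mul_right_cancel e).symm
  have hone : ∀ w : K, w ≠ 0 → F (E.M ((κ w ^ 2 - 1) * a)) = 1 := by
    intro w hw
    have := hscale ((isUnit_iff_ne_zero.2 (inv_ne_zero hw)).map κ).unit
    rw [show (↑((isUnit_iff_ne_zero.2 (inv_ne_zero hw)).map κ).unit⁻¹ : R) = κ w by
      refine Units.inv_eq_of_mul_eq_one_right ?_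
      rw [IsUnit.unit_spec, ← map_mul, inv_mul_cancel₀ hw, map_one]] at this
    have e : F (E.M (κ w ^ 2 * a)) = F (E.M ((κ w ^ 2 - 1) * a)) * F (E.M a) := by
      rw [← hF]; congr 2; ring
    exact mul_eq_right.1 (e.symm.trans this)
  obtain ⟨s, hs⟩ := Infinite.exists_notMem_finset ({0, 3} : Finset K)
  simp only [Finset.mem_insert, Finset.mem_singleton, not_or] at hs
  obtain ⟨w₁, hw₁⟩ := IsAlgClosed.exists_pow_nat_eq s (show 0 < 2 by norm_num)
  obtain ⟨w₂, hw₂⟩ := IsAlgClosed.exists_pow_nat_eq (3 - s) (show 0 < 2 by norm_num)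
  have ha1 : F (E.M a) = 1 := by
    have h := congrArg₂ (· * ·) (hone w₁ (by rintro rfl; exact hs.1 (by simpa using hw₁.symm)))
      (hone w₂ (by rintro rfl; exact hs.2 (sub_eq_zero.1 (by simpa using hw₂.symm)).symm))
    simp only [← hF, _root_.one_mul] at h
    rw [← map_pow, ← map_pow, hw₁, hw₂, map_sub κ 3 s, map_ofNat] at h
    rwa [show (κ s - 1) * a + (3 - κ s - 1) * a = a by ring] at h
  have h2 : E'.av (v ^ q) = 1 := hinj (by rw [map_one, ← Rk1.h_apply, ← hMa, ha1])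
  have h3 := E'.χav (v ^ q)
  rw [h2, map_one] at h3
  apply hk.2
  apply hκ
  have h4 := congrArg (fun z : Rˣ => (z : R)) h3
  simp only [Units.val_one, Units.val_pow_eq_pow_val, v, IsUnit.unit_spec, ← pow_mul, ← map_pow] at h4
  rw [map_one, _root_.mul_comm 2 q]
  exact h4.symm

/-- On a geometric point the positive root group cannot be killed. -/
theorem not_kill [Mono D'.i] (hq0 : 0 < q) (h1 : S8478.Aux.P1 D D' q f) {K : Type u} [Field K] [IsAlgClosed K]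
    (b : Spec (CommRingCat.of K) ⟶ S)
    (h0 : ∀ a : Γ((Over.mk b).left, ⊤), (D.rk (Over.mk b)).P a ≫ f = 1) : False :=
  rk_not_kill q (D.rk (Over.mk b)) (D'.rk (Over.mk b))
    (MonoidHom.mk' (fun g => g ≫ f) fun x y => MonObj.mul_comp x y f) (Cor85.Weight.fn (CommRingCat.of K))
    (Cor85.Weight.fn_bijective (CommRingCat.of K)).1 (fun x y h => (cancel_mono D'.i).1 h) hq0 (h1 _) h0

end Aux

/-- Let (G, T, α, p₊, p₋, α^*) and (G', T', α', p'₊, p'₋, α'^*) be two rank-one systems over S: G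
reductive, i : T ⟶ G a maximal torus, α a character of T non-trivial on every geometric fibre, p₊,
p₋ : 𝔾_a ⟶ G monomorphisms normalised by T with multipliers α, α⁻¹ whose cell map (y, t, x) ↦ p₋(y)
i(t) p₊(x) is an open immersion, α^* : 𝔾_m ⟶ T with α ∘ α^* the squaring map and p₊(x) p₋(y) =
p₋(y/(1+xy)) · i(α^*(1+xy)) · p₊(x/(1+xy)) whenever 1 + xy is invertible; likewise for the primed
data. Let q > 0 be an integer such that x ↦ x^q is additive on all functions of S-schemes. For a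
homomorphism f : G ⟶ G' the following are equivalent: (i) f restricted to T factors through a
homomorphism f_T : T ⟶ T' with α' ∘ f_T = α^q and f_T ∘ α^* = (α'^*)^q; (ii) there is an S-point c
of 𝔾_m (it is then unique) with f(p₊(x)) = p'₊(c x^q) and f(p₋(y)) = p'₋(c⁻¹ y^q) for all points x,
y of 𝔾_a. -/
theorem result (S : Scheme.{u}) (G T : Over S) [GrpObj G] [GrpObj T] (i : T ⟶ G) [IsMonHom i] [Mono i] (hG : Red.IsReductive G) (hTm : Red.IsMaximalTorus i)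
    (α : T ⟶ Red.Gm S) [IsMonHom α] (hα : ∀ s : S, (Over.pullback (Red.geomPt s)).map α ≠ 1)
    (pp pm : Red.Ga S ⟶ G) [IsMonHom pp] [Mono pp] [IsMonHom pm] [Mono pm]
    (hpp : ∀ (X : Over S) (t : X ⟶ T) (x : X ⟶ Red.Ga S), ∃ x' : X ⟶ Red.Ga S,
      x' ≫ pp = (t ≫ i) * (x ≫ pp) * (t ≫ i)⁻¹ ∧ Red.gaFn x' = Red.gmFn (t ≫ α) * Red.gaFn x)
    (hpm : ∀ (X : Over S) (t : X ⟶ T) (y : X ⟶ Red.Ga S), ∃ y' : X ⟶ Red.Ga S,
      y' ≫ pm = (t ≫ i) * (y ≫ pm) * (t ≫ i)⁻¹ ∧ Red.gaFn y' * Red.gmFn (t ≫ α) = Red.gaFn y)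
    (hΩ : IsOpenImmersion (((pm ⊗ₘ i) ⊗ₘ pp) ≫ (μ[G] ▷ G) ≫ μ[G]).left)
    (av : Red.Gm S ⟶ T) [IsMonHom av] (h2 : av ≫ α = (𝟙 (Red.Gm S)) ^ 2)
    (hF : ∀ (X : Over S) (x y : X ⟶ Red.Ga S), IsUnit (1 + Red.gaFn x * Red.gaFn y) →
      ∃ (x' y' : X ⟶ Red.Ga S) (z : X ⟶ Red.Gm S), Red.gmFn z = 1 + Red.gaFn x * Red.gaFn y ∧
        Red.gaFn x' * Red.gmFn z = Red.gaFn x ∧ Red.gaFn y' * Red.gmFn z = Red.gaFn y ∧
        (x ≫ pp) * (y ≫ pm) = (y' ≫ pm) * (z ≫ av ≫ i) * (x' ≫ pp))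
    (G' T' : Over S) [GrpObj G'] [GrpObj T'] (i' : T' ⟶ G') [IsMonHom i'] [Mono i'] (hG' : Red.IsReductive G') (hTm' : Red.IsMaximalTorus i')
    (α' : T' ⟶ Red.Gm S) [IsMonHom α'] (hα' : ∀ s : S, (Over.pullback (Red.geomPt s)).map α' ≠ 1)
    (pp' pm' : Red.Ga S ⟶ G') [IsMonHom pp'] [Mono pp'] [IsMonHom pm'] [Mono pm']
    (hpp' : ∀ (X : Over S) (t : X ⟶ T') (x : X ⟶ Red.Ga S), ∃ x' : X ⟶ Red.Ga S,
      x' ≫ pp' = (t ≫ i') * (x ≫ pp') * (t ≫ i')⁻¹ ∧ Red.gaFn x' = Red.gmFn (t ≫ α') * Red.gaFn x)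
    (hpm' : ∀ (X : Over S) (t : X ⟶ T') (y : X ⟶ Red.Ga S), ∃ y' : X ⟶ Red.Ga S,
      y' ≫ pm' = (t ≫ i') * (y ≫ pm') * (t ≫ i')⁻¹ ∧ Red.gaFn y' * Red.gmFn (t ≫ α') = Red.gaFn y)
    (hΩ' : IsOpenImmersion (((pm' ⊗ₘ i') ⊗ₘ pp') ≫ (μ[G'] ▷ G') ≫ μ[G']).left)
    (av' : Red.Gm S ⟶ T') [IsMonHom av'] (h2' : av' ≫ α' = (𝟙 (Red.Gm S)) ^ 2)
    (hF' : ∀ (X : Over S) (x y : X ⟶ Red.Ga S), IsUnit (1 + Red.gaFn x * Red.gaFn y) →
      ∃ (x' y' : X ⟶ Red.Ga S) (z : X ⟶ Red.Gm S), Red.gmFn z = 1 + Red.gaFn x * Red.gaFn y ∧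
        Red.gaFn x' * Red.gmFn z = Red.gaFn x ∧ Red.gaFn y' * Red.gmFn z = Red.gaFn y ∧
        (x ≫ pp') * (y ≫ pm') = (y' ≫ pm') * (z ≫ av' ≫ i') * (x' ≫ pp'))
    (q : ℕ) (hq0 : 0 < q) (hq : ∀ (X : Over S) (a b : Γ(X.left, ⊤)), (a + b) ^ q = a ^ q + b ^ q) (f : G ⟶ G') [IsMonHom f] :
    (∃ fT : T ⟶ T', IsMonHom fT ∧ i ≫ f = fT ≫ i' ∧ fT ≫ α' = α ^ q ∧ av ≫ fT = av' ^ q) ↔
      ∃! c : 𝟙_ (Over S) ⟶ Red.Gm S,
        (∀ (X : Over S) (x y : X ⟶ Red.Ga S), Red.gaFn y = Red.gmFn (toUnit X ≫ c) * Red.gaFn x ^ q →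
          (x ≫ pp) ≫ f = y ≫ pp') ∧
        (∀ (X : Over S) (x y : X ⟶ Red.Ga S), Red.gaFn y * Red.gmFn (toUnit X ≫ c) = Red.gaFn x ^ q →
          (x ≫ pm) ≫ f = y ≫ pm') := by
  let D : Groth.Agent.RedPts.Sys S G T := { i := i, α := α, av := av, pp := pp, pm := pm, hpp := hpp, hpm := hpm, h2 := h2, hF := hF }
  let D' : Groth.Agent.RedPts.Sys S G' T' := { i := i', α := α', av := av', pp := pp', pm := pm', hpp := hpp', hpm := hpm', h2 := h2', hF := hF' }
  have : Mono D'.i := ‹Mono i'›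
  have : Mono D'.pp := ‹Mono pp'›
  have : IsOpenImmersion (Groth.Agent.Cor85.cell D').left := hΩ'
  have hT : Red.IsTorus T := hTm.2.2.1
  have hT' : Red.IsTorus T' := hTm'.2.2.1
  constructor
  · rintro ⟨fT, hfm, hfT, -, hav⟩
    have h1 : S8478.Aux.P1 D D' q f := by
      intro X v
      have hgv : gmU (gmPt (S := S) v) = v := Units.ext (gmFn_gmPt v)
      have e : (gmPt v ≫ D.av ≫ D.i) ≫ f = ((gmPt v ≫ D'.av) ^ (q : ℤ)) ≫ D'.i := by
        rw [zpow_natCast, ← MonObj.comp_pow]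
        show (gmPt v ≫ av ≫ i) ≫ f = (gmPt v ≫ av' ^ q) ≫ i'
        rw [← hav]
        simp only [Category.assoc, hfT]
      rwa [D.avi_eq, coroot_zpow_eq, zpow_natCast, hgv] at e
    obtain ⟨ν, hν, huniq⟩ := Cor85.Weight.exists_unique_coeff (Aux.wtd D D' q f hT' h1)
    have hunit : IsUnit (Red.gaFn ν) := by
      suffices key : ∀ s : S, s ∈ S.basicOpen (Red.gaFn ν : Γ(S, ⊤)) from
        RingedSpace.isUnit_of_isUnit_germ (𝟙_ (Over S)).left.toRingedSpace ⊤ _ fun s hs =>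
          (RingedSpace.mem_basicOpen (𝟙_ (Over S)).left.toRingedSpace _ s hs).1 (key s)
      intro s
      let K := AlgebraicClosure (S.residueField s)
      let X : Over S := Over.mk (Red.geomPt s)
      obtain ⟨k, hk⟩ := (Cor85.Weight.fn_bijective (CommRingCat.of K)).2 ((toUnit X).left.appTop (Red.gaFn ν))
      have hk0 : k ≠ 0 := by
        rintro rfl
        rw [map_zero] at hk
        refine Aux.not_kill D D' q f hq0 h1 (Red.geomPt s) fun a => ?_
        have e := hν X (gaPt a) (gaPt 0) (by rw [gaFn_gaPt, gaFn_gaPt, ga_comp, ← hk, MulZeroClass.zero_mul])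
        refine (Category.assoc _ _ _).trans (e.trans ?_)
        exact Cor85.Weight.Cel.gaPt_zero_comp pp'
      have hu : IsUnit ((toUnit X).left.appTop (Red.gaFn ν)) := hk ▸ (isUnit_iff_ne_zero.2 hk0).map _
      have hmem : IsLocalRing.closedPoint K ∈ (toUnit X).left ⁻¹ᵁ (𝟙_ (Over S)).left.basicOpen (Red.gaFn ν) := by
        erw [Scheme.preimage_basicOpen, Scheme.basicOpen_of_isUnit _ hu]; trivial
      have hpt : (toUnit X).left (IsLocalRing.closedPoint K) = s := by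
        have key : ∀ {Z : Scheme.{u}} (h : Z ⟶ Spec (S.residueField s)) (z : Z),
            (h ≫ S.fromSpecResidueField s) z = s := fun h z => by
          rw [Scheme.Hom.comp_apply]; exact Scheme.fromSpecResidueField_apply s _
        exact key (Spec.map (CommRingCat.ofHom (algebraMap (S.residueField s) K))) _
      exact hpt ▸ hmem
    have hc1 : ∀ (X : Over S) (x y : X ⟶ Red.Ga S),
        Red.gaFn y = Red.gmFn (toUnit X ≫ gmPt hunit.unit) * Red.gaFn x ^ q → (x ≫ pp) ≫ f = y ≫ pp' := by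
      intro X x y hy
      rw [Category.assoc]
      refine hν X x y ?_
      rw [hy, gm_comp, gmFn_gmPt, ga_comp]
      rfl
    have h3 := S8478.Aux.p1_p3 D D' q (gmPt hunit.unit) f hq0 hq (fun X a => by
      exact hc1 X (gaPt a) (gaPt _) (by rw [gaFn_gaPt, gaFn_gaPt]; rfl)) hG' hT' h1
    refine ⟨gmPt hunit.unit, ⟨hc1, fun X x y hxy => ?_⟩, fun c hc => ?_⟩
    · rw [show x ≫ pm = (D.rk X).M (Red.gaFn x) from D.pm_eq x, show y ≫ pm' = (D'.rk X).M (Red.gaFn y) from D'.pm_eq y,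
        h3 X]
      congr 1
      rw [← hxy, _root_.mul_comm (Red.gaFn y), ← gmU_val]
      exact Units.inv_mul_cancel_left _ _
    · have e := huniq (gaPt (Red.gmFn c)) fun X x y hy => (Category.assoc _ _ _).symm.trans (hc.1 X x y (by
        rw [hy, ga_comp, gaFn_gaPt, gm_comp]))
      apply gm_injective
      rw [gmFn_gmPt, IsUnit.unit_spec, ← e, gaFn_gaPt]
  · rintro ⟨c, ⟨hc1, hc2⟩, -⟩
    have hP : ∀ (X : Over S) (a : Γ(X.left, ⊤)),
        (D.rk X).P a ≫ f = (D'.rk X).P ((S8478.Aux.cst c X : Γ(X.left, ⊤)) * a ^ q) :=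
      fun X a => hc1 X (gaPt a) (gaPt _) (by rw [gaFn_gaPt, gaFn_gaPt]; rfl)
    have h1 : S8478.Aux.P1 D D' q f := S8478.Aux.p2_p1 D D' q c f (S8478.Aux.p3_p2 D D' q c f hq0 hq hP (fun X a => by
      refine hc2 X (gaPt a) (gaPt _) ?_
      rw [gaFn_gaPt, gaFn_gaPt, _root_.mul_right_comm, ← gmU_val]
      exact congrArg (· * a ^ q) (Units.inv_mul _) |>.trans (_root_.one_mul _)))
    obtain ⟨fT, hfm, hfT⟩ := Aux.exists_torus_map D D' q f hT hG' hT' hq0 h1
    refine ⟨fT, hfm, hfT, Aux.char_eq D D' q f fT hfT c hP, ?_⟩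
    apply (cancel_mono i').1
    have e := h1 (Red.Gm S) (gmU (𝟙 _))
    rw [← D.avi_eq, ← zpow_natCast, ← coroot_zpow_eq, zpow_natCast, ← MonObj.comp_pow, Category.id_comp,
      Category.id_comp] at e
    rw [Category.assoc, ← show i ≫ f = fT ≫ i' from hfT, ← Category.assoc]
    exact e

end Groth.Agent.S8452
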