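import Groth.Statements.S8453
import Groth.Agent.CellHom.Extend
-- import your own Groth.Agent.* helpers here

set_option autoImplicit false
universe u
open CategoryTheory MonoidalCategory CartesianMonoidalCategory MonObj GrpObj AlgebraicGeometry CategoryTheory.Limits
open Red

namespace Groth.Agent.S8453

open Groth.Agent.RedPts Groth.Agent.Cor85

/-- Isomorphism thm for groups of semisimple rank 1: Let (G, T, α, p₊, p₋, α^*) and (G', T', α', p'₊,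
p'₋, α'^*) be two rank-one systems over S: G reductive, i : T ⟶ G a maximal torus, α a character of
T non-trivial on every geometric fibre, p₊, p₋ : 𝔾_a ⟶ G monomorphisms normalised by T with
multipliers α, α⁻¹ whose cell map (y, t, x) ↦ p₋(y) i(t) p₊(x) is an open immersion, α^* : 𝔾_m ⟶ T
with α ∘ α^* the squaring map and p₊(x) p₋(y) = p₋(y/(1+xy)) · i(α^*(1+xy)) · p₊(x/(1+xy)) whenever
1 + xy is invertible; likewise for the primed data. Let q > 0 be an integer such that x ↦ x^q is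
additive on all functions of S-schemes. Let c be an S-point of 𝔾_m (a trivialisation of the
isomorphism (𝔤^α)^{⊗q} ≅ 𝔤'^{α'}) and f_T : T ⟶ T' a homomorphism with α' ∘ f_T = α^q and f_T ∘ α^*
= (α'^*)^q. Then there is exactly one homomorphism f : G ⟶ G' extending f_T (i ∘ f = f_T ∘ i') with
f(p₊(x)) = p'₊(c x^q) for all points x of 𝔾_a; moreover every such f satisfies f(p₋(y)) = p'₋(c⁻¹
y^q) for all points y. -/
theorem result (S : Scheme.{u}) (G T : Over S) [GrpObj G] [GrpObj T] (i : T ⟶ G) [IsMonHom i] [Mono i] (hG : Red.IsReductive G) (hTm : Red.IsMaximalTorus i)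
    (α : T ⟶ Red.Gm S) [IsMonHom α] (hα : ∀ s : S, (Over.pullback (Red.geomPt s)).map α ≠ 1)
    (pp pm : Red.Ga S ⟶ G) [IsMonHom pp] [Mono pp] [IsMonHom pm] [Mono pm]
    (hpp : ∀ (X : Over S) (t : X ⟶ T) (x : X ⟶ Red.Ga S), ∃ x' : X ⟶ Red.Ga S,
      x' ≫ pp = (t ≫ i) * (x ≫ pp) * (t ≫ i)⁻¹ ∧ Red.gaFn x' = Red.gmFn (t ≫ α) * Red.gaFn x)
    (hpm : ∀ (X : Over S) (t : X ⟶ T) (y : X ⟶ Red.Ga S), ∃ y' : X ⟶ Red.Ga S,
      y' ≫ pm = (t ≫ i) * (y ≫ pm) * (t ≫ i)⁻¹ ∧ Red.gaFn y' * Red.gmFn (t ≫ α) = Red.gaFn y)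
    (hΩ : IsOpenImmersion (((pm ⊗ₘ i) ⊗ₘ pp) ≫ (μ[G] ▷ G) ≫ μ[G]).left)
    (av : Red.Gm S ⟶ T) [IsMonHom av] (h2 : av ≫ α = (𝟙 (Red.Gm S)) ^ 2)
    (hF : ∀ (X : Over S) (x y : X ⟶ Red.Ga S), IsUnit (1 + Red.gaFn x * Red.gaFn y) →
      ∃ (x' y' : X ⟶ Red.Ga S) (z : X ⟶ Red.Gm S), Red.gmFn z = 1 + Red.gaFn x * Red.gaFn y ∧
        Red.gaFn x' * Red.gmFn z = Red.gaFn x ∧ Red.gaFn y' * Red.gmFn z = Red.gaFn y ∧
        (x ≫ pp) * (y ≫ pm) = (y' ≫ pm) * (z ≫ av ≫ i) * (x' ≫ pp))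
    (G' T' : Over S) [GrpObj G'] [GrpObj T'] (i' : T' ⟶ G') [IsMonHom i'] [Mono i'] (hG' : Red.IsReductive G') (hTm' : Red.IsMaximalTorus i')
    (α' : T' ⟶ Red.Gm S) [IsMonHom α'] (hα' : ∀ s : S, (Over.pullback (Red.geomPt s)).map α' ≠ 1)
    (pp' pm' : Red.Ga S ⟶ G') [IsMonHom pp'] [Mono pp'] [IsMonHom pm'] [Mono pm']
    (hpp' : ∀ (X : Over S) (t : X ⟶ T') (x : X ⟶ Red.Ga S), ∃ x' : X ⟶ Red.Ga S,
      x' ≫ pp' = (t ≫ i') * (x ≫ pp') * (t ≫ i')⁻¹ ∧ Red.gaFn x' = Red.gmFn (t ≫ α') * Red.gaFn x)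
    (hpm' : ∀ (X : Over S) (t : X ⟶ T') (y : X ⟶ Red.Ga S), ∃ y' : X ⟶ Red.Ga S,
      y' ≫ pm' = (t ≫ i') * (y ≫ pm') * (t ≫ i')⁻¹ ∧ Red.gaFn y' * Red.gmFn (t ≫ α') = Red.gaFn y)
    (hΩ' : IsOpenImmersion (((pm' ⊗ₘ i') ⊗ₘ pp') ≫ (μ[G'] ▷ G') ≫ μ[G']).left)
    (av' : Red.Gm S ⟶ T') [IsMonHom av'] (h2' : av' ≫ α' = (𝟙 (Red.Gm S)) ^ 2)
    (hF' : ∀ (X : Over S) (x y : X ⟶ Red.Ga S), IsUnit (1 + Red.gaFn x * Red.gaFn y) →
      ∃ (x' y' : X ⟶ Red.Ga S) (z : X ⟶ Red.Gm S), Red.gmFn z = 1 + Red.gaFn x * Red.gaFn y ∧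
        Red.gaFn x' * Red.gmFn z = Red.gaFn x ∧ Red.gaFn y' * Red.gmFn z = Red.gaFn y ∧
        (x ≫ pp') * (y ≫ pm') = (y' ≫ pm') * (z ≫ av' ≫ i') * (x' ≫ pp'))
    (q : ℕ) (hq0 : 0 < q) (hq : ∀ (X : Over S) (a b : Γ(X.left, ⊤)), (a + b) ^ q = a ^ q + b ^ q) (c : 𝟙_ (Over S) ⟶ Red.Gm S) (fT : T ⟶ T') [IsMonHom fT]
    (hfTα : fT ≫ α' = α ^ q) (hfTav : av ≫ fT = av' ^ q) :
    (∃! f : G ⟶ G', IsMonHom f ∧ i ≫ f = fT ≫ i' ∧
        ∀ (X : Over S) (x y : X ⟶ Red.Ga S), Red.gaFn y = Red.gmFn (toUnit X ≫ c) * Red.gaFn x ^ q →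
          (x ≫ pp) ≫ f = y ≫ pp') ∧
      ∀ f : G ⟶ G', IsMonHom f → i ≫ f = fT ≫ i' →
        (∀ (X : Over S) (x y : X ⟶ Red.Ga S), Red.gaFn y = Red.gmFn (toUnit X ≫ c) * Red.gaFn x ^ q →
          (x ≫ pp) ≫ f = y ≫ pp') →
        ∀ (X : Over S) (x y : X ⟶ Red.Ga S), Red.gaFn y * Red.gmFn (toUnit X ≫ c) = Red.gaFn x ^ q →
          (x ≫ pm) ≫ f = y ≫ pm' := by
  let D : Sys S G T := { i := i, α := α, av := av, pp := pp, pm := pm, hpp := hpp, hpm := hpm, h2 := h2, hF := hF }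
  let D' : Sys S G' T' :=
    { i := i', α := α', av := av', pp := pp', pm := pm', hpp := hpp', hpm := hpm', h2 := h2', hF := hF' }
  have : IsOpenImmersion (cell D).left := hΩ
  have : Smooth G.hom := hG.2.1
  have hpm3 : ∀ f : G ⟶ G', IsMonHom f → i ≫ f = fT ≫ i' →
      (∀ (X : Over S) (x y : X ⟶ Red.Ga S), Red.gaFn y = Red.gmFn (toUnit X ≫ c) * Red.gaFn x ^ q →
        (x ≫ pp) ≫ f = y ≫ pp') →
      ∀ (X : Over S) (x y : X ⟶ Red.Ga S), Red.gaFn y * Red.gmFn (toUnit X ≫ c) = Red.gaFn x ^ q →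
        (x ≫ pm) ≫ f = y ≫ pm' := by
    intro f hfm hfT hf
    have h1 : ∀ (X : Over S) (z : X ⟶ Red.Gm S), (z ≫ av ≫ i) ≫ f = ((z ≫ av') ^ q) ≫ i' := by
      intro X z
      rw [Category.assoc, Category.assoc, hfT, reassoc_of% hfTav, ← MonObj.comp_pow, Category.assoc]
    exact ((S8478.result S G T i hG hTm α hα pp pm hpp hpm hΩ av h2 hF G' T' i' hG' hTm' α' hα' pp' pm'
      hpp' hpm' hΩ' av' h2' hF' q hq0 hq c f hf).out 0 2).mp h1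
  obtain ⟨F, hFm, hFc, hFu⟩ := CellHom.exists_hom D D' q c fT hq0 hq hfTα hfTav (CellHom.connFibres_of_isReductive G hG)
  have hval : ∀ {X : Over S} (y : Γ(X.left, ⊤)) (t : X ⟶ T) (x : Γ(X.left, ⊤)),
      ((D.rk X).M y * (D.rk X).it t * (D.rk X).P x) ≫ F =
        (D'.rk X).M ((↑(CellHom.cu c X)⁻¹ : Γ(X.left, ⊤)) * y ^ q) * (D'.rk X).it (t ≫ fT) *
          (D'.rk X).P ((CellHom.cu c X : Γ(X.left, ⊤)) * x ^ q) := by
    intro X y t x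
    have e := CellHom.phi_eq D' q c fT (CellHom.mkC y t x)
    rw [← hFc, ← Category.assoc, CellHom.cell_eq, CellHom.yO_mk, CellHom.tO_mk, CellHom.xO_mk] at e
    exact e
  refine ⟨⟨F, ⟨hFm, ?_, ?_⟩, ?_⟩, hpm3⟩
  · have e := hval 0 (𝟙 T) 0
    simp only [zero_pow hq0.ne', mul_zero, Rk1.M_zero, Rk1.P_zero, _root_.one_mul, _root_.mul_one,
      Category.id_comp] at e
    rw [← D.i_eq, Category.id_comp] at e
    exact e
  · intro X x y hy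
    have e := hval 0 (1 : X ⟶ T) (Red.gaFn x)
    rw [MonObj.one_comp, map_one, map_one, zero_pow hq0.ne', mul_zero, Rk1.M_zero, Rk1.M_zero, _root_.one_mul,
      _root_.one_mul, _root_.one_mul, _root_.one_mul, gmU_val, ← hy, ← D.pp_eq, ← D'.pp_eq] at e
    exact e
  · rintro f ⟨hfm, hfT, hf⟩
    refine hFu f hfm ?_
    have hM := hpm3 f hfm hfT hf
    have e : cell D = (D.rk _).M (CellHom.yO (𝟙 (CellHom.C T))) * (D.rk _).it (CellHom.tO (𝟙 (CellHom.C T))) *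
        (D.rk _).P (CellHom.xO (𝟙 (CellHom.C T))) := by
      rw [← CellHom.cell_eq, Category.id_comp]
    rw [e, MonObj.mul_comp, MonObj.mul_comp, CellHom.phi]
    congr 1
    congr 1
    · have h := hM _ (gaPt (CellHom.yO (𝟙 (CellHom.C T))))
        (gaPt ((↑(CellHom.cu c (CellHom.C T))⁻¹ : Γ((CellHom.C T).left, ⊤)) * CellHom.yO (𝟙 (CellHom.C T)) ^ q))
        (by rw [gaFn_gaPt, gaFn_gaPt, ← gmU_val, mul_right_comm, Units.inv_mul, _root_.one_mul])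
      exact h
    · rw [← D.i_eq, ← D'.i_eq, Category.assoc, Category.assoc, hfT]
    · have h := hf _ (gaPt (CellHom.xO (𝟙 (CellHom.C T))))
        (gaPt ((CellHom.cu c (CellHom.C T) : Γ((CellHom.C T).left, ⊤)) * CellHom.xO (𝟙 (CellHom.C T)) ^ q))
        (by rw [gaFn_gaPt, gaFn_gaPt, gmU_val])
      exact h

end Groth.Agent.S8453
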