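import Groth.Statements.S8456
import Groth.Agent.Cor85.WtdTorus
import Groth.Agent.DiagRig.LocalTrivial
import Groth.Agent.DiagRig.MonoClosed
import Groth.Agent.DiagRig.MultProp
import Mathlib.AlgebraicGeometry.ValuativeCriterion
import Mathlib.AlgebraicGeometry.ZariskisMainTheorem

set_option autoImplicit false
universe u
open CategoryTheory MonoidalCategory CartesianMonoidalCategory MonObj GrpObj AlgebraicGeometry CategoryTheory.Limits
open Red

namespace Groth.Agent.S8456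

attribute [-instance] Groth.Agent.GrpArtin.grpObjBC CategoryTheory.Hom.commGroup
open CategoryTheory MonoidalCategory CartesianMonoidalCategory MonObj GrpObj AlgebraicGeometry Limits
open Groth.Agent.RedPts Groth.Agent.Cor85 Groth.Agent.Cor85.Weight

namespace Aux

variable {S : Scheme.{u}} {G T : Over S} [GrpObj G] [GrpObj T]
attribute [local instance] Cel.hi Cel.hα Cel.hp Cel.hm

/-- The commutator of a torus point and a point of the group. -/
noncomputable abbrev comm (j : T ⟶ G) {X : Over S} (s : X ⟶ T) (h : X ⟶ G) : X ⟶ G :=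
  (s ≫ j) * h * (s ≫ j)⁻¹ * h⁻¹

set_option maxHeartbeats 1000000 in
theorem closed_pt (C : Cel S G T) (hα : ∀ s : S, (Over.pullback (Red.geomPt s)).map C.α ≠ 1)
    (j : T ⟶ G) (hj : ∀ X : Over S, (1 : X ⟶ T) ≫ j = 1)
    {R : Type u} [CommRing R] [IsDomain R] [IsLocalRing R] (b : Spec (CommRingCat.of R) ⟶ S) (g : obj b ⟶ G) :
    ∃ w : (obj b ⊗ T).left, (comm j (snd _ _) (fst _ _ ≫ g)).left w ∈ Set.range C.map.left ∧
      w ∈ (obj b ⊗ T).left.basicOpen (Red.gmFn (snd (obj b) T ≫ C.α) - 1) ∧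
      (fst (obj b) T).left w = (IsLocalRing.closedPoint R : Spec (CommRingCat.of R)) := by
  let W : Over S := obj b ⊗ T
  let πW : W ⟶ obj b := fst _ _
  let θW : W ⟶ T := snd _ _
  let Φ : W ⟶ G := comm j θW (πW ≫ g)
  let F : Γ(W.left, ⊤) := Red.gmFn (θW ≫ C.α) - 1
  have := C.open_cell
  let cell : G.left.Opens := C.map.left.opensRange
  let V : W.left.Opens := Φ.left ⁻¹ᵁ cell
  let c₀ : Spec (CommRingCat.of R) := IsLocalRing.closedPoint R
  let k := AlgebraicClosure (IsLocalRing.ResidueField R)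
  let φ : CommRingCat.of R ⟶ CommRingCat.of k :=
    CommRingCat.ofHom ((algebraMap (IsLocalRing.ResidueField R) k).comp (IsLocalRing.residue R))
  let bk : Spec (CommRingCat.of k) ⟶ S := Spec.map φ ≫ b
  let W₁ := 𝟙_ (Over (Spec (CommRingCat.of k)))
  let Q := (Over.map bk).obj W₁
  let cp : Q.left := (IsLocalRing.closedPoint k : Spec (CommRingCat.of k))
  let m₀ : Q ⟶ obj b := Over.homMk (Spec.map φ) ((Category.id_comp bk).symm)
  have hm₀ : m₀.left cp = c₀ := by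
    apply PrimeSpectrum.ext
    show Ideal.comap φ.hom (IsLocalRing.maximalIdeal k) = IsLocalRing.maximalIdeal R
    rw [IsLocalRing.isField_iff_maximalIdeal_eq.1 (Field.toIsField k)]
    show RingHom.ker φ.hom = _
    ext x
    simp [φ, RingHom.mem_ker, IsLocalRing.residue_eq_zero_iff]
  have hTt := AbSch51.TorusToProper.isTorus_bc bk C.hT
  obtain ⟨_, hTlft, hTint, -⟩ := Borel50.Lin.TorusSch.torus_facts (k := k) (T := Red.bc bk T) hTt
  let TK := Red.bc bk T
  let θ : (Over.map bk).obj TK ⟶ T := (tr bk TK T).symm (𝟙 TK)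
  let π : (Over.map bk).obj TK ⟶ Q := (Over.map bk).map (toUnit TK)
  let Ψ : (Over.map bk).obj TK ⟶ W := lift (π ≫ m₀) θ
  let θp : ∀ σ : W₁ ⟶ TK, Q ⟶ T := fun σ => (Over.map bk).map σ ≫ θ
  have hπ : ∀ σ : W₁ ⟶ TK, (Over.map bk).map σ ≫ π = 𝟙 Q := fun σ => by
    rw [← Functor.map_comp, toUnit_unique (σ ≫ toUnit TK) (𝟙 _)]
    exact CategoryTheory.Functor.map_id _ _
  have hV : ((Ψ.left ⁻¹ᵁ V : TK.left.Opens) : Set TK.left).Nonempty := by
    refine ⟨(1 : W₁ ⟶ TK).left (IsLocalRing.closedPoint k), ?_⟩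
    show ((Over.map bk).map (1 : W₁ ⟶ TK) ≫ Ψ ≫ Φ).left cp ∈ cell
    have e1 : θp (1 : W₁ ⟶ TK) = 1 := by
      apply (tr bk W₁ T).injective
      rw [tr_pre, Equiv.apply_symm_apply, Category.comp_id, tr_one]
    have e2 : (Over.map bk).map (1 : W₁ ⟶ TK) ≫ Ψ ≫ Φ = C.pt 0 1 0 := by
      have e3 : (Over.map bk).map (1 : W₁ ⟶ TK) ≫ θ = (1 : Q ⟶ T) := e1
      have e4 : ((Over.map bk).map (1 : W₁ ⟶ TK) ≫ Ψ) ≫ θW = (1 : Q ⟶ T) := by
        rw [Category.assoc, lift_snd, e3]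
      rw [Cel.pt_one, ← Category.assoc]
      simp only [Φ, comm, MonObj.comp_mul, GrpObj.comp_inv]
      simp only [← Category.assoc]
      rw [e4, hj]
      group
    rw [e2]
    exact C.pt_mem _ _ _ cp
  let s : S := bk (IsLocalRing.closedPoint k)
  let ιk := ((Scheme.SpecToEquivOfField k S) bk).2
  have hιk : Spec.map ιk ≫ S.fromSpecResidueField s = bk := (Scheme.SpecToEquivOfField k S).left_inv bk
  let K₀ := AlgebraicClosure (S.residueField s)
  letI : Algebra (S.residueField s) k := (ιk.hom : S.residueField s →+* k).toAlgebra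
  let e₀ : K₀ →ₐ[S.residueField s] k := IsAlgClosed.lift
  let m : Q ⟶ Over.mk (Red.geomPt s) := Over.homMk (Spec.map (CommRingCat.ofHom e₀.toRingHom)) (by
    show Spec.map _ ≫ Spec.map _ ≫ _ = 𝟙 _ ≫ bk
    rw [Category.id_comp, ← Category.assoc, ← Spec.map_comp, ← hιk]
    congr 2
    ext r
    exact e₀.commutes r)
  obtain ⟨s₀, hs₀⟩ := exists_value_ne C.hT C.α s (hα _) 1 one_pos
  rw [pow_one] at hs₀
  have hval : Red.gmFn ((m ≫ s₀) ≫ C.α) ≠ 1 := by
    obtain ⟨u₀, hu₀⟩ := (fn_bijective (CommRingCat.of K₀)).2 (Red.gmFn (s₀ ≫ C.α))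
    have e : Red.gmFn ((m ≫ s₀) ≫ C.α) = fn (CommRingCat.of k) (e₀ u₀) := by
      rw [Category.assoc, gm_comp, ← hu₀]
      exact (congr($(Scheme.ΓSpecIso_inv_naturality (CommRingCat.ofHom e₀.toRingHom)) u₀)).symm
    intro h
    rw [e] at h
    have h' : e₀ u₀ = e₀ 1 := by
      rw [map_one]
      exact (fn_bijective (CommRingCat.of k)).1 (h.trans (map_one _).symm)
    exact hs₀ (by rw [← hu₀, e₀.toRingHom.injective h', map_one])
  let F' : Γ(TK.left, ⊤) := (Red.gmFn (θ ≫ C.α) :)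
  have hF1 : F' - 1 ≠ 0 := by
    intro h
    apply hval
    have e : θp (tr bk W₁ T (m ≫ s₀)) = m ≫ s₀ := by
      apply (tr bk W₁ T).injective
      rw [tr_pre, Equiv.apply_symm_apply, Category.comp_id]
    rw [← e, Category.assoc, gm_comp]
    show ((Over.map bk).map (tr bk W₁ T (m ≫ s₀))).left.appTop F' = 1
    rw [sub_eq_zero.1 h, map_one]
  have : Nonempty TK.left := hTint.nonempty
  have h2 : (TK.left.basicOpen (F' - 1) : Set TK.left).Nonempty := by
    rw [Set.nonempty_iff_ne_empty]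
    intro h
    exact hF1 ((basicOpen_eq_bot_iff (X := TK.left) (U := ⊤) (F' - 1)).1 (TopologicalSpace.Opens.ext h))
  haveI : PreirreducibleSpace TK.left := inferInstance
  obtain ⟨z, hzV, hzF⟩ := nonempty_preirreducible_inter (X := TK.left) (Ψ.left ⁻¹ᵁ V).2 (TK.left.basicOpen (F' - 1)).2 hV h2
  refine ⟨Ψ.left z, hzV, ?_, ?_⟩
  · show z ∈ Ψ.left ⁻¹ᵁ W.left.basicOpen F
    rw [Scheme.preimage_basicOpen]
    have e : Ψ.left.appTop.hom F = Red.gmFn (θ ≫ C.α) - 1 := by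
      show Ψ.left.appTop (Red.gmFn (θW ≫ C.α) - 1) = _
      rw [map_sub, map_one, ← gm_comp, ← Category.assoc, lift_snd]
    show z ∈ Scheme.basicOpen _ (Ψ.left.appTop.hom F)
    rw [e]
    exact hzF
  · show ((Ψ ≫ πW).left) z = c₀
    rw [lift_fst]
    show m₀.left (π.left z) = c₀
    rw [show π.left z = cp from Subsingleton.elim (α := PrimeSpectrum k) _ _, hm₀]

theorem exists_extension {R K : Type u} [CommRing R] [IsDomain R] [Field K] [Algebra R K] [IsFractionRing R K]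
    {L : CommRingCat.{u}} (hL : IsField L) (f : CommRingCat.of R ⟶ L) (hf : Function.Injective f.hom) :
    ∃ σ : CommRingCat.of K ⟶ L, CommRingCat.ofHom (algebraMap R K) ≫ σ = f := by
  letI := hL.toField
  refine ⟨CommRingCat.ofHom (IsFractionRing.lift (g := f.hom) hf), ?_⟩
  apply CommRingCat.hom_ext
  exact RingHom.ext fun x => IsFractionRing.lift_algebraMap (g := f.hom) hf x

set_option maxHeartbeats 2000000 in
theorem key_gen (C : Cel S G T) (j : T ⟶ G)
    {R K : Type u} [CommRing R] [IsDomain R] [ValuationRing R] [Field K] [Algebra R K] [IsFractionRing R K]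
    (b : Spec (CommRingCat.of R) ⟶ S) (g : obj b ⟶ G) (a : K) (p : Red.Ga S ⟶ G)
    (hcomm : ∀ (X : Over S) (h : X ⟶ obj (Spec.map (CommRingCat.ofHom (algebraMap R K)) ≫ b)) (s : X ⟶ T),
      comm j s (h ≫ mor (CommRingCat.ofHom (algebraMap R K)) rfl ≫ g) =
        gaPt ((Red.gmFn (s ≫ C.α) - 1) * h.left.appTop (fn (CommRingCat.of K) a)) ≫ p)
    (hco : ∀ (X Y : Over S) (m : Y ⟶ X) (y x : Γ(X.left, ⊤)) (t : X ⟶ T) (B : Γ(Y.left, ⊤)),
      m ≫ C.pt y t x = gaPt B ≫ p → ∃ z, m.left.appTop z = B)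
    {W : Over S} (πW : W ⟶ obj b) (θW : W ⟶ T) [Flat πW.left] (w : W.left)
    (hwV : (comm j θW (πW ≫ g)).left w ∈ Set.range C.map.left)
    (hwF : w ∈ W.left.basicOpen (Red.gmFn (θW ≫ C.α) - 1))
    (hwc : πW.left w = (IsLocalRing.closedPoint R : Spec (CommRingCat.of R))) :
    ∃ r : R, algebraMap R K r = a := by
  rcases ValuationRing.isInteger_or_isInteger R a with ha | ha
  · exact ha
  obtain ⟨r, hr⟩ := ha
  by_cases hru : IsUnit r
  · obtain ⟨v, rfl⟩ := hru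
    exact ⟨(↑v⁻¹ : R), by rw [map_units_inv, hr, _root_.inv_inv]⟩
  by_cases ha0 : a = 0
  · exact ⟨0, by rw [ha0, map_zero]⟩
  exfalso
  let Φ : W ⟶ G := comm j θW (πW ≫ g)
  let F : Γ(W.left, ⊤) := Red.gmFn (θW ≫ C.α) - 1
  have := C.open_cell
  let cell : G.left.Opens := C.map.left.opensRange
  let V : W.left.Opens := Φ.left ⁻¹ᵁ cell
  let c₀ : Spec (CommRingCat.of R) := IsLocalRing.closedPoint R
  -- generalization
  let gen : Spec (CommRingCat.of R) := (⟨⊥, Ideal.isPrime_bot⟩ : PrimeSpectrum R)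
  have hgen : gen ⤳ πW.left w := (PrimeSpectrum.le_iff_specializes gen (πW.left w)).1 (bot_le (α := Ideal R))
  obtain ⟨ζ, hζ, hζgen⟩ := Flat.generalizingMap πW.left hgen
  let L := W.left.residueField ζ
  let stL : W.left.presheaf.stalk w ⟶ L := W.left.presheaf.stalkSpecializes hζ ≫ W.left.residue ζ
  obtain ⟨A, hA, hA_local⟩ := IsLocalRing.exists_factor_valuationRing stL.hom
  let stA : W.left.presheaf.stalk w ⟶ .of A := CommRingCat.ofHom (stL.hom.codRestrict _ hA)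
  let q : Spec (CommRingCat.of A) ⟶ W.left := Spec.map stA ≫ W.left.fromSpecStalk w
  let cA : Spec (CommRingCat.of A) := IsLocalRing.closedPoint A
  have hqc : q cA = w := by
    have e : Spec.map stA cA = IsLocalRing.closedPoint (W.left.presheaf.stalk w) :=
      IsLocalRing.comap_closedPoint (S := A) (stL.hom.codRestrict A.toSubring hA)
    show (Spec.map stA ≫ W.left.fromSpecStalk w) cA = w
    rw [Scheme.Hom.comp_apply, e, Scheme.fromSpecStalk_closedPoint]
  let bA : Spec (CommRingCat.of A) ⟶ S := q ≫ W.hom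
  let qO : obj bA ⟶ W := Over.homMk q rfl
  let jA : CommRingCat.of A ⟶ L := CommRingCat.ofHom (algebraMap A (W.left.residueField ζ))
  let mL : obj (Spec.map jA ≫ bA) ⟶ obj bA := mor jA rfl
  have hqζ : Spec.map jA ≫ q = W.left.fromSpecResidueField ζ := by
    have e : stA ≫ jA = stL := by ext x; rfl
    show Spec.map jA ≫ Spec.map stA ≫ _ = _
    rw [← Spec.map_comp_assoc, e, Spec.map_comp, Category.assoc, Scheme.SpecMap_stalkSpecializes_fromSpecStalk]
    rfl
  -- the ring map to the valuation ring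
  let ρ : CommRingCat.of R ⟶ CommRingCat.of A := Spec.preimage (q ≫ πW.left)
  have hρ : Spec.map ρ = q ≫ πW.left := Spec.map_preimage _
  have hρc : ∀ x : R, ¬IsUnit x → ¬IsUnit (ρ.hom x) := by
    intro x hx
    have e : Spec.map ρ cA = c₀ := by rw [hρ, Scheme.Hom.comp_apply, hqc, hwc]
    have h2 : x ∈ Ideal.comap ρ.hom (IsLocalRing.maximalIdeal A) := by
      have e' : Ideal.comap ρ.hom (IsLocalRing.maximalIdeal A) = IsLocalRing.maximalIdeal R :=
        congrArg PrimeSpectrum.asIdeal e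
      rw [e']
      exact hx
    exact h2
  have hinj : Function.Injective (ρ ≫ jA).hom := by
    rw [RingHom.injective_iff_ker_eq_bot]
    have e : Spec.map (ρ ≫ jA) (IsLocalRing.closedPoint (W.left.residueField ζ)) = gen := by
      rw [Spec.map_comp, hρ, ← Category.assoc, hqζ]
      show πW.left (W.left.fromSpecResidueField ζ _) = gen
      exact (congrArg πW.left (Scheme.fromSpecResidueField_apply _ _)).trans hζgen
    have e' := congrArg PrimeSpectrum.asIdeal e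
    change Ideal.comap (ρ ≫ jA).hom (IsLocalRing.maximalIdeal L) = ⊥ at e'
    rw [IsLocalRing.isField_iff_maximalIdeal_eq.1 (Field.toIsField _)] at e'
    exact e'
  obtain ⟨σ, hσ⟩ := exists_extension (K := K) (Field.toIsField (W.left.residueField ζ)) (ρ ≫ jA) hinj
  let hK : obj (Spec.map jA ≫ bA) ⟶ obj (Spec.map (CommRingCat.ofHom (algebraMap R K)) ≫ b) :=
    mor σ (by
      rw [← Spec.map_comp_assoc, hσ, Spec.map_comp, hρ, Category.assoc, Category.assoc]
      show Spec.map jA ≫ q ≫ (πW.left ≫ (obj b).hom) = _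
      rw [Over.w πW])
  have hKπ : hK ≫ mor (CommRingCat.ofHom (algebraMap R K)) rfl = mL ≫ qO ≫ πW := by
    apply Over.OverMorphism.ext
    show Spec.map σ ≫ Spec.map _ = Spec.map jA ≫ q ≫ πW.left
    rw [← Spec.map_comp, hσ, Spec.map_comp, hρ]
  -- the value lies in the cell
  have hrange : Set.range (qO ≫ Φ).left ⊆ Set.range C.map.left := by
    rintro _ ⟨z, rfl⟩
    have h : cA ∈ q ⁻¹ᵁ V := by
      show q cA ∈ V
      rw [hqc]; exact hwV
    exact (IsLocalRing.specializes_closedPoint (R := A) z).mem_open (q ⁻¹ᵁ V).2 h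
  obtain ⟨y, t, x, hpt⟩ := C.exists_pt (qO ≫ Φ) hrange
  have hgen' : mL ≫ qO ≫ Φ = gaPt ((Red.gmFn ((mL ≫ qO ≫ θW) ≫ C.α) - 1) *
      hK.left.appTop (fn (CommRingCat.of K) a)) ≫ p := by
    rw [← hcomm]
    simp only [Φ, comm, MonObj.comp_mul, GrpObj.comp_inv, Category.assoc, reassoc_of% hKπ]
  rw [hpt] at hgen'
  obtain ⟨z, hz⟩ := hco _ _ mL y x t _ hgen'
  obtain ⟨z₀, rfl⟩ := (fn_bijective (CommRingCat.of A)).2 z
  obtain ⟨f₀, hf₀⟩ := (fn_bijective (CommRingCat.of A)).2 (q.appTop F)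
  have hf₀u : IsUnit f₀ := by
    have h : cA ∈ q ⁻¹ᵁ W.left.basicOpen F := by
      show q cA ∈ W.left.basicOpen F
      rw [hqc]; exact hwF
    rw [Scheme.preimage_basicOpen] at h
    have h' : cA ∈ (Spec (CommRingCat.of A)).basicOpen ((Scheme.ΓSpecIso (CommRingCat.of A)).inv f₀) := by
      show cA ∈ (Spec (CommRingCat.of A)).basicOpen (fn (CommRingCat.of A) f₀)
      rw [hf₀]; exact h
    rw [basicOpen_eq_of_affine] at h'
    exact not_not.1 h'
  have eF : Red.gmFn ((mL ≫ qO ≫ θW) ≫ C.α) - 1 = fn L (jA f₀) := by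
    rw [← mor_appTop (b := bA) jA rfl f₀, hf₀]
    show _ = mL.left.appTop (qO.left.appTop (Red.gmFn (θW ≫ C.α) - 1))
    rw [map_sub, map_one, map_sub, map_one, Category.assoc, Category.assoc, gm_comp, gm_comp]
  rw [eF, mor_appTop, mor_appTop, ← map_mul] at hz
  have hz' := (fn_bijective L).1 hz
  have er : σ a * jA (ρ.hom r) = 1 := by
    have e1 : σ (algebraMap R K r) = jA (ρ.hom r) := congr($hσ r)
    rw [← e1, ← map_mul, hr, mul_inv_cancel₀ ha0, map_one]
  have hu : IsUnit (ρ.hom r) := by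
    refine IsUnit.of_mul_eq_one (z₀ * (↑hf₀u.unit⁻¹ : A)) ?_
    apply (FaithfulSMul.algebraMap_injective A (W.left.residueField ζ))
    show jA (ρ.hom r * (z₀ * (↑hf₀u.unit⁻¹ : A))) = jA 1
    rw [map_mul, map_mul, map_one, hz']
    have e3 : jA (f₀ : A) * jA (↑hf₀u.unit⁻¹ : A) = 1 := by
      rw [← map_mul, IsUnit.mul_val_inv, map_one]
    calc jA (ρ.hom r) * (jA f₀ * σ a * jA ↑hf₀u.unit⁻¹) = (σ a * jA (ρ.hom r)) * (jA f₀ * jA ↑hf₀u.unit⁻¹) := by ring
      _ = 1 := by rw [er, e3, _root_.one_mul]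
  exact hρc r hru hu

theorem key (C : Cel S G T) (hα : ∀ s : S, (Over.pullback (Red.geomPt s)).map C.α ≠ 1)
    (j : T ⟶ G) (hj : ∀ X : Over S, (1 : X ⟶ T) ≫ j = 1)
    {R K : Type u} [CommRing R] [IsDomain R] [ValuationRing R] [Field K] [Algebra R K] [IsFractionRing R K]
    (b : Spec (CommRingCat.of R) ⟶ S) (g : obj b ⟶ G) (a : K) (p : Red.Ga S ⟶ G)
    (hcomm : ∀ (X : Over S) (h : X ⟶ obj (Spec.map (CommRingCat.ofHom (algebraMap R K)) ≫ b)) (s : X ⟶ T),
      comm j s (h ≫ mor (CommRingCat.ofHom (algebraMap R K)) rfl ≫ g) =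
        gaPt ((Red.gmFn (s ≫ C.α) - 1) * h.left.appTop (fn (CommRingCat.of K) a)) ≫ p)
    (hco : ∀ (X Y : Over S) (m : Y ⟶ X) (y x : Γ(X.left, ⊤)) (t : X ⟶ T) (B : Γ(Y.left, ⊤)),
      m ≫ C.pt y t x = gaPt B ≫ p → ∃ z, m.left.appTop z = B) :
    ∃ r : R, algebraMap R K r = a := by
  have hM := DiagRig.multTypeFT_of_torus C.hT
  have := DiagRig.multType_flat T hM
  obtain ⟨w, hwV, hwF, hwc⟩ := closed_pt C hα j hj b g
  have : Flat (fst (obj b) T).left := inferInstanceAs (Flat (pullback.fst b T.hom))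
  exact key_gen C j b g a p hcomm hco (fst (obj b) T) (snd (obj b) T) w hwV hwF hwc

theorem gm_inv_mul (α : T ⟶ Red.Gm S) [IsMonHom α] {X : Over S} (s : X ⟶ T) :
    Red.gmFn (s⁻¹ ≫ α) * Red.gmFn (s ≫ α) = 1 := by
  rw [← gm_mul, ← MonObj.mul_comp, inv_mul_cancel]
  have e := gm_mul ((1 : X ⟶ T) ≫ α) ((1 : X ⟶ T) ≫ α)
  rw [← MonObj.mul_comp, _root_.mul_one] at e
  exact (gm_isUnit _).mul_eq_left.1 e.symm

theorem gaPt_mul_inv (p : Red.Ga S ⟶ G) [IsMonHom p] {X : Over S} (x' y : X ⟶ Red.Ga S) (c : Γ(X.left, ⊤))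
    (h : Red.gaFn x' = c * Red.gaFn y) :
    (x' ≫ p) * (y ≫ p)⁻¹ = gaPt ((c - 1) * Red.gaFn y) ≫ p := by
  rw [mul_inv_eq_iff_eq_mul, ← MonObj.mul_comp (g := p)]
  congr 1
  apply ga_injective
  rw [ga_mul, gaFn_gaPt, h]
  ring

/-- A generic point of `G` extends uniquely. -/
theorem ext_generic [IsSeparated G.hom] {R K : Type u} [CommRing R] [IsDomain R] [Field K] [Algebra R K]
    [IsFractionRing R K] {b : Spec (CommRingCat.of R) ⟶ S} (g g' : obj b ⟶ G)
    (h : mor (CommRingCat.ofHom (algebraMap R K)) rfl ≫ g = mor (CommRingCat.ofHom (algebraMap R K)) rfl ≫ g') :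
    g = g' := by
  apply Over.OverMorphism.ext
  have : IsDominant (Spec.map (CommRingCat.ofHom (algebraMap R K))) := by
    rw [isDominant_iff]
    exact (PrimeSpectrum.denseRange_comap_iff_ker_le_nilRadical (algebraMap R K)).2 (by
      show RingHom.ker (algebraMap R K) ≤ _
      rw [(RingHom.injective_iff_ker_eq_bot _).1 (IsFractionRing.injective R K)]
      exact bot_le)
  have : AlgebraicGeometry.IsReduced (obj b).left := inferInstanceAs (AlgebraicGeometry.IsReduced (Spec (CommRingCat.of R)))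
  exact ext_of_isDominant_of_isSeparated G.hom ((Over.w g).trans (Over.w g').symm)
    (Spec.map (CommRingCat.ofHom (algebraMap R K))) congr($(h).left)

/-- Morphisms with the lifting property are closed immersions. -/
theorem closed_of_lift [IsAffineHom G.hom] {X : Over S} [LocallyOfFiniteType X.hom] [IsAffineHom X.hom] (f : X ⟶ G)
    [Mono f]
    (H : ∀ (R K : Type u) [CommRing R] [IsDomain R] [ValuationRing R] [Field K] [Algebra R K] [IsFractionRing R K]
      (b : Spec (CommRingCat.of R) ⟶ S) (g : obj b ⟶ G)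
      (x : obj (Spec.map (CommRingCat.ofHom (algebraMap R K)) ≫ b) ⟶ X),
      x ≫ f = mor (CommRingCat.ofHom (algebraMap R K)) rfl ≫ g → ∃ y : obj b ⟶ X, y ≫ f = g) :
    IsClosedImmersion f.left := by
  have : Mono f.left := inferInstance
  have : LocallyOfFiniteType (f.left ≫ G.hom) := by rw [Over.w f]; infer_instance
  have : LocallyOfFiniteType f.left := locallyOfFiniteType_of_comp f.left G.hom
  have : QuasiCompact (f.left ≫ G.hom) := by rw [Over.w f]; infer_instance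
  have : QuasiCompact f.left := QuasiCompact.of_comp f.left G.hom
  have : UniversallyClosed f.left := by
    apply UniversallyClosed.of_valuativeCriterion
    intro sq
    let b : Spec (CommRingCat.of sq.R) ⟶ S := sq.i₂ ≫ G.hom
    let g : obj b ⟶ G := Over.homMk sq.i₂ rfl
    let x : obj (Spec.map (CommRingCat.ofHom (algebraMap sq.R sq.K)) ≫ b) ⟶ X := Over.homMk sq.i₁ (by
      show sq.i₁ ≫ X.hom = Spec.map _ ≫ b
      rw [← Over.w f, ← Category.assoc, sq.commSq.w, Category.assoc])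
    have hx : x ≫ f = mor (CommRingCat.ofHom (algebraMap sq.R sq.K)) rfl ≫ g :=
      Over.OverMorphism.ext sq.commSq.w
    obtain ⟨y, hy⟩ := H sq.R sq.K b g x hx
    have hy' : mor (CommRingCat.ofHom (algebraMap sq.R sq.K)) rfl ≫ y = x := by
      rw [← cancel_mono f, Category.assoc, hy, hx]
    exact ⟨⟨{ l := y.left, fac_left := congr($(hy').left), fac_right := congr($(hy).left) }⟩⟩
  exact (IsClosedImmersion.iff_isProper_and_mono _).2 ⟨{}, inferInstance⟩

theorem lift_closed {A B : Over S} (i : A ⟶ B) [IsClosedImmersion i.left] {R K : Type u} [CommRing R] [IsDomain R]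
    [ValuationRing R] [Field K] [Algebra R K] [IsFractionRing R K] {b : Spec (CommRingCat.of R) ⟶ S} (g : obj b ⟶ B)
    (x : obj (Spec.map (CommRingCat.ofHom (algebraMap R K)) ≫ b) ⟶ A)
    (h : x ≫ i = mor (CommRingCat.ofHom (algebraMap R K)) rfl ≫ g) : ∃ y : obj b ⟶ A, y ≫ i = g := by
  have hE : ValuativeCriterion.Existence i.left := by
    have e : UniversallyClosed i.left := inferInstance
    rw [UniversallyClosed.eq_valuativeCriterion] at e
    exact e.1
  obtain ⟨l, -, hl⟩ := (hE { R := R, K := K, i₁ := x.left, i₂ := g.left, commSq := ⟨congr($(h).left)⟩ }).exists_lift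
  exact ⟨Over.homMk l (by rw [← Over.w i, ← Category.assoc, hl, Over.w g]), Over.OverMorphism.ext hl⟩

theorem affine_Ga : IsAffineHom (Red.Ga S).hom :=
  have h : IsAffineHom (specA symA.{u}).hom :=
    inferInstanceAs (IsAffineHom (Spec.map (CommRingCat.ofHom (algebraMap Zu.{u} symA.{u}))))
  AlgebraicGeometry.isAffineHom_isStableUnderBaseChange.of_isPullback (IsPullback.of_hasPullback _ _) h

theorem lft_Ga : LocallyOfFiniteType (Red.Ga S).hom := by
  have hf : Algebra.FiniteType Zu.{u} symA.{u} := by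
    refine Algebra.FiniteType.of_surjective (Polynomial.aeval (SymmetricAlgebra.ι Zu.{u} Zu.{u} (ULift.up 1))) fun a => ?_
    induction a using SymmetricAlgebra.induction with
    | algebraMap r => exact ⟨Polynomial.C r, Polynomial.aeval_C _ _⟩
    | «ι» m =>
      refine ⟨Polynomial.C m * Polynomial.X, ?_⟩
      rw [map_mul, Polynomial.aeval_C, Polynomial.aeval_X, ← Algebra.smul_def, ← map_smul]
      congr 1
      ext
      simp
    | mul a b ha hb =>
      obtain ⟨p, rfl⟩ := ha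
      obtain ⟨r, rfl⟩ := hb
      exact ⟨p * r, map_mul _ _ _⟩
    | add a b ha hb =>
      obtain ⟨p, rfl⟩ := ha
      obtain ⟨r, rfl⟩ := hb
      exact ⟨p + r, map_add _ _ _⟩
  have : LocallyOfFiniteType (Spec.map (CommRingCat.ofHom (algebraMap Zu.{u} symA.{u}))) :=
    (HasRingHomProperty.Spec_iff (P := @LocallyOfFiniteType)).2 (RingHom.finiteType_algebraMap.2 hf)
  have : LocallyOfFiniteType (specA symA.{u}).hom := this
  exact inferInstanceAs (LocallyOfFiniteType (pullback.snd (specA symA.{u}).hom _))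

/-- Both statements for one root homomorphism. -/
theorem closed_both (C : Cel S G T) (hα : ∀ s : S, (Over.pullback (Red.geomPt s)).map C.α ≠ 1)
    [IsAffineHom G.hom] [IsClosedImmersion C.i.left]
    (j : T ⟶ G) (hj : ∀ X : Over S, (1 : X ⟶ T) ≫ j = 1)
    (hjc : ∀ (X : Over S) (s t : X ⟶ T), (s ≫ j) * (t ≫ C.i) = (t ≫ C.i) * (s ≫ j))
    (p : Red.Ga S ⟶ G) [IsMonHom p] [Mono p]
    (hn : ∀ (X : Over S) (t : X ⟶ T) (x : X ⟶ Red.Ga S), ∃ x', x' ≫ p = (t ≫ C.i) * (x ≫ p) * (t ≫ C.i)⁻¹)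
    (hconj : ∀ (X : Over S) (s : X ⟶ T) (y : X ⟶ Red.Ga S), ∃ y', y' ≫ p = (s ≫ j) * (y ≫ p) * (s ≫ j)⁻¹ ∧
      Red.gaFn y' = Red.gmFn (s ≫ C.α) * Red.gaFn y)
    (hco : ∀ (X Y : Over S) (m : Y ⟶ X) (y x : Γ(X.left, ⊤)) (t : X ⟶ T) (B : Γ(Y.left, ⊤)),
      m ≫ C.pt y t x = gaPt B ≫ p → ∃ z, m.left.appTop z = B)
    (hsep : ∀ (X : Over S) (t t' : X ⟶ T) (v v' : X ⟶ Red.Ga S),
      (v ≫ p) * (t ≫ C.i) = (v' ≫ p) * (t' ≫ C.i) → t = t') :
    IsClosedImmersion p.left ∧ IsClosedImmersion ((C.i ⊗ₘ p) ≫ μ[G]).left := by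
  have := affine_Ga (S := S)
  have := lft_Ga (S := S)
  have hM := DiagRig.multTypeFT_of_torus C.hT
  have : LocallyOfFiniteType T.hom := DiagRig.multType_locallyOfFiniteType T hM
  have : IsAffineHom T.hom := by rw [← Over.w C.i]; infer_instance
  have hap : ∀ {X : Over S} (t : X ⟶ T) (v : X ⟶ Red.Ga S),
      lift t v ≫ (C.i ⊗ₘ p) ≫ μ[G] = (t ≫ C.i) * (v ≫ p) := fun t v => by
    rw [lift_map_assoc, ← Hom.mul_def]
  refine ⟨closed_of_lift p fun R K _ _ _ _ _ _ b g x hx => ?_, ?_⟩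
  · obtain ⟨a, ha⟩ := (fn_bijective (CommRingCat.of K)).2 (Red.gaFn x)
    obtain ⟨r, hr⟩ := key C hα j hj b g a p (fun X h s => by
      obtain ⟨y', hy', hy''⟩ := hconj X s (h ≫ x)
      rw [comm, ← hx, ← Category.assoc h x, ← hy', gaPt_mul_inv p _ _ _ hy'', ha, ga_comp]) hco
    refine ⟨gaPt (fn (CommRingCat.of R) r), ext_generic (K := K) _ _ ?_⟩
    rw [← hx, ← Category.assoc, gaPt_mor]
    congr 1
    apply ga_injective
    rw [gaFn_gaPt, ← ha]
    exact congrArg _ hr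
  · have : Mono ((C.i ⊗ₘ p) ≫ μ[G]) := ⟨fun {Z} u v huv => by
      have eu : u = lift (u ≫ fst _ _) (u ≫ snd _ _) := by ext <;> simp
      have ev : v = lift (v ≫ fst _ _) (v ≫ snd _ _) := by ext <;> simp
      rw [eu, ev, hap, hap] at huv
      obtain ⟨a₁, ha₁⟩ := hn Z (u ≫ fst _ _) (u ≫ snd _ _)
      obtain ⟨a₂, ha₂⟩ := hn Z (v ≫ fst _ _) (v ≫ snd _ _)
      have et : u ≫ fst _ _ = v ≫ fst _ _ := hsep Z _ _ a₁ a₂ (by rw [ha₁, ha₂, inv_mul_cancel_right, inv_mul_cancel_right, huv])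
      rw [et] at huv
      rw [eu, ev, et, (cancel_mono p).1 (mul_left_cancel huv)]⟩
    have : LocallyOfFiniteType (T ⊗ Red.Ga S).hom := by
      show LocallyOfFiniteType (pullback.fst T.hom (Red.Ga S).hom ≫ T.hom)
      infer_instance
    have : IsAffineHom (T ⊗ Red.Ga S).hom := by
      show IsAffineHom (pullback.fst T.hom (Red.Ga S).hom ≫ T.hom)
      have : IsAffineHom (pullback.fst T.hom (Red.Ga S).hom) :=
        AlgebraicGeometry.isAffineHom_isStableUnderBaseChange.of_isPullback (IsPullback.of_hasPullback _ _).flip inferInstance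
      infer_instance
    refine closed_of_lift ((C.i ⊗ₘ p) ≫ μ[G]) fun R K _ _ _ _ _ _ b g x hx => ?_
    let t := x ≫ fst _ _
    let v := x ≫ snd _ _
    have ex : x = lift t v := by ext <;> simp [t, v]
    rw [ex, hap] at hx
    obtain ⟨v', hv'⟩ := hn _ t v
    have hx' : mor (CommRingCat.ofHom (algebraMap R K)) rfl ≫ g = (v' ≫ p) * (t ≫ C.i) := by
      rw [← hx, hv', inv_mul_cancel_right]
    obtain ⟨a, ha⟩ := (fn_bijective (CommRingCat.of K)).2 (Red.gaFn v')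
    obtain ⟨r, hr⟩ := key C hα j hj b g a p (fun X h s => by
      obtain ⟨y', hy', hy''⟩ := hconj X s (h ≫ v')
      rw [ha, ← ga_comp, ← gaPt_mul_inv p _ _ _ hy'', hy']
      simp only [comm, hx', MonObj.comp_mul, ← Category.assoc]
      have e := hjc X s (h ≫ t)
      have e2 : ((h ≫ t) ≫ C.i) * (s ≫ j)⁻¹ = (s ≫ j)⁻¹ * ((h ≫ t) ≫ C.i) := by
        rw [eq_inv_mul_iff_mul_eq, ← _root_.mul_assoc, e, mul_inv_cancel_right]
      calc (s ≫ j) * (((h ≫ v') ≫ p) * ((h ≫ t) ≫ C.i)) * (s ≫ j)⁻¹ * (((h ≫ v') ≫ p) * ((h ≫ t) ≫ C.i))⁻¹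
          = (s ≫ j) * ((h ≫ v') ≫ p) * (((h ≫ t) ≫ C.i) * (s ≫ j)⁻¹) * ((h ≫ t) ≫ C.i)⁻¹ * ((h ≫ v') ≫ p)⁻¹ := by group
        _ = _ := by rw [e2]; group) hco
    let P₀ : obj b ⟶ G := gaPt (fn (CommRingCat.of R) r) ≫ p
    have hP : mor (CommRingCat.ofHom (algebraMap R K)) rfl ≫ P₀ = v' ≫ p := by
      rw [← Category.assoc, gaPt_mor]
      congr 1
      apply ga_injective
      rw [gaFn_gaPt, ← ha]
      exact congrArg _ hr
    obtain ⟨t₁, ht₁⟩ := lift_closed C.i (P₀⁻¹ * g) t (by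
      rw [MonObj.comp_mul, GrpObj.comp_inv, hP, hx', inv_mul_cancel_left])
    obtain ⟨v₁, hv₁⟩ := hn _ t₁⁻¹ (gaPt (fn (CommRingCat.of R) r))
    refine ⟨lift t₁ v₁, ?_⟩
    rw [hap, hv₁, GrpObj.inv_comp, _root_.inv_inv]
    show (t₁ ≫ C.i) * ((t₁ ≫ C.i)⁻¹ * P₀ * (t₁ ≫ C.i)) = g
    rw [ht₁]
    group

end Aux

/-- Let G be a reductive S-group, i : T ⟶ G a maximal torus, α a character of T non-trivial on every
geometric fibre, and p₊, p₋ : 𝔾_a ⟶ G monomorphisms of groups normalised by T with multipliers α and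
α⁻¹ such that 𝔾_a ×_S T ×_S 𝔾_a ⟶ G, (y, t, x) ↦ p₋(y) i(t) p₊(x), is an open immersion (a rank-one
system: G has semisimple rank 1 and p₊, p₋ trivialise the root groups of α and -α). Then the
subgroups U_α = im p₊, U_{-α} = im p₋, T·U_α and T·U_{-α} are closed in G: p₊ and p₋ are closed
immersions, and so are the morphisms T ×_S 𝔾_a ⟶ G, (t, x) ↦ i(t) p₊(x) and (t, y) ↦ i(t) p₋(y). -/
theorem result (S : Scheme.{u}) (G T : Over S) [GrpObj G] [GrpObj T] (i : T ⟶ G) [IsMonHom i] [Mono i] (hG : Red.IsReductive G) (hTm : Red.IsMaximalTorus i)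
    (α : T ⟶ Red.Gm S) [IsMonHom α] (hα : ∀ s : S, (Over.pullback (Red.geomPt s)).map α ≠ 1)
    (pp pm : Red.Ga S ⟶ G) [IsMonHom pp] [Mono pp] [IsMonHom pm] [Mono pm]
    (hpp : ∀ (X : Over S) (t : X ⟶ T) (x : X ⟶ Red.Ga S), ∃ x' : X ⟶ Red.Ga S,
      x' ≫ pp = (t ≫ i) * (x ≫ pp) * (t ≫ i)⁻¹ ∧ Red.gaFn x' = Red.gmFn (t ≫ α) * Red.gaFn x)
    (hpm : ∀ (X : Over S) (t : X ⟶ T) (y : X ⟶ Red.Ga S), ∃ y' : X ⟶ Red.Ga S,
      y' ≫ pm = (t ≫ i) * (y ≫ pm) * (t ≫ i)⁻¹ ∧ Red.gaFn y' * Red.gmFn (t ≫ α) = Red.gaFn y)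
    (hΩ : IsOpenImmersion (((pm ⊗ₘ i) ⊗ₘ pp) ≫ (μ[G] ▷ G) ≫ μ[G]).left) :
    IsClosedImmersion pp.left ∧ IsClosedImmersion pm.left ∧
      IsClosedImmersion ((i ⊗ₘ pp) ≫ μ[G]).left ∧ IsClosedImmersion ((i ⊗ₘ pm) ≫ μ[G]).left := by
  let C : Cel S G T := { i := i, α := α, pp := pp, pm := pm, hpp := hpp, hpm := hpm, hT := hTm.2.2.1, open_cell := hΩ }
  have := hG.1
  have hM := DiagRig.multTypeFT_of_torus hTm.2.2.1
  have : IsClosedImmersion C.i.left := DiagRig.isClosedImmersion_of_mono i (DiagRig.splitFpqc_of_multTypeFT T hM)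
  have hj₀ : ∀ X : Over S, (1 : X ⟶ T) ≫ i = 1 := fun X => MonObj.one_comp i
  have hp₀ : ∀ {X : Over S} (B : Γ(X.left, ⊤)), gaPt B ≫ pp = C.pt 0 1 B := fun B => by
    simp [Cel.pt, C, Cel.gaPt_zero_comp, MonObj.one_comp]
  have hm₀ : ∀ {X : Over S} (B : Γ(X.left, ⊤)), gaPt B ≫ pm = C.pt B 1 0 := fun B => by
    simp [Cel.pt, C, Cel.gaPt_zero_comp, MonObj.one_comp]
  have hcm : ∀ (X : Over S) (s t : X ⟶ T), (s ≫ i) * (t ≫ i) = (t ≫ i) * (s ≫ i) := fun X s t => by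
    rw [← MonObj.mul_comp, ← MonObj.mul_comp, C.torus_comm]
  obtain ⟨h1, h2⟩ := Aux.closed_both C hα i hj₀ hcm pp (fun X t x => ⟨_, (hpp X t x).choose_spec.1⟩)
    (fun X s y => ⟨_, (hpp X s y).choose_spec⟩)
    (fun X Y m y x t B h => by
      rw [hp₀, Cel.comp_pt] at h
      exact ⟨x, (C.pt_inj h).2.2⟩)
    (fun X t t' v v' h => by
      obtain ⟨w, hw, -⟩ := hpp X t⁻¹ v
      obtain ⟨w', hw', -⟩ := hpp X t'⁻¹ v'
      have e : ∀ (r : X ⟶ T) (z : X ⟶ Red.Ga S), C.pt 0 r (Red.gaFn z) = (r ≫ i) * (z ≫ pp) := fun r z => by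
        simp [Cel.pt, C, Cel.gaPt_zero_comp, gaPt_gaFn]
      refine (C.pt_inj (y := 0) (y' := 0) (x := Red.gaFn w) (x' := Red.gaFn w') ?_).2.1
      rw [e, e, hw, hw', GrpObj.inv_comp, GrpObj.inv_comp]
      simp only [_root_.inv_inv, ← _root_.mul_assoc, mul_inv_cancel, _root_.one_mul]
      exact h)
  obtain ⟨h3, h4⟩ := Aux.closed_both C hα i⁻¹ (fun X => by rw [GrpObj.comp_inv, MonObj.one_comp, inv_one])
    (fun X s t => by
      rw [GrpObj.comp_inv, ← GrpObj.inv_comp]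
      exact hcm X s⁻¹ t) pm (fun X t x => ⟨_, (hpm X t x).choose_spec.1⟩)
    (fun X s y => by
      obtain ⟨y', hy, hy'⟩ := hpm X s⁻¹ y
      refine ⟨y', ?_, ?_⟩
      · rw [hy]; simp only [GrpObj.comp_inv, GrpObj.inv_comp]
      · show Red.gaFn y' = Red.gmFn (s ≫ α) * Red.gaFn y
        calc Red.gaFn y' = Red.gaFn y' * (Red.gmFn (s⁻¹ ≫ α) * Red.gmFn (s ≫ α)) := by
              rw [Aux.gm_inv_mul, _root_.mul_one]
          _ = _ := by rw [← _root_.mul_assoc, hy', _root_.mul_comm])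
    (fun X Y m y x t B h => by
      rw [hm₀, Cel.comp_pt] at h
      exact ⟨y, (C.pt_inj h).1⟩)
    (fun X t t' v v' h => by
      have e : ∀ (r : X ⟶ T) (z : X ⟶ Red.Ga S), C.pt (Red.gaFn z) r 0 = (z ≫ pm) * (r ≫ i) := fun r z => by
        simp [Cel.pt, C, Cel.gaPt_zero_comp, gaPt_gaFn]
      rw [← e, ← e] at h
      exact (C.pt_inj h).2.1)
  exact ⟨h1, h3, h2, h4⟩
end Groth.Agent.S8456
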