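import Groth.Statements.S8457
import Groth.Agent.CellHom.Relations
-- import your own Groth.Agent.* helpers here

set_option autoImplicit false
universe u
open CategoryTheory MonoidalCategory CartesianMonoidalCategory MonObj GrpObj AlgebraicGeometry CategoryTheory.Limits
open Red

namespace Groth.Agent.S8457

open Groth.Agent.RedPts Groth.Agent.Cor85

/-- Generators and relations for a group of semisimple rank 1: for H an S-group scheme. Let G be a
reductive S-group, i : T ⟶ G a maximal torus, α a character of T non-trivial on every geometric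
fibre, p₊, p₋ : 𝔾_a ⟶ G monomorphisms of groups normalised by T with multipliers α and α⁻¹ whose
cell map (y, t, x) ↦ p₋(y) i(t) p₊(x) is an open immersion 𝔾_a ×_S T ×_S 𝔾_a ⟶ G, and α^* : 𝔾_m ⟶ T
the coroot: α ∘ α^* is the squaring map and p₊(x) p₋(y) = p₋(y/(1+xy)) · i(α^*(1+xy)) · p₊(x/(1+xy))
whenever 1 + xy is invertible (so p₊ and p₋ are dual to each other). Let e₁, em be the S-points of
𝔾_a with coordinates 1, -1 and m the S-point of 𝔾_m with coordinate -1; put u = p₊(e₁) and w =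
p₊(e₁) p₋(em) p₊(e₁). Let H be an S-group scheme, f_T : T ⟶ H and f_α : 𝔾_a ⟶ H homomorphisms and h
an S-point of H. Then there is exactly one homomorphism f : G ⟶ H with f ∘ i = f_T, f ∘ p₊ = f_α and
f(w) = h if and only if: (1) f_T(t) f_α(x) f_T(t)⁻¹ = f_α(α(t) x) for all points t of T and x of
𝔾_a; (2) h f_T(t) h⁻¹ = f_T(t · α^*(α(t))⁻¹) for all points t of T; (3) h² = f_T(α^*(m)); (4) (h ·
f_α(e₁))³ = e. (The published statement allows H to be any fppf sheaf of groups.) -/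
theorem result (S : Scheme.{u}) (G T : Over S) [GrpObj G] [GrpObj T] (i : T ⟶ G) [IsMonHom i] [Mono i] (hG : Red.IsReductive G) (hTm : Red.IsMaximalTorus i)
    (α : T ⟶ Red.Gm S) [IsMonHom α] (hα : ∀ s : S, (Over.pullback (Red.geomPt s)).map α ≠ 1)
    (pp pm : Red.Ga S ⟶ G) [IsMonHom pp] [Mono pp] [IsMonHom pm] [Mono pm]
    (hpp : ∀ (X : Over S) (t : X ⟶ T) (x : X ⟶ Red.Ga S), ∃ x' : X ⟶ Red.Ga S,
      x' ≫ pp = (t ≫ i) * (x ≫ pp) * (t ≫ i)⁻¹ ∧ Red.gaFn x' = Red.gmFn (t ≫ α) * Red.gaFn x)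
    (hpm : ∀ (X : Over S) (t : X ⟶ T) (y : X ⟶ Red.Ga S), ∃ y' : X ⟶ Red.Ga S,
      y' ≫ pm = (t ≫ i) * (y ≫ pm) * (t ≫ i)⁻¹ ∧ Red.gaFn y' * Red.gmFn (t ≫ α) = Red.gaFn y)
    (hΩ : IsOpenImmersion (((pm ⊗ₘ i) ⊗ₘ pp) ≫ (μ[G] ▷ G) ≫ μ[G]).left)
    (av : Red.Gm S ⟶ T) [IsMonHom av] (h2 : av ≫ α = (𝟙 (Red.Gm S)) ^ 2)
    (hF : ∀ (X : Over S) (x y : X ⟶ Red.Ga S), IsUnit (1 + Red.gaFn x * Red.gaFn y) →
      ∃ (x' y' : X ⟶ Red.Ga S) (z : X ⟶ Red.Gm S), Red.gmFn z = 1 + Red.gaFn x * Red.gaFn y ∧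
        Red.gaFn x' * Red.gmFn z = Red.gaFn x ∧ Red.gaFn y' * Red.gmFn z = Red.gaFn y ∧
        (x ≫ pp) * (y ≫ pm) = (y' ≫ pm) * (z ≫ av ≫ i) * (x' ≫ pp))
    (e₁ em : 𝟙_ (Over S) ⟶ Red.Ga S) (he₁ : Red.gaFn e₁ = 1) (hem : Red.gaFn em = -1)
    (m : 𝟙_ (Over S) ⟶ Red.Gm S) (hm : Red.gmFn m = -1)
    (H : Over S) [GrpObj H] (fT : T ⟶ H) [IsMonHom fT] (fα : Red.Ga S ⟶ H) [IsMonHom fα] (h : 𝟙_ (Over S) ⟶ H) :
    (∃! f : G ⟶ H, IsMonHom f ∧ i ≫ f = fT ∧ pp ≫ f = fα ∧ ((e₁ ≫ pp) * (em ≫ pm) * (e₁ ≫ pp)) ≫ f = h) ↔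
      ((∀ (X : Over S) (t : X ⟶ T) (x x' : X ⟶ Red.Ga S), Red.gaFn x' = Red.gmFn (t ≫ α) * Red.gaFn x →
          (t ≫ fT) * (x ≫ fα) * (t ≫ fT)⁻¹ = x' ≫ fα) ∧
        (∀ (X : Over S) (t : X ⟶ T), (toUnit X ≫ h) * (t ≫ fT) * (toUnit X ≫ h)⁻¹ = (t * (t ≫ α ≫ av)⁻¹) ≫ fT) ∧
        h ^ 2 = m ≫ av ≫ fT ∧ (h * (e₁ ≫ fα)) ^ 3 = 1) := by
  let D : Sys S G T := { i := i, α := α, av := av, pp := pp, pm := pm, hpp := hpp, hpm := hpm, h2 := h2, hF := hF }
  have : IsOpenImmersion (cell D).left := hΩ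
  have : Smooth G.hom := hG.2.1
  have hone : ∀ X : Over S, Red.gaFn (toUnit X ≫ e₁) = 1 := fun X => by rw [ga_comp, he₁, map_one]
  have hneg : ∀ X : Over S, Red.gaFn (toUnit X ≫ em) = -1 := fun X => by rw [ga_comp, hem, map_neg, map_one]
  have hgaP : ∀ X : Over S, gaPt (1 : Γ(X.left, ⊤)) = toUnit X ≫ e₁ := fun X =>
    ga_injective (by rw [gaFn_gaPt, hone])
  have hgm : ∀ X : Over S, gmPt (-1 : (Γ(X.left, ⊤))ˣ) = toUnit X ≫ m := fun X =>
    gm_injective (by rw [gmFn_gmPt, gm_comp, hm, map_neg, map_one, Units.val_neg, Units.val_one])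
  have hw : ∀ X : Over S, toUnit X ≫ ((e₁ ≫ pp) * (em ≫ pm) * (e₁ ≫ pp)) = (D.rk X).w 1 := fun X => by
    rw [MonObj.comp_mul, MonObj.comp_mul, ← Category.assoc, ← Category.assoc, D.pp_eq, D.pm_eq, hone, hneg,
      Rk1.w, inv_one, Units.val_one]
  have hu : toUnit (𝟙_ (Over S)) = 𝟙 _ := toUnit_unique _ _
  constructor
  · rintro ⟨f, ⟨hfm, hfi, hfp, hfw⟩, -⟩
    haveI := hfm
    have hn : ∀ X : Over S, (D.rk X).w 1 ≫ f = toUnit X ≫ h := fun X => by
      rw [← hw, Category.assoc, hfw]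
    have hit : ∀ (X : Over S) (t : X ⟶ T), (D.rk X).it t ≫ f = t ≫ fT := fun X t => by
      rw [← D.i_eq, Category.assoc, hfi]
    refine ⟨fun X t x x' hx => ?_, fun X t => ?_, ?_, ?_⟩
    · obtain ⟨x'', h1, h2'⟩ := hpp X t x
      obtain rfl : x'' = x' := ga_injective (h2'.trans hx.symm)
      rw [← hfi, ← hfp, ← Category.assoc, ← Category.assoc, ← Category.assoc, h1, MonObj.mul_comp, MonObj.mul_comp,
        GrpObj.inv_comp]
    · have e := congrArg (· ≫ f) ((D.rk X).w_conj_it t 1)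
      simp only [MonObj.mul_comp, GrpObj.inv_comp, hn, hit] at e
      rw [e, MonObj.mul_comp, GrpObj.inv_comp, ← hit X ((t ≫ α ≫ av))]
      have : (D.rk X).h ((D.rk X).χ t) = (D.rk X).it (t ≫ α ≫ av) := by
        rw [← D.αavi_eq, ← D.i_eq]; simp only [Category.assoc]; rfl
      rw [this, hit, ← GrpObj.inv_comp, ← MonObj.mul_comp, ← MonObj.mul_comp, torus_comm hTm.2.2.1]
    · have e := congrArg (· ≫ f) ((D.rk (𝟙_ (Over S))).w_sq 1)
      simp only [MonObj.mul_comp, hn, Rk1.h_apply, hit, hu, Category.id_comp] at e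
      rw [pow_two, e]
      show (gmPt (-1) ≫ av) ≫ fT = _
      rw [hgm, hu, Category.id_comp, Category.assoc]
    · have e := congrArg (· ≫ f) ((D.rk (𝟙_ (Over S))).cube (D.w_conj_self 1))
      have hP : (D.rk (𝟙_ (Over S))).P 1 ≫ f = e₁ ≫ fα := by
        show (gaPt 1 ≫ pp) ≫ f = _
        rw [hgaP, hu, Category.id_comp, Category.assoc, hfp]
      simp only [pow_succ, pow_zero, _root_.one_mul, MonObj.mul_comp, MonObj.one_comp, hn, hu, Category.id_comp,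
        Units.val_one, hP] at e ⊢
      exact e
  · rintro ⟨c1, c2, c3, c4⟩
    have hsq : ∀ X : Over S, (toUnit X ≫ h) * (toUnit X ≫ h) = ((D.rk X).av (-1)) ≫ fT := fun X => by
      rw [← MonObj.comp_mul, ← pow_two, c3]
      show _ = (gmPt (-1) ≫ av) ≫ fT
      rw [hgm]
      simp only [Category.assoc]
    have hcube : ∀ X : Over S, ((toUnit X ≫ h) * (gaPt 1 ≫ fα)) ^ 3 = 1 := fun X => by
      rw [hgaP, Category.assoc, ← MonObj.comp_mul, ← MonObj.comp_pow, c4, MonObj.comp_one]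
    let E : CellHom.RelData D H :=
      { fT := fT, fα := fα, n := h, conjP := c1, conjn := c2, sq := hsq, cube := hcube }
    have hc1 : ∀ X : Over S, CellHom.cu (gmPt (1 : (Γ((𝟙_ (Over S)).left, ⊤))ˣ)) X = 1 := fun X =>
      Units.ext (by rw [gmU_val, gm_comp, gmFn_gmPt, Units.val_one, map_one, Units.val_one])
    obtain ⟨F, hFm, hFc, hFu⟩ := CellHom.exists_hom D E.sys 1 (gmPt (1 : (Γ((𝟙_ (Over S)).left, ⊤))ˣ)) (𝟙 T)
      one_pos (fun _ a b => by simp only [pow_one]) (by rw [Category.id_comp, pow_one]; rfl)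
      (by rw [Category.comp_id, pow_one]; rfl) (CellHom.connFibres_of_isReductive G hG)
    have hval : ∀ {X : Over S} (y : Γ(X.left, ⊤)) (t : X ⟶ T) (x : Γ(X.left, ⊤)),
        ((D.rk X).M y * (D.rk X).it t * (D.rk X).P x) ≫ F =
          (E.sys.rk X).M y * (E.sys.rk X).it t * (E.sys.rk X).P x := by
      intro X y t x
      have e := CellHom.phi_eq E.sys 1 (gmPt (1 : (Γ((𝟙_ (Over S)).left, ⊤))ˣ)) (𝟙 T) (CellHom.mkC y t x)
      rw [← hFc, ← Category.assoc, CellHom.cell_eq, CellHom.yO_mk, CellHom.tO_mk, CellHom.xO_mk, hc1, inv_one,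
        Units.val_one, pow_one, pow_one, _root_.one_mul, _root_.one_mul, Category.comp_id] at e
      exact e
    have hM' : ∀ (X : Over S) (y : Γ(X.left, ⊤)), (E.sys.rk X).M y = (E.rel X).M y := fun X y => by
      show gaPt y ≫ E.pm = _
      rw [E.pm_eq, gaFn_gaPt]
    refine ⟨F, ⟨hFm, ?_, ?_, ?_⟩, ?_⟩
    · have e := hval 0 (𝟙 T) 0
      simp only [Rk1.M_zero, Rk1.P_zero, _root_.one_mul, _root_.mul_one] at e
      rw [← D.i_eq, Category.id_comp, ← E.sys.i_eq, Category.id_comp] at e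
      exact e
    · have e := hval 0 (1 : Red.Ga S ⟶ T) (Red.gaFn (𝟙 (Red.Ga S)))
      rw [map_one, map_one, Rk1.M_zero, Rk1.M_zero, _root_.one_mul, _root_.one_mul, _root_.one_mul, _root_.one_mul,
        ← D.pp_eq, ← E.sys.pp_eq, Category.id_comp, Category.id_comp] at e
      exact e
    · haveI := hFm
      have eP := hval 0 (1 : 𝟙_ (Over S) ⟶ T) 1
      have eM := hval (-1) (1 : 𝟙_ (Over S) ⟶ T) 0
      simp only [map_one, Rk1.M_zero, Rk1.P_zero, _root_.one_mul, _root_.mul_one] at eP eM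
      have e0 := hw (𝟙_ (Over S))
      rw [hu, Category.id_comp] at e0
      rw [e0, Rk1.w, inv_one, Units.val_one, MonObj.mul_comp, MonObj.mul_comp, eP, eM, hM']
      show (E.rel _).P 1 * _ * (E.rel _).P 1 = h
      have := (E.rel (𝟙_ (Over S))).W_one
      rw [CellHom.Rel.W, inv_one, Units.val_one] at this
      rw [this]
      show toUnit _ ≫ h = h
      rw [hu, Category.id_comp]
    · rintro f ⟨hfm, hfi, hfp, hfw⟩
      haveI := hfm
      refine hFu f hfm ?_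
      have e : cell D = (D.rk _).M (CellHom.yO (𝟙 (CellHom.C T))) * (D.rk _).it (CellHom.tO (𝟙 (CellHom.C T))) *
          (D.rk _).P (CellHom.xO (𝟙 (CellHom.C T))) := by
        rw [← CellHom.cell_eq, Category.id_comp]
      have hP : ∀ (X : Over S) (a : Γ(X.left, ⊤)), (D.rk X).P a ≫ f = gaPt a ≫ fα := fun X a => by
        show (gaPt a ≫ pp) ≫ f = _
        rw [Category.assoc, hfp]
      rw [e, MonObj.mul_comp, MonObj.mul_comp, CellHom.phi, hc1, inv_one, Units.val_one, pow_one, pow_one,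
        _root_.one_mul, _root_.one_mul, hM']
      congr 1
      congr 1
      · have hy := D.w_conj_P (X := CellHom.C T) 1 (-(CellHom.yO (𝟙 (CellHom.C T))))
        rw [inv_one, Units.val_one, one_pow, _root_.one_mul, neg_neg] at hy
        rw [← hy, MonObj.mul_comp, MonObj.mul_comp, GrpObj.inv_comp, hP, ← hw, Category.assoc, hfw]
        rfl
      · rw [← D.i_eq, Category.assoc, hfi, Category.comp_id]
        rfl
      · exact hP _ _

end Groth.Agent.S8457
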