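import Groth.Statements.S8473
import Groth.Agent.S18072
import Groth.Agent.Cor85.Line
import Groth.Agent.Fibres16.CompScheme.Scheme

set_option autoImplicit false
universe u
open CategoryTheory MonoidalCategory CartesianMonoidalCategory MonObj GrpObj AlgebraicGeometry CategoryTheory.Limits
open Red

namespace Groth.Agent.S8473


/-- Let k be an algebraically closed field, T a k-torus, α : T ⟶ 𝔾_m a non-trivial character and P the
semi-direct product T ⋉_α 𝔾_a, given as a k-group P with homomorphisms j_T : T ⟶ P and j_U : 𝔾_a ⟶ P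
such that (t, x) ↦ j_T(t) j_U(x) is an isomorphism of schemes T × 𝔾_a ≅ P and j_T(t) j_U(x) j_T(t)⁻¹
= j_U(α(t) x). Let n : N ⟶ P be a normal subgroup scheme which is étale over k and such that N ∩ T
is trivial (a point of N whose image is in j_T(T) is the unit). Then N is the trivial group. -/
theorem result (K : Type u) [Field K] [IsAlgClosed K]
    (T P N : Over (Spec (CommRingCat.of K))) [GrpObj T] [GrpObj P] [GrpObj N] (hT : Red.IsTorus T)
    (α : T ⟶ Red.Gm (Spec (CommRingCat.of K))) [IsMonHom α] (hα : α ≠ 1)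
    (jT : T ⟶ P) [IsMonHom jT] (jU : Red.Ga (Spec (CommRingCat.of K)) ⟶ P) [IsMonHom jU] (hiso : IsIso ((jT ⊗ₘ jU) ≫ μ[P]))
    (hconj : ∀ (X : Over (Spec (CommRingCat.of K))) (t : X ⟶ T) (x x' : X ⟶ Red.Ga (Spec (CommRingCat.of K))), Red.gaFn x' = Red.gmFn (t ≫ α) * Red.gaFn x →
      (t ≫ jT) * (x ≫ jU) * (t ≫ jT)⁻¹ = x' ≫ jU)
    (n : N ⟶ P) [IsMonHom n] [Mono n] (hn : AlgGrp.IsNormalHom n) (het : Etale N.hom)
    (hNT : ∀ (X : Over (Spec (CommRingCat.of K))) (t : X ⟶ T) (m : X ⟶ N), t ≫ jT = m ≫ n → m = 1) :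
    Red.IsTrivialGrp N := by
  obtain ⟨hTaff, hTlft, hTint, -⟩ := Borel50.Lin.TorusSch.torus_facts hT
  have := het
  have : DiscreteTopology N.left := Fibres16.CompScheme.discreteTopology_of_etale N.hom
  have : IsReduced N.left := GrpScheme.HomFlat.isReduced_of_smooth N.hom
  have : IsIso ((jT ⊗ₘ jU) ≫ μ[P]) := hiso
  have hinj : ∀ {t t' : GrpScheme.CharSplit.Pt T} {x x' : 𝟙_ (Over (Spec (CommRingCat.of K))) ⟶ Red.Ga _},
      (t ≫ jT) * (x ≫ jU) = (t' ≫ jT) * (x' ≫ jU) → t = t' ∧ x = x' := by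
    intro t t' x x' h
    have e : lift t x = lift t' x' := by
      rw [← cancel_mono ((jT ⊗ₘ jU) ≫ μ[P]), lift_map_assoc, lift_map_assoc, ← Hom.mul_def, ← Hom.mul_def]
      exact h
    exact ⟨by simpa using congrArg (· ≫ fst _ _) e, by simpa using congrArg (· ≫ snd _ _) e⟩
  obtain ⟨s, hs⟩ : ∃ s : GrpScheme.CharSplit.Pt T, Red.gmFn (s ≫ α) ≠ 1 := by
    by_contra! h
    apply hα
    apply RedPts.gm_injective
    have h1 : Red.gmFn α = 1 := GrpScheme.CharSplit.eq_of_dense (GrpScheme.CharSplit.denseSet_univ (G := T)) fun x _ => by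
      rw [map_one]
      show (Scheme.ΓSpecIso (CommRingCat.of K)).hom.hom (Red.gmFn (x ≫ α)) = 1
      rw [h x, map_one]
    have h2 := RedPts.gm_mul (1 : T ⟶ Red.Gm _) 1
    rw [show (1 : T ⟶ Red.Gm _) * 1 = 1 from _root_.mul_one (1 : T ⟶ Red.Gm (Spec (CommRingCat.of K)))] at h2
    rw [h1, (RedPts.gm_isUnit _).mul_eq_left.1 h2.symm]
  have hone : ∀ m : GrpScheme.CharSplit.Pt N, m = 1 := by
    intro m
    obtain ⟨n', hn'⟩ := hn T jT (toUnit T ≫ m)
    have hpt : ∀ x : GrpScheme.CharSplit.Pt T, (x ≫ jT) * (m ≫ n) * (x ≫ jT)⁻¹ = (x ≫ n') ≫ n := by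
      intro x
      have := congrArg (x ≫ ·) hn'
      simp only [MonObj.comp_mul, GrpObj.comp_inv, ← Category.assoc] at this
      rwa [toUnit_unique (x ≫ toUnit T) (𝟙 _), Category.id_comp] at this
    have hconst : ∀ x : GrpScheme.CharSplit.Pt T, x ≫ n' = m := by
      have h1 : (1 : GrpScheme.CharSplit.Pt T) ≫ n' = m := (cancel_mono n).1 (by
        rw [← hpt, MonObj.one_comp, _root_.one_mul, inv_one, _root_.mul_one])
      have hrange : (Set.range n'.left).Subsingleton :=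
        (isPreconnected_range n'.left.continuous).subsingleton
      intro x
      rw [← h1]
      exact GrpScheme.CharSplit.pt_ext (hrange ⟨_, rfl⟩ ⟨_, rfl⟩)
    obtain ⟨t₀, x₀, hm⟩ : ∃ (t₀ : GrpScheme.CharSplit.Pt T)
        (x₀ : 𝟙_ (Over (Spec (CommRingCat.of K))) ⟶ Red.Ga _), m ≫ n = (t₀ ≫ jT) * (x₀ ≫ jU) := by
      refine ⟨(m ≫ n) ≫ inv ((jT ⊗ₘ jU) ≫ μ[P]) ≫ fst _ _, (m ≫ n) ≫ inv ((jT ⊗ₘ jU) ≫ μ[P]) ≫ snd _ _, ?_⟩
      rw [Hom.mul_def, ← lift_map_assoc, ← comp_lift, ← comp_lift, lift_fst_snd, Category.comp_id]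
      simp
    have hc := hpt s
    rw [hconst, hm] at hc
    have hcomm : s * t₀ = t₀ * s := DiagRig.mul_comm_of_splitFpqc
      (DiagRig.splitFpqc_of_multTypeFT T (DiagRig.multTypeFT_of_torus hT)) s t₀
    let x₁ : 𝟙_ (Over (Spec (CommRingCat.of K))) ⟶ Red.Ga _ := RedPts.gaPt (Red.gmFn (s ≫ α) * Red.gaFn x₀)
    have e1 := hconj _ s x₀ x₁ (RedPts.gaFn_gaPt _)
    have hc' : (t₀ ≫ jT) * (x₁ ≫ jU) = (t₀ ≫ jT) * (x₀ ≫ jU) := by
      rw [← e1]
      refine Eq.trans ?_ hc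
      have e2 : (s ≫ jT) * (t₀ ≫ jT) = (t₀ ≫ jT) * (s ≫ jT) := by rw [← MonObj.mul_comp, ← MonObj.mul_comp, hcomm]
      calc (t₀ ≫ jT) * ((s ≫ jT) * (x₀ ≫ jU) * (s ≫ jT)⁻¹)
          = ((t₀ ≫ jT) * (s ≫ jT)) * (x₀ ≫ jU) * (s ≫ jT)⁻¹ := by group
        _ = _ := by rw [← e2]; group
    have e3 : x₁ = x₀ := (hinj hc').2
    have e4 : Red.gmFn (s ≫ α) * Red.gaFn x₀ = Red.gaFn x₀ := by
      conv_rhs => rw [← e3]
      exact (RedPts.gaFn_gaPt _).symm
    have hx0 : Red.gaFn x₀ = 0 := by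
      obtain ⟨u, hu⟩ := (Cor85.Weight.fn_bijective (CommRingCat.of K)).2 ((Red.gmFn (s ≫ α) - 1 :))
      have hu0 : u ≠ 0 := by
        rintro rfl
        exact hs (sub_eq_zero.1 (hu.symm.trans (map_zero _)))
      refine ((isUnit_iff_ne_zero.2 hu0).map (Cor85.Weight.fn (CommRingCat.of K))).mul_right_eq_zero.1 ?_
      erw [hu]
      rw [sub_mul, _root_.one_mul, e4, sub_self]
    have e5 : x₀ ≫ jU = 1 := by
      rw [← RedPts.gaPt_gaFn x₀, hx0]
      exact Cor85.Weight.Cel.gaPt_zero_comp jU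
    exact hNT _ t₀ m (by rw [hm, e5, _root_.mul_one])
  have : Subsingleton N.left := ⟨fun a b => by
    have key : ∀ z : N.left, z = GrpScheme.CharSplit.cpt (1 : GrpScheme.CharSplit.Pt N) := fun z => by
      obtain ⟨y, hy⟩ := GrpScheme.CharSplit.exists_pt_mem (G := N) (isOpen_discrete {z}).isLocallyClosed
        (Set.singleton_nonempty z)
      rw [hone y] at hy
      exact hy.symm
    rw [key a, key b]⟩
  exact S18072.isTrivialGrp_of_subsingleton

end Groth.Agent.S8473
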