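import Groth.Statements.S8474
import Groth.Agent.Cor85.WtdTorus
import Groth.Agent.DiagRig.LocalTrivial
import Groth.Agent.DiagRig.Kernel

set_option autoImplicit false
universe u
open CategoryTheory MonoidalCategory CartesianMonoidalCategory MonObj GrpObj AlgebraicGeometry CategoryTheory.Limits
open Red

namespace Groth.Agent.S8474
attribute [-instance] Groth.Agent.GrpArtin.grpObjBC CategoryTheory.Hom.commGroup
open CategoryTheory MonoidalCategory CartesianMonoidalCategory MonObj GrpObj AlgebraicGeometry Limits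
open Groth.Agent.RedPts Groth.Agent.Cor85 Groth.Agent.Cor85.Weight

namespace Aux

variable {S : Scheme.{u}}

theorem finiteType_symA : Algebra.FiniteType Zu.{u} symA.{u} := by
  refine Algebra.FiniteType.of_surjective (Polynomial.aeval (SymmetricAlgebra.ι Zu.{u} Zu.{u} (ULift.up 1))) fun a => ?_
  induction a using SymmetricAlgebra.induction with
  | algebraMap r => exact ⟨Polynomial.C r, Polynomial.aeval_C _ _⟩
  | «ι» m =>
    refine ⟨Polynomial.C m * Polynomial.X, ?_⟩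
    rw [map_mul, Polynomial.aeval_C, Polynomial.aeval_X, ← Algebra.smul_def, ← map_smul]
    congr 1
    ext
    simp
  | mul a b ha hb =>
    obtain ⟨p, rfl⟩ := ha
    obtain ⟨r, rfl⟩ := hb
    exact ⟨p * r, map_mul _ _ _⟩
  | add a b ha hb =>
    obtain ⟨p, rfl⟩ := ha
    obtain ⟨r, rfl⟩ := hb
    exact ⟨p + r, map_add _ _ _⟩

theorem lft_Ga : LocallyOfFiniteType (Red.Ga S).hom := by
  have : LocallyOfFiniteType (Spec.map (CommRingCat.ofHom (algebraMap Zu.{u} symA.{u}))) :=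
    (HasRingHomProperty.Spec_iff (P := @LocallyOfFiniteType)).2 (RingHom.finiteType_algebraMap.2 finiteType_symA)
  have : LocallyOfFiniteType (specA symA.{u}).hom := this
  exact inferInstanceAs (LocallyOfFiniteType (pullback.snd (specA symA.{u}).hom _))

variable {G T P : Over S} [GrpObj G] [GrpObj T] [GrpObj P]

set_option maxHeartbeats 1000000 in
/-- A kernel point over a point at which the kernel is trivial near the unit is the unit. -/
theorem eq_unit (hT : Red.IsTorus T) (α : T ⟶ Red.Gm S) [IsMonHom α]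
    (hα : ∀ s : S, (Over.pullback (Red.geomPt s)).map α ≠ 1) (jT : T ⟶ P) [IsMonHom jT]
    (jU : Red.Ga S ⟶ P) [IsMonHom jU] [IsIso ((jT ⊗ₘ jU) ≫ μ[P])]
    (hconj : ∀ (X : Over S) (t : X ⟶ T) (x x' : X ⟶ Red.Ga S), Red.gaFn x' = Red.gmFn (t ≫ α) * Red.gaFn x →
      (t ≫ jT) * (x ≫ jU) * (t ≫ jT)⁻¹ = x' ≫ jU)
    (f : P ⟶ G) [IsMonHom f] [Mono (jT ≫ f)] (W : (DiagRig.kerOb f).left.Opens)
    (hW : W.ι ≫ (DiagRig.kerOb f).hom ≫ (DiagRig.kerUnit f).left = W.ι) (k : (DiagRig.kerOb f).left)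
    (hk : (DiagRig.kerUnit f).left ((DiagRig.kerOb f).hom k) ∈ W) :
    k = (DiagRig.kerUnit f).left ((DiagRig.kerOb f).hom k) := by
  let X := DiagRig.kerOb f
  let K := AlgebraicClosure (X.left.residueField k)
  let s := X.hom k
  let g₀ : Spec (CommRingCat.of K) ⟶ Spec (S.residueField s) :=
    Spec.map (CommRingCat.ofHom (algebraMap (X.left.residueField k) K)) ≫ Spec.map (X.hom.residueFieldMap k)
  let b : Spec (CommRingCat.of K) ⟶ S := g₀ ≫ S.fromSpecResidueField s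
  have hab : Red.geomPt k ≫ X.hom = b := by
    simp only [b, g₀, s, Red.geomPt, Category.assoc, Scheme.Hom.SpecMap_residueFieldMap_fromSpecResidueField]
    rfl
  let W₁ := 𝟙_ (Over (Spec (CommRingCat.of K)))
  let Q := (Over.map b).obj W₁
  let cp : Q.left := (IsLocalRing.closedPoint K : Spec (CommRingCat.of K))
  let kp : Q ⟶ X := Over.homMk (Red.geomPt k) (hab.trans (Category.id_comp b).symm)
  have hkp : kp.left cp = k := by
    have key : ∀ {Z : Scheme.{u}} (h : Z ⟶ Spec (X.left.residueField k)) (w : Z),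
        (h ≫ X.left.fromSpecResidueField k) w = k := fun h w => by
      rw [Scheme.Hom.comp_apply]; exact Scheme.fromSpecResidueField_apply k _
    exact key (Spec.map (CommRingCat.ofHom (algebraMap (X.left.residueField k) K))) _
  have hQcp : Q.hom cp = s := by
    show Q.hom cp = X.hom k
    rw [← Over.w kp, Scheme.Hom.comp_apply, hkp]
  let x : Q ⟶ P := kp ≫ DiagRig.kerι f
  suffices hx1 : x = 1 by
    have e : kp ≫ DiagRig.kerι f = (toUnit Q ≫ DiagRig.kerUnit f) ≫ DiagRig.kerι f := by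
      rw [Category.assoc, DiagRig.kerUnit_ι, MonObj.comp_one]
      exact hx1
    have : Mono (DiagRig.kerι f) := Over.mono_of_mono_left _
    have e2 := congr($((cancel_mono (DiagRig.kerι f)).1 e).left cp)
    rw [hkp] at e2
    change k = (DiagRig.kerUnit f).left (Q.hom cp) at e2
    rwa [hQcp] at e2
  have hxf : x ≫ f = 1 := DiagRig.kerι_comp' f kp
  obtain ⟨t₀, a, hx⟩ : ∃ (t₀ : Q ⟶ T) (a : Q ⟶ Red.Ga S), x = (t₀ ≫ jT) * (a ≫ jU) := by
    refine ⟨x ≫ inv ((jT ⊗ₘ jU) ≫ μ[P]) ≫ fst _ _, x ≫ inv ((jT ⊗ₘ jU) ≫ μ[P]) ≫ snd _ _, ?_⟩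
    rw [Hom.mul_def, ← lift_map_assoc, ← comp_lift, ← comp_lift, lift_fst_snd, Category.comp_id]
    simp
  -- the conjugates
  have hTt := AbSch51.TorusToProper.isTorus_bc b hT
  obtain ⟨_, hTlft, hTint, -⟩ := Borel50.Lin.TorusSch.torus_facts (k := K) (T := Red.bc b T) hTt
  let TK := Red.bc b T
  let θ : (Over.map b).obj TK ⟶ T := (tr b TK T).symm (𝟙 TK)
  let π : (Over.map b).obj TK ⟶ Q := (Over.map b).map (toUnit TK)
  let y : (Over.map b).obj TK ⟶ P := (θ ≫ jT) * (π ≫ x) * (θ ≫ jT)⁻¹ * (π ≫ x)⁻¹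
  obtain ⟨ψ, hψ⟩ := DiagRig.exists_kerLift f y (by
    simp only [y, MonObj.mul_comp, GrpObj.inv_comp]
    rw [Category.assoc π x f, hxf, MonObj.comp_one]
    group)
  let θp : ∀ σ : W₁ ⟶ TK, Q ⟶ T := fun σ => (Over.map b).map σ ≫ θ
  have hσ : ∀ σ : W₁ ⟶ TK, ((Over.map b).map σ ≫ ψ) ≫ DiagRig.kerι f =
      (θp σ ≫ jT) * x * (θp σ ≫ jT)⁻¹ * x⁻¹ := fun σ => by
    have e : (Over.map b).map σ ≫ π = 𝟙 Q := by
      rw [← Functor.map_comp, toUnit_unique (σ ≫ toUnit TK) (𝟙 _)]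
      exact CategoryTheory.Functor.map_id _ _
    rw [Category.assoc, hψ]
    simp only [y, θp, MonObj.comp_mul, GrpObj.comp_inv, ← Category.assoc, e]
    erw [Category.id_comp x]
  let V : TK.left.Opens := ψ.left ⁻¹ᵁ W
  have hV : (V : Set TK.left).Nonempty := by
    refine ⟨(1 : W₁ ⟶ TK).left (IsLocalRing.closedPoint K), ?_⟩
    show ((Over.map b).map (1 : W₁ ⟶ TK) ≫ ψ).left cp ∈ W
    have e1 : θp (1 : W₁ ⟶ TK) = 1 := by
      apply (tr b W₁ T).injective
      rw [tr_pre, Equiv.apply_symm_apply, Category.comp_id, tr_one]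
    have e2 : (Over.map b).map (1 : W₁ ⟶ TK) ≫ ψ = toUnit Q ≫ DiagRig.kerUnit f := by
      have : Mono (DiagRig.kerι f) := Over.mono_of_mono_left _
      rw [← cancel_mono (DiagRig.kerι f), hσ, e1, Category.assoc, DiagRig.kerUnit_ι, MonObj.one_comp, MonObj.comp_one]
      group
    rw [e2]
    show (DiagRig.kerUnit f).left (Q.hom cp) ∈ W
    rw [hQcp]
    exact hk
  -- a value of the character
  let K₀ := AlgebraicClosure (S.residueField s)
  letI : Algebra (S.residueField s) K :=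
    ((algebraMap (X.left.residueField k) K).comp (X.hom.residueFieldMap k).hom).toAlgebra
  let e₀ : K₀ →ₐ[S.residueField s] K := IsAlgClosed.lift
  let m : Q ⟶ Over.mk (Red.geomPt s) := Over.homMk (Spec.map (CommRingCat.ofHom e₀.toRingHom)) (by
    show Spec.map _ ≫ Spec.map _ ≫ _ = 𝟙 _ ≫ (Spec.map _ ≫ Spec.map _) ≫ _
    rw [Category.id_comp, ← Category.assoc, ← Spec.map_comp, ← Spec.map_comp]
    congr 2
    ext r
    exact e₀.commutes r)
  obtain ⟨s₀, hs₀⟩ := exists_value_ne hT α s (hα _) 1 one_pos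
  rw [pow_one] at hs₀
  have hval : Red.gmFn ((m ≫ s₀) ≫ α) ≠ 1 := by
    obtain ⟨u₀, hu₀⟩ := (fn_bijective (CommRingCat.of K₀)).2 (Red.gmFn (s₀ ≫ α))
    have e : Red.gmFn ((m ≫ s₀) ≫ α) = fn (CommRingCat.of K) (e₀ u₀) := by
      rw [Category.assoc, gm_comp, ← hu₀]
      exact (congr($(Scheme.ΓSpecIso_inv_naturality (CommRingCat.ofHom e₀.toRingHom)) u₀)).symm
    intro h
    rw [e] at h
    have h' : e₀ u₀ = e₀ 1 := by
      rw [map_one]
      exact (fn_bijective (CommRingCat.of K)).1 (h.trans (map_one _).symm)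
    exact hs₀ (by rw [← hu₀, e₀.toRingHom.injective h', map_one])
  let F : Γ(TK.left, ⊤) := (Red.gmFn (θ ≫ α) :)
  have hF : ∀ σ : W₁ ⟶ TK, Red.gmFn (θp σ ≫ α) = σ.left.appTop F := fun σ => by
    rw [Category.assoc, gm_comp]; rfl
  have hF1 : F - 1 ≠ 0 := by
    intro h
    apply hval
    have e : θp (tr b W₁ T (m ≫ s₀)) = m ≫ s₀ := by
      apply (tr b W₁ T).injective
      rw [tr_pre, Equiv.apply_symm_apply, Category.comp_id]
    rw [← e, hF, sub_eq_zero.1 h, map_one]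
  have : Nonempty TK.left := hTint.nonempty
  have hne : ((V : Set TK.left) ∩ (TK.left.basicOpen (F - 1) : Set TK.left)).Nonempty := by
    have h2 : (TK.left.basicOpen (F - 1) : Set TK.left).Nonempty := by
      rw [Set.nonempty_iff_ne_empty]
      intro h
      exact hF1 ((basicOpen_eq_bot_iff (X := TK.left) (U := ⊤) (F - 1)).1 (TopologicalSpace.Opens.ext h))
    exact nonempty_preirreducible_inter V.2 (TK.left.basicOpen (F - 1)).2 hV h2
  obtain ⟨σ, hσV, hσF⟩ := GrpScheme.CharSplit.exists_pt_mem (V.2.inter (TK.left.basicOpen (F - 1)).2).isLocallyClosed hne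
  have hu : IsUnit (Red.gmFn (θp σ ≫ α) - 1) := by
    rw [hF, ← map_one σ.left.appTop.hom]
    show IsUnit (σ.left.appTop.hom F - σ.left.appTop.hom 1)
    rw [← map_sub]
    obtain ⟨c, hc⟩ := (fn_bijective (CommRingCat.of K)).2 (σ.left.appTop.hom (F - 1))
    have hc0 : c ≠ 0 := by
      rintro rfl
      have hmem : IsLocalRing.closedPoint K ∈ σ.left ⁻¹ᵁ TK.left.basicOpen (F - 1) := hσF
      rw [Scheme.preimage_basicOpen] at hmem
      erw [hc.symm.trans (map_zero _), Scheme.basicOpen_zero] at hmem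
      exact hmem
    exact hc ▸ (isUnit_iff_ne_zero.2 hc0).map (fn (CommRingCat.of K))
  have hfix : (θp σ ≫ jT) * x * (θp σ ≫ jT)⁻¹ * x⁻¹ = 1 := by
    rw [← hσ]
    apply DiagRig.eq_one_of_unit f
    let k' := ((Over.map b).map σ ≫ ψ).left
    have hr : Set.range k'.base ⊆ Set.range W.ι.base := by
      rintro _ ⟨z, rfl⟩
      rw [Scheme.Opens.range_ι, show z = cp from Subsingleton.elim (α := PrimeSpectrum K) _ _]
      exact hσV
    show k' ≫ _ = k'
    rw [← IsOpenImmersion.lift_fac W.ι k' hr, Category.assoc, hW]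
  have hcomm : θp σ * t₀ = t₀ * θp σ :=
    DiagRig.mul_comm_of_splitFpqc (DiagRig.splitFpqc_of_multTypeFT T (DiagRig.multTypeFT_of_torus hT)) _ _
  let a' : Q ⟶ Red.Ga S := gaPt (Red.gmFn (θp σ ≫ α) * Red.gaFn a)
  have e1 := hconj Q (θp σ) a a' (gaFn_gaPt _)
  have e2 : (θp σ ≫ jT) * (t₀ ≫ jT) = (t₀ ≫ jT) * (θp σ ≫ jT) := by
    rw [← MonObj.mul_comp, ← MonObj.mul_comp, hcomm]
  have hc : (t₀ ≫ jT) * (a' ≫ jU) = (t₀ ≫ jT) * (a ≫ jU) := by
    rw [← e1, ← hx, ← mul_inv_eq_one.1 hfix, hx]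
    calc (t₀ ≫ jT) * ((θp σ ≫ jT) * (a ≫ jU) * (θp σ ≫ jT)⁻¹)
        = ((t₀ ≫ jT) * (θp σ ≫ jT)) * (a ≫ jU) * (θp σ ≫ jT)⁻¹ := by group
      _ = _ := by rw [← e2]; group
  have ea : a' = a := by
    have e : lift t₀ a' = lift t₀ a := by
      rw [← cancel_mono ((jT ⊗ₘ jU) ≫ μ[P]), lift_map_assoc, lift_map_assoc, ← Hom.mul_def, ← Hom.mul_def]
      exact hc
    simpa using congrArg (· ≫ snd _ _) e
  have ha0 : Red.gaFn a = 0 := hu.mul_right_eq_zero.1 (by
    rw [sub_mul, _root_.one_mul, sub_eq_zero]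
    conv_rhs => rw [← ea]
    exact (gaFn_gaPt _).symm)
  have hx' : x = t₀ ≫ jT := by
    rw [hx, show a ≫ jU = 1 by rw [← gaPt_gaFn a, ha0]; exact Cel.gaPt_zero_comp jU, _root_.mul_one]
  have ht : t₀ = 1 := (cancel_mono (jT ≫ f)).1 (by
    rw [MonObj.one_comp, ← Category.assoc, ← hx', hxf])
  rw [hx', ht, MonObj.one_comp]

end Aux

/-- Let G be an S-group scheme of finite presentation over S, T an S-torus, α : T ⟶ 𝔾_m a character
non-trivial on every geometric fibre, and P = T ⋉_α 𝔾_a, given as an S-group P with homomorphisms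
j_T : T ⟶ P, j_U : 𝔾_a ⟶ P such that (t, x) ↦ j_T(t) j_U(x) is an isomorphism of schemes T ×_S 𝔾_a ≅
P and j_T(t) j_U(x) j_T(t)⁻¹ = j_U(α(t) x). Let s₀ be a point of S and f : P ⟶ G a homomorphism
whose base change to the fibre at s₀ is a monomorphism and whose restriction j_T ∘ f to T is a
monomorphism. Then there is an open neighbourhood U of s₀ over which f is a monomorphism. -/
theorem result (S : Scheme.{u}) (G T P : Over S) [GrpObj G] [GrpObj T] [GrpObj P]
    [LocallyOfFinitePresentation G.hom] [QuasiCompact G.hom] [QuasiSeparated G.hom] (hT : Red.IsTorus T)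
    (α : T ⟶ Red.Gm S) [IsMonHom α] (hα : ∀ s : S, (Over.pullback (Red.geomPt s)).map α ≠ 1)
    (jT : T ⟶ P) [IsMonHom jT] (jU : Red.Ga S ⟶ P) [IsMonHom jU] (hiso : IsIso ((jT ⊗ₘ jU) ≫ μ[P]))
    (hconj : ∀ (X : Over S) (t : X ⟶ T) (x x' : X ⟶ Red.Ga S), Red.gaFn x' = Red.gmFn (t ≫ α) * Red.gaFn x →
      (t ≫ jT) * (x ≫ jU) * (t ≫ jT)⁻¹ = x' ≫ jU)
    (s₀ : S) (f : P ⟶ G) [IsMonHom f] [Mono ((Over.pullback (S.fromSpecResidueField s₀)).map f)] [Mono (jT ≫ f)] :
    ∃ U : S.Opens, s₀ ∈ U ∧ Mono ((Over.pullback U.ι).map f) := by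
  have := hiso
  have hM := DiagRig.multTypeFT_of_torus hT
  have := DiagRig.multType_locallyOfFiniteType T hM
  have := Aux.lft_Ga (S := S)
  have : LocallyOfFiniteType P.hom := by
    have : IsIso (inv ((jT ⊗ₘ jU) ≫ μ[P])).left :=
      inferInstanceAs (IsIso ((Over.forget _).map (inv ((jT ⊗ₘ jU) ≫ μ[P]))))
    have : LocallyOfFiniteType (T ⊗ Red.Ga S).hom := by
      show LocallyOfFiniteType (pullback.fst T.hom (Red.Ga S).hom ≫ T.hom)
      infer_instance
    rw [← Over.w (inv ((jT ⊗ₘ jU) ≫ μ[P]))]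
    infer_instance
  have hs : Mono ((Over.pullback (S.fromSpecResidueField s₀)).map f).left := inferInstance
  obtain ⟨-, W, hsW, hW⟩ := DiagRig.exists_open_trivial (DiagRig.kerOb f).hom (DiagRig.kerUnit f).left
    (DiagRig.kerUnit_w f) s₀ (fun L _ g hg X x y z hx hy => DiagRig.kernel_fibre_eq f s₀ hs L g hg X x y z hx hy)
  let U : S.Opens := (DiagRig.kerUnit f).left ⁻¹ᵁ W
  refine ⟨U, hsW, ⟨fun {Z} a b hab => ?_⟩⟩
  have key : ∀ c : Z ⟶ (Over.pullback U.ι).obj P, DiagRig.bcTr U.ι (c ≫ (Over.pullback U.ι).map f) =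
      DiagRig.bcTr U.ι c ≫ f := fun c =>
    (Over.mapPullbackAdj U.ι).homEquiv_naturality_right_symm c f
  have h1 := congrArg (DiagRig.bcTr U.ι) hab
  rw [key, key] at h1
  let d := DiagRig.bcTr U.ι a * (DiagRig.bcTr U.ι b)⁻¹
  obtain ⟨k, hk⟩ := DiagRig.exists_kerLift f d (by
    rw [MonObj.mul_comp, GrpObj.inv_comp, h1, mul_inv_cancel])
  have hrange : Set.range k.left.base ⊆ Set.range W.ι.base := by
    rintro _ ⟨z, rfl⟩
    rw [Scheme.Opens.range_ι]
    show k.left z ∈ W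
    have hz : (DiagRig.kerUnit f).left ((DiagRig.kerOb f).hom (k.left z)) ∈ W := by
      show (DiagRig.kerOb f).hom (k.left z) ∈ U
      rw [← Scheme.Hom.comp_apply, Over.w k]
      exact (Z.hom z).2
    rw [Aux.eq_unit hT α hα jT jU hconj f W hW (k.left z) hz]
    exact hz
  have hk1 : k.left ≫ (DiagRig.kerOb f).hom ≫ (DiagRig.kerUnit f).left = k.left := by
    rw [← IsOpenImmersion.lift_fac W.ι k.left hrange, Category.assoc, hW]
  have hd : d = 1 := by rw [← hk, DiagRig.eq_one_of_unit f k hk1]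
  have h2 := congrArg (DiagRig.bcUn U.ι) (mul_inv_eq_one.mp hd)
  rwa [DiagRig.bcUn_bcTr, DiagRig.bcUn_bcTr] at h2

end Groth.Agent.S8474
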