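import Groth.Statements.S8483
import Groth.Agent.RedPts.RankOne
-- import your own Groth.Agent.* helpers here

set_option autoImplicit false
universe u
open CategoryTheory MonoidalCategory CartesianMonoidalCategory MonObj GrpObj AlgebraicGeometry CategoryTheory.Limits
open Red

namespace Groth.Agent.S8483

open Groth.Agent.RedPts

lemma neg_inv_eq {S : Scheme.{u}} {X : Over S} (a : (Γ(X.left, ⊤))ˣ) (x x' : X ⟶ Red.Ga S)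
    (ha : (a : Γ(X.left, ⊤)) = Red.gaFn x) (hx : Red.gaFn x' * Red.gaFn x = -1) :
    -(↑a⁻¹ : Γ(X.left, ⊤)) = Red.gaFn x' := by
  apply a.isUnit.mul_right_cancel
  rw [neg_mul, Units.inv_mul, ha, hx]

lemma weyl_eq {S : Scheme.{u}} {G T : Over S} [GrpObj G] [GrpObj T] (D : Sys S G T) {X : Over S}
    (x x' : X ⟶ Red.Ga S) (hx : Red.gaFn x' * Red.gaFn x = -1) :
    ∃ a : (Γ(X.left, ⊤))ˣ, (a : Γ(X.left, ⊤)) = Red.gaFn x ∧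
      (x ≫ D.pp) * (x' ≫ D.pm) * (x ≫ D.pp) = (D.rk X).w a := by
  have hu : IsUnit (Red.gaFn x) := IsUnit.of_mul_eq_one (-Red.gaFn x') (by rw [mul_neg, _root_.mul_comm, hx, neg_neg])
  refine ⟨hu.unit, hu.unit_spec, ?_⟩
  rw [D.pp_eq, D.pm_eq, Rk1.w, neg_inv_eq hu.unit x x' hu.unit_spec hx, hu.unit_spec]


/-- Let G be a reductive S-group, i : T ⟶ G a maximal torus, α a character of T non-trivial on every
geometric fibre, p₊, p₋ : 𝔾_a ⟶ G monomorphisms of groups normalised by T with multipliers α and α⁻¹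
whose cell map (y, t, x) ↦ p₋(y) i(t) p₊(x) is an open immersion 𝔾_a ×_S T ×_S 𝔾_a ⟶ G, and α^* :
𝔾_m ⟶ T the coroot: α ∘ α^* is the squaring map and p₊(x) p₋(y) = p₋(y/(1+xy)) · i(α^*(1+xy)) ·
p₊(x/(1+xy)) whenever 1 + xy is invertible (so p₊ and p₋ are dual to each other). For points x, y of
𝔾_a with invertible coordinates put w(x) = p₊(x) p₋(-x⁻¹) p₊(x) and w₋(y) = p₋(y) p₊(-y⁻¹) p₋(y).
Then w₋(x⁻¹) = w(x)⁻¹ = w(-x), and w(x) w₋(y) = i(α^*(x y)). -/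
theorem result (S : Scheme.{u}) (G T : Over S) [GrpObj G] [GrpObj T] (i : T ⟶ G) [IsMonHom i] [Mono i] (hG : Red.IsReductive G) (hTm : Red.IsMaximalTorus i)
    (α : T ⟶ Red.Gm S) [IsMonHom α] (hα : ∀ s : S, (Over.pullback (Red.geomPt s)).map α ≠ 1)
    (pp pm : Red.Ga S ⟶ G) [IsMonHom pp] [Mono pp] [IsMonHom pm] [Mono pm]
    (hpp : ∀ (X : Over S) (t : X ⟶ T) (x : X ⟶ Red.Ga S), ∃ x' : X ⟶ Red.Ga S,
      x' ≫ pp = (t ≫ i) * (x ≫ pp) * (t ≫ i)⁻¹ ∧ Red.gaFn x' = Red.gmFn (t ≫ α) * Red.gaFn x)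
    (hpm : ∀ (X : Over S) (t : X ⟶ T) (y : X ⟶ Red.Ga S), ∃ y' : X ⟶ Red.Ga S,
      y' ≫ pm = (t ≫ i) * (y ≫ pm) * (t ≫ i)⁻¹ ∧ Red.gaFn y' * Red.gmFn (t ≫ α) = Red.gaFn y)
    (hΩ : IsOpenImmersion (((pm ⊗ₘ i) ⊗ₘ pp) ≫ (μ[G] ▷ G) ≫ μ[G]).left)
    (av : Red.Gm S ⟶ T) [IsMonHom av] (h2 : av ≫ α = (𝟙 (Red.Gm S)) ^ 2)
    (hF : ∀ (X : Over S) (x y : X ⟶ Red.Ga S), IsUnit (1 + Red.gaFn x * Red.gaFn y) →
      ∃ (x' y' : X ⟶ Red.Ga S) (z : X ⟶ Red.Gm S), Red.gmFn z = 1 + Red.gaFn x * Red.gaFn y ∧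
        Red.gaFn x' * Red.gmFn z = Red.gaFn x ∧ Red.gaFn y' * Red.gmFn z = Red.gaFn y ∧
        (x ≫ pp) * (y ≫ pm) = (y' ≫ pm) * (z ≫ av ≫ i) * (x' ≫ pp))
    (X : Over S) (x x' nx nx' y y' : X ⟶ Red.Ga S) (hx : Red.gaFn x' * Red.gaFn x = -1) (hnx : Red.gaFn nx = - Red.gaFn x)
    (hnx' : Red.gaFn nx' = - Red.gaFn x') (hy : Red.gaFn y' * Red.gaFn y = -1) (z : X ⟶ Red.Gm S)
    (hz : Red.gmFn z = Red.gaFn x * Red.gaFn y) :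
    (nx' ≫ pm) * (nx ≫ pp) * (nx' ≫ pm) = ((x ≫ pp) * (x' ≫ pm) * (x ≫ pp))⁻¹ ∧
      (nx ≫ pp) * (nx' ≫ pm) * (nx ≫ pp) = ((x ≫ pp) * (x' ≫ pm) * (x ≫ pp))⁻¹ ∧
      ((x ≫ pp) * (x' ≫ pm) * (x ≫ pp)) * ((y ≫ pm) * (y' ≫ pp) * (y ≫ pm)) = z ≫ av ≫ i := by
  let D : Groth.Agent.RedPts.Sys S G T := { i := i, α := α, av := av, pp := pp, pm := pm, hpp := hpp, hpm := hpm, h2 := h2, hF := hF }
  let R := D.rk X
  obtain ⟨a, ha, hw⟩ := weyl_eq D x x' hx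
  obtain ⟨b, hb, hw'⟩ := weyl_eq D y' y (by rw [_root_.mul_comm, hy])
  have hx' := neg_inv_eq a x x' ha hx
  have hy' := neg_inv_eq b y' y hb (by rw [_root_.mul_comm, hy])
  have hm : (↑(-a)⁻¹ : Γ(X.left, ⊤)) = -↑a⁻¹ := by rw [inv_neg, Units.val_neg]
  rw [show nx' ≫ pm = R.M (Red.gaFn nx') from D.pm_eq nx', show nx ≫ pp = R.P (Red.gaFn nx) from D.pp_eq nx,
    show y ≫ pm = R.M (Red.gaFn y) from D.pm_eq y, show y' ≫ pp = R.P (Red.gaFn y') from D.pp_eq y',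
    show (x ≫ pp) * (x' ≫ pm) * (x ≫ pp) = R.w a from hw, show z ≫ av ≫ i = R.h (gmU z) from D.avi_eq z,
    hnx, hnx', ← ha, ← hx', ← hy', ← hb, ← R.w_neg, R.braid (D.w_conj_self b)]
  have hb1 := R.braid (D.w_conj_self (-a))
  have hwn : R.w (-a) = R.P (-↑a) * R.M (- -↑a⁻¹) * R.P (-↑a) := by
    rw [Rk1.w, Units.val_neg, hm]
  rw [hm, Units.val_neg] at hb1
  refine ⟨hb1, hwn.symm, ?_⟩
  rw [R.w_mul_w]
  refine congrArg _ (Units.ext ?_)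
  rw [Units.val_neg, Units.val_mul, gmU_val, hz, ← ha, ← hy', mul_neg]

end Groth.Agent.S8483
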