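import Groth.Statements.S8487
import Groth.Agent.Cor85.Weyl

set_option autoImplicit false
universe u
open CategoryTheory MonoidalCategory CartesianMonoidalCategory MonObj GrpObj AlgebraicGeometry CategoryTheory.Limits
open Red

namespace Groth.Agent.S8487

open CategoryTheory MonoidalCategory CartesianMonoidalCategory MonObj GrpObj AlgebraicGeometry Limits
open Groth.Agent.RedPts

attribute [local instance] Sys.hi Sys.hα Sys.hav Sys.hp Sys.hm

/-- Let G be a reductive S-group, i : T ⟶ G a maximal torus, α a character of T non-trivial on every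
geometric fibre, p₊, p₋ : 𝔾_a ⟶ G monomorphisms of groups normalised by T with multipliers α and α⁻¹
whose cell map (y, t, x) ↦ p₋(y) i(t) p₊(x) is an open immersion 𝔾_a ×_S T ×_S 𝔾_a ⟶ G, and α^* :
𝔾_m ⟶ T the coroot: α ∘ α^* is the squaring map and p₊(x) p₋(y) = p₋(y/(1+xy)) · i(α^*(1+xy)) ·
p₊(x/(1+xy)) whenever 1 + xy is invertible (so p₊ and p₋ are dual to each other). Let n be a
non-zero integer and w an S-point of G such that w · i(α^*(z))^n · w⁻¹ = i(α^*(z))^{-n} for all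
points z of 𝔾_m (after base change). Then w is a point of N^× = Norm_G(T) − T: it normalises T, with
w i(t) w⁻¹ = i(α^*(α(t)))⁻¹ i(t) for all points t of T, and for no geometric point s̄ of S does
w(s̄) lie in T. (The published statement is an equivalence; this row states only this implication.) -/
theorem result (S : Scheme.{u}) (G T : Over S) [GrpObj G] [GrpObj T] (i : T ⟶ G) [IsMonHom i] [Mono i] (hG : Red.IsReductive G) (hTm : Red.IsMaximalTorus i)
    (α : T ⟶ Red.Gm S) [IsMonHom α] (hα : ∀ s : S, (Over.pullback (Red.geomPt s)).map α ≠ 1)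
    (pp pm : Red.Ga S ⟶ G) [IsMonHom pp] [Mono pp] [IsMonHom pm] [Mono pm]
    (hpp : ∀ (X : Over S) (t : X ⟶ T) (x : X ⟶ Red.Ga S), ∃ x' : X ⟶ Red.Ga S,
      x' ≫ pp = (t ≫ i) * (x ≫ pp) * (t ≫ i)⁻¹ ∧ Red.gaFn x' = Red.gmFn (t ≫ α) * Red.gaFn x)
    (hpm : ∀ (X : Over S) (t : X ⟶ T) (y : X ⟶ Red.Ga S), ∃ y' : X ⟶ Red.Ga S,
      y' ≫ pm = (t ≫ i) * (y ≫ pm) * (t ≫ i)⁻¹ ∧ Red.gaFn y' * Red.gmFn (t ≫ α) = Red.gaFn y)
    (hΩ : IsOpenImmersion (((pm ⊗ₘ i) ⊗ₘ pp) ≫ (μ[G] ▷ G) ≫ μ[G]).left)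
    (av : Red.Gm S ⟶ T) [IsMonHom av] (h2 : av ≫ α = (𝟙 (Red.Gm S)) ^ 2)
    (hF : ∀ (X : Over S) (x y : X ⟶ Red.Ga S), IsUnit (1 + Red.gaFn x * Red.gaFn y) →
      ∃ (x' y' : X ⟶ Red.Ga S) (z : X ⟶ Red.Gm S), Red.gmFn z = 1 + Red.gaFn x * Red.gaFn y ∧
        Red.gaFn x' * Red.gmFn z = Red.gaFn x ∧ Red.gaFn y' * Red.gmFn z = Red.gaFn y ∧
        (x ≫ pp) * (y ≫ pm) = (y' ≫ pm) * (z ≫ av ≫ i) * (x' ≫ pp))
    (n : ℤ) (hn : n ≠ 0) (w : 𝟙_ (Over S) ⟶ G)
    (hw : ∀ (X : Over S) (z : X ⟶ Red.Gm S),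
      (toUnit X ≫ w) * (((z ≫ av) ^ n) ≫ i) * (toUnit X ≫ w)⁻¹ = ((((z ≫ av) ^ n) ≫ i))⁻¹) :
    (∀ (X : Over S) (t : X ⟶ T), (toUnit X ≫ w) * (t ≫ i) * (toUnit X ≫ w)⁻¹ = (t ≫ α ≫ av ≫ i)⁻¹ * (t ≫ i)) ∧
      ∀ s : S, ¬ ∃ t : Over.mk (Red.geomPt s) ⟶ T, t ≫ i = toUnit (Over.mk (Red.geomPt s)) ≫ w := by
  let D : Groth.Agent.RedPts.Sys S G T := { i := i, α := α, av := av, pp := pp, pm := pm, hpp := hpp, hpm := hpm, h2 := h2, hF := hF }
  have : Mono D.i := ‹Mono i›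
  have : IsOpenImmersion (Groth.Agent.Cor85.cell D).left := hΩ
  have hT := hTm.2.2.1
  obtain ⟨t₀, ht₀⟩ := Groth.Agent.Cor85.exists_torus_of_inverts D hG hT n hn w hw
  refine ⟨fun X t => ?_, fun s => ?_⟩
  · have e1 : toUnit X ≫ w = (D.rk X).w 1 * (D.rk X).it (toUnit X ≫ t₀) := by
      rw [ht₀, MonObj.comp_mul, Groth.Agent.Cor85.toUnit_w, ← Category.assoc]; rfl
    rw [show t ≫ i = (D.rk X).it t from rfl, show t ≫ α ≫ av ≫ i = (D.rk X).h ((D.rk X).χ t) from D.αavi_eq t,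
      e1, ← (D.rk X).w_conj_it t 1]
    have hc : (D.rk X).it (toUnit X ≫ t₀) * (D.rk X).it t = (D.rk X).it t * (D.rk X).it (toUnit X ≫ t₀) := by
      rw [← map_mul, Groth.Agent.Cor85.torus_comm hT, map_mul]
    set A := (D.rk X).w 1
    set B := (D.rk X).it (toUnit X ≫ t₀)
    set C := (D.rk X).it t
    calc A * B * C * (A * B)⁻¹ = A * (B * C) * B⁻¹ * A⁻¹ := by group
      _ = A * (C * B) * B⁻¹ * A⁻¹ := by rw [hc]
      _ = A * C * A⁻¹ := by group
  · rintro ⟨t, ht⟩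
    classical
    let K := AlgebraicClosure (S.residueField s)
    let P : Over S := Over.mk (Red.geomPt s)
    obtain ⟨r, hr⟩ := Infinite.exists_notMem_finset
      (insert (0 : K) (Polynomial.nthRoots (4 * n.natAbs) (1 : K)).toFinset)
    rw [Finset.mem_insert, not_or, Multiset.mem_toFinset,
      Polynomial.mem_nthRoots (by positivity [Int.natAbs_pos.2 hn])] at hr
    let u : (Γ(P.left, ⊤))ˣ := Units.map (Scheme.ΓSpecIso (CommRingCat.of K)).inv.hom.toMonoidHom (Units.mk0 r hr.1)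
    have hgu : gmU (gmPt (S := S) (X := P) u) = u := Units.ext (gmFn_gmPt (X := P) u)
    have e := hw P (gmPt u)
    rw [← ht, show ((gmPt u ≫ av) ^ n) ≫ i = (D.rk P).h (gmU (gmPt (S := S) (X := P) u) ^ n) from
      Groth.Agent.Cor85.coroot_zpow_eq D _ n, hgu, show t ≫ i = (D.rk P).it t from rfl, Rk1.h_apply, ← map_inv,
      ← map_mul, ← map_inv, ← map_mul] at e
    have einj : Function.Injective (D.rk P).it := fun a b h => (cancel_mono i).1 h
    have e2 := einj e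
    rw [Groth.Agent.Cor85.torus_comm hT t, mul_inv_cancel_right] at e2
    have e3 := congrArg (D.rk P).χ e2
    rw [map_inv, (D.rk P).χav, ← mul_eq_one_iff_eq_inv, ← pow_add, ← zpow_natCast, ← zpow_mul, ← map_zpow,
      ← map_one (Units.map (Scheme.ΓSpecIso (CommRingCat.of K)).inv.hom.toMonoidHom)] at e3
    have hinj : Function.Injective (Scheme.ΓSpecIso (CommRingCat.of K)).inv.hom :=
      (ConcreteCategory.bijective_of_isIso (Scheme.ΓSpecIso (CommRingCat.of K)).inv).1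
    have e4 := congrArg (Units.val) (Units.map_injective hinj e3)
    rw [Units.val_zpow_eq_zpow_val, Units.val_mk0, Units.val_one] at e4
    rcases Int.natAbs_eq n with h | h
    · rw [h, show (n.natAbs : ℤ) * ((2 + 2 : ℕ) : ℤ) = ((4 * n.natAbs : ℕ) : ℤ) by push_cast; ring, zpow_natCast] at e4
      exact hr.2 e4
    · rw [h, show -(n.natAbs : ℤ) * ((2 + 2 : ℕ) : ℤ) = -((4 * n.natAbs : ℕ) : ℤ) by push_cast; ring, zpow_neg,
        zpow_natCast, inv_eq_one] at e4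
      exact hr.2 e4

end Groth.Agent.S8487
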