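import Groth.Statements.S8489
import Groth.Agent.Cor85.WtdMake

set_option autoImplicit false
universe u
open CategoryTheory MonoidalCategory CartesianMonoidalCategory MonObj GrpObj AlgebraicGeometry CategoryTheory.Limits
open Red

namespace Groth.Agent.S8489
attribute [-instance] Groth.Agent.GrpArtin.grpObjBC CategoryTheory.Hom.commGroup
open Groth.Agent.RedPts

/-- At the level of root homomorphisms. Let G be a reductive S-group, i : T ⟶ G a maximal torus, α a
character of T non-trivial on every geometric fibre, and p₊, p₋ : 𝔾_a ⟶ G monomorphisms of groups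
normalised by T with multipliers α and α⁻¹ such that 𝔾_a ×_S T ×_S 𝔾_a ⟶ G, (y, t, x) ↦ p₋(y) i(t)
p₊(x), is an open immersion (a rank-one system: G has semisimple rank 1 and p₊, p₋ trivialise the
root groups of α and -α). Then every monomorphism of groups p : 𝔾_a ⟶ G normalised by T with
multiplier α is a rescaling of p₊ by a unit: there is exactly one S-point c of 𝔾_m with p(x) = p₊(c
x) for all points x of 𝔾_a. (The published statement is a bijection between the nowhere-vanishing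
sections of the root line bundle and such monomorphisms; this row states it after fixing p₊.) -/
theorem result (S : Scheme.{u}) (G T : Over S) [GrpObj G] [GrpObj T] (i : T ⟶ G) [IsMonHom i] [Mono i] (hG : Red.IsReductive G) (hTm : Red.IsMaximalTorus i)
    (α : T ⟶ Red.Gm S) [IsMonHom α] (hα : ∀ s : S, (Over.pullback (Red.geomPt s)).map α ≠ 1)
    (pp pm : Red.Ga S ⟶ G) [IsMonHom pp] [Mono pp] [IsMonHom pm] [Mono pm]
    (hpp : ∀ (X : Over S) (t : X ⟶ T) (x : X ⟶ Red.Ga S), ∃ x' : X ⟶ Red.Ga S,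
      x' ≫ pp = (t ≫ i) * (x ≫ pp) * (t ≫ i)⁻¹ ∧ Red.gaFn x' = Red.gmFn (t ≫ α) * Red.gaFn x)
    (hpm : ∀ (X : Over S) (t : X ⟶ T) (y : X ⟶ Red.Ga S), ∃ y' : X ⟶ Red.Ga S,
      y' ≫ pm = (t ≫ i) * (y ≫ pm) * (t ≫ i)⁻¹ ∧ Red.gaFn y' * Red.gmFn (t ≫ α) = Red.gaFn y)
    (hΩ : IsOpenImmersion (((pm ⊗ₘ i) ⊗ₘ pp) ≫ (μ[G] ▷ G) ≫ μ[G]).left)
    (p : Red.Ga S ⟶ G) [IsMonHom p] [Mono p]
    (hp : ∀ (X : Over S) (t : X ⟶ T) (x : X ⟶ Red.Ga S), ∃ x' : X ⟶ Red.Ga S,
      x' ≫ p = (t ≫ i) * (x ≫ p) * (t ≫ i)⁻¹ ∧ Red.gaFn x' = Red.gmFn (t ≫ α) * Red.gaFn x) :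
    ∃! c : 𝟙_ (Over S) ⟶ Red.Gm S, ∀ (X : Over S) (x y : X ⟶ Red.Ga S),
      Red.gaFn y = Red.gmFn (toUnit X ≫ c) * Red.gaFn x → x ≫ p = y ≫ pp := by
  have hT : Red.IsTorus T := hTm.2.2.1
  let C : Cor85.Weight.Cel S G T := @Cor85.Weight.Cel.mk S G T _ _ i α pp pm inferInstance inferInstance inferInstance inferInstance hpp hpm hT hΩ
  have w : Cor85.Weight.Wtd C T (𝟙 T) 1 p := by
    refine Cor85.Weight.wtd_of_torus C hT (𝟙 T) (fun s => by rw [Category.id_comp]; exact hα s) 1 p ?_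
    intro X t x x' hx
    rw [Category.id_comp] at hx ⊢
    rw [pow_one]
    obtain ⟨z, hz1, hz2⟩ := hp X t x
    rw [ga_injective (hx.trans hz2.symm)]
    exact hz1
  obtain ⟨ν, hν, huniq⟩ := Cor85.Weight.exists_unique_coeff w
  have hunit : IsUnit (Red.gaFn ν) := by
    suffices key : ∀ s : S, s ∈ S.basicOpen (Red.gaFn ν : Γ(S, ⊤)) from
      RingedSpace.isUnit_of_isUnit_germ (𝟙_ (Over S)).left.toRingedSpace ⊤ _ fun s hs =>
        (RingedSpace.mem_basicOpen (𝟙_ (Over S)).left.toRingedSpace _ s hs).1 (key s)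
    intro s
    let K := AlgebraicClosure (S.residueField s)
    let b : Spec (CommRingCat.of K) ⟶ S := Red.geomPt s
    let X : Over S := Over.mk b
    obtain ⟨k, hk⟩ := (Cor85.Weight.fn_bijective (CommRingCat.of K)).2 ((toUnit X).left.appTop (Red.gaFn ν))
    have hk0 : k ≠ 0 := by
      rintro rfl
      rw [map_zero] at hk
      have e : (gaPt (1 : Γ(X.left, ⊤)) : X ⟶ Red.Ga S) ≫ p = (gaPt (0 : Γ(X.left, ⊤)) : X ⟶ Red.Ga S) ≫ pp :=
        hν X _ _ (by rw [gaFn_gaPt, gaFn_gaPt, ga_comp, ← hk, one_pow, _root_.mul_one])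
      rw [Cor85.Weight.Cel.gaPt_zero_comp, ← Cor85.Weight.Cel.gaPt_zero_comp (X := X) p] at e
      have e1 := congrArg Red.gaFn ((cancel_mono p).1 e)
      rw [gaFn_gaPt, gaFn_gaPt] at e1
      exact one_ne_zero ((Cor85.Weight.fn_bijective (CommRingCat.of K)).1 (((map_one _).trans e1).trans (map_zero _).symm))
    have hu : IsUnit ((toUnit X).left.appTop (Red.gaFn ν)) := hk ▸ (isUnit_iff_ne_zero.2 hk0).map _
    have hmem : IsLocalRing.closedPoint K ∈ (toUnit X).left ⁻¹ᵁ (𝟙_ (Over S)).left.basicOpen (Red.gaFn ν) := by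
      erw [Scheme.preimage_basicOpen, Scheme.basicOpen_of_isUnit _ hu]; trivial
    have hpt : (toUnit X).left (IsLocalRing.closedPoint K) = s := by
      show b (IsLocalRing.closedPoint K) = s
      have key : ∀ {Z : Scheme.{u}} (h : Z ⟶ Spec (S.residueField s)) (z : Z),
          (h ≫ S.fromSpecResidueField s) z = s := fun h z => by
        rw [Scheme.Hom.comp_apply]; exact Scheme.fromSpecResidueField_apply s _
      exact key (Spec.map (CommRingCat.ofHom (algebraMap (S.residueField s) K))) _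
    exact hpt ▸ hmem
  refine ⟨gmPt hunit.unit, fun X x y hy => hν X x y ?_, fun c hc => ?_⟩
  · rw [hy, gm_comp, gmFn_gmPt, ga_comp, pow_one]
    rfl
  · have e := huniq (gaPt (Red.gmFn c)) fun X x y hy => hc X x y (by
      rw [hy, ga_comp, gaFn_gaPt, pow_one, gm_comp])
    apply gm_injective
    rw [gmFn_gmPt, IsUnit.unit_spec, ← e, gaFn_gaPt]

end Groth.Agent.S8489
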