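import Groth.Statements.S8496
import Groth.Agent.FlatMor.FibMapCrit
import Groth.Agent.GrpScheme.FibreFlat
import Mathlib.AlgebraicGeometry.Morphisms.LocalFlatDescent
import Groth.Agent.DiagRig.FreeAction

set_option autoImplicit false
open CategoryTheory MonoidalCategory CartesianMonoidalCategory MonObj GrpObj AlgebraicGeometry
universe u
open Par

namespace Groth.Agent.S8496

open CategoryTheory MonoidalCategory CartesianMonoidalCategory MonObj GrpObj AlgebraicGeometry Limits

namespace Aux

theorem respectsIso_smooth : MorphismProperty.RespectsIso @AlgebraicGeometry.Smooth.{u} :=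
  MorphismProperty.IsStableUnderBaseChange.respectsIso

attribute [local instance] respectsIso_smooth

theorem smooth_of_cover {X Y S S' : Scheme.{u}} (f : X ⟶ Y) (h : Y ⟶ S) (g : S' ⟶ S) [Surjective g]
    (hf : Smooth (pullback.snd f (pullback.fst h g))) (s : S) : Smooth (pullback.snd f (h.fiberι s)) := by
  obtain ⟨s', rfl⟩ := g.surjective s
  let φ : Spec (S'.residueField s') ⟶ Spec (S.residueField (g s')) := Spec.map (g.residueFieldMap s')
  have hφ : φ ≫ S.fromSpecResidueField (g s') = S'.fromSpecResidueField s' ≫ g :=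
    Scheme.Hom.SpecMap_residueFieldMap_fromSpecResidueField g s'
  let Yk := pullback (h.fiberToSpecResidueField (g s')) φ
  let b : Yk ⟶ h.fiber (g s') := pullback.fst _ φ
  let a : Yk ⟶ pullback h g :=
    pullback.lift (b ≫ h.fiberι (g s')) (pullback.snd _ φ ≫ S'.fromSpecResidueField s') (by
      rw [Category.assoc, Category.assoc, ← hφ,
        show h.fiberι (g s') ≫ h = h.fiberToSpecResidueField (g s') ≫ S.fromSpecResidueField (g s') from pullback.condition,
        ← Category.assoc b, show b ≫ h.fiberToSpecResidueField (g s') = pullback.snd _ φ ≫ φ from pullback.condition,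
        Category.assoc])
  have h1 : Smooth (pullback.snd f (a ≫ pullback.fst h g)) := by
    refine (MorphismProperty.cancel_left_of_respectsIso @Smooth.{u} (pullbackLeftPullbackSndIso f (pullback.fst h g) a).hom _).mp ?_
    rw [pullbackLeftPullbackSndIso_hom_snd]
    exact MorphismProperty.IsStableUnderBaseChange.of_isPullback (IsPullback.of_hasPullback _ _) hf
  rw [show a ≫ pullback.fst h g = b ≫ h.fiberι (g s') from pullback.lift_fst _ _ _] at h1
  have h2 : Smooth (pullback.snd (pullback.snd f (h.fiberι (g s'))) b) := by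
    rw [← pullbackLeftPullbackSndIso_hom_snd f (h.fiberι (g s')) b]
    exact (MorphismProperty.cancel_left_of_respectsIso @Smooth.{u} _ _).mpr h1
  have hb : (@Surjective ⊓ @Flat ⊓ @QuasiCompact : MorphismProperty Scheme.{u}) b := by
    have : Surjective φ := ⟨fun x => ⟨(default : PrimeSpectrum (S'.residueField s')), Subsingleton.elim (α := PrimeSpectrum (S.residueField (g s'))) _ _⟩⟩
    have : Flat φ := by
      rw [show φ = Spec.map (g.residueFieldMap s') from rfl, HasRingHomProperty.Spec_iff (P := @Flat)]
      letI := (g.residueFieldMap s').hom.toAlgebra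
      exact (inferInstance : Module.Flat (S.residueField (g s')) (S'.residueField s'))
    exact ⟨⟨inferInstance, inferInstance⟩, inferInstance⟩
  exact MorphismProperty.of_pullback_snd_of_descendsAlong (P := @Smooth.{u})
    (Q := @Surjective ⊓ @Flat ⊓ @QuasiCompact) hb h2

end Aux

/-- Transversal position of a pair of parabolic subgroups is read here as smoothness of the
multiplication morphism P ×_S Q ⟶ G (one of its equivalent characterisations). Let G be a reductive
S-group and P, Q parabolic subgroups. Then (P, Q) is in transversal position if and only if (P_s,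
Q_s) is for every point s of S; and if (P_{S'}, Q_{S'}) is in transversal position for some
surjective S' ⟶ S then so is (P, Q). -/
theorem result {S : Scheme.{u}} {G P Q : Over S} [GrpObj G] [GrpObj P]
    [GrpObj Q] (hG : Red.IsReductive G) (p : P ⟶ G) (q : Q ⟶ G) (hP : Red.IsParabolic p) (hQ : Red.IsParabolic q) :
    (Smooth ((p ⊗ₘ q) ≫ μ[G]).left ↔
      ∀ s : S, Smooth ((Over.pullback (S.fromSpecResidueField s)).map ((p ⊗ₘ q) ≫ μ[G])).left) ∧
    ∀ (S' : Scheme.{u}) (g : S' ⟶ S), Surjective g →
      Smooth ((Over.pullback g).map ((p ⊗ₘ q) ≫ μ[G])).left → Smooth ((p ⊗ₘ q) ≫ μ[G]).left := by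
  have := Aux.respectsIso_smooth.{u}
  have := hP.2.2.1
  have := hQ.2.2.1
  have := hG.2.1
  have : Flat (P ⊗ Q).hom := inferInstanceAs (Flat (pullback.fst P.hom Q.hom ≫ P.hom))
  have : LocallyOfFinitePresentation (P ⊗ Q).hom :=
    inferInstanceAs (LocallyOfFinitePresentation (pullback.fst P.hom Q.hom ≫ P.hom))
  have key := Groth.Agent.FlatMor.FibMap.smooth_iff (Over.w ((p ⊗ₘ q) ≫ μ[G]))
  refine ⟨key.trans (forall_congr' fun s =>
    (Groth.Agent.GrpScheme.FibreFlat.pullback_map_mem_iff ((p ⊗ₘ q) ≫ μ[G]) s @Smooth.{u}).symm), ?_⟩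
  intro S' g hg hsm
  refine key.2 fun s => Aux.smooth_of_cover _ _ g ?_ s
  have sq := Groth.Agent.DiagRig.isPullback_bcMap g ((p ⊗ₘ q) ≫ μ[G])
  rw [← sq.isoPullback_hom_snd] at hsm
  exact (MorphismProperty.cancel_left_of_respectsIso @Smooth.{u} _ _).mp hsm

end Groth.Agent.S8496
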