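import Groth.Statements.S8509
import Groth.Agent.GrpScheme.SepPoint
import Groth.Agent.GrpScheme.Basic
import Groth.Agent.NeronMap.Sections
import Groth.Agent.MultType.HenselSep
import Mathlib.AlgebraicGeometry.Morphisms.LocalFlatDescent
import Mathlib.FieldTheory.IsSepClosed

set_option autoImplicit false
open CategoryTheory MonoidalCategory CartesianMonoidalCategory MonObj GrpObj AlgebraicGeometry
universe u
open RedSub

namespace Groth.Agent.S8509

open Limits in
/-- A surjective smooth scheme over a henselian local ring has a point in a finite étale local extension. -/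
theorem exists_etale_point (A : Type u) [CommRing A] [HenselianLocalRing A] {X : Scheme.{u}}
    (f : X ⟶ Spec (CommRingCat.of A)) [Smooth f] [Surjective f] :
    ∃ (S' : Scheme.{u}) (g : S' ⟶ Spec (CommRingCat.of A)), IsFinite g ∧ Etale g ∧ Surjective g ∧
      ∃ x : S' ⟶ X, x ≫ f = g := by
  let k := IsLocalRing.ResidueField A
  let K := SeparableClosure k
  let ρ : A →+* K := (algebraMap k K).comp (IsLocalRing.residue A)
  let r := Spec.map (CommRingCat.ofHom ρ)
  have : Nonempty ↥(pullback f r) :=
    ⟨((pullback.snd f r).surjective (IsLocalRing.closedPoint K)).choose⟩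
  obtain ⟨s₀, hs₀⟩ := GrpScheme.SepPoint.exists_point (pullback.snd f r)
  let s := s₀ ≫ pullback.fst f r
  have hs : s ≫ f = r := by simp [s, pullback.condition, reassoc_of% hs₀]
  obtain ⟨_, ⟨V, hV, rfl⟩, hmem, -⟩ := X.isBasis_affineOpens.exists_subset_of_mem_open
    (Set.mem_univ (s.base (IsLocalRing.closedPoint K))) isOpen_univ
  obtain ⟨ψ, hψs⟩ := NeronMap.Sections.exists_ringHom hV s (by
    rintro _ ⟨p, rfl⟩
    rwa [Subsingleton.elim p (IsLocalRing.closedPoint K)])
  let φ : A →+* Γ(X, V) := (f.appLE ⊤ V le_top).hom.comp (Scheme.ΓSpecIso (CommRingCat.of A)).inv.hom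
  letI := φ.toAlgebra
  have : Algebra.Smooth A Γ(X, V) := NeronMap.Sections.algebra_smooth f hV
  have hψ : ψ.comp φ = ρ := by
    rw [← hψs, Category.assoc, NeronMap.Sections.point_comp f hV ψ] at hs
    exact congrArg CommRingCat.Hom.hom (Spec.map_injective hs)
  obtain ⟨t, ht⟩ := (Algebra.FiniteType.out : (⊤ : Subalgebra A Γ(X, V)).FG)
  let k' : IntermediateField k K := IntermediateField.adjoin k (ψ '' (t : Set Γ(X, V)))
  have hsep : Algebra.IsSeparable k K := inferInstance
  have : Finite (ψ '' (t : Set Γ(X, V))) := (t.finite_toSet.image ψ).to_subtype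
  have : FiniteDimensional k k' :=
    IntermediateField.finiteDimensional_adjoin fun y _ => (Algebra.IsSeparable.isSeparable k y).isIntegral
  have hmem : ∀ y, ψ y ∈ k' := by
    intro y
    have hy : y ∈ Algebra.adjoin A (t : Set Γ(X, V)) := by rw [ht]; trivial
    induction hy using Algebra.adjoin_induction with
    | mem x hx => exact IntermediateField.subset_adjoin k _ ⟨x, hx, rfl⟩
    | algebraMap a =>
      rw [show ψ (algebraMap A Γ(X, V) a) = ρ a from RingHom.congr_fun hψ a]
      exact k'.algebraMap_mem _
    | add x y _ _ hx hy => rw [map_add]; exact k'.add_mem hx hy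
    | mul x y _ _ hx hy => rw [map_mul]; exact k'.mul_mem hx hy
  let ψ' : Γ(X, V) →+* k' := ψ.codRestrict k'.toSubalgebra.toSubsemiring hmem
  have : Algebra.IsSeparable k k' := Algebra.isSeparable_tower_bot_of_isSeparable k k' K
  letI : Algebra A k' := ((algebraMap k k').comp (IsLocalRing.residue A)).toAlgebra
  have : IsScalarTower A k k' := IsScalarTower.of_algebraMap_eq fun _ => rfl
  obtain ⟨R', _, _, _, σ, het, hfin, hff, hσ, hker, hmax⟩ := MultType.HenselSep.exists_lift A k'
  have := MultType.HenselSep.henselianLocalRing (R := A) hmax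
  let a := CommRingCat.ofHom (algebraMap A R')
  let g : Spec (CommRingCat.of R') ⟶ Spec (CommRingCat.of A) := Spec.map a
  have : Smooth (pullback.snd f g) := inferInstance
  let e : k' →+* IsLocalRing.ResidueField R' :=
    ((Ideal.quotEquivOfEq hker.symm).trans (RingHom.quotientKerEquivOfSurjective hσ)).symm.toRingHom
  have he : ∀ y, e (σ y) = IsLocalRing.residue R' y := fun y => by
    have : ((Ideal.quotEquivOfEq hker.symm).trans (RingHom.quotientKerEquivOfSurjective hσ))
        (IsLocalRing.residue R' y) = σ y := rfl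
    exact (RingEquiv.symm_apply_eq _).mpr this.symm
  let s' : Spec (CommRingCat.of (IsLocalRing.ResidueField R')) ⟶ X :=
    Spec.map (CommRingCat.ofHom (e.comp ψ')) ≫ hV.fromSpec
  have hs' : s' ≫ f = Spec.map (CommRingCat.ofHom (IsLocalRing.residue R')) ≫ g := by
    rw [Category.assoc, NeronMap.Sections.point_comp f hV, ← Spec.map_comp]
    congr 1
    ext x
    show e (ψ' (φ x)) = IsLocalRing.residue R' (algebraMap A R' x)
    rw [← he, σ.commutes]
    congr 1
    exact Subtype.ext (RingHom.congr_fun hψ x)
  obtain ⟨x, hx, -⟩ := NeronMap.Sections.exists_lift (pullback.snd f g) (pullback.lift s' _ hs')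
    (pullback.lift_snd _ _ _)
  refine ⟨_, g, ?_, ?_, ?_, x ≫ pullback.fst f g, ?_⟩
  · exact (IsFinite.SpecMap_iff a).mpr (RingHom.finite_algebraMap.mpr hfin)
  · exact HasRingHomProperty.Spec_iff.mpr (RingHom.etale_algebraMap.mpr het)
  · exact ⟨PrimeSpectrum.comap_surjective_of_faithfullyFlat⟩
  · rw [Category.assoc, pullback.condition, reassoc_of% hx]

/-- Let A be a henselian local ring, S = Spec A, and G an S-group scheme which is smooth and affine over
S. Then every torsor P under G (a representable principal homogeneous bundle) is isotrivial: there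
is a finite etale surjective morphism S' ⟶ S such that P_{S'} has a section. (The published
statement asks only that every finite set of points of G lie in an affine open; this row takes G
affine over S.) -/
theorem result (A : Type u) [CommRing A] [HenselianLocalRing A]
    {G P : Over (Spec (CommRingCat.of A))} [GrpObj G] [Smooth G.hom] [IsAffineHom G.hom] (a : AlgGrp.Action G P)
    (ha : RedSub.IsTorsor a) :
    ∃ (S' : Scheme.{u}) (f : S' ⟶ Spec (CommRingCat.of A)), IsFinite f ∧ Etale f ∧ Surjective f ∧
      RedSub.HasSection (Red.bc f P) := by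
  obtain ⟨hsurj, hflat, hlfp, hiso⟩ := ha
  have hsm : Smooth (snd P P).left := by
    have : IsIso (lift a.act (snd G P)).left := GrpScheme.Basic.isIso_left _
    have h : (lift a.act (snd G P)).left ≫ (snd P P).left = (snd G P).left := by
      rw [← Over.comp_left, lift_snd]
    exact (MorphismProperty.cancel_left_of_respectsIso @Smooth _ _).mp
      (h.symm ▸ GrpScheme.Basic.snd_left_mem @Smooth ‹_›)
  obtain ⟨p₀, hp₀⟩ := P.hom.surjective (IsLocalRing.closedPoint A)
  obtain ⟨_, ⟨W, hW, rfl⟩, hmem, -⟩ :=
    P.left.isBasis_affineOpens.exists_subset_of_mem_open (Set.mem_univ p₀) isOpen_univ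
  let w := Scheme.Opens.ι (W : P.left.Opens) ≫ P.hom
  have : IsAffine (Scheme.Opens.toScheme (W : P.left.Opens)) := hW
  have : Surjective w := ⟨fun y => by
    refine (IsLocalRing.specializes_closedPoint y).mem_open w.isOpenMap.isOpen_range ?_
    exact ⟨⟨p₀, hmem⟩, hp₀⟩⟩
  have hsmW : Smooth (Limits.pullback.snd P.hom w) := by
    have H : IsPullback (Limits.pullback.fst P.hom w)
        (Limits.pullback.snd P.hom w) P.hom w := IsPullback.of_hasPullback _ _
    let m : Limits.pullback P.hom w ⟶ (P ⊗ P).left :=
      Limits.pullback.lift (Limits.pullback.fst P.hom w) (Limits.pullback.snd P.hom w ≫ Scheme.Opens.ι (W : P.left.Opens))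
        (by rw [Limits.pullback.condition, Category.assoc])
    have hm : IsPullback m (Limits.pullback.snd P.hom w) (snd P P).left (Scheme.Opens.ι (W : P.left.Opens)) := by
      refine IsPullback.of_right ?_ (Limits.pullback.lift_snd _ _ _) (IsPullback.of_hasPullback P.hom P.hom)
      rw [Limits.pullback.lift_fst]
      exact H
    exact MorphismProperty.of_isPullback hm hsm
  have : Smooth P.hom := MorphismProperty.of_pullback_snd_of_descendsAlong
    (Q := @Surjective ⊓ @Flat ⊓ @QuasiCompact) (g := w) ⟨⟨inferInstance, inferInstance⟩, inferInstance⟩ hsmW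
  obtain ⟨S', g, h₁, h₂, h₃, x, hx⟩ := exists_etale_point A P.hom
  exact ⟨S', g, h₁, h₂, h₃, ⟨Over.homMk (Limits.pullback.lift x (𝟙 S') (hx.trans (Category.id_comp g).symm))
    (Limits.pullback.lift_snd _ _ _)⟩⟩

end Groth.Agent.S8509
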