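import Groth.Statements.S8513
-- import your own Groth.Agent.* helpers here

set_option autoImplicit false
open CategoryTheory MonoidalCategory CartesianMonoidalCategory MonObj GrpObj AlgebraicGeometry
universe u
open Par

namespace Groth.Agent.S8513

/-- Let G be a reductive S-group and P, Q two parabolic subgroups of G in transversal position (the
multiplication morphism P ×_S Q ⟶ G is smooth). Then P ∩ Q (a fibre product of P and Q over G) is
smooth over S. -/
theorem result {S : Scheme.{u}} {G P Q I : Over S} [GrpObj G] [GrpObj P] [GrpObj Q]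
    (hG : Red.IsReductive G) (p : P ⟶ G) (q : Q ⟶ G) (hP : Red.IsParabolic p) (hQ : Red.IsParabolic q)
    (htr : Smooth ((p ⊗ₘ q) ≫ μ[G]).left) (m : I ⟶ P) (m' : I ⟶ Q) (hI : IsPullback m m' p q) :
    Smooth I.hom := by
  haveI : IsMonHom p := hP.1
  haveI : IsMonHom q := hQ.1
  have hprod : ∀ {T : Over S} (a : T ⟶ P) (b : T ⟶ Q),
      lift a b ≫ (p ⊗ₘ q) ≫ μ[G] = (a ≫ p) * (b ≫ q) := fun a b => by
    rw [lift_map_assoc]; rfl
  have hone : ∀ (T : Over S), (1 : T ⟶ G) = toUnit T ≫ η[G] := fun T => rfl
  have h : IsPullback (lift m m'⁻¹) (toUnit I) ((p ⊗ₘ q) ≫ μ[G]) η[G] := by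
    refine IsPullback.of_isLimit' ⟨?_⟩ (Limits.PullbackCone.IsLimit.mk _
      (fun s => hI.lift (s.fst ≫ fst P Q) (s.fst ≫ snd P Q)⁻¹ ?_) ?_ ?_ ?_)
    · rw [hprod, ← hone, GrpObj.inv_comp, hI.w, mul_inv_cancel]
    · have := s.condition
      rw [← lift_comp_fst_snd s.fst, hprod, toUnit_unique s.snd (toUnit _), ← hone] at this
      rw [GrpObj.inv_comp]
      exact eq_inv_of_mul_eq_one_left this
    · intro s
      apply hom_ext
      · simp
      · simp [GrpObj.comp_inv]
    · intro s; exact toUnit_unique _ _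
    · intro s k hk _
      apply hI.hom_ext
      · rw [IsPullback.lift_fst, ← hk]; simp
      · rw [IsPullback.lift_snd, ← hk]; simp [GrpObj.comp_inv]
  have h' := h.map (Over.forget S)
  have hs : Smooth (toUnit I).left := MorphismProperty.of_isPullback (P := @Smooth) h' htr
  have e : (toUnit I).left = I.hom := by
    have := Over.w (toUnit I)
    simpa using this
  rwa [← e]

end Groth.Agent.S8513
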