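import Groth.Statements.S8517
import Groth.Agent.RootWord.Reflect
-- import your own Groth.Agent.* helpers here

set_option autoImplicit false
open CategoryTheory MonoidalCategory CartesianMonoidalCategory MonObj GrpObj AlgebraicGeometry
universe u
open RedSub

namespace Groth.Agent.S8517

/-- Let R be the set of roots of a root pairing over ℤ with finitely many roots, and R₁, R₂ two closed
subsets of R (if a, b ∈ Rᵢ and root a + root b is a root c then c ∈ Rᵢ), each containing a system of
positive roots (the positive roots of some base). If R₁ ∪ R₂ = R, then R₁ ∩ (−R₂) (the roots of R₁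
whose negative is a root in R₂) contains a system of positive roots. -/
theorem result {idx M N : Type} [Finite idx] [AddCommGroup M] [AddCommGroup N] (P : RootPairing idx ℤ M N) (R₁ R₂ : Set idx)
    (h₁ : ∀ a b c : idx, a ∈ R₁ → b ∈ R₁ → P.root a + P.root b = P.root c → c ∈ R₁)
    (h₂ : ∀ a b c : idx, a ∈ R₂ → b ∈ R₂ → P.root a + P.root b = P.root c → c ∈ R₂)
    (hb₁ : ∃ b : P.Base, RedSub.posRoots P b ⊆ R₁) (hb₂ : ∃ b : P.Base, RedSub.posRoots P b ⊆ R₂)
    (hunion : R₁ ∪ R₂ = Set.univ) :
    ∃ b : P.Base, RedSub.posRoots P b ⊆ {a | a ∈ R₁ ∧ ∃ c ∈ R₂, P.root a = -P.root c} := by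
  classical
  obtain ⟨b₂, hb₂⟩ := hb₂
  open Groth.Agent.RootWord.Basic in
  suffices key : ∀ n, ∀ b : P.Base, RedSub.posRoots P b ⊆ R₁ →
      Set.ncard {a | a ∈ RedSub.posRoots P b ∧ P.reflectionPerm a a ∉ R₂} = n →
      ∃ b : P.Base, RedSub.posRoots P b ⊆ {a | a ∈ R₁ ∧ ∃ c ∈ R₂, P.root a = -P.root c} by
    obtain ⟨b, hb⟩ := hb₁
    exact key _ b hb rfl
  intro n
  induction n using Nat.strong_induction_on with
  | _ n ih =>
  intro b hb hn
  have := Groth.Agent.RootWord.Reflect.isReduced_of_base b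
  by_cases hall : ∀ j ∈ b.support, P.reflectionPerm j j ∈ R₂
  · refine ⟨b, fun a ha => ⟨hb ha, P.reflectionPerm a a, ?_, by
      rw [P.root_reflectionPerm, P.reflection_apply_self, neg_neg]⟩⟩
    apply ((Groth.Agent.RootWord.Basic.mem_posRoots_iff b a).mp ha).induction_on_add (p := fun a =>
      P.reflectionPerm a a ∈ R₂) hall
    intro x y z hz hx hy
    refine h₂ _ _ _ hx (hall y hy) ?_
    simp only [P.root_reflectionPerm, P.reflection_apply_self]
    rw [hz]
    abel
  push Not at hall
  obtain ⟨j, hj, hjn⟩ := hall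
  have hneg1 : P.reflectionPerm j j ∈ R₁ := by
    have : P.reflectionPerm j j ∈ R₁ ∪ R₂ := hunion ▸ Set.mem_univ _
    exact this.resolve_right hjn
  have hj2 : j ∈ R₂ := by
    by_cases h : b₂.IsPos j
    · exact hb₂ ((Groth.Agent.RootWord.Basic.mem_posRoots_iff b₂ j).mpr h)
    · exact absurd (hb₂ ((Groth.Agent.RootWord.Basic.mem_posRoots_iff b₂ _).mpr
        ((Groth.Agent.RootWord.Basic.isPos_neg_iff b₂ j).mpr h))) hjn
  obtain ⟨b', hb'⟩ := Groth.Agent.RootWord.Reflect.exists_base_reflect b j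
  have hpos : ∀ x, x ∈ RedSub.posRoots P b' → x = P.reflectionPerm j j ∨ (x ∈ RedSub.posRoots P b ∧ x ≠ j) := by
    intro x hx
    rw [hb', Groth.Agent.RootWord.Basic.mem_posRoots_iff] at hx
    by_cases hxj : P.reflectionPerm j x = j
    · left
      rw [← P.reflectionPerm_self j x, hxj]
    · right
      have := hx.reflectionPerm hj hxj
      rw [P.reflectionPerm_self] at this
      refine ⟨(Groth.Agent.RootWord.Basic.mem_posRoots_iff b x).mpr this, ?_⟩
      rintro rfl
      exact (Groth.Agent.RootWord.Basic.isPos_neg_iff b x).mp hx (RootPairing.Base.isPos_of_mem_support hj)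
  refine ih _ ?_ b' (fun x hx => ?_) rfl
  · rw [← hn]
    refine Set.ncard_lt_ncard ((Set.ssubset_iff_of_subset ?_).mpr ⟨j, ⟨?_, hjn⟩, ?_⟩) (Set.toFinite _)
    · rintro x ⟨hx, hxn⟩
      rcases hpos x hx with rfl | h
      · exfalso
        apply hxn
        convert hj2 using 1
        rw [Groth.Agent.RootWord.Basic.reflectionPerm_conj_reflection]
        simp [P.reflectionPerm_self]
      · exact ⟨h.1, hxn⟩
    · exact (Groth.Agent.RootWord.Basic.mem_posRoots_iff b j).mpr (RootPairing.Base.isPos_of_mem_support hj)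
    · rintro ⟨hx, -⟩
      rcases hpos j hx with h | h
      · exact absurd (h ▸ hj2 : P.reflectionPerm j j ∈ R₂) hjn
      · exact h.2 rfl
  · rcases hpos x hx with rfl | h
    · exact hneg1
    · exact hb h.1

end Groth.Agent.S8517
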