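import Groth.Statements.S8524
import Groth.Agent.EtaleSite.Stalk
import Mathlib.AlgebraicGeometry.Morphisms.UniversallyOpen
import Mathlib.AlgebraicGeometry.Morphisms.Etale

set_option autoImplicit false
universe u
open CategoryTheory CategoryTheory.Limits AlgebraicGeometry Opposite
open EtAcyc

namespace Groth.Agent.S8524

/-- For the small etale site of a scheme and abelian sheaves: let L be a set of primes, F an abelian
L-torsion sheaf on the small etale site of a scheme X, and U an etale X-scheme with quasi-compact
underlying space. Then every section of F over U is killed by some positive integer all of whose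
prime factors lie in L. -/
theorem result {X : Scheme.{u}} (L : Set ℕ) (F : EtCoh.Ab X)
    (hF : EtAcyc.IsLTorsion L F) (U : X.Etale) [CompactSpace U.left] (s : EtCoh.sect F U) :
    ∃ m : ℕ, EtAcyc.PrimesIn L m ∧ m • s = 0 := by
  classical
  choose V g m hv hm hz using fun x => hF U s x
  have hopen : ∀ x, IsOpen (Set.range (g x).left.base) := fun x =>
    (IsOpenMap.isOpen_range (g x).left.isOpenMap)
  obtain ⟨t, ht⟩ := isCompact_univ.elim_finite_subcover (fun x => Set.range (g x).left.base) hopen
    (fun x _ => Set.mem_iUnion.2 ⟨x, hv x⟩)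
  refine ⟨∏ x ∈ t, m x, ⟨Finset.prod_pos fun x _ => (hm x).1, ?_⟩, ?_⟩
  · intro p hp hd
    obtain ⟨x, _, hpx⟩ := (Prime.dvd_finset_prod_iff hp.prime _).1 hd
    exact (hm x).2 p hp hpx
  · have hS : Presheaf.equalizerSieve (F := F.obj) ((∏ x ∈ t, m x) • s) 0 ∈ X.smallEtaleTopology U := by
      refine Groth.Agent.EtaleSite.mem_topology_of_forall_exists _ fun u => ?_
      obtain ⟨x, hx, v, hv'⟩ := Set.mem_iUnion₂.1 (ht (Set.mem_univ u))
      refine ⟨V x, g x, v, ?_, hv'⟩
      change F.obj.map (g x).op _ = F.obj.map (g x).op 0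
      obtain ⟨k, hk⟩ := Finset.dvd_prod_of_mem m hx
      rw [map_zero, map_nsmul, hk, mul_nsmul, hz x]
      simp
    exact F.property.isSeparated _ _ hS _ _ fun W k hk => hk

end Groth.Agent.S8524
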