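import Groth.Statements.S8528
import Groth.Agent.EtConsAb.FieldPush
import Groth.Agent.Hens.BranchSup
-- import your own Groth.Agent.* helpers here

set_option autoImplicit false
set_option linter.style.haveILetI false
universe u
open CategoryTheory CategoryTheory.Limits AlgebraicGeometry Opposite
open EtPBC

namespace Groth.Agent.S8528

open CategoryTheory.Limits EtConsAb EtaleSite EtaleSite.ConstSections

/-- If only one component passes through a point of an étale scheme over an irreducible scheme, the point
has an irreducible open neighbourhood. -/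
theorem exists_irreducible_nhd {X Y : Scheme.{u}} [IrreducibleSpace Y] (f : X ⟶ Y) [Etale f] (x : X)
    (huniq : {Z : Set ↑X | Z ∈ irreducibleComponents ↑X ∧ x ∈ Z}.Subsingleton) :
    ∃ N : X.Opens, x ∈ N ∧ IsIrreducible (N : Set X) := by
  haveI : LocallyQuasiFinite f := EtStruct.locallyQuasiFinite_of_formallyUnramified f
  have hgen : ∀ y : X, ∃ g : X, closure {g} = irreducibleComponent y ∧ g ⤳ y ∧
      ∀ w, w ⤳ g → w = g := fun y => by
    have hg := isIrreducible_irreducibleComponent.isGenericPoint_genericPoint
      (isClosed_irreducibleComponent (x := y))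
    exact ⟨_, hg.def, hg.specializes mem_irreducibleComponent,
      (EtStruct.closure_mem_irreducibleComponents_iff _).mp
        (by rw [hg.def]; exact irreducibleComponent_mem_irreducibleComponents y)⟩
  obtain ⟨g, hg, hgx, -⟩ := hgen x
  obtain ⟨U, hU, V, hV, hVU, hx⟩ := EtStruct.exists_chart f x
  let M : Set X := {g' | g' ∈ V ∧ (∀ w, w ⤳ g' → w = g') ∧ g' ≠ g}
  have hfin : M.Finite := by
    haveI : CompactSpace V.toScheme := isCompact_iff_compactSpace.mp hV.isCompact
    haveI : IsAffine U.toScheme := hU
    haveI : IsAffine V.toScheme := hV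
    haveI : LocallyQuasiFinite (f.resLE U V hVU) := by
      haveI : LocallyQuasiFinite (f.resLE U V hVU ≫ U.ι) := by
        rw [Scheme.Hom.resLE_comp_ι]; infer_instance
      exact LocallyQuasiFinite.of_comp (f.resLE U V hVU) U.ι
    have hη : genericPoint Y ∈ U := (genericPoint_specializes (f x)).mem_open U.2 (hVU hx)
    have hF := (f.resLE U V hVU).finite_preimage_singleton ⟨genericPoint Y, hη⟩
    refine (hF.image V.ι).subset ?_
    rintro g' ⟨hg'V, hmax, -⟩
    refine ⟨⟨g', hg'V⟩, Subtype.ext ?_, rfl⟩
    exact (congr($(Scheme.Hom.resLE_comp_ι f hVU) ⟨g', hg'V⟩)).trans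
      (((EtStruct.maximal_iff_map_maximal f g').mp hmax) _ (genericPoint_specializes _)).symm
  let N : X.Opens := ⟨(V : Set X) ∩ (⋃ g' ∈ M, closure {g'})ᶜ,
    V.2.inter (hfin.isClosed_biUnion fun _ _ => isClosed_closure).isOpen_compl⟩
  have hxN : x ∈ N := by
    refine ⟨hx, ?_⟩
    simp only [Set.mem_compl_iff, Set.mem_iUnion, not_exists]
    rintro g' ⟨hg'V, hmax, hne⟩ hxg'
    have h1 : closure {g'} = irreducibleComponent x :=
      huniq ⟨(EtStruct.closure_mem_irreducibleComponents_iff g').mpr hmax, hxg'⟩
        ⟨irreducibleComponent_mem_irreducibleComponents x, mem_irreducibleComponent⟩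
    exact hne ((specializes_iff_closure_subset.mpr (h1.trans hg.symm).ge).antisymm
      (specializes_iff_closure_subset.mpr (h1.trans hg.symm).le)).eq
  refine ⟨N, hxN, ⟨x, hxN⟩,
    (isIrreducible_singleton (x := g)).closure.2.open_subset N.2 fun y hy => ?_⟩
  obtain ⟨g', hg', hg'y, hmax⟩ := hgen y
  by_cases h : g' = g
  · exact h ▸ hg'y.mem_closure
  · exact absurd (Set.mem_biUnion (show g' ∈ M from ⟨hg'y.mem_open V.2 hy.1, hmax, h⟩)
      hg'y.mem_closure) hy.2

open IsLocalRing in
/-- Points of étale schemes over a scheme with irreducible strict localizations lie on one component. -/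
theorem subsingleton_components {X U : Scheme.{u}} (g : U ⟶ X) [Etale g] (u : U)
    (hX : ∀ (x : X) (R : Type u) [CommRing R] [IsLocalRing R] [Algebra (X.presheaf.stalk x) R]
      [IsLocalHom (algebraMap (X.presheaf.stalk x) R)] [Hensel.IsStrictHenselization (X.presheaf.stalk x) R],
      IrreducibleSpace (PrimeSpectrum R)) :
    {Z : Set ↑U | Z ∈ irreducibleComponents ↑U ∧ u ∈ Z}.Subsingleton := by
  let A := X.presheaf.stalk (g u)
  let S := Hens.StrictHenselization A
  have hH := Groth.Agent.Hensel.isEtLike_of_isStrictHenselization A S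
  haveI : IsSepClosure (ResidueField A) (ResidueField S) :=
    _root_.Hensel.IsStrictHenselization.isSepClosure
  haveI : IsSepClosed (ResidueField S) := IsSepClosure.sep_closed (ResidueField A)
  haveI := hX (g u) S
  have hnil := PrimeSpectrum.irreducibleSpace_iff_isPrime_nilradical.1 (hX (g u) S)
  have h1 : (minimalPrimes S).encard ≤ 1 :=
    Set.encard_le_one_iff.2 fun P Q hP hQ => by
      have h : ∀ P ∈ minimalPrimes S, P = nilradical S := fun P hP => by
        haveI := hP.1.1
        exact le_antisymm (hP.2 ⟨hnil, bot_le⟩ (nilradical_le_prime P)) (nilradical_le_prime P)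
      exact (h P hP).trans (h Q hQ).symm
  refine Set.encard_le_one_iff_subsingleton.1 ?_
  rw [Hens.encard_components_eq]
  exact (Hens.card_minimalPrimes_stalk_le_of_isSepClosed g u rfl hH).trans h1

/-- Let X be an irreducible scheme all of whose strict localizations are irreducible (for every point x
and every strict henselization R of the local ring at x, Spec R is irreducible; that is, X is
geometrically unibranch), and M a torsion-free abelian group. Then H^1(X, M_X) = 0 for the constant
sheaf M_X on the small etale site. -/
theorem result (X : Scheme.{u}) [IrreducibleSpace X]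
    (hX : ∀ (x : X) (R : Type u) [CommRing R] [IsLocalRing R] [Algebra (X.presheaf.stalk x) R]
      [IsLocalHom (algebraMap (X.presheaf.stalk x) R)] [Hensel.IsStrictHenselization (X.presheaf.stalk x) R],
      IrreducibleSpace (PrimeSpectrum R))
    (M : Type) [AddCommGroup M] [IsAddTorsionFree M] :
    Subsingleton (EtCoh.H X (EtCoh.const X M) 1) := by
  haveI : Subsingleton ↥(Spec (X.residueField (genericPoint ↥X))) :=
    inferInstanceAs (Subsingleton (PrimeSpectrum (X.residueField (genericPoint ↥X))))
  haveI : Nonempty ↥(Spec (X.residueField (genericPoint ↥X))) :=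
    inferInstanceAs (Nonempty (PrimeSpectrum (X.residueField (genericPoint ↥X))))
  let g := X.fromSpecResidueField (genericPoint ↥X)
  let A : AddCommGrpCat.{u + 1} := AddCommGrpCat.of (ULift.{u + 1} M)
  haveI := isIso_unit_generic (X := X) (fun W w =>
    let h : W.left ⟶ X := W.hom
    haveI : Etale h := W.prop
    exists_irreducible_nhd h w (subsingleton_components h w hX)) g
    (fun p => X.fromSpecResidueField_apply _ p) A
  let e : EtCoh.const X M ≅ (EtCoh.push g).obj (EtCoh.const (Spec (X.residueField (genericPoint ↥X))) M) :=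
    asIso ((EtCoh.pullPushAdj g).unit.app (cSheaf X A)) ≪≫ (EtCoh.push g).mapIso (EtCore.pullConst g M)
  haveI : PreservesFiniteLimits (EtCoh.pull g) := EtaleSite.preservesFiniteLimits_pull _
  haveI := subsingleton_H_one_torsionFree (K := X.residueField (genericPoint ↥X)) M
  haveI := (injective_HofPush_one g (EtCoh.const (Spec (X.residueField (genericPoint ↥X))) M)).subsingleton
  exact @Equiv.subsingleton _ _ ((EtCoh.HF X 1).mapIso e).addCommGroupIsoToAddEquiv.toEquiv this

end Groth.Agent.S8528
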