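import Groth.Statements.S8535
import Groth.Agent.DFBasic

set_option autoImplicit false
universe v v' u u'
open CategoryTheory CategoryTheory.Limits
open DeltaF

namespace Groth.Agent.S8535

/-- Let A and B be abelian categories, T and T' cohomological delta-functors from A to B in degrees ≥ 0
whose degree-0 components are left exact (they vanish in negative degrees), such that T^i is
effaceable for every i > 0, and let φ : T → T' be a morphism of delta-functors and n a natural
number. Then the following are equivalent: (a) φ^i is an isomorphism for i ≤ n and a monomorphism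
for i = n + 1; (b) φ^0 is a monomorphism and φ^i is an epimorphism for every i ≤ n; (c) φ^0 is an
isomorphism and, for 0 < i ≤ n, T'^i is effaceable (every object X admits a monomorphism X → Y
killed by T'^i). -/
theorem result {A : Type u} [Category.{v} A] [Abelian A]
    {B : Type u'} [Category.{v'} B] [Abelian B] (T T' : DeltaF.CohDeltaFunctor A B ℕ)
    (h0 : T.ZeroMono) (h0' : T'.ZeroMono) (hT : T.IsEffaceable) (φ : T ⟶ T') (n : ℕ) :
    ((∀ i : ℕ, i ≤ n → IsIso (φ.app i)) ∧ Mono (φ.app (n + 1)) ↔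
      (Mono (φ.app 0) ∧ ∀ i : ℕ, i ≤ n → Epi (φ.app i))) ∧
    ((∀ i : ℕ, i ≤ n → IsIso (φ.app i)) ∧ Mono (φ.app (n + 1)) ↔
      (IsIso (φ.app 0) ∧ ∀ i : ℕ, 0 < i → i ≤ n → ∀ X : A, ∃ (Y : A) (u : X ⟶ Y), Mono u ∧ (T'.F i).map u = 0)) := by
  have mono_all : Mono (φ.app 0) → (∀ i, i ≤ n → Epi (φ.app i)) → ∀ i, i ≤ n + 1 →
      Mono (φ.app i) := by
    intro m0 he i hi
    induction i with
    | zero => exact m0
    | succ i ih =>
      have := he i (by omega)
      have := ih (by omega)
      exact Groth.Agent.DFBasic.mono_succ hT φ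
  refine ⟨⟨fun ⟨hi, hm⟩ => ⟨?_, fun i h => ?_⟩, fun ⟨m0, he⟩ => ⟨fun i h => ?_, ?_⟩⟩,
    ⟨fun ⟨hi, hm⟩ => ⟨hi 0 (Nat.zero_le n), fun i h0i hin X => ?_⟩, fun ⟨i0, heff⟩ => ?_⟩⟩
  · have := hi 0 (Nat.zero_le n)
    infer_instance
  · have := hi i h
    infer_instance
  · have := he i h
    have := mono_all m0 he i (by omega)
    exact isIso_of_mono_of_epi _
  · exact mono_all m0 he (n + 1) le_rfl
  · obtain ⟨k, rfl⟩ : ∃ k, i = k + 1 := ⟨i - 1, by omega⟩
    have := hi (k + 1) hin
    obtain ⟨Y, u, hu, h0⟩ := hT k X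
    refine ⟨Y, u, hu, ?_⟩
    rw [← cancel_epi ((φ.app (k + 1)).app X), ← (φ.app (k + 1)).naturality u, h0, zero_comp,
      comp_zero]
  · have hiso : ∀ i, i ≤ n → IsIso (φ.app i) := by
      intro i
      induction i with
      | zero => exact fun _ => i0
      | succ i ih =>
        intro hin
        have := ih (by omega)
        have : Mono (φ.app (i + 1)) := Groth.Agent.DFBasic.mono_succ hT φ
        suffices ∀ X, Epi ((φ.app (i + 1)).app X) by
          have : Epi (φ.app (i + 1)) := NatTrans.epi_of_epi_app _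
          exact isIso_of_mono_of_epi _
        intro X
        obtain ⟨Y, u, hu, h0⟩ := heff (i + 1) (Nat.succ_pos i) hin X
        obtain ⟨Y₂, u₂, hu₂, h0₂⟩ := hT i Y
        have hS := Groth.Agent.DFBasic.cokSeq_shortExact (u ≫ u₂)
        have hz : (T'.F (i + 1)).map (u ≫ u₂) = 0 := by rw [Functor.map_comp, h0, zero_comp]
        have := Groth.Agent.DFBasic.epi_δ T' hS hz
        have : Epi (T.δ _ hS i (i + 1) rfl ≫ (φ.app (i + 1)).app X) := by
          rw [show T.δ _ hS i (i + 1) rfl ≫ (φ.app (i + 1)).app X = _ from φ.comm _ hS i (i + 1) rfl]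
          exact epi_comp _ _
        exact epi_of_epi (T.δ _ hS i (i + 1) rfl) _
    refine ⟨hiso, ?_⟩
    have := hiso n le_rfl
    exact Groth.Agent.DFBasic.mono_succ hT φ

end Groth.Agent.S8535
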