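import Groth.Statements.S8536
import Groth.Agent.S8525
import Groth.Agent.EtaleSite.HpullSeq

set_option autoImplicit false
universe u
open CategoryTheory CategoryTheory.Limits AlgebraicGeometry Opposite
open EtAcyc

namespace Groth.Agent.S8536

/-- Let h : Y → X be a morphism of quasi-compact quasi-separated schemes, L a set of primes and n a
natural number, and suppose that for every abelian L-torsion sheaf on X the pullback map on etale
cohomology along h is bijective in degrees ≤ n and injective in degree n + 1. Let u : F → G be a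
monomorphism of abelian L-torsion sheaves on X and ξ a class in H^{n+1}(Y, h⁻¹F) whose image in
H^{n+1}(Y, h⁻¹G) comes from H^{n+1}(X, G). Then ξ comes from H^{n+1}(X, F). -/
theorem result {X Y : Scheme.{u}} [CompactSpace X] [QuasiSeparatedSpace X]
    [CompactSpace Y] [QuasiSeparatedSpace Y] (h : Y ⟶ X) (L : Set ℕ) (n : ℕ) (hc : EtAcyc.CompN h L n)
    [PreservesFiniteLimits (EtCoh.pull h)] {F G : EtCoh.Ab X} (u : F ⟶ G) [Mono u]
    (hF : EtAcyc.IsLTorsion L F) (hG : EtAcyc.IsLTorsion L G)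
    (ξ : EtCoh.H Y ((EtCoh.pull h).obj F) (n + 1))
    (hξ : (EtCoh.HF Y (n + 1)).map ((EtCoh.pull h).map u) ξ ∈ Set.range (EtCore.Hpull h G (n + 1))) :
    ξ ∈ Set.range (EtCore.Hpull h F (n + 1)) := by
  let S : ShortComplex (EtCoh.Ab X) := ShortComplex.mk u (cokernel.π u) (cokernel.condition u)
  have hS : S.ShortExact :=
    { exact := ShortComplex.exact_of_g_is_cokernel _ (cokernelIsCokernel u) }
  have hQ : EtAcyc.IsLTorsion L (cokernel u) := by
    refine (Groth.Agent.S8525.result L (cokernel u)).2 fun Ω _ _ p t => ?_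
    obtain ⟨g, rfl⟩ := (AddCommGrpCat.epi_iff_surjective ((EtCoh.stalk p).map (cokernel.π u))).1
      inferInstance t
    obtain ⟨m, hm, hz⟩ := (Groth.Agent.S8525.result L G).1 hG Ω p g
    exact ⟨m, hm, by rw [← map_nsmul, hz, map_zero]⟩
  obtain ⟨hFb, -⟩ := hc F hF
  obtain ⟨hQb, hQi⟩ := hc (cokernel u) hQ
  obtain ⟨g, hg⟩ := hξ
  let S' := S.map (EtCoh.pull h)
  have hS' : S'.ShortExact := hS.map_of_exact (EtCoh.pull h)
  have hg' : EtCore.Hpull h G (n + 1) g =
      ξ.comp (Abelian.Ext.mk₀ ((EtCoh.pull h).map u)) (add_zero _) := hg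
  have h0 : g.comp (Abelian.Ext.mk₀ (cokernel.π u)) (add_zero _) = 0 := by
    apply hQi
    rw [Groth.Agent.EtaleSite.HpullSeq.Hpull_postcomp, hg', map_zero,
      Abelian.Ext.comp_assoc_of_second_deg_zero, Abelian.Ext.mk₀_comp_mk₀, ← Functor.map_comp,
      cokernel.condition, Functor.map_zero, Abelian.Ext.mk₀_zero, Abelian.Ext.comp_zero]
  obtain ⟨x, hx⟩ := Abelian.Ext.covariant_sequence_exact₂ _ hS g h0
  change x.comp (Abelian.Ext.mk₀ u) _ = g at hx
  have h1 : (ξ - EtCore.Hpull h F (n + 1) x).comp (Abelian.Ext.mk₀ S'.f) (add_zero _) = 0 := by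
    rw [sub_eq_add_neg, Abelian.Ext.add_comp, Abelian.Ext.neg_comp, ← sub_eq_add_neg, sub_eq_zero]
    change ξ.comp (Abelian.Ext.mk₀ ((EtCoh.pull h).map u)) _ =
      (EtCore.Hpull h F (n + 1) x).comp (Abelian.Ext.mk₀ ((EtCoh.pull h).map u)) _
    rw [← Groth.Agent.EtaleSite.HpullSeq.Hpull_postcomp, hx, hg']
  obtain ⟨y, hy⟩ := Abelian.Ext.covariant_sequence_exact₁ _ hS' _ h1 (rfl : n + 1 = n + 1)
  obtain ⟨y', rfl⟩ := (hQb n le_rfl).2 y
  refine ⟨x + y'.comp hS.extClass rfl, ?_⟩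
  rw [map_add]
  have e : EtCore.Hpull h F (n + 1) (y'.comp hS.extClass rfl) = ξ - EtCore.Hpull h F (n + 1) x :=
    (Groth.Agent.EtaleSite.HpullSeq.Hpull_extClass h hS n y').trans hy
  rw [e, add_sub_cancel]

end Groth.Agent.S8536
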