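import Groth.Statements.S8538
import Groth.Agent.DecCat.Sch
import Groth.Agent.CycLib.FibreDim
import Groth.Agent.CycLib.Interval
import Groth.Agent.AlgSpD.RelDim
import Groth.Agent.S3433
import Groth.Agent.S9126

set_option autoImplicit false
universe u
open CategoryTheory CategoryTheory.Limits AlgebraicGeometry Opposite
open EtCd

namespace Groth.Agent.S8538

/-- Let A be a Noetherian universally catenary local ring, f : X → Spec A a morphism of finite type, x a
point of X with image y, and X₀ the closed fibre of f. Put δ(x) = dim closure(y) + trdeg(κ(x)/κ(y))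
= dim(A/p_y) + trdeg(κ(x)/κ(y)) and d(x) = dim closure(x) (topological Krull dimension of the
closure of x in X). Then d(x) = δ(x) when the closure of x meets X₀, and d(x) + 1 = δ(x) when it
does not. -/
theorem result (A : Type u) [CommRing A] [IsNoetherianRing A] [IsLocalRing A]
    (hA : CAlg.IsUniversallyCatenary A) {X : Scheme.{u}} (f : X ⟶ Spec (CommRingCat.of A)) [LocallyOfFiniteType f]
    [QuasiCompact f] (x : X) (a b d : ℕ) (ha : ringKrullDim (A ⧸ (f.base x).asIdeal) = a)
    (hb : letI := (f.residueFieldMap x).hom.toAlgebra;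
      Algebra.trdeg ((Spec (CommRingCat.of A)).residueField (f.base x)) (X.residueField x) = b)
    (hd : topologicalKrullDim ↥(closure ({x} : Set X)) = d) :
    ((closure ({x} : Set X) ∩ f.base ⁻¹' {((IsLocalRing.closedPoint A : PrimeSpectrum A) : ↥(Spec (CommRingCat.of A)))}).Nonempty →
        d = a + b) ∧
    (closure ({x} : Set X) ∩ f.base ⁻¹' {((IsLocalRing.closedPoint A : PrimeSpectrum A) : ↥(Spec (CommRingCat.of A)))} = ∅ →
        d + 1 = a + b) := by
  classical
  let R : CommRingCat.{u} := CommRingCat.of A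
  let δ' : ↥(Spec R) → ℤ := fun p => ((Order.coheight (α := PrimeSpectrum R) p).toNat : ℤ)
  have hcatR : ∀ s : ↥(Spec R), CAlg.IsUniversallyCatenary ↥((Spec R).presheaf.stalk s) := fun s => by
    have : Algebra.EssFiniteType A (Localization.AtPrime s.asIdeal) :=
      Algebra.EssFiniteType.of_isLocalization _ s.asIdeal.primeCompl
    have h1 : CAlg.IsUniversallyCatenary (Localization.AtPrime s.asIdeal) := S9126.result A _ hA
    exact DecCat.isUniversallyCatenary_of_surjective (StructureSheaf.stalkIso R s).toRingEquiv.toRingHom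
      (StructureSheaf.stalkIso R s).surjective h1
  have : IsLocalRing R := ‹IsLocalRing A›
  have : IsNoetherianRing R := ‹IsNoetherianRing A›
  have hS := DecCat.isDimFun_coheight R (hA.2 A inferInstance)
  have hfd : ∀ v, ∃ m : ℕ, Dual3.resTrdeg f v = m := fun v => by
    obtain ⟨n, m, hm, -⟩ := AlgSpD.exists_fibre_dims f v
    exact ⟨m, hm⟩
  choose t ht using hfd
  let δ : X → ℤ := fun v => δ' (f v) + t v
  have hdim : Cyc.IsDimFun X δ :=
    CycLib.isDimFun_of_deltaCompat f hcatR hS fun v => ⟨t v, ht v, rfl⟩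
  have hfin : ∀ p : PrimeSpectrum A, Order.coheight p ≠ ⊤ := fun p h => by
    have h1 : (Order.coheight p : WithBot ℕ∞) ≤ ringKrullDim A := Order.coheight_le_krullDim p
    rw [h] at h1
    exact absurd (h1.trans_lt ringKrullDim_lt_top) (lt_irrefl _)
  have hq : ∀ p : PrimeSpectrum A, ringKrullDim (A ⧸ p.asIdeal) = (Order.coheight p : WithBot ℕ∞) := by
    intro p
    rw [Order.coheight_eq_krullDim_Ici, ringKrullDim_quotient]
    refine Order.krullDim_eq_of_orderIso (OrderIso.setCongr _ _ ?_)
    ext q
    exact PrimeSpectrum.mem_zeroLocus q _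
  have hval : ∀ (p : PrimeSpectrum A) (n : ℕ), Order.coheight p = n → δ' p = n := fun p n h => by
    show ((Order.coheight (α := PrimeSpectrum A) p).toNat : ℤ) = n
    rw [h, ENat.toNat_natCast]
  have hx : δ x = a + b := by
    have h1 : δ' (f x) = a := hval _ a (by
      have := (hq (f x)).symm.trans ha
      exact_mod_cast this)
    have h2 : (t x : Cardinal.{u}) = b := (ht x).symm.trans hb
    show δ' (f x) + t x = _
    rw [h1, Nat.cast_inj.1 h2]
  have hh : Order.height x = (d : ℕ∞) := by
    have := (CycLib.topologicalKrullDim_closure X x).symm.trans hd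
    exact_mod_cast this
  have hheight : ∀ (m : ℤ) (w : X), x ⤳ w → δ w = m → (∀ z, x ⤳ z → m ≤ δ z) → (d : ℤ) = δ x - m := by
    intro m w hxw hw hmin
    have hle := CycLib.le_of_specializes hdim hxw
    obtain ⟨s, hs1, -, hs3⟩ := CycLib.exists_series hdim (δ x - m).toNat w hxw (by omega)
    have h1 : ((δ x - m).toNat : ℕ∞) ≤ Order.height x := hs1 ▸ Order.length_le_height hs3.le
    have h2 : Order.height x ≤ ((δ x - m).toNat : ℕ∞) := by
      refine Order.height_le fun p hp => ?_
      have h3 := CycLib.length_le hdim p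
      have h4 : x ⤳ p.head := hp ▸ (CycLib.le_iff.1 p.head_le_last)
      have h5 := hmin _ h4
      rw [hp] at h3
      exact_mod_cast (show p.length ≤ (δ x - m).toNat by omega)
    have h6 : (d : ℕ∞) = ((δ x - m).toNat : ℕ∞) := hh.symm.trans (le_antisymm h2 h1)
    have h7 : d = (δ x - m).toNat := by exact_mod_cast h6
    omega
  have : CompactSpace X := QuasiCompact.compactSpace_of_compactSpace f
  have hclosed : ∀ z : X, ∃ w, z ⤳ w ∧ IsClosed ({w} : Set X) := fun z => by
    obtain ⟨w, hw, hwc⟩ := (isClosed_closure (s := ({z} : Set X))).exists_closed_singleton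
      ⟨z, subset_closure rfl⟩
    exact ⟨w, specializes_iff_mem_closure.2 hw, hwc⟩
  have ht0 : ∀ w : X, IsClosed ({w} : Set X) → t w = 0 := fun w hw => by
    have h1 : IsClosed ({f.asFiber w} : Set (f.fiber (f w))) := by
      have : ({f.asFiber w} : Set (f.fiber (f w))) = f.fiberι (f w) ⁻¹' {w} := by
        ext q
        constructor
        · rintro rfl; exact f.fiberι_asFiber w
        · intro hq'
          exact (f.fiberι (f w)).isEmbedding.injective (hq'.trans (f.fiberι_asFiber w).symm)
      rw [this]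
      exact hw.preimage (f.fiberι (f w)).continuous
    have h2 := (ht w).symm.trans (AlgSpD.resTrdeg_eq_zero_of_isClosed f w h1)
    exact_mod_cast h2
  have hcp : IsClosed ({IsLocalRing.closedPoint A} : Set (PrimeSpectrum A)) :=
    IsLocalRing.isClosed_singleton_closedPoint A
  have hco : ∀ p : PrimeSpectrum A, Order.coheight p = 0 ↔ p = IsLocalRing.closedPoint A := fun p => by
    rw [Order.coheight_eq_zero]
    refine ⟨fun h => ?_, ?_⟩
    · have hp : p ≤ IsLocalRing.closedPoint A := IsLocalRing.le_maximalIdeal p.2.ne_top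
      exact le_antisymm hp (h hp)
    · rintro rfl q -
      exact IsLocalRing.le_maximalIdeal q.2.ne_top
  have hnn : ∀ z, 0 ≤ δ z := fun z => by
    show 0 ≤ δ' (f z) + t z
    have : (0 : ℤ) ≤ δ' (f z) := Int.natCast_nonneg _
    omega
  refine ⟨fun ⟨z₀, hz₀, hz₀'⟩ => ?_, fun hemp => ?_⟩
  · obtain ⟨w, hw, hwc⟩ := hclosed z₀
    have hfz : f z₀ = IsLocalRing.closedPoint A := hz₀'
    have hfw : f w = IsLocalRing.closedPoint A := (hw.map f.continuous).mem_closed hcp hfz
    have h0 : δ w = 0 := by
      show δ' (f w) + t w = 0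
      rw [ht0 w hwc, hval _ 0 (by exact_mod_cast (hco _).2 hfw)]
      simp
    have := hheight 0 w ((specializes_iff_mem_closure.2 hz₀).trans hw) h0 fun z _ => hnn z
    omega
  · have hout : ∀ z, x ⤳ z → f z ≠ IsLocalRing.closedPoint A := fun z hz h =>
      (Set.eq_empty_iff_forall_notMem.1 hemp z) ⟨specializes_iff_mem_closure.1 hz, h⟩
    have hge : ∀ z, x ⤳ z → 1 ≤ δ z := fun z hz => by
      show 1 ≤ δ' (f z) + t z
      have h1 : (1 : ℤ) ≤ δ' (f z) := by
        have h2 : Order.coheight (α := PrimeSpectrum A) (f z) ≠ 0 := fun h => hout z hz ((hco _).1 h)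
        obtain ⟨n, hn⟩ := ENat.ne_top_iff_exists.1 (hfin (f z))
        rw [hval _ n hn.symm]
        rw [← hn] at h2
        have : n ≠ 0 := by exact_mod_cast h2
        omega
      omega
    obtain ⟨w, hw, hwc⟩ := hclosed x
    let U : (Spec R).Opens := ⟨{(IsLocalRing.closedPoint A : PrimeSpectrum A)}ᶜ, hcp.isOpen_compl⟩
    have : JacobsonSpace ↥(U : Scheme.{u}) := (S3433.result A).1
    let w' : ↥((f ⁻¹ᵁ U : X.Opens) : Scheme.{u}) := ⟨w, hout w hw⟩
    have hw' : IsClosed ({w'} : Set ↥((f ⁻¹ᵁ U : X.Opens) : Scheme.{u})) := by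
      have : ({w'} : Set ↥((f ⁻¹ᵁ U : X.Opens) : Scheme.{u})) = (f ⁻¹ᵁ U).ι ⁻¹' {w} := by
        ext q
        exact ⟨fun h => h ▸ rfl, fun h => Subtype.ext h⟩
      rw [this]
      exact hwc.preimage (f ⁻¹ᵁ U).ι.continuous
    have h1 : (f ∣_ U) w' ∈ closedPoints ↥(U : Scheme.{u}) :=
      Scheme.Hom.closePoints_subset_preimage_closedPoints (f ∣_ U) hw'
    have h2 : ((f ∣_ U) w').1 = f w :=
      congrArg (fun g => g w') (congrArg (fun φ : _ ⟶ Spec R => φ.base) (morphismRestrict_ι f U))
    have h3 := ((S3433.result A).2 ((f ∣_ U) w')).1 h1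
    rw [h2] at h3
    have h4 : δ w = 1 := by
      show δ' (f w) + t w = 1
      rw [ht0 w hwc, hval _ 1 (by
        have := (hq (f w)).symm.trans h3
        exact_mod_cast this)]
      simp
    have := hheight 1 w hw h4 hge
    omega

end Groth.Agent.S8538
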