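import Groth.Statements.S8539
import Groth.Agent.SHClosed93.Core
import Mathlib.AlgebraicGeometry.Morphisms.FiniteType
-- import your own Groth.Agent.* helpers here

set_option autoImplicit false
universe u
open CategoryTheory CategoryTheory.Limits AlgebraicGeometry Opposite
open EtCd

namespace Groth.Agent.S8539

/-- Let X be a scheme of finite type over a field k, x a point of X and A a strict henselization of the
local ring of X at x. Then there are a separably closed field k', a scheme X' of finite type over k'
and a closed point x' of X' such that A is (isomorphic to) a strict henselization of the local ring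
of X' at x': some local algebra structure over that local ring makes A a strict henselization of it. -/
theorem result (k : Type u) [Field k] {X : Scheme.{u}}
    (f : X ⟶ Spec (CommRingCat.of k)) [LocallyOfFiniteType f] [QuasiCompact f] (x : X)
    (A : Type u) [CommRing A] [IsLocalRing A] [Algebra (X.presheaf.stalk x) A]
    [IsLocalHom (algebraMap (X.presheaf.stalk x) A)] [Hensel.IsStrictHenselization (X.presheaf.stalk x) A] :
    ∃ (k' : Type u) (_ : Field k') (_ : IsSepClosed k') (X' : Scheme.{u}) (f' : X' ⟶ Spec (CommRingCat.of k'))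
      (_ : LocallyOfFiniteType f') (_ : QuasiCompact f') (x' : X') (_ : IsClosed ({x'} : Set X'))
      (_ : Algebra (X'.presheaf.stalk x') A) (_ : IsLocalHom (algebraMap (X'.presheaf.stalk x') A)),
      Hensel.IsStrictHenselization (X'.presheaf.stalk x') A := by
  classical
  obtain ⟨_, ⟨U, hU, rfl⟩, hxU, -⟩ :=
    X.isBasis_affineOpens.exists_subset_of_mem_open (Set.mem_univ x) isOpen_univ
  let φ : CommRingCat.of k ⟶ Γ(X, U) :=
    (Scheme.ΓSpecIso (CommRingCat.of k)).inv ≫ f.appLE ⊤ U le_top
  letI : Algebra k Γ(X, U) := φ.hom.toAlgebra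
  haveI : Algebra.FiniteType k Γ(X, U) := by
    have h := f.finiteType_appLE (isAffineOpen_top (Spec (CommRingCat.of k))) hU
      (show U ≤ f ⁻¹ᵁ ⊤ from le_top)
    exact RingHom.FiniteType.comp h (RingHom.FiniteType.of_surjective _
      (Scheme.ΓSpecIso (CommRingCat.of k)).commRingCatIsoToRingEquiv.symm.surjective)
  letI : Algebra Γ(X, U) (X.presheaf.stalk x) :=
    TopCat.Presheaf.algebra_section_stalk X.presheaf (⟨x, hxU⟩ : U)
  haveI : IsLocalization.AtPrime (X.presheaf.stalk x) (hU.primeIdealOf ⟨x, hxU⟩).asIdeal :=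
    hU.isLocalization_stalk ⟨x, hxU⟩
  obtain ⟨k', _, _, C, _, _, _, q, hq, ψ, hqψ, hSH⟩ :=
    SHClosed93.exists_closedPoint (k := k) (R := X.presheaf.stalk x) (A := A)
      (hU.primeIdealOf ⟨x, hxU⟩).asIdeal
  let X' : Scheme.{u} := Spec (CommRingCat.of C)
  let f' : X' ⟶ Spec (CommRingCat.of k') := Spec.map (CommRingCat.ofHom (algebraMap k' C))
  haveI : LocallyOfFiniteType f' :=
    (HasRingHomProperty.Spec_iff (P := @LocallyOfFiniteType)).2 (RingHom.finiteType_algebraMap.2 ‹_›)
  let x' : X' := (⟨q, hq.isPrime⟩ : PrimeSpectrum C)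
  have hx' : IsClosed ({x'} : Set X') := (PrimeSpectrum.isClosed_singleton_iff_isMaximal _).2 hq
  letI : Algebra C (X'.presheaf.stalk x') := StructureSheaf.stalkAlgebra C (⟨q, hq.isPrime⟩ : PrimeSpectrum C)
  haveI : IsLocalization.AtPrime (X'.presheaf.stalk x') q :=
    StructureSheaf.IsLocalization.to_stalk C (⟨q, hq.isPrime⟩ : PrimeSpectrum C)
  have hu : ∀ y : q.primeCompl, IsUnit (ψ y) := fun y => by
    have h : (y : C) ∉ (IsLocalRing.maximalIdeal A).comap ψ := hqψ ▸ y.2
    rwa [Ideal.mem_comap, IsLocalRing.notMem_maximalIdeal] at h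
  let θ : X'.presheaf.stalk x' →+* A := IsLocalization.lift hu
  letI : Algebra (X'.presheaf.stalk x') A := θ.toAlgebra
  haveI : IsLocalHom (algebraMap (X'.presheaf.stalk x') A) := ⟨fun r hr => by
    obtain ⟨c, y, rfl⟩ := IsLocalization.exists_mk'_eq q.primeCompl r
    refine (IsLocalization.AtPrime.isUnit_mk'_iff (X'.presheaf.stalk x') q c y).2 fun hc => ?_
    have h2 : θ (IsLocalization.mk' _ c y) * ψ y = ψ c := by
      show IsLocalization.lift hu _ * _ = _
      rw [← IsLocalization.lift_eq (S := X'.presheaf.stalk x') hu (y : C), ← map_mul, IsLocalization.mk'_spec, IsLocalization.lift_eq]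
    rw [hqψ, SetLike.mem_coe, Ideal.mem_comap, IsLocalRing.mem_maximalIdeal, mem_nonunits_iff, ← h2] at hc
    exact hc (hr.mul (hu y))⟩
  exact ⟨k', inferInstance, inferInstance, X', f', inferInstance, inferInstance, x', hx', inferInstance,
    inferInstance, hSH (X'.presheaf.stalk x') (RingHom.ext fun c => IsLocalization.lift_eq hu c)⟩

end Groth.Agent.S8539
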