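import Groth.Statements.S8540
import Groth.Agent.EtConsAb.Colim
import Groth.Agent.EtConsAb.SubFLC

set_option autoImplicit false
universe u
open CategoryTheory CategoryTheory.Limits AlgebraicGeometry Opposite
open EtPBC

namespace Groth.Agent.S8540

/-- Let X be a Noetherian scheme and F a torsion abelian sheaf on the small etale site of X. Then F is
constructible if and only if F is a Noetherian object of the category of abelian etale sheaves on X
(ascending chain condition on subsheaves). -/
theorem result (X : Scheme.{u}) [IsNoetherian X] (F : EtCoh.Ab X)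
    (hF : EtCoh.IsTorsion F) :
    EtPBC.IsConstructible F ↔ IsNoetherianObject F := by
  classical
  refine ⟨fun h => Groth.Agent.EtConsAb.isNoetherianObject_of_isConstructible h, fun h => ?_⟩
  haveI := h
  obtain ⟨_, ⟨S, rfl⟩, hmax⟩ := wellFounded_gt.has_min
    (Set.range fun S : Finset (Groth.Agent.EtConsAb.Gen F) => imageSubobject (Groth.Agent.EtConsAb.genπ S))
    ⟨_, ∅, rfl⟩
  haveI : Epi (Groth.Agent.EtConsAb.genπ S) := (Groth.Agent.EtaleSite.epi_iff_stalk _).2 fun Ω _ _ ξ q => by
    obtain ⟨g, φ, rfl⟩ := Groth.Agent.EtConsAb.exists_gen_germ hF ξ q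
    have hle : imageSubobject (Groth.Agent.EtConsAb.genπ S) ≤
        imageSubobject (Groth.Agent.EtConsAb.genπ (insert g S)) := by
      rw [← Groth.Agent.EtConsAb.genIncl_π (Finset.subset_insert g S)]
      exact imageSubobject_comp_le _ _
    have heq : imageSubobject (Groth.Agent.EtConsAb.genπ (insert g S)) =
        imageSubobject (Groth.Agent.EtConsAb.genπ S) :=
      ((eq_or_lt_of_le hle).resolve_right (hmax _ ⟨_, rfl⟩)).symm
    obtain ⟨y, hy⟩ := Groth.Agent.EtConsAb.germ_mem_range_genπ (insert g S)
      ⟨g, Finset.mem_insert_self g S⟩ ξ φ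
    let f := factorThruImageSubobject (Groth.Agent.EtConsAb.genπ (insert g S)) ≫ Subobject.ofLE _ _ heq.le
    obtain ⟨z, hz⟩ := Groth.Agent.EtConsAb.stalk_surjective_of_epi ξ
      (factorThruImageSubobject (Groth.Agent.EtConsAb.genπ S)) ((EtCoh.stalk ξ).map f y)
    refine ⟨z, ?_⟩
    have e1 : factorThruImageSubobject (Groth.Agent.EtConsAb.genπ S) ≫ (imageSubobject _).arrow =
        Groth.Agent.EtConsAb.genπ S := imageSubobject_arrow_comp _
    have e2 : f ≫ (imageSubobject (Groth.Agent.EtConsAb.genπ S)).arrow =
        Groth.Agent.EtConsAb.genπ (insert g S) := by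
      simp [f]
    refine Eq.trans ?_ hy
    calc _ = (EtCoh.stalk ξ).map (factorThruImageSubobject (Groth.Agent.EtConsAb.genπ S) ≫
          (imageSubobject (Groth.Agent.EtConsAb.genπ S)).arrow) z := by rw [e1]
      _ = (EtCoh.stalk ξ).map (f ≫ (imageSubobject (Groth.Agent.EtConsAb.genπ S)).arrow) y := by
          rw [Functor.map_comp, ConcreteCategory.comp_apply, hz]
          simp only [f, Functor.map_comp, ConcreteCategory.comp_apply]
      _ = _ := by rw [e2]
  exact Groth.Agent.EtConsAb.isConstructible_quotient (Groth.Agent.EtConsAb.genπ S)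
    (Groth.Agent.EtConsAb.isConstructible_genSum S)

end Groth.Agent.S8540
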