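import Groth.Statements.S8542
import Groth.Agent.EtaleSite.SetStalk
import Mathlib.CategoryTheory.Adhesive.Basic
import Mathlib.CategoryTheory.Sites.LocallyBijective
import Mathlib.CategoryTheory.Limits.Types.Pullbacks

set_option autoImplicit false
universe u
open CategoryTheory CategoryTheory.Limits AlgebraicGeometry Opposite
open EtBC

namespace Groth.Agent.S8542

/-- Let h : Y → X be a morphism of quasi-compact quasi-separated schemes such that for every sheaf of
sets F on the small etale site of X the pullback map Γ(X, F) → Γ(Y, h^*F) is injective. Let u : F →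
G be a monomorphism of sheaves of sets on X and ξ ∈ Γ(Y, h^*F) a section whose image in Γ(Y, h^*G)
lies in the image of Γ(X, G). Then ξ lies in the image of Γ(X, F). -/
theorem result {X Y : Scheme.{u}} [CompactSpace X] [QuasiSeparatedSpace X]
    [CompactSpace Y] [QuasiSeparatedSpace Y] (h : Y ⟶ X)
    (hinj : ∀ F : EtDesc.Sh X, Function.Injective (EtDesc.secPull h F))
    {F G : EtDesc.Sh X} (u : F ⟶ G) [Mono u] (ξ : EtDesc.sect ((EtDesc.pullSh h).obj F) (EtCoh.top Y))
    (hξ : ((EtDesc.pullSh h).map u).hom.app (op (EtCoh.top Y)) ξ ∈ Set.range (EtDesc.secPull h G)) :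
    ξ ∈ Set.range (EtDesc.secPull h F) := by
  obtain ⟨g, hg⟩ := hξ
  have hp : IsPullback u u (pushout.inl u u) (pushout.inr u u) :=
    Adhesive.isPullback_of_isPushout_of_mono_left (IsPushout.of_hasPushout u u)
  have hp' := hp.map ((sheafToPresheaf X.smallEtaleTopology (Type (u + 1))) ⋙
    (evaluation _ (Type (u + 1))).obj (op (EtCoh.top X)))
  have hnat : ∀ {A B : EtDesc.Sh X} (a : A ⟶ B) (s : EtDesc.sect A (EtCoh.top X)),
      EtDesc.secPull h B (a.hom.app _ s) =
        ((EtDesc.pullSh h).map a).hom.app _ (EtDesc.secPull h A s) := by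
    intro A B a s
    have e := congrArg (fun m => m.hom.app (op (EtCoh.top X)) s)
      ((EtDesc.adjSh h).unit.naturality a)
    simp only [EtDesc.secPull]
    refine (congrArg (((EtDesc.pullSh h).obj B).obj.map (EtCore.bcTopIso h).inv.op) e).trans ?_
    exact (NatTrans.naturality_apply ((EtDesc.pullSh h).map a).hom _ _).symm
  have heq : (pushout.inl u u).hom.app (op (EtCoh.top X)) g =
      (pushout.inr u u).hom.app (op (EtCoh.top X)) g := by
    apply hinj
    rw [hnat, hnat, hg]
    refine Eq.trans ?_ (congrArg (fun m => ((EtDesc.pullSh h).map m).hom.app _ ξ)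
      (pushout.condition (f := u) (g := u)) |>.trans ?_)
    · simp only [Functor.map_comp]; rfl
    · simp only [Functor.map_comp]; rfl
  obtain ⟨f, hf, -⟩ := Types.exists_of_isPullback hp' g g heq
  refine ⟨f, ?_⟩
  have hm : Mono ((EtDesc.pullSh h).map u) :=
    Groth.Agent.EtaleSite.SetStalk.mono_of_stalk _ fun Ω _ _ ζ =>
      (Groth.Agent.EtaleSite.SetStalk.stalk_pull_map_bijective_iff h u ζ).1.2
        (Groth.Agent.EtaleSite.SetStalk.stalk_injective_of_mono u (ζ ≫ h))
  have hm' : Mono ((EtDesc.pullSh h).map u).hom :=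
    inferInstanceAs (Mono ((sheafToPresheaf _ _).map ((EtDesc.pullSh h).map u)))
  apply (CategoryTheory.mono_iff_injective (((EtDesc.pullSh h).map u).hom.app
    (op (EtCoh.top Y)))).1 inferInstance
  rw [← hnat, ← hg]
  exact congrArg _ hf

end Groth.Agent.S8542
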