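import Groth.Statements.S8545
import Groth.Agent.SHDim93.Ring
import Groth.Agent.SHDim93.Residue
import Groth.Agent.CycLib.FieldDelta
import Groth.Agent.CycLib.FibreDim
import Groth.Agent.CycLib.Interval
import Groth.Agent.CycLib.SpecPt
import Groth.Agent.VarDim.Scheme
import Groth.Agent.FibCodepth.SkNhd
import Groth.Agent.S9126
-- import your own Groth.Agent.* helpers here

set_option autoImplicit false
universe u
open CategoryTheory CategoryTheory.Limits AlgebraicGeometry Opposite
open EtCd

namespace Groth.Agent.S8545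

/-- Let f : X → Y be a morphism of schemes of finite type over a field k, x a point of X with image y,
y₀ a specialization of y in Y, R a strict henselization of the local ring of Y at y₀ with Y' = Spec
R → Y the strict localization and X' = X ×_Y Y' with projection f' : X' → Y', and let x' be a point
of X' lying over x, with image y' in Y'. Writing δ(x') = dim closure(y') + trdeg(κ(x')/κ(y'))
(closure in Y' = Spec R, so dim closure(y') = dim R/p_{y'}) and d for the dimension of the closure
of a point in X or Y, one has δ(x') = d(x) - d(y₀); stated as δ(x') + d(y₀) = d(x). -/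
theorem result (k : Type u) [Field k] {X Y : Scheme.{u}}
    (aX : X ⟶ Spec (CommRingCat.of k)) (aY : Y ⟶ Spec (CommRingCat.of k)) [LocallyOfFiniteType aX] [QuasiCompact aX]
    [LocallyOfFiniteType aY] [QuasiCompact aY] (f : X ⟶ Y) (w : f ≫ aY = aX) (x : X) (y₀ : Y) (hsp : f.base x ⤳ y₀)
    (R : Type u) [CommRing R] [IsLocalRing R] [Algebra (Y.presheaf.stalk y₀) R]
    [IsLocalHom (algebraMap (Y.presheaf.stalk y₀) R)] [Hensel.IsStrictHenselization (Y.presheaf.stalk y₀) R]
    (x' : ↥(pullback f (Hens2.specOf Y y₀ R))) (hx' : (pullback.fst f (Hens2.specOf Y y₀ R)).base x' = x)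
    (a b dx dy : ℕ)
    (ha : ringKrullDim (R ⧸ ((pullback.snd f (Hens2.specOf Y y₀ R)).base x').asIdeal) = a)
    (hb : letI := ((pullback.snd f (Hens2.specOf Y y₀ R)).residueFieldMap x').hom.toAlgebra;
      Algebra.trdeg ((Spec (CommRingCat.of R)).residueField ((pullback.snd f (Hens2.specOf Y y₀ R)).base x'))
        ((pullback f (Hens2.specOf Y y₀ R)).residueField x') = b)
    (hdx : topologicalKrullDim ↥(closure ({x} : Set X)) = dx)
    (hdy : topologicalKrullDim ↥(closure ({y₀} : Set Y)) = dy) :
    a + b + dy = dx := by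
  classical
  have hhX : ∀ (Z : Scheme.{u}) (c : Z ⟶ Spec (CommRingCat.of k)) [LocallyOfFiniteType c] (z : Z) (d : ℕ),
      topologicalKrullDim ↥(closure ({z} : Set Z)) = d → CycLib.fdelta k c z = d := by
    intro Z c _ z d hd
    letI : Z.Over (Spec (CommRingCat.of k)) := ⟨c⟩
    haveI : LocallyOfFiniteType (Z ↘ Spec (CommRingCat.of k)) := ‹LocallyOfFiniteType c›
    have h1 := (CycLib.topologicalKrullDim_closure Z z).symm.trans hd
    rw [VarDim.height_eq_dimPt k z] at h1
    show ((VarDim.dimPt k Z z : ℕ) : ℤ) = d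
    exact_mod_cast h1
  have hdX := hhX X aX x dx hdx
  have hdY := hhX Y aY y₀ dy hdy
  obtain ⟨t, ht, htx⟩ := CycLib.deltaCompat_fdelta k f aX aY w x
  let g := Hens2.specOf Y y₀ R
  let y' := (pullback.snd f g).base x'
  let O := Y.presheaf.stalk y₀
  have hg : g.base y' = f.base x := by
    rw [← hx', ← Scheme.Hom.comp_apply, ← Scheme.Hom.comp_apply, pullback.condition]
  -- the base
  haveI : IsLocallyNoetherian Y := LocallyOfFiniteType.isLocallyNoetherian aY
  obtain ⟨_, ⟨V, hV, rfl⟩, hyV, -⟩ :=
    Y.isBasis_affineOpens.exists_subset_of_mem_open (Set.mem_univ y₀) isOpen_univ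
  have hcat : CAlg.IsUniversallyCatenary O := by
    let φ : CommRingCat.of k ⟶ Γ(Y, V) :=
      (Scheme.ΓSpecIso (CommRingCat.of k)).inv ≫ aY.appLE ⊤ V le_top
    letI : Algebra k Γ(Y, V) := φ.hom.toAlgebra
    haveI : Algebra.FiniteType k Γ(Y, V) := by
      have h := aY.finiteType_appLE (isAffineOpen_top (Spec (CommRingCat.of k))) hV
        (show V ≤ aY ⁻¹ᵁ ⊤ from le_top)
      exact RingHom.FiniteType.comp h (RingHom.FiniteType.of_surjective _
        (Scheme.ΓSpecIso (CommRingCat.of k)).commRingCatIsoToRingEquiv.symm.surjective)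
    letI : Algebra Γ(Y, V) O := TopCat.Presheaf.algebra_section_stalk Y.presheaf (⟨y₀, hyV⟩ : V)
    haveI : IsLocalization.AtPrime O (hV.primeIdealOf ⟨y₀, hyV⟩).asIdeal := hV.isLocalization_stalk ⟨y₀, hyV⟩
    haveI : Algebra.EssFiniteType Γ(Y, V) O :=
      Algebra.EssFiniteType.of_isLocalization _ (hV.primeIdealOf ⟨y₀, hyV⟩).asIdeal.primeCompl
    exact S9126.result Γ(Y, V) O (S9126.result k Γ(Y, V) (FibCodepth.SkNhd.isUniversallyCatenary_field k))
  have hE := Groth.Agent.Hensel.isEtLike_of_isStrictHenselization O R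
  -- the dimension of the base
  have hp : y'.asIdeal.comap (algebraMap O R) = RingHom.ker (Cyc.specMap y₀ (f.base x) hsp) := by
    refine congrArg PrimeSpectrum.asIdeal (show
      (Spec.map (CommRingCat.ofHom (algebraMap O R)) y' : PrimeSpectrum O) = CycLib.ptPrime y₀ (f.base x) hsp from ?_)
    refine (Y.fromSpecStalk y₀).isEmbedding.injective ?_
    rw [CycLib.fromSpecStalk_ptPrime]
    exact hg
  have hdim := SHDim93.ringKrullDim_quotient_eq hE hcat y'.asIdeal
  rw [hp] at hdim
  have hloc := CycLib.ringKrullDim_locQuot (CycLib.isDimFun_fdelta k aY) hsp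
  have hle := CycLib.le_of_specializes (CycLib.isDimFun_fdelta k aY) hsp
  have haz : (a : ℤ) = CycLib.fdelta k aY (f.base x) - CycLib.fdelta k aY y₀ := by
    have h := (ha.symm.trans hdim).trans hloc
    have h' : a = (CycLib.fdelta k aY (f.base x) - CycLib.fdelta k aY y₀).toNat := by exact_mod_cast h
    omega
  -- residue fields
  subst hx'
  have halg : letI := (SHDim93.baseRes f g x').hom.toAlgebra
      Algebra.IsAlgebraic (Y.residueField (f.base ((pullback.fst f g).base x')))
        ((Spec (CommRingCat.of R)).residueField y') := by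
    let j := SHDim93.baseRes f g x'
    letI := j.hom.toAlgebra
    let ev : CommRingCat.of R ⟶ (Spec (CommRingCat.of R)).residueField y' :=
      ((Scheme.ΓSpecIso (CommRingCat.of R)).inv ≫ (Spec (CommRingCat.of R)).presheaf.germ ⊤ y' trivial) ≫
        (Spec (CommRingCat.of R)).residue y'
    let ι : O ⟶ Y.residueField (f.base ((pullback.fst f g).base x')) :=
      Y.presheaf.stalkSpecializes hsp ≫ Y.residue _
    have hev : Spec.map ev = (Spec (CommRingCat.of R)).fromSpecResidueField y' := by
      rw [Spec.map_comp, ← Spec.fromSpecStalk_eq]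
      rfl
    have hc : CommRingCat.ofHom (algebraMap O R) ≫ ev = ι ≫ j := by
      apply Spec.map_injective
      rw [← cancel_mono (Y.fromSpecStalk y₀), Spec.map_comp, Category.assoc, hev]
      show (Spec (CommRingCat.of R)).fromSpecResidueField y' ≫ g = _
      simp only [ι, j, SHDim93.baseRes, Spec.map_comp, Category.assoc]
      rw [Scheme.SpecMap_stalkSpecializes_fromSpecStalk]
      show _ = Spec.map (g.residueFieldMap y') ≫ Spec.map (Y.residueFieldCongr _).inv ≫
        Y.fromSpecResidueField (f.base ((pullback.fst f g).base x'))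
      rw [Scheme.residueFieldCongr_inv, Scheme.residueFieldCongr_fromSpecResidueField,
        Scheme.Hom.SpecMap_residueFieldMap_fromSpecResidueField]
    have key : ∀ z : R, IsAlgebraic (Y.residueField (f.base ((pullback.fst f g).base x'))) (ev.hom z) :=
      SHDim93.exists_relation hE y'.asIdeal ι.hom ev.hom (congrArg CommRingCat.Hom.hom hc)
    refine ⟨fun z => ?_⟩
    obtain ⟨z, rfl⟩ := (Spec (CommRingCat.of R)).residue_surjective y' z
    letI : Algebra R ((Spec (CommRingCat.of R)).presheaf.stalk y') := StructureSheaf.stalkAlgebra R y'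
    haveI : IsLocalization.AtPrime ((Spec (CommRingCat.of R)).presheaf.stalk y') y'.asIdeal :=
      StructureSheaf.IsLocalization.to_stalk R y'
    obtain ⟨⟨r, s⟩, hrs⟩ := IsLocalization.surj y'.asIdeal.primeCompl z
    have hs : ev.hom s ≠ 0 :=
      ((IsLocalization.map_units ((Spec (CommRingCat.of R)).presheaf.stalk y') s).map
        ((Spec (CommRingCat.of R)).residue y').hom).ne_zero
    have hzs : ((Spec (CommRingCat.of R)).residue y').hom z * ev.hom s = ev.hom r :=
      (map_mul ((Spec (CommRingCat.of R)).residue y').hom z _).symm.trans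
        (congrArg ((Spec (CommRingCat.of R)).residue y').hom hrs)
    rw [(eq_mul_inv_iff_mul_eq₀ hs).2 hzs]
    exact (key r).mul (key s).inv
  have htr := SHDim93.trdeg_eq f g x' halg
  have hb' : (b : Cardinal.{u}) = t := hb.symm.trans (htr.trans ht)
  have hbt : b = t := Nat.cast_inj.1 hb'
  subst hbt
  omega

end Groth.Agent.S8545
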