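import Groth.Statements.S8546
import Groth.Agent.EtConsAb.SurjDescent
import Groth.Agent.EtConsAb.Strata

set_option autoImplicit false
universe u
open CategoryTheory CategoryTheory.Limits AlgebraicGeometry Opposite
open EtPBC

namespace Groth.Agent.S8546

/-- Let f : X → Y be a surjective morphism locally of finite presentation and F an abelian sheaf on the
small etale site of Y. Then F is constructible if and only if f⁻¹F is constructible. (No
quasi-compactness hypothesis on X or Y.) -/
theorem result {X Y : Scheme.{u}} (f : X ⟶ Y) [Surjective f]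
    [LocallyOfFinitePresentation f] (F : EtCoh.Ab Y) :
    EtPBC.IsConstructible F ↔ EtPBC.IsConstructible ((EtCoh.pull f).obj F) := by
  classical
  refine ⟨fun h => Groth.Agent.EtConsAb.isConstructible_pull f h, fun h => ?_⟩
  refine Groth.Agent.EtConsAb.isConstructible_of_forall_exists fun y => ?_
  obtain ⟨V, hV, hyV, -⟩ := exists_isAffineOpen_mem_and_subset (show y ∈ (⊤ : Y.Opens) from trivial)
  haveI : IsAffine V.toScheme := hV
  have hex : ∀ x : ↥(f ⁻¹ᵁ V), ∃ W : X.Opens, IsAffineOpen W ∧ x.1 ∈ W ∧ W ≤ f ⁻¹ᵁ V := fun x => by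
    obtain ⟨W, hW, hxW, hle⟩ := exists_isAffineOpen_mem_and_subset x.2
    exact ⟨W, hW, hxW, hle⟩
  choose W hW hxW hle using hex
  let g : ∀ x, (W x).toScheme ⟶ V.toScheme := fun x => f.resLE V (W x) (hle x)
  have hg : ∀ x, Topology.IsConstructible (Set.range (g x)) := fun x => by
    haveI : IsAffine (W x).toScheme := hW x
    haveI : LocallyOfFinitePresentation (g x) :=
      IsZariskiLocalAtSource.resLE (P := @LocallyOfFinitePresentation) (hle x) ‹_›
    rw [← Set.image_univ]
    exact (g x).isConstructible_image Topology.IsConstructible.univ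
  obtain ⟨t, ht⟩ := Groth.Agent.EtConsAb.exists_finite_subcover_of_isConstructible _ hg
    (Set.eq_univ_of_forall fun v => by
      obtain ⟨x, hx⟩ := f.surjective v.1
      have hxV : x ∈ f ⁻¹ᵁ V := show f x ∈ V by rw [hx]; exact v.2
      refine Set.mem_iUnion.2 ⟨⟨x, hxV⟩, ⟨x, hxW ⟨x, hxV⟩⟩, Subtype.ext ?_⟩
      have e := congrArg (fun k : (W ⟨x, hxV⟩).toScheme ⟶ Y => k ⟨x, hxW ⟨x, hxV⟩⟩)
        (Scheme.Hom.resLE_comp_ι f (hle ⟨x, hxV⟩))
      exact e.trans hx)
  refine ⟨V, V.ι, inferInstance, ⟨⟨y, hyV⟩, rfl⟩, ?_⟩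
  haveI : ∀ i : t, IsAffine (W i.1).toScheme := fun i => hW _
  refine Groth.Agent.EtConsAb.isConstructible_of_pull_family (fun i : t => (W i.1).toScheme) (fun i => g i.1)
    (fun v => ?_) fun i => ?_
  · obtain ⟨x, hx, w, hw⟩ := Set.mem_iUnion₂.1 (ht.ge (Set.mem_univ v))
    exact ⟨⟨x, hx⟩, w, hw⟩
  · refine Groth.Agent.EtConsAb.isConstructible_of_iso
      (((Groth.Agent.EtConsAb.pullComp f (W i.1).ι).app F) ≪≫
        (Groth.Agent.EtConsAb.pullCongr (Scheme.Hom.resLE_comp_ι f (hle i.1)).symm).app F ≪≫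
        ((Groth.Agent.EtConsAb.pullComp V.ι (g i.1)).app F).symm) ?_
    exact Groth.Agent.EtConsAb.isConstructible_pull (W i.1).ι h

end Groth.Agent.S8546
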