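import Groth.Statements.S8547
import Groth.Agent.DescSh.Square

set_option autoImplicit false
universe u
open CategoryTheory CategoryTheory.Limits AlgebraicGeometry Opposite
open EtBC

namespace Groth.Agent.S8547
open Groth.Agent.DescSh

/-- Let h : Y → X and p : X̄ → X be morphisms of schemes with X, Y, X̄ quasi-compact and quasi-separated
(p need not be surjective), and Ȳ = Y ×_X X̄ with projections h̄ : Ȳ → X̄ and p_Y : Ȳ → Y. If the
pullback map on global sections Γ(X, F) → Γ(Y, h^*F) is injective for every sheaf of sets F on X and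
the base change morphism h^* p_* F̄ → p_{Y*} h̄^* F̄ is a monomorphism for every sheaf of sets F̄ on
X̄, then Γ(X̄, F̄) → Γ(Ȳ, h̄^*F̄) is injective for every F̄. If the maps for h are bijective and the
base change morphisms are isomorphisms, then the maps for h̄ are bijective. -/
theorem result {X Y Xb Yb : Scheme.{u}} [CompactSpace X]
    [QuasiSeparatedSpace X] [CompactSpace Y] [QuasiSeparatedSpace Y] [CompactSpace Xb] [QuasiSeparatedSpace Xb]
    (h : Y ⟶ X) (p : Xb ⟶ X) (hb : Yb ⟶ Xb) (pY : Yb ⟶ Y) (sq : IsPullback hb pY p h) :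
    ((∀ F : EtDesc.Sh X, Function.Injective (EtDesc.secPull h F)) →
      (∀ Fb : EtDesc.Sh Xb, Mono (EtBC.baseChange0Sh p h pY hb sq.w Fb)) →
      ∀ Fb : EtDesc.Sh Xb, Function.Injective (EtDesc.secPull hb Fb)) ∧
    ((∀ F : EtDesc.Sh X, Function.Bijective (EtDesc.secPull h F)) →
      (∀ Fb : EtDesc.Sh Xb, IsIso (EtBC.baseChange0Sh p h pY hb sq.w Fb)) →
      ∀ Fb : EtDesc.Sh Xb, Function.Bijective (EtDesc.secPull hb Fb)) := by
  have hTp : IsTerminal ((EtCoh.bc p).obj (EtCoh.top X)) := EtCore.bcTopIsTerminal p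
  have hTY : IsTerminal ((EtCoh.bc pY).obj ((EtCoh.bc h).obj (EtCoh.top X))) :=
    (EtCore.bcTopIsTerminal h).isTerminalObj (EtCoh.bc pY) _
  have hTX : IsTerminal ((EtCoh.bc hb).obj ((EtCoh.bc p).obj (EtCoh.top X))) :=
    hTp.isTerminalObj (EtCoh.bc hb) _
  let e := hTY.uniqueUpToIso hTX
  have key : ∀ Fb : EtDesc.Sh Xb,
      (fun v => (EtBC.baseChange0Sh p h pY hb sq.w Fb).hom.app (op ((EtCoh.bc h).obj (EtCoh.top X))) v) ∘
          secUp h ((EtDesc.pushSh p).obj Fb) (V := EtCoh.top X) =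
        ((EtDesc.pullSh hb).obj Fb).obj.map e.hom.op ∘ secUp hb Fb (V := (EtCoh.bc p).obj (EtCoh.top X)) := by
    intro Fb
    funext u
    refine (baseChange0Sh_secUp h p hb pY sq.w Fb (EtCoh.top X) u).trans ?_
    rw [show sqHom h p hb pY sq.w (EtCoh.top X) = e.hom from hTX.hom_ext _ _]
    rfl
  refine ⟨fun hh hm Fb => ?_, fun hh hm Fb => ?_⟩
  · rw [injective_secPull_iff_secUp hb Fb hTp, ← (bijective_map_iso _ e).1.of_comp_iff, ← key]
    haveI := hm Fb
    exact (app_injective _ _).comp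
      ((injective_secPull_iff_secUp h _ (EtCore.topIsTerminal X)).1 (hh _))
  · rw [bijective_secPull_iff_secUp hb Fb hTp, ← (bijective_map_iso _ e).of_comp_iff', ← key]
    haveI := hm Fb
    refine Function.Bijective.comp ?_ ((bijective_secPull_iff_secUp h _ (EtCore.topIsTerminal X)).1 (hh _))
    exact (ConcreteCategory.isIso_iff_bijective _).1
      (isIso_app_of_isIso (EtBC.baseChange0Sh p h pY hb sq.w Fb) (op ((EtCoh.bc h).obj (EtCoh.top X))))

end Groth.Agent.S8547
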