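import Groth.Statements.S8554
import Groth.Agent.NATorsor.Godement
import Groth.Agent.EtaleSite.Stalk

set_option autoImplicit false
universe u
open CategoryTheory CategoryTheory.Limits AlgebraicGeometry Opposite
open NonAbH1

namespace Groth.Agent.S8554

/-- Every sheaf of groups F on the small etale site of a scheme X embeds into a sheaf of groups G with
vanishing first non-abelian cohomology on every etale X-scheme: there are G and a morphism u : F ⟶
G, injective on sections over every object of the site, such that for every etale X-scheme U every
torsor under the restriction of G to the induced site over U is trivial, i.e. H¹(U, G) is reduced to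
its base point. (The published statement adds that the first higher direct images of G along any
morphism of schemes then vanish as pointed sheaves; that clause follows from this one and is not
stated here.) -/
theorem result {X : Scheme.{u}}
    (F : Sheaf X.smallEtaleTopology GrpCat.{u + 1}) :
    ∃ (G : Sheaf X.smallEtaleTopology GrpCat.{u + 1}) (φ : F ⟶ G),
      (∀ U : X.Etaleᵒᵖ, Function.Injective (φ.hom.app U)) ∧
      ∀ (U : X.Etale) (P : NonAbH1.Torsor (G.over U)), P.IsTrivial := by
  let Φ : X → GrothendieckTopology.Point.{u} X.smallEtaleTopology := fun s => Scheme.pointSmallEtale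
    ((Scheme.SpecToEquivOfField (SeparableClosure (X.residueField s)) _).2
      ⟨s, CommRingCat.ofHom (algebraMap (X.residueField s) _)⟩)
  let K : X → GrpCat.{u + 1} := fun s => GrpCat.of (Groth.Agent.NATorsor.PointGerm.Germ (Φ s) F.obj)
  let φ : F ⟶ Groth.Agent.NATorsor.Godement.sheaf.{u, u + 1, u, u + 1} Φ K :=
    ⟨{ app := fun V => GrpCat.ofHom
        { toFun := fun a s y => Groth.Agent.NATorsor.PointGerm.germHom (Φ s) F.obj ⟨V.unop, y⟩ a
          map_one' := by funext s y; exact map_one _
          map_mul' := fun a b => by funext s y; exact map_mul _ a b }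
       naturality := fun V W f => GrpCat.hom_ext (MonoidHom.ext fun a => by
         funext s y
         exact Groth.Agent.NATorsor.PointGerm.germHom_map f.unop y a) }⟩
  refine ⟨_, φ, fun U a b h => ?_, fun U P => ?_⟩
  · let S : Sieve U.unop :=
      { arrows := fun V g => F.obj.map g.op a = F.obj.map g.op b
        downward_closed := fun {V W f} hf g => by
          simp only [op_comp, Functor.map_comp, ConcreteCategory.comp_apply]
          rw [hf] }
    refine Groth.Agent.NATorsor.grp_ext F (S := S) ?_ fun T g hg => hg
    refine Groth.Agent.EtaleSite.mem_topology_of_forall_exists S fun p => ?_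
    obtain ⟨x, hx⟩ := Scheme.pointSmallEtaleFiberObjToPreimage_surjective
      ((Scheme.SpecToEquivOfField (SeparableClosure (X.residueField (U.unop.hom p))) _).2
        ⟨U.unop.hom p, CommRingCat.ofHom (algebraMap (X.residueField (U.unop.hom p)) _)⟩)
      (s₀ := U.unop.hom p) (by simp [Scheme.SpecToEquivOfField]) U.unop ⟨p, rfl⟩
    obtain ⟨V, g, y, hy, hg⟩ := Groth.Agent.NATorsor.PointGerm.exists_of_germHom_eq (Φ := Φ (U.unop.hom p)) x
      (congrFun (congrFun h (U.unop.hom p)) x)
    refine ⟨V, g, (show (Over.mk _ ⟶ Over.mk V.hom) from y).left (default : Spec (.of (SeparableClosure (X.residueField (U.unop.hom p))))), hg, ?_⟩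
    have h2 := congrArg Subtype.val hx
    rw [← hy] at h2
    exact h2
  · exact Groth.Agent.NATorsor.Godement.isTrivial_of_hasSection P (Groth.Agent.NATorsor.Godement.hasSection P)

end Groth.Agent.S8554
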