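import Groth.Statements.S8562
import Groth.Agent.EtaleSite.Covers

set_option backward.isDefEq.respectTransparency false
-- import your own Groth.Agent.* helpers here

set_option autoImplicit false
universe u
open CategoryTheory CategoryTheory.Limits AlgebraicGeometry Opposite
open NonAbH1

namespace Groth.Agent.S8562

/-- Exactness of the sequence 0 → H¹(Y, f_*F) → H¹(X, F) → H⁰(Y, R¹f_*F) at its middle term, in terms of
torsors: let f : X ⟶ Y be a morphism of schemes, F a sheaf of groups on the small etale site of X,
f_*F its direct image on Y (sections over an etale Y-scheme V are the sections of F over X ×_Y V),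
and Q an F-torsor. Then Q is the image of a class in H¹(Y, f_*F), in the sense that there are an
f_*F-torsor P on Y and a morphism of sheaves of sets from P to the direct image of the sheaf
underlying Q which is equivariant for the actions of f_*F, if and only if the class of Q is locally
trivial over Y: there is a jointly surjective family of etale Y-schemes Y_i such that Q has a
section over every X ×_Y Y_i. -/
theorem result {X Y : Scheme.{u}} (f : X ⟶ Y)
    [EtCoh.BCCont f] (F : Sheaf X.smallEtaleTopology GrpCat.{u + 1}) (Q : NonAbH1.Torsor F) :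
    (∃ (P : NonAbH1.Torsor (((EtCoh.bc f).sheafPushforwardContinuous GrpCat.{u + 1}
        Y.smallEtaleTopology X.smallEtaleTopology).obj F))
      (φ : P.P ⟶ ((EtCoh.bc f).sheafPushforwardContinuous (Type (u + 1))
        Y.smallEtaleTopology X.smallEtaleTopology).obj Q.P),
      ∀ (V : Y.Etaleᵒᵖ) (g : F.obj.obj (op ((EtCoh.bc f).obj V.unop))) (s : P.P.obj.obj V),
        φ.hom.app V (P.smul g s) = Q.smul g (φ.hom.app V s)) ↔
    ∃ (ι : Type u) (V : ι → Y.Etale), EtCoh.Covers V ∧
      ∀ i, Nonempty (Q.P.obj.obj (op ((EtCoh.bc f).obj (V i)))) := by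
  constructor
  · rintro ⟨P, φ, -⟩
    let T : Y.Etale := MorphismProperty.Over.mk ⊤ (𝟙 Y) (show EtCoh.etaleMP (𝟙 Y) from inferInstanceAs (Etale (𝟙 Y)))
    obtain ⟨S, hS, hne⟩ := P.isTorsor.2 T
    choose V g v hg hv using fun y : Y => Groth.Agent.EtaleSite.Covers.exists_of_mem hS (y : T.left)
    refine ⟨Y, V, fun y => ⟨y, v y, ?_⟩, fun y => (hne (g y) (hg y)).map fun s => φ.hom.app (op (V y)) s⟩
    have hw : (g y).left ≫ T.hom = (V y).hom := MorphismProperty.Over.w (g y)
    rw [← hw, Scheme.Hom.comp_apply]
    refine (congrArg T.hom.base (hv y)).trans ?_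
    rfl
  · rintro ⟨ι, V, hV, hs⟩
    refine ⟨⟨{ P := ((EtCoh.bc f).sheafPushforwardContinuous (Type (u + 1))
                Y.smallEtaleTopology X.smallEtaleTopology).obj Q.P
               smul := fun {U} g s => Q.smul (U := op ((EtCoh.bc f).obj U.unop)) g s
               one_smul := fun {U} s => Q.one_smul (U := op ((EtCoh.bc f).obj U.unop)) s
               mul_smul := fun {U} g h s => Q.mul_smul (U := op ((EtCoh.bc f).obj U.unop)) g h s
               map_smul := fun {U W} k g s => Q.map_smul (U := op ((EtCoh.bc f).obj U.unop))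
                 ((EtCoh.bc f).map k.unop).op g s }, ⟨fun U p q => Q.isTorsor.1 (op ((EtCoh.bc f).obj U.unop)) p q, fun U => ?_⟩⟩,
      𝟙 _, fun _ _ _ => rfl⟩
    refine ⟨{ arrows := fun W _ => Nonempty (Q.P.obj.obj (op ((EtCoh.bc f).obj W)))
              downward_closed := fun {_ _ _} h k => h.map (Q.P.obj.map ((EtCoh.bc f).map k).op) },
      Groth.Agent.EtaleSite.mem_topology_of_forall_exists _ fun u => ?_, fun W k hk => hk⟩
    obtain ⟨i, w, hw⟩ := hV (U.hom.base u)
    obtain ⟨z, hz, -⟩ := Scheme.Pullback.exists_preimage_pullback (f := U.hom) (g := (V i).hom) u w hw.symm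
    have : Etale U.hom := U.prop
    have : Etale (V i).hom := (V i).prop
    let W : Y.Etale := MorphismProperty.Over.mk ⊤ (Limits.pullback.fst U.hom (V i).hom ≫ U.hom)
      (show EtCoh.etaleMP _ from inferInstanceAs (Etale (Limits.pullback.fst U.hom (V i).hom ≫ U.hom)))
    let a : W ⟶ U := MorphismProperty.Over.homMk (Limits.pullback.fst U.hom (V i).hom) rfl
    let b : W ⟶ V i := MorphismProperty.Over.homMk (Limits.pullback.snd U.hom (V i).hom)
      Limits.pullback.condition.symm
    exact ⟨W, a, z, (hs i).map (Q.P.obj.map ((EtCoh.bc f).map b).op), hz⟩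

end Groth.Agent.S8562
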