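import Groth.Statements.S8564
import Groth.Agent.SiteCoh.Totally

set_option autoImplicit false
open CategoryTheory CategoryTheory.Limits
universe u
open CohCx

namespace Groth.Agent.S8564

/-- Let (F_t) be a family of abelian sheaves on a small site, indexed by a small set, such that each F_t
is totally acyclic, i.e. H^p(K, F_t) = 0 for every sheaf of sets K and every p > 0. Then the product
sheaf of the family is totally acyclic. (The published statement is for modules over a ringed topos;
this row is the case of abelian sheaves.) -/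
theorem result {C : Type u} [SmallCategory C] (J : GrothendieckTopology C)
    {T : Type u} (F : T → Sheaf J AddCommGrpCat.{u}) (hF : ∀ t, CohCx.IsTotallyAcyclic (F t)) :
    CohCx.IsTotallyAcyclic (∏ᶜ F) := by
  refine SiteCoh.Totally.isTotallyAcyclic_of_nerve _ fun K' K f _ p => ?_
  have := SiteCoh.Nerve.quasiIso_free_nerve f
  let X := ((SimplicialObject.Augmented.whiskering _ _).obj (SiteCoh.Free.freePre J)).obj
    (SiteCoh.Nerve.nerve f)
  let P := (AlgebraicTopology.alternatingFaceMapComplex _).obj X.left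
  have hz : ∀ t, IsZero (((SiteCoh.HomRes.homCx P).obj (F t)).homology (p + 1)) := fun t => by
    obtain ⟨e⟩ := SiteCoh.HomRes.nonempty_homology_addEquiv_ext
      (AlgebraicTopology.AlternatingFaceMapComplex.ε.app X) (p + 1) (F t)
      (fun m k => hF t ((Arrow.mk f).cechNerve.obj (Opposite.op (SimplexCategory.mk m))) k)
    exact @AddCommGrpCat.isZero_of_subsingleton _ (@Equiv.subsingleton _ _ e.toEquiv (hF t K p))
  refine IsZero.of_iso ?_
    ((HomologicalComplex.homologyFunctor _ _ (p + 1)).mapIso (SiteCoh.Totally.nerveCxIso (∏ᶜ F) f))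
  change IsZero (((SiteCoh.HomRes.homCx P).obj (∏ᶜ F)).homology (p + 1))
  rw [← HomologicalComplex.exactAt_iff_isZero_homology,
    HomologicalComplex.exactAt_iff' _ p (p + 1) (p + 1 + 1) (by simp) (by simp),
    ShortComplex.ab_exact_iff]
  intro (φ : P.X (p + 1) ⟶ ∏ᶜ F) hφ
  have hφ' : P.d (p + 1 + 1) (p + 1) ≫ φ = 0 :=
    (SiteCoh.HomRes.homCx_d_apply P _ (p + 1) φ).symm.trans hφ
  have hlift : ∀ t, ∃ g : P.X p ⟶ F t, P.d (p + 1) p ≫ g = φ ≫ Limits.Pi.π F t := fun t => by
    have h := hz t
    rw [← HomologicalComplex.exactAt_iff_isZero_homology,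
      HomologicalComplex.exactAt_iff' _ p (p + 1) (p + 1 + 1) (by simp) (by simp),
      ShortComplex.ab_exact_iff] at h
    obtain ⟨g, hg⟩ := h (φ ≫ Limits.Pi.π F t)
      ((SiteCoh.HomRes.homCx_d_apply P (F t) (p + 1) _).trans
        (by rw [← Category.assoc, hφ', zero_comp]; rfl))
    exact ⟨g, (SiteCoh.HomRes.homCx_d_apply P (F t) p g).symm.trans hg⟩
  choose g hg using hlift
  refine ⟨Limits.Pi.lift g, (SiteCoh.HomRes.homCx_d_apply P _ p _).trans ?_⟩
  refine Limits.Pi.hom_ext _ _ fun t => ?_
  change (P.d (p + 1) p ≫ Limits.Pi.lift g) ≫ Limits.Pi.π F t = φ ≫ Limits.Pi.π F t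
  rw [Category.assoc, Limits.Pi.lift_π, hg]

end Groth.Agent.S8564
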