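import Groth.Statements.S8567
import Groth.Agent.CohTop.Proper.Nbhd

set_option autoImplicit false
open CategoryTheory TopologicalSpace Opposite
universe u
open CohTop

namespace Groth.Agent.S8567

open TopologicalSpace Opposite Groth.Agent.CohTop.Proper.Extend Groth.Agent.CohTop.Proper.Soft
  Groth.Agent.CohTop.Proper.Nbhd

theorem surjective_unit {K A : TopCat.{u}} [CompactSpace K] [T2Space K] [CompactSpace A]
    (G : CohTop.Ab K) (hG : IsSoft G) (j : A ⟶ K) (hj : Topology.IsClosedEmbedding j)
    (t : ((CohTop.pull j).obj G).obj.obj (op ⊤)) :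
    ∃ s : G.obj.obj (op ⊤), uni j G ⊤ s = t := by
  classical
  have hs : Sep j := fun z z' h => by
    obtain ⟨O, O', hO, hO', hz, hz', hd⟩ := t2_separation (fun e => h (hj.injective e))
    exact ⟨⟨O, hO⟩, ⟨O', hO'⟩, hz, hz', disjoint_iff_inf_le.2 fun x hx => hd.le_bot hx⟩
  obtain ⟨U, hU, a, ha⟩ := exists_section_near j G hj.isInducing hs t
  let b : ∀ z : K, St G z := fun z => if h : z ∈ U then gm G a z h else 0
  obtain ⟨s, hs'⟩ := hG (Set.range j) hj.isClosed_range b (fun z hz => by
    obtain ⟨w, rfl⟩ := hz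
    exact ⟨U, hU w, a, fun z' _ h => (dif_pos h).symm⟩)
  refine ⟨s, TopCat.Presheaf.section_ext _ _ _ _ fun w hw => ?_⟩
  refine (σi_gm j G s w trivial).symm.trans ?_
  have e : gm G s (j w) trivial = gm G a (j w) (hU w) := (hs' (j w) ⟨w, rfl⟩).trans (dif_pos (hU w))
  refine (congrArg (σi j G w) e).trans ?_
  exact (gm_uniZ (i := j) G U hU a w hw).symm.trans
    (congrArg (fun t => gm ((CohTop.pull j).obj G) t w hw) ha)


/-- Let X be a topological space, K ⊆ X a compact subset such that any two distinct points of K have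
disjoint neighbourhoods in X, and F a flasque abelian sheaf on X. Then the inverse image F|K of F on
the subspace K is a soft sheaf: for every closed subset A of K, every section of (F|K)|A over A is
the restriction of a section of F|K over K (the restriction map is the unit of the inverse image /
direct image adjunction for the inclusion A → K, taken on global sections). -/
theorem result {X : TopCat.{u}} {K : Set X} (hK : IsCompact K)
    (hsep : ∀ x ∈ K, ∀ y ∈ K, x ≠ y → ∃ U V : Set X, IsOpen U ∧ IsOpen V ∧ x ∈ U ∧ y ∈ V ∧ Disjoint U V)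
    (F : CohTop.Ab X) [TopCat.Sheaf.IsFlasque F] {A : Set K} (hA : IsClosed A) :
    Function.Surjective
      ((((TopCat.Sheaf.pullbackPushforwardAdjunction AddCommGrpCat.{u}
        (TopCat.ofHom ⟨((↑) : A → K), continuous_subtype_val⟩ : TopCat.of A ⟶ TopCat.of K)).unit.app
        ((CohTop.pull (TopCat.ofHom ⟨((↑) : K → X), continuous_subtype_val⟩ : TopCat.of K ⟶ X)).obj F)).hom.app
        (op ⊤)).hom) := by
  intro t
  have : CompactSpace K := isCompact_iff_compactSpace.1 hK
  let i : TopCat.of K ⟶ X := TopCat.ofHom ⟨((↑) : K → X), continuous_subtype_val⟩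
  have hs : Sep i := fun z z' h => by
    obtain ⟨U, V, hU, hV, hz, hz', hd⟩ := hsep z.1 z.2 z'.1 z'.2 fun e => h (Subtype.ext e)
    exact ⟨⟨U, hU⟩, ⟨V, hV⟩, hz, hz', disjoint_iff_inf_le.2 fun x hx => hd.le_bot hx⟩
  have : T2Space (TopCat.of K) := hs.t2
  have : CompactSpace A := isCompact_iff_compactSpace.1 hA.isCompact
  exact surjective_unit _ (isSoft_pull i F Topology.IsInducing.subtypeVal hs) _
    hA.isClosedEmbedding_subtypeVal t

end Groth.Agent.S8567
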