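import Groth.Statements.S8580
import Groth.Agent.EtaleSite.CechSection
-- import your own Groth.Agent.* helpers here

set_option autoImplicit false
open CategoryTheory CategoryTheory.Limits AlgebraicGeometry
universe u
open EtDesc

namespace Groth.Agent.S8580

/-- In the setting of schemes and abelian sheaves on their small etale sites (where every morphism is
flat for the inverse image of sheaves), let f : X → Y be a morphism of schemes with a section s, s
followed by f being the identity, and F any abelian sheaf on the small etale site of Y. Then f is of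
universal cohomological descent, and the descent spectral sequence reads, in existence form: there
is a bounded spectral sequence of abelian groups starting at page one with E_1^{p,q} isomorphic, for
p, q ≥ 0, to the etale cohomology group H^q(X_p, F|X_p), where X_p is the (p+1)-fold fibre product
of X over Y and F|X_p the inverse image of F along its projection to Y, and zero otherwise, together
with abutment data whose filtrations are finite on H^n(Y_et, F) for n ≥ 0 (zero for n < 0). (The E_1
identifications and the abutment isomorphisms are asserted to exist only; the differentials are not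
part of this statement.) -/
theorem result {X Y : Scheme.{u}} (f : X ⟶ Y) (s : Y ⟶ X)
    (hs : s ≫ f = 𝟙 Y) (F : EtCoh.Ab Y) :
    ∃ (E : CohomologicalSpectralSequence AddCommGrpCat.{u + 1} 1)
      (a : SpSeq.Abutment E (fun n : ℤ =>
        if 0 ≤ n then AddCommGrpCat.of (EtCoh.H Y F n.toNat) else AddCommGrpCat.of PUnit.{u + 2})),
      (∀ n, a.IsFinite n) ∧ SpSeq.IsBounded E ∧
      ∀ p q : ℤ, Nonempty ((E.page 1 le_rfl).X (p, q) ≅
        (if 0 ≤ p ∧ 0 ≤ q then
          AddCommGrpCat.of (EtCoh.H (widePullback Y (fun _ : Fin (p.toNat + 1) => X) (fun _ => f))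
            ((EtCoh.pull (WidePullback.base (fun _ : Fin (p.toNat + 1) => f) :
              widePullback Y (fun _ : Fin (p.toNat + 1) => X) (fun _ => f) ⟶ Y)).obj F) q.toNat)
         else AddCommGrpCat.of PUnit.{u + 2})) := by
  let K : ℕ → CochainComplex AddCommGrpCat.{u + 1} ℕ := fun q =>
    Groth.Agent.SpSeqLib.SplitSS.cochains (Groth.Agent.EtaleSite.CechSection.rowAug f F q)
  let A : ℤ → AddCommGrpCat.{u + 1} := fun n : ℤ =>
    if 0 ≤ n then AddCommGrpCat.of (EtCoh.H Y F n.toNat) else AddCommGrpCat.of PUnit.{u + 2}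
  have hA : ∀ n, n < 0 → IsZero (A n) := fun n hn => by
    simp only [A, if_neg (not_le.2 hn)]
    exact Groth.Agent.EtaleSite.CechSection.isZero_punit
  have hex : ∀ q n : ℕ, (K q).ExactAt (n + 1) := fun q n =>
    Groth.Agent.SpSeqLib.SplitSS.exactAt_cochains_succ
      (Groth.Agent.EtaleSite.CechSection.rowExtraDegeneracy f F s hs q) n
  let e₀ : ∀ q : ℕ, (K q).homology 0 ≅ A q := fun q =>
    Groth.Agent.SpSeqLib.SplitSS.cochainsHomologyZero
        (Groth.Agent.EtaleSite.CechSection.rowExtraDegeneracy f F s hs q) ≪≫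
      (Groth.Agent.EtaleSite.HpullFunctor.HfunBaseIso Y F q :) ≪≫
      eqToIso (by simp [A])
  obtain ⟨a, ha⟩ := Groth.Agent.SpSeqLib.SplitSS.nonempty_abutment A hA hex e₀
  refine ⟨Groth.Agent.SpSeqLib.SplitSS.ss K, a, ha, Groth.Agent.SpSeqLib.SplitSS.isBounded_ss K,
    fun p q => ?_⟩
  by_cases h : 0 ≤ p ∧ 0 ≤ q
  · obtain ⟨p, rfl⟩ := Int.eq_ofNat_of_zero_le h.1
    obtain ⟨q, rfl⟩ := Int.eq_ofNat_of_zero_le h.2
    rw [if_pos h]
    exact ⟨Groth.Agent.SpSeqLib.SplitSS.rowXIso K p q⟩
  · rw [if_neg h]
    refine ⟨IsZero.iso ?_ Groth.Agent.EtaleSite.CechSection.isZero_punit⟩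
    rcases not_and_or.1 h with h | h
    · exact Groth.Agent.SpSeqLib.SplitSS.isZero_row_of_neg_left K q (not_le.1 h)
    · exact Groth.Agent.SpSeqLib.SplitSS.isZero_row_of_neg K (not_le.1 h) p
end Groth.Agent.S8580
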