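import Groth.Statements.S8586
import Mathlib.RingTheory.Ideal.Height
import Mathlib.LinearAlgebra.Dimension.StrongRankCondition
import Mathlib.RingTheory.Ideal.KrullsHeightTheorem
import Mathlib.Logic.Relation


set_option autoImplicit false
universe u
open CAlg

namespace Groth.Agent.S8586

/-- A tuple is a system of parameters. -/
def IsSop {A : Type u} [CommRing A] [IsLocalRing A] {d : ℕ} (a : Fin d → A) : Prop :=
  (∀ i, a i ∈ IsLocalRing.maximalIdeal A) ∧
    IsLocalRing.maximalIdeal A ≤ (Ideal.span (Set.range a)).radical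

/-- One coordinate changes. -/
def Step {A : Type u} [CommRing A] [IsLocalRing A] {d : ℕ} (a b : Fin d → A) : Prop :=
  IsSop a ∧ IsSop b ∧ ∃ i : Fin d, ∀ i' : Fin d, i' ≠ i → a i' = b i'

theorem isSop_update {A : Type u} [CommRing A] [IsNoetherianRing A] [IsLocalRing A] {d : ℕ} {a : Fin d → A}
    (ha : IsSop a) (i₀ : Fin d) {z : A} (hz : z ∈ IsLocalRing.maximalIdeal A)
    (hQ : ∀ Q ∈ (Ideal.span (a '' {i | i ≠ i₀})).minimalPrimes, Q ≠ IsLocalRing.maximalIdeal A ∧ z ∉ Q) :
    IsSop (Function.update a i₀ z) := by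
  refine ⟨fun i => ?_, ?_⟩
  · by_cases h : i = i₀
    · subst h; simpa using hz
    · rw [Function.update_of_ne h]; exact ha.1 i
  rw [Ideal.radical_eq_sInf]
  refine le_sInf fun P ⟨hle, hP⟩ => ?_
  by_contra hne
  have hJ : Ideal.span (a '' {i | i ≠ i₀}) ≤ P := by
    refine Ideal.span_le.mpr ?_
    rintro _ ⟨i, hi, rfl⟩
    exact hle (Ideal.subset_span ⟨i, Function.update_of_ne hi _ _⟩)
  obtain ⟨Q, hQmin, hQP⟩ := Ideal.exists_minimalPrimes_le hJ
  have := hQmin.1.1
  have h1 : Q < P := lt_of_le_of_ne hQP fun h => (hQ Q hQmin).2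
    (h ▸ hle (Ideal.subset_span ⟨i₀, Function.update_self _ _ _⟩))
  let f := Ideal.Quotient.mk Q
  have hmmax := IsLocalRing.maximalIdeal.isMaximal A
  have hPm : P < IsLocalRing.maximalIdeal A :=
    lt_of_le_of_ne (IsLocalRing.le_maximalIdeal hP.ne_top) fun h => hne h.ge
  have hker : RingHom.ker f = Q := Ideal.mk_ker
  have hPp : (P.map f).IsPrime := Ideal.map_isPrime_of_surjective Ideal.Quotient.mk_surjective (by rw [hker]; exact hQP)
  have hmp : ((IsLocalRing.maximalIdeal A).map f).IsPrime :=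
    Ideal.map_isPrime_of_surjective Ideal.Quotient.mk_surjective (by rw [hker]; exact hQP.trans hPm.le)
  have c1 := Ideal.comap_map_mk hQP
  have c2 := Ideal.comap_map_mk (hQP.trans hPm.le)
  have hmin : (IsLocalRing.maximalIdeal A).map f ∈ (Ideal.span {f (a i₀)}).minimalPrimes := by
    refine ⟨⟨hmp, Ideal.span_le.mpr (Set.singleton_subset_iff.mpr (Ideal.mem_map_of_mem f (ha.1 i₀)))⟩, ?_⟩
    rintro p ⟨hp, hap⟩ -
    refine Ideal.map_le_iff_le_comap.mpr (ha.2.trans ((Ideal.IsPrime.radical_le_iff (hp.comap f)).mpr ?_))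
    refine Ideal.span_le.mpr ?_
    rintro _ ⟨i, rfl⟩
    by_cases h : i = i₀
    · subst h; exact hap (Ideal.mem_span_singleton_self _)
    · have : f (a i) = 0 := Ideal.Quotient.eq_zero_iff_mem.mpr (hQmin.1.2 (Ideal.subset_span ⟨i, h, rfl⟩))
      change f (a i) ∈ p
      rw [this]; exact zero_mem p
  have h3 := Ideal.height_le_one_of_isPrincipal_of_mem_minimalPrimes _ _ hmin
  have h4 : P.map f < (IsLocalRing.maximalIdeal A).map f := lt_of_le_of_ne (Ideal.map_mono hPm.le) fun h => by
    have := congrArg (Ideal.comap f) h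
    rw [c1, c2] at this
    exact hPm.ne this
  have h5 : (⊥ : Ideal (A ⧸ Q)) < P.map f := bot_lt_iff_ne_bot.mpr fun h => by
    have := congrArg (Ideal.comap f) h
    rw [c1, ← RingHom.ker_eq_comap_bot, hker] at this
    exact h1.ne this.symm
  have := Ideal.height_add_one_le_of_lt_of_isPrime h5
  have h6 := Ideal.height_add_one_le_of_lt_of_isPrime h4
  have h7 : ((2 : ℕ) : ℕ∞) ≤ 1 := le_trans (le_trans (by
    calc ((2 : ℕ) : ℕ∞) ≤ 0 + 1 + 1 := by norm_num
      _ ≤ (⊥ : Ideal (A ⧸ Q)).height + 1 + 1 := by gcongr; exact zero_le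
      _ ≤ (P.map f).height + 1 := by gcongr) h6) h3
  norm_num at h7

/-- Suppose A is a Cohen–Macaulay local ring whose Krull dimension is d, and consider two systems of
parameters u = (u_1, ..., u_d) and v = (v_1, ..., v_d) of A (that is, d-tuples of elements of the
maximal ideal m such that the ideal they generate has radical m). Then one can find a finite
sequence w_0 = u, w_1, ..., w_m = v, each term a system of parameters of A, where w_{k+1} arises
from w_k by altering just one coordinate. -/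
theorem result (A : Type u) [CommRing A] [LocCoh.IsCohenMacaulayLocalRing A]
    (d : ℕ) (hd : ringKrullDim A = d) (u v : Fin d → A)
    (hu : ∀ i, u i ∈ IsLocalRing.maximalIdeal A) (hu' : IsLocalRing.maximalIdeal A ≤ (Ideal.span (Set.range u)).radical)
    (hv : ∀ i, v i ∈ IsLocalRing.maximalIdeal A) (hv' : IsLocalRing.maximalIdeal A ≤ (Ideal.span (Set.range v)).radical) :
    ∃ (m : ℕ) (w : Fin (m + 1) → Fin d → A), w 0 = u ∧ w (Fin.last m) = v ∧
      (∀ k : Fin (m + 1), (∀ i, w k i ∈ IsLocalRing.maximalIdeal A) ∧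
        IsLocalRing.maximalIdeal A ≤ (Ideal.span (Set.range (w k))).radical) ∧
      (∀ k : Fin m, ∃ i : Fin d, ∀ i' : Fin d, i' ≠ i → w k.castSucc i' = w k.succ i') := by
  classical
  let m := IsLocalRing.maximalIdeal A
  have hm : m.height = (d : ℕ∞) := by
    have := IsLocalRing.maximalIdeal_height_eq_ringKrullDim (R := A)
    rw [hd] at this
    exact WithBot.coe_inj.mp this
  suffices h : Relation.ReflTransGen (Step (A := A) (d := d)) u v by
    have aux : ∀ b, Relation.ReflTransGen (Step (A := A) (d := d)) u b →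
        ∃ (n : ℕ) (w : Fin (n + 1) → Fin d → A), w 0 = u ∧ w (Fin.last n) = b ∧
          (∀ k, IsSop (w k)) ∧
          ∀ k : Fin n, ∃ i : Fin d, ∀ i' : Fin d, i' ≠ i → w k.castSucc i' = w k.succ i' := by
      intro b hb
      induction hb with
      | refl => exact ⟨0, fun _ => u, rfl, rfl, fun _ => ⟨hu, hu'⟩, fun k => k.elim0⟩
      | @tail b c _ hbc ih =>
        obtain ⟨n, w, h0, hl, hw, hs⟩ := ih
        refine ⟨n + 1, Fin.snoc w c, ?_, Fin.snoc_last _ _, fun k => ?_, fun k => ?_⟩
        · rw [← Fin.castSucc_zero, Fin.snoc_castSucc, h0]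
        · induction k using Fin.lastCases with
          | last => rw [Fin.snoc_last]; exact hbc.2.1
          | cast k => rw [Fin.snoc_castSucc]; exact hw k
        · induction k using Fin.lastCases with
          | last =>
            obtain ⟨i, hi⟩ := hbc.2.2
            exact ⟨i, fun i' h' => by rw [Fin.snoc_castSucc, hl, Fin.succ_last, Fin.snoc_last]; exact hi i' h'⟩
          | cast k =>
            obtain ⟨i, hi⟩ := hs k
            exact ⟨i, fun i' h' => by rw [Fin.succ_castSucc, Fin.snoc_castSucc, Fin.snoc_castSucc]; exact hi i' h'⟩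
    exact aux v h
  have key : ∀ j : ℕ, j ≤ d → ∃ a b : Fin d → A, IsSop a ∧ IsSop b ∧
      Relation.ReflTransGen (Step (A := A) (d := d)) u a ∧ Relation.ReflTransGen (Step (A := A) (d := d)) v b ∧
      ∀ i : Fin d, (i : ℕ) < j → a i = b i := by
    intro j
    induction j with
    | zero => intro _; exact ⟨u, v, ⟨hu, hu'⟩, ⟨hv, hv'⟩, .refl, .refl, fun i hi => absurd hi (Nat.not_lt_zero _)⟩
    | succ j ih =>
      intro hj
      obtain ⟨a, b, ha, hb, hua, hvb, hab⟩ := ih (by omega)
      let i₀ : Fin d := ⟨j, by omega⟩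
      let Ja := Ideal.span (a '' {i | i ≠ i₀})
      let Jb := Ideal.span (b '' {i | i ≠ i₀})
      have hne : ∀ (w : Fin d → A), ∀ Q ∈ (Ideal.span (w '' {i | i ≠ i₀})).minimalPrimes, Q ≠ m := by
        intro w Q hQ hQm
        have h1 := Ideal.height_le_spanRank_toENat_of_mem_minimalPrimes _ Q hQ
        rw [Submodule.spanRank_toENat_eq_iInf_finset_card] at h1
        have h2 := h1.trans (iInf_le _ ⟨(Finset.univ.erase i₀).image w, by
          congr 1
          ext; simp⟩)
        rw [hQm, hm] at h2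
        have h3 : d ≤ ((Finset.univ.erase i₀).image w).card := by exact_mod_cast h2
        have h4 := h3.trans (Finset.card_image_le)
        rw [Finset.card_erase_of_mem (Finset.mem_univ _), Finset.card_univ, Fintype.card_fin] at h4
        omega
      let S := Ja.minimalPrimes ∪ Jb.minimalPrimes
      have hS : S.Finite := (Ideal.finite_minimalPrimes_of_isNoetherianRing A _).union
        (Ideal.finite_minimalPrimes_of_isNoetherianRing A _)
      have hS' : ∀ Q ∈ S, Q.IsPrime ∧ Q ≠ m := fun Q hQ =>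
        hQ.elim (fun h => ⟨h.1.1, hne a Q h⟩) (fun h => ⟨h.1.1, hne b Q h⟩)
      obtain ⟨z, hz, hzS⟩ : ∃ z ∈ m, ∀ Q ∈ S, z ∉ Q := by
        by_contra hcon
        push Not at hcon
        have hsub : (m : Set A) ⊆ ⋃ Q ∈ hS.toFinset, ((id Q : Ideal A) : Set A) := by
          intro x hx
          obtain ⟨Q, hQ, hxQ⟩ := hcon x hx
          exact Set.mem_biUnion (hS.mem_toFinset.mpr hQ) hxQ
        obtain ⟨Q, hQ, hle⟩ := (Ideal.subset_union_prime ⊥ ⊥
          (fun Q hQ _ _ => (hS' Q (hS.mem_toFinset.mp hQ)).1)).mp hsub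
        exact (hS' Q (hS.mem_toFinset.mp hQ)).2
          ((IsLocalRing.maximalIdeal.isMaximal A).eq_of_le (hS' Q (hS.mem_toFinset.mp hQ)).1.ne_top hle).symm
      have ha' := isSop_update ha i₀ hz (fun Q hQ => ⟨hne a Q hQ, hzS Q (Or.inl hQ)⟩)
      have hb' := isSop_update hb i₀ hz (fun Q hQ => ⟨hne b Q hQ, hzS Q (Or.inr hQ)⟩)
      refine ⟨_, _, ha', hb', hua.tail ⟨ha, ha', i₀, fun i hi => (Function.update_of_ne hi _ _).symm⟩,
        hvb.tail ⟨hb, hb', i₀, fun i hi => (Function.update_of_ne hi _ _).symm⟩, fun i hi => ?_⟩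
      by_cases h : i = i₀
      · subst h; simp
      · rw [Function.update_of_ne h, Function.update_of_ne h]
        exact hab i (by
          have : (i : ℕ) ≠ j := fun hh => h (Fin.ext hh)
          omega)
  obtain ⟨a, b, -, -, hua, hvb, hab⟩ := key d le_rfl
  obtain rfl : a = b := funext fun i => hab i i.isLt
  refine hua.trans ?_
  clear hua hab
  induction hvb with
  | refl => exact .refl
  | @tail x y _ hxy ih =>
    exact Relation.ReflTransGen.head
      ⟨hxy.2.1, hxy.1, hxy.2.2.imp fun i hi i' h' => (hi i' h').symm⟩ ih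

end Groth.Agent.S8586
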