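import Groth.Statements.S8591
import Mathlib.LinearAlgebra.Charpoly.ToMatrix
import Mathlib.FieldTheory.IsAlgClosed.AlgebraicClosure
import Mathlib.RingTheory.Norm.Basic
import Mathlib.LinearAlgebra.Matrix.Charpoly.Minpoly
import Mathlib.LinearAlgebra.Charpoly.Basic
import Mathlib.RingTheory.MvPolynomial.Basic


set_option autoImplicit false
universe u
open CAlg

namespace Groth.Agent.S8591

open Polynomial in
/-- Matrix of multiplication by `P` modulo a monic `g`. -/
noncomputable def mulMat {R : Type*} [CommRing R] (d : ℕ) (g P : R[X]) : Matrix (Fin d) (Fin d) R :=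
  Matrix.of fun i j => ((P * X ^ (j : ℕ)) %ₘ g).coeff i

open Polynomial in
theorem mulMat_map {R S : Type*} [CommRing R] [CommRing S] (f : R →+* S) (d : ℕ) {g : R[X]}
    (hg : g.Monic) (P : R[X]) : (mulMat d g P).map f = mulMat d (g.map f) (P.map f) := by
  ext i j
  simp only [mulMat, Matrix.map_apply, Matrix.of_apply]
  rw [← Polynomial.coeff_map, Polynomial.map_modByMonic f hg, Polynomial.map_mul, Polynomial.map_pow,
    Polynomial.map_X]

open Polynomial in
theorem norm_eq_detL {R : Type*} [CommRing R] {g P : R[X]} (hg : g.Monic) :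
    Algebra.norm R (AdjoinRoot.mk g P) = (mulMat g.natDegree g P).det := by
  classical
  rw [Algebra.norm_eq_matrix_det (AdjoinRoot.powerBasisAux' hg)]
  congr 1
  ext i j
  have hb : AdjoinRoot.powerBasisAux' hg j = AdjoinRoot.mk g (X ^ (j : ℕ)) := by
    have := (AdjoinRoot.powerBasis' hg).coe_basis
    rw [map_pow, AdjoinRoot.mk_X]
    exact congrFun this j
  rw [Algebra.leftMulMatrix_eq_repr_mul, hb, ← map_mul, AdjoinRoot.powerBasisAux'_repr_apply_to_fun]
  rw [AdjoinRoot.modByMonicHom_mk, mulMat, Matrix.of_apply]

open Polynomial in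
theorem detL_eq_field {K : Type*} [Field K] [IsAlgClosed K] {n : Type} [Fintype n] [DecidableEq n]
    (U : Matrix n n K) (P : K[X]) (d : ℕ) (hd : U.charpoly.natDegree = d) :
    (mulMat d U.charpoly P).det = (aeval U P).det := by
  classical
  subst hd
  have hg := Matrix.charpoly_monic U
  rw [← norm_eq_detL hg]
  let N : K[X] →* K :=
    { toFun := fun P => Algebra.norm K (AdjoinRoot.mk U.charpoly P)
      map_one' := by simp
      map_mul' := fun a b => by simp }
  let D : K[X] →* K :=
    { toFun := fun P => (aeval U P).det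
      map_one' := by simp
      map_mul' := fun a b => by simp }
  change N P = D P
  have hX : ∀ a : K, N (X - C a) = D (X - C a) := by
    intro a
    let pb := AdjoinRoot.powerBasis' hg
    have hcard : Fintype.card (Fin pb.dim) = Fintype.card n := by
      rw [Fintype.card_fin, AdjoinRoot.powerBasis'_dim, Matrix.charpoly_natDegree_eq_dim]
    have hchar : (Algebra.leftMulMatrix pb.basis pb.gen).charpoly = U.charpoly := by
      rw [charpoly_leftMulMatrix, AdjoinRoot.powerBasis'_gen, AdjoinRoot.minpoly_root hg.ne_zero,
        hg.leadingCoeff, inv_one, C_1, mul_one]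
    have e1 : D (X - C a) = (-1) ^ Fintype.card n * U.charpoly.eval a := by
      change (aeval U (X - C a)).det = _
      rw [Matrix.eval_charpoly, ← Matrix.det_neg, neg_sub, map_sub, aeval_X, aeval_C]
      congr 1
    have e2 : N (X - C a) = (-1) ^ Fintype.card (Fin pb.dim) * U.charpoly.eval a := by
      change Algebra.norm K (AdjoinRoot.mk U.charpoly (X - C a)) = _
      rw [show U.charpoly.eval a = ((Algebra.leftMulMatrix pb.basis pb.gen).charpoly).eval a by rw [hchar],
        Matrix.eval_charpoly, ← Matrix.det_neg, neg_sub, Algebra.norm_eq_matrix_det pb.basis,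
        map_sub, AdjoinRoot.mk_X, AdjoinRoot.mk_C, map_sub]
      congr 2
      rw [show AdjoinRoot.of U.charpoly a = algebraMap K (AdjoinRoot U.charpoly) a from rfl,
        AlgHom.commutes]
      rfl
    rw [e1, e2, hcard]
  have hC : ∀ c : K, N (C c) = D (C c) := by
    intro c
    change Algebra.norm K (AdjoinRoot.mk U.charpoly (C c)) = (aeval U (C c)).det
    rw [AdjoinRoot.mk_C, aeval_C]
    change Algebra.norm K (algebraMap K (AdjoinRoot U.charpoly) c) = _
    rw [Algebra.norm_algebraMap_of_basis (AdjoinRoot.powerBasisAux' hg), Fintype.card_fin,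
      Matrix.charpoly_natDegree_eq_dim, Matrix.algebraMap_eq_diagonal, Matrix.det_diagonal]
    simp
  rw [(IsAlgClosed.splits P).eq_prod_roots]
  simp only [map_mul, map_multiset_prod, Multiset.map_map, Function.comp_apply, hC, hX]

open Polynomial in
theorem detL_charpoly_eq {k : Type u} [CommRing k] {ι : Type u} [Fintype ι] [DecidableEq ι]
    (U : Matrix ι ι k) (P : k[X]) :
    (mulMat U.charpoly.natDegree U.charpoly P).det = (aeval U P).det := by
  classical
  rcases subsingleton_or_nontrivial k with h | h
  · exact Subsingleton.elim _ _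
  let e := Fintype.equivFin ι
  let d := Fintype.card ι
  let R₀ := MvPolynomial ((Fin d × Fin d) ⊕ ℕ) ℤ
  let U₀ : Matrix (Fin d) (Fin d) R₀ := Matrix.of fun i j => MvPolynomial.X (Sum.inl (i, j))
  let P₀ : R₀[X] := ∑ m ∈ Finset.range (P.natDegree + 1), monomial m (MvPolynomial.X (Sum.inr m))
  have key : (mulMat d U₀.charpoly P₀).det = (aeval U₀ P₀).det := by
    let Ω := AlgebraicClosure (FractionRing R₀)
    let f : R₀ →+* Ω := algebraMap R₀ Ω
    have hf : Function.Injective f := by
      rw [show f = (algebraMap (FractionRing R₀) Ω).comp (algebraMap R₀ (FractionRing R₀)) from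
        IsScalarTower.algebraMap_eq R₀ (FractionRing R₀) Ω, RingHom.coe_comp]
      exact (algebraMap (FractionRing R₀) Ω).injective.comp (IsFractionRing.injective R₀ (FractionRing R₀))
    refine hf ?_
    rw [RingHom.map_det, RingHom.map_det, RingHom.mapMatrix_apply, RingHom.mapMatrix_apply,
      mulMat_map f d (Matrix.charpoly_monic _), ← Matrix.charpoly_map]
    have hd : (U₀.map f).charpoly.natDegree = d := by
      rw [Matrix.charpoly_natDegree_eq_dim, Fintype.card_fin]
    have h2 : (aeval U₀ P₀).map f = aeval (U₀.map f) (P₀.map f) := by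
      rw [aeval_def, aeval_def, eval₂_map]
      change f.mapMatrix (eval₂ _ U₀ P₀) = _
      rw [hom_eval₂]
      congr 1
      refine RingHom.ext fun a => ?_
      ext i j
      simp [Matrix.algebraMap_eq_diagonal, Matrix.diagonal_apply, apply_ite f]
    rw [h2]
    exact detL_eq_field (U₀.map f) (P₀.map f) d hd
  let V := Matrix.reindex e e U
  let g : R₀ →+* k := MvPolynomial.eval₂Hom (Int.castRingHom k) (Sum.elim (fun p => V p.1 p.2) fun m => P.coeff m)
  have hU : U₀.map g = V := by ext i j; exact MvPolynomial.eval₂_X _ _ _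
  have hP : P₀.map g = P := by
    conv_rhs => rw [P.as_sum_range' (P.natDegree + 1) (Nat.lt_succ_self _)]
    simp only [P₀, Polynomial.map_sum, map_monomial]
    exact Finset.sum_congr rfl fun x _ => congrArg _ (MvPolynomial.eval₂_X _ _ _)
  have h3 := congrArg g key
  rw [RingHom.map_det, RingHom.map_det, RingHom.mapMatrix_apply, RingHom.mapMatrix_apply,
    mulMat_map g d (Matrix.charpoly_monic _), ← Matrix.charpoly_map, hU, hP] at h3
  have h2 : (aeval U₀ P₀).map g = aeval V P := by
    rw [← hU, ← hP, aeval_def, aeval_def, eval₂_map]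
    change g.mapMatrix (eval₂ _ U₀ P₀) = _
    rw [hom_eval₂]
    congr 1
    refine RingHom.ext fun a => ?_
    ext i j
    simp [Matrix.algebraMap_eq_diagonal, Matrix.diagonal_apply, apply_ite g]
  rw [h2, show V.charpoly = U.charpoly from Matrix.charpoly_reindex e U] at h3
  rw [Matrix.charpoly_natDegree_eq_dim, h3,
    show aeval V P = Matrix.reindex e e (aeval U P) from aeval_algHom_apply (Matrix.reindexAlgEquiv k k e).toAlgHom U P,
    Matrix.det_reindex_self]

/-- Let k be a commutative ring, M a finite free k-module, u an endomorphism of M with characteristic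
polynomial χ, and P a polynomial over k. Then the norm, from the k-algebra k[T]/(χ) (free of rank
the rank of M) down to k, of the class of P(T) equals det(P(u)). (The published statement writes the
quotient by det(u - T), which generates the same ideal as χ(T) = det(T - u).) -/
theorem result (k : Type u) [CommRing k] (M : Type u) [AddCommGroup M] [Module k M]
    [Module.Free k M] [Module.Finite k M] (u : M →ₗ[k] M) (P : Polynomial k) :
    Algebra.norm k (AdjoinRoot.mk u.charpoly P) = LinearMap.det (Polynomial.aeval u P) := by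
  classical
  let b := Module.Free.chooseBasis k M
  have h1 : u.charpoly = (LinearMap.toMatrix b b u).charpoly := (LinearMap.charpoly_toMatrix u b).symm
  rw [← LinearMap.det_toMatrix b]
  rw [h1, norm_eq_detL (Matrix.charpoly_monic _)]
  rw [detL_charpoly_eq]
  congr 1
  exact (Polynomial.aeval_algHom_apply (LinearMap.toMatrixAlgEquiv b).toAlgHom u P)

end Groth.Agent.S8591
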