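import Groth.Statements.S8596
import Groth.Agent.TorField.Basic

set_option autoImplicit false
set_option linter.style.haveILetI false
universe u
open CategoryTheory CategoryTheory.Limits
open CAlg

namespace Groth.Agent.S8596

/-- Case of a complex reduced to a single module in degree 0: let A be a commutative Noetherian ring, M
an A-module (not necessarily finitely generated) and n ≥ 0. Then M has tor-dimension at most n —
Tor_i^A(N, M) = 0 for every A-module N and every i > n, the Tor being the left derived functors of N
⊗ - evaluated at M — if and only if Tor_i^A(k(x), M) = 0 for every prime ideal x of A, with residue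
field k(x), and every i > n. (The published statement gives the equivalence for bounded-above
complexes K and the derived tensor product K ⊗^L k(x); this is the case K = M[0].) -/
theorem result (A : Type u) [CommRing A] [IsNoetherianRing A]
    (M : ModuleCat.{u} A) (n : ℕ) :
    (∀ (N : ModuleCat.{u} A) (i : ℕ), n < i → IsZero (((Tor (ModuleCat.{u} A) i).obj N).obj M)) ↔
    (∀ (x : Ideal A) [x.IsPrime] (i : ℕ), n < i →
      IsZero (((Tor (ModuleCat.{u} A) i).obj (ModuleCat.of A x.ResidueField)).obj M)) := by
  let P := projectiveResolution M
  have hP : ∀ i, Module.Flat A (P.complex.X i) := fun i =>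
    haveI := P.projective i
    haveI : Module.Projective A (P.complex.X i) := (IsProjective.iff_projective _).mpr this
    inferInstance
  have e : ∀ (N : ModuleCat.{u} A) (i : ℕ),
      IsZero (((Tor (ModuleCat.{u} A) i).obj N).obj M) ↔ IsZero ((TorField.HN P.complex i).obj N) :=
    fun N i => (P.isoLeftDerivedObj ((MonoidalCategory.tensoringLeft (ModuleCat.{u} A)).obj N) i).isZero_iff
  refine ⟨fun h x _ i hi => h _ i hi, fun h N i hi => ?_⟩
  refine (e N i).2 (TorField.good_of_residueField
    (fun X => ∀ j, n < j → IsZero ((TorField.HN P.complex j).obj X)) ?_ ?_ ?_ ?_ ?_ ?_ N i hi)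
  · intro X hX j _
    exact Functor.map_isZero _ hX
  · intro X Y f hX j hj
    exact (hX j hj).of_iso ((TorField.HN P.complex j).mapIso f).symm
  · intro S hS h₁ h₃ j hj
    exact ((TorField.shortExact_tensor hP hS).homology_exact₂ j).isZero_of_both_zeros
      ((h₁ j hj).eq_zero_of_src _) ((h₃ j hj).eq_zero_of_tgt _)
  · intro S hS h₂ h₃ j hj
    exact ((TorField.shortExact_tensor hP hS).homology_exact₁ (j + 1) j rfl).isZero_of_both_zeros
      ((h₃ (j + 1) (by omega)).eq_zero_of_src _) ((h₂ j hj).eq_zero_of_tgt _)
  · intro X hW j hj
    haveI : Subsingleton ((TorField.HN P.complex j).obj X) := by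
      refine subsingleton_of_forall_eq 0 fun ξ => ?_
      obtain ⟨W, hWfg, η, rfl⟩ := TorField.exists_fg_rep hP j ξ
      haveI := ModuleCat.subsingleton_of_isZero (hW W hWfg j hj)
      rw [Subsingleton.elim η 0, map_zero]
    exact ModuleCat.isZero_of_subsingleton _
  · intro x _ j hj
    exact (e _ j).1 (h x j hj)

end Groth.Agent.S8596
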