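import Groth.Statements.S8597
import Groth.Agent.TorField.Iso
import Mathlib.Algebra.Category.ModuleCat.Monoidal.Closed

set_option autoImplicit false
set_option linter.style.haveILetI false
universe u
open CategoryTheory CategoryTheory.Limits
open CAlg

namespace Groth.Agent.S8597

/-- Case of modules placed in degree 0: let A be a commutative Noetherian ring and u : M -> N a
homomorphism of A-modules such that for every prime ideal x of A, with residue field k(x), and every
i ≥ 0, the induced map Tor_i^A(k(x), M) -> Tor_i^A(k(x), N) (left derived functors of k(x) ⊗ -) is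
an isomorphism. Then u is an isomorphism. (The published statement is for a morphism of
bounded-above complexes and the derived tensor products with k(x); this is the case of two modules.) -/
theorem result (A : Type u) [CommRing A] [IsNoetherianRing A]
    {M N : ModuleCat.{u} A} (u : M ⟶ N)
    (h : ∀ (x : Ideal A) [x.IsPrime] (i : ℕ),
      IsIso (((Tor (ModuleCat.{u} A) i).obj (ModuleCat.of A x.ResidueField)).map u)) :
    IsIso u := by
  let P := projectiveResolution M
  let Q := projectiveResolution N
  let φ := ProjectiveResolution.lift u P Q
  have hφ : φ.f 0 ≫ Q.π.f 0 = P.π.f 0 ≫ u := ProjectiveResolution.lift_commutes_zero u P Q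
  have hflat : ∀ {Z : ModuleCat.{u} A} (R : ProjectiveResolution Z) (i : ℕ), Module.Flat A (R.complex.X i) :=
    fun R i =>
    haveI := R.projective i
    haveI : Module.Projective A (R.complex.X i) := (IsProjective.iff_projective _).mpr this
    inferInstance
  let T := TorField.tensorCxMap φ
  have e : ∀ (X : ModuleCat.{u} A) (i : ℕ),
      IsIso (((Tor (ModuleCat.{u} A) i).obj X).map u) ↔
        IsIso (HomologicalComplex.homologyMap (T.app X) i) := by
    intro X i
    exact MorphismProperty.arrow_mk_iso_iff (MorphismProperty.isomorphisms _)
      (Arrow.isoMk (P.isoLeftDerivedObj ((MonoidalCategory.tensoringLeft (ModuleCat.{u} A)).obj X) i)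
        (Q.isoLeftDerivedObj ((MonoidalCategory.tensoringLeft (ModuleCat.{u} A)).obj X) i)
        (ProjectiveResolution.isoLeftDerivedObj_hom_naturality u P Q φ hφ
          ((MonoidalCategory.tensoringLeft (ModuleCat.{u} A)).obj X) i).symm)
  have good : ∀ X : ModuleCat.{u} A, QuasiIso (T.app X) :=
    TorField.quasiIso_of_residueField (hflat P) (hflat Q) φ fun x hx => by
      rw [quasiIso_iff]
      intro i
      rw [quasiIsoAt_iff_isIso_homologyMap]
      exact (e _ i).1 (h x i)
  let U := ModuleCat.of A A
  let F := (MonoidalCategory.tensoringLeft (ModuleCat.{u} A)).obj U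
  haveI : IsIso ((F.leftDerived 0).map u) := by
    refine (e U 0).2 ?_
    have := good U
    rw [quasiIso_iff] at this
    exact (quasiIsoAt_iff_isIso_homologyMap _ _).1 (this 0)
  haveI : Limits.PreservesFiniteColimits F :=
    inferInstanceAs (Limits.PreservesFiniteColimits (MonoidalCategory.tensorLeft U))
  haveI : IsIso (F.map u) :=
    ((MorphismProperty.isomorphisms _).arrow_mk_iso_iff
      (Arrow.isoMk (F.leftDerivedZeroIsoSelf.app M) (F.leftDerivedZeroIsoSelf.app N)
        (F.leftDerivedZeroIsoSelf.hom.naturality u).symm)).1 ‹IsIso ((F.leftDerived 0).map u)›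
  exact ((MorphismProperty.isomorphisms _).arrow_mk_iso_iff
    (((Functor.mapArrowFunctor _ _).mapIso
      (MonoidalCategory.leftUnitorNatIso (ModuleCat.{u} A))).app (Arrow.mk u))).1
      (‹IsIso (F.map u)› :)

end Groth.Agent.S8597
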