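import Groth.Statements.S8603
-- import your own Groth.Agent.* helpers here

set_option autoImplicit false
universe u
open CategoryTheory CategoryTheory.Limits AlgebraicGeometry Opposite
open DEt

namespace Groth.Agent.S8603

/-- The domination half of 'the category of compactifications of f is cofiltering': let f : X -> Y be a
morphism of quasi-compact quasi-separated schemes and let (Xbar_1, j_1, fbar_1), (Xbar_2, j_2,
fbar_2) be two compactifications of f (j_i : X -> Xbar_i open immersions, fbar_i : Xbar_i -> Y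
proper, fbar_i ∘ j_i = f). Then there are a compactification (Xbar, j, fbar) of f and proper
morphisms p_i : Xbar -> Xbar_i (i = 1, 2) with p_i ∘ j = j_i and fbar_i ∘ p_i = fbar, i.e. a
compactification mapping to both by morphisms of compactifications. (The published statement also
includes the equalizing axiom: two morphisms of compactifications are equalized by a third; only
domination is stated here.) -/
theorem result {X Y : Scheme.{u}} [CompactSpace ↥X] [QuasiSeparatedSpace ↥X]
    [CompactSpace ↥Y] [QuasiSeparatedSpace ↥Y] {f : X ⟶ Y} (c₁ c₂ : DEt.Compactification f) :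
    ∃ (c : DEt.Compactification f) (p₁ : c.Xbar ⟶ c₁.Xbar) (p₂ : c.Xbar ⟶ c₂.Xbar),
      IsProper p₁ ∧ IsProper p₂ ∧ c.j ≫ p₁ = c₁.j ∧ c.j ≫ p₂ = c₂.j ∧
        p₁ ≫ c₁.fbar = c.fbar ∧ p₂ ≫ c₂.fbar = c.fbar := by
  let P := pullback c₁.fbar c₂.fbar
  let ι : X ⟶ P := pullback.lift c₁.j c₂.j (by rw [c₁.fac, c₂.fac])
  have : IsImmersion (ι ≫ pullback.fst c₁.fbar c₂.fbar) := by
    simp only [ι, pullback.lift_fst]; infer_instance
  have : IsImmersion ι := IsImmersion.of_comp ι (pullback.fst c₁.fbar c₂.fbar)
  have : QuasiCompact (terminal.from X) := (compactSpace_iff_quasiCompact X).mp inferInstance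
  have : QuasiSeparated (terminal.from Y) := (quasiSeparatedSpace_iff_quasiSeparated Y).mp inferInstance
  have : QuasiCompact f := by
    have : QuasiCompact (f ≫ terminal.from Y) := by rw [terminal.comp_from]; infer_instance
    exact QuasiCompact.of_comp f (terminal.from Y)
  have : QuasiCompact (ι ≫ pullback.fst c₁.fbar c₂.fbar ≫ c₁.fbar) := by
    simp only [ι, pullback.lift_fst_assoc, c₁.fac]; infer_instance
  have : QuasiCompact ι := QuasiCompact.of_comp ι (pullback.fst c₁.fbar c₂.fbar ≫ c₁.fbar)
  let fb := Scheme.Hom.imageι ι ≫ pullback.fst c₁.fbar c₂.fbar ≫ c₁.fbar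
  refine ⟨⟨_, Scheme.Hom.toImage ι, fb, inferInstance, inferInstance, ?_⟩,
    Scheme.Hom.imageι ι ≫ pullback.fst _ _, Scheme.Hom.imageι ι ≫ pullback.snd _ _,
    inferInstance, inferInstance, ?_, ?_, ?_, ?_⟩
  · show Scheme.Hom.toImage ι ≫ fb = f
    simp only [fb, Scheme.Hom.toImage_imageι_assoc, ι, pullback.lift_fst_assoc, c₁.fac]
  · rw [Scheme.Hom.toImage_imageι_assoc]; exact pullback.lift_fst _ _ _
  · rw [Scheme.Hom.toImage_imageι_assoc]; exact pullback.lift_snd _ _ _
  · exact Category.assoc _ _ _
  · show (Scheme.Hom.imageι ι ≫ pullback.snd _ _) ≫ c₂.fbar = fb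
    rw [Category.assoc, ← pullback.condition]

end Groth.Agent.S8603
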