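import Groth.Statements.S8604
import Groth.Agent.SigmaLin.Basic
import Groth.Agent.SigmaLin.Frob
import Mathlib.FieldTheory.Finite.Basic
import Mathlib.FieldTheory.Perfect
import Mathlib.FieldTheory.IsAlgClosed.Basic
import Mathlib.Tactic.Module


set_option autoImplicit false
universe u
open CAlg

namespace Groth.Agent.S8604

lemma indep (p : ℕ) [Fact p.Prime] (k : Type u) [Field k] [CharP k p] (V : Type u)
    [AddCommGroup V] [Module k V]
    (F : V →+ V) (hF : ∀ (a : k) (v : V), F (a • v) = a ^ p • F v) :
    ∀ (s : Finset V), (∀ v ∈ s, F v = v) →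
      (∀ c : s → ℤ, (∑ v : s, c v • (v : V)) = 0 → ∀ v : s, (p : ℤ) ∣ c v) →
        LinearIndependent k (fun v : s => (v : V)) := by
  classical
  intro s hs hind
  -- minimal relation
  suffices h : ∀ (t : Finset s) (g : s → k), (∑ v ∈ t, g v • (v : V)) = 0 → ∀ v ∈ t, g v = 0 by
    rw [Fintype.linearIndependent_iff]
    exact fun g hg i => h Finset.univ g hg i (Finset.mem_univ i)
  intro t
  induction t using Finset.strongInduction with
  | H t ih =>
    intro g hg w hw
    by_contra hne
    set h : s → k := fun v => (g w)⁻¹ * g v with hh
    have hhw : h w = 1 := inv_mul_cancel₀ hne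
    have hsum : (∑ v ∈ t, h v • (v : V)) = 0 := by
      simp [hh, mul_smul, ← Finset.smul_sum, hg]
    have hFsum : (∑ v ∈ t, (h v) ^ p • (v : V)) = 0 := by
      have := congrArg F hsum
      rw [map_sum, map_zero] at this
      rw [← this]
      refine Finset.sum_congr rfl fun v _ => ?_
      rw [hF, hs v v.2]
    have hdiff : (∑ v ∈ t.erase w, ((h v) ^ p - h v) • (v : V)) = 0 := by
      rw [Finset.sum_erase]
      · simp [sub_smul, Finset.sum_sub_distrib, hsum, hFsum]
      · simp [hhw]
    have hfix : ∀ v ∈ t, (h v) ^ p = h v := by
      intro v hv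
      by_cases hvw : v = w
      · simp [hvw, hhw]
      · exact sub_eq_zero.1 (ih _ (Finset.erase_ssubset hw) (fun v => (h v) ^ p - h v) hdiff v
          (Finset.mem_erase.2 ⟨hvw, hv⟩))
    have hint : ∀ v, ∃ n : ℤ, v ∈ t → (n : k) = h v := by
      intro v
      by_cases hv : v ∈ t
      · obtain ⟨n, hn⟩ := (mem_bot_iff_intCast p k).1 ((Subfield.mem_bot_iff_pow_eq_self k p).2 (hfix v hv))
        exact ⟨n, fun _ => hn⟩
      · exact ⟨0, fun h => absurd h hv⟩
    choose n hn using hint
    have hz := hind (fun v => if v ∈ t then n v else 0) (by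
      rw [← hsum]
      simp only [ite_smul, zero_smul, ← Finset.sum_filter, Finset.filter_univ_mem]
      refine Finset.sum_congr rfl fun v hv => ?_
      rw [← hn v hv, Int.cast_smul_eq_zsmul]) w
    simp only [if_pos hw] at hz
    have : (n w : k) = 0 := (CharP.intCast_eq_zero_iff k p _).2 hz
    rw [hn w hw, hhw] at this
    exact one_ne_zero this

/-- Over an algebraically closed field: let k be an algebraically closed field of characteristic p > 0,
V a finite-dimensional k-vector space and F : V -> V a p-linear endomorphism (additive with F(a·v) =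
a^p·F(v)). Let V^F be the set of vectors fixed by F (an F_p-subspace), V_0 the k-span of V^F and V_n
the k-span of the vectors killed by some iterate of F (these already form an F-stable subspace on
which F is nilpotent). Then V = V_0 ⊕ V_n, and V^F ⊗ k -> V_0 is bijective in the sense that any
finitely many F-fixed vectors linearly independent over Z/p (every vanishing integer combination has
all coefficients divisible by p) are linearly independent over k. (The published statement asserts
this decomposition, with V^F ⊗ k ≅ V_0, for every PERFECT field k; that is false when k is not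
separably closed — for k = Z/3, V = k and F = multiplication by 2 there are no nonzero fixed vectors
although F is bijective — and the decomposition is stated here over an algebraically closed field,
the case in which it holds.) -/
theorem result (p : ℕ) [Fact p.Prime] (k : Type u) [Field k]
    [IsAlgClosed k] [CharP k p] (V : Type u) [AddCommGroup V] [Module k V] [FiniteDimensional k V]
    (F : V →+ V) (hF : ∀ (a : k) (v : V), F (a • v) = a ^ p • F v) :
    IsCompl (Submodule.span k {v : V | F v = v})
        (Submodule.span k {v : V | ∃ m : ℕ, (⇑F)^[m] v = 0}) ∧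
      ∀ (s : Finset V), (∀ v ∈ s, F v = v) →
        (∀ c : s → ℤ, (∑ v : s, c v • (v : V)) = 0 → ∀ v : s, (p : ℤ) ∣ c v) →
          LinearIndependent k (fun v : s => (v : V)) := by
  let T : V →ₛₗ[frobenius k p] V :=
    { toFun := F, map_add' := F.map_add, map_smul' := fun c x => by simp [hF, frobenius_def] }
  have hT : ⇑T = ⇑F := rfl
  have hσ : Function.Surjective (frobenius k p) := (PerfectRing.bijective_frobenius).2
  obtain ⟨N, hN, hc⟩ := Groth.Agent.SigmaLin.Basic.fitting hσ T
  set W := ⨅ m, Groth.Agent.SigmaLin.Basic.stage T m with hW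
  obtain ⟨b, hb⟩ := Groth.Agent.SigmaLin.Basic.exists_fixed_basis_ss T
    (Groth.Agent.SigmaLin.Frob.h2_frobenius p) (Groth.Agent.SigmaLin.Frob.h3_frobenius p)
  have h0 : Submodule.span k {v : V | F v = v} = W := by
    refine le_antisymm (Submodule.span_le.2 fun v hv => ?_) fun v hv => ?_
    · rw [SetLike.mem_coe, hW, Submodule.mem_iInf]
      intro m
      refine Submodule.subset_span ⟨v, ?_⟩
      exact Function.iterate_fixed (f := ⇑T) hv m
    · have h := congrArg (fun y : W => (y : V)) (b.sum_repr ⟨v, hv⟩)
      simp only [Submodule.coe_sum, Submodule.coe_smul] at h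
      rw [← h]
      exact sum_mem fun i _ => Submodule.smul_mem _ _ (Submodule.subset_span (show T _ = _ from hb i))
  have hn : Submodule.span k {v : V | ∃ m : ℕ, (⇑F)^[m] v = 0} =
      Groth.Agent.SigmaLin.Basic.nilStage T N := by
    refine le_antisymm (Submodule.span_le.2 fun v hv => hN v hv) fun v hv => ?_
    exact Submodule.subset_span ⟨N, hv⟩
  refine ⟨by rw [h0, hn]; exact hc.symm, fun s hs hind => ?_⟩
  exact indep p k V F hF s hs hind

end Groth.Agent.S8604
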