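import Groth.Statements.S8607
-- import your own Groth.Agent.* helpers here

set_option autoImplicit false
universe u
open CategoryTheory CategoryTheory.Limits AlgebraicGeometry Opposite
open DEt

namespace Groth.Agent.S8607

/-- The equalizing half of 'the category of compactifications of f is cofiltering': let f : X -> Y be a
morphism of quasi-compact quasi-separated schemes, (Xbar_1, j_1, fbar_1) and (Xbar_2, j_2, fbar_2)
two compactifications of f, and r, s : Xbar_1 -> Xbar_2 two morphisms of compactifications (r ∘ j_1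
= j_2 = s ∘ j_1 and fbar_2 ∘ r = fbar_1 = fbar_2 ∘ s). Then there are a compactification (Xbar, j,
fbar) of f and a proper morphism t : Xbar -> Xbar_1 of compactifications (t ∘ j = j_1, fbar_1 ∘ t =
fbar) with r ∘ t = s ∘ t. -/
theorem result {X Y : Scheme.{u}} [CompactSpace ↥X] [QuasiSeparatedSpace ↥X]
    [CompactSpace ↥Y] [QuasiSeparatedSpace ↥Y] {f : X ⟶ Y} (c₁ c₂ : DEt.Compactification f)
    (r s : c₁.Xbar ⟶ c₂.Xbar) (hr : c₁.j ≫ r = c₂.j) (hs : c₁.j ≫ s = c₂.j)
    (hr' : r ≫ c₂.fbar = c₁.fbar) (hs' : s ≫ c₂.fbar = c₁.fbar) :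
    ∃ (c : DEt.Compactification f) (t : c.Xbar ⟶ c₁.Xbar), IsProper t ∧ c.j ≫ t = c₁.j ∧ t ≫ c₁.fbar = c.fbar ∧
      t ≫ r = t ≫ s := by
  let a := pullback.lift r s (by rw [hr', hs'])
  let t := pullback.fst a (pullback.diagonal c₂.fbar)
  have ht : t ≫ r = t ≫ s := by
    have h := pullback.condition (f := a) (g := pullback.diagonal c₂.fbar)
    have h1 := congrArg (· ≫ pullback.fst c₂.fbar c₂.fbar) h
    have h2 := congrArg (· ≫ pullback.snd c₂.fbar c₂.fbar) h
    simp only [a, Category.assoc, pullback.lift_fst, pullback.lift_snd, pullback.diagonal_fst,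
      pullback.diagonal_snd, Category.comp_id] at h1 h2
    exact h1.trans h2.symm
  let i : X ⟶ pullback a (pullback.diagonal c₂.fbar) := pullback.lift c₁.j c₂.j (by
    apply pullback.hom_ext
    · simp only [a, Category.assoc, pullback.lift_fst, hr, pullback.diagonal_fst, Category.comp_id]
    · simp only [a, Category.assoc, pullback.lift_snd, hs, pullback.diagonal_snd, Category.comp_id])
  have hi : i ≫ t = c₁.j := pullback.lift_fst _ _ _
  have hopen : IsOpenImmersion i := by
    refine MorphismProperty.of_isPullback (P := @IsOpenImmersion) (g' := i) (f' := 𝟙 X) (g := c₁.j) (f := t) ?_ inferInstance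
    refine ⟨⟨by rw [Category.id_comp, hi]⟩, ⟨PullbackCone.IsLimit.mk _ (fun p => p.fst) ?_ ?_ ?_⟩⟩
    · intro p; exact Category.comp_id _
    · intro p
      rw [← cancel_mono t, Category.assoc, hi, p.condition]
    · intro p m h1 _; rwa [Category.comp_id] at h1
  exact ⟨⟨_, i, t ≫ c₁.fbar, hopen, inferInstance, by rw [reassoc_of% hi, c₁.fac]⟩, t,
    inferInstance, hi, rfl, ht⟩

end Groth.Agent.S8607
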