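import Groth.Statements.S8611
import Groth.Agent.DeltaIso.Basic

set_option autoImplicit false
universe w v u
open CategoryTheory CategoryTheory.Limits
open SGA4h

namespace Groth.Agent.S8611

/-- Let C be an abelian category, T and T' cohomological delta-functors on C in degrees ≥ 0 with values
in abelian groups, both left exact in degree 0, with T effaceable in every degree q > 0 (every
element of T^q(A) is killed by T^q(u) for some monomorphism u : A → M, depending on the element),
and φ : T → T' a morphism of delta-functors. Let E be a class of objects such that every object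
admits a monomorphism into a member of E. Then the following are equivalent: (i) φ^q(A) is bijective
for all q and all A; (ii) φ^0(M) is bijective and φ^q(M) is surjective for q > 0, for all M in E;
(iii) φ^0(A) is bijective for all A and T' is effaceable in every degree > 0 (in the same
element-wise sense). Stated as (i) ⇔ (ii) together with (i) ⇔ (iii). -/
theorem result {C : Type u} [Category.{v} C] [Abelian C]
    (T T' : DeltaF.CohDeltaFunctor C AddCommGrpCat.{w} ℕ) (hT0 : T.ZeroMono) (hT'0 : T'.ZeroMono)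
    (hT : ∀ (q : ℕ) (A : C) (α : (T.F (q + 1)).obj A),
      ∃ (M : C) (u : A ⟶ M), Mono u ∧ (T.F (q + 1)).map u α = 0)
    (φ : T ⟶ T') (E : ObjectProperty C)
    (hE : ∀ A : C, ∃ (M : C) (i : A ⟶ M), Mono i ∧ E M) :
    ((∀ (q : ℕ) (A : C), IsIso ((φ.app q).app A)) ↔
      ((∀ M : C, E M → IsIso ((φ.app 0).app M)) ∧
        ∀ (q : ℕ) (M : C), E M → Epi ((φ.app (q + 1)).app M))) ∧
    ((∀ (q : ℕ) (A : C), IsIso ((φ.app q).app A)) ↔
      ((∀ A : C, IsIso ((φ.app 0).app A)) ∧
        ∀ (q : ℕ) (A : C) (α : (T'.F (q + 1)).obj A),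
          ∃ (M : C) (u : A ⟶ M), Mono u ∧ (T'.F (q + 1)).map u α = 0)) := by
  open Groth.Agent.DeltaIso in
  have iso_of : ∀ q A, Function.Injective ((φ.app q).app A) → Function.Surjective ((φ.app q).app A) →
      IsIso ((φ.app q).app A) := fun q A h1 h2 => (ConcreteCategory.isIso_iff_bijective _).mpr ⟨h1, h2⟩
  have bij : ∀ q A, IsIso ((φ.app q).app A) → Function.Bijective ((φ.app q).app A) := fun q A h =>
    (ConcreteCategory.isIso_iff_bijective _).mp h
  open Groth.Agent.DeltaIso in
  have inj : ∀ q, (∀ A, IsIso ((φ.app q).app A)) → ∀ A, Function.Injective ((φ.app (q + 1)).app A) := by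
    intro q ih A
    rw [injective_iff_map_eq_zero]
    intro α hα
    obtain ⟨M, u, hu, hu0⟩ := hT q A α
    exact succ_eq_zero φ q u (bij q M (ih M)).2 (bij q _ (ih _)).1 α hu0 hα
  refine ⟨⟨fun h => ⟨fun M _ => h 0 M, fun q M _ => (have := h (q + 1) M; inferInstance)⟩, ?_⟩,
    ⟨fun h => ⟨h 0, fun q A α' => ?_⟩, ?_⟩⟩
  · rintro ⟨h0, hs⟩ q
    open Groth.Agent.DeltaIso in
    induction q with
    | zero =>
      have i0 : ∀ A, Function.Injective ((φ.app 0).app A) := fun A => by
        obtain ⟨M, i, hi, hM⟩ := hE A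
        exact zero_injective φ hT0 i (bij 0 M (h0 M hM)).1
      intro A
      obtain ⟨M, i, hi, hM⟩ := hE A
      exact iso_of 0 A (i0 A) (zero_surjective φ hT'0 i (bij 0 M (h0 M hM)).2 (i0 _))
    | succ q ih =>
      intro A
      obtain ⟨M, i, hi, hM⟩ := hE A
      exact iso_of _ A (inj q ih A) (succ_surjective φ q i (bij q _ (ih _)).2 (inj q ih _)
        ((AddCommGrpCat.epi_iff_surjective _).mp (hs q M hM)))
  · obtain ⟨α, rfl⟩ := (bij (q + 1) A (h (q + 1) A)).2 α'
    obtain ⟨M, u, hu, hu0⟩ := hT q A α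
    exact ⟨M, u, hu, by rw [← Groth.Agent.DeltaIso.nat', hu0, map_zero]⟩
  · rintro ⟨h0, hT'⟩ q
    induction q with
    | zero => exact h0
    | succ q ih =>
      intro A
      refine iso_of _ A (inj q ih A) fun α' => ?_
      obtain ⟨M, u, hu, hu0⟩ := hT' q A α'
      exact Groth.Agent.DeltaIso.succ_exists φ q u (bij q _ (ih _)).2 α' hu0

end Groth.Agent.S8611
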