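import Groth.Statements.S8612
import Groth.Agent.DeltaIso.Basic

set_option autoImplicit false
universe w v u
open CategoryTheory CategoryTheory.Limits
open SGA4h

namespace Groth.Agent.S8612

/-- Let C be an abelian category with filtered colimits, T and T' cohomological delta-functors on C in
degrees ≥ 0 with values in abelian groups, both left exact in degree 0 and commuting with filtered
colimits in every degree, and φ : T → T' a morphism of delta-functors. Let D and E be classes of
objects such that (a) every object of C is a filtered colimit of objects of D and (b) every object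
of D admits a monomorphism into a member of E. Then φ^q(A) is bijective for all q and all A if and
only if φ^q(M) is bijective for all q and all M in E. -/
theorem result {C : Type u} [Category.{v} C] [Abelian C]
    [HasFilteredColimitsOfSize.{v, v} C]
    (T T' : DeltaF.CohDeltaFunctor C AddCommGrpCat.{w} ℕ) (hT0 : T.ZeroMono) (hT'0 : T'.ZeroMono)
    [∀ n, PreservesFilteredColimitsOfSize.{v, v} (T.F n)] [∀ n, PreservesFilteredColimitsOfSize.{v, v} (T'.F n)]
    (φ : T ⟶ T') (D E : ObjectProperty C)
    (hD : ∀ A : C, ∃ (J : Type v) (_ : SmallCategory J) (_ : IsFiltered J) (K : J ⥤ C) (c : Cocone K)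
      (_ : IsColimit c), (∀ j, D (K.obj j)) ∧ Nonempty (c.pt ≅ A))
    (hE : ∀ A : C, D A → ∃ (M : C) (i : A ⟶ M), Mono i ∧ E M) :
    (∀ (q : ℕ) (A : C), IsIso ((φ.app q).app A)) ↔
      ∀ (q : ℕ) (M : C), E M → IsIso ((φ.app q).app M) := by
  refine ⟨fun h q M _ => h q M, fun h => ?_⟩
  have bij : ∀ q A, IsIso ((φ.app q).app A) → Function.Bijective ((φ.app q).app A) := fun q A h =>
    (ConcreteCategory.isIso_iff_bijective _).mp h
  have extI : ∀ q, (∀ A, D A → Function.Injective ((φ.app q).app A)) →
      ∀ A, Function.Injective ((φ.app q).app A) := by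
    intro q hq A
    obtain ⟨J, _, _, K, c, hc, hK, ⟨e⟩⟩ := hD A
    rw [injective_iff_map_eq_zero]
    intro x hx
    let cA := c.extend e.hom
    have hcA : IsColimit cA := hc.extendIso e.hom
    have hT1 := isColimitOfPreserves (T.F q) hcA
    have hT2 := isColimitOfPreserves (T'.F q) hcA
    obtain ⟨j, y, rfl⟩ := Groth.Agent.DeltaIso.exists_rep hT1 x
    have h2 : ((T'.F q).mapCocone cA).ι.app j ((φ.app q).app (K.obj j) y) = 0 :=
      (NatTrans.naturality_apply (φ.app q) (cA.ι.app j) y).symm.trans hx
    obtain ⟨k, f, hf⟩ := Groth.Agent.DeltaIso.exists_map_eq_zero hT2 _ h2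
    have h3 : (φ.app q).app (K.obj k) ((T.F q).map (K.map f) y) = 0 :=
      (NatTrans.naturality_apply (φ.app q) (K.map f) y).trans hf
    have h4 : (T.F q).map (K.map f) y = 0 := (injective_iff_map_eq_zero _).mp (hq _ (hK k)) _ h3
    rw [← ((T.F q).mapCocone cA).w f, ConcreteCategory.comp_apply]
    show ((T.F q).mapCocone cA).ι.app k ((T.F q).map (K.map f) y) = 0
    rw [h4, map_zero]
  have extS : ∀ q, (∀ A, D A → Function.Surjective ((φ.app q).app A)) →
      ∀ A, Function.Surjective ((φ.app q).app A) := by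
    intro q hq A x
    obtain ⟨J, _, _, K, c, hc, hK, ⟨e⟩⟩ := hD A
    let cA := c.extend e.hom
    have hcA : IsColimit cA := hc.extendIso e.hom
    obtain ⟨j, y, rfl⟩ := Groth.Agent.DeltaIso.exists_rep (isColimitOfPreserves (T'.F q) hcA) x
    obtain ⟨z, rfl⟩ := hq _ (hK j) y
    exact ⟨(T.F q).map (cA.ι.app j) z, NatTrans.naturality_apply (φ.app q) (cA.ι.app j) z⟩
  have iso_of : ∀ q, (∀ A, Function.Injective ((φ.app q).app A)) →
      (∀ A, Function.Surjective ((φ.app q).app A)) → ∀ A, IsIso ((φ.app q).app A) :=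
    fun q h1 h2 A => (ConcreteCategory.isIso_iff_bijective _).mpr ⟨h1 A, h2 A⟩
  intro q
  open Groth.Agent.DeltaIso in
  induction q with
  | zero =>
    have i0 : ∀ A, Function.Injective ((φ.app 0).app A) := extI 0 fun A hA => by
      obtain ⟨M, i, hi, hM⟩ := hE A hA
      exact zero_injective φ hT0 i (bij 0 M (h 0 M hM)).1
    refine iso_of 0 i0 (extS 0 fun A hA => ?_)
    obtain ⟨M, i, hi, hM⟩ := hE A hA
    exact zero_surjective φ hT'0 i (bij 0 M (h 0 M hM)).2 (i0 _)
  | succ q ih =>
    have i1 : ∀ A, Function.Injective ((φ.app (q + 1)).app A) := extI _ fun A hA => by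
      obtain ⟨M, i, hi, hM⟩ := hE A hA
      exact succ_injective_of_map φ q i (bij q M (ih M)).2 (bij q _ (ih _)).1 (bij _ M (h _ M hM)).1
    refine iso_of _ i1 (extS _ fun A hA => ?_)
    obtain ⟨M, i, hi, hM⟩ := hE A hA
    exact succ_surjective φ q i (bij q _ (ih _)).2 (i1 _) (bij _ M (h _ M hM)).2

end Groth.Agent.S8612
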