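import Groth.Statements.S8615
import Groth.Agent.S0099
import Groth.Agent.S14451
import Groth.Agent.S0071
import Groth.Agent.S0073
import Groth.Agent.S0101
import Groth.Agent.EtShriekLib.Coproducts
import Mathlib.RingTheory.Jacobson.Ring

set_option autoImplicit false
universe u
open CategoryTheory CategoryTheory.Limits AlgebraicGeometry
open SGA4h

namespace Groth.Agent.S8615

/-- Let k be an algebraically closed field and X a connected smooth proper curve over k. For the family,
indexed by the closed points x of X, of direct images i_{x*} ℤ of the constant sheaf ℤ along i_x :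
Spec κ(x) → X, any coproduct (given as a colimit cofan) has vanishing etale cohomology in every
degree q > 0. -/
theorem result {k : Type u} [Field k] [IsAlgClosed k]
    {X : Scheme.{u}} (f : X ⟶ Spec (CommRingCat.of k)) [IsProper f] [SmoothOfRelativeDimension 1 f]
    [ConnectedSpace ↥X]
    (c : Cofan fun x : {x : X // IsClosed ({x} : Set X)} =>
      (EtCoh.push (X.fromSpecResidueField x.1)).obj (EtCoh.const (Spec (X.residueField x.1)) ℤ))
    (hc : IsColimit c) (q : ℕ) (hq : 0 < q) :
    Subsingleton (EtCoh.H X c.pt q) := by
  have : CompactSpace X := QuasiCompact.compactSpace_of_compactSpace f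
  have : QuasiSeparatedSpace X := quasiSeparatedSpace_of_quasiSeparated f
  let T := {x : X // IsClosed ({x} : Set X)}
  let F : T → EtCoh.Ab X := fun x =>
    (EtCoh.push (X.fromSpecResidueField x.1)).obj (EtCoh.const (Spec (X.residueField x.1)) ℤ)
  have hF : ∀ x : T, Subsingleton (EtCoh.H X (F x) q) := fun x => by
    let i := X.fromSpecResidueField x.1
    have : IsClosedImmersion i := IsClosedImmersion.of_isPreimmersion _ (by
      rw [X.range_fromSpecResidueField]; exact x.2)
    have : PreservesFiniteLimits (EtCoh.pull i) := Groth.Agent.S0101.result i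
    have hlft : LocallyOfFiniteType (Spec.map (Spec.preimage (i ≫ f))) := by
      rw [Spec.map_preimage]; infer_instance
    rw [HasRingHomProperty.Spec_iff (P := @LocallyOfFiniteType)] at hlft
    let φ : k →+* X.residueField x.1 := (Spec.preimage (i ≫ f)).hom
    algebraize [φ]
    have : Algebra.FiniteType k (X.residueField x.1) := hlft
    have : Module.Finite k (X.residueField x.1) := finite_of_finite_type_of_isJacobsonRing k _
    have hb : Function.Bijective (algebraMap k (X.residueField x.1)) :=
      IsAlgClosed.algebraMap_bijective_of_isIntegral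
    have : IsAlgClosed (X.residueField x.1) :=
      IsAlgClosed.of_ringEquiv k _ (RingEquiv.ofBijective _ hb)
    have : IsAlgClosed (IsLocalRing.ResidueField (X.residueField x.1)) :=
      IsAlgClosed.of_ringEquiv (X.residueField x.1) _ (RingEquiv.ofBijective (IsLocalRing.residue _)
        ⟨RingHom.injective _, IsLocalRing.residue_surjective⟩)
    have : Subsingleton (EtCoh.H (Spec (X.residueField x.1)) (EtCoh.const (Spec (X.residueField x.1)) ℤ) q) :=
      Groth.Agent.S0073.result (X.residueField x.1) _ q hq
    exact (Groth.Agent.S14451.result i (EtCoh.const (Spec (X.residueField x.1)) ℤ)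
      (fun m hm => Groth.Agent.S0071.result i _ m hm) q).injective.subsingleton
  have : PreservesFilteredColimitsOfSize.{u, u} (EtCoh.HF X q) :=
    ⟨fun J _ _ => Groth.Agent.S0099.result X q J⟩
  have : (EtCoh.HF X q).Additive :=
    by unfold EtCoh.HF; infer_instance
  have := EtShriekLib.preservesCoproducts_of_finite_and_filtered (EtCoh.HF X q) T
  have hT := isColimitOfPreserves (EtCoh.HF X q) hc
  have hz : IsZero ((EtCoh.HF X q).obj c.pt) := by
    rw [IsZero.iff_id_eq_zero]
    refine hT.hom_ext fun x => ?_
    have hx : IsZero ((EtCoh.HF X q).obj (F x.as)) :=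
      @AddCommGrpCat.isZero_of_subsingleton _ (hF x.as)
    exact hx.eq_of_src _ _
  exact AddCommGrpCat.subsingleton_of_isZero hz

end Groth.Agent.S8615
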