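import Groth.Statements.S8618
import Groth.Agent.S8604
import Mathlib.LinearAlgebra.Eigenspace.Zero
import Mathlib.RingTheory.Flat.Basic
import Mathlib.RingTheory.Finiteness.Nilpotent
import Mathlib.FieldTheory.Finite.Basic

set_option autoImplicit false
universe u
open SGA4h

namespace Groth.Agent.S8618

open TensorProduct

section Aux

variable {p : ℕ} [Fact p.Prime] {k : Type u} [Field k] [CharP k p] {L : Subfield k}
  {M : Type u} [AddCommGroup M] [Module k M] {K : Type u} [Field K] [Algebra k K] [Module K M]
  [IsScalarTower k K M]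

/-- Independence of fixed vectors over a subfield implies independence over the big field. -/
theorem indep_of_indep (φ : M →+ M)
    (hind : ∀ (s : Finset M), (∀ v ∈ s, φ v = v) →
        (∀ c : s → ℤ, (∑ v : s, c v • (v : M)) = 0 → ∀ v : s, (p : ℤ) ∣ c v) →
          LinearIndependent K (fun v : s => (v : M)))
    (W : Submodule L M) (hW : ∀ y, y ∈ W ↔ φ y = y) {ι : Type*} [Fintype ι] (w : ι → W)
    (hw : LinearIndependent L w) : LinearIndependent K (fun i => (w i : M)) := by
  classical
  let g : ι ↪ M := ⟨fun i => (w i : M), fun i j h => hw.injective (Subtype.ext h)⟩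
  have ht := hind (Finset.univ.map g) (fun v hv => by
    obtain ⟨i, -, rfl⟩ := Finset.mem_map.1 hv
    exact (hW _).1 (w i).2) (fun c hc v => by
    let e : ι → (Finset.univ.map g : Finset M) :=
      fun i => ⟨g i, Finset.mem_map.2 ⟨i, Finset.mem_univ _, rfl⟩⟩
    have he : Function.Bijective e := by
      refine ⟨fun i j h => g.injective (congrArg (fun z : (Finset.univ.map g : Finset M) => (z : M)) h), fun x => ?_⟩
      obtain ⟨i, -, hi⟩ := Finset.mem_map.1 x.2
      exact ⟨i, Subtype.ext hi⟩
    have h0 : ∑ i, ((c (e i) : ℤ) : L) • w i = 0 := by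
      refine Subtype.ext ?_
      rw [Submodule.coe_sum, Submodule.coe_zero, ← hc, ← he.sum_comp (fun x => c x • (x : M))]
      refine Finset.sum_congr rfl fun i _ => ?_
      rw [Submodule.coe_smul, Int.cast_smul_eq_zsmul]
      rfl
    obtain ⟨i, rfl⟩ := he.2 v
    have h1 := congrArg (fun z : L => (z : k)) (Fintype.linearIndependent_iff.1 hw _ h0 i)
    exact (CharP.intCast_eq_zero_iff k p _).1 (by simpa using h1))
  exact ht.comp (fun i => (⟨g i, Finset.mem_map.2 ⟨i, Finset.mem_univ _, rfl⟩⟩ : (Finset.univ.map g : Finset M)))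
    fun i j h => g.injective (congrArg (fun z : (Finset.univ.map g : Finset M) => (z : M)) h)

theorem finite_of_indep (φ : M →+ M) [Module.Finite K M]
    (hind : ∀ (s : Finset M), (∀ v ∈ s, φ v = v) →
        (∀ c : s → ℤ, (∑ v : s, c v • (v : M)) = 0 → ∀ v : s, (p : ℤ) ∣ c v) →
          LinearIndependent K (fun v : s => (v : M)))
    (W : Submodule L M) (hW : ∀ y, y ∈ W ↔ φ y = y) : Module.Finite L W := by
  refine Module.rank_lt_aleph0_iff.1 (lt_of_le_of_lt (rank_le (n := Module.finrank K M) ?_)
    Cardinal.natCast_lt_aleph0)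
  intro s hs
  simpa using (indep_of_indep φ hind W hW (fun i : s => (i : W)) hs).fintype_card_le_finrank

/-- Trace of a `K`-linear map on the span of fixed vectors. -/
theorem trace_span (φ : M →+ M) [Module.Finite K M]
    (hind : ∀ (s : Finset M), (∀ v ∈ s, φ v = v) →
        (∀ c : s → ℤ, (∑ v : s, c v • (v : M)) = 0 → ∀ v : s, (p : ℤ) ∣ c v) →
          LinearIndependent K (fun v : s => (v : M)))
    (W : Submodule L M) (hW : ∀ y, y ∈ W ↔ φ y = y) [Module.Finite L W]
    (FK : M →ₗ[K] M) (G : W →ₗ[L] W) (hG : ∀ y : W, (G y : M) = FK y)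
    (h0 : ∀ x ∈ Submodule.span K {v : M | φ v = v}, FK x ∈ Submodule.span K {v : M | φ v = v}) :
    LinearMap.trace K _ (FK.restrict h0) = algebraMap k K (algebraMap L k (LinearMap.trace L W G)) := by
  classical
  have hsm : ∀ (a : L) (x : M), a • x = algebraMap k K (algebraMap L k a) • x := fun a x => by
    rw [algebraMap_smul]; rfl
  let b := Module.finBasis L W
  have hbli : LinearIndependent K (fun i => (b i : M)) := indep_of_indep φ hind W hW b b.linearIndependent
  have hbspan : Submodule.span K (Set.range fun i => (b i : M)) = Submodule.span K {v : M | φ v = v} := by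
    refine le_antisymm (Submodule.span_le.2 ?_) (Submodule.span_le.2 fun v hv => ?_)
    · rintro _ ⟨i, rfl⟩
      exact Submodule.subset_span ((hW _).1 (b i).2)
    · have e := congrArg (Subtype.val : W → M) (b.sum_repr ⟨v, (hW v).2 hv⟩)
      rw [Submodule.coe_sum] at e
      rw [← (show _ = v from e)]
      refine Submodule.sum_mem _ fun i _ => ?_
      rw [Submodule.coe_smul, hsm]
      exact Submodule.smul_mem _ _ (Submodule.subset_span ⟨i, rfl⟩)
  let b0 : Module.Basis _ K ↥(Submodule.span K {v : M | φ v = v}) :=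
    (Module.Basis.span hbli).map (LinearEquiv.ofEq _ _ hbspan)
  have hb0 : ∀ i, (b0 i : M) = (b i : W) := fun i => by simp [b0]
  rw [LinearMap.trace_eq_matrix_trace K b0, LinearMap.trace_eq_matrix_trace _ b, Matrix.trace,
    Matrix.trace, map_sum, map_sum]
  refine Finset.sum_congr rfl fun i _ => ?_
  have e : FK.restrict h0 (b0 i) =
      ∑ j, (algebraMap k K (algebraMap L k (b.repr (G (b i)) j))) • b0 j := by
    refine Subtype.ext ?_
    rw [LinearMap.restrict_coe_apply, hb0, ← hG, Submodule.coe_sum]
    conv_lhs => rw [← b.sum_repr (G (b i)), Submodule.coe_sum]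
    refine Finset.sum_congr rfl fun j _ => ?_
    rw [Submodule.coe_smul, Submodule.coe_smul, hb0, hsm]
  simp only [Matrix.diag_apply, LinearMap.toMatrix_apply, e, map_sum, map_smul,
    Module.Basis.repr_self, Finsupp.coe_finset_sum, Finset.sum_apply, Finsupp.coe_smul,
    Pi.smul_apply, Finsupp.single_apply, smul_eq_mul, mul_ite, mul_one, mul_zero]
  rw [Finset.sum_ite_eq' Finset.univ i, if_pos (Finset.mem_univ _)]

omit [Algebra k K] [IsScalarTower k K M] [Module k M] in
theorem trace_isCompl [Module.Finite K M] (g : M →ₗ[K] M) {A B : Submodule K M} (h : IsCompl A B)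
    (hA : ∀ x ∈ A, g x ∈ A) (hB : ∀ x ∈ B, g x ∈ B) :
    LinearMap.trace K M g = LinearMap.trace K A (g.restrict hA) + LinearMap.trace K B (g.restrict hB) := by
  let e := Submodule.prodEquivOfIsCompl A B h
  have hg : e.conj ((g.restrict hA).prodMap (g.restrict hB)) = g := by
    refine LinearMap.ext fun z => ?_
    obtain ⟨y, rfl⟩ := e.surjective z
    simp [LinearEquiv.conj_apply, e]
  rw [← LinearMap.trace_prodMap', ← LinearMap.trace_conj' _ e, hg]

omit [Algebra k K] [IsScalarTower k K M] [Module k M] in
theorem trace_nil [Module.Finite K M] (A : Submodule K M) {g : A →ₗ[K] A} (h : IsNilpotent g) :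
    LinearMap.trace K A g = 0 :=
  (LinearMap.isNilpotent_trace_of_isNilpotent h).eq_zero

end Aux

/-- Let k be a finite field with q = p^f elements, F₀ ⊂ k its prime field, K an algebraically closed
extension of k, V a finite-dimensional k-vector space and φ a p-linear endomorphism of V (φ(λx) =
λ^p φ(x)); let F = φ^f, a k-linear endomorphism, F_K its K-linear extension to K ⊗_k V and φ_K the
p-linear extension of φ (φ_K(μ ⊗ v) = μ^p ⊗ φ(v)). Then F_K preserves the F₀-subspace W = Ker(φ_K -
1) of K ⊗_k V, W is finite-dimensional over F₀, and the trace of F_K on W (an element of F₀) equals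
the trace of F on V. -/
theorem result {p : ℕ} [Fact p.Prime] (k : Type u) [Field k] [Fintype k]
    [CharP k p] (f : ℕ) (hq : Fintype.card k = p ^ f) (K : Type u) [Field K] [Algebra k K] [IsAlgClosed K]
    (V : Type u) [AddCommGroup V] [Module k V] [FiniteDimensional k V]
    (φ : V →ₛₗ[frobenius k p] V) (F : V →ₗ[k] V) (hF : ∀ x, F x = (⇑φ)^[f] x)
    (φK : K ⊗[k] V →+ K ⊗[k] V) (hφK : ∀ (μ : K) (v : V), φK (μ ⊗ₜ[k] v) = (μ ^ p) ⊗ₜ[k] φ v)
    (W : Submodule (↥(⊥ : Subfield k)) (K ⊗[k] V)) (hW : ∀ y, y ∈ W ↔ φK y = y) :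
    (∀ y, φK y = y → φK (F.baseChange K y) = F.baseChange K y) ∧
    Module.Finite (↥(⊥ : Subfield k)) ↥W ∧
    ∀ (G : ↥W →ₗ[↥(⊥ : Subfield k)] ↥W), (∀ y : ↥W, (↑(G y) : K ⊗[k] V) = F.baseChange K ↑y) →
      algebraMap k K (algebraMap (↥(⊥ : Subfield k)) k (LinearMap.trace (↥(⊥ : Subfield k)) ↥W G)) =
        algebraMap k K (LinearMap.trace k V F) := by
  classical
  have hp : p.Prime := Fact.out
  have hKp : CharP K p := charP_of_injective_algebraMap (algebraMap k K).injective p
  have hsmul : ∀ (a : K) (x : K ⊗[k] V), φK (a • x) = a ^ p • φK x := by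
    intro a x
    induction x using TensorProduct.induction_on with
    | zero => simp
    | tmul μ v => rw [smul_tmul', hφK, hφK, smul_tmul', smul_eq_mul, smul_eq_mul, mul_pow]
    | add x y hx hy => rw [smul_add, map_add, map_add, hx, hy, smul_add]
  obtain ⟨hcompl, hindep⟩ := S8604.result p K (K ⊗[k] V) φK hsmul
  set FK := F.baseChange K with hFK
  -- `F_K` commutes with `φ_K`
  have hcomm : ∀ x, φK (FK x) = FK (φK x) := by
    intro x
    induction x using TensorProduct.induction_on with
    | zero => simp
    | tmul μ v =>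
      rw [hFK, LinearMap.baseChange_tmul, hφK, hφK, LinearMap.baseChange_tmul, hF, hF,
        (Function.Commute.self_iterate (⇑φ) f).eq]
    | add x y hx hy => simp [hx, hy]
  have hW' : ∀ y, φK y = y → φK (FK y) = FK y := fun y hy => by rw [hcomm, hy]
  refine ⟨hW', ?_⟩
  -- independence over the prime field implies independence over `K`
  have hfin : Module.Finite (↥(⊥ : Subfield k)) ↥W := finite_of_indep φK hindep W hW
  refine ⟨hfin, fun G hG => ?_⟩
  congr 1
  apply (algebraMap k K).injective
  set V0 := Submodule.span K {v : K ⊗[k] V | φK v = v}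
  set Vn := Submodule.span K {v : K ⊗[k] V | ∃ m : ℕ, (⇑φK)^[m] v = 0}
  -- stability
  have h0 : ∀ x ∈ V0, FK x ∈ V0 := by
    intro x hx
    induction hx using Submodule.span_induction with
    | mem x hx => exact Submodule.subset_span (hW' x hx)
    | zero => simp
    | add x y _ _ hx hy => rw [map_add]; exact add_mem hx hy
    | smul a x _ hx => rw [map_smul]; exact V0.smul_mem a hx
  have hn : ∀ x ∈ Vn, FK x ∈ Vn := by
    intro x hx
    induction hx using Submodule.span_induction with
    | mem x hx =>
      obtain ⟨m, hm⟩ := hx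
      refine Submodule.subset_span ⟨m, ?_⟩
      rw [(Function.Commute.iterate_left (f := ⇑φK) (g := ⇑FK) hcomm m).eq, hm, map_zero]
    | zero => simp
    | add x y _ _ hx hy => rw [map_add]; exact add_mem hx hy
    | smul a x _ hx => rw [map_smul]; exact Vn.smul_mem a hx
  have htr0 := trace_span φK hindep W hW FK G hG h0
  -- nilpotence on the complement
  let σ : K ⊗[k] V →ₗ[k] K ⊗[k] V :=
    TensorProduct.map (FiniteField.frobeniusAlgHom k K).toLinearMap LinearMap.id
  have hσ : Function.Injective σ :=
    Module.Flat.rTensor_preserves_injective_linearMap (M := V) _ (FiniteField.frobeniusAlgHom k K).toRingHom.injective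
  have hiter : ∀ (m : ℕ) (μ : K) (v : V), (⇑φK)^[m] (μ ⊗ₜ[k] v) = (μ ^ p ^ m) ⊗ₜ[k] (⇑φ)^[m] v := by
    intro m
    induction m with
    | zero => simp
    | succ m ih =>
      intro μ v
      rw [Function.iterate_succ_apply', ih, hφK, Function.iterate_succ_apply', ← pow_mul, ← pow_succ]
  have hσF : ∀ x, (⇑φK)^[f] x = σ (FK x) := by
    intro x
    induction x using TensorProduct.induction_on with
    | zero => simp [iterate_map_zero]
    | tmul μ v => simp [σ, hFK, hiter, hF, hq]
    | add x y hx hy => rw [iterate_map_add, hx, hy, map_add, map_add]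
  have hσcomm : Function.Commute (⇑σ) (⇑FK) := by
    intro x
    induction x using TensorProduct.induction_on with
    | zero => simp
    | tmul μ v => simp [σ, hFK]
    | add x y hx hy => rw [map_add, map_add, hx, hy, map_add, map_add]
  have hf0 : f ≠ 0 := fun h => by
    rw [h, pow_zero] at hq
    exact absurd hq (Fintype.one_lt_card).ne'
  have hnil : IsNilpotent (FK.restrict hn) := by
    refine Module.End.isNilpotent_iff_of_finite.2 fun x => ?_
    obtain ⟨x, hx⟩ := x
    suffices ∃ N, (FK ^ N) x = 0 by
      obtain ⟨N, hN⟩ := this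
      exact ⟨N, Subtype.ext (by rw [Module.End.pow_restrict, LinearMap.restrict_coe_apply]; exact hN)⟩
    induction hx using Submodule.span_induction with
    | mem x hx =>
      obtain ⟨m, hm⟩ := hx
      refine ⟨m, ?_⟩
      have e : (⇑φK)^[f * m] x = 0 := by
        obtain ⟨r, hr⟩ := Nat.exists_eq_add_of_le (Nat.le_mul_of_pos_left m (Nat.pos_of_ne_zero hf0))
        rw [hr, add_comm, Function.iterate_add_apply, hm, iterate_map_zero]
      rw [Function.iterate_mul, show (⇑φK)^[f] = ⇑σ ∘ ⇑FK from funext hσF, hσcomm.comp_iterate m,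
        Function.comp_apply, ← Module.End.pow_apply FK] at e
      exact hσ.iterate m (e.trans (iterate_map_zero σ m).symm)
    | zero => exact ⟨0, by simp⟩
    | add x y _ _ hx hy =>
      obtain ⟨M, hM⟩ := hx; obtain ⟨N, hN⟩ := hy
      exact ⟨N + M, by
        rw [map_add, pow_add, Module.End.mul_apply, hM, map_zero, zero_add, ← pow_add, add_comm, pow_add,
          Module.End.mul_apply, hN, map_zero]⟩
    | smul a x _ hx => obtain ⟨N, hN⟩ := hx; exact ⟨N, by rw [map_smul, hN, smul_zero]⟩
  have htot : LinearMap.trace K (K ⊗[k] V) FK =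
      LinearMap.trace K V0 (FK.restrict h0) + LinearMap.trace K Vn (FK.restrict hn) := by
    exact trace_isCompl FK hcompl h0 hn
  have hz := trace_nil Vn hnil
  have e1 : LinearMap.trace K (K ⊗[k] V) FK = algebraMap k K (LinearMap.trace k V F) :=
    LinearMap.trace_baseChange F K
  exact ((((e1.symm.trans htot).trans (congrArg₂ (· + ·) htr0 hz)).trans (add_zero _))).symm

end Groth.Agent.S8618
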