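import Groth.Prelude.Def_EtMod2
import Mathlib.AlgebraicGeometry.Noetherian
import Mathlib.RingTheory.Flat.Basic
import Mathlib.FieldTheory.IsSepClosed
import Mathlib.Algebra.Homology.QuasiIso
import Groth.Agent.EtModWLib.FlatRes

set_option autoImplicit false
universe u
open CategoryTheory CategoryTheory.Limits AlgebraicGeometry
namespace SGA4h
end SGA4h
open SGA4h

namespace Groth.Agent.S8619

open Groth.Agent Groth.Agent.EtModWLib

/-- Let X be a Noetherian scheme, Λ a commutative Noetherian ring and K a cochain complex of etale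
sheaves of Λ-modules on X whose cohomology sheaves are constructible and vanish in large degrees.
Then there are a cochain complex K', zero in large degrees, whose components are constructible
sheaves of Λ-modules with flat geometric stalks, and a quasi-isomorphism K' → K. (The published
statement allows a left-Noetherian, possibly non-commutative Λ.) -/
theorem result {Λ : Type (u + 1)} [CommRing Λ]
    [IsNoetherianRing Λ] {X : Scheme.{u}} [IsNoetherian X]
    (K : CochainComplex (EtModW.Mod Λ X) ℤ)
    (hK : ∀ i : ℤ, EtModW.IsConstructible Λ (K.homology i))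
    (hb : ∃ m : ℤ, ∀ i : ℤ, m ≤ i → IsZero (K.homology i)) :
    ∃ (K' : CochainComplex (EtModW.Mod Λ X) ℤ) (φ : K' ⟶ K), QuasiIso φ ∧
      (∃ m : ℤ, ∀ i : ℤ, m ≤ i → IsZero (K'.X i)) ∧
      (∀ i : ℤ, EtModW.IsConstructible Λ (K'.X i)) ∧
      ∀ (i : ℤ) (Ω : Type u) [Field Ω] [IsSepClosed Ω] (ξ : Spec (CommRingCat.of Ω) ⟶ X),
        Module.Flat Λ ((EtModW.stalk Λ ξ).obj (K'.X i)) := by
  obtain ⟨m, hm⟩ := hb
  obtain ⟨Q, α, h1, h2, h3⟩ := LeftRes.exists_leftResolution (classes_flat (Λ := Λ) (X := X)) hK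
    _ (isZero_zero (EtModW.Mod Λ X)) (isFlatCons_of_isZero (isZero_zero _)) m (fun n hn => hm n hn.le)
  exact ⟨Q, α, h3, ⟨m + 1, fun i hi => h1 i (by omega)⟩, fun i => (h2 i).1, fun i => (h2 i).2⟩

end Groth.Agent.S8619
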