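import Groth.Statements.S8622
import Groth.Agent.EtConsAb.Colim
import Groth.Agent.EtConsAb.Gen
import Groth.Agent.EtConsAb.SubFLC
import Groth.Agent.EtConsAb.ConsSerre
import Groth.Agent.EtConsAb.Supp
import Groth.Agent.EtShriekLib.Supp

set_option autoImplicit false
universe u
open CategoryTheory CategoryTheory.Limits AlgebraicGeometry
open SGA4h

namespace Groth.Agent.S8622

open Groth.Agent.EtaleSite Groth.Agent.EtConsAb
open EtShriek (sectSupp)

set_option backward.isDefEq.respectTransparency false

theorem isNoetherian_of_iso {A B : Scheme.{u}} (f : A ⟶ B) [IsIso f] [IsNoetherian B] :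
    AlgebraicGeometry.IsNoetherian A := by
  haveI : TopologicalSpace.NoetherianSpace ↥A := f.isEmbedding.isInducing.noetherianSpace
  haveI : IsLocallyNoetherian A := isLocallyNoetherian_of_isOpenImmersion f
  exact {}

theorem SpecIso_inv_reindex {n m : Type u} (φ : m → n) (R : CommRingCat.{u}) :
    (AffineSpace.SpecIso n R).inv ≫ AffineSpace.reindex φ (Spec R) =
      Spec.map (CommRingCat.ofHom (MvPolynomial.rename (R := R) φ).toRingHom) ≫ (AffineSpace.SpecIso m R).inv := by
  refine AffineSpace.hom_ext ?_ fun j => ?_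
  · rw [Category.assoc, AffineSpace.reindex_over, AffineSpace.SpecIso_inv_over, Category.assoc,
      AffineSpace.SpecIso_inv_over, ← Spec.map_comp]
    congr 1
    refine CommRingCat.hom_ext (RingHom.ext fun c => ?_)
    exact (MvPolynomial.rename_C φ c).symm
  · rw [Scheme.Hom.comp_appTop, Scheme.Hom.comp_appTop, CommRingCat.comp_apply, CommRingCat.comp_apply,
      AffineSpace.reindex_appTop_coord, AffineSpace.SpecIso_inv_appTop_coord,
      AffineSpace.SpecIso_inv_appTop_coord, ← CommRingCat.comp_apply, ← Scheme.ΓSpecIso_inv_naturality,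
      CommRingCat.comp_apply]
    exact congrArg _ (MvPolynomial.rename_X φ j).symm

/-- A finite set of generators whose inverse image is epi. -/
theorem exists_epi_pull {X P : Scheme.{u}} [IsNoetherian P] (p : P ⟶ X) {F : EtCoh.Ab X}
    (hF : EtCoh.IsTorsion F) (hc : EtPBC.IsConstructible ((EtCoh.pull p).obj F)) :
    ∃ S : Finset (Gen F), ∀ S' : Finset (Gen F), S ⊆ S' → Epi ((EtCoh.pull p).map (genπ S')) := by
  classical
  haveI := isNoetherianObject_of_isConstructible hc
  let I : Finset (Gen F) → Subobject ((EtCoh.pull p).obj F) := fun S =>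
    imageSubobject ((EtCoh.pull p).map (genπ S))
  have hmono : ∀ {S S' : Finset (Gen F)}, S ⊆ S' → I S ≤ I S' := fun {S S'} h => by
    show imageSubobject ((EtCoh.pull p).map (genπ S)) ≤ _
    rw [← genIncl_π h, Functor.map_comp]
    exact imageSubobject_comp_le _ _
  obtain ⟨_, ⟨S, rfl⟩, hmax⟩ := wellFounded_gt.has_min (Set.range I) ⟨_, ∅, rfl⟩
  have hS : Epi ((EtCoh.pull p).map (genπ S)) := (EtaleSite.epi_iff_stalk _).2 fun Ω _ _ ξ z => by
    obtain ⟨g, φ, hg⟩ := exists_gen_germ hF (ξ ≫ p) ((stalkPullIso p ξ).hom.app F z)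
    have hle : I S ≤ I (insert g S) := hmono (Finset.subset_insert g S)
    have heq : I (insert g S) = I S := ((eq_or_lt_of_le hle).resolve_right (hmax _ ⟨_, rfl⟩)).symm
    obtain ⟨y, hy⟩ := germ_mem_range_genπ (insert g S) ⟨g, Finset.mem_insert_self g S⟩ (ξ ≫ p) φ
    let w := (stalkPullIso p ξ).inv.app (genSum (insert g S)) y
    have hw : (EtCoh.stalk ξ).map ((EtCoh.pull p).map (genπ (insert g S))) w = z := by
      have h1 := ConcreteCategory.congr_hom ((stalkPullIso p ξ).inv.naturality (genπ (insert g S))) y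
      refine h1.symm.trans ?_
      refine (congrArg ((stalkPullIso p ξ).inv.app F) (hy.trans hg)).trans ?_
      exact ConcreteCategory.congr_hom ((stalkPullIso p ξ).hom_inv_id_app F) z
    let f := factorThruImageSubobject ((EtCoh.pull p).map (genπ (insert g S))) ≫ Subobject.ofLE _ _ heq.le
    obtain ⟨v, hv⟩ := stalk_surjective_of_epi ξ
      (factorThruImageSubobject ((EtCoh.pull p).map (genπ S))) ((EtCoh.stalk ξ).map f w)
    refine ⟨v, Eq.trans ?_ hw⟩
    calc _ = (EtCoh.stalk ξ).map (factorThruImageSubobject ((EtCoh.pull p).map (genπ S)) ≫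
          (imageSubobject ((EtCoh.pull p).map (genπ S))).arrow) v := by rw [imageSubobject_arrow_comp]
      _ = (EtCoh.stalk ξ).map (f ≫ (imageSubobject ((EtCoh.pull p).map (genπ S))).arrow) w := by
          rw [Functor.map_comp, ConcreteCategory.comp_apply, hv]
          simp only [f, Functor.map_comp, ConcreteCategory.comp_apply]
          rfl
      _ = _ := by
          have e2 : f ≫ (imageSubobject ((EtCoh.pull p).map (genπ S))).arrow =
              (EtCoh.pull p).map (genπ (insert g S)) := by
            simp only [f, I, Category.assoc, Subobject.ofLE_arrow, imageSubobject_arrow_comp]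
          exact congrArg (fun t => (EtCoh.stalk ξ).map t w) e2
  refine ⟨S, fun S' h => ?_⟩
  have e : (EtCoh.pull p).map (genIncl h) ≫ (EtCoh.pull p).map (genπ S') = (EtCoh.pull p).map (genπ S) := by
    rw [← Functor.map_comp, genIncl_π]
  exact epi_of_epi_fac e

/-- A point with algebraic coordinates is closed. -/
theorem isMaximal_of_coord {k : Type u} [Field k] {ι : Type u} (𝔭 : Ideal (MvPolynomial ι k)) [𝔭.IsPrime]
    (h : ∀ i : ι, Ideal.comap (MvPolynomial.rename (R := k) (fun _ : PUnit.{u + 1} => i)).toRingHom 𝔭 ≠ ⊥) :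
    𝔭.IsMaximal := by
  haveI : Algebra.IsIntegral k (MvPolynomial ι k ⧸ 𝔭) := ⟨fun a => by
    obtain ⟨a, rfl⟩ := Ideal.Quotient.mk_surjective a
    induction a using MvPolynomial.induction_on with
    | C c => exact isIntegral_algebraMap
    | add a b ha hb => rw [map_add]; exact ha.add hb
    | mul_X a i ha =>
      rw [map_mul]
      refine ha.mul (IsAlgebraic.isIntegral ?_)
      obtain ⟨P, hP, hP0⟩ := Submodule.exists_mem_ne_zero_of_ne_bot (h i)
      refine ⟨MvPolynomial.pUnitAlgEquiv k P, fun h0 => hP0 ?_, ?_⟩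
      · exact (MvPolynomial.pUnitAlgEquiv k).injective (h0.trans (map_zero _).symm)
      · have e : ((Polynomial.aeval (Ideal.Quotient.mk 𝔭 (MvPolynomial.X i))).comp
            (MvPolynomial.pUnitAlgEquiv k).toAlgHom) =
            (Ideal.Quotient.mkₐ k 𝔭).comp (MvPolynomial.rename fun _ : PUnit.{u + 1} => i) := by
          ext j
          simp
        refine (AlgHom.congr_fun e P).trans ?_
        exact Ideal.Quotient.eq_zero_iff_mem.2 hP⟩
  exact Ideal.Quotient.maximal_of_isField 𝔭
    (isField_of_isIntegral_of_isField' (Field.toIsField k))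


/-- Let k be a field, m a natural number invertible in k, ι a finite index type, e : X → 𝔸^ι_k an
immersion, F an abelian etale sheaf on X killed by m, and η̄ : Spec Ω → 𝔸¹_k (Ω separably closed) a
geometric point over the generic point of the affine line. For i ∈ ι let X_{η̄,i} be the geometric
generic fibre of the i-th coordinate projection X → 𝔸¹_k and F_{η̄,i} the restriction of F to it. If
every F_{η̄,i} is constructible, then there is a constructible subsheaf F' ⊂ F such that every
section of F/F' over a quasi-compact etale X-scheme has finite support. -/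
theorem result {k : Type u} [Field k] (m : ℕ)
    (hm : IsUnit (m : k)) {ι : Type u} [Finite ι] {X : Scheme.{u}}
    (e : X ⟶ 𝔸(ι; Spec (CommRingCat.of k))) [IsImmersion e]
    (F : EtCoh.Ab X) (hFm : EtCoh.KilledBy m F)
    {Ω : Type u} [Field Ω] [IsSepClosed Ω] (η : Spec (CommRingCat.of Ω) ⟶ 𝔸(PUnit.{u + 1}; Spec (CommRingCat.of k)))
    (hη : closure (Set.range η.base) = Set.univ)
    (hF : ∀ i : ι, EtPBC.IsConstructible
      ((EtCoh.pull (pullback.fst (e ≫ AffineSpace.reindex (fun _ : PUnit.{u + 1} => i) _) η)).obj F)) :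
    ∃ (F' : EtCoh.Ab X) (u : F' ⟶ F), Mono u ∧ EtPBC.IsConstructible F' ∧
      ∀ (U : X.Etale) [CompactSpace ↥U.left] (s : EtCoh.sect (cokernel u) U),
        (EtShriek.sectSupp (cokernel u) U s).Finite := by
  classical
  let S₀ := Spec (CommRingCat.of k)
  haveI : IsNoetherianRing (CommRingCat.of k) := inferInstanceAs (IsNoetherianRing k)
  let σ := AffineSpace.SpecIso ι (CommRingCat.of k)
  let σ₁ := AffineSpace.SpecIso PUnit.{u + 1} (CommRingCat.of k)
  haveI : IsNoetherian (𝔸(ι; S₀)) := isNoetherian_of_iso σ.hom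
  haveI : TopologicalSpace.NoetherianSpace ↥X := e.isEmbedding.isInducing.noetherianSpace
  haveI : IsLocallyNoetherian X := LocallyOfFiniteType.isLocallyNoetherian e
  haveI : IsNoetherian X := {}
  have hm0 : 0 < m := Nat.pos_of_ne_zero fun h => by simp [h] at hm
  have hT : EtCoh.IsTorsion F := fun U s x =>
    ⟨U, 𝟙 U, ⟨x, rfl⟩, isOfFinAddOrder_iff_nsmul_eq_zero.2 ⟨m, hm0, hFm _ _⟩⟩
  let q : ∀ i : ι, X ⟶ 𝔸(PUnit.{u + 1}; S₀) := fun i => e ≫ AffineSpace.reindex (fun _ : PUnit.{u + 1} => i) _
  haveI : ∀ i, IsNoetherian (pullback (q i) η) := fun i => by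
    haveI : IsNoetherian (𝔸(PUnit.{u + 1}; S₀)) := isNoetherian_of_iso σ₁.hom
    haveI : LocallyOfFiniteType (q i ≫ 𝔸(PUnit.{u + 1}; S₀) ↘ S₀) := by
      have e2 : q i ≫ 𝔸(PUnit.{u + 1}; S₀) ↘ S₀ = e ≫ 𝔸(ι; S₀) ↘ S₀ :=
        (Category.assoc _ _ _).trans (congrArg (e ≫ ·) (AffineSpace.reindex_over _ _))
      rw [e2]; infer_instance
    haveI : LocallyOfFiniteType (q i) := locallyOfFiniteType_of_comp _ (𝔸(PUnit.{u + 1}; S₀) ↘ S₀)
    haveI : IsLocallyNoetherian (pullback (q i) η) :=
      LocallyOfFiniteType.isLocallyNoetherian (pullback.snd (q i) η)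
    haveI : CompactSpace ↥(pullback (q i) η) :=
      QuasiCompact.compactSpace_of_compactSpace (pullback.snd (q i) η)
    exact {}
  choose S hS using fun i => exists_epi_pull (pullback.fst (q i) η) hT (hF i)
  cases nonempty_fintype ι
  let T := Finset.univ.biUnion S
  let π := genπ T
  refine ⟨Abelian.image π, Abelian.image.ι π, inferInstance,
    isConstructible_quotient (Abelian.factorThruImage π) (isConstructible_genSum T), fun U _ s => ?_⟩
  let Q := cokernel (Abelian.image.ι π)
  have hsupp : ∀ x ∈ EtPBC.supp Q, IsClosed ({x} : Set X) := by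
    intro x hx
    have hgen : ∀ i, (q i).base x ≠ η.base default := by
      intro i hi
      have hmem : x ∈ Set.range (pullback.fst (q i) η).base := by
        rw [Scheme.Pullback.range_fst]
        exact ⟨default, hi.symm⟩
      obtain ⟨z, rfl⟩ := hmem
      have hz : IsZero ((EtCoh.pull (pullback.fst (q i) η)).obj Q) := by
        haveI := hS i T (Finset.subset_biUnion_of_mem S (Finset.mem_univ i))
        haveI : Epi ((EtCoh.pull (pullback.fst (q i) η)).map (cokernel.π (Abelian.image.ι π))) := inferInstance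
        refine IsZero.of_epi_eq_zero ((EtCoh.pull (pullback.fst (q i) η)).map (cokernel.π (Abelian.image.ι π))) ?_
        rw [← cancel_epi ((EtCoh.pull (pullback.fst (q i) η)).map π), ← Functor.map_comp, comp_zero]
        have h0 : π ≫ cokernel.π (Abelian.image.ι π) = 0 := by
          calc π ≫ cokernel.π (Abelian.image.ι π) =
                (Abelian.factorThruImage π ≫ Abelian.image.ι π) ≫ cokernel.π (Abelian.image.ι π) :=
              (congrArg (· ≫ cokernel.π (Abelian.image.ι π)) (Abelian.image.fac π)).symm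
            _ = 0 := by rw [Category.assoc, cokernel.condition, comp_zero]
        rw [h0, Functor.map_zero]
      have h2 : z ∈ EtPBC.supp ((EtCoh.pull (pullback.fst (q i) η)).obj Q) := by rw [supp_pull]; exact hx
      rw [← geomPointAt_apply _ z default, mem_supp_iff] at h2
      exact h2 ((EtCoh.stalk _).map_isZero hz)
    let y := σ.hom.base (e.base x)
    haveI : y.asIdeal.IsPrime := y.isPrime
    have hmax : y.asIdeal.IsMaximal := by
      refine isMaximal_of_coord y.asIdeal fun i hbot => hgen i ?_
      let φ : PUnit.{u + 1} → ι := fun _ => i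
      have hsq : σ.inv ≫ AffineSpace.reindex φ S₀ =
          Spec.map (CommRingCat.ofHom (MvPolynomial.rename (R := k) φ).toRingHom) ≫ σ₁.inv :=
        SpecIso_inv_reindex φ (CommRingCat.of k)
      have h1 : σ₁.hom.base ((q i).base x) =
          (Spec.map (CommRingCat.ofHom (MvPolynomial.rename (R := k) φ).toRingHom)).base y := by
        have e1 : AffineSpace.reindex φ S₀ ≫ σ₁.hom =
            σ.hom ≫ Spec.map (CommRingCat.ofHom (MvPolynomial.rename (R := k) φ).toRingHom) := by
          rw [← Iso.inv_comp_eq, ← Category.assoc, hsq, Category.assoc, Iso.inv_hom_id, Category.comp_id]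
        exact (Scheme.Hom.comp_apply _ _ _).symm.trans ((congrArg (fun g : _ ⟶ Spec _ => g.base (e.base x)) e1).trans
          (Scheme.Hom.comp_apply _ _ _))
      have hη0 : (σ₁.hom.base (η.base default)).asIdeal = ⊥ := by
        have hb : (⟨⊥, Ideal.isPrime_bot⟩ : PrimeSpectrum (MvPolynomial PUnit.{u + 1} k)) ∈
            closure {σ₁.hom.base (η.base default)} := by
          have h3 : closure {η.base default} = Set.univ := by
            rw [← hη]; congr 1; ext z
            exact ⟨fun h => ⟨default, h.symm⟩, fun ⟨w, hw⟩ => by rw [← hw, Subsingleton.elim w default]; rfl⟩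
          obtain ⟨z, hz⟩ := σ₁.hom.surjective (⟨⊥, Ideal.isPrime_bot⟩ : PrimeSpectrum (MvPolynomial PUnit.{u + 1} k))
          rw [← hz, ← Set.image_singleton]
          exact image_closure_subset_closure_image σ₁.hom.continuous ⟨z, by rw [h3]; trivial, rfl⟩
        rw [← specializes_iff_mem_closure] at hb
        exact le_bot_iff.1 ((PrimeSpectrum.le_iff_specializes _ _).2 hb)
      refine σ₁.hom.isEmbedding.injective (PrimeSpectrum.ext ?_)
      show (σ₁.hom.base ((q i).base x)).asIdeal = (σ₁.hom.base (η.base default)).asIdeal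
      rw [hη0, h1]
      exact hbot
    have hcy : IsClosed ({y} : Set _) := (PrimeSpectrum.isClosed_singleton_iff_isMaximal y).2 hmax
    have := hcy.preimage ((σ.hom.continuous.comp e.continuous))
    rwa [show (σ.hom.base ∘ e.base) ⁻¹' {y} = {x} from
      Set.ext fun z => ⟨fun h => e.isEmbedding.injective (σ.hom.isEmbedding.injective h), fun h => h ▸ rfl⟩] at this
  let h : U.left ⟶ X := U.hom
  haveI : Etale h := U.prop
  haveI : IsLocallyNoetherian U.left := LocallyOfFiniteType.isLocallyNoetherian h
  haveI : AlgebraicGeometry.IsNoetherian U.left := {}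
  let C := sectSupp Q U s
  have hC : ∀ w ∈ C, IsClosed ({h.base w} : Set X) := fun w hw => by
    refine hsupp _ ?_
    by_contra hns
    let ζ := geomPointAt U.left w ≫ h
    have hζ : ζ default = h.base w := by
      show (geomPointAt U.left w ≫ h) default = _
      rw [Scheme.Hom.comp_apply, geomPointAt_apply]
    rw [← hζ, mem_supp_iff, not_not] at hns
    haveI := AddCommGrpCat.subsingleton_of_isZero hns
    exact (EtShriekLib.mem_sectSupp_iff _ s w).1 hw (Subsingleton.elim (α := (EtCoh.stalk ζ).obj Q) _ _)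
  have hcl : ∀ w ∈ C, ∀ z ∈ C, w ⤳ z → w = z := fun w hw z hz hwz => by
    haveI : LocallyQuasiFinite h := by
      refine ⟨fun {V} hV {W} hW e' => ?_⟩
      have h1 := (h.etale_appLE hV hW e').formallyUnramified
      have h2 := h.etale_appLE hV hW e'
      algebraize [(h.appLE V W e').hom]
      exact RingHom.quasiFinite_algebraMap.2 inferInstance
    have hfib : z ∈ h.base ⁻¹' {h.base w} :=
      specializes_iff_mem_closure.1 hwz |> fun hm => ((hC w hw).preimage h.continuous).closure_subset_iff.2
        (Set.singleton_subset_iff.2 (by simp)) hm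
    haveI : DiscreteTopology ↑(h.base ⁻¹' {h.base w}) := (h.isDiscrete_preimage_singleton _).to_subtype
    exact congrArg Subtype.val ((subtype_specializes_iff (x := (⟨w, rfl⟩ : ↑(h.base ⁻¹' {h.base w})))
      (y := ⟨z, hfib⟩)).2 hwz).eq
  have hCc : IsClosed C := EtShriekLib.isClosed_sectSupp _ _ _
  obtain ⟨Ts, hTs, hTsf, hTsi, hTC⟩ : ∃ (Ts : Set (Set U.left)), (∀ Z ∈ Ts, IsIrreducible Z) ∧ Ts.Finite ∧
      (∀ Z ∈ Ts, IsClosed Z) ∧ C = ⋃₀ Ts := by
    obtain ⟨Ts, h1, h2, h3, h4⟩ := TopologicalSpace.NoetherianSpace.exists_finite_set_isClosed_irreducible hCc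
    exact ⟨Ts, h3, h1, h2, h4⟩
  show C.Finite
  rw [hTC]
  refine hTsf.sUnion fun Z hZ => Set.Subsingleton.finite fun a ha b hb => ?_
  have hsub : Z ⊆ C := hTC ▸ Set.subset_sUnion_of_mem hZ
  obtain ⟨g, hg⟩ := QuasiSober.sober (hTs Z hZ) (hTsi Z hZ)
  have hg1 := hsub hg.mem
  exact (hcl g hg1 a (hsub ha) (hg.specializes ha)).symm.trans (hcl g hg1 b (hsub hb) (hg.specializes hb))

end Groth.Agent.S8622
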