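import Groth.Statements.S8625
import Mathlib.Tactic.Group
import Mathlib.Algebra.Group.Conj

set_option autoImplicit false
universe u
open SGA4h

namespace Groth.Agent.S8625

/-- Let G be a group with an endomorphism F, and assume the Lang map g ↦ F(g)g⁻¹ is surjective (for
instance the geometric points of a connected algebraic group over F_q with its Frobenius, where the
surjectivity is the classical result of Lang; the other Lang map g ↦ g⁻¹F(g) is then surjective too,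
by g ↦ g⁻¹). Let G^F be the subgroup of fixed points of F. (i) If F(g)g⁻¹ is fixed by F then so is
g⁻¹F(g). (ii), (iii) There is a bijection of the set of conjugacy classes of G^F with itself
sending, for every g with F(g)g⁻¹ ∈ G^F, the class of F(g)g⁻¹ to the class of g⁻¹F(g) (in particular
the latter class depends only on the former). -/
theorem result {G : Type u} [Group G] (F : G →* G)
    (hL : Function.Surjective fun g : G => F g * g⁻¹) :
    (∀ g : G, F (F g * g⁻¹) = F g * g⁻¹ → F (g⁻¹ * F g) = g⁻¹ * F g) ∧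
    ∃ φ : ConjClasses ↥(F.eqLocus (MonoidHom.id G)) → ConjClasses ↥(F.eqLocus (MonoidHom.id G)),
      Function.Bijective φ ∧
      ∀ (g : G) (h : F (F g * g⁻¹) = F g * g⁻¹) (h' : F (g⁻¹ * F g) = g⁻¹ * F g),
        φ (ConjClasses.mk (⟨F g * g⁻¹, h⟩ : ↥(F.eqLocus (MonoidHom.id G)))) =
          ConjClasses.mk (⟨g⁻¹ * F g, h'⟩ : ↥(F.eqLocus (MonoidHom.id G))) := by
  set H := F.eqLocus (MonoidHom.id G)
  have fix1 : ∀ g : G, F (F g * g⁻¹) = F g * g⁻¹ → F (g⁻¹ * F g) = g⁻¹ * F g := by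
    intro g h
    rw [map_mul, map_inv] at h
    have h' : F (F g) = F g * g⁻¹ * F g := mul_inv_eq_iff_eq_mul.mp h
    rw [map_mul, map_inv, h']; group
  have fix2 : ∀ g : G, F (g⁻¹ * F g) = g⁻¹ * F g → F (F g * g⁻¹) = F g * g⁻¹ := by
    intro g h
    rw [map_mul, map_inv] at h
    have h' : F (F g) = F g * (g⁻¹ * F g) := inv_mul_eq_iff_eq_mul.mp h
    rw [map_mul, map_inv, h']; group
  -- the twisted element attached to `h`
  have hg : ∀ h : ↥H, ∃ g : G, F g * g⁻¹ = h := fun h => hL h.1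
  choose c hc using hg
  have hc' : ∀ h : ↥H, F (F (c h) * (c h)⁻¹) = F (c h) * (c h)⁻¹ := by
    intro h; rw [hc]; exact h.2
  let t : ↥H → ↥H := fun h => ⟨(c h)⁻¹ * F (c h), fix1 _ (hc' h)⟩
  have key : ∀ (h₁ h₂ : ↥H) (g₁ g₂ : G), F g₁ * g₁⁻¹ = h₁ → F g₂ * g₂⁻¹ = h₂ →
      ∀ (k₁ k₂ : ↥H), g₁⁻¹ * F g₁ = k₁ → g₂⁻¹ * F g₂ = k₂ → (IsConj h₁ h₂ ↔ IsConj k₁ k₂) := by
    intro h₁ h₂ g₁ g₂ e₁ e₂ k₁ k₂ f₁ f₂
    rw [isConj_iff, isConj_iff]
    constructor
    · rintro ⟨a, ha⟩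
      have ha' : (a : G) * (F g₁ * g₁⁻¹) * (a : G)⁻¹ = F g₂ * g₂⁻¹ := by
        rw [e₁, e₂]; simpa using congrArg Subtype.val ha
      have hb : F (g₂⁻¹ * (a : G) * g₁) = g₂⁻¹ * (a : G) * g₁ := by
        have hfa : F (a : G) = a := a.2
        rw [map_mul, map_mul, map_inv, hfa]
        have : F g₂ = (a : G) * (F g₁ * g₁⁻¹) * (a : G)⁻¹ * g₂ := by rw [ha']; group
        rw [this]; group
      refine ⟨⟨g₂⁻¹ * (a : G) * g₁, hb⟩, Subtype.ext ?_⟩
      simp only [Subgroup.coe_mul, Subgroup.coe_inv, ← f₁, ← f₂]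
      rw [map_mul, map_mul, map_inv, a.2] at hb
      have : F g₁ = (a : G)⁻¹ * F g₂ * (g₂⁻¹ * (a : G) * g₁) := by
        conv_lhs => rw [show F g₁ = (a : G)⁻¹ * F g₂ * ((F g₂)⁻¹ * (a : G) * F g₁) by group]
        rw [show (MonoidHom.id G) (a : G) = a from rfl] at hb
        rw [hb]
      rw [this]; group
    · rintro ⟨a, ha⟩
      have ha' : (a : G) * (g₁⁻¹ * F g₁) * (a : G)⁻¹ = g₂⁻¹ * F g₂ := by
        rw [f₁, f₂]; simpa using congrArg Subtype.val ha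
      have hfa : F (a : G) = a := a.2
      have e3 : F g₂ = g₂ * ((a : G) * (g₁⁻¹ * F g₁) * (a : G)⁻¹) := by rw [ha']; group
      have hb : F (g₂ * (a : G) * g₁⁻¹) = g₂ * (a : G) * g₁⁻¹ := by
        rw [map_mul, map_mul, map_inv, hfa, e3]; group
      refine ⟨⟨g₂ * (a : G) * g₁⁻¹, hb⟩, Subtype.ext ?_⟩
      simp only [Subgroup.coe_mul, Subgroup.coe_inv, ← e₁, ← e₂]
      rw [e3]; group
  refine ⟨fix1, Quotient.lift (fun h => ConjClasses.mk (t h)) ?_, ⟨?_, ?_⟩, ?_⟩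
  · intro a b hab
    exact ConjClasses.mk_eq_mk_iff_isConj.mpr ((key a b _ _ (hc a) (hc b) _ _ rfl rfl).mp hab)
  · rintro ⟨a⟩ ⟨b⟩ hab
    exact Quotient.sound ((key a b _ _ (hc a) (hc b) _ _ rfl rfl).mpr
      (ConjClasses.mk_eq_mk_iff_isConj.mp hab))
  · rintro ⟨k⟩
    obtain ⟨g, hg⟩ := hL (k : G)⁻¹
    have hg' : g⁻¹⁻¹ * F g⁻¹ = k := by
      simp only at hg
      have := congrArg (·⁻¹) hg
      simpa using this
    refine ⟨ConjClasses.mk ⟨F g⁻¹ * g⁻¹⁻¹, fix2 _ (by rw [hg']; exact k.2)⟩, ?_⟩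
    exact ConjClasses.mk_eq_mk_iff_isConj.mpr
      ((key _ _ _ _ (hc _) rfl _ k rfl hg').mp (IsConj.refl _))
  · intro g h h'
    exact ConjClasses.mk_eq_mk_iff_isConj.mpr
      ((key _ _ _ _ (hc _) rfl _ _ rfl rfl).mp (IsConj.refl _))

end Groth.Agent.S8625
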