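import Groth.Statements.S8626
-- import your own Groth.Agent.* helpers here

set_option autoImplicit false
universe v v' u u'
open CategoryTheory CategoryTheory.Limits
open SGA4h

namespace Groth.Agent.S8626

section
variable {A : Type u} [Category.{v} A] [Abelian A] (d : ℕ → A) (δ : ∀ n, d n ⟶ d (n + 1))
  (𝒪 : ObjectProperty A)

/-- A split mono of the `n`-cycles into an object. -/
structure St (n : ℕ) where
  Q : A
  g : kernel (δ n) ⟶ Q
  r : Q ⟶ kernel (δ n)
  gr : g ≫ r = 𝟙 _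

variable {d δ 𝒪} {n : ℕ} (h2 : ∀ X : A, ∃ (Y : A) (i : X ⟶ Y), 𝒪 Y ∧ Mono i) (s : St d δ n)

noncomputable def St.J : A := (h2 (pushout (kernel.ι (δ n)) s.g)).choose

noncomputable def St.e : pushout (kernel.ι (δ n)) s.g ⟶ s.J h2 :=
  (h2 (pushout (kernel.ι (δ n)) s.g)).choose_spec.choose

instance : Mono (s.e h2) := (h2 _).choose_spec.choose_spec.2

lemma St.hJ : 𝒪 (s.J h2) := (h2 _).choose_spec.choose_spec.1

noncomputable def St.a : d n ⟶ s.J h2 := pushout.inl _ _ ≫ s.e h2

noncomputable def St.q : s.Q ⟶ s.J h2 := pushout.inr _ _ ≫ s.e h2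

instance : Mono (s.q h2) := by unfold St.q; exact mono_comp _ _

@[reassoc]
lemma St.w : kernel.ι (δ n) ≫ s.a h2 = s.g ≫ s.q h2 := by
  simp [St.a, St.q, pushout.condition_assoc]

variable [∀ m, Injective (d m)] (hd : ∀ m, δ m ≫ δ (m + 1) = 0)
  [hπ : ∀ m, Epi (kernel.lift (δ (m + 1)) (δ m) (hd m))]

noncomputable def St.rJ : s.J h2 ⟶ d n :=
  Injective.factorThru (pushout.desc (𝟙 _) (s.r ≫ kernel.ι _)
    (by rw [Category.comp_id, reassoc_of% s.gr])) (s.e h2)

@[reassoc]
lemma St.a_rJ : s.a h2 ≫ s.rJ h2 = 𝟙 _ := by simp [St.a, St.rJ, pushout.inl_desc]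

@[reassoc]
lemma St.q_rJ : s.q h2 ≫ s.rJ h2 = s.r ≫ kernel.ι _ := by simp [St.q, St.rJ, pushout.inr_desc]

lemma exact_lift (m : ℕ) : (ShortComplex.mk (kernel.ι (δ m)) (kernel.lift (δ (m + 1)) (δ m) (hd m))
    (by rw [← cancel_mono (kernel.ι (δ (m + 1)))]; simp)).Exact := by
  let S := ShortComplex.mk (kernel.ι (δ m)) (kernel.lift (δ (m + 1)) (δ m) (hd m))
    (by rw [← cancel_mono (kernel.ι (δ (m + 1)))]; simp)
  let φ : S ⟶ ShortComplex.mk (kernel.ι (δ m)) (δ m) (by simp) :=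
    { τ₁ := 𝟙 _, τ₂ := 𝟙 _, τ₃ := kernel.ι _, comm₁₂ := by simp [S], comm₂₃ := by simp [S] }
  have : Epi φ.τ₁ := inferInstanceAs (Epi (𝟙 _))
  have : IsIso φ.τ₂ := inferInstanceAs (IsIso (𝟙 _))
  have : Mono φ.τ₃ := inferInstanceAs (Mono (kernel.ι _))
  exact (ShortComplex.exact_iff_of_epi_of_isIso_of_mono φ).mpr
    (ShortComplex.exact_of_f_is_kernel _ (kernelIsKernel (δ m)))

/-- The short complex `Z n → d n → Z (n + 1)`. -/
noncomputable abbrev SC (m : ℕ) : ShortComplex A := ShortComplex.mk (kernel.ι (δ m)) (kernel.lift (δ (m + 1)) (δ m) (hd m))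
    (by rw [← cancel_mono (kernel.ι (δ (m + 1)))]; simp)

instance (m : ℕ) : Epi (SC hd m).g := hπ m

/-- Descend through `d n → Z (n + 1)`. -/
noncomputable def dsc (m : ℕ) {Y : A} (k : d m ⟶ Y) (hk : kernel.ι (δ m) ≫ k = 0) :
    kernel (δ (m + 1)) ⟶ Y :=
  ShortComplex.Exact.desc (S := SC hd m) (exact_lift hd m) k hk

@[reassoc]
lemma lift_dsc (m : ℕ) {Y : A} (k : d m ⟶ Y) (hk : kernel.ι (δ m) ≫ k = 0) :
    kernel.lift (δ (m + 1)) (δ m) (hd m) ≫ dsc hd m k hk = k :=
  ShortComplex.Exact.g_desc (S := SC hd m) (exact_lift hd m) k hk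

noncomputable def St.next : St d δ (n + 1) where
  Q := cokernel (s.q h2)
  g := dsc hd n (s.a h2 ≫ cokernel.π (s.q h2))
    (by rw [reassoc_of% s.w h2, cokernel.condition, comp_zero])
  r := cokernel.desc _ (s.rJ h2 ≫ kernel.lift (δ (n + 1)) (δ n) (hd n)) (by
    rw [s.q_rJ_assoc, ← cancel_mono (kernel.ι (δ (n + 1)))]; simp)
  gr := by
    rw [← cancel_epi (kernel.lift (δ (n + 1)) (δ n) (hd n)),
      lift_dsc_assoc, Category.assoc, cokernel.π_desc, s.a_rJ_assoc, Category.comp_id]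

variable (s0 : St d δ 0)

/-- The whole sequence. -/
noncomputable def seq : ∀ m, St d δ m
  | 0 => s0
  | m + 1 => (seq m).next (𝒪 := 𝒪) h2 hd

/-- The cokernel of `q`. -/
noncomputable def cc (m : ℕ) : (seq h2 hd s0 m).J h2 ⟶ (seq h2 hd s0 (m + 1)).Q :=
  cokernel.π ((seq h2 hd s0 m).q h2)

lemma q_cc (m : ℕ) : (seq h2 hd s0 m).q h2 ≫ cc h2 hd s0 m = 0 := cokernel.condition _

instance (m : ℕ) : Epi (cc h2 hd s0 m) := inferInstanceAs (Epi (cokernel.π _))

lemma exact_cc (m : ℕ) : (ShortComplex.mk _ _ (q_cc h2 hd s0 m)).Exact :=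
  ShortComplex.exact_of_g_is_cokernel _ (cokernelIsCokernel _)

lemma cc_r (m : ℕ) : cc h2 hd s0 m ≫ (seq h2 hd s0 (m + 1)).r =
    (seq h2 hd s0 m).rJ h2 ≫ kernel.lift (δ (m + 1)) (δ m) (hd m) := cokernel.π_desc _ _ _

lemma lift_g (m : ℕ) : kernel.lift (δ (m + 1)) (δ m) (hd m) ≫ (seq h2 hd s0 (m + 1)).g =
    (seq h2 hd s0 m).a h2 ≫ cc h2 hd s0 m :=
  lift_dsc hd m _ _

end

set_option backward.isDefEq.respectTransparency false in
lemma main {A : Type u} [Category.{v} A] [Abelian A] [EnoughInjectives A]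
    {B : Type u'} [Category.{v'} B] [Abelian B] (f : A ⥤ B) [f.Additive] (𝒪 : ObjectProperty A)
    (h1 : ∀ K : CochainComplex A ℕ, (∀ i, 𝒪 (K.X i)) → K.Acyclic →
      ((f.mapHomologicalComplex (ComplexShape.up ℕ)).obj K).Acyclic)
    (h2 : ∀ X : A, ∃ (Y : A) (i : X ⟶ Y), 𝒪 Y ∧ Mono i)
    (X : A) (hX : 𝒪 X) (I : InjectiveResolution X) (n : ℕ) (hn : 0 < n) :
    IsZero ((f.rightDerived n).obj X) := by
  classical
  let d := I.cocomplex.X
  let δ : ∀ m, d m ⟶ d (m + 1) := fun m => I.cocomplex.d m (m + 1)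
  have hd : ∀ m, δ m ≫ δ (m + 1) = 0 := fun m => I.cocomplex.d_comp_d _ _ _
  have hinj : ∀ m, Injective (d m) := fun m => I.injective m
  have hπ : ∀ m, Epi (kernel.lift (δ (m + 1)) (δ m) (hd m)) := fun m =>
    (I.exact_succ m).epi_kernelLift
  let i₀ : X ⟶ kernel (δ 0) := kernel.lift _ (I.ι.f 0) (I.ι_f_zero_comp_complex_d)
  have hki : ∀ (u : kernel (δ 0) ⟶ X), u ≫ I.ι.f 0 = kernel.ι (δ 0) → IsIso i₀ := fun u hu => by
    have h0 : i₀ ≫ kernel.ι (δ 0) = I.ι.f 0 := kernel.lift_ι _ _ _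
    exact ⟨u, Fork.IsLimit.hom_ext I.isLimitKernelFork (by
        exact (Category.assoc _ _ _).trans ((congrArg (i₀ ≫ ·) hu).trans (h0.trans (Category.id_comp _).symm))),
      by rw [← cancel_mono (kernel.ι (δ 0)), Category.assoc, h0, hu, Category.id_comp]⟩
  obtain ⟨u, hu⟩ := KernelFork.IsLimit.lift' I.isLimitKernelFork (kernel.ι (δ 0)) (kernel.condition _)
  have : IsIso i₀ := hki u hu
  let s0 : St d δ 0 := { Q := X, g := inv i₀, r := i₀, gr := by simp }
  let s : ∀ m, St d δ m := seq (𝒪 := 𝒪) h2 hd s0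
  let c : ∀ m, (s m).J h2 ⟶ (s (m + 1)).Q := cc h2 hd s0
  have hqc : ∀ m, (s m).q h2 ≫ c m = 0 := q_cc h2 hd s0
  have hex : ∀ m, (ShortComplex.mk _ _ (hqc m)).Exact := exact_cc h2 hd s0
  have hepi : ∀ m, Epi (c m) := fun m => inferInstanceAs (Epi (cc h2 hd s0 m))
  let KX : ℕ → A := fun m => match m with
    | 0 => X
    | m + 1 => (s m).J h2
  let Kd : ∀ m, KX m ⟶ KX (m + 1) := fun m => match m with
    | 0 => (s 0).q h2
    | m + 1 => c m ≫ (s (m + 1)).q h2
  have hKd : ∀ m, Kd m ≫ Kd (m + 1) = 0 := by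
    intro m
    cases m with
    | zero => show (s 0).q h2 ≫ c 0 ≫ _ = 0; rw [reassoc_of% hqc 0, zero_comp]
    | succ m =>
      show (c m ≫ (s (m + 1)).q h2) ≫ c (m + 1) ≫ _ = 0
      rw [Category.assoc, reassoc_of% hqc (m + 1), zero_comp, comp_zero]
  let K : CochainComplex A ℕ := CochainComplex.of KX Kd hKd
  have hKof : ∀ i, K.d i (i + 1) = Kd i := fun i => by
    simp [K, CochainComplex.of.d]
  have hK : K.Acyclic := by
    intro m
    cases m with
    | zero =>
      have : Mono ((s 0).q h2) := inferInstance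
      rw [HomologicalComplex.exactAt_iff' _ 0 0 1 (by simp) (by simp)]
      have : Mono (K.sc' 0 0 1).g := by
        show Mono (K.d 0 1)
        rw [hKof 0]
        exact this
      exact (ShortComplex.exact_iff_mono _ (K.shape 0 0 (by simp))).mpr this
    | succ m =>
      rw [HomologicalComplex.exactAt_iff' _ m (m + 1) (m + 2) (by simp) (by simp)]
      refine (ShortComplex.exact_iff_of_iso (ShortComplex.isoMk (S₁ := K.sc' m (m + 1) (m + 2))
        (S₂ := ShortComplex.mk (Kd m) (Kd (m + 1)) (hKd m)) (Iso.refl _) (Iso.refl _) (Iso.refl _)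
        ((Category.id_comp _).trans ((hKof m).symm.trans (Category.comp_id _).symm)) ((Category.id_comp _).trans ((hKof (m + 1)).symm.trans (Category.comp_id _).symm)))).mpr ?_
      have hg : ∀ m, (ShortComplex.mk (Kd m) (Kd (m + 1)) (hKd m)).Exact := by
        intro m
        cases m with
        | zero =>
          exact (ShortComplex.exact_iff_of_epi_of_isIso_of_mono
            ({ τ₁ := 𝟙 _, τ₂ := 𝟙 _, τ₃ := (s 1).q h2, comm₂₃ := (Category.id_comp _).trans rfl } :
              ShortComplex.mk ((s 0).q h2) (c 0) (hqc 0) ⟶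
                ShortComplex.mk (Kd 0) (Kd 1) (hKd 0))).mp (hex 0)
        | succ m =>
          let S₁ := ShortComplex.mk (Kd (m + 1)) (c (m + 1))
            (show (c m ≫ (s (m + 1)).q h2) ≫ c (m + 1) = 0 by
              rw [Category.assoc, hqc, comp_zero])
          let φ₁ : S₁ ⟶ ShortComplex.mk ((s (m + 1)).q h2) (c (m + 1)) (hqc (m + 1)) :=
            { τ₁ := c m, τ₂ := 𝟙 _, τ₃ := 𝟙 _, comm₁₂ := (Category.comp_id _).symm
              comm₂₃ := (Category.id_comp _).trans (Category.comp_id _).symm }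
          have : Epi φ₁.τ₁ := hepi m
          have : IsIso φ₁.τ₂ := inferInstanceAs (IsIso (𝟙 _))
          have : Mono φ₁.τ₃ := inferInstanceAs (Mono (𝟙 _))
          let φ₂ : S₁ ⟶ ShortComplex.mk (Kd (m + 1)) (Kd (m + 2)) (hKd (m + 1)) :=
            { τ₁ := 𝟙 _, τ₂ := 𝟙 _, τ₃ := (s (m + 2)).q h2
              comm₁₂ := (Category.id_comp _).trans (Category.comp_id _).symm
              comm₂₃ := (Category.id_comp _).trans rfl }
          have : Epi φ₂.τ₁ := inferInstanceAs (Epi (𝟙 _))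
          have : IsIso φ₂.τ₂ := inferInstanceAs (IsIso (𝟙 _))
          have : Mono φ₂.τ₃ := inferInstanceAs (Mono ((s (m + 2)).q h2))
          exact (ShortComplex.exact_iff_of_epi_of_isIso_of_mono φ₂).mp
            ((ShortComplex.exact_iff_of_epi_of_isIso_of_mono φ₁).mpr (hex (m + 1)))
      exact hg m
  have hO : ∀ i, 𝒪 (K.X i) := by
    intro i
    cases i with
    | zero => exact hX
    | succ m => exact (s m).hJ h2
  let J : CochainComplex A ℕ := CochainComplex.of (fun m => KX (m + 1)) (fun m => Kd (m + 1))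
    (fun m => hKd (m + 1))
  have hJof : ∀ i, J.d i (i + 1) = Kd (i + 1) := fun i => by
    simp [J, CochainComplex.of.d]
  let α : I.cocomplex ⟶ J :=
    { f := fun m => (s m).a h2
      comm' := fun i j (hij : i + 1 = j) => by
        subst hij
        show (s i).a h2 ≫ J.d i (i + 1) = δ i ≫ (s (i + 1)).a h2
        rw [hJof]
        show (s i).a h2 ≫ c i ≫ (s (i + 1)).q h2 = _
        rw [← reassoc_of% lift_g h2 hd s0 i, ← St.w, kernel.lift_ι_assoc] }
  let β : J ⟶ I.cocomplex :=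
    { f := fun m => (s m).rJ h2
      comm' := fun i j (hij : i + 1 = j) => by
        subst hij
        show (s i).rJ h2 ≫ δ i = J.d i (i + 1) ≫ (s (i + 1)).rJ h2
        rw [hJof]
        show (s i).rJ h2 ≫ δ i = (c i ≫ (s (i + 1)).q h2) ≫ (s (i + 1)).rJ h2
        rw [Category.assoc, St.q_rJ, reassoc_of% cc_r h2 hd s0 i, kernel.lift_ι] }
  have hαβ : α ≫ β = 𝟙 _ := by ext m; exact St.a_rJ h2 _
  obtain ⟨m, rfl⟩ : ∃ m, n = m + 1 := ⟨n - 1, by omega⟩
  let F := f.mapHomologicalComplex (ComplexShape.up ℕ)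
  have hJ : IsZero ((F.obj J).homology (m + 1)) := by
    rw [← HomologicalComplex.exactAt_iff_isZero_homology,
      HomologicalComplex.exactAt_iff' _ m (m + 1) (m + 2) (by simp) (by simp)]
    have h := h1 K hO hK (m + 2)
    rw [HomologicalComplex.exactAt_iff' _ (m + 1) (m + 2) (m + 3) (by simp) (by simp)] at h
    exact (ShortComplex.exact_iff_of_iso (ShortComplex.isoMk (S₁ := (F.obj J).sc' m (m + 1) (m + 2))
      (S₂ := (F.obj K).sc' (m + 1) (m + 2) (m + 3)) (Iso.refl _) (Iso.refl _) (Iso.refl _)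
      ((Category.id_comp _).trans ((congrArg f.map ((hKof (m + 1)).trans (hJof m).symm)).trans (Category.comp_id _).symm))
      ((Category.id_comp _).trans ((congrArg f.map ((hKof (m + 2)).trans (hJof (m + 1)).symm)).trans (Category.comp_id _).symm)))).mpr h
  refine IsZero.of_iso ?_ (I.isoRightDerivedObj f (m + 1))
  rw [IsZero.iff_id_eq_zero]
  have : HomologicalComplex.homologyMap (F.map α) (m + 1) ≫
      HomologicalComplex.homologyMap (F.map β) (m + 1) = 𝟙 _ := by
    rw [← HomologicalComplex.homologyMap_comp, ← Functor.map_comp, hαβ, CategoryTheory.Functor.map_id,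
      HomologicalComplex.homologyMap_id]
  exact this.symm.trans (by rw [hJ.eq_of_tgt (HomologicalComplex.homologyMap (F.map α) (m + 1)) 0, zero_comp])

/-- Acyclicity assertion; A with enough injectives so that R^n f is the usual right derived functor: let
f : A → B be an additive functor between abelian categories and 𝒪 a class of objects of A, stable
under binary direct sums, such that (1) f carries every acyclic bounded-below cochain complex of
objects of 𝒪 (indexed by ℕ, exact in every degree, in degree 0 meaning the first differential is a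
monomorphism) to an acyclic complex, and (2) every object of A admits a monomorphism into a member
of 𝒪. Then every member of 𝒪 is right f-acyclic: R^n f(X) = 0 for all n > 0. -/
theorem result {A : Type u} [Category.{v} A] [Abelian A] [EnoughInjectives A]
    {B : Type u'} [Category.{v'} B] [Abelian B] (f : A ⥤ B) [f.Additive] (𝒪 : ObjectProperty A)
    (h0 : ∀ X Y : A, 𝒪 X → 𝒪 Y → 𝒪 (X ⊞ Y))
    (h1 : ∀ K : CochainComplex A ℕ, (∀ i, 𝒪 (K.X i)) → K.Acyclic →
      ((f.mapHomologicalComplex (ComplexShape.up ℕ)).obj K).Acyclic)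
    (h2 : ∀ X : A, ∃ (Y : A) (i : X ⟶ Y), 𝒪 Y ∧ Mono i)
    (X : A) (hX : 𝒪 X) (n : ℕ) (hn : 0 < n) :
    IsZero ((f.rightDerived n).obj X) := by
  exact main f 𝒪 h1 h2 X hX (InjectiveResolution.of X) n hn

end Groth.Agent.S8626
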