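import Groth.Statements.S8627
import Groth.Agent.EtAcDepth.GenFibre

set_option autoImplicit false
universe u
open CategoryTheory CategoryTheory.Limits AlgebraicGeometry
open SGA4h

namespace Groth.Agent.S8627

/-- Let f : X → S be a locally acyclic morphism of quasi-compact quasi-separated schemes
(vanishing-cycle varieties have the ℤ/n-cohomology of a point for n prime to the residue
characteristics), n a natural number invertible on S, and ε : t = Spec Ω → S a geometric point (Ω
separably closed), with cartesian square X_t = X ×_S t, ε' : X_t → X, f_t : X_t → t. Then the base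
change map f⁻¹ ε_* (ℤ/n) → ε'_* f_t⁻¹(ℤ/n) (= ε'_* ℤ/n) is an isomorphism and R^q ε'_* (ℤ/n) = 0 for
every q > 0. (The published statement takes the geometric point t with an algebraically closed
field; this row allows any separably closed field Ω.) -/
theorem result {X S : Scheme.{u}}
    [CompactSpace ↥X] [QuasiSeparatedSpace ↥X] [CompactSpace ↥S] [QuasiSeparatedSpace ↥S]
    (f : X ⟶ S) (hf : EtRest.IsLocallyAcyclic f) (n : ℕ) (hn : IsUnit (n : Γ(S, ⊤)))
    {Ω : Type u} [Field Ω] [IsSepClosed Ω] (t : Spec (CommRingCat.of Ω) ⟶ S) :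
    IsIso (EtCoh.baseChange0 t f (pullback.fst f t) (pullback.snd f t) (pullback.condition).symm
      (EtCoh.const (Spec (CommRingCat.of Ω)) (ZMod n))) ∧
    ∀ q : ℕ, 0 < q →
      IsZero ((EtCoh.Rpush (pullback.fst f t) q).obj (EtCoh.const (pullback f t) (ZMod n))) := by
  have hn' : ∀ x : X, (n : X.residueField x) ≠ 0 := EtAcDepth.natCast_residue_ne_zero f n hn
  exact ⟨EtAcDepth.isIso_baseChange0 f t hf _,
    fun q hq => EtAcDepth.isZero_Rpush_const f t hf n hn' q hq⟩

end Groth.Agent.S8627
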