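import Groth.Statements.S8630
import Mathlib.RingTheory.Localization.Integral
import Mathlib.RingTheory.Int.Basic
import Mathlib.Algebra.Field.ZMod
import Mathlib.RingTheory.Polynomial.Content
import Mathlib.RingTheory.PowerSeries.NoZeroDivisors
import Mathlib.RingTheory.PowerSeries.Trunc

set_option autoImplicit false
open Zeta

namespace Groth.Agent.S8630

/-- Fatou's lemma: let P, Q ∈ ℚ[T] be coprime with constant coefficient 1, and suppose the power series
P/Q has integer coefficients, i.e. P = Q·Z in ℚ⟦T⟧ for a power series Z with coefficients in ℤ. Then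
P and Q have integer coefficients. -/
theorem result (P Q : Polynomial ℚ)
    (hPQ : IsCoprime P Q) (hP : P.coeff 0 = 1) (hQ : Q.coeff 0 = 1) (Z : PowerSeries ℤ)
    (hZ : (P : PowerSeries ℚ) = (Q : PowerSeries ℚ) * PowerSeries.map (Int.castRingHom ℚ) Z) :
    (∃ P₀ : Polynomial ℤ, P₀.map (Int.castRingHom ℚ) = P) ∧
      ∃ Q₀ : Polynomial ℤ, Q₀.map (Int.castRingHom ℚ) = Q := by
  classical
  have hQne : Q ≠ 0 := fun h => by simp [h] at hQ
  obtain ⟨U, V, hUV⟩ := hPQ
  let ι : Polynomial ℤ →+* Polynomial ℚ := Polynomial.mapRingHom (Int.castRingHom ℚ)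
  let m : PowerSeries ℤ →+* PowerSeries ℚ := PowerSeries.map (Int.castRingHom ℚ)
  have hmi : ∀ R : Polynomial ℤ, m (R : PowerSeries ℤ) = ((ι R : Polynomial ℚ) : PowerSeries ℚ) :=
    fun R => Polynomial.polynomial_map_coe.symm
  have hm : Function.Injective m := PowerSeries.map_injective _ Int.cast_injective
  have clear_den : ∀ R : Polynomial ℚ, ∃ (b : ℕ) (_ : b ≠ 0) (R₀ : Polynomial ℤ),
      ι R₀ = Polynomial.C (b : ℚ) * R := by
    intro R
    obtain ⟨b, hb⟩ := IsLocalization.integerNormalization_map_to_map (nonZeroDivisors ℤ) R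
    refine ⟨((b : ℤ)).natAbs, Int.natAbs_ne_zero.mpr (nonZeroDivisors.coe_ne_zero b),
      Polynomial.C (Int.sign (b : ℤ)) * IsLocalization.integerNormalization (nonZeroDivisors ℤ) R, ?_⟩
    have hb' : ι (IsLocalization.integerNormalization (nonZeroDivisors ℤ) R) =
        Polynomial.C ((b : ℤ) : ℚ) * R := by
      rw [← Polynomial.smul_eq_C_mul, Int.cast_smul_eq_zsmul]
      exact hb
    rw [map_mul, hb', ← mul_assoc]
    congr 1
    simp only [ι, Polynomial.coe_mapRingHom, Polynomial.map_C, ← Polynomial.C_mul,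
      eq_intCast (Int.castRingHom ℚ), ← Int.cast_mul, Int.sign_mul_self_eq_natAbs]
    push_cast
    rw [Nat.cast_natAbs, Int.cast_abs]
  obtain ⟨bQ, hbQ, Q0, hQ0⟩ := clear_den Q
  obtain ⟨bU, hbU, U0, hU0⟩ := clear_den U
  obtain ⟨bV, hbV, V0, hV0⟩ := clear_den V
  set Q₁ := Q0.primPart with hQ₁
  set c := Q0.content with hc
  have hQ0eq : Q0 = Polynomial.C c * Q₁ := Q0.eq_C_content_mul_primPart
  set W : PowerSeries ℤ := (bV : PowerSeries ℤ) * (U0 : PowerSeries ℤ) * Z +
    (bU : PowerSeries ℤ) * (V0 : PowerSeries ℤ) with hW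
  have hQW : (Q0 : PowerSeries ℤ) * W = ((bQ * bU * bV : ℕ) : PowerSeries ℤ) := by
    apply hm
    have hUV' := congrArg (fun R : Polynomial ℚ => (R : PowerSeries ℚ)) hUV
    simp only [Polynomial.coe_add, Polynomial.coe_mul, Polynomial.coe_one] at hUV'
    simp only [hW, map_mul, map_add, map_natCast, Nat.cast_mul]
    rw [hmi, hmi, hmi, hQ0, hU0, hV0]
    simp only [Polynomial.coe_mul, Polynomial.coe_C]
    simp only [map_natCast]
    linear_combination ((bQ : PowerSeries ℚ) * bU * bV) * hUV' -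
      ((bQ : PowerSeries ℚ) * bU * bV * (U : PowerSeries ℚ)) * hZ
  set W' : PowerSeries ℤ := PowerSeries.C c * W with hW'
  have key : ∀ (d : ℕ) (X' : PowerSeries ℤ), 0 < d →
      (Q₁ : PowerSeries ℤ) * X' = ((d : ℕ) : PowerSeries ℤ) → IsUnit (Q₁.coeff 0) := by
    intro d
    induction d using Nat.strong_induction_on with
    | _ d ih =>
      intro X' hd hX
      by_contra hnu
      obtain ⟨ℓ, hℓ, hℓd⟩ := Int.exists_prime_and_dvd (show (Q₁.coeff 0).natAbs ≠ 1 from
        fun h => hnu (Int.isUnit_iff_natAbs_eq.mpr h))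
      have hℓN : ℓ.natAbs.Prime := Int.prime_iff_natAbs_prime.mp hℓ
      set l := ℓ.natAbs
      have hld : (l : ℤ) ∣ Q₁.coeff 0 := Int.natAbs_dvd.mpr hℓd
      have h0 : (l : ℤ) ∣ (d : ℤ) := by
        have h := congrArg PowerSeries.constantCoeff hX
        rw [map_mul, Polynomial.constantCoeff_coe, map_natCast] at h
        exact h ▸ dvd_mul_of_dvd_left hld _
      haveI := Fact.mk hℓN
      let red : PowerSeries ℤ →+* PowerSeries (ZMod l) := PowerSeries.map (Int.castRingHom (ZMod l))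
      have hred := congrArg red hX
      rw [map_mul, map_natCast] at hred
      have hd0 : ((d : ℕ) : PowerSeries (ZMod l)) = 0 := by
        rw [← map_natCast (PowerSeries.C (R := ZMod l)),
          (CharP.cast_eq_zero_iff (ZMod l) l d).mpr (Int.natCast_dvd_natCast.mp h0), map_zero]
      rw [hd0] at hred
      have hQ1 : red (Q₁ : PowerSeries ℤ) ≠ 0 := by
        intro hz
        refine hℓN.ne_one ?_
        have hprim := Q0.isPrimitive_primPart
        have hdvd : Polynomial.C (l : ℤ) ∣ Q₁ := (Polynomial.C_dvd_iff_dvd_coeff _ _).mpr fun i => by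
          have := congrArg (PowerSeries.coeff i) hz
          simpa [red, ZMod.intCast_zmod_eq_zero_iff_dvd] using this
        simpa using Int.isUnit_iff_natAbs_eq.mp (hprim _ hdvd)
      have hX0 := (mul_eq_zero.mp hred).resolve_left hQ1
      have hXd : ∀ i, (l : ℤ) ∣ PowerSeries.coeff i X' := fun i => by
        have := congrArg (PowerSeries.coeff i) hX0
        simpa [red, ZMod.intCast_zmod_eq_zero_iff_dvd] using this
      choose Y hY using hXd
      obtain ⟨d', rfl⟩ := Int.natCast_dvd_natCast.mp h0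
      have hd' : 0 < d' := Nat.pos_of_mul_pos_left hd
      refine hnu (ih d' ?_ (PowerSeries.mk Y) hd' ?_)
      · exact lt_mul_of_one_lt_left hd' hℓN.one_lt
      · have hXY : X' = (l : PowerSeries ℤ) * PowerSeries.mk Y := by
          ext i
          rw [← map_natCast (PowerSeries.C (R := ℤ)), PowerSeries.coeff_C_mul,
            PowerSeries.coeff_mk, hY i]
        rw [hXY, ← mul_left_comm, Nat.cast_mul] at hX
        have hlne : (l : PowerSeries ℤ) ≠ 0 := by
          rw [← map_natCast (PowerSeries.C (R := ℤ)), map_ne_zero_iff _ PowerSeries.C_injective]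
          exact_mod_cast hℓN.ne_zero
        exact mul_left_cancel₀ hlne hX
  have hunit : IsUnit (Q₁.coeff 0) := by
    refine key (bQ * bU * bV) W' (by positivity) ?_
    rw [← hQW, hQ0eq, hW', Polynomial.coe_mul, Polynomial.coe_C]
    ring
  obtain ⟨s, hs⟩ := hunit
  have hQint : ι (Polynomial.C ((s⁻¹ : ℤˣ) : ℤ) * Q₁) = Q := by
    have hb : (bQ : ℚ) ≠ 0 := Nat.cast_ne_zero.mpr hbQ
    have hcs : (c : ℚ) * ((s : ℤ) : ℚ) = bQ := by
      have h := congrArg (fun R : Polynomial ℚ => R.coeff 0) hQ0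
      rw [hQ0eq] at h
      simpa [ι, hQ, ← hs] using h
    have hcmul : (bQ : ℚ) * (((s⁻¹ : ℤˣ) : ℤ) : ℚ) = c := by
      rw [← hcs, mul_assoc, ← Int.cast_mul, Units.mul_inv, Int.cast_one, mul_one]
    apply mul_left_cancel₀ (Polynomial.C_ne_zero.mpr hb)
    rw [← hQ0, hQ0eq, map_mul, map_mul, ← mul_assoc]
    simp only [ι, Polynomial.coe_mapRingHom, Polynomial.map_C, ← Polynomial.C_mul]
    rw [eq_intCast (Int.castRingHom ℚ), eq_intCast (Int.castRingHom ℚ), hcmul]
  set Q₀ := Polynomial.C ((s⁻¹ : ℤˣ) : ℤ) * Q₁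
  refine ⟨?_, ⟨Q₀, hQint⟩⟩
  refine ⟨PowerSeries.trunc (P.natDegree + 1) ((Q₀ : PowerSeries ℤ) * Z), ?_⟩
  ext i
  rw [Polynomial.coeff_map, PowerSeries.coeff_trunc]
  have hP' : (P : PowerSeries ℚ) = m ((Q₀ : PowerSeries ℤ) * Z) := by
    rw [map_mul, hmi, hQint]; exact hZ
  have hi := congrArg (PowerSeries.coeff i) hP'
  rw [Polynomial.coeff_coe] at hi
  split_ifs with h
  · rw [hi, PowerSeries.coeff_map]
  · rw [Polynomial.coeff_eq_zero_of_natDegree_lt (by omega), map_zero]

end Groth.Agent.S8630
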