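import Groth.Statements.S8651
import Groth.Agent.Lambda.Gamma
-- import your own Groth.Agent.* helpers here

set_option autoImplicit false
universe u
open Finset
open LambdaRing

namespace Groth.Agent.S8651

/-- Let A be a pre-λ-ring (λ^0 = 1, λ^1 = id, additive formula) in which λ^k(1) = 0 for all k ≥ 2, and
let y_1, …, y_n ∈ A satisfy λ^j(y_i) = 0 for every j ≥ 2; put x = Σ_i y_i. Then for every k the
element γ^k(x − n) (γ-operations: the coefficients of λ_{t/(1−t)}) equals the k-th elementary
symmetric function of y_1 − 1, …, y_n − 1, namely the sum over the k-element subsets s of the index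
set of Π_{i ∈ s} (y_i − 1); in particular γ^k(x − n) = 0 for k > n. (The published statement is for
a λ-ring; its proof uses only additivity and λ_t(1) = 1 + t, the hypotheses taken here.) -/
theorem result (A : Type u) [CommRing A] [LambdaRing.LambdaOps A]
    (h1 : ∀ k : ℕ, 2 ≤ k → LambdaRing.LambdaOps.lam k (1 : A) = 0) (n : ℕ) (y : Fin n → A)
    (hy : ∀ (i : Fin n) (j : ℕ), 2 ≤ j → LambdaRing.LambdaOps.lam j (y i) = 0) (k : ℕ) :
    LambdaRing.gamma k (∑ i : Fin n, y i - (n : A)) =
      ∑ s ∈ (univ : Finset (Fin n)).powersetCard k, ∏ i ∈ s, (y i - 1) := by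
  have h := Groth.Agent.Lambda.gammaSeries_lines_sub h1 ((univ : Finset (Fin n)).val.map y) (by
    intro u hu
    obtain ⟨i, -, rfl⟩ := Multiset.mem_map.1 hu
    exact hy i)
  rw [Multiset.card_map, show Multiset.card (univ : Finset (Fin n)).val = n by simp,
    show ((univ : Finset (Fin n)).val.map y).sum = ∑ i : Fin n, y i from rfl, Multiset.map_map] at h
  rw [← Groth.Agent.Lambda.coeff_gammaSeries, h, Groth.Agent.Lambda.coeff_prodLin, Finset.esymm_map_val]
  rfl

end Groth.Agent.S8651
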