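import Groth.Statements.S8665
import Groth.Agent.ResK0.Ample
import Groth.Agent.ResK0.LamPrime

set_option autoImplicit false
universe v u
open CategoryTheory CategoryTheory.Limits AlgebraicGeometry
attribute [local instance] HasDerivedCategory.standard
open KRR

namespace Groth.Agent.S8665

/-- Let X be a connected quasi-compact scheme with an ample invertible O_X-module L, and (K, P, φ) a
model of the λ-ring K(X) of finite locally free O_X-modules with its positive structure
(augmentation = rank). Then every x ∈ K(X) of augmentation zero is nilpotent: the augmentation ideal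
F^1 K(X) is a nil ideal. (The published statement allows X disconnected, with the augmentation
taking values in the locally constant integer-valued functions H^0(X, ℤ); this row takes X
connected, as the model requires.) -/
theorem result (X : Scheme.{u}) [ConnectedSpace ↥X] (L : X.Modules) (hL : CohB1.IsAmple L)
    (K : Type v) [CommRing K] [LambdaRing.LambdaOps K] (P : LambdaRing.PosStructure K) (φ : SGA6.Kvb X →+ K) (hK : KRR.IsModel X K P φ)
    (x : K) (hx : P.aug x = 0) : IsNilpotent x := by
  rw [← mem_nilradical, nilradical_eq_sInf, Ideal.mem_sInf]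
  intro p hp
  haveI : p.IsPrime := hp
  set u := φ (KRR.cl X L) with hu
  have key : ∀ g ∈ P.pos, ∃ n₀ : ℕ, ∀ n, n₀ ≤ n → u ^ n * g - (P.aug g : K) ∈ p := fun g hg => by
    obtain ⟨n₀, hn₀⟩ := Groth.Agent.ResK0.Ample.exists_compl hK hL hg
    refine ⟨n₀, fun n hn => ?_⟩
    obtain ⟨k, m, hk, hkm⟩ := hn₀ n hn
    have hua := Groth.Agent.ResK0.Ample.pow_mul_mem hK hL hg n
    have := Groth.Agent.ResK0.LamPrime.sub_aug_mem P hua hk hkm p
    rwa [map_mul, map_pow, (Groth.Agent.ResK0.Ample.isLine hK hL).2, one_pow, one_mul] at this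
  have h1 : (1 : K) ∈ P.pos := by simpa using P.natCast_mem 1 one_pos
  obtain ⟨a, b, ha, hb, rfl⟩ := P.exists_sub x
  obtain ⟨n₁, hn₁⟩ := key a ha
  obtain ⟨n₂, hn₂⟩ := key b hb
  obtain ⟨n₃, hn₃⟩ := key 1 h1
  let n := n₁ + n₂ + n₃
  have hA := hn₁ n (by omega)
  have hB := hn₂ n (by omega)
  have hU := hn₃ n (by omega)
  rw [map_one, mul_one, Int.cast_one] at hU
  rw [map_sub] at hx
  have hab : (P.aug a : K) = (P.aug b : K) := by rw [sub_eq_zero.1 hx]
  have : a - b = (u ^ n * a - (P.aug a : K)) - (u ^ n * b - (P.aug b : K)) - (u ^ n - 1) * (a - b) := by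
    rw [hab]; ring
  rw [this]
  exact sub_mem (sub_mem hA hB) (p.mul_mem_right _ hU)

end Groth.Agent.S8665
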