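import Groth.Statements.S8666
import Mathlib.RingTheory.PicardGroup


set_option autoImplicit false
universe u
open CAlg

namespace Groth.Agent.S8666

/-- Let A be a Noetherian ring, M an invertible A-module and p_1, …, p_k finitely many primes of A
(points of Spec A). Then there is a single element s ∈ M whose image generates M_{p_i} as an
A_{p_i}-module for every i, i.e. s is a basis of the stalk of M at each of the given points. -/
theorem result (A : Type u) [CommRing A] [IsNoetherianRing A]
    (M : Type u) [AddCommGroup M] [Module A M] [Module.Invertible A M] (ι : Type) [Finite ι] (p : ι → PrimeSpectrum A) :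
    ∃ s : M, ∀ i : ι, Submodule.span (Localization.AtPrime (p i).asIdeal)
      {LocalizedModule.mkLinearMap (p i).asIdeal.primeCompl M s} = ⊤ := by
  classical
  let _ := Fintype.ofFinite ι
  suffices h : ∀ S : Finset (PrimeSpectrum A), ∃ s : M, ∀ q ∈ S,
      Submodule.span (Localization.AtPrime q.asIdeal)
        {LocalizedModule.mkLinearMap q.asIdeal.primeCompl M s} = ⊤ by
    obtain ⟨s, hs⟩ := h (Finset.univ.image p)
    exact ⟨s, fun i => hs _ (Finset.mem_image.mpr ⟨i, Finset.mem_univ _, rfl⟩)⟩
  have key : ∀ q : PrimeSpectrum A, ∃ e : LocalizedModule q.asIdeal.primeCompl M ≃ₗ[Localization.AtPrime q.asIdeal]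
      Localization.AtPrime q.asIdeal, True := fun q => ⟨(Module.Invertible.free_iff_linearEquiv.mp
        (inferInstance : Module.Free (Localization.AtPrime q.asIdeal) _)).some, trivial⟩
  choose e _ using key
  let E : ∀ q : PrimeSpectrum A, M → Localization.AtPrime q.asIdeal := fun q s =>
    e q (LocalizedModule.mkLinearMap q.asIdeal.primeCompl M s)
  have hgood : ∀ q s, Submodule.span (Localization.AtPrime q.asIdeal)
      {LocalizedModule.mkLinearMap q.asIdeal.primeCompl M s} = ⊤ ↔ IsUnit (E q s) := by
    intro q s
    have : Submodule.map (e q).toLinearMap (Submodule.span _ {LocalizedModule.mkLinearMap q.asIdeal.primeCompl M s}) =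
        Ideal.span {E q s} := by rw [Submodule.map_span, Set.image_singleton]; rfl
    rw [← Ideal.span_singleton_eq_top, ← this, Submodule.map_eq_top_iff]
  have hadd : ∀ q (a : A) s t, E q (s + a • t) = E q s + algebraMap A _ a * E q t := by
    intro q a s t
    simp only [E, map_add, map_smul]
    rw [← IsScalarTower.algebraMap_smul (Localization.AtPrime q.asIdeal) a, map_smul, smul_eq_mul]
  have hex : ∀ q, ∃ t, IsUnit (E q t) := by
    intro q
    obtain ⟨z, hz⟩ := (e q).surjective 1
    induction z using LocalizedModule.induction_on with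
    | h m u =>
      refine ⟨m, ?_⟩
      have h1 : LocalizedModule.mkLinearMap q.asIdeal.primeCompl M m =
          algebraMap A (Localization.AtPrime q.asIdeal) (u : A) • LocalizedModule.mk m u := by
        rw [algebraMap_smul, LocalizedModule.smul'_mk, LocalizedModule.mkLinearMap_apply]
        exact (LocalizedModule.mk_cancel u m).symm
      simp only [E, h1, map_smul, hz, smul_eq_mul, mul_one]
      exact IsLocalization.map_units _ u
  intro S
  induction S using Finset.strongInduction with
  | H S ih =>
    rcases S.eq_empty_or_nonempty with rfl | hne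
    · exact ⟨0, by simp⟩
    obtain ⟨q₀, hq₀, hmin⟩ := S.exists_minimal hne
    obtain ⟨s, hs⟩ := ih (S.erase q₀) (Finset.erase_ssubset hq₀)
    by_cases hbad : IsUnit (E q₀ s)
    · exact ⟨s, fun q hq => if h : q = q₀ then h ▸ (hgood q₀ s).mpr hbad
        else hs q (Finset.mem_erase.mpr ⟨h, hq⟩)⟩
    obtain ⟨a, ha, hanot⟩ : ∃ a, (∀ q ∈ S.erase q₀, a ∈ q.asIdeal) ∧ a ∉ q₀.asIdeal := by
      by_contra hno
      simp only [not_exists, not_and, not_not] at hno
      have hle : (S.erase q₀).inf (fun q => q.asIdeal) ≤ q₀.asIdeal := fun a ha =>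
        hno a fun q hq => (Finset.inf_le hq : _ ≤ q.asIdeal) ha
      obtain ⟨q, hq, hqle⟩ := (Ideal.IsPrime.inf_le' q₀.isPrime).mp hle
      exact (Finset.mem_erase.mp hq).1 (le_antisymm hqle (hmin (Finset.mem_of_mem_erase hq) hqle))
    obtain ⟨t, ht⟩ := hex q₀
    refine ⟨s + a • t, fun q hq => (hgood q _).mpr ?_⟩
    rw [hadd]
    by_cases h : q = q₀
    · subst h
      refine not_not.mp fun hn => ?_
      have h1 : algebraMap A _ a * E q t ∈ IsLocalRing.maximalIdeal (Localization.AtPrime q.asIdeal) := by
        have := sub_mem ((IsLocalRing.mem_maximalIdeal _).mpr hn) ((IsLocalRing.mem_maximalIdeal _).mpr hbad)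
        simpa using this
      exact (IsLocalRing.mem_maximalIdeal _).mp h1
        ((IsLocalization.map_units _ (⟨a, hanot⟩ : q.asIdeal.primeCompl)).mul ht)
    · have hs' := (hgood q s).mp (hs q (Finset.mem_erase.mpr ⟨h, hq⟩))
      refine not_not.mp fun hn => ?_
      have h1 : algebraMap A _ a * E q t ∈ IsLocalRing.maximalIdeal (Localization.AtPrime q.asIdeal) :=
        Ideal.mul_mem_right _ _ ((IsLocalization.AtPrime.to_map_mem_maximal_iff _ q.asIdeal a).mpr
          (ha q (Finset.mem_erase.mpr ⟨h, hq⟩)))
      have := sub_mem ((IsLocalRing.mem_maximalIdeal _).mpr hn) h1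
      rw [add_sub_cancel_right] at this
      exact (IsLocalRing.mem_maximalIdeal _).mp this hs'

end Groth.Agent.S8666
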