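import Groth.Statements.S8668
import Groth.Agent.Desc44.CotangentFactor


set_option autoImplicit false
universe u
open CategoryTheory CategoryTheory.Limits AlgebraicGeometry
attribute [local instance] HasDerivedCategory.standard
open Synt

namespace Groth.Agent.S8668

/-- Let f : X ⟶ Y be a local complete intersection morphism in the factorisation sense (around each
point, locally of finite type and factoring as a Koszul-regular immersion followed by a smooth
morphism), and let f = i ≫ g = i' ≫ g' be two factorisations with g : V ⟶ Y and g' : V' ⟶ Y smooth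
and i, i' closed immersions. Let d : O_V → Ω and d' : O_{V'} → Ω' be universal Y-derivations
(sheaves of relative differentials of V and V' over Y). Then i^*Ω, i'^*Ω' and the conormal sheaves
N_i, N_{i'} are finite locally free, and in K₀ of finite locally free O_X-modules one has [i^*Ω] −
[N_i] = [i'^*Ω'] − [N_{i'}]: the virtual cotangent class of f does not depend on the factorisation. -/
theorem result {X Y V V' : Scheme.{u}} (f : X ⟶ Y) (hf : ∀ x : X, Synt.IsKoszulAt f x)
    (g : V ⟶ Y) [Smooth g] (i : X ⟶ V) [IsClosedImmersion i] (hi : i ≫ g = f)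
    (g' : V' ⟶ Y) [Smooth g'] (i' : X ⟶ V') [IsClosedImmersion i'] (hi' : i' ≫ g' = f)
    (Ω : V.Modules) (d : OmegaSh.Der g Ω) (hd : OmegaSh.IsUniversal d)
    (Ω' : V'.Modules) (d' : OmegaSh.Der g' Ω') (hd' : OmegaSh.IsUniversal d') :
    FlatMod.IsFinLocFree ((Scheme.Modules.pullback i).obj Ω) ∧ FlatMod.IsFinLocFree (Omega.conormal i) ∧
    FlatMod.IsFinLocFree ((Scheme.Modules.pullback i').obj Ω') ∧ FlatMod.IsFinLocFree (Omega.conormal i') ∧
    KRR.cl X ((Scheme.Modules.pullback i).obj Ω) - KRR.cl X (Omega.conormal i) =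
      KRR.cl X ((Scheme.Modules.pullback i').obj Ω') - KRR.cl X (Omega.conormal i') := by
  obtain ⟨φ, hφ⟩ := GrpScheme.SectionConormal.exists_conormalDiff i d
  obtain ⟨φ', hφ'⟩ := GrpScheme.SectionConormal.exists_conormalDiff i' d'
  obtain ⟨W, π, j, ΩW, ψ, hj, hπ, hjπ, hΩW, hc, hc'⟩ :=
    Desc44.CotangentFactor.exists_common g i g' i' (hi.trans hi'.symm) Ω d hd Ω' d' hd' φ hφ φ' hφ'
  have hΩ : FlatMod.IsFinLocFree ((Scheme.Modules.pullback i).obj Ω) :=
    KFlat.LocFree.isFinLocFree_pull _ (S5018.result g ((S1488.result g).1 inferInstance).2 Ω d hd)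
  have hΩ' : FlatMod.IsFinLocFree ((Scheme.Modules.pullback i').obj Ω') :=
    KFlat.LocFree.isFinLocFree_pull _ (S5018.result g' ((S1488.result g').1 inferInstance).2 Ω' d' hd')
  have hN := Desc44.CotangentFactor.isFinLocFree_conormal hf g i hi
  have hN' := Desc44.CotangentFactor.isFinLocFree_conormal hf g' i' hi'
  have hNj := Desc44.CotangentFactor.isFinLocFree_conormal hf π j (hjπ.trans hi)
  have hΩj := KFlat.LocFree.isFinLocFree_pull j hΩW
  exact ⟨hΩ, hN, hΩ', hN', (Desc44.CotangentFactor.cl_sub_eq hc hN hΩ hNj hΩj).trans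
    (Desc44.CotangentFactor.cl_sub_eq hc' hN' hΩ' hNj hΩj).symm⟩


end Groth.Agent.S8668
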