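import Groth.Statements.S8673
import Groth.Agent.S8665
import Groth.Agent.ResK0.Ample
import Groth.Agent.ResK0.LamPrime

set_option autoImplicit false
universe v u
open CategoryTheory CategoryTheory.Limits AlgebraicGeometry
attribute [local instance] HasDerivedCategory.standard
open scoped TensorProduct
open KRR

namespace Groth.Agent.S8673

/-- Let X be a connected quasi-compact scheme with an ample invertible O_X-module, (K, P, φ) a model of
the λ-ring K(X) of finite locally free modules (augmentation ε = rank), and A a commutative ring.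
Then y ∈ A ⊗_ℤ K(X) is invertible if and only if (id ⊗ ε)(y) ∈ A ⊗_ℤ ℤ is invertible; in particular
the class of a nowhere-zero bundle is invertible in K(X) ⊗ ℚ. (The published statement allows X
disconnected, with ε valued in H^0(X, ℤ); this row takes X connected, as the model requires.) -/
theorem result (X : Scheme.{u}) [ConnectedSpace ↥X] (L : X.Modules) (hL : CohB1.IsAmple L)
    (K : Type v) [CommRing K] [LambdaRing.LambdaOps K] (P : LambdaRing.PosStructure K) (φ : SGA6.Kvb X →+ K) (hK : KRR.IsModel X K P φ)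
    (A : Type v) [CommRing A] (y : A ⊗[ℤ] K) :
    IsUnit y ↔ IsUnit (Algebra.TensorProduct.map (AlgHom.id ℤ A) P.aug.toIntAlgHom y) := by
  let E : A ⊗[ℤ] K →ₐ[ℤ] A ⊗[ℤ] ℤ := Algebra.TensorProduct.map (AlgHom.id ℤ A) P.aug.toIntAlgHom
  let S : A ⊗[ℤ] ℤ →ₐ[ℤ] A ⊗[ℤ] K := Algebra.TensorProduct.map (AlgHom.id ℤ A) (Algebra.ofId ℤ K)
  have hnil : ∀ z : A ⊗[ℤ] K, z - S (E z) ∈ nilradical (A ⊗[ℤ] K) := fun z => by
    induction z using TensorProduct.induction_on with
    | zero => simp
    | tmul a x =>
      simp only [E, S, Algebra.TensorProduct.map_tmul, AlgHom.coe_id, id_eq, RingHom.toIntAlgHom_apply,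
        Algebra.ofId_apply, ← TensorProduct.tmul_sub]
      rw [mem_nilradical]
      have hx : IsNilpotent (x - algebraMap ℤ K (P.aug x)) :=
        Groth.Agent.S8665.result X L hL K P φ hK _ (by simp)
      rw [show a ⊗ₜ[ℤ] (x - algebraMap ℤ K (P.aug x)) =
        (a ⊗ₜ[ℤ] (1 : K)) * ((1 : A) ⊗ₜ[ℤ] (x - algebraMap ℤ K (P.aug x))) by simp]
      exact (Commute.all _ _).isNilpotent_mul_left
        (hx.map (Algebra.TensorProduct.includeRight : K →ₐ[ℤ] A ⊗[ℤ] K))
    | add a b ha hb =>
      rw [map_add, map_add, add_sub_add_comm]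
      exact add_mem ha hb
  refine ⟨fun h => h.map E, fun h => ?_⟩
  have hS : IsUnit (S (E y)) := (h : IsUnit (E y)).map S
  have := (mem_nilradical.1 (hnil y)).isUnit_add_left_of_commute hS (Commute.all _ _)
  rwa [add_sub_cancel] at this

end Groth.Agent.S8673
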