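import Groth.Statements.S8674
import Groth.Agent.CartDiv.Avoid
import Groth.Agent.AmpleLib.Locus
import Groth.Agent.ProjTwist.Tensor

set_option autoImplicit false
universe v u
open CategoryTheory CategoryTheory.Limits AlgebraicGeometry
attribute [local instance] HasDerivedCategory.standard
open KRR

namespace Groth.Agent.S8674

/-- Let X be a Noetherian scheme with an ample invertible O_X-module L, E an invertible O_X-module and
x_1, …, x_k finitely many points of X. Then there is an integer n such that for every k ≥ 1 there is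
a global section s : O_X ⟶ E ⊗ L^{⊗ kn} which is a basis of E ⊗ L^{⊗ kn} at every x_i (each x_i lies
in the largest open over which s is an isomorphism). -/
theorem result (X : Scheme.{u}) [IsNoetherian X] (L : X.Modules) (hL : CohB1.IsAmple L)
    (E : X.Modules) (hE : PicF.IsInvertible E) (ι : Type) [Finite ι] (x : ι → ↥X) :
    ∃ n : ℕ, ∀ k : ℕ, 1 ≤ k → ∃ s : Coh.structureModule X ⟶ CohB1.tensorMod E (CohB1.tensorPow L (k * n)),
      ∀ i : ι, x i ∈ CohB1.genLocus (CohB1.tensorMod E (CohB1.tensorPow L (k * n))) s := by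
  classical
  haveI := Fintype.ofFinite ι
  rcases isEmpty_or_nonempty ι with h | h
  · exact ⟨0, fun k _ => ⟨0, fun i => h.elim i⟩⟩
  haveI := hL.2.1
  haveI := Props.AmpleBase.isSeparated_of_isAmple hL
  let P : Finset X := Finset.univ.image x
  obtain ⟨K, s, hs⟩ := GalCohAux.AmpleFinite.exists_nonvanishing hL P (Finset.univ_nonempty.image x)
  haveI := Props.AmpleBase.isQuasiAffine_genLocus hL (Nat.succ_pos K) s
  obtain ⟨N, hN⟩ := CartDiv.Avoid.exists_twist_section hL.1 hE s
    (Props.AmpleBase.isCompact_genLocus hL.1 s) 0 P hs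
  refine ⟨(K + 1) * (N + 1), fun k hk => ?_⟩
  obtain ⟨t, ht⟩ := hN (k * (N + 1)) (le_trans (Nat.le_succ N) (Nat.le_mul_of_pos_left _ hk))
  let e : CohB1.tensorPow (CohB1.tensorMod (CohB1.tensorPow L ((K + 1) * (k * (N + 1)) + 0)) E) 1 ≅
      CohB1.tensorMod E (CohB1.tensorPow L (k * ((K + 1) * (N + 1)))) :=
    ProjTwist.oneTens _ ≪≫ ProjTwist.tensComm _ _ ≪≫
      ProjTwist.tensCongr (Iso.refl E) (eqToIso (congrArg (CohB1.tensorPow L) (by ring)))
  refine ⟨t ≫ e.hom, fun i => ?_⟩
  rw [AmpleLib.genLocus_comp_iso]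
  exact ht (Finset.mem_image.mpr ⟨i, Finset.mem_univ i, rfl⟩)

end Groth.Agent.S8674
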