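import Groth.Statements.S8678
import Groth.Agent.Lambda.Gamma
-- import your own Groth.Agent.* helpers here

set_option autoImplicit false
universe u
open Finset
open LambdaRing

namespace Groth.Agent.S8678

/-- As the identity it proves in the pre-λ-ring K(Y') of the exceptional divisor: let K be a pre-λ-ring
(λ^0 = 1, λ^1 = id, additive formula) with λ^k(1) = 0 for all k ≥ 2, let d ≥ 2, and let F, L, N' ∈ K
satisfy λ^j(L) = 0 for j ≥ 2 (L is the class of an invertible module), λ^i(N') = 0 for i ≥ d − 1 (N'
is the class of a bundle of rank d − 2) and F + L = N' + 2 (for the blowing up of a regular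
immersion of codimension d: on the exceptional divisor the pulled-back conormal class is F + L, and
N = N' + 2). Then 1 − L divides λ_{−1}(F) = Σ_{i<d} (−1)^i λ^i(F). (The published proof uses only
additivity of λ_t and λ_t(1) = 1 + t, the hypotheses taken here.) -/
theorem result (K : Type u) [CommRing K] [LambdaRing.LambdaOps K]
    (h1 : ∀ k : ℕ, 2 ≤ k → LambdaRing.LambdaOps.lam k (1 : K) = 0) (d : ℕ) (hd : 2 ≤ d) (F L N' : K)
    (hL : ∀ j : ℕ, 2 ≤ j → LambdaRing.LambdaOps.lam j L = 0) (hN' : ∀ i : ℕ, d - 1 ≤ i → LambdaRing.LambdaOps.lam i N' = 0)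
    (hrel : F + L = N' + 2) :
    (1 - L) ∣ ∑ i ∈ range d, (-1 : K) ^ i * LambdaRing.LambdaOps.lam i F := by
  classical
  let q := Ideal.Quotient.mk (Ideal.span {1 - L})
  rw [← Ideal.mem_span_singleton, ← Ideal.Quotient.eq_zero_iff_mem]
  change q _ = 0
  have hL1 : q L = 1 := by
    rw [← sub_eq_zero, ← map_one q, ← map_sub]
    exact Ideal.Quotient.eq_zero_iff_mem.2 (by
      rw [show L - 1 = -(1 - L) by ring]; exact neg_mem (Ideal.mem_span_singleton_self _))
  have hser : LambdaRing.lamSeries F * Lambda.lin L =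
      LambdaRing.lamSeries N' * (Lambda.lin 1 * Lambda.lin 1) := by
    rw [← Lambda.lamSeries_eq_lin hL, ← Lambda.lamSeries_add, hrel, show (2 : K) = 1 + 1 by ring,
      Lambda.lamSeries_add, Lambda.lamSeries_add, Lambda.lamSeries_eq_lin h1]
  have hq : PowerSeries.map q (LambdaRing.lamSeries F) =
      PowerSeries.map q (LambdaRing.lamSeries N') * Lambda.lin 1 := by
    have h := congrArg (PowerSeries.map q) hser
    rw [map_mul, map_mul, map_mul, Lambda.map_lin, Lambda.map_lin, hL1, map_one, ← mul_assoc] at h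
    have hc := congrArg (· * Lambda.inv1 (Lambda.lin (1 : K ⧸ Ideal.span {1 - L}))) h
    simpa [mul_assoc, Lambda.mul_inv1 (Lambda.cc_lin _)] using hc
  have hco : ∀ i, q (LambdaRing.LambdaOps.lam (i + 1) F) =
      q (LambdaRing.LambdaOps.lam (i + 1) N') + q (LambdaRing.LambdaOps.lam i N') := by
    intro i
    have := congrArg (PowerSeries.coeff (i + 1)) hq
    rw [PowerSeries.coeff_map, Lambda.coeff_lamSeries, Lambda.lin, map_one, one_mul, mul_add, mul_one,
      map_add, PowerSeries.coeff_succ_mul_X, PowerSeries.coeff_map, PowerSeries.coeff_map,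
      Lambda.coeff_lamSeries, Lambda.coeff_lamSeries] at this
    exact this
  have key : ∀ m, q (∑ i ∈ range (m + 1), (-1 : K) ^ i * LambdaRing.LambdaOps.lam i F) =
      (-1) ^ m * q (LambdaRing.LambdaOps.lam m N') := by
    intro m
    induction m with
    | zero => simp [LambdaRing.LambdaOps.lam_zero]
    | succ m ih =>
      rw [Finset.sum_range_succ, map_add, ih, map_mul, hco, map_pow, map_neg, map_one]
      ring
  obtain ⟨m, rfl⟩ : ∃ m, d = m + 1 := ⟨d - 1, by omega⟩
  rw [key, hN' m (by omega), map_zero, mul_zero]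

end Groth.Agent.S8678
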