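import Groth.Statements.S8693
import Groth.Agent.S8665
import Groth.Agent.ResK0.Ample
import Groth.Agent.ResK0.LamPrime
import Mathlib.RingTheory.IntegralClosure.IsIntegral.Basic
import Mathlib.RingTheory.Noetherian.Basic

set_option autoImplicit false
universe v u
open CategoryTheory CategoryTheory.Limits AlgebraicGeometry
attribute [local instance] HasDerivedCategory.standard
open KRR

namespace Groth.Agent.S8693

/-- Let X be a connected quasi-compact scheme with an ample invertible O_X-module L, (K, P, φ) a model
of the λ-ring K(X) of finite locally free modules with its positive structure (augmentation ε =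
rank), and E_1, …, E_k finite locally free O_X-modules. Let R ⊆ K(X) be the subring generated by the
elements λ^j[E_i] for all i and j, which is the sub-λ-ring generated by the classes [E_i]. Then the
ideal R ∩ Ker ε of R is nilpotent: there is n such that every product of n elements of R of
augmentation zero vanishes; and R is finitely generated as an abelian group. (The published
statement allows X disconnected, with R a module of finite type over R ∩ H^0(X, ℤ), and also asserts
that the λ-ring filtration of R is discrete; this row takes X connected, as the model requires, and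
states the nilpotency and the finite generation over the integers.) -/
theorem result (X : Scheme.{u}) [ConnectedSpace ↥X] (L : X.Modules) (hL : CohB1.IsAmple L)
    (K : Type v) [CommRing K] [LambdaRing.LambdaOps K] (P : LambdaRing.PosStructure K) (φ : SGA6.Kvb X →+ K)
    (hK : KRR.IsModel X K P φ)
    (k : ℕ) (E : Fin k → X.Modules) (hE : ∀ i : Fin k, FlatMod.IsFinLocFree (E i)) :
    (∃ n : ℕ, ∀ f : Fin n → K,
      (∀ t : Fin n, f t ∈ Subring.closure {y : K | ∃ (i : Fin k) (j : ℕ), y = LambdaRing.LambdaOps.lam j (φ (KRR.cl X (E i)))} ∧ P.aug (f t) = 0) →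
        ∏ t, f t = 0) ∧
    (Subring.closure {y : K | ∃ (i : Fin k) (j : ℕ), y = LambdaRing.LambdaOps.lam j (φ (KRR.cl X (E i)))}).toAddSubgroup.FG := by
  classical
  set T : Set K := {y : K | ∃ (i : Fin k) (j : ℕ), y = LambdaRing.LambdaOps.lam j (φ (KRR.cl X (E i)))} with hT
  have hfin : T.Finite := by
    have hb : ∀ i, ∃ r : ℕ, ∀ j, r < j → LambdaRing.LambdaOps.lam j (φ (KRR.cl X (E i))) = 0 := fun i => by
      obtain ⟨r, hr⟩ := Groth.Agent.ResK0.Rank.exists_ofRank (hE i)
      refine ⟨r, fun j hj => ?_⟩
      rcases Nat.eq_zero_or_pos r with h0 | h0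
      · subst h0
        rw [Groth.Agent.ResK0.Rank.cl_eq_zero_of_isZero (Groth.Agent.ResK0.Rank.isZero_of_rank_zero hr) (hE i),
          map_zero]
        exact Groth.Agent.ResK0.LamPrime.lam_zero_elt j hj
      · refine P.lam_eq_zero _ ((hK.mem_pos_iff _).2 ⟨r, _, h0, hr, rfl⟩) j ?_
        rw [hK.aug_cl r _ hr]
        exact_mod_cast hj
    choose r hr using hb
    refine ((Set.finite_range fun p : Σ i, Fin (r i + 1) =>
      LambdaRing.LambdaOps.lam p.2.1 (φ (KRR.cl X (E p.1)))).insert 0).subset ?_
    rintro _ ⟨i, j, rfl⟩
    rcases lt_or_ge (r i) j with h | h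
    · exact Or.inl (hr i j h)
    · exact Or.inr ⟨⟨i, ⟨j, by omega⟩⟩, rfl⟩
  let D : Set K := (fun y => y - (P.aug y : K)) '' T
  have hD : D.Finite := hfin.image _
  have hnil : ∀ d ∈ D, IsNilpotent d := by
    rintro _ ⟨y, -, rfl⟩
    exact Groth.Agent.S8665.result X L hL K P φ hK _ (by simp)
  have hI : IsNilpotent (Ideal.span D) := by
    refine ((Ideal.FG.isNilpotent_iff_le_nilradical (Submodule.fg_span hD))).2 ?_
    rw [Ideal.span_le]
    exact fun d hd => mem_nilradical.2 (hnil d hd)
  constructor
  · obtain ⟨n, hn⟩ := hI
    refine ⟨n, fun f hf => ?_⟩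
    have hmem : ∀ z ∈ Subring.closure T, z - (P.aug z : K) ∈ Ideal.span D := fun z hz => by
      induction hz using Subring.closure_induction with
      | mem y hy => exact Ideal.subset_span ⟨y, hy, rfl⟩
      | zero => simp
      | one => simp
      | add a b _ _ ha hb =>
        rw [map_add, Int.cast_add, add_sub_add_comm]
        exact add_mem ha hb
      | neg a _ ha =>
        rw [map_neg, Int.cast_neg, neg_sub_neg, ← neg_sub]
        exact neg_mem ha
      | mul a b _ _ ha hb =>
        rw [map_mul, Int.cast_mul, show a * b - (P.aug a : K) * (P.aug b : K) =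
          (a - (P.aug a : K)) * b + (P.aug a : K) * (b - (P.aug b : K)) by ring]
        exact add_mem (Ideal.mul_mem_right _ _ ha) (Ideal.mul_mem_left _ _ hb)
    have hprod : ∏ t, f t ∈ ∏ _t : Fin n, Ideal.span D := Ideal.prod_mem_prod fun t _ => by
      have := hmem _ (hf t).1
      rwa [(hf t).2, Int.cast_zero, sub_zero] at this
    rw [Finset.prod_const, Finset.card_univ, Fintype.card_fin, hn] at hprod
    exact (Submodule.mem_bot _).1 hprod
  · have hR : (Algebra.adjoin ℤ T).toSubmodule.FG := fg_adjoin_of_finite hfin fun y hy => by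
      have hd : IsIntegral ℤ (y - (P.aug y : K)) := by
        obtain ⟨n, hn⟩ := hnil _ ⟨y, hy, rfl⟩
        exact ⟨Polynomial.X ^ n, Polynomial.monic_X_pow n, by simp [hn]⟩
      have := hd.add (isIntegral_algebraMap (R := ℤ) (A := K) (x := P.aug y))
      rwa [algebraMap_int_eq, eq_intCast, sub_add_cancel] at this
    rw [Algebra.adjoin_int] at hR
    rw [Submodule.fg_iff_addSubgroup_fg] at hR
    exact hR

end Groth.Agent.S8693
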