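import Groth.Statements.S8697
import Groth.Agent.Lambda.GammaFil
-- import your own Groth.Agent.* helpers here

set_option autoImplicit false
universe u v
open Finset
open LambdaRing

namespace Groth.Agent.S8697

/-- Let K be a binomial ring with its binomial λ-structure and B a λ-ring in the strict sense which is
an augmented K-λ-algebra with augmentation ε. Let x ∈ B satisfy ε(x) = 0 and γ^k(x) = 0 for every k
> n, and assume that γ^1(x), …, γ^n(x) are algebraically independent over K and generate B as a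
K-algebra — so B is the K-λ-algebra generated by one element subject to the relations γ^k = 0 for k
> n, a polynomial ring K[γ^1 x, …, γ^n x]. Then for every k, the k-th ideal Fil^k B of the
γ-filtration (generated by the products of γ^{i}(z), ε(z) = 0, of total weight ≥ k) is the ideal
generated by the monomials ∏_j (γ^j x)^{e_j} with Σ_j j·e_j ≥ k: the λ-ring filtration is the
filtration by the weight in the γ^j x. (With λ in place of γ — relations λ^k x = 0 for k > n and
weights in the λ^j x — the assertion fails already for n = 1, where γ^i(x) = x for all i ≥ 1 puts x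
in every Fil^k while x is not in the ideal (x²); the form with γ stated here is the one the proof
establishes.) The hypotheses hP and hQ, existence of the universal polynomials, are true statements
carried so that the identities of B can be used at every index. -/
theorem result
    (K : Type u) [CommRing K] [LambdaRing.LambdaOps K] [BinomialRing K] (hKb : LambdaRing.IsBinomial K)
    (hK : LambdaRing.IsSpecial K)
    (B : Type v) [CommRing B] [LambdaRing.LambdaOps B] [Algebra K B] (hB : LambdaRing.IsSpecial B)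
    (hP : ∀ n : ℕ, ∃ P : MvPolynomial (Fin n ⊕ Fin n) ℤ, LambdaRing.IsMulPoly n P)
    (hQ : ∀ i j : ℕ, ∃ Q : MvPolynomial (Fin (i * j)) ℤ, LambdaRing.IsCompPoly i j Q)
    (ε : B →ₐ[K] K) (hε : LambdaRing.IsAugLambdaAlg K B ε)
    (n : ℕ) (x : B) (hx : ε x = 0) (hγ : ∀ k : ℕ, n < k → LambdaRing.gamma k x = 0)
    (hind : AlgebraicIndependent K (fun j : Fin n => LambdaRing.gamma ((j : ℕ) + 1) x))
    (hgen : Algebra.adjoin K (Set.range fun j : Fin n => LambdaRing.gamma ((j : ℕ) + 1) x) = ⊤)
    (k : ℕ) :
    LambdaRing.gammaFil (ε : B →+* K) k =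
      Ideal.span {m : B | ∃ e : Fin n → ℕ, k ≤ ∑ j : Fin n, ((j : ℕ) + 1) * e j ∧
        m = ∏ j : Fin n, LambdaRing.gamma ((j : ℕ) + 1) x ^ e j} := by
  classical
  let J : ℕ → Ideal B := fun k => Ideal.span {m : B | ∃ e : Fin n → ℕ, k ≤ ∑ j : Fin n, ((j : ℕ) + 1) * e j ∧
    m = ∏ j : Fin n, LambdaRing.gamma ((j : ℕ) + 1) x ^ e j}
  have hJ : Lambda.FiltFam J := by
    refine ⟨?_, fun h => Ideal.span_mono fun y ⟨e, he, hy⟩ => ⟨e, h.trans he, hy⟩, fun {m m'} {a b} ha hb => ?_⟩
    · rw [eq_top_iff]
      intro a _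
      have : (1 : B) ∈ J 0 := Ideal.subset_span ⟨0, by simp, by simp⟩
      simpa using Ideal.mul_mem_left _ a this
    · have hab := Ideal.mul_mem_mul ha hb
      rw [Ideal.span_mul_span'] at hab
      refine (Ideal.span_le.2 ?_) hab
      rintro _ ⟨_, ⟨e, he, rfl⟩, _, ⟨e', he', rfl⟩, rfl⟩
      refine Ideal.subset_span ⟨e + e', ?_, ?_⟩
      · simp only [Pi.add_apply, Nat.mul_add, Finset.sum_add_distrib]
        exact add_le_add he he'
      · simp only [Pi.add_apply, pow_add, Finset.prod_mul_distrib]
  have hx0 : ∀ _g : PUnit.{1}, ∀ k, LambdaRing.gamma k x ∈ J k := by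
    intro _ k
    rcases Nat.eq_zero_or_pos k with rfl | hk
    · rw [hJ.zero]; trivial
    by_cases hkn : k ≤ n
    · refine Ideal.subset_span ⟨Pi.single ⟨k - 1, by omega⟩ 1, ?_, ?_⟩
      · rw [Finset.sum_eq_single ⟨k - 1, by omega⟩ (fun j _ hj => by simp [hj]) (by simp)]
        simp
        omega
      · rw [Finset.prod_eq_single ⟨k - 1, by omega⟩ (fun j _ hj => by simp [hj]) (by simp)]
        simp
        congr 1
        omega
    · rw [hγ k (by omega)]; exact zero_mem _
  have hεL : Lambda.LHom (ε : B →+* K) := (Lambda.lHom_iff _).2 hε.map_lam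
  have hεγ : ∀ k, 1 ≤ k → ε (LambdaRing.gamma k x) = 0 := fun k hk => by
    show (ε : B →+* K) _ = 0
    rw [hεL.map_gamma, show (ε : B →+* K) x = 0 from hx, Lambda.gamma_of_zero k (by omega)]
  refine le_antisymm (Lambda.gammaFil_le_fam (ε : B →+* K) hJ (fun z hz i => ?_) k) (Ideal.span_le.2 ?_)
  · rcases Nat.eq_zero_or_pos i with rfl | hi
    · rw [hJ.zero]; trivial
    obtain ⟨q, rfl⟩ : ∃ q : MvPolynomial (Fin n) K,
        MvPolynomial.aeval (fun j : Fin n => LambdaRing.gamma ((j : ℕ) + 1) x) q = z := by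
      have hzt : z ∈ Algebra.adjoin K (Set.range fun j : Fin n => LambdaRing.gamma ((j : ℕ) + 1) x) := by
        rw [hgen]; trivial
      rwa [Algebra.adjoin_range_eq_range_aeval, AlgHom.mem_range] at hzt
    have hc : MvPolynomial.constantCoeff q = 0 := by
      have h : ε (MvPolynomial.aeval (fun j : Fin n => LambdaRing.gamma ((j : ℕ) + 1) x) q) = 0 := hz
      rw [← AlgHom.comp_apply, MvPolynomial.comp_aeval] at h
      simp only [hεγ _ (Nat.succ_pos _)] at h
      simpa [MvPolynomial.aeval_zero'] using h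
    suffices hgood : MvPolynomial.aeval (fun j : Fin n => LambdaRing.gamma ((j : ℕ) + 1) x) q ∈
        Lambda.goodSub hKb hB hε.isLambdaAlg hJ 1 from hJ.anti (le_max_left _ _) (hgood i hi)
    rw [q.as_sum, map_sum]
    refine Submodule.sum_mem _ fun d hd => ?_
    rw [MvPolynomial.aeval_monomial, ← Algebra.smul_def]
    refine Submodule.smul_mem _ _ ?_
    obtain ⟨j0, hj0⟩ : ∃ j, d j ≠ 0 := by
      by_contra hne
      simp only [not_exists, not_not] at hne
      have hd0 : d = 0 := Finsupp.ext hne
      rw [hd0] at hd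
      exact MvPolynomial.mem_support_iff.1 hd hc
    let u : Lambda.Fr PUnit.{1} := d.prod fun j e => MvPolynomial.X (⟨PUnit.unit, (j : ℕ)⟩ : Lambda.Gen PUnit.{1}) ^ e
    have hu : u ∈ Lambda.ordIdeal ℤ (Lambda.genW PUnit.{1}) 1 := by
      have hu' := Lambda.prod_mem_ordIdeal (R := ℤ) (w := Lambda.genW PUnit.{1}) d.support
        (fun j => MvPolynomial.X (⟨PUnit.unit, (j : ℕ)⟩ : Lambda.Gen PUnit.{1}) ^ d j) (fun j => d j * ((j : ℕ) + 1))
        (fun j _ => Lambda.pow_mem_ordIdeal (Lambda.X_mem_ordIdeal (Lambda.genW PUnit.{1}) ⟨PUnit.unit, (j : ℕ)⟩) (d j))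
      refine Lambda.ordIdeal_antitone _ ?_ hu'
      refine le_trans ?_ (Finset.single_le_sum (fun j _ => Nat.zero_le (d j * ((j : ℕ) + 1))) (Finsupp.mem_support_iff.2 hj0))
      exact Nat.mul_pos (Nat.pos_of_ne_zero hj0) (Nat.succ_pos _)
    have h := Lambda.evalAt_mem_good hKb hB hε.isLambdaAlg hJ (σ := PUnit.{1}) (fun _ => x) hx0 le_rfl hu
    convert h using 1
    simp [u, Lambda.evalAt, map_finsuppProd]
  · rintro _ ⟨e, he, rfl⟩
    have hfam := Lambda.filFam (ε : B →+* K)
    refine hfam.anti he ?_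
    have hpow : ∀ (j : Fin n) (m : ℕ),
        LambdaRing.gamma ((j : ℕ) + 1) x ^ m ∈ LambdaRing.gammaFil (ε : B →+* K) (((j : ℕ) + 1) * m) := by
      intro j m
      induction m with
      | zero => simp [hfam.zero]
      | succ m ih =>
        rw [pow_succ, Nat.mul_succ]
        exact hfam.mul ih (Lambda.gamma_mem_gammaFil (ε : B →+* K) hx _)
    generalize (univ : Finset (Fin n)) = s
    induction s using Finset.cons_induction with
    | empty => simp [hfam.zero]
    | cons a s ha ih =>
      rw [Finset.prod_cons, Finset.sum_cons]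
      exact hfam.mul (hpow a (e a)) ih

end Groth.Agent.S8697
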