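import Groth.Statements.S8698
import Groth.Agent.Lambda.GammaFil
-- import your own Groth.Agent.* helpers here

set_option autoImplicit false
universe u v w
open Finset
open LambdaRing

namespace Groth.Agent.S8698

/-- Let K be a binomial ring with its binomial λ-structure, A a λ-ring in the strict sense which is an
augmented K-λ-algebra with augmentation ε_A, and B a λ-ring in the strict sense which is at once an
augmented K-λ-algebra with augmentation ε_B and an A-algebra compatibly with the K-structures, the
structure map A → B commuting with the λ^n and ε_B restricting to ε_A on A. Let x ∈ B with ε_B(x) =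
0, and assume that the family (γ^{j+1} x)_{j ∈ ℕ} is algebraically independent over A and generates
B as an A-algebra: B is the free λ-ring A[X, γ^2 X, γ^3 X, …] on one generator over A, augmented by
X ↦ 0. Then for every k the k-th ideal Fil^k B of the γ-filtration of B is the ideal generated by
the products a · m where m = ∏_j (γ^{j+1} x)^{e_j} is a monomial of weight i = Σ_j (j+1) e_j and a
lies in (the image of) Fil^{k−i} A, with Fil^s A = A for s ≤ 0; that is, Fil^k B = Fil^k A +
Fil^{k−1} A·M_1 + ⋯ + Fil^0 A·M_k + (monomials of weight > k), M_i denoting the monomials of weight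
i. The hypotheses hP and hQ, existence of the universal polynomials, are true statements carried so
that the identities of A and B can be used at every index. -/
theorem result
    (K : Type u) [CommRing K] [LambdaRing.LambdaOps K] [BinomialRing K] (hKb : LambdaRing.IsBinomial K)
    (hK : LambdaRing.IsSpecial K)
    (A : Type v) [CommRing A] [LambdaRing.LambdaOps A] [Algebra K A] (hA : LambdaRing.IsSpecial A)
    (εA : A →ₐ[K] K) (hεA : LambdaRing.IsAugLambdaAlg K A εA)
    (B : Type w) [CommRing B] [LambdaRing.LambdaOps B] [Algebra K B] [Algebra A B] [IsScalarTower K A B]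
    (hB : LambdaRing.IsSpecial B) (hAB : LambdaRing.IsLambdaAlg A B)
    (εB : B →ₐ[K] K) (hεB : LambdaRing.IsAugLambdaAlg K B εB) (hεAB : ∀ a : A, εB (algebraMap A B a) = εA a)
    (hP : ∀ n : ℕ, ∃ P : MvPolynomial (Fin n ⊕ Fin n) ℤ, LambdaRing.IsMulPoly n P)
    (hQ : ∀ i j : ℕ, ∃ Q : MvPolynomial (Fin (i * j)) ℤ, LambdaRing.IsCompPoly i j Q)
    (x : B) (hx : εB x = 0)
    (hind : AlgebraicIndependent A (fun j : ℕ => LambdaRing.gamma (j + 1) x))
    (hgen : Algebra.adjoin A (Set.range fun j : ℕ => LambdaRing.gamma (j + 1) x) = ⊤)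
    (k : ℕ) :
    LambdaRing.gammaFil (εB : B →+* K) k =
      Ideal.span {b : B | ∃ (e : ℕ →₀ ℕ) (a : A),
        a ∈ LambdaRing.gammaFil (εA : A →+* K) (k - e.sum fun j n => (j + 1) * n) ∧
        b = algebraMap A B a * e.prod fun j n => LambdaRing.gamma (j + 1) x ^ n} := by
  classical
  let wt : (ℕ →₀ ℕ) → ℕ := fun e => e.sum fun j n => (j + 1) * n
  let mon : (ℕ →₀ ℕ) → B := fun e => e.prod fun j n => LambdaRing.gamma (j + 1) x ^ n
  have wt_add : ∀ e e', wt (e + e') = wt e + wt e' := fun e e' =>
    Finsupp.sum_add_index' (fun _ => Nat.mul_zero _) (fun _ _ _ => Nat.mul_add _ _ _)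
  have mon_add : ∀ e e', mon (e + e') = mon e * mon e' := fun e e' =>
    Finsupp.prod_add_index' (fun _ => pow_zero _) (fun _ _ _ => pow_add _ _ _)
  let J : ℕ → Ideal B := fun k => Ideal.span {b : B | ∃ (e : ℕ →₀ ℕ) (a : A),
    a ∈ LambdaRing.gammaFil (εA : A →+* K) (k - wt e) ∧ b = algebraMap A B a * mon e}
  have hfA := Lambda.filFam (εA : A →+* K)
  have hfB := Lambda.filFam (εB : B →+* K)
  have hJ : Lambda.FiltFam J := by
    refine ⟨?_, fun h => Ideal.span_mono fun y ⟨e, a, ha, hy⟩ => ⟨e, a, hfA.anti (by omega) ha, hy⟩,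
      fun {m m'} {a b} ha hb => ?_⟩
    · rw [eq_top_iff]
      intro a _
      have : (1 : B) ∈ J 0 := Ideal.subset_span ⟨0, 1, by rw [Nat.zero_sub, hfA.zero]; trivial, by simp [mon]⟩
      simpa using Ideal.mul_mem_left _ a this
    · have hab := Ideal.mul_mem_mul ha hb
      rw [Ideal.span_mul_span'] at hab
      refine (Ideal.span_le.2 ?_) hab
      rintro _ ⟨_, ⟨e, a, ha, rfl⟩, _, ⟨e', a', ha', rfl⟩, rfl⟩
      refine Ideal.subset_span ⟨e + e', a * a', ?_, ?_⟩
      · exact hfA.anti (by rw [wt_add]; omega) (hfA.mul ha ha')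
      · show _ * _ * (_ * _) = _
        rw [mon_add, map_mul]; ring
  have hAB' : Lambda.LHom (algebraMap A B) := (Lambda.lHom_iff _).2 hAB
  have hεL : Lambda.LHom (εB : B →+* K) := (Lambda.lHom_iff _).2 hεB.map_lam
  have hA0 : ∀ a, εA a = 0 → ∀ k, LambdaRing.gamma k (algebraMap A B a) ∈ J k := by
    intro a ha k
    refine Ideal.subset_span ⟨0, LambdaRing.gamma k a, ?_, by simp [mon, hAB'.map_gamma]⟩
    simpa [wt] using Lambda.gamma_mem_gammaFil (εA : A →+* K) ha k
  have hxJ : ∀ k, LambdaRing.gamma k x ∈ J k := by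
    intro k
    rcases Nat.eq_zero_or_pos k with rfl | hk
    · rw [hJ.zero]; trivial
    obtain ⟨j, rfl⟩ : ∃ j, k = j + 1 := ⟨k - 1, by omega⟩
    exact Ideal.subset_span ⟨Finsupp.single j 1, 1, by simp [wt, hfA.zero], by simp [mon]⟩
  have hεγ : ∀ j, εB (LambdaRing.gamma (j + 1) x) = 0 := fun j => by
    show (εB : B →+* K) _ = 0
    rw [hεL.map_gamma, show (εB : B →+* K) x = 0 from hx, Lambda.gamma_of_zero _ (Nat.succ_ne_zero j)]
  refine le_antisymm (Lambda.gammaFil_le_fam (εB : B →+* K) hJ (fun z hz i => ?_) k) (Ideal.span_le.2 ?_)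
  · rcases Nat.eq_zero_or_pos i with rfl | hi
    · rw [hJ.zero]; trivial
    obtain ⟨q, rfl⟩ : ∃ q : MvPolynomial ℕ A,
        MvPolynomial.aeval (fun j : ℕ => LambdaRing.gamma (j + 1) x) q = z := by
      have hzt : z ∈ Algebra.adjoin A (Set.range fun j : ℕ => LambdaRing.gamma (j + 1) x) := by
        rw [hgen]; trivial
      rwa [Algebra.adjoin_range_eq_range_aeval, AlgHom.mem_range] at hzt
    suffices hgood : MvPolynomial.aeval (fun j : ℕ => LambdaRing.gamma (j + 1) x) q ∈
        Lambda.goodSub hKb hB hεB.isLambdaAlg hJ 1 from hJ.anti (le_max_left _ _) (hgood i hi)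
    have hterm : ∀ d, d ≠ 0 → ∀ a : A, algebraMap A B a * mon d ∈ Lambda.goodSub hKb hB hεB.isLambdaAlg hJ 1 := by
      intro d hd a
      obtain ⟨j0, hj0⟩ : ∃ j, d j ≠ 0 := by
        by_contra hne
        simp only [not_exists, not_not] at hne
        exact hd (Finsupp.ext hne)
      let a' := a - algebraMap K A (εA a)
      have ha' : εA a' = 0 := by simp [a']
      let fam : Bool → B := fun b => if b then algebraMap A B a' else x
      have hfam : ∀ g k, LambdaRing.gamma k (fam g) ∈ J k := by
        intro g k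
        cases g
        · exact hxJ k
        · exact hA0 a' ha' k
      let u : Lambda.Fr Bool := d.prod fun j e => MvPolynomial.X (⟨false, j⟩ : Lambda.Gen Bool) ^ e
      have hu : u ∈ Lambda.ordIdeal ℤ (Lambda.genW Bool) 1 := by
        have hu' := Lambda.prod_mem_ordIdeal (R := ℤ) (w := Lambda.genW Bool) d.support
          (fun j => MvPolynomial.X (⟨false, j⟩ : Lambda.Gen Bool) ^ d j) (fun j => d j * (j + 1))
          (fun j _ => Lambda.pow_mem_ordIdeal (Lambda.X_mem_ordIdeal (Lambda.genW Bool) ⟨false, j⟩) (d j))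
        refine Lambda.ordIdeal_antitone _ ?_ hu'
        refine le_trans ?_ (Finset.single_le_sum (fun j _ => Nat.zero_le (d j * (j + 1))) (Finsupp.mem_support_iff.2 hj0))
        exact Nat.mul_pos (Nat.pos_of_ne_zero hj0) (Nat.succ_pos _)
      have heu : Lambda.evalAt fam u = mon d := by simp [u, mon, fam, Lambda.evalAt, map_finsuppProd]
      have h1 : mon d ∈ Lambda.goodSub hKb hB hεB.isLambdaAlg hJ 1 :=
        heu ▸ Lambda.evalAt_mem_good hKb hB hεB.isLambdaAlg hJ fam hfam le_rfl hu
      have h2 : algebraMap A B a' * mon d ∈ Lambda.goodSub hKb hB hεB.isLambdaAlg hJ 1 := by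
        have h := Lambda.evalAt_mem_good hKb hB hεB.isLambdaAlg hJ fam hfam le_rfl
          (Ideal.mul_mem_left _ (Lambda.gen true) hu)
        rw [map_mul, heu, Lambda.evalAt_gen] at h
        exact h
      have hsplit : algebraMap A B a * mon d = algebraMap A B a' * mon d + εA a • mon d := by
        rw [Algebra.smul_def, IsScalarTower.algebraMap_apply K A B, ← add_mul, ← map_add]
        simp [a']
      rw [hsplit]
      exact Submodule.add_mem _ h2 (Submodule.smul_mem _ _ h1)
    have hc : εA (MvPolynomial.coeff 0 q) = 0 := by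
      have h : εB (MvPolynomial.aeval (fun j : ℕ => LambdaRing.gamma (j + 1) x) q) = 0 := hz
      rw [q.as_sum, map_sum, map_sum, Finset.sum_eq_single 0] at h
      · simpa [MvPolynomial.aeval_monomial, hεAB] using h
      · intro d _ hd
        obtain ⟨j0, hj0⟩ : ∃ j, d j ≠ 0 := by
          by_contra hne
          simp only [not_exists, not_not] at hne
          exact hd (Finsupp.ext hne)
        rw [MvPolynomial.aeval_monomial, map_mul, map_finsuppProd]
        refine mul_eq_zero_of_right _ (Finset.prod_eq_zero (Finsupp.mem_support_iff.2 hj0) ?_)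
        simp [hεγ, hj0]
      · intro h0
        simp [MvPolynomial.notMem_support_iff.1 h0]
    rw [q.as_sum, map_sum]
    refine Submodule.sum_mem _ fun d _ => ?_
    rw [MvPolynomial.aeval_monomial]
    by_cases hd : d = 0
    · subst hd
      intro i' hi'
      rw [Finsupp.prod_zero_index, mul_one]
      exact hJ.anti (by omega) (hA0 _ hc i')
    · exact hterm d hd _
  · rintro _ ⟨e, a, ha, rfl⟩
    have hmapA : ∀ m (b : A), b ∈ LambdaRing.gammaFil (εA : A →+* K) m →
        algebraMap A B b ∈ LambdaRing.gammaFil (εB : B →+* K) m := by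
      intro m b hb
      have hle : LambdaRing.gammaFil (εA : A →+* K) m ≤
          Ideal.comap (algebraMap A B) (LambdaRing.gammaFil (εB : B →+* K) m) := by
        refine Ideal.span_le.2 ?_
        rintro _ ⟨l, hl, hs, rfl⟩
        refine Ideal.subset_span ⟨l.map fun p => (p.1, algebraMap A B p.2), ?_, ?_, ?_⟩
        · intro p hp
          obtain ⟨p', hp', rfl⟩ := List.mem_map.1 hp
          show εB (algebraMap A B p'.2) = 0
          rw [hεAB]; exact hl p' hp'
        · simpa [Function.comp_def] using hs
        · simp [map_list_prod, Function.comp_def, hAB'.map_gamma]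
      exact hle hb
    have hmon : mon e ∈ LambdaRing.gammaFil (εB : B →+* K) (wt e) := by
      have hpow : ∀ (j m : ℕ),
          LambdaRing.gamma (j + 1) x ^ m ∈ LambdaRing.gammaFil (εB : B →+* K) ((j + 1) * m) := by
        intro j m
        induction m with
        | zero => simp [hfB.zero]
        | succ m ih =>
          rw [pow_succ, Nat.mul_succ]
          exact hfB.mul ih (Lambda.gamma_mem_gammaFil (εB : B →+* K) hx _)
      simp only [mon, wt, Finsupp.prod, Finsupp.sum]
      generalize e.support = s
      induction s using Finset.cons_induction with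
      | empty => simp [hfB.zero]
      | cons a s ha ih =>
        rw [Finset.prod_cons, Finset.sum_cons]
        exact hfB.mul (hpow a (e a)) ih
    exact hfB.anti (show k ≤ (k - wt e) + wt e by omega) (hfB.mul (hmapA _ _ ha) hmon)

end Groth.Agent.S8698
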