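import Groth.Statements.S8702
import Groth.Agent.Lambda.Special
-- import your own Groth.Agent.* helpers here

set_option autoImplicit false
universe u
open LambdaRing

namespace Groth.Agent.S8702

/-- coefficients of the series with prescribed power sums -/
noncomputable def ser {K : Type u} [CommRing K] [Algebra ℚ K] (ψ : ℕ → K →+ K) (x : K) : ℕ → K
  | 0 => 1
  | m + 1 => algebraMap ℚ K ((m : ℚ) + 1)⁻¹ * ∑ i ∈ (Finset.range (m + 1)).attach,
      ser ψ x i.1 * ((-1) ^ (m - i.1) * ψ (m - i.1 + 1) x)
decreasing_by exact Finset.mem_range.mp i.2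

/-- Let K be a commutative ring which is an algebra over the rationals, and let ψ^k : K → K, k ≥ 1, be
additive maps with ψ^1 the identity. Then there is one and only one pre-λ-structure on K whose Adams
operations (defined through the logarithmic derivative of λ_t) are the ψ^k for every k ≥ 1, namely
λ_t(x) = exp(Σ_{k ≥ 1} (−1)^{k−1} ψ^k(x) t^k / k): in characteristic zero, pre-λ-structures and
families of additive operations ψ^k with ψ^1 = id determine each other. (The value of the family at
k = 0 is ignored.) -/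
theorem result (K : Type u) [CommRing K] [Algebra ℚ K]
    (ψ : ℕ → K →+ K) (hψ : ψ 1 = AddMonoidHom.id K) :
    ∃! L : LambdaRing.LambdaOps K, ∀ k : ℕ, 1 ≤ k → ∀ x : K, @LambdaRing.adamsOp K _ L k x = ψ k x := by
  classical
  have hT := Lambda.natTorsionFree_ratAlgebra K
  let c : K → PowerSeries K := fun x => PowerSeries.mk (ser ψ x)
  have hc0 : ∀ x, Lambda.CC (c x) := fun x => by
    show PowerSeries.constantCoeff (c x) = 1
    rw [← PowerSeries.coeff_zero_eq_constantCoeff_apply, PowerSeries.coeff_mk]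
    simp [ser]
  have hpsi : ∀ x k, 1 ≤ k → Lambda.psi (c x) k = ψ k x := fun x k hk => by
    obtain ⟨j, rfl⟩ : ∃ j, k = j + 1 := ⟨k - 1, by omega⟩
    have hd : Lambda.dlog (c x) = PowerSeries.mk fun j => (-1) ^ j * ψ (j + 1) x := by
      apply Lambda.dlog_eq_of_mul_eq (hc0 x)
      ext m
      rw [PowerSeries.coeff_derivative, PowerSeries.coeff_mk, ser, PowerSeries.coeff_mul,
        Finset.Nat.sum_antidiagonal_eq_sum_range_succ
          (fun i j => PowerSeries.coeff i (c x) * PowerSeries.coeff j (PowerSeries.mk fun j => (-1) ^ j * ψ (j + 1) x))]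
      simp only [c, PowerSeries.coeff_mk]
      rw [Finset.sum_attach (Finset.range (m + 1)) (fun i => ser ψ x i * ((-1) ^ (m - i) * ψ (m - i + 1) x)),
        mul_comm, ← mul_assoc, show ((m : K) + 1) = algebraMap ℚ K ((m : ℚ) + 1) by simp,
        ← map_mul, mul_inv_cancel₀ (by positivity), map_one, one_mul]
    rw [Lambda.psi_succ, hd, PowerSeries.coeff_mk, ← mul_assoc, ← mul_pow]
    simp
  have hc1 : ∀ x, PowerSeries.coeff 1 (c x) = x := fun x => by
    rw [← Lambda.psi_one (hc0 x), hpsi x 1 le_rfl, hψ]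
    rfl
  have hadd : ∀ x y, c (x + y) = c x * c y := fun x y =>
    Lambda.eq_of_psi hT (hc0 _) ((hc0 x).mul (hc0 y)) fun k hk => by
      rw [Lambda.psi_mul (hc0 x) (hc0 y), hpsi _ k hk, hpsi _ k hk, hpsi _ k hk, map_add]
  refine ⟨Lambda.ofSeries c hc0 hc1 hadd, fun k hk x => ?_, fun L hL => ?_⟩
  · letI := Lambda.ofSeries c hc0 hc1 hadd
    rw [Lambda.adamsOp_eq_psi, Lambda.lamSeries_ofSeries c hc0 hc1 hadd, hpsi x k hk]
  · refine Lambda.lambdaOps_ext fun x => ?_
    rw [Lambda.lamSeries_ofSeries]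
    letI := L
    exact Lambda.eq_of_psi hT (Lambda.cc_lamSeries x) (hc0 x) fun k hk => by
      rw [← Lambda.adamsOp_eq_psi, hL k hk x, hpsi x k hk]

end Groth.Agent.S8702
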