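import Groth.Statements.S8704
import Groth.Agent.Lambda.GammaFil
-- import your own Groth.Agent.* helpers here

set_option autoImplicit false
universe u v
open LambdaRing

namespace Groth.Agent.S8704

/-- Let K and A be λ-rings in the strict sense, A an augmented K-λ-algebra with augmentation ε : A → K,
and Fil^n A its γ-filtration, the ideal generated by the products γ^{i_1}(x_1) ⋯ γ^{i_k}(x_k) with
i_1 + ⋯ + i_k ≥ n and all ε(x_r) = 0. If a subset S generates A as an abelian group, then Fil^n A,
as a K-submodule of A, is generated over K by the products γ^{i_1}(s_1 − ε(s_1)) ⋯ γ^{i_k}(s_k −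
ε(s_k)) with s_r ∈ S and i_1 + ⋯ + i_k ≥ n. -/
theorem result
    (K : Type u) [CommRing K] [LambdaRing.LambdaOps K] (hK : LambdaRing.IsSpecial K)
    (A : Type v) [CommRing A] [LambdaRing.LambdaOps A] [Algebra K A] (hA : LambdaRing.IsSpecial A)
    (ε : A →ₐ[K] K) (hε : LambdaRing.IsAugLambdaAlg K A ε)
    (S : Set A) (hS : AddSubgroup.closure S = ⊤) (n : ℕ) :
    (LambdaRing.gammaFil (ε : A →+* K) n).restrictScalars K =
      Submodule.span K {y : A | ∃ l : List (ℕ × A), (∀ p ∈ l, p.2 ∈ S) ∧ n ≤ (l.map Prod.fst).sum ∧
        y = (l.map fun p => LambdaRing.gamma p.1 (p.2 - algebraMap K A (ε p.2))).prod} := by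
  classical
  let T : ℕ → Set A := fun m => {y : A | ∃ l : List (ℕ × A), (∀ p ∈ l, p.2 ∈ S) ∧ m ≤ (l.map Prod.fst).sum ∧
    y = (l.map fun p => LambdaRing.gamma p.1 (p.2 - algebraMap K A (ε p.2))).prod}
  let M : ℕ → Submodule K A := fun m => Submodule.span K (T m)
  -- stability under multiplication
  have hcons : ∀ m, ∀ s ∈ S, ∀ y ∈ M m, s * y ∈ M m := by
    intro m s hs y hy
    induction hy using Submodule.span_induction with
    | mem y hy =>
      obtain ⟨l, hl, hsum, rfl⟩ := hy
      rw [show s = (s - algebraMap K A (ε s)) + algebraMap K A (ε s) by ring, add_mul, ← Algebra.smul_def]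
      refine Submodule.add_mem _ (Submodule.subset_span ⟨(1, s) :: l, ?_, ?_, ?_⟩)
        (Submodule.smul_mem _ _ (Submodule.subset_span ⟨l, hl, hsum, rfl⟩))
      · intro p hp
        rcases List.mem_cons.1 hp with rfl | hp
        · exact hs
        · exact hl p hp
      · rw [List.map_cons, List.sum_cons]; omega
      · simp [Lambda.gamma_one_op]
    | zero => rw [mul_zero]; exact Submodule.zero_mem _
    | add a b _ _ ha hb => rw [mul_add]; exact Submodule.add_mem _ ha hb
    | smul c a _ ha => rw [mul_smul_comm]; exact Submodule.smul_mem _ c ha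
  have hmulA : ∀ m, ∀ a : A, ∀ y ∈ M m, a * y ∈ M m := by
    intro m a y hy
    have ha : a ∈ AddSubgroup.closure S := by rw [hS]; trivial
    refine AddSubgroup.closure_induction (fun s hs => hcons m s hs y hy) ?_ ?_ ?_ ha
    · rw [zero_mul]; exact Submodule.zero_mem _
    · intro p q _ _ hp hq; rw [add_mul]; exact Submodule.add_mem _ hp hq
    · intro p _ hp; rw [neg_mul]; exact Submodule.neg_mem _ hp
  let J : ℕ → Ideal A := fun m =>
    { carrier := M m, add_mem' := fun h h' => Submodule.add_mem _ h h', zero_mem' := Submodule.zero_mem _,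
      smul_mem' := fun a y hy => hmulA m a y hy }
  have hJ : Lambda.FiltFam J := by
    refine ⟨?_, fun {m m'} h => ?_, fun {m m'} {a b} ha hb => ?_⟩
    · rw [eq_top_iff]
      intro a _
      have h1 : (1 : A) ∈ M 0 := Submodule.subset_span ⟨[], by simp, by simp, by simp⟩
      have := hmulA 0 a 1 h1
      rwa [mul_one] at this
    · exact fun y hy => Submodule.span_mono (show T m' ⊆ T m from fun z ⟨l, hl, hs, hz⟩ => ⟨l, hl, h.trans hs, hz⟩) hy
    · have hab := Submodule.mul_mem_mul (show a ∈ M m from ha) (show b ∈ M m' from hb)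
      simp only [M, Submodule.span_mul_span] at hab
      show a * b ∈ M (m + m')
      refine (Submodule.span_le (p := M (m + m'))).2 ?_ hab
      rintro _ ⟨_, ⟨l, hl, hs, rfl⟩, _, ⟨l', hl', hs', rfl⟩, rfl⟩
      refine Submodule.subset_span ⟨l ++ l', ?_, ?_, by simp⟩
      · intro p hp; rcases List.mem_append.1 hp with h | h
        exacts [hl p h, hl' p h]
      · rw [List.map_append, List.sum_append]; omega
  have key : ∀ a : A, ∀ i, LambdaRing.gamma i (a - algebraMap K A (ε a)) ∈ J i := by
    intro a
    have ha : a ∈ AddSubgroup.closure S := by rw [hS]; trivial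
    refine AddSubgroup.closure_induction (fun s hs i => ?_) (fun i => ?_) ?_ ?_ ha
    · exact Submodule.subset_span ⟨[(i, s)], by simp [hs], by simp, by simp⟩
    · rcases Nat.eq_zero_or_pos i with rfl | hi
      · rw [hJ.zero]; trivial
      · rw [map_zero, map_zero, sub_zero, Lambda.gamma_of_zero i (by omega)]; exact zero_mem _
    · intro p q _ _ hp hq i
      rw [map_add, map_add, add_sub_add_comm, ← Lambda.coeff_gammaSeries, Lambda.gammaSeries_add, PowerSeries.coeff_mul]
      refine Ideal.sum_mem _ fun x hx => ?_
      rw [← Finset.mem_antidiagonal.1 hx, Lambda.coeff_gammaSeries, Lambda.coeff_gammaSeries]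
      exact hJ.mul (hp x.1) (hq x.2)
    · intro p _ hp
      rw [map_neg, map_neg, show -p - -algebraMap K A (ε p) = -(p - algebraMap K A (ε p)) by ring]
      intro i
      induction i using Nat.strong_induction_on with
      | _ i ih =>
        cases i with
        | zero => rw [hJ.zero]; trivial
        | succ i =>
          have h := congrArg (PowerSeries.coeff (i + 1))
            (Lambda.gammaSeries_add (p - algebraMap K A (ε p)) (-(p - algebraMap K A (ε p))))
          rw [add_neg_cancel, PowerSeries.coeff_mul, Lambda.coeff_gammaSeries,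
            Lambda.gamma_of_zero _ (Nat.succ_ne_zero i),
            Finset.Nat.sum_antidiagonal_eq_sum_range_succ
              (fun q r => PowerSeries.coeff q (Lambda.gammaSeries (p - algebraMap K A (ε p))) *
                PowerSeries.coeff r (Lambda.gammaSeries (-(p - algebraMap K A (ε p))))), Finset.sum_range_succ'] at h
          simp only [Lambda.coeff_gammaSeries, Lambda.gamma_zero_op, one_mul, Nat.sub_zero] at h
          rw [eq_neg_of_add_eq_zero_right h.symm]
          refine neg_mem (Ideal.sum_mem _ fun j hj => ?_)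
          have hj' := Finset.mem_range.1 hj
          exact hJ.anti (show i + 1 ≤ (j + 1) + (i + 1 - (j + 1)) by omega)
            (hJ.mul (hp (j + 1)) (ih (i + 1 - (j + 1)) (by omega)))
  refine le_antisymm (fun y hy => ?_) (Submodule.span_le.2 ?_)
  · rw [Submodule.restrictScalars_mem] at hy
    refine (show LambdaRing.gammaFil (ε : A →+* K) n ≤ J n from Ideal.span_le.2 ?_) hy
    rintro _ ⟨l, hl, hs, rfl⟩
    refine hJ.anti hs ?_
    clear hs
    induction l with
    | nil => simp [hJ.zero]
    | cons p l ih =>
      rw [List.map_cons, List.map_cons, List.sum_cons, List.prod_cons]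
      refine hJ.mul ?_ (ih fun q hq => hl q (List.mem_cons_of_mem _ hq))
      have := key p.2 p.1
      rwa [show ε p.2 = 0 from hl p List.mem_cons_self, map_zero, sub_zero] at this
  · rintro _ ⟨l, hl, hs, rfl⟩
    refine Ideal.subset_span ⟨l.map fun p => (p.1, p.2 - algebraMap K A (ε p.2)), ?_, ?_, ?_⟩
    · intro p hp
      obtain ⟨p', -, rfl⟩ := List.mem_map.1 hp
      simp
    · simpa [Function.comp_def] using hs
    · simp [Function.comp_def]

end Groth.Agent.S8704
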