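import Groth.Statements.S8705
import Mathlib.LinearAlgebra.Quotient.Basic
import Mathlib.Tactic.Abel

set_option autoImplicit false
universe u
open SGA7

namespace Groth.Agent.S8705

section

/-- Auxiliary extension by a symmetric cocycle. -/
@[ext] structure Ext' {P K : Type u} [AddCommGroup P] [AddCommGroup K] (_c : P → P → K) : Type u where
  fst : K
  snd : P

variable {P K : Type u} [AddCommGroup P] [AddCommGroup K] (c : P → P → K)

noncomputable abbrev extGroup (hs : ∀ p q, c p q = c q p)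
    (hc : ∀ p q r, c (p + q) r + c p q = c p (q + r) + c q r) : AddCommGroup (Ext' c) where
  add x y := ⟨x.fst + y.fst + c x.snd y.snd, x.snd + y.snd⟩
  zero := ⟨-c 0 0, 0⟩
  neg x := ⟨-x.fst - c x.snd (-x.snd) - c 0 0, -x.snd⟩
  add_assoc x y z := by
    refine Ext'.ext ?_ (add_assoc _ _ _)
    show x.fst + y.fst + c x.snd y.snd + z.fst + c (x.snd + y.snd) z.snd =
      x.fst + (y.fst + z.fst + c y.snd z.snd) + c x.snd (y.snd + z.snd)
    have := hc x.snd y.snd z.snd
    rw [← eq_sub_iff_add_eq] at this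
    rw [this]; abel
  zero_add x := by
    refine Ext'.ext ?_ (zero_add _)
    show -c 0 0 + x.fst + c 0 x.snd = x.fst
    have := hc 0 0 x.snd
    simp only [zero_add, add_right_inj] at this
    rw [← this]; abel
  add_zero x := by
    refine Ext'.ext ?_ (add_zero _)
    show x.fst + -c 0 0 + c x.snd 0 = x.fst
    have := hc 0 0 x.snd
    simp only [zero_add, add_right_inj] at this
    rw [hs x.snd 0, ← this]; abel
  neg_add_cancel x := by
    refine Ext'.ext ?_ (neg_add_cancel _)
    show -x.fst - c x.snd (-x.snd) - c 0 0 + x.fst + c (-x.snd) x.snd = -c 0 0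
    rw [hs (-x.snd) x.snd]; abel
  add_comm x y := by
    refine Ext'.ext ?_ (add_comm _ _)
    show x.fst + y.fst + c x.snd y.snd = y.fst + x.fst + c y.snd x.snd
    rw [hs x.snd y.snd]; abel
  nsmul := @nsmulRec _ ⟨⟨-c 0 0, 0⟩⟩ ⟨fun x y => ⟨x.fst + y.fst + c x.snd y.snd, x.snd + y.snd⟩⟩
  zsmul := @zsmulRec _ ⟨⟨-c 0 0, 0⟩⟩ ⟨fun x y => ⟨x.fst + y.fst + c x.snd y.snd, x.snd + y.snd⟩⟩
    ⟨fun x => ⟨-x.fst - c x.snd (-x.snd) - c 0 0, -x.snd⟩⟩
    (@nsmulRec _ ⟨⟨-c 0 0, 0⟩⟩ ⟨fun x y => ⟨x.fst + y.fst + c x.snd y.snd, x.snd + y.snd⟩⟩)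

end

lemma main (P : Type u) [AddCommGroup P] :
    letI ε : (P →₀ ℤ) →ₗ[ℤ] P := Finsupp.linearCombination ℤ (fun p : P => p)
    letI d₀ : (P × P →₀ ℤ) →ₗ[ℤ] (P →₀ ℤ) := Finsupp.linearCombination ℤ
      (fun pq : P × P => Finsupp.single (pq.1 + pq.2) 1 - Finsupp.single pq.1 1 - Finsupp.single pq.2 1)
    letI d₁ : (P × P × P →₀ ℤ) →ₗ[ℤ] (P × P →₀ ℤ) := Finsupp.linearCombination ℤ
      (fun t : P × P × P => Finsupp.single (t.1 + t.2.1, t.2.2) 1 - Finsupp.single (t.1, t.2.1 + t.2.2) 1
        + Finsupp.single (t.1, t.2.1) 1 - Finsupp.single (t.2.1, t.2.2) 1)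
    letI d₁' : (P × P →₀ ℤ) →ₗ[ℤ] (P × P →₀ ℤ) := Finsupp.linearCombination ℤ
      (fun pq : P × P => Finsupp.single pq 1 - Finsupp.single (pq.2, pq.1) 1)
    Function.Surjective ε ∧ LinearMap.ker ε = LinearMap.range d₀ ∧
      LinearMap.ker d₀ = LinearMap.range d₁ ⊔ LinearMap.range d₁' := by
  classical
  set ε : (P →₀ ℤ) →ₗ[ℤ] P := Finsupp.linearCombination ℤ (fun p : P => p)
  set d₀ : (P × P →₀ ℤ) →ₗ[ℤ] (P →₀ ℤ) := Finsupp.linearCombination ℤ
    (fun pq : P × P => Finsupp.single (pq.1 + pq.2) 1 - Finsupp.single pq.1 1 - Finsupp.single pq.2 1)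
  set d₁ : (P × P × P →₀ ℤ) →ₗ[ℤ] (P × P →₀ ℤ) := Finsupp.linearCombination ℤ
    (fun t : P × P × P => Finsupp.single (t.1 + t.2.1, t.2.2) 1 - Finsupp.single (t.1, t.2.1 + t.2.2) 1
      + Finsupp.single (t.1, t.2.1) 1 - Finsupp.single (t.2.1, t.2.2) 1)
  set d₁' : (P × P →₀ ℤ) →ₗ[ℤ] (P × P →₀ ℤ) := Finsupp.linearCombination ℤ
    (fun pq : P × P => Finsupp.single pq 1 - Finsupp.single (pq.2, pq.1) 1)
  have hε : ∀ p : P, ε (Finsupp.single p 1) = p := fun p => by simp [ε]
  have hd₀ : ∀ p q : P, d₀ (Finsupp.single (p, q) 1) =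
      Finsupp.single (p + q) 1 - Finsupp.single p 1 - Finsupp.single q 1 := fun p q => by simp [d₀]
  refine ⟨fun p => ⟨_, hε p⟩, ?_, ?_⟩
  · refine le_antisymm ?_ ?_
    · let s : P →+ (P →₀ ℤ) ⧸ LinearMap.range d₀ :=
        AddMonoidHom.mk' (fun p => Submodule.Quotient.mk (Finsupp.single p 1)) (fun p q => by
          rw [← Submodule.Quotient.mk_add, Submodule.Quotient.eq, ← sub_sub, ← hd₀]
          exact ⟨_, rfl⟩)
      have : (LinearMap.range d₀).mkQ = s.toIntLinearMap.comp ε := by
        refine Finsupp.lhom_ext' fun p => LinearMap.ext_ring ?_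
        simp [hε, s]
      intro z hz
      rw [← Submodule.Quotient.mk_eq_zero, ← Submodule.mkQ_apply, this]
      rw [LinearMap.mem_ker] at hz
      simp [hz]
    · rw [LinearMap.range_le_ker_iff]
      refine Finsupp.lhom_ext' fun pq => LinearMap.ext_ring ?_
      obtain ⟨p, q⟩ := pq
      simp [hd₀, hε]
  · refine le_antisymm ?_ ?_
    · set N := LinearMap.range d₁ ⊔ LinearMap.range d₁'
      let c : P → P → (P × P →₀ ℤ) ⧸ N := fun p q => Submodule.Quotient.mk (Finsupp.single (p, q) 1)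
      have hs : ∀ p q, c p q = c q p := by
        intro p q
        simp only [c]
        rw [Submodule.Quotient.eq]
        exact Submodule.mem_sup_right ⟨Finsupp.single (p, q) 1, by simp [d₁']⟩
      have hc : ∀ p q r, c (p + q) r + c p q = c p (q + r) + c q r := by
        intro p q r
        simp only [c, ← Submodule.Quotient.mk_add]
        rw [Submodule.Quotient.eq]
        refine Submodule.mem_sup_left ⟨Finsupp.single (p, q, r) 1, ?_⟩
        simp [d₁]; abel
      letI := extGroup c hs hc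
      let f : (P →₀ ℤ) →ₗ[ℤ] Ext' c := Finsupp.linearCombination ℤ (fun p => (⟨0, p⟩ : Ext' c))
      let i : (P × P →₀ ℤ) ⧸ N →+ Ext' c := AddMonoidHom.mk' (fun k => ⟨k - c 0 0, 0⟩) (fun k l => by
        refine Ext'.ext ?_ (add_zero (0 : P)).symm
        show k + l - c 0 0 = k - c 0 0 + (l - c 0 0) + c 0 0
        abel)
      have hcomp : f.comp d₀ = -(i.toIntLinearMap.comp N.mkQ) := by
        refine Finsupp.lhom_ext' fun pq => LinearMap.ext_ring ?_
        obtain ⟨p, q⟩ := pq
        simp only [LinearMap.coe_comp, Function.comp_apply, Finsupp.lsingle_apply, hd₀, map_sub,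
          LinearMap.neg_apply, AddMonoidHom.coe_toIntLinearMap, Submodule.mkQ_apply]
        simp only [f, Finsupp.linearCombination_single, one_smul]
        show (⟨0, p + q⟩ : Ext' c) - ⟨0, p⟩ - ⟨0, q⟩ = - i (c p q)
        rw [sub_sub, sub_eq_iff_eq_add, ← sub_eq_neg_add, eq_sub_iff_add_eq]
        refine Ext'.ext ?_ ((add_zero _).trans rfl)
        show 0 + (c p q - c 0 0) + c (p + q) 0 = 0 + 0 + c p q
        have h := hc 0 0 (p + q)
        simp only [zero_add, add_right_inj] at h
        rw [hs (p + q) 0, ← h]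
        abel
      intro z hz
      rw [LinearMap.mem_ker] at hz
      have h := LinearMap.congr_fun hcomp z
      simp only [LinearMap.coe_comp, Function.comp_apply, hz, map_zero, LinearMap.neg_apply] at h
      rw [zero_eq_neg] at h
      have h' := congrArg Ext'.fst h
      rw [← Submodule.Quotient.mk_eq_zero]
      simpa [i] using (show Submodule.Quotient.mk z - c 0 0 = -c 0 0 from h')
    · refine sup_le ?_ ?_ <;> rw [LinearMap.range_le_ker_iff]
      · refine Finsupp.lhom_ext' fun t => LinearMap.ext_ring ?_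
        obtain ⟨p, q, r⟩ := t
        simp [d₁, hd₀, add_assoc]
        abel
      · refine Finsupp.lhom_ext' fun pq => LinearMap.ext_ring ?_
        obtain ⟨p, q⟩ := pq
        simp [d₁', hd₀, add_comm p q]
        abel

/-- In the case of the punctual topos (ordinary abelian groups): let P be an abelian group and consider
the complex of free abelian groups Z[P × P × P] ⊕ Z[P × P] → Z[P × P] → Z[P], augmented to P by [p]
↦ p, with d₀[p, q] = [p + q] − [p] − [q], with d₁ on the first summand given by [p, q, r] ↦ [p + q,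
r] − [p, q + r] + [p, q] − [q, r] and on the second summand by [p, q] ↦ [p, q] − [q, p]. Then the
augmentation is surjective with kernel the image of d₀ (so H₀ is P), and the kernel of d₀ is the sum
of the images of the two components of d₁ (so H₁ vanishes). (The published statement is for abelian
sheaves on an arbitrary topos; this row is its case of a one-point space.) -/
theorem result (P : Type u) [AddCommGroup P] :
    letI ε : (P →₀ ℤ) →ₗ[ℤ] P := Finsupp.linearCombination ℤ (fun p : P => p)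
    letI d₀ : (P × P →₀ ℤ) →ₗ[ℤ] (P →₀ ℤ) := Finsupp.linearCombination ℤ
      (fun pq : P × P => Finsupp.single (pq.1 + pq.2) 1 - Finsupp.single pq.1 1 - Finsupp.single pq.2 1)
    letI d₁ : (P × P × P →₀ ℤ) →ₗ[ℤ] (P × P →₀ ℤ) := Finsupp.linearCombination ℤ
      (fun t : P × P × P => Finsupp.single (t.1 + t.2.1, t.2.2) 1 - Finsupp.single (t.1, t.2.1 + t.2.2) 1
        + Finsupp.single (t.1, t.2.1) 1 - Finsupp.single (t.2.1, t.2.2) 1)
    letI d₁' : (P × P →₀ ℤ) →ₗ[ℤ] (P × P →₀ ℤ) := Finsupp.linearCombination ℤ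
      (fun pq : P × P => Finsupp.single pq 1 - Finsupp.single (pq.2, pq.1) 1)
    Function.Surjective ε ∧ LinearMap.ker ε = LinearMap.range d₀ ∧
      LinearMap.ker d₀ = LinearMap.range d₁ ⊔ LinearMap.range d₁' := by
  exact main P

end Groth.Agent.S8705
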