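import Groth.Statements.S8706
import Groth.Agent.ExtConst67.Etale
import Groth.Agent.GITLib.TorsorSch
import Groth.Agent.SecComp.FlatNbhd
import Groth.Agent.AlgSpCov.FppfDescentProps
import Mathlib.AlgebraicGeometry.Morphisms.FlatMono
-- import your own Groth.Agent.* helpers here

set_option autoImplicit false
universe u
open CategoryTheory CategoryTheory.Limits MonoidalCategory CartesianMonoidalCategory MonObj AlgebraicGeometry
open SGA7

namespace Groth.Agent.S8706

theorem isGeomReducedAt_of_smooth {k : Type u} [Field k] {X : Scheme.{u}}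
    (f : X ⟶ Spec (CommRingCat.of k)) [Smooth f] (x : X) : FBase.IsGeomReducedAt f x := by
  intro K _ _ z' _
  haveI : Smooth (FBase.bcStr f K) := inferInstanceAs (Smooth (Limits.pullback.snd f _))
  haveI : AlgebraicGeometry.IsReduced (FBase.bc f K) :=
    Groth.Agent.AlgSpCov.isReduced_of_smooth (FBase.bcStr f K)
  infer_instance

/-- Let p : P → S be a smooth morphism of finite presentation (smooth, quasi-compact, quasi-separated)
with geometrically connected fibres, e : S → P a section of p, Z a group and G the constant P-group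
scheme Z_P (through the isomorphism eG), E a torsor under G over P for the fppf topology, and e' : S
→ E a section of E lying over e. Then E is trivial (has a section over P) if and only if for every
point s of S the torsor induced on the fibre P_s is trivial (E acquires a section over P_s → P); and
when E is trivial there is exactly one section g of E over P with g ∘ e = e'. -/
theorem result (S P : Scheme.{u}) (p : P ⟶ S)
    [Smooth p] [QuasiCompact p] [QuasiSeparated p] [GeometricallyConnected p]
    (e : S ⟶ P) (he : e ≫ p = 𝟙 S)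
    (Z : Type u) [Group Z] (G : Over P) [GrpObj G] (eG : G ≅ TwC.const P Z) (hG : TwC.IsConstGrp Z G eG)
    (E : NonAbH1.TorsorSch G Scheme.fppfPrecoverage)
    (e' : S ⟶ E.X.left) (he' : e' ≫ E.X.hom = e) :
    (NonAbH1.HasSectionOver E.X (𝟙 P) ↔
        ∀ s : ↥S, NonAbH1.HasSectionOver E.X (pullback.fst p (S.fromSpecResidueField s))) ∧
      (NonAbH1.HasSectionOver E.X (𝟙 P) →
        ∃! g : P ⟶ E.X.left, g ≫ E.X.hom = 𝟙 P ∧ e ≫ g = e') := by
  open CategoryTheory.Limits Groth.Agent.ExtConst67 in
  -- the torsor is étale and separated over `P`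
  have hTor : NonAbH1.IsTorsorFor Scheme.fpqcPrecoverage E.act :=
    ⟨E.isTorsor.1, by
      obtain ⟨R, hR, hs⟩ := E.isTorsor.2
      exact ⟨R, Scheme.fppfPrecoverage_le_fpqcPrecoverage P hR, hs⟩⟩
  haveI : IsZariskiLocalAtTarget (@Etale : MorphismProperty Scheme.{u}) :=
    HasRingHomProperty.instIsZariskiLocalAtTarget _ (Q := RingHom.Etale)
  haveI : Etale E.X.hom := Groth.Agent.GITLib.property_of_torsor @Etale hTor (etale_hom eG)
  haveI : IsSeparated E.X.hom :=
    haveI : MorphismProperty.DescendsAlong @IsSeparated Groth.Agent.AlgSpCov.Fpqc :=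
      Groth.Agent.FpqcDesc.descendsAlong_isSeparated
    Groth.Agent.GITLib.property_of_torsor @IsSeparated hTor (isSeparated_hom eG)
  haveI : Smooth (E.X.hom ≫ p) := inferInstance
  haveI : QuasiSeparated (E.X.hom ≫ p) := inferInstance
  let F := E.X.hom ≫ p
  have he'F : e' ≫ F = 𝟙 S := by rw [← Category.assoc, he', he]
  -- the union of the components through the given section is open
  have hopen : IsOpen (MoreMor.sectionComponents F e') := by
    rw [isOpen_iff_mem_nhds]
    intro x hx
    obtain ⟨V, hV, hxV, -⟩ := exists_isAffineOpen_mem_and_subset (X := S) (x := F.base x) (U := ⊤) trivial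
    haveI : IsAffine (V : Scheme.{u}) := hV
    have hc := (isPullback_morphismRestrict F V).flip
    let s' : (V : Scheme.{u}) ⟶ (F ⁻¹ᵁ V : E.X.left.Opens) := hc.lift (V.ι ≫ e') (𝟙 _)
      (by rw [Category.assoc, he'F, Category.comp_id, Category.id_comp])
    have hs' : s' ≫ (F ∣_ V) = 𝟙 _ := hc.lift_snd _ _ _
    have hs'g : s' ≫ (F ⁻¹ᵁ V).ι = V.ι ≫ e' := hc.lift_fst _ _ _
    haveI : QuasiSeparated (F ∣_ V) := MorphismProperty.of_isPullback hc inferInstance
    haveI : Smooth (F ∣_ V) := MorphismProperty.of_isPullback hc inferInstance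
    haveI : QuasiSeparatedSpace (F ⁻¹ᵁ V : E.X.left.Opens).toScheme :=
      quasiSeparatedSpace_of_quasiSeparated (F ∣_ V)
    have hpre := Groth.Agent.SecComp.preimage_sectionComponents F e' he'F (F ∣_ V) _ _ hc s' hs' hs'g
    let x₀ : (F ⁻¹ᵁ V : E.X.left.Opens).toScheme := ⟨x, hxV⟩
    have hx₀ : x₀ ∈ MoreMor.sectionComponents (F ∣_ V) s' := by rw [hpre]; exact hx
    have hint : x₀ ∈ interior (MoreMor.sectionComponents (F ∣_ V) s') :=
      Groth.Agent.SecComp.component_subset_interior_lfp (F ∣_ V) s' hs' ((F ∣_ V).base x₀) (fun z _ => by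
        have hsm : Smooth ((F ∣_ V).fiberToSpecResidueField ((F ∣_ V).base z)) :=
          inferInstanceAs (Smooth (pullback.snd (F ∣_ V) _))
        exact @isGeomReducedAt_of_smooth _ _ _ _ hsm _) hx₀
    rw [hpre, ← (F ⁻¹ᵁ V).ι.isOpenMap.preimage_interior_eq_interior_preimage (F ⁻¹ᵁ V).ι.continuous] at hint
    exact mem_interior_iff_mem_nhds.1 hint
  let U : E.X.left.Opens := ⟨_, hopen⟩
  -- connectedness of the fibres of `p`
  have hcomp : ∀ (σ : P ⟶ E.X.left), σ ≫ E.X.hom = 𝟙 P → e ≫ σ = e' → ∀ y : P, σ.base y ∈ U := by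
    intro σ hσ hσe y
    have hF : F.base (σ.base y) = p.base y := by
      rw [← Scheme.Hom.comp_apply, ← Category.assoc, hσ, Category.id_comp]
    show σ.base y ∈ connectedComponentIn (F.base ⁻¹' {F.base (σ.base y)}) (e'.base (F.base (σ.base y)))
    rw [hF]
    refine (((p.isConnected_preimage_singleton (p.base y)).image σ.base
      σ.continuous.continuousOn).isPreconnected.subset_connectedComponentIn ⟨e.base (p.base y), ?_, ?_⟩ ?_)
      ⟨y, rfl, rfl⟩
    · show p.base (e.base (p.base y)) = p.base y
      rw [← Scheme.Hom.comp_apply, he]; rfl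
    · rw [← Scheme.Hom.comp_apply, hσe]
    · rintro _ ⟨z, hz, rfl⟩
      show F.base (σ.base z) = p.base y
      rw [← Scheme.Hom.comp_apply, ← Category.assoc, hσ, Category.id_comp]
      exact hz
  -- the normalised section over a fibre and its values
  have hfib : (∀ s : S, NonAbH1.HasSectionOver E.X (pullback.fst p (S.fromSpecResidueField s))) →
      ∀ s : S, ∃ h : Over.mk (pullback.fst p (S.fromSpecResidueField s)) ⟶ E.X,
        (∀ q : ↥(pullback p (S.fromSpecResidueField s)), h.left.base q ∈ U) ∧
        ∀ (T : Over P) [Subsingleton T.left] (c : T ⟶ Over.mk (pullback.fst p (S.fromSpecResidueField s)))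
          (a : T ⟶ E.X), (∀ t, a.left.base t ∈ U) → a = c ≫ h := by
    intro hsec s
    obtain ⟨h₀, hh₀⟩ := hsec s
    let r := S.fromSpecResidueField s
    let Ps : Over P := Over.mk (pullback.fst p r)
    let h₁ : Ps ⟶ E.X := Over.homMk h₀ hh₀
    let T₀ : Over P := Over.mk (r ≫ e)
    let σ₀ : T₀ ⟶ Ps := Over.homMk (pullback.lift (r ≫ e) (𝟙 _)
      (by rw [Category.assoc, he, Category.comp_id, Category.id_comp])) (pullback.lift_fst _ _ _)
    let x₂ : T₀ ⟶ E.X := Over.homMk (r ≫ e') (by
      show (r ≫ e') ≫ E.X.hom = r ≫ e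
      rw [Category.assoc, he'])
    haveI : Subsingleton T₀.left := inferInstanceAs (Subsingleton (PrimeSpectrum (S.residueField s)))
    obtain ⟨g, hg, -⟩ := Groth.Agent.GITLib.existsUnique_diff E.isTorsor.1 (σ₀ ≫ h₁) x₂
    let pt₀ : T₀.left := IsLocalRing.closedPoint (S.residueField s)
    let m := idx eG g pt₀
    let h : Ps ⟶ E.X := lift (cpt eG Ps m) h₁ ≫ E.act.act
    have hσh : σ₀ ≫ h = x₂ := by
      rw [Groth.Agent.GITLib.comp_lift_act, ← hg]
      congr 2
      rw [eq_of_idx eG g pt₀]
      simp [cpt, m]
    haveI : ConnectedSpace ↥(p.fiber s) := inferInstance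
    haveI : PreconnectedSpace ↥Ps.left :=
      (inferInstanceAs (PreconnectedSpace ↥(p.fiber s)))
    have hpsF : ∀ q : ↥(pullback p r), F.base (h.left.base q) = s := fun q => by
      rw [← Scheme.Hom.comp_apply, ← Category.assoc, Over.w h]
      show ((pullback.fst p r ≫ p) : pullback p r ⟶ S).base q = s
      rw [pullback.condition, Scheme.Hom.comp_apply, Scheme.fromSpecResidueField_apply]
    refine ⟨h, fun q => ?_, fun T _ c a ha => ?_⟩
    · show h.left.base q ∈ connectedComponentIn (F.base ⁻¹' {F.base (h.left.base q)})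
        (e'.base (F.base (h.left.base q)))
      rw [hpsF]
      refine (isPreconnected_range h.left.continuous).subset_connectedComponentIn
        ⟨σ₀.left.base pt₀, ?_⟩ (by rintro _ ⟨q', rfl⟩; exact hpsF q') ⟨q, rfl⟩
      rw [← Scheme.Hom.comp_apply, ← Over.comp_left, hσh]
      show e'.base (r.base pt₀) = e'.base s
      rw [Scheme.fromSpecResidueField_apply]
    · -- the translation index on the fibre of `E`
      let Xs : Over P := Over.mk (pullback.fst F r ≫ E.X.hom)
      let ιs : Xs ⟶ E.X := Over.homMk (pullback.fst F r) rfl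
      let π : Xs ⟶ Ps := Over.homMk (pullback.lift (pullback.fst F r ≫ E.X.hom) (pullback.snd F r)
        (by rw [Category.assoc]; exact pullback.condition)) (pullback.lift_fst _ _ _)
      obtain ⟨gs, hgs, -⟩ := Groth.Agent.GITLib.existsUnique_diff E.isTorsor.1 (π ≫ h) ιs
      let w₀ : T₀ ⟶ Xs := Over.homMk (pullback.lift (r ≫ e') (𝟙 _)
        (by rw [Category.assoc, he'F, Category.comp_id, Category.id_comp])) (by
          show pullback.lift _ _ _ ≫ pullback.fst F r ≫ E.X.hom = r ≫ e
          rw [pullback.lift_fst_assoc, Category.assoc, he'])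
      have hw₀π : w₀ ≫ π = σ₀ := Over.OverMorphism.ext (by
        apply pullback.hom_ext
        · show (pullback.lift _ _ _ ≫ pullback.lift _ _ _) ≫ pullback.fst p r = pullback.lift _ _ _ ≫ pullback.fst p r
          rw [Category.assoc, pullback.lift_fst, pullback.lift_fst_assoc, pullback.lift_fst, Category.assoc, he']
        · show (pullback.lift _ _ _ ≫ pullback.lift _ _ _) ≫ pullback.snd p r = pullback.lift _ _ _ ≫ pullback.snd p r
          rw [Category.assoc, pullback.lift_snd, pullback.lift_snd, pullback.lift_snd])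
      have hw₀ι : w₀ ≫ ιs = x₂ := Over.OverMorphism.ext (pullback.lift_fst _ _ _)
      have hn₀ : idx eG gs (w₀.left.base pt₀) = 1 := by
        have h1 := congrArg (fun q => w₀ ≫ q) hgs
        rw [Groth.Agent.GITLib.comp_lift_act, reassoc_of% hw₀π, hσh, hw₀ι] at h1
        rw [← idx_comp, Groth.Agent.GITLib.eq_one_of_fixed E.isTorsor.1 _ _ h1]
        exact idx_one hG _
      let d : T ⟶ Xs := Over.homMk (pullback.lift a.left (c.left ≫ pullback.snd p r) (by
        rw [Category.assoc, ← pullback.condition, ← Category.assoc, Over.w a, ← Category.assoc]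
        congr 1
        exact (Over.w c).symm)) (by
          show pullback.lift _ _ _ ≫ pullback.fst F r ≫ E.X.hom = T.hom
          rw [pullback.lift_fst_assoc, Over.w a])
      have hdι : d ≫ ιs = a := Over.OverMorphism.ext (pullback.lift_fst _ _ _)
      have hdπ : d ≫ π = c := Over.OverMorphism.ext (by
        apply pullback.hom_ext
        · show (pullback.lift _ _ _ ≫ pullback.lift _ _ _) ≫ pullback.fst p r = c.left ≫ pullback.fst p r
          rw [Category.assoc, pullback.lift_fst, pullback.lift_fst_assoc, Over.w a]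
          exact (Over.w c).symm
        · show (pullback.lift _ _ _ ≫ pullback.lift _ _ _) ≫ pullback.snd p r = c.left ≫ pullback.snd p r
          rw [Category.assoc, pullback.lift_snd, pullback.lift_snd])
      have hgd : d ≫ gs = 1 := eq_one_of_idx hG _ fun t => by
        rw [idx_comp]
        have hat : a.left.base t ∈ connectedComponentIn (F.base ⁻¹' {F.base (a.left.base t)})
            (e'.base (F.base (a.left.base t))) := ha t
        have hdt : (pullback.fst F r).base (d.left.base t) = a.left.base t := by
          rw [← hdι]; rfl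
        have hFs : F.base (a.left.base t) = s := by
          rw [← hdt, ← Scheme.Hom.comp_apply, pullback.condition, Scheme.Hom.comp_apply,
            Scheme.fromSpecResidueField_apply]
        rw [hFs] at hat
        have hw : (pullback.fst F r).base (w₀.left.base pt₀) = e'.base s := by
          show ((pullback.lift _ _ _ : Spec (S.residueField s) ⟶ pullback F r) ≫ pullback.fst F r).base pt₀ = _
          rw [pullback.lift_fst, Scheme.Hom.comp_apply, Scheme.fromSpecResidueField_apply]
        rw [← hw] at hat
        erw [Groth.Agent.SecComp.connectedComponentIn_fibre F s (w₀.left.base pt₀)] at hat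
        obtain ⟨w, hwc, hw'⟩ := hat
        obtain rfl : w = d.left.base t := (F.fiberι s).isEmbedding.injective (hw'.trans hdt.symm)
        rw [← hn₀]
        exact (isLocallyConstant_idx eG gs).apply_eq_of_isPreconnected isPreconnected_connectedComponent
          hwc mem_connectedComponent
      have h2 := congrArg (fun q => d ≫ q) hgs
      rw [Groth.Agent.GITLib.comp_lift_act, reassoc_of% hdπ, hgd, hdι] at h2
      rw [← h2]
      exact E.act.lift_one_act _
  have main : (∀ s : S, NonAbH1.HasSectionOver E.X (pullback.fst p (S.fromSpecResidueField s))) →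
      IsIso (U.ι ≫ E.X.hom) := by
    intro hsec
    choose h hh huniq using hfib hsec
    haveI : Mono (U.ι ≫ E.X.hom) := ⟨fun {W} a b hab => by
      let T : Over P := Over.mk (a ≫ U.ι ≫ E.X.hom)
      let a' : T ⟶ E.X := Over.homMk (a ≫ U.ι) (Category.assoc _ _ _)
      let b' : T ⟶ E.X := Over.homMk (b ≫ U.ι) ((Category.assoc _ _ _).trans hab.symm)
      obtain ⟨g, hg, -⟩ := Groth.Agent.GITLib.existsUnique_diff E.isTorsor.1 a' b'
      have hg1 : g = 1 := eq_one_of_idx hG g fun t => by
        let s := p.base (T.hom.base t)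
        let T' : Over P := Over.mk (T.left.fromSpecResidueField t ≫ T.hom)
        let i : T' ⟶ T := Over.homMk (T.left.fromSpecResidueField t) rfl
        haveI : Subsingleton T'.left := inferInstanceAs (Subsingleton (PrimeSpectrum (T.left.residueField t)))
        obtain ⟨t'⟩ : Nonempty T'.left := inferInstanceAs (Nonempty (PrimeSpectrum (T.left.residueField t)))
        have ht : i.left.base t' = t := T.left.fromSpecResidueField_apply t t'
        obtain ⟨φ, hφ⟩ : ∃ φ : T'.left ⟶ Spec (S.residueField s),
            φ ≫ S.fromSpecResidueField s = T'.hom ≫ p := by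
          refine ⟨Spec.map ((T.hom ≫ p).residueFieldMap t), ?_⟩
          show Spec.map ((T.hom ≫ p).residueFieldMap t) ≫ S.fromSpecResidueField ((T.hom ≫ p).base t) = _
          rw [Scheme.Hom.SpecMap_residueFieldMap_fromSpecResidueField, ← Category.assoc]
          rfl
        let c : T' ⟶ Over.mk (pullback.fst p (S.fromSpecResidueField s)) :=
          Over.homMk (pullback.lift T'.hom φ hφ.symm) (pullback.lift_fst _ _ _)
        have ha' := huniq s T' c (i ≫ a') fun q => ((i.left ≫ a).base q).2
        have hb' := huniq s T' c (i ≫ b') fun q => ((i.left ≫ b).base q).2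
        have h3 := congrArg (fun q => i ≫ q) hg
        rw [Groth.Agent.GITLib.comp_lift_act, ha', hb'] at h3
        rw [← ht, ← idx_comp, Groth.Agent.GITLib.eq_one_of_fixed E.isTorsor.1 _ _ h3]
        exact idx_one hG _
      rw [hg1, E.act.lift_one_act] at hg
      exact (cancel_mono U.ι).1 (congrArg CommaMorphism.left hg)⟩
    haveI : IsOpenImmersion (U.ι ≫ E.X.hom) := IsOpenImmersion.of_flat_of_mono _
    haveI : Epi (U.ι ≫ E.X.hom).base := by
      rw [TopCat.epi_iff_surjective]
      intro y
      obtain ⟨q, hq, -⟩ := Scheme.Pullback.exists_preimage_pullback (f := p)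
        (g := S.fromSpecResidueField (p.base y)) y (IsLocalRing.closedPoint _)
        (Scheme.fromSpecResidueField_apply _ _).symm
      refine ⟨⟨(h (p.base y)).left.base q, hh _ q⟩, ?_⟩
      show E.X.hom.base ((h (p.base y)).left.base q) = y
      rw [← Scheme.Hom.comp_apply, Over.w (h (p.base y))]
      exact hq
    exact IsOpenImmersion.isIso _
  have hiff : NonAbH1.HasSectionOver E.X (𝟙 P) ↔
      ∀ s : S, NonAbH1.HasSectionOver E.X (pullback.fst p (S.fromSpecResidueField s)) := by
    constructor
    · rintro ⟨σ, hσ⟩ s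
      exact ⟨pullback.fst p _ ≫ σ, by rw [Category.assoc, hσ, Category.comp_id]⟩
    · intro hsec
      haveI := main hsec
      exact ⟨inv (U.ι ≫ E.X.hom) ≫ U.ι, by rw [Category.assoc, IsIso.inv_hom_id]⟩
  refine ⟨hiff, fun hsec => ?_⟩
  haveI := main (hiff.1 hsec)
  have hlift : ∀ (W : Scheme.{u}) (τ : W ⟶ E.X.left) (q : W ⟶ P), τ ≫ E.X.hom = q → (∀ w, τ.base w ∈ U) →
      τ = q ≫ inv (U.ι ≫ E.X.hom) ≫ U.ι := fun W τ q hq hτ => by
    let l := IsOpenImmersion.lift U.ι τ (by rw [Scheme.Opens.range_ι]; rintro _ ⟨w, rfl⟩; exact hτ w)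
    have hl : l ≫ U.ι = τ := IsOpenImmersion.lift_fac _ _ _
    rw [← hl, ← hq, ← hl]
    simp
  refine ⟨inv (U.ι ≫ E.X.hom) ≫ U.ι, ⟨by rw [Category.assoc, IsIso.inv_hom_id], ?_⟩, fun g hg => ?_⟩
  · refine (hlift S e' e he' fun s => ?_).symm
    show e'.base s ∈ connectedComponentIn (F.base ⁻¹' {F.base (e'.base s)}) (e'.base (F.base (e'.base s)))
    have h1 : F.base (e'.base s) = s := by rw [← Scheme.Hom.comp_apply, he'F]; rfl
    rw [h1]
    exact mem_connectedComponentIn h1
  · rw [hlift P g (𝟙 P) hg.1 (hcomp g hg.1 hg.2), Category.id_comp]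

end Groth.Agent.S8706
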