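import Groth.Statements.S8707
import Groth.Agent.ExtConst67.Etale
import Groth.Agent.SmoothUnib67.Basic
import Groth.Agent.GITLib.TorsorSch
import Groth.Agent.TwCLib.Structure
import Groth.Prelude.Def_ChGrp
import Mathlib.AlgebraicGeometry.Morphisms.FlatMono
import Mathlib.AlgebraicGeometry.Morphisms.QuasiFinite
-- import your own Groth.Agent.* helpers here

set_option autoImplicit false
universe u
open CategoryTheory CategoryTheory.Limits MonoidalCategory CartesianMonoidalCategory MonObj AlgebraicGeometry
open SGA7

namespace Groth.Agent.S8707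

/-- Let S be an irreducible scheme whose local rings are all geometrically unibranch, Z a group without
non-trivial elements of finite order, f : P → S a smooth morphism, G the constant P-group scheme Z_P
(through the isomorphism eG) and E a torsor under G over P for the fppf topology. Then E is trivial:
it has a section over P. (Taking f the identity of S gives the statement for torsors under Z_S on S
itself. The accompanying assertions identifying the category of such torsors with that of torsors
over the generic point are not stated.) -/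
theorem result (S : Scheme.{u}) [IrreducibleSpace ↥S]
    (hS : ∀ s : ↥S, CAlg2.IsGeomUnibranch ↑(S.presheaf.stalk s))
    (Z : Type u) [Group Z] (hZ : ∀ z : Z, IsOfFinOrder z → z = 1)
    (P : Scheme.{u}) (f : P ⟶ S) [Smooth f]
    (G : Over P) [GrpObj G] (eG : G ≅ TwC.const P Z) (hG : TwC.IsConstGrp Z G eG)
    (E : NonAbH1.TorsorSch G Scheme.fppfPrecoverage) :
    NonAbH1.HasSectionOver E.X (𝟙 P) := by
  open CategoryTheory.Limits Groth.Agent.ExtConst67 Groth.Agent.SmoothUnib67 in
  have hTor : NonAbH1.IsTorsorFor Scheme.fpqcPrecoverage E.act :=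
    ⟨E.isTorsor.1, by
      obtain ⟨R, hR, hs⟩ := E.isTorsor.2
      exact ⟨R, Scheme.fppfPrecoverage_le_fpqcPrecoverage P hR, hs⟩⟩
  haveI : IsZariskiLocalAtTarget (@Etale : MorphismProperty Scheme.{u}) :=
    HasRingHomProperty.instIsZariskiLocalAtTarget _ (Q := RingHom.Etale)
  haveI : Etale E.X.hom := Groth.Agent.GITLib.property_of_torsor @Etale hTor (etale_hom eG)
  have hX : LocIrred E.X.left := locIrred_of_etale_of_smooth hS f E.X.hom
  have hP : LocIrred P := locIrred_of_etale_of_smooth hS f (𝟙 P)
  haveI : LocallyQuasiFinite E.X.hom := Groth.Agent.EtStruct.locallyQuasiFinite_of_formallyUnramified _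
  -- local surjectivity
  have hsurj : Function.Surjective E.X.hom.base := fun p => by
    obtain ⟨R, hR, hs⟩ := E.isTorsor.2
    obtain ⟨J, W, q, rfl⟩ := R.exists_eq_ofArrows
    obtain ⟨hjs, -⟩ := (Scheme.ofArrows_mem_precoverage_iff (P := @Flat ⊓ @LocallyOfFinitePresentation)).1 hR
    obtain ⟨i, w, rfl⟩ := hjs p
    obtain ⟨σ, hσ⟩ := hs (q i) ⟨i⟩
    exact ⟨σ.base w, by rw [← Scheme.Hom.comp_apply, hσ]⟩
  -- translations
  let t : Z → (E.X ⟶ E.X) := fun n => lift (cpt eG E.X n) (𝟙 E.X) ≫ E.act.act
  have hta : ∀ ⦃T : Over P⦄ (a : T ⟶ E.X) (n : Z), a ≫ t n = lift (cpt eG T n) a ≫ E.act.act := fun T a n => by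
    rw [Groth.Agent.GITLib.comp_lift_act, Category.comp_id]
    congr 2
    simp [cpt, toUnit_unit]
  have htmul : ∀ n m : Z, t n ≫ t m = t (m * n) := fun n m => by
    rw [hta (t n) m]
    show lift (cpt eG E.X m) (lift (cpt eG E.X n) (𝟙 E.X) ≫ E.act.act) ≫ E.act.act = _
    rw [← AlgGrp.Action.lift_mul_act, cpt_mul hG]
  have hone : ∀ ⦃T : Over P⦄, cpt eG T 1 = 1 := fun T =>
    (eq_cpt eG (1 : T ⟶ G) 1 fun q => idx_one hG q).symm
  have ht1 : t 1 = 𝟙 E.X := by
    show lift (cpt eG E.X 1) (𝟙 E.X) ≫ E.act.act = 𝟙 E.X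
    rw [hone, AlgGrp.Action.lift_one_act]
  have htinv : ∀ n : Z, ∀ x, (t n⁻¹).left.base ((t n).left.base x) = x := fun n x => by
    rw [← Scheme.Hom.comp_apply, ← Over.comp_left, htmul, inv_mul_cancel, ht1]; rfl
  have htinv' : ∀ n : Z, ∀ x, (t n).left.base ((t n⁻¹).left.base x) = x := fun n x => by
    simpa using htinv n⁻¹ x
  have htmax : ∀ (n : Z) (x : E.X.left), IsMaxPt x → IsMaxPt ((t n).left.base x) := fun n x hx z hz => by
    have h1 := hx _ (by simpa [htinv] using hz.map (t n⁻¹).left.continuous)
    simpa [htinv'] using h1.map (t n).left.continuous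
  -- two points with the same image differ by a translation
  have hdiff : ∀ {T : Over P} [Subsingleton T.left] (a b : T ⟶ E.X) (q : T.left), ∃ n : Z, a ≫ t n = b := by
    intro T _ a b q
    obtain ⟨g, hg, -⟩ := Groth.Agent.GITLib.existsUnique_diff E.isTorsor.1 a b
    exact ⟨idx eG g q, by rw [hta, ← eq_of_idx eG g q, hg]⟩
  have htrans : ∀ x y : E.X.left, E.X.hom.base x = E.X.hom.base y → ∃ n : Z, (t n).left.base x = y := by
    intro x y hxy
    obtain ⟨z, hz1, hz2⟩ := Scheme.Pullback.exists_preimage_pullback (f := E.X.hom) (g := E.X.hom) x y hxy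
    let ρ := (pullback E.X.hom E.X.hom).fromSpecResidueField z
    let T : Over P := Over.mk (ρ ≫ pullback.fst E.X.hom E.X.hom ≫ E.X.hom)
    let a : T ⟶ E.X := Over.homMk (ρ ≫ pullback.fst E.X.hom E.X.hom) (Category.assoc _ _ _)
    let b : T ⟶ E.X := Over.homMk (ρ ≫ pullback.snd E.X.hom E.X.hom) (by
      show (ρ ≫ _) ≫ E.X.hom = _
      rw [Category.assoc, ← pullback.condition]
      rfl)
    haveI : Subsingleton T.left := inferInstanceAs (Subsingleton (PrimeSpectrum ((pullback E.X.hom E.X.hom).residueField z)))
    let q : T.left := IsLocalRing.closedPoint ((pullback E.X.hom E.X.hom).residueField z)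
    obtain ⟨n, hn⟩ := hdiff a b q
    refine ⟨n, ?_⟩
    have h1 : a.left.base q = x := by
      show (ρ ≫ pullback.fst _ _).base q = x
      rw [Scheme.Hom.comp_apply, Scheme.fromSpecResidueField_apply, hz1]
    have h2 : b.left.base q = y := by
      show (ρ ≫ pullback.snd _ _).base q = y
      rw [Scheme.Hom.comp_apply, Scheme.fromSpecResidueField_apply, hz2]
    rw [← h1, ← h2, ← hn]
    rfl
  -- maximal points of the torsor lie over maximal points
  have hmaxX : ∀ x : E.X.left, IsMaxPt x → IsMaxPt (E.X.hom.base x) := fun x hx z hz => by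
    obtain ⟨w, hw, rfl⟩ := Flat.generalizingMap E.X.hom hz
    exact (hx w hw).map E.X.hom.continuous
  have hmaxover : ∀ x : E.X.left, IsMaxPt (E.X.hom.base x) → IsMaxPt x := fun x hx z hz => by
    have h1 : E.X.hom.base z = E.X.hom.base x :=
      ((hx _ (hz.map E.X.hom.continuous)).antisymm (hz.map E.X.hom.continuous)).eq.symm
    have hd := E.X.hom.isDiscrete_preimage_singleton (E.X.hom.base x)
    haveI := hd.to_subtype
    have h3 : (⟨z, h1⟩ : E.X.hom.base ⁻¹' {E.X.hom.base x}) ⤳ ⟨x, rfl⟩ := subtype_specializes_iff _ _ |>.2 hz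
    rw [specializes_iff_eq] at h3
    rw [show z = x from congrArg Subtype.val h3]
  -- choices
  choose gp hgmax hgle using fun p : P => exists_max hP p
  choose lam hlam using hsurj
  let U : E.X.left.Opens := ⟨{x | lam (gp (E.X.hom.base x)) ⤳ x}, by
    rw [isOpen_iff_mem_nhds]
    intro x hx
    have hl : IsMaxPt (lam (gp (E.X.hom.base x))) := hmaxover _ (by rw [hlam]; exact hgmax _)
    refine Filter.mem_of_superset ((isOpen_spec hX hl).mem_nhds hx) fun y hy => ?_
    have h1 : gp (E.X.hom.base x) ⤳ E.X.hom.base y := hlam (gp (E.X.hom.base x)) ▸ hy.map E.X.hom.continuous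
    show lam (gp (E.X.hom.base y)) ⤳ y
    rw [← max_unique hP (hgmax _) h1 (hgmax _) (hgle _)]
    exact hy⟩
  -- the stabiliser of a chosen maximal point is trivial
  have hstab : ∀ (x : E.X.left) (n : Z), (t n).left.base x = x → n = 1 := by
    intro x
    let N : Submonoid Z :=
      { carrier := {n | (t n).left.base x = x}
        one_mem' := by
          show (t 1).left.base x = x
          rw [ht1]; rfl
        mul_mem' := fun {a b} ha hb => by
          show (t (a * b)).left.base x = x
          rw [← htmul, Over.comp_left, Scheme.Hom.comp_apply, hb, ha] }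
    let res := Spec.map (E.X.hom.residueFieldMap x)
    let W : Over P := Over.mk (pullback.fst res res ≫ E.X.left.fromSpecResidueField x ≫ E.X.hom)
    let a : W ⟶ E.X := Over.homMk (pullback.fst res res ≫ E.X.left.fromSpecResidueField x) (Category.assoc _ _ _)
    let b : W ⟶ E.X := Over.homMk (pullback.snd res res ≫ E.X.left.fromSpecResidueField x) (by
      show (_ ≫ _) ≫ E.X.hom = _
      rw [Category.assoc, ← E.X.hom.SpecMap_residueFieldMap_fromSpecResidueField x, ← reassoc_of% pullback.condition]
      show _ = pullback.fst res res ≫ E.X.left.fromSpecResidueField x ≫ E.X.hom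
      rw [← E.X.hom.SpecMap_residueFieldMap_fromSpecResidueField x])
    obtain ⟨g, hg, -⟩ := Groth.Agent.GITLib.existsUnique_diff E.isTorsor.1 a b
    haveI : CompactSpace W.left := inferInstanceAs (CompactSpace ↥(pullback res res))
    have hfin : (N : Set Z).Finite := by
      refine (isLocallyConstant_idx eG g).range_finite.subset fun n hn => ?_
      let T : Over P := Over.mk (E.X.left.fromSpecResidueField x ≫ E.X.hom)
      let i : T ⟶ E.X := Over.homMk (E.X.left.fromSpecResidueField x) rfl
      haveI : Subsingleton T.left := inferInstanceAs (Subsingleton (PrimeSpectrum (E.X.left.residueField x)))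
      let q : T.left := IsLocalRing.closedPoint (E.X.left.residueField x)
      obtain ⟨ψ, hψ⟩ := Groth.Agent.TwCLib.exists_residue_factor (K := E.X.left.residueField x) (i ≫ t n).left x (by
        show ((E.X.left.fromSpecResidueField x) ≫ (t n).left).base q = x
        rw [Scheme.Hom.comp_apply, Scheme.fromSpecResidueField_apply]
        exact hn)
      have hψr : Spec.map ψ ≫ res = res := by
        rw [← cancel_mono (P.fromSpecResidueField (E.X.hom.base x)), Category.assoc,
          E.X.hom.SpecMap_residueFieldMap_fromSpecResidueField, ← Category.assoc, hψ, Over.w]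
        rfl
      let l : T ⟶ W := Over.homMk (pullback.lift (𝟙 _) (Spec.map ψ) (by rw [Category.id_comp, hψr])) (by
        show pullback.lift _ _ _ ≫ pullback.fst res res ≫ _ = _
        rw [pullback.lift_fst_assoc, Category.id_comp]
        rfl)
      have hla : l ≫ a = i := Over.OverMorphism.ext (by
        show pullback.lift _ _ _ ≫ pullback.fst res res ≫ _ = _
        rw [pullback.lift_fst_assoc, Category.id_comp]
        rfl)
      have hlb : l ≫ b = i ≫ t n := Over.OverMorphism.ext (by
        show pullback.lift _ _ _ ≫ pullback.snd res res ≫ _ = _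
        rw [pullback.lift_snd_assoc]
        exact hψ)
      have hlg : l ≫ g = cpt eG T n :=
        (Groth.Agent.GITLib.existsUnique_diff E.isTorsor.1 i (i ≫ t n)).unique
          (by rw [← hla, ← Groth.Agent.GITLib.comp_lift_act, hg, hla, hlb]) (hta i n).symm
      exact ⟨l.left.base q, by rw [← idx_comp, hlg, idx_cpt]⟩
    exact fun n hn => hZ n (finite_powers.1 (hfin.subset (Submonoid.powers_le.2 (show n ∈ N from hn))))
  haveI : Mono (U.ι ≫ E.X.hom) := ⟨fun {W} a b hab => by
    let T : Over P := Over.mk (a ≫ U.ι ≫ E.X.hom)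
    let a' : T ⟶ E.X := Over.homMk (a ≫ U.ι) (Category.assoc _ _ _)
    let b' : T ⟶ E.X := Over.homMk (b ≫ U.ι) ((Category.assoc _ _ _).trans hab.symm)
    obtain ⟨g, hg, -⟩ := Groth.Agent.GITLib.existsUnique_diff E.isTorsor.1 a' b'
    have hg1 : g = 1 := eq_one_of_idx hG g fun w => by
      let T' : Over P := Over.mk (T.left.fromSpecResidueField w ≫ T.hom)
      let i : T' ⟶ T := Over.homMk (T.left.fromSpecResidueField w) rfl
      haveI : Subsingleton T'.left := inferInstanceAs (Subsingleton (PrimeSpectrum (T.left.residueField w)))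
      obtain ⟨w'⟩ : Nonempty T'.left := inferInstanceAs (Nonempty (PrimeSpectrum (T.left.residueField w)))
      have hw : i.left.base w' = w := T.left.fromSpecResidueField_apply w w'
      have h3 := congrArg (fun q => i ≫ q) hg
      rw [Groth.Agent.GITLib.comp_lift_act, eq_of_idx eG (i ≫ g) w', idx_comp, hw, ← hta] at h3
      have hn : (t (idx eG g w)).left.base (a'.left.base w) = b'.left.base w := by
        have h4 := congrArg (fun q : T' ⟶ E.X => q.left.base w') h3
        simp only [Over.comp_left, Scheme.Hom.comp_apply, hw] at h4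
        exact h4
      have hab' : E.X.hom.base (a'.left.base w) = E.X.hom.base (b'.left.base w) := by
        rw [← Scheme.Hom.comp_apply, ← Scheme.Hom.comp_apply, Over.w a', Over.w b']
      have ha0 : lam (gp (E.X.hom.base (a'.left.base w))) ⤳ a'.left.base w := (a.base w).2
      have hb0 : lam (gp (E.X.hom.base (b'.left.base w))) ⤳ b'.left.base w := (b.base w).2
      rw [← hab'] at hb0
      have hl : IsMaxPt (lam (gp (E.X.hom.base (a'.left.base w)))) := hmaxover _ (by rw [hlam]; exact hgmax _)
      refine hstab (lam (gp (E.X.hom.base (a'.left.base w)))) _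
        (max_unique hX (htmax _ _ hl) ?_ hl hb0)
      rw [← hn]
      exact ha0.map (t _).left.continuous
    rw [hg1, AlgGrp.Action.lift_one_act] at hg
    exact (cancel_mono U.ι).1 (congrArg CommaMorphism.left hg)⟩
  haveI : IsOpenImmersion (U.ι ≫ E.X.hom) := IsOpenImmersion.of_flat_of_mono _
  haveI : Epi (U.ι ≫ E.X.hom).base := by
    rw [TopCat.epi_iff_surjective]
    intro p
    obtain ⟨l', hl', hl'x⟩ := exists_max hX (lam p)
    have h1 : E.X.hom.base l' = gp p :=
      max_unique hP (hmaxX _ hl') (hlam p ▸ hl'x.map E.X.hom.continuous) (hgmax p) (hgle p)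
    obtain ⟨n, hn⟩ := htrans l' (lam (gp p)) (h1.trans (hlam _).symm)
    have himg : E.X.hom.base ((t n).left.base (lam p)) = p := by
      rw [← Scheme.Hom.comp_apply, Over.w (t n), hlam]
    refine ⟨⟨(t n).left.base (lam p), ?_⟩, himg⟩
    show lam (gp (E.X.hom.base ((t n).left.base (lam p)))) ⤳ (t n).left.base (lam p)
    rw [himg, ← hn]
    exact hl'x.map (t n).left.continuous
  haveI : IsIso (U.ι ≫ E.X.hom) := IsOpenImmersion.isIso _
  exact ⟨inv (U.ι ≫ E.X.hom) ≫ U.ι, by rw [Category.assoc, IsIso.inv_hom_id]⟩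

end Groth.Agent.S8707
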