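import Groth.Statements.S8708
import Groth.Agent.ExtConst67.Etale
import Groth.Agent.GrpScheme.IdSubgroup
import Groth.Agent.GrpScheme.ClosedImage
import Mathlib.AlgebraicGeometry.Morphisms.FlatMono
-- import your own Groth.Agent.* helpers here

set_option autoImplicit false
universe u
open CategoryTheory CategoryTheory.Limits MonoidalCategory CartesianMonoidalCategory MonObj AlgebraicGeometry
open SGA7

namespace Groth.Agent.S8708

/-- Let k be a field, Z a group without non-trivial elements of finite order, P a connected k-group
scheme locally of finite type, G the constant k-group scheme Z_k (through the isomorphism eG), and u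
: G → E, v : E → P homomorphisms of k-group schemes forming a sequence 1 → G → E → P → 1 which is
exact for the fppf topology. Then the extension is rigid and trivial: every automorphism of the
k-group scheme E compatible with u and v is the identity, and there is a homomorphism of k-group
schemes s : P → E with s followed by v equal to the identity of P. (For P not connected the
published statement reduces extensions of P to extensions of its group of connected components; that
part is not stated.) -/
theorem result (k : Type u) [Field k]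
    (Z : Type u) [Group Z] (hZ : ∀ z : Z, IsOfFinOrder z → z = 1)
    (P E G : Over (Spec (CommRingCat.of k))) [GrpObj P] [GrpObj E] [GrpObj G]
    [LocallyOfFiniteType P.hom] [ConnectedSpace ↥P.left]
    (eG : G ≅ TwC.const (Spec (CommRingCat.of k)) Z) (hG : TwC.IsConstGrp Z G eG)
    (u : G ⟶ E) (v : E ⟶ P) (hex : NonAbH1.IsExactSeq Scheme.fppfPrecoverage u v) :
    (∀ φ : E ≅ E, IsMonHom φ.hom → u ≫ φ.hom = u → φ.hom ≫ v = v → φ.hom = 𝟙 E) ∧
      ∃ s : P ⟶ E, IsMonHom s ∧ s ≫ v = 𝟙 P := by
  open CategoryTheory.Limits Groth.Agent.ExtConst67 Groth.Agent.GrpScheme in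
  haveI : IsMonHom u := hex.1
  haveI : IsMonHom v := hex.2.1
  haveI : Etale v.left := etale_of_exact eG hex
  haveI : Subsingleton (𝟙_ (Over (Spec (CommRingCat.of k)))).left :=
    inferInstanceAs (Subsingleton (PrimeSpectrum k))
  have toPt : ∀ {T : Over (Spec (CommRingCat.of k))} (t : T.left),
      (toUnit T).left.base t = IsLocalRing.closedPoint k := fun t =>
    Subsingleton.elim (α := PrimeSpectrum k) _ _
  have hcu : ∀ (T : Over (Spec (CommRingCat.of k))) (m : Z) (t : T.left),
      (cpt eG T m ≫ u).left.base t = (cpt eG (𝟙_ _) m ≫ u).left.base (IsLocalRing.closedPoint k) := fun T m t => by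
    have e : cpt eG T m = toUnit T ≫ cpt eG (𝟙_ _) m := by
      simp [cpt, toUnit_unit]
    rw [e, Category.assoc, Points.comp_apply, toPt]
  refine ⟨fun φ hφ hφu hφv => ?_, ?_⟩
  · obtain ⟨f, hf, -⟩ := exists_translate_left hex (𝟙 E) φ.hom (by rw [hφv, Category.id_comp])
    have key : ∀ ⦃T : Over (Spec (CommRingCat.of k))⦄ (a : T ⟶ E), a ≫ φ.hom = ((a ≫ f) ≫ u) * a := fun T a => by
      conv_lhs => rw [← hf]
      rw [MonObj.comp_mul, Category.comp_id, Category.assoc]
    have huniq : ∀ ⦃T : Over (Spec (CommRingCat.of k))⦄ (a : T ⟶ E) (g : T ⟶ G),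
        (g ≫ u) * a = a ≫ φ.hom → g = a ≫ f := fun T a g hg =>
      (exists_translate_left hex a (a ≫ φ.hom) (by rw [Category.assoc, hφv])).unique hg (key a).symm
    have hinv : IsInvariant u f := fun T a g => (huniq _ (a ≫ f) (by
      rw [MonObj.mul_comp a (g ≫ u) φ.hom, key a, Category.assoc g u φ.hom, hφu, _root_.mul_assoc])).symm
    have h1 : η[E] ≫ f = 1 := (huniq η[E] 1 (by
      rw [MonObj.one_comp, _root_.one_mul, IsMonHom.one_hom])).symm
    have hf1 : f = 1 := eq_one_of_idx hG f fun e => by
      rw [idx_const_of_connected hex hinv e (η[E].left.base (IsLocalRing.closedPoint k))]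
      erw [← idx_comp eG η[E] f (IsLocalRing.closedPoint k), h1]
      exact idx_one hG _
    rw [← hf, hf1, MonObj.one_comp, _root_.one_mul]
  · haveI : LocallyOfFiniteType E.hom := by
      rw [← Over.w v]; infer_instance
    haveI : IsLocallyNoetherian E.left := LocallyOfFiniteType.isLocallyNoetherian E.hom
    haveI : LocallyOfFiniteType (IdSubgroup.incl E).left := inferInstance
    haveI : LocallyOfFinitePresentation (IdSubgroup.incl E).left :=
      LocallyOfFinitePresentation.iff_locallyOfFiniteType.mpr inferInstance
    haveI : IsOpenImmersion (IdSubgroup.incl E).left := IsOpenImmersion.of_flat_of_mono _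
    let w : IdSubgroup.G₀ E ⟶ P := IdSubgroup.incl E ≫ v
    haveI hwe : Etale w.left := inferInstanceAs (Etale ((IdSubgroup.incl E).left ≫ v.left))
    haveI : CompactSpace (IdSubgroup.G₀ E).left := IdSubgroup.compactSpace_G₀ E
    haveI : IsSeparated P.hom := IdComponent.isSeparated P
    haveI : IsSeparated (IdSubgroup.G₀ E).hom := IdComponent.isSeparated _
    haveI : QuasiCompact w.left := by
      haveI : QuasiCompact (w.left ≫ P.hom) := by
        rw [Over.w w]; exact (quasiCompact_iff_compactSpace _).2 inferInstance
      exact QuasiCompact.of_comp w.left P.hom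
    haveI : LocallyOfFiniteType (IdSubgroup.G₀ E).hom := by
      rw [← Over.w w]; infer_instance
    haveI hsurj : Surjective w.left := ⟨fun p => by
      have hcl := ClosedImage.isClosed_range w
      have hop : IsOpen (Set.range w.left.base) := w.left.isOpenMap.isOpen_range
      have huniv := IsClopen.eq_univ ⟨hcl, hop⟩ ⟨_, η[IdSubgroup.G₀ E].left (IsLocalRing.closedPoint k), rfl⟩
      exact huniv.symm.subset (Set.mem_univ p)⟩
    -- the constants meeting the identity component form a finite set closed under powers
    let N : Submonoid Z :=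
      { carrier := {m | ∃ a : 𝟙_ _ ⟶ IdSubgroup.G₀ E, a ≫ IdSubgroup.incl E = cpt eG _ m ≫ u}
        one_mem' := ⟨1, by
          rw [MonObj.one_comp, ← (eq_cpt eG (1 : 𝟙_ _ ⟶ G) 1 fun t => idx_one hG t), MonObj.one_comp]⟩
        mul_mem' := by
          rintro m n ⟨a, ha⟩ ⟨b, hb⟩
          exact ⟨a * b, by rw [MonObj.mul_comp, ha, hb, ← MonObj.mul_comp, cpt_mul hG]⟩ }
    have hN : (N : Set Z).Finite := by
      let ow : P.left ⟶ P.left := 𝟙 _
      let K₀ := pullback w.left η[P].left
      haveI : CompactSpace ↥K₀ := QuasiCompact.compactSpace_of_compactSpace (pullback.snd w.left η[P].left)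
      let K : Over (Spec (CommRingCat.of k)) := Over.mk (pullback.fst w.left η[P].left ≫ (IdSubgroup.G₀ E).hom)
      let κ : K ⟶ IdSubgroup.G₀ E := Over.homMk (pullback.fst w.left η[P].left) rfl
      let ρ : K ⟶ 𝟙_ _ := Over.homMk (pullback.snd w.left η[P].left) (by
        show pullback.snd w.left η[P].left ≫ (𝟙_ (Over (Spec (CommRingCat.of k)))).hom = _
        rw [← Over.w η[P]]
        erw [← pullback.condition_assoc]
        rw [Over.w w]
        rfl)
      have hκ : κ ≫ w = 1 := by
        rw [Hom.one_def, toUnit_unique (toUnit K) ρ]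
        exact Over.OverMorphism.ext pullback.condition
      obtain ⟨g, hg, -⟩ := exists_translate hex (1 : K ⟶ E) (κ ≫ IdSubgroup.incl E) (by
        rw [MonObj.one_comp, Category.assoc]; exact hκ.symm)
      rw [_root_.one_mul] at hg
      haveI : CompactSpace K.left := inferInstanceAs (CompactSpace ↥K₀)
      refine (isLocallyConstant_idx eG g).range_finite.subset ?_
      rintro m ⟨a, ha⟩
      have haw : a ≫ w = η[P] := by
        show a ≫ IdSubgroup.incl E ≫ v = _
        rw [reassoc_of% ha, hex.2.2.1, MonObj.comp_one, Hom.one_def, toUnit_unit, Category.id_comp]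
      let l : 𝟙_ _ ⟶ K := Over.homMk
        (pullback.lift a.left (𝟙 _) (by rw [Category.id_comp]; exact congrArg CommaMorphism.left haw))
        (by
          show pullback.lift _ _ _ ≫ pullback.fst _ _ ≫ (IdSubgroup.G₀ E).hom = _
          rw [pullback.lift_fst_assoc, Over.w a])
      have hl : l ≫ κ = a := Over.OverMorphism.ext (pullback.lift_fst _ _ _)
      have hlg : l ≫ g = cpt eG _ m := by
        refine (exists_translate hex (1 : 𝟙_ _ ⟶ E) (a ≫ IdSubgroup.incl E) (by
          rw [MonObj.one_comp, Category.assoc]
          show (1 : 𝟙_ _ ⟶ P) = a ≫ w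
          rw [haw, Hom.one_def, toUnit_unit, Category.id_comp])).unique ?_ ?_
        · show 1 * ((l ≫ g) ≫ u) = _
          rw [_root_.one_mul, Category.assoc, hg, reassoc_of% hl]
        · show 1 * (cpt eG _ m ≫ u) = _
          rw [_root_.one_mul, ha]
      exact ⟨l.left.base (IsLocalRing.closedPoint k), by
        erw [← idx_comp eG l g (IsLocalRing.closedPoint k), hlg]
        exact idx_cpt eG _ _⟩
    have hN1 : ∀ m ∈ N, m = 1 := fun m hm =>
      hZ m (finite_powers.1 (hN.subset (Submonoid.powers_le.2 hm)))
    haveI : Mono w := ⟨fun {T} a b hab => by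
      obtain ⟨g, hg, -⟩ := exists_translate hex (a ≫ IdSubgroup.incl E) (b ≫ IdSubgroup.incl E) (by
        rw [Category.assoc, Category.assoc]; exact hab)
      have hg1 : g = 1 := eq_one_of_idx hG g fun t => by
        apply hN1
        have hgu : g ≫ u = (a⁻¹ * b) ≫ IdSubgroup.incl E := by
          rw [MonObj.mul_comp, GrpObj.inv_comp, ← hg, _root_.inv_mul_cancel_left]
        let h := Points.pointHom T t
        haveI : Subsingleton (Points.pointObj T t).left :=
          inferInstanceAs (Subsingleton (PrimeSpectrum (T.left.residueField t)))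
        obtain ⟨t'⟩ : Nonempty (Points.pointObj T t).left :=
          inferInstanceAs (Nonempty (PrimeSpectrum (T.left.residueField t)))
        have ht : h.left.base t' = t := Points.pointHom_apply T t t'
        have hm : cpt eG (Points.pointObj T t) (idx eG g t) = h ≫ g := by
          have := (eq_of_idx eG (h ≫ g) t').symm
          rwa [idx_comp, ht] at this
        obtain ⟨l, hl⟩ := IdSubgroup.exists_factor E (cpt eG (𝟙_ _) (idx eG g t) ≫ u) (by
          rintro _ ⟨p, rfl⟩
          rw [Subsingleton.elim (α := PrimeSpectrum k) p (IsLocalRing.closedPoint k),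
            ← hcu (Points.pointObj T t) _ t', hm, Category.assoc, hgu, ← Category.assoc, Points.comp_apply,
            ← IdSubgroup.range_incl]
          exact ⟨_, rfl⟩)
        exact ⟨l, hl⟩
      rw [hg1, MonObj.one_comp, _root_.mul_one] at hg
      exact (cancel_mono (IdSubgroup.incl E)).1 hg⟩
    haveI : Mono w.left := inferInstanceAs (Mono ((Over.forget _).map w))
    haveI : IsOpenImmersion w.left := IsOpenImmersion.of_flat_of_mono _
    haveI : Epi w.left.base := (TopCat.epi_iff_surjective _).2 hsurj.surj
    haveI : IsIso w.left := IsOpenImmersion.isIso _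
    haveI : IsIso ((Over.forget _).map w) := ‹IsIso w.left›
    haveI : IsIso w := isIso_of_reflects_iso w (Over.forget _)
    haveI : IsMonHom w := inferInstanceAs (IsMonHom (IdSubgroup.incl E ≫ v))
    refine ⟨inv w ≫ IdSubgroup.incl E, ?_, by rw [Category.assoc]; exact IsIso.inv_hom_id w⟩
    haveI : IsMonHom (asIso w).hom := ‹IsMonHom w›
    exact inferInstanceAs (IsMonHom ((asIso w).inv ≫ IdSubgroup.incl E))

end Groth.Agent.S8708
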