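import Groth.Statements.S8710
import Groth.Agent.CAlgLib.TorBalance

set_option autoImplicit false
universe u
open CategoryTheory CategoryTheory.Limits
open SGA7

open Groth.Agent.CAlgLib.TorBalance MonoidalCategory

namespace Groth.Agent.S8710

/-- The tensored sequence of a short exact sequence, with the functorial resolution. -/
theorem exact_parts {R : Type u} [CommRing R] {X Y Z : ModuleCat.{u} R} (a : X ⟶ Y) (b : Y ⟶ Z)
    (ha : Function.Injective a.hom) (hb : Function.Surjective b.hom)
    (hab : Function.Exact a.hom b.hom) (N : ModuleCat.{u} R) (i : ℕ) :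
    ((IsZero (((T R (i + 1)).obj Z).obj N) → IsZero (((T R i).obj Y).obj N) →
        IsZero (((T R i).obj X).obj N))) ∧
      (IsZero (((T R i).obj X).obj N) → IsZero (((T R i).obj Z).obj N) →
        IsZero (((T R i).obj Y).obj N)) := by
  have w : a ≫ b = 0 := by
    ext : 1
    exact hab.linearMap_comp_eq_zero
  let Sq : ShortComplex (ChainComplex (ModuleCat.{u} R) ℕ) :=
    ShortComplex.mk (((E R).map a).app N) (((E R).map b).app N) (by
      rw [← NatTrans.comp_app, ← Functor.map_comp, w]
      refine HomologicalComplex.hom_ext _ _ fun j => ?_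
      show (0 : X ⟶ Z) ▷ _ = 0
      exact MonoidalPreadditive.zero_whiskerRight)
  have hS : Sq.ShortExact := by
    refine HomologicalComplex.shortExact_of_degreewise_shortExact _ fun j => ?_
    haveI : Module.Flat R (((Q R).obj N).X j) :=
      inferInstanceAs (Module.Flat R ((F R).obj ((powK R j).obj N)))
    refine ModuleCat.shortComplex_shortExact _ ?_ ?_ ?_
    · exact rTensor_exact _ hab hb
    · exact Module.Flat.rTensor_preserves_injective_linearMap a.hom ha
    · exact LinearMap.rTensor_surjective _ hb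
  constructor
  · intro hZ hY
    exact (hS.homology_exact₁ (i + 1) i rfl).isZero_X₂ (hZ.eq_of_src _ _) (hY.eq_of_tgt _ _)
  · intro hX hZ
    exact (hS.homology_exact₂ i).isZero_X₂ (hX.eq_of_src _ _) (hZ.eq_of_tgt _ _)

/-- Let f : B' → B be a surjective map of R-algebras with B' flat over R, g : C → B a map of R-algebras,
P = B' ×_B C their fibre product (the equalizer of f ∘ pr₁ and g ∘ pr₂ in B' × C), S an R-algebra
and n a natural number. If Tor_i^R(C, S) = 0 for 0 < i < n and Tor_i^R(B, S) = 0 for 0 < i ≤ n, then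
Tor_i^R(P, S) = 0 for 0 < i < n. Here Tor_i^R(M, S) is the i-th left derived functor of M ⊗_R − on
R-modules, evaluated at S. (The published statement asks the vanishing for B only in degrees 0 < i <
n; the published proof and the corollary following it use it in degrees 0 < i ≤ n, which this row
assumes.) -/
theorem result (R B' B C S : Type u) [CommRing R] [CommRing B'] [CommRing B]
    [CommRing C] [CommRing S] [Algebra R B'] [Algebra R B] [Algebra R C] [Algebra R S]
    (f : B' →ₐ[R] B) (hf : Function.Surjective f) (g : C →ₐ[R] B) [Module.Flat R B'] (n : ℕ)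
    (hC : ∀ i : ℕ, 0 < i → i < n →
      IsZero (((Tor (ModuleCat.{u} R) i).obj (ModuleCat.of R C)).obj (ModuleCat.of R S)))
    (hB : ∀ i : ℕ, 0 < i → i ≤ n →
      IsZero (((Tor (ModuleCat.{u} R) i).obj (ModuleCat.of R B)).obj (ModuleCat.of R S))) :
    letI P := AlgHom.equalizer (f.comp (AlgHom.fst R B' C)) (g.comp (AlgHom.snd R B' C))
    ∀ i : ℕ, 0 < i → i < n →
      IsZero (((Tor (ModuleCat.{u} R) i).obj (ModuleCat.of R ↥P)).obj (ModuleCat.of R S)) := by
  intro i hi hin
  set P := AlgHom.equalizer (f.comp (AlgHom.fst R B' C)) (g.comp (AlgHom.snd R B' C)) with hP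
  have e : ∀ (M : ModuleCat.{u} R) (k : ℕ),
      IsZero (((Tor (ModuleCat.{u} R) k).obj M).obj (ModuleCat.of R S)) ↔
        IsZero (((T R k).obj M).obj (ModuleCat.of R S)) := fun M k =>
    Iso.isZero_iff (((torIso R k).app M).app (ModuleCat.of R S))
  let J := LinearMap.ker f.toLinearMap
  have hJ : IsZero (((T R i).obj (ModuleCat.of R J)).obj (ModuleCat.of R S)) := by
    refine (exact_parts (ModuleCat.ofHom J.subtype) (ModuleCat.ofHom f.toLinearMap)
      (Submodule.injective_subtype _) hf (LinearMap.exact_subtype_ker_map _) _ i).1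
      ((e _ _).mp (hB (i + 1) (by omega) (by omega))) ?_
    obtain ⟨k, rfl⟩ := Nat.exists_eq_succ_of_ne_zero hi.ne'
    haveI : Module.Flat R (ModuleCat.of R B') := ‹Module.Flat R B'›
    exact flat_tensor_homology_isZero R _ _ k
  rw [e]
  have hmem : ∀ x : J, ((x : B'), (0 : C)) ∈ P := fun x => by
    have hx : f (x : B') = 0 := x.2
    rw [hP, AlgHom.mem_equalizer]
    simp [hx]
  let a : J →ₗ[R] P :=
    { toFun := fun x => ⟨((x : B'), 0), hmem x⟩
      map_add' := fun x y => Subtype.ext (Prod.ext (by simp) (by simp))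
      map_smul' := fun r x => Subtype.ext (Prod.ext (by simp) (by simp)) }
  let b : P →ₗ[R] C := (LinearMap.snd R B' C).comp P.val.toLinearMap
  refine (exact_parts (ModuleCat.ofHom a) (ModuleCat.ofHom b) ?_ ?_ ?_ _ i).2 hJ
    ((e _ _).mp (hC i hi hin))
  · intro x y h
    exact Subtype.ext (congrArg (fun z : P => (z : B' × C).1) h)
  · intro c
    obtain ⟨x, hx⟩ := hf (g c)
    refine ⟨⟨(x, c), ?_⟩, rfl⟩
    rw [hP, AlgHom.mem_equalizer]
    simp [hx]
  · intro z
    constructor
    · intro hz
      have h2 : (z : B' × C).2 = 0 := hz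
      have h1 : f (z : B' × C).1 = g (z : B' × C).2 := by
        have := (AlgHom.mem_equalizer _ _ _).mp z.2
        simpa using this
      refine ⟨⟨(z : B' × C).1, ?_⟩, Subtype.ext (Prod.ext rfl h2.symm)⟩
      show f (z : B' × C).1 = 0
      rw [h1, h2, map_zero]
    · rintro ⟨x, rfl⟩
      rfl

end Groth.Agent.S8710
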