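import Groth.Statements.S8712
import Groth.Agent.ExtConst67.Exact
import Groth.Agent.ExtConst67.Etale
import Groth.Agent.ExtConst67.Section
import Groth.Agent.ExtConst67.BaseChange
import Groth.Agent.SecComp.FlatNbhd
import Groth.Agent.AlgSpCov.FppfDescentProps
import Groth.Agent.EtaleSite.TopInv
import Groth.Agent.DiagRig.FpqcLocal
-- import your own Groth.Agent.* helpers here

set_option autoImplicit false
universe u
open CategoryTheory CategoryTheory.Limits MonoidalCategory CartesianMonoidalCategory MonObj AlgebraicGeometry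
open SGA7

namespace Groth.Agent.S8712

section
open CategoryTheory.Limits

theorem isGeomReducedAt_of_smooth {k : Type u} [Field k] {X : Scheme.{u}}
    (f : X ⟶ Spec (CommRingCat.of k)) [Smooth f] (x : X) : FBase.IsGeomReducedAt f x := by
  intro K _ _ z' _
  haveI : Smooth (FBase.bcStr f K) := inferInstanceAs (Smooth (pullback.snd f _))
  haveI : AlgebraicGeometry.IsReduced (FBase.bc f K) :=
    Groth.Agent.AlgSpCov.isReduced_of_smooth (FBase.bcStr f K)
  infer_instance

theorem isOpen_sectionComponents {X S : Scheme.{u}} (F : X ⟶ S) [Smooth F] [QuasiSeparated F]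
    (s : S ⟶ X) (hs : s ≫ F = 𝟙 S) : IsOpen (MoreMor.sectionComponents F s) := by
  rw [isOpen_iff_mem_nhds]
  intro x hx
  obtain ⟨V, hV, hxV, -⟩ := exists_isAffineOpen_mem_and_subset (X := S) (x := F.base x) (U := ⊤) trivial
  haveI : IsAffine (V : Scheme.{u}) := hV
  have hc := (isPullback_morphismRestrict F V).flip
  let s' : (V : Scheme.{u}) ⟶ (F ⁻¹ᵁ V : X.Opens) := hc.lift (V.ι ≫ s) (𝟙 _)
    (by rw [Category.assoc, hs, Category.comp_id, Category.id_comp])
  have hs' : s' ≫ (F ∣_ V) = 𝟙 _ := hc.lift_snd _ _ _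
  have hs'g : s' ≫ (F ⁻¹ᵁ V).ι = V.ι ≫ s := hc.lift_fst _ _ _
  haveI : QuasiSeparated (F ∣_ V) := MorphismProperty.of_isPullback hc inferInstance
  haveI : Smooth (F ∣_ V) := MorphismProperty.of_isPullback hc inferInstance
  haveI : QuasiSeparatedSpace (F ⁻¹ᵁ V : X.Opens).toScheme :=
    quasiSeparatedSpace_of_quasiSeparated (F ∣_ V)
  have hpre := Groth.Agent.SecComp.preimage_sectionComponents F s hs (F ∣_ V) _ _ hc s' hs' hs'g
  let x₀ : (F ⁻¹ᵁ V : X.Opens).toScheme := ⟨x, hxV⟩
  have hx₀ : x₀ ∈ MoreMor.sectionComponents (F ∣_ V) s' := by rw [hpre]; exact hx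
  have hint : x₀ ∈ interior (MoreMor.sectionComponents (F ∣_ V) s') :=
    Groth.Agent.SecComp.component_subset_interior_lfp (F ∣_ V) s' hs' ((F ∣_ V).base x₀) (fun z _ => by
      have hsm : Smooth ((F ∣_ V).fiberToSpecResidueField ((F ∣_ V).base z)) :=
        inferInstanceAs (Smooth (pullback.snd (F ∣_ V) _))
      exact @isGeomReducedAt_of_smooth _ _ _ _ hsm _) hx₀
  rw [hpre, ← (F ⁻¹ᵁ V).ι.isOpenMap.preimage_interior_eq_interior_preimage (F ⁻¹ᵁ V).ι.continuous] at hint
  exact mem_interior_iff_mem_nhds.1 hint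

theorem map_left_fst {S S' : Scheme.{u}} (f : S' ⟶ S) {X Y : Over S} (h : X ⟶ Y) :
    ((Over.pullback f).map h).left ≫ pullback.fst Y.hom f = pullback.fst X.hom f ≫ h.left :=
  pullback.lift_fst _ _ _

theorem one_left_fst {S S' : Scheme.{u}} (f : S' ⟶ S) (E : Over S) [GrpObj E] :
    η[Red.bc f E].left ≫ pullback.fst E.hom f = f ≫ η[E].left := by
  have e : (Functor.LaxMonoidal.ε (Over.pullback f)).left ≫ pullback.snd (𝟙 S) f = 𝟙 S' :=
    Over.w (Functor.LaxMonoidal.ε (Over.pullback f))
  have h := pullback.condition (f := 𝟙 S) (g := f)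
  rw [Category.comp_id] at h
  show ((Functor.LaxMonoidal.ε (Over.pullback f)).left ≫ ((Over.pullback f).map η[E]).left) ≫ _ = _
  rw [Category.assoc, map_left_fst]
  show (Functor.LaxMonoidal.ε (Over.pullback f)).left ≫ pullback.fst (𝟙 S) f ≫ η[E].left = _
  rw [h, Category.assoc]
  erw [reassoc_of% e]
  rfl

noncomputable def constULift (S : Scheme.{u}) (Z : Type) : TwC.const S Z ≅ TwC.const S (ULift.{u} Z) where
  hom := TwC.constMap S (ULift.up : Z → ULift.{u} Z)
  inv := TwC.constMap S (ULift.down : ULift.{u} Z → Z)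
  hom_inv_id := Over.OverMorphism.ext (Sigma.hom_ext _ _ fun m => by simp [TwC.constMap])
  inv_hom_id := Over.OverMorphism.ext (Sigma.hom_ext _ _ fun m => by simp [TwC.constMap])

theorem isConstGrp_ulift {S : Scheme.{u}} {Z : Type} [Group Z] {G : Over S} [GrpObj G] {e : G ≅ TwC.const S Z}
    (he : TwC.IsConstGrp Z G e) : TwC.IsConstGrp (ULift.{u} Z) G (e ≪≫ constULift S Z) := by
  have h : ∀ m : ULift.{u} Z,
      TwC.pt S (ULift.{u} Z) m ≫ (e ≪≫ constULift S Z).inv = TwC.pt S Z m.down ≫ e.inv := fun m => by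
    show TwC.pt S (ULift.{u} Z) m ≫ (constULift S Z).inv ≫ e.inv = _
    rw [← Category.assoc]
    congr 1
    exact Over.OverMorphism.ext (by simp [TwC.pt, TwC.constMap, constULift])
  intro m n
  rw [h, h, h]
  exact he m.down n.down

end

/-- The vanishing of Ext¹(P, M) proved there: let S be a scheme, P a commutative S-group scheme which is
smooth and of finite presentation over S (smooth, quasi-compact, quasi-separated) with geometrically
connected fibres, M a commutative S-group scheme which is a twisted constant group with fibres Z^r: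
after a flat surjective base change S' → S which is an fpqc covering, Zariski-locally on S', M
becomes the constant group scheme of Z^r for some r (allowed to vary), and u : M → E, v : E → P
homomorphisms of commutative S-group schemes forming a sequence 1 → M → E → P → 1 exact for the fppf
topology. Then every homomorphism P → M is trivial, and the extension E of P by M is trivial: there
is a homomorphism s : P → E with s followed by v equal to the identity of P. -/
theorem result (S : Scheme.{u})
    (P E M : Over S) [GrpObj P] [GrpObj E] [GrpObj M] [IsCommMonObj P] [IsCommMonObj E] [IsCommMonObj M]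
    [Smooth P.hom] [QuasiCompact P.hom] [QuasiSeparated P.hom] [GeometricallyConnected P.hom]
    (hM : TwC.Locally S TwC.Topology.fpqc (fun S' f =>
      ∃ (r : ℕ) (e : Red.bc f M ≅ TwC.const S' (Multiplicative (Fin r → ℤ))),
        TwC.IsConstGrp (Multiplicative (Fin r → ℤ)) (Red.bc f M) e))
    (u : M ⟶ E) (v : E ⟶ P) (hex : NonAbH1.IsExactSeq Scheme.fppfPrecoverage u v) :
    (∀ φ : P ⟶ M, IsMonHom φ → φ = 1) ∧ ∃ s : P ⟶ E, IsMonHom s ∧ s ≫ v = 𝟙 P := by
  open CategoryTheory.Limits Groth.Agent.ExtConst67 Groth.Agent.SmoothUnib67 in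
  haveI : IsMonHom u := hex.1
  haveI : IsMonHom v := hex.2.1
  obtain ⟨S', f, hff, hfs, hcov, hloc⟩ := hM
  haveI := hff
  haveI := hfs
  haveI : IsZariskiLocalAtTarget (@Etale : MorphismProperty Scheme.{u}) :=
    HasRingHomProperty.instIsZariskiLocalAtTarget _ (Q := RingHom.Etale)
  haveI : MorphismProperty.DescendsAlong @IsSeparated (@Surjective ⊓ @Flat ⊓ @QuasiCompact : MorphismProperty Scheme.{u}) :=
    Groth.Agent.FpqcDesc.descendsAlong_isSeparated
  haveI hMe : Etale M.hom := Groth.Agent.DiagRig.of_fpqc_locally @Etale M.hom f hcov fun s' => by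
    obtain ⟨U, hU, r, e, he⟩ := hloc s'
    exact ⟨U, hU, etale_hom (e ≪≫ constULift _ _)⟩
  haveI hMs : IsSeparated M.hom := Groth.Agent.DiagRig.of_fpqc_locally @IsSeparated M.hom f hcov fun s' => by
    obtain ⟨U, hU, r, e, he⟩ := hloc s'
    exact ⟨U, hU, isSeparated_hom (e ≪≫ constULift _ _)⟩
  haveI hve : Etale v.left := property_of_exact hex @Etale hMe
  haveI hvs : IsSeparated v.left := property_of_exact hex @IsSeparated hMs
  refine ⟨fun φ hφ => ?_, ?_⟩
  · haveI := hφ
    refine eq_of_agree_section (fun s => (P.hom.isConnected_preimage_singleton s).isPreconnected) η[P] ?_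
    rw [IsMonHom.one_hom, MonObj.comp_one, Hom.one_def, toUnit_unit, Category.id_comp]
  haveI : Smooth E.hom := by rw [← Over.w v]; infer_instance
  haveI : QuasiSeparated E.hom := by rw [← Over.w v]; infer_instance
  have hE1 : η[E].left ≫ E.hom = 𝟙 S := Over.w η[E]
  let U : E.left.Opens := ⟨_, isOpen_sectionComponents E.hom η[E].left hE1⟩
  have hU1 : ∀ s : S, η[E].left.base s ∈ U := fun s => by
    have h1 : E.hom.base (η[E].left.base s) = s := congrArg (fun k : S ⟶ S => k.base s) hE1
    show η[E].left.base s ∈ connectedComponentIn (E.hom.base ⁻¹' {E.hom.base (η[E].left.base s)}) _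
    rw [h1]
    exact mem_connectedComponentIn h1
  -- comparison with a split extension over a field
  have hfield : ∀ s : S, ∃ (K : Type u) (_ : Field K) (ρ : Spec (CommRingCat.of K) ⟶ S),
      s ∈ Set.range ρ.base ∧
      (∀ {T : Scheme.{u}} (k : T ⟶ Spec (CommRingCat.of K)) (a b : T ⟶ E.left),
        a ≫ E.hom = k ≫ ρ → b ≫ E.hom = k ≫ ρ → (∀ t, a.base t ∈ U) → (∀ t, b.base t ∈ U) →
        a ≫ v.left = b ≫ v.left → a = b) ∧
      (∀ q : ↥(pullback P.hom ρ), ∃ x ∈ U, v.left.base x = (pullback.fst P.hom ρ).base q) := by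
    intro s
    obtain ⟨s', rfl⟩ := f.surjective s
    obtain ⟨W, hsW, r, e, he⟩ := hloc s'
    let g : (W : Scheme.{u}) ⟶ S := W.ι ≫ f
    let w₀ : (W : Scheme.{u}) := ⟨s', hsW⟩
    let ρ' := (W : Scheme.{u}).fromSpecResidueField w₀
    let κ := (W : Scheme.{u}).residueField w₀
    refine ⟨κ, inferInstance, ρ' ≫ g, ⟨IsLocalRing.closedPoint κ, ?_⟩, ?_⟩
    · show g.base (ρ'.base (IsLocalRing.closedPoint κ)) = f.base s'
      have : ρ'.base (IsLocalRing.closedPoint κ) = w₀ := Scheme.fromSpecResidueField_apply w₀ _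
      rw [this]
      rfl
    let Z := ULift.{u} (Multiplicative (Fin r → ℤ))
    have hZ : ∀ z : Z, IsOfFinOrder z → z = 1 := fun z hz => by
      obtain ⟨n, hn, hzn⟩ := isOfFinOrder_iff_pow_eq_one.1 hz
      apply ULift.down_injective
      apply Multiplicative.toAdd.injective
      funext i
      have h1 := congrFun (congrArg Multiplicative.toAdd (congrArg ULift.down hzn)) i
      rw [ULift.pow_down, ULift.one_down, toAdd_pow, toAdd_one, Pi.zero_apply, Pi.smul_apply, nsmul_eq_mul] at h1
      rw [ULift.one_down, toAdd_one, Pi.zero_apply]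
      exact (mul_eq_zero.1 h1).resolve_left (by exact_mod_cast hn.ne')
    let M'' := Red.bc ρ' (Red.bc g M)
    let E'' := Red.bc ρ' (Red.bc g E)
    let P'' := Red.bc ρ' (Red.bc g P)
    let v'' : E'' ⟶ P'' := (Over.pullback ρ').map ((Over.pullback g).map v)
    let e'' : M'' ≅ TwC.const (Spec κ) Z := (Over.pullback ρ').mapIso (e ≪≫ constULift _ _) ≪≫ constBC ρ' Z
    have hG'' : TwC.IsConstGrp Z M'' e'' := isConstGrp_bc ρ' (isConstGrp_ulift he)
    have hex'' := isExactSeq_pullback ρ' (isExactSeq_pullback g hex)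
    haveI : IsMonHom v'' := hex''.2.1
    haveI : Etale v''.left := etale_of_exact e'' hex''
    haveI : IsSeparated v''.left := isSeparated_of_exact e'' hex''
    haveI : Smooth (Red.bc g P).hom := inferInstanceAs (Smooth (pullback.snd P.hom g))
    haveI : Smooth P''.hom := inferInstanceAs (Smooth (pullback.snd (Red.bc g P).hom ρ'))
    haveI : GeometricallyConnected (Red.bc g P).hom :=
      inferInstanceAs (GeometricallyConnected (pullback.snd P.hom g))
    haveI : GeometricallyConnected P''.hom :=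
      inferInstanceAs (GeometricallyConnected (pullback.snd (Red.bc g P).hom ρ'))
    haveI : Subsingleton ↥(Spec κ) := inferInstanceAs (Subsingleton (PrimeSpectrum κ))
    haveI : Nonempty ↥(Spec κ) := inferInstanceAs (Nonempty (PrimeSpectrum κ))
    haveI : ConnectedSpace ↥P''.left := GeometricallyConnected.connectedSpace_of_subsingleton (f := P''.hom)
    have hκ : ∀ q : ↥(Spec κ), CAlg2.IsGeomUnibranch ((Spec κ).presheaf.stalk q) := fun q =>
      isGeomUnibranch_field q
    obtain ⟨σ, hσ, hσ1⟩ := exists_section hG'' hZ hex'' (locIrred_of_etale_of_smooth hκ P''.hom v''.left)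
      (locIrred_of_etale_of_smooth hκ P''.hom (𝟙 _))
    have hσl : σ.left ≫ v''.left = 𝟙 _ := congrArg CommaMorphism.left hσ
    haveI : IsClosedImmersion σ.left := by
      haveI : IsClosedImmersion (σ.left ≫ v''.left) := by rw [hσl]; infer_instance
      exact IsClosedImmersion.of_comp σ.left v''.left
    haveI : Etale (σ.left ≫ v''.left) := by rw [hσl]; infer_instance
    haveI : IsOpenImmersion σ.left := by
      haveI : Etale σ.left := Etale.of_comp σ.left v''.left
      exact IsOpenImmersion.of_flat_of_mono σ.left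
    let pE : E''.left ⟶ E.left := pullback.fst (Red.bc g E).hom ρ' ≫ pullback.fst E.hom g
    let pP : P''.left ⟶ P.left := pullback.fst (Red.bc g P).hom ρ' ≫ pullback.fst P.hom g
    have sqE : IsPullback pE E''.hom E.hom (ρ' ≫ g) :=
      (isPullback_left ρ' (Red.bc g E)).paste_horiz (isPullback_left g E)
    have sqP : IsPullback pP P''.hom P.hom (ρ' ≫ g) :=
      (isPullback_left ρ' (Red.bc g P)).paste_horiz (isPullback_left g P)
    have hvp : v''.left ≫ pP = pE ≫ v.left := by
      simp only [v'', pP, pE]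
      rw [← Category.assoc, map_left_fst, Category.assoc, map_left_fst, Category.assoc]
    have h1 : η[E''].left ≫ pE = (ρ' ≫ g) ≫ η[E].left := by
      simp only [pE, E'']
      rw [← Category.assoc, one_left_fst, Category.assoc, one_left_fst, Category.assoc]
      simp only [g, Category.assoc]
    let pt : ↥(Spec κ) := IsLocalRing.closedPoint κ
    have hcc := Groth.Agent.SecComp.mem_component_iff E.hom η[E].left hE1 E''.hom pE (ρ' ≫ g) sqE η[E''].left
      (Over.w η[E'']) h1 pt
    have hpt : ∀ z : E''.left, E''.hom.base z = pt := fun z => Subsingleton.elim _ _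
    have hmem : ∀ z : E''.left, pE.base z ∈ U ↔ z ∈ Set.range σ.left.base := by
      have hF : E''.hom.base ⁻¹' {pt} = Set.univ := Set.eq_univ_of_forall hpt
      have hη : η[E''].left.base pt ∈ Set.range σ.left.base := ⟨η[P''].left.base pt, by
        rw [← Scheme.Hom.comp_apply, ← Over.comp_left, hσ1]⟩
      have hcomp : Set.range σ.left.base = connectedComponent (η[E''].left.base pt) :=
        subset_antisymm ((isPreconnected_range σ.left.continuous).subset_connectedComponent hη)
          (IsClopen.connectedComponent_subset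
            ⟨σ.left.isClosedEmbedding.isClosed_range, σ.left.isOpenEmbedding.isOpen_range⟩ hη)
      intro z
      have hEz : E.hom.base (pE.base z) = (ρ' ≫ g).base pt := by
        rw [← Scheme.Hom.comp_apply, sqE.w, Scheme.Hom.comp_apply, hpt]
      have : pE.base z ∈ U ↔ z ∈ connectedComponentIn (E''.hom.base ⁻¹' {pt}) (η[E''].left.base pt) := by
        rw [hcc]
        show pE.base z ∈ connectedComponentIn (E.hom.base ⁻¹' {E.hom.base (pE.base z)}) _ ↔ _
        rw [hEz]
        exact ⟨fun h => ⟨h, hpt z⟩, fun h => h.1⟩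
      rw [this, hcomp, hF, connectedComponentIn_univ]
    refine ⟨fun {T} k a b ha hb haU hbU hab => ?_, fun q => ?_⟩
    · let a'' := sqE.lift a k ha
      let b'' := sqE.lift b k hb
      let la := IsOpenImmersion.lift σ.left a'' (by
        rintro _ ⟨t, rfl⟩
        rw [← hmem, ← Scheme.Hom.comp_apply, sqE.lift_fst]
        exact haU t)
      let lb := IsOpenImmersion.lift σ.left b'' (by
        rintro _ ⟨t, rfl⟩
        rw [← hmem, ← Scheme.Hom.comp_apply, sqE.lift_fst]
        exact hbU t)
      have hla : la ≫ σ.left = a'' := IsOpenImmersion.lift_fac _ _ _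
      have hlb : lb ≫ σ.left = b'' := IsOpenImmersion.lift_fac _ _ _
      have hv : a'' ≫ v''.left = b'' ≫ v''.left := by
        apply sqP.hom_ext
        · rw [Category.assoc, hvp, sqE.lift_fst_assoc, Category.assoc, hvp, sqE.lift_fst_assoc, hab]
        · rw [Category.assoc, Category.assoc, Over.w v'', sqE.lift_snd, sqE.lift_snd]
      rw [← hla, ← hlb, Category.assoc, Category.assoc, hσl, Category.comp_id, Category.comp_id] at hv
      rw [← sqE.lift_fst a k ha, ← sqE.lift_fst b k hb]
      show a'' ≫ pE = b'' ≫ pE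
      rw [← hla, ← hlb, hv]
    · obtain ⟨q', hq', -⟩ := Scheme.exists_preimage_of_isPullback sqP ((pullback.fst P.hom (ρ' ≫ g)).base q)
        ((pullback.snd P.hom (ρ' ≫ g)).base q) (by
          rw [← Scheme.Hom.comp_apply, pullback.condition, Scheme.Hom.comp_apply])
      refine ⟨pE.base (σ.left.base q'), (hmem _).2 ⟨q', rfl⟩, ?_⟩
      rw [← Scheme.Hom.comp_apply, ← hvp, ← Scheme.Hom.comp_apply, reassoc_of% hσl, hq']
  -- the component of the unit maps isomorphically to `P`
  let w : (U : Scheme.{u}) ⟶ P.left := U.ι ≫ v.left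
  haveI : UniversallyInjective w := by
    refine (UniversallyInjective.iff_diagonal w).2 ⟨fun z => ?_⟩
    obtain ⟨K, _, ρ, ⟨k₀, hk₀⟩, huniq, -⟩ := hfield ((pullback.fst w w ≫ U.ι ≫ E.hom).base z)
    obtain ⟨z'', hz, -⟩ := Scheme.Pullback.exists_preimage_pullback (f := pullback.fst w w ≫ U.ι ≫ E.hom)
      (g := ρ) z k₀ hk₀.symm
    let T := pullback (pullback.fst w w ≫ U.ι ≫ E.hom) ρ
    let κ : T ⟶ pullback w w := pullback.fst _ _
    have hab : (κ ≫ pullback.fst w w ≫ U.ι) ≫ v.left = (κ ≫ pullback.snd w w ≫ U.ι) ≫ v.left := by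
      simp only [Category.assoc]
      exact congrArg (κ ≫ ·) pullback.condition
    have hb : (κ ≫ pullback.snd w w ≫ U.ι) ≫ E.hom = pullback.snd (pullback.fst w w ≫ U.ι ≫ E.hom) ρ ≫ ρ := by
      calc (κ ≫ pullback.snd w w ≫ U.ι) ≫ E.hom = ((κ ≫ pullback.snd w w ≫ U.ι) ≫ v.left) ≫ P.hom := by
            rw [Category.assoc _ v.left, Over.w v]
        _ = (κ ≫ pullback.fst w w ≫ U.ι) ≫ E.hom := by rw [← hab, Category.assoc _ v.left, Over.w v]
        _ = _ := by simp only [Category.assoc]; exact pullback.condition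
    have h := huniq (pullback.snd (pullback.fst w w ≫ U.ι ≫ E.hom) ρ) _ _
      (by simp only [Category.assoc]; exact pullback.condition) hb
      (fun t => ((κ ≫ pullback.fst w w).base t).2) (fun t => ((κ ≫ pullback.snd w w).base t).2) hab
    refine ⟨(κ ≫ pullback.fst w w).base z'', ?_⟩
    have hκ : (κ ≫ pullback.fst w w) ≫ pullback.diagonal w = κ := by
      apply pullback.hom_ext
      · simp
      · simp only [Category.assoc, pullback.diagonal_snd, Category.comp_id]
        exact (cancel_mono U.ι).1 (by simpa only [Category.assoc] using h)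
    rw [← Scheme.Hom.comp_apply, hκ]
    exact hz
  haveI : Etale w := inferInstanceAs (Etale (U.ι ≫ v.left))
  haveI : IsOpenImmersion w := Groth.Agent.EtaleSite.isOpenImmersion_of_etale_of_universallyInjective w
  haveI : Epi w.base := by
    rw [TopCat.epi_iff_surjective]
    intro p
    obtain ⟨K, _, ρ, ⟨k₀, hk₀⟩, -, hsurj⟩ := hfield (P.hom.base p)
    obtain ⟨q, hq, -⟩ := Scheme.Pullback.exists_preimage_pullback (f := P.hom) (g := ρ) p k₀ hk₀.symm
    obtain ⟨x, hx, hxq⟩ := hsurj q
    exact ⟨⟨x, hx⟩, hxq.trans hq⟩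
  haveI : IsIso w := IsOpenImmersion.isIso _
  let σ : P ⟶ E := Over.homMk (inv w ≫ U.ι) (by
    rw [Category.assoc, IsIso.inv_comp_eq]
    show U.ι ≫ E.hom = (U.ι ≫ v.left) ≫ P.hom
    rw [Category.assoc, Over.w v])
  have hσ : σ ≫ v = 𝟙 P := Over.OverMorphism.ext (by
    show (inv w ≫ U.ι) ≫ v.left = 𝟙 _
    rw [Category.assoc]
    exact IsIso.inv_hom_id w)
  have hσ1 : η[P] ≫ σ = η[E] := Over.OverMorphism.ext (by
    show η[P].left ≫ inv w ≫ U.ι = η[E].left
    let l := IsOpenImmersion.lift U.ι η[E].left (by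
      rw [Scheme.Opens.range_ι]
      rintro _ ⟨s, rfl⟩
      exact hU1 s)
    have hl : l ≫ U.ι = η[E].left := IsOpenImmersion.lift_fac _ _ _
    have hlw : l ≫ w = η[P].left := by
      rw [← Category.assoc, hl, ← Over.comp_left, IsMonHom.one_hom]
    rw [← hlw, Category.assoc, IsIso.hom_inv_id_assoc, hl])
  refine ⟨σ, ⟨hσ1, ?_⟩, hσ⟩
  haveI : GeometricallyConnected (pullback.fst P.hom P.hom ≫ P.hom) := GeometricallyConnected.comp _ _
  obtain ⟨g, hg, -⟩ := exists_translate hex (μ[P] ≫ σ) ((σ ⊗ₘ σ) ≫ μ[E]) (by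
    rw [Category.assoc, hσ, Category.comp_id, Category.assoc, IsMonHom.mul_hom,
      MonoidalCategory.tensorHom_comp_tensorHom_assoc, hσ]
    simp)
  have hg1 : g = 1 := by
    haveI : GeometricallyConnected (P ⊗ P).hom :=
      inferInstanceAs (GeometricallyConnected (pullback.fst P.hom P.hom ≫ P.hom))
    refine eq_of_agree_section (fun s => (Scheme.Hom.isConnected_preimage_singleton (P ⊗ P).hom s).isPreconnected)
      (lift η[P] η[P]) ?_
    rw [MonObj.comp_one]
    refine (exists_translate hex (η[E] : 𝟙_ (Over S) ⟶ E) η[E] rfl).unique ?_ ?_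
    · have h0 := congrArg (fun q => lift η[P] η[P] ≫ q) hg
      have e1 : lift η[P] η[P] ≫ μ[P] ≫ σ = η[E] := by
        rw [← Category.assoc, ← Hom.mul_def]
        have : (η[P] : 𝟙_ (Over S) ⟶ P) = 1 := by rw [Hom.one_def, toUnit_unit, Category.id_comp]
        rw [this, _root_.one_mul, ← this, hσ1]
      have e2 : lift η[P] η[P] ≫ (σ ⊗ₘ σ) ≫ μ[E] = η[E] := by
        rw [lift_map_assoc, hσ1, ← Hom.mul_def]
        have : (η[E] : 𝟙_ (Over S) ⟶ E) = 1 := by rw [Hom.one_def, toUnit_unit, Category.id_comp]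
        rw [this, _root_.one_mul]
      rw [MonObj.comp_mul, e1, e2, ← Category.assoc] at h0
      exact h0
    · show η[E] * ((1 : 𝟙_ (Over S) ⟶ M) ≫ u) = η[E]
      rw [MonObj.one_comp, _root_.mul_one]
  rw [hg1, MonObj.one_comp, _root_.mul_one] at hg
  exact hg

end Groth.Agent.S8712
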