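import Groth.Statements.S8716
import Groth.Agent.ExtConst67.Basic
-- import your own Groth.Agent.* helpers here

set_option autoImplicit false
universe u
open CategoryTheory CategoryTheory.Limits MonoidalCategory CartesianMonoidalCategory MonObj AlgebraicGeometry
open SGA7

namespace Groth.Agent.S8716

/-- Let k be a field, Z a commutative group without non-trivial elements of finite order, P a
commutative k-group scheme of finite type (so that its group of connected components is a finite,
hence torsion, group), G the constant k-group scheme Z_k (through the isomorphism eG), and u : G →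
E, v : E → P homomorphisms of commutative k-group schemes forming a sequence 1 → G → E → P → 1 exact
for the fppf topology. Then the extension is rigid: every automorphism of the k-group scheme E
compatible with u and v is the identity. (The published statement assumes only P locally of finite
type with torsion component group; this row takes P of finite type, the case it names.) -/
theorem result (k : Type u) [Field k]
    (Z : Type u) [CommGroup Z] (hZ : ∀ z : Z, IsOfFinOrder z → z = 1)
    (P E G : Over (Spec (CommRingCat.of k))) [GrpObj P] [GrpObj E] [GrpObj G]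
    [IsCommMonObj P] [IsCommMonObj E]
    [LocallyOfFiniteType P.hom] [QuasiCompact P.hom]
    (eG : G ≅ TwC.const (Spec (CommRingCat.of k)) Z) (hG : TwC.IsConstGrp Z G eG)
    (u : G ⟶ E) (v : E ⟶ P) (hex : NonAbH1.IsExactSeq Scheme.fppfPrecoverage u v)
    (φ : E ≅ E) [IsMonHom φ.hom] (hφu : u ≫ φ.hom = u) (hφv : φ.hom ≫ v = v) :
    φ.hom = 𝟙 E := by
  open Groth.Agent.ExtConst67 in
  haveI : IsMonHom u := hex.1
  haveI : IsMonHom v := hex.2.1
  haveI : CompactSpace P.left := QuasiCompact.compactSpace_of_compactSpace P.hom
  obtain ⟨f, hf, -⟩ := exists_translate hex (𝟙 E) φ.hom (by rw [hφv, Category.id_comp])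
  -- `φ x = x * u (f x)`
  have key : ∀ ⦃T : Over (Spec (CommRingCat.of k))⦄ (a : T ⟶ E), a ≫ φ.hom = a * ((a ≫ f) ≫ u) := fun T a => by
    conv_lhs => rw [← hf]
    rw [MonObj.comp_mul, Category.comp_id, Category.assoc]
  have huniq : ∀ ⦃T : Over (Spec (CommRingCat.of k))⦄ (a : T ⟶ E) (g : T ⟶ G),
      a * (g ≫ u) = a ≫ φ.hom → g = a ≫ f := fun T a g hg =>
    (exists_translate hex a (a ≫ φ.hom) (by rw [Category.assoc, hφv])).unique hg (key a).symm
  have hmul : ∀ ⦃T : Over (Spec (CommRingCat.of k))⦄ (a b : T ⟶ E), (a * b) ≫ f = (a ≫ f) * (b ≫ f) :=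
    fun T a b => (huniq (a * b) ((a ≫ f) * (b ≫ f)) (by
      rw [MonObj.mul_comp (a ≫ f) (b ≫ f) u, MonObj.mul_comp a b φ.hom, key a, key b, _root_.mul_mul_mul_comm])).symm
  have hu1 : u ≫ f = 1 := (huniq u 1 (by rw [MonObj.one_comp, _root_.mul_one, hφu])).symm
  have hinv : IsInvariant u f := fun T a g => by
    rw [hmul, Category.assoc g u f, hu1, MonObj.comp_one, _root_.mul_one]
  have hfin := finite_range_of_compact (eG := eG) hex hinv
  have hf1 : f = 1 := eq_one_of_idx hG f fun t => by
    let T : Over (Spec (CommRingCat.of k)) := Over.mk (E.left.fromSpecResidueField t ≫ E.hom)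
    let a : T ⟶ E := Over.homMk (E.left.fromSpecResidueField t) rfl
    obtain ⟨t'⟩ : Nonempty T.left := inferInstanceAs (Nonempty (PrimeSpectrum (E.left.residueField t)))
    have ht : a.left.base t' = t := E.left.fromSpecResidueField_apply t t'
    rw [← ht, ← idx_comp]
    have hpow : ∀ n : ℕ, (a ^ n) ≫ f = (a ≫ f) ^ n := fun n => by
      induction n with
      | zero =>
        rw [_root_.pow_zero, _root_.pow_zero]
        have h1 := hmul (1 : T ⟶ E) 1
        rw [_root_.mul_one] at h1
        exact left_eq_mul.1 h1
      | succ n ih => rw [_root_.pow_succ, _root_.pow_succ, hmul, ih]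
    refine hZ _ (finite_powers.1 (hfin.subset ?_))
    rintro _ ⟨n, rfl⟩
    refine ⟨(a ^ n).left.base t', ?_⟩
    show idx eG f ((a ^ n).left.base t') = idx eG (a ≫ f) t' ^ n
    rw [← idx_comp, hpow, idx_pow hG]
  rw [← hf, hf1, MonObj.one_comp, _root_.mul_one]

end Groth.Agent.S8716
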