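import Groth.Statements.S8717
import Groth.Agent.ExtConst67.Glue
import Groth.Agent.ExtConst67.BaseChange
-- import your own Groth.Agent.* helpers here

set_option autoImplicit false
universe u
open CategoryTheory CategoryTheory.Limits MonoidalCategory CartesianMonoidalCategory MonObj AlgebraicGeometry
open SGA7

namespace Groth.Agent.S8717

/-- Let S be an irreducible scheme all of whose local rings are geometrically unibranch, ξ its generic
point and i : Spec κ(ξ) → S the canonical morphism, Z a group without non-trivial elements of finite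
order, G the constant S-group scheme Z_S (through eG), P a smooth S-group scheme, and u' : G_η → E',
v' : E' → P_η homomorphisms of group schemes over κ(ξ) forming a sequence 1 → G_η → E' → P_η → 1
exact for the fppf topology (G_η = G ×_S Spec κ(ξ), P_η likewise). Then the extension comes from S:
there are an S-group scheme E, homomorphisms u : G → E, v : E → P forming a sequence exact for the
fppf topology, and an isomorphism of group schemes E_η ≅ E' carrying u_η to u' and v_η to v'. (The
published statement asserts that E ↦ E_η is an equivalence of categories of extensions; only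
essential surjectivity is stated.) -/
theorem result (S : Scheme.{u}) [IrreducibleSpace ↥S]
    (hS : ∀ s : ↥S, CAlg2.IsGeomUnibranch ↑(S.presheaf.stalk s))
    (ξ : ↥S) (hξ : IsGenericPoint ξ (Set.univ : Set ↥S))
    (Z : Type u) [Group Z] (hZ : ∀ z : Z, IsOfFinOrder z → z = 1)
    (G P : Over S) [GrpObj G] [GrpObj P] (eG : G ≅ TwC.const S Z) (hG : TwC.IsConstGrp Z G eG) [Smooth P.hom]
    (E' : Over (Spec (S.residueField ξ))) [GrpObj E']
    (u' : Red.bc (S.fromSpecResidueField ξ) G ⟶ E') (v' : E' ⟶ Red.bc (S.fromSpecResidueField ξ) P)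
    (hex' : NonAbH1.IsExactSeq Scheme.fppfPrecoverage u' v') :
    ∃ (E : Over S) (_ : GrpObj E) (u : G ⟶ E) (v : E ⟶ P)
      (φ : Red.bc (S.fromSpecResidueField ξ) E ≅ E'),
      NonAbH1.IsExactSeq Scheme.fppfPrecoverage u v ∧ IsMonHom φ.hom ∧
        (Over.pullback (S.fromSpecResidueField ξ)).map u ≫ φ.hom = u' ∧
        φ.hom ≫ v' = (Over.pullback (S.fromSpecResidueField ξ)).map v := by
  open CategoryTheory.Limits Groth.Agent.ExtConst67 Groth.Agent.SmoothUnib67 in
  let r := S.fromSpecResidueField ξ
  let eG' : Red.bc r G ≅ TwC.const (Spec (S.residueField ξ)) Z :=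
    (Over.pullback r).mapIso eG ≪≫ constBC r Z
  have hG' : TwC.IsConstGrp Z (Red.bc r G) eG' := isConstGrp_bc r hG
  haveI : Etale G.hom := etale_hom eG
  haveI : Smooth G.hom := inferInstance
  haveI : Smooth (Red.bc r P).hom := inferInstanceAs (Smooth (pullback.snd P.hom r))
  haveI : Etale v'.left := etale_of_exact eG' hex'
  have hκ : ∀ q : ↥(Spec (S.residueField ξ)), CAlg2.IsGeomUnibranch ((Spec (S.residueField ξ)).presheaf.stalk q) :=
    fun q => isGeomUnibranch_field q
  obtain ⟨σ, hσ, hσ1⟩ := exists_section hG' hZ hex' (locIrred_of_etale_of_smooth hκ (Red.bc r P).hom v'.left)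
    (locIrred_of_etale_of_smooth hκ (Red.bc r P).hom (𝟙 _))
  exact exists_glue u' σ v' hG (fun T hT => by
    haveI := hT
    exact bijective_restrict hG hξ T (locIrred_of_etale_of_smooth hS T.hom (𝟙 _))) hex' hσ hσ1

end Groth.Agent.S8717
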