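import Groth.Statements.S8718
import Groth.Agent.ExtFppf.LocSplit

set_option autoImplicit false
universe u
open CategoryTheory CategoryTheory.Limits MonoidalCategory CartesianMonoidalCategory MonObj AlgebraicGeometry
open SGA7

namespace Groth.Agent.S8718

open Groth.Agent.ExtFppf

/-- For group schemes over a base scheme S (the representable case on the fppf site): let P and G be
S-group schemes with G commutative, and u : G → E, v : E → P homomorphisms of S-group schemes
forming a sequence 1 → G → E → P → 1 exact for the fppf topology. Suppose every morphism of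
S-schemes P ×_S G → G whose restrictions to P × e_G and to e_P × G are trivial is trivial. Then u(G)
is central in E: for all points g of G and x of E with values in any S-scheme, u(g) x = x u(g). If
moreover P is commutative and every morphism of S-schemes P ×_S P → G trivial on P × e_P and on e_P
× P is trivial, then E is commutative. (The published statement is for sheaves of groups on an
arbitrary topos; this row is its case of representable sheaves on the fppf site of S. Morphisms to G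
form a group; trivial means equal to its unit.) -/
theorem result (S : Scheme.{u})
    (P G E : Over S) [GrpObj P] [GrpObj G] [GrpObj E] [IsCommMonObj G]
    (u : G ⟶ E) (v : E ⟶ P) (hex : NonAbH1.IsExactSeq Scheme.fppfPrecoverage u v)
    (hPG : ∀ f : P ⊗ G ⟶ G, lift (𝟙 P) (toUnit P ≫ η[G]) ≫ f = 1 → lift (toUnit G ≫ η[P]) (𝟙 G) ≫ f = 1 → f = 1) :
    (∀ (T : Over S) (g : T ⟶ G) (x : T ⟶ E), (g ≫ u) * x = x * (g ≫ u)) ∧
      (IsCommMonObj P →
        (∀ f : P ⊗ P ⟶ G, lift (𝟙 P) (toUnit P ≫ η[P]) ≫ f = 1 → lift (toUnit P ≫ η[P]) (𝟙 P) ≫ f = 1 → f = 1) →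
          IsCommMonObj E) := by
  haveI := hex.1
  haveI := hex.2.1
  have hsp := locSplit hex
  obtain ⟨c, hc⟩ := exists_of_comp_v hex
    (fst E G * (snd E G ≫ u) * (fst E G)⁻¹ * (snd E G ≫ u)⁻¹) (by
      simp only [MonObj.mul_comp, GrpObj.inv_comp, comp_v hex]
      simp)
  have hcp : ∀ (T : Over S) (z : T ⟶ E ⊗ G), (z ≫ c) ≫ u =
      (z ≫ fst E G) * ((z ≫ snd E G) ≫ u) * (z ≫ fst E G)⁻¹ * ((z ≫ snd E G) ≫ u)⁻¹ := fun T z => by
    rw [Category.assoc, hc]
    simp only [MonObj.comp_mul, GrpObj.comp_inv, Category.assoc]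
  obtain ⟨f, hf⟩ := (hsp.whiskerRight G).exists_desc c fun T a b e => by
    have e1 := congrArg (fun q => q ≫ fst P G) e
    have e2 := congrArg (fun q => q ≫ snd P G) e
    simp only [Category.assoc, whiskerRight_fst, whiskerRight_snd] at e1 e2
    obtain ⟨g, hg⟩ := exists_translate hex (a := a ≫ fst E G) (b := b ≫ fst E G) (by
      rw [Category.assoc, Category.assoc, e1])
    refine injective_u hex ?_
    rw [hcp, hcp, ← e2, ← hg]
    have hcomm : (g ≫ u) * ((a ≫ snd E G) ≫ u) = ((a ≫ snd E G) ≫ u) * (g ≫ u) := by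
      rw [← MonObj.mul_comp, ← MonObj.mul_comp, mul_comm]
    generalize a ≫ fst E G = X, (a ≫ snd E G) ≫ u = Y, g ≫ u = H at hcomm ⊢
    symm
    calc X * H * Y * (X * H)⁻¹ * Y⁻¹ = X * (H * Y) * H⁻¹ * X⁻¹ * Y⁻¹ := by group
      _ = X * (Y * H) * H⁻¹ * X⁻¹ * Y⁻¹ := by rw [hcomm]
      _ = X * Y * X⁻¹ * Y⁻¹ := by group
  have hf1 : f = 1 := by
    refine hPG f ?_ ?_
    · refine hsp.cancel ?_
      have e : v ≫ lift (𝟙 P) (toUnit P ≫ η[G]) = lift (𝟙 E) (toUnit E ≫ η[G]) ≫ (v ▷ G) := by
        apply CartesianMonoidalCategory.hom_ext <;> simp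
      rw [← Category.assoc, e, Category.assoc, hf, MonObj.comp_one]
      refine injective_u hex ?_
      rw [hcp, MonObj.one_comp, lift_fst, lift_snd, ← Hom.one_def, MonObj.one_comp]
      group
    · have e : lift (toUnit G ≫ η[P]) (𝟙 G) = lift (toUnit G ≫ η[E]) (𝟙 G) ≫ (v ▷ G) := by
        apply CartesianMonoidalCategory.hom_ext
        · simp only [Category.assoc, whiskerRight_fst, lift_fst, lift_fst_assoc]
          rw [IsMonHom.one_hom]
        · simp
      rw [e, Category.assoc, hf]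
      refine injective_u hex ?_
      rw [hcp, MonObj.one_comp, lift_fst, lift_snd, ← Hom.one_def]
      group
  have hc1 : c = 1 := by rw [← hf, hf1, MonObj.comp_one]
  have hcen : ∀ (T : Over S) (g : T ⟶ G) (x : T ⟶ E), (g ≫ u) * x = x * (g ≫ u) := by
    intro T g x
    have h := hcp T (lift x g)
    rw [hc1, MonObj.comp_one, MonObj.one_comp, lift_fst, lift_snd] at h
    generalize g ≫ u = Y at h ⊢
    calc Y * x = 1 * (Y * x) := (_root_.one_mul _).symm
      _ = x * Y * x⁻¹ * Y⁻¹ * (Y * x) := by rw [← h]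
      _ = x * Y := by group
  refine ⟨hcen, fun hP hPP => ?_⟩
  obtain ⟨d, hd⟩ := exists_of_comp_v hex (fst E E * snd E E * (fst E E)⁻¹ * (snd E E)⁻¹) (by
    simp only [MonObj.mul_comp, GrpObj.inv_comp]
    simp [mul_comm (fst E E ≫ v) (snd E E ≫ v)])
  have hdp : ∀ (T : Over S) (z : T ⟶ E ⊗ E), (z ≫ d) ≫ u =
      (z ≫ fst E E) * (z ≫ snd E E) * (z ≫ fst E E)⁻¹ * (z ≫ snd E E)⁻¹ := fun T z => by
    rw [Category.assoc, hd]
    simp only [MonObj.comp_mul, GrpObj.comp_inv]
  obtain ⟨f, hf⟩ := (hsp.tensor hsp).exists_desc d fun T a b e => by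
    have e1 := congrArg (fun q => q ≫ fst P P) e
    have e2 := congrArg (fun q => q ≫ snd P P) e
    simp only [Category.assoc, tensorHom_fst, tensorHom_snd] at e1 e2
    obtain ⟨g, hg⟩ := exists_translate hex (a := a ≫ fst E E) (b := b ≫ fst E E) (by
      rw [Category.assoc, Category.assoc, e1])
    obtain ⟨g', hg'⟩ := exists_translate hex (a := a ≫ snd E E) (b := b ≫ snd E E) (by
      rw [Category.assoc, Category.assoc, e2])
    refine injective_u hex ?_
    rw [hdp, hdp, ← hg, ← hg']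
    have h1 := hcen T g
    have h2 := hcen T g'
    generalize a ≫ fst E E = X, a ≫ snd E E = Y, g ≫ u = H, g' ≫ u = H' at h1 h2 ⊢
    symm
    calc X * H * (Y * H') * (X * H)⁻¹ * (Y * H')⁻¹
        = X * ((H * Y) * H') * H⁻¹ * X⁻¹ * H'⁻¹ * Y⁻¹ := by group
      _ = X * ((Y * H) * H') * H⁻¹ * X⁻¹ * H'⁻¹ * Y⁻¹ := by rw [h1]
      _ = X * Y * ((H * H') * H⁻¹) * X⁻¹ * H'⁻¹ * Y⁻¹ := by group
      _ = X * Y * ((H' * H) * H⁻¹) * X⁻¹ * H'⁻¹ * Y⁻¹ := by rw [h1 H']
      _ = X * Y * (H' * X⁻¹) * H'⁻¹ * Y⁻¹ := by group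
      _ = X * Y * (X⁻¹ * H') * H'⁻¹ * Y⁻¹ := by rw [h2]
      _ = X * Y * X⁻¹ * Y⁻¹ := by group
  have hf1 : f = 1 := by
    refine hPP f ?_ ?_
    · refine hsp.cancel ?_
      have e : v ≫ lift (𝟙 P) (toUnit P ≫ η[P]) = lift (𝟙 E) (toUnit E ≫ η[E]) ≫ (v ⊗ₘ v) := by
        apply CartesianMonoidalCategory.hom_ext
        · simp
        · simp only [Category.assoc, tensorHom_snd, lift_snd, lift_snd_assoc, IsMonHom.one_hom]
          rw [comp_toUnit_assoc]
      rw [← Category.assoc, e, Category.assoc, hf, MonObj.comp_one]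
      refine injective_u hex ?_
      rw [hdp, MonObj.one_comp, lift_fst, lift_snd, ← Hom.one_def]
      group
    · refine hsp.cancel ?_
      have e : v ≫ lift (toUnit P ≫ η[P]) (𝟙 P) = lift (toUnit E ≫ η[E]) (𝟙 E) ≫ (v ⊗ₘ v) := by
        apply CartesianMonoidalCategory.hom_ext
        · simp only [Category.assoc, tensorHom_fst, lift_fst, lift_fst_assoc, IsMonHom.one_hom]
          rw [comp_toUnit_assoc]
        · simp
      rw [← Category.assoc, e, Category.assoc, hf, MonObj.comp_one]
      refine injective_u hex ?_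
      rw [hdp, MonObj.one_comp, lift_fst, lift_snd, ← Hom.one_def]
      group
  have hd1 : d = 1 := by rw [← hf, hf1, MonObj.comp_one]
  have hcommE : fst E E * snd E E = snd E E * fst E E := by
    have h := hdp _ (𝟙 (E ⊗ E))
    rw [hd1, MonObj.comp_one, MonObj.one_comp, Category.id_comp, Category.id_comp] at h
    generalize fst E E = X, snd E E = Y at h ⊢
    calc X * Y = X * Y * X⁻¹ * Y⁻¹ * (Y * X) := by group
      _ = Y * X := by rw [← h, _root_.one_mul]
  refine ⟨?_⟩
  have e : (β_ E E).hom ≫ (fst E E * snd E E) = fst E E * snd E E := by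
    rw [MonObj.comp_mul, braiding_hom_fst, braiding_hom_snd, hcommE]
  have m : μ[E] = fst E E * snd E E := by rw [Hom.mul_def, lift_fst_snd, Category.id_comp]
  rw [m]; exact e

end Groth.Agent.S8718
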