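import Groth.Statements.S8719
import Mathlib.RingTheory.MvPowerSeries.Inverse
import Mathlib.RingTheory.MvPowerSeries.Derivative
import Mathlib.LinearAlgebra.Matrix.NonsingularInverse

set_option autoImplicit false
universe u
open VanCyc

namespace Groth.Agent.S8719

open MvPowerSeries in
lemma exists_decomp {σ : Type*} [Fintype σ] {R : Type*} [CommRing R] (h : MvPowerSeries σ R)
    (h0 : constantCoeff h = 0) :
    ∃ c : σ → MvPowerSeries σ R, (∀ i, constantCoeff (c i) = coeff (Finsupp.single i 1) h) ∧
      h = ∑ i, X i * c i := by
  classical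
  let r : σ → ℕ := fun i => (Fintype.equivFin σ i).1
  have hr : Function.Injective r := fun a b e => (Fintype.equivFin σ).injective (Fin.ext e)
  let c : σ → MvPowerSeries σ R := fun i e =>
    if (∀ j, r j < r i → e j = 0) then coeff (e + Finsupp.single i 1) h else 0
  have hc : ∀ i e, coeff e (c i) =
      if (∀ j, r j < r i → e j = 0) then coeff (e + Finsupp.single i 1) h else 0 := fun i e => rfl
  refine ⟨c, fun i => ?_, ?_⟩
  · rw [← coeff_zero_eq_constantCoeff_apply, hc]; simp
  · ext d
    rw [map_sum]
    simp only [X, coeff_monomial_mul, one_mul, hc]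
    by_cases hd : d = 0
    · subst hd
      rw [coeff_zero_eq_constantCoeff_apply, h0]
      exact (Finset.sum_eq_zero fun i _ => by simp).symm
    · obtain ⟨i, hi, hmin⟩ := d.support.exists_min_image r (Finsupp.support_nonempty_iff.2 hd)
      rw [Finsupp.mem_support_iff] at hi
      rw [Finset.sum_eq_single i ?_ (by simp)]
      · have hle : Finsupp.single i 1 ≤ d := Finsupp.single_le_iff.2 (Nat.one_le_iff_ne_zero.2 hi)
        rw [if_pos hle, if_pos, tsub_add_cancel_of_le hle]
        intro j hj
        have : d j = 0 := by
          by_contra hdj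
          exact absurd (hmin j (Finsupp.mem_support_iff.2 hdj)) (not_le.2 hj)
        simp [this]
      · intro k _ hk
        by_cases hle : Finsupp.single k 1 ≤ d
        · rw [if_pos hle, if_neg]
          intro hall
          have h1 : 1 ≤ d k := Finsupp.single_le_iff.1 hle
          have hlt : r i < r k := lt_of_le_of_ne (hmin k (Finsupp.mem_support_iff.2 (by omega)))
            (fun e => hk (hr e).symm)
          have h2 := hall i hlt
          simp [Finsupp.single_eq_of_ne (Ne.symm hk)] at h2
          exact hi h2
        · rw [if_neg hle]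

open MvPowerSeries in
lemma mem_maximalIdeal_iff {σ : Type*} {k : Type*} [Field k] (h : MvPowerSeries σ k) :
    h ∈ IsLocalRing.maximalIdeal (MvPowerSeries σ k) ↔ constantCoeff h = 0 := by
  rw [IsLocalRing.mem_maximalIdeal, mem_nonunits_iff, isUnit_iff_constantCoeff, isUnit_iff_ne_zero,
    not_not]

lemma polarMatrix_quadPart {k : Type*} [CommRing k] {N : ℕ} (f : MvPowerSeries (Fin N) k) (i j : Fin N) :
    VanCyc.polarMatrix (VanCyc.quadPart f) i j =
      MvPowerSeries.coeff (Finsupp.single j 1) (MvPowerSeries.pderiv k i f) := by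
  rw [MvPowerSeries.coeff_pderiv]
  unfold VanCyc.polarMatrix VanCyc.quadPart
  rcases lt_trichotomy i j with h | h | h
  · simp [h.ne, h, Finsupp.single_eq_of_ne h.ne, add_comm (Finsupp.single j 1)]
  · subst h
    simp only [if_true, Finsupp.single_eq_same]
    rw [← Finsupp.single_add]
    ring
  · simp [h.ne', h.ne, h, not_lt.2 h.le, Finsupp.single_eq_of_ne h.ne']


/-- The formal computation carried out in its proof: let k be a field and f a power series in k[[x_0,
..., x_n]] with vanishing constant and linear terms whose degree-two part is a non-degenerate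
quadratic form (the Gram determinant of its polar bilinear form is a unit). Then the partial
derivatives of f generate the maximal ideal of k[[x_0, ..., x_n]] (so f together with its partial
derivatives cut out the origin with multiplicity one). -/
theorem result (k : Type u) [Field k] (n : ℕ)
    (f : MvPowerSeries (Fin (n + 1)) k) (hf : VanCyc.NondegQuadSeries f) :
    Ideal.span (Set.range fun i : Fin (n + 1) => MvPowerSeries.pderiv k i f) =
      IsLocalRing.maximalIdeal (MvPowerSeries (Fin (n + 1)) k) := by
  obtain ⟨⟨hc, hl⟩, hq⟩ := hf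
  have hg0 : ∀ i, MvPowerSeries.constantCoeff (MvPowerSeries.pderiv k i f) = 0 := fun i => by
    rw [← MvPowerSeries.coeff_zero_eq_constantCoeff_apply, MvPowerSeries.coeff_pderiv, zero_add,
      hl i, zero_mul]
  choose A hA hdec using fun i => exists_decomp (MvPowerSeries.pderiv k i f) (hg0 i)
  let M : Matrix (Fin (n + 1)) (Fin (n + 1)) (MvPowerSeries (Fin (n + 1)) k) := Matrix.of A
  have hM : IsUnit M.det := by
    rw [MvPowerSeries.isUnit_iff_constantCoeff, RingHom.map_det]
    unfold VanCyc.QuadNondeg at hq
    convert hq using 1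
    congr 1
    ext i j
    simp [M, hA, polarMatrix_quadPart]
  have hX : ∀ j, MvPowerSeries.X j ∈
      Ideal.span (Set.range fun i : Fin (n + 1) => MvPowerSeries.pderiv k i f) := by
    intro j
    have h1 : M.mulVec (fun j => MvPowerSeries.X j) = fun i => MvPowerSeries.pderiv k i f := by
      funext i
      simp [Matrix.mulVec, dotProduct, M, hdec i, mul_comm]
    have h2 := congrArg (fun v => Matrix.mulVec M⁻¹ v j) h1
    simp only [Matrix.mulVec_mulVec, Matrix.nonsing_inv_mul M hM, Matrix.one_mulVec] at h2
    rw [h2]
    simp only [Matrix.mulVec, dotProduct]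
    exact Ideal.sum_mem _ fun i _ => Ideal.mul_mem_left _ _ (Ideal.subset_span (Set.mem_range_self i))
  refine le_antisymm (Ideal.span_le.2 ?_) fun h hh => ?_
  · rintro _ ⟨i, rfl⟩
    exact (mem_maximalIdeal_iff _).2 (hg0 i)
  · obtain ⟨c, -, rfl⟩ := exists_decomp h ((mem_maximalIdeal_iff h).1 hh)
    exact Ideal.sum_mem _ fun i _ => Ideal.mul_mem_right _ _ (hX i)

end Groth.Agent.S8719
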