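import Groth.Statements.S8720
import Groth.Agent.S8719
import Mathlib.Algebra.CharP.Two
import Mathlib.LinearAlgebra.Dimension.Constructions
import Mathlib.Data.Finsupp.Antidiagonal
import Mathlib.LinearAlgebra.FreeModule.Finite.Matrix

set_option autoImplicit false
universe u
open VanCyc

namespace Groth.Agent.S8720

open MvPowerSeries in
lemma span_J {σ : Type*} [Fintype σ] [DecidableEq σ] {R : Type*} [CommRing R]
    (h : MvPowerSeries (Option σ) R) (h0 : constantCoeff h = 0)
    (h1 : coeff (Finsupp.single none 1) h = 0) :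
    ∃ (u : MvPowerSeries (Option σ) R) (w : σ → MvPowerSeries (Option σ) R),
      h = X none ^ 2 * u + ∑ j, X (some j) * w j ∧
      constantCoeff u = coeff (Finsupp.single none 2) h ∧
      ∀ j, constantCoeff (w j) = coeff (Finsupp.single (some j) 1) h := by
  obtain ⟨c, hc, hdec⟩ := Groth.Agent.S8719.exists_decomp h h0
  obtain ⟨c', hc', hdec'⟩ := Groth.Agent.S8719.exists_decomp (c none) ((hc none).trans h1)
  have e : h = X none ^ 2 * c' none + ∑ j, X (some j) * (c (some j) + X none * c' (some j)) := by
    rw [hdec, Fintype.sum_option, hdec', Fintype.sum_option, mul_add, Finset.mul_sum, add_assoc,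
      ← Finset.sum_add_distrib]
    congr 1
    · ring
    · exact Finset.sum_congr rfl fun j _ => by ring
  refine ⟨_, _, e, ?_, fun j => by simp [hc]⟩
  conv_rhs => rw [e]
  rw [map_add, map_sum, X_pow_eq, coeff_monomial_mul, if_pos le_rfl, one_mul, tsub_self,
    coeff_zero_eq_constantCoeff_apply, Finset.sum_eq_zero, add_zero]
  intro j _
  rw [X, coeff_monomial_mul, if_neg]
  simp [Finsupp.single_le_iff]


/-- The formal computation carried out in its proof: let k be a field of characteristic 2, m a natural
number, and f a power series over k in the variables x_0 and x_i, x_i' (i = 1, ..., m) whose terms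
of degree less than 3 are exactly those of x_0^2 + x_1 x_1' + ... + x_m x_m'. Then the ideal
generated by f and all its partial derivatives is the ideal generated by x_0^2 and the x_i, x_i',
and the quotient of the power series ring by this ideal is two-dimensional over k. (Characteristic 2
is what makes the derivative in x_0 lose its linear term.) -/
theorem result (k : Type u) [Field k] [CharP k 2] (m : ℕ)
    (f : MvPowerSeries (Option (Fin m ⊕ Fin m)) k)
    (hf : ∀ d : Option (Fin m ⊕ Fin m) →₀ ℕ, d.degree < 3 →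
      MvPowerSeries.coeff d f = MvPowerSeries.coeff d
        (MvPowerSeries.X none ^ 2 +
          ∑ i : Fin m, MvPowerSeries.X (some (Sum.inl i)) * MvPowerSeries.X (some (Sum.inr i)))) :
    Ideal.span ({f} ∪ Set.range fun i : Option (Fin m ⊕ Fin m) => MvPowerSeries.pderiv k i f) =
      Ideal.span ({MvPowerSeries.X none ^ 2} ∪
        Set.range fun j : Fin m ⊕ Fin m => (MvPowerSeries.X (some j) : MvPowerSeries (Option (Fin m ⊕ Fin m)) k)) ∧
    Module.finrank k (MvPowerSeries (Option (Fin m ⊕ Fin m)) k ⧸
      Ideal.span ({MvPowerSeries.X none ^ 2} ∪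
        Set.range fun j : Fin m ⊕ Fin m => (MvPowerSeries.X (some j) : MvPowerSeries (Option (Fin m ⊕ Fin m)) k))) = 2 := by
  classical
  let Q : (MvPowerSeries (Option (Fin m ⊕ Fin m)) k) := MvPowerSeries.X none ^ 2 +
    ∑ i : Fin m, MvPowerSeries.X (some (Sum.inl i)) * MvPowerSeries.X (some (Sum.inr i))
  let v : (Fin m ⊕ Fin m) → Option (Fin m ⊕ Fin m) →₀ ℕ := fun i => Finsupp.single (some i) 1
  have hQ : ∀ d, MvPowerSeries.coeff d Q = (if d = Finsupp.single none 2 then 1 else 0) +
      ∑ i : Fin m, if d = v (.inl i) + v (.inr i) then 1 else 0 := by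
    intro d
    simp only [Q, map_add, map_sum, MvPowerSeries.X_pow_eq, pow_two]
    simp only [MvPowerSeries.X, MvPowerSeries.monomial_mul_monomial, one_mul,
      MvPowerSeries.coeff_monomial, v, ← Finsupp.single_add]
  have hcf : ∀ d : Option (Fin m ⊕ Fin m) →₀ ℕ, d.degree < 3 → MvPowerSeries.coeff d f =
      (if d = Finsupp.single none 2 then 1 else 0) +
      ∑ i : Fin m, if d = v (.inl i) + v (.inr i) then 1 else 0 :=
    fun d hd => (hf d hd).trans (hQ d)
  have fdeg : ∀ a b : Option (Fin m ⊕ Fin m), (Finsupp.single a 1 + Finsupp.single b 1 : Option (Fin m ⊕ Fin m) →₀ ℕ).degree < 3 := by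
    intro a b; simp
  have f0 : MvPowerSeries.constantCoeff f = 0 := by
    rw [← MvPowerSeries.coeff_zero_eq_constantCoeff_apply, hcf 0 (by simp)]
    rw [if_neg (fun h => by simpa using congrArg Finsupp.degree h), zero_add]
    refine Finset.sum_eq_zero fun i _ => if_neg fun h => ?_
    simpa [v] using congrArg Finsupp.degree h
  have f1 : ∀ a, MvPowerSeries.coeff (Finsupp.single a 1) f = 0 := fun a => by
    rw [hcf _ (by simp), Finset.sum_eq_zero, add_zero, if_neg]
    · intro h; simpa using congrArg Finsupp.degree h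
    · intro i _
      rw [if_neg]
      intro h; simpa [v] using congrArg Finsupp.degree h
  have f20 : MvPowerSeries.coeff (Finsupp.single none 2) f = 1 := by
    rw [hcf _ (by simp), if_pos rfl, Finset.sum_eq_zero, add_zero]
    intro i _
    rw [if_neg]
    intro h
    simpa [v] using DFunLike.congr_fun h none
  have f2 : ∀ i a, MvPowerSeries.coeff (Finsupp.single (some i) 1 + Finsupp.single a 1) f =
      if a = some (Sum.swap i) then 1 else 0 := by
    intro i a
    rw [hcf _ (fdeg _ _), if_neg, zero_add]
    swap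
    · intro h
      have h' := DFunLike.congr_fun h (some i)
      simp [Finsupp.single_apply] at h'
    have key : ∀ l : Fin m, (Finsupp.single (some i) 1 + Finsupp.single a 1 = v (.inl l) + v (.inr l)) ↔
        ((i = .inl l ∧ a = some (.inr l)) ∨ (i = .inr l ∧ a = some (.inl l))) := by
      intro l
      constructor
      · intro h
        have hi := DFunLike.congr_fun h (some i)
        have ha := DFunLike.congr_fun h a
        rcases i with p | p <;> rcases a with _ | (q | q) <;>
          simp [v, Finsupp.single_apply] at hi ha ⊢ <;> grind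
      · rintro (⟨rfl, rfl⟩ | ⟨rfl, rfl⟩)
        · rfl
        · exact add_comm _ _
    simp only [key]
    rcases i with p | p
    · rw [Finset.sum_eq_single p ?_ (by simp)]
      · simp
      · intro l _ hl; simp [Ne.symm hl]
    · rw [Finset.sum_eq_single p ?_ (by simp)]
      · simp
      · intro l _ hl; simp [Ne.symm hl]
  let g : Option (Fin m ⊕ Fin m) → (MvPowerSeries (Option (Fin m ⊕ Fin m)) k) := fun a => MvPowerSeries.pderiv k a f
  have g0 : ∀ a, MvPowerSeries.constantCoeff (g a) = 0 := fun a => by
    rw [← MvPowerSeries.coeff_zero_eq_constantCoeff_apply, MvPowerSeries.coeff_pderiv, zero_add,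
      f1, zero_mul]
  have g1 : ∀ a, MvPowerSeries.coeff (Finsupp.single none 1) (g a) = 0 := by
    intro a
    rw [MvPowerSeries.coeff_pderiv]
    rcases a with _ | i
    · simp only [Finsupp.single_eq_same]
      have : ((1 : ℕ) : k) + 1 = 0 := by simpa [one_add_one_eq_two] using CharTwo.two_eq_zero (R := k)
      rw [this, mul_zero]
    · rw [add_comm, f2, if_neg (by simp), zero_mul]
  choose u w hdec hu hw using fun a => span_J (g a) (g0 a) (g1 a)
  obtain ⟨uf, wf, hfdec, huf, hwf⟩ := span_J f f0 (f1 none)
  let M : Matrix (Fin m ⊕ Fin m) (Fin m ⊕ Fin m) (MvPowerSeries (Option (Fin m ⊕ Fin m)) k) := Matrix.of fun i j => w (some i) j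
  have hM : IsUnit M.det := by
    rw [MvPowerSeries.isUnit_iff_constantCoeff, RingHom.map_det]
    have : (MvPowerSeries.constantCoeff (σ := Option (Fin m ⊕ Fin m)) (R := k)).mapMatrix M =
        Matrix.of fun i j => if j = Sum.swap i then (1 : k) else 0 := by
      ext i j
      simp only [RingHom.mapMatrix_apply, Matrix.map_apply, M, Matrix.of_apply, hw, g,
        MvPowerSeries.coeff_pderiv]
      rw [add_comm, f2]
      simp only [Option.some.injEq]
      by_cases hji : j = Sum.swap i
      · subst hji
        rcases i with p | p <;> simp [Finsupp.single_apply]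
      · simp [hji]
    rw [this]
    refine Matrix.isUnit_det_of_right_inverse (B := Matrix.of fun i j => if j = Sum.swap i then (1 : k) else 0) ?_
    ext i j
    rw [Matrix.mul_apply, Finset.sum_eq_single (Sum.swap i)]
    · simp [Matrix.one_apply, eq_comm]
    · intro b _ hb; simp [hb]
    · simp
  let I : Ideal (MvPowerSeries (Option (Fin m ⊕ Fin m)) k) := Ideal.span ({f} ∪ Set.range g)
  let J : Ideal (MvPowerSeries (Option (Fin m ⊕ Fin m)) k) := Ideal.span ({MvPowerSeries.X none ^ 2} ∪
    Set.range fun j : (Fin m ⊕ Fin m) => (MvPowerSeries.X (some j) : (MvPowerSeries (Option (Fin m ⊕ Fin m)) k)))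
  have hJ : ∀ h : (MvPowerSeries (Option (Fin m ⊕ Fin m)) k), h ∈ J ↔ MvPowerSeries.constantCoeff h = 0 ∧
      MvPowerSeries.coeff (Finsupp.single none 1) h = 0 := by
    intro h
    constructor
    · intro hh
      induction hh using Submodule.span_induction with
      | mem x hx =>
        rcases hx with rfl | ⟨j, rfl⟩
        · rw [← MvPowerSeries.coeff_zero_eq_constantCoeff_apply]
          rw [MvPowerSeries.X_pow_eq, MvPowerSeries.coeff_monomial, MvPowerSeries.coeff_monomial,
            if_neg (fun h => by simpa using congrArg Finsupp.degree h),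
            if_neg (fun h => by simpa using congrArg Finsupp.degree h)]
          exact ⟨rfl, rfl⟩
        · simp [MvPowerSeries.coeff_X, Finsupp.single_eq_single_iff]
      | zero => simp
      | add x y _ _ hx hy => simp [hx.1, hx.2, hy.1, hy.2]
      | smul a x _ hx =>
        refine ⟨by simp [hx.1], ?_⟩
        rw [smul_eq_mul, MvPowerSeries.coeff_mul, Finsupp.antidiagonal_single]
        simp [hx.1, hx.2, Finset.Nat.antidiagonal_succ]
    · rintro ⟨h0, h1⟩
      obtain ⟨u', w', e, -, -⟩ := span_J h h0 h1
      rw [e]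
      exact J.add_mem (Ideal.mul_mem_right _ _ (Ideal.subset_span (Or.inl rfl)))
        (Ideal.sum_mem _ fun j _ => Ideal.mul_mem_right _ _ (Ideal.subset_span (Or.inr ⟨j, rfl⟩)))
  have hgI : ∀ a, g a ∈ I := fun a => Ideal.subset_span (Or.inr ⟨a, rfl⟩)
  have hfI : f ∈ I := Ideal.subset_span (Or.inl rfl)
  let X0 : (MvPowerSeries (Option (Fin m ⊕ Fin m)) k) := MvPowerSeries.X none ^ 2
  have h1 : M.mulVec (fun j => MvPowerSeries.X (some j)) = fun i => g (some i) - X0 * u (some i) := by
    funext i
    rw [eq_sub_iff_add_eq, add_comm]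
    conv_rhs => rw [hdec]
    simp [Matrix.mulVec, dotProduct, M, X0, mul_comm]
  have hY : ∀ j, ∃ t : (MvPowerSeries (Option (Fin m ⊕ Fin m)) k), MvPowerSeries.X (some j) - X0 * t ∈ I := by
    intro j
    have h2 := congrArg (fun v => Matrix.mulVec M⁻¹ v j) h1
    simp only [Matrix.mulVec_mulVec, Matrix.nonsing_inv_mul M hM, Matrix.one_mulVec] at h2
    refine ⟨-∑ i, M⁻¹ j i * u (some i), ?_⟩
    have : MvPowerSeries.X (some j) - X0 * (-∑ i, M⁻¹ j i * u (some i)) =
        ∑ i, M⁻¹ j i * g (some i) := by
      rw [h2]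
      simp only [Matrix.mulVec, dotProduct, mul_sub, Finset.sum_sub_distrib, mul_neg,
        sub_neg_eq_add, Finset.mul_sum]
      rw [← Finset.sum_sub_distrib, ← Finset.sum_add_distrib]
      exact Finset.sum_congr rfl fun i _ => by ring
    rw [this]
    exact Ideal.sum_mem _ fun i _ => I.mul_mem_left _ (hgI _)
  choose t ht using hY
  have hX0 : X0 ∈ I := by
    have hunit : IsUnit (uf + ∑ j, t j * wf j) := by
      rw [MvPowerSeries.isUnit_iff_constantCoeff, map_add, map_sum, huf, f20]
      simp [hwf, f1]
    have h3 : X0 * (uf + ∑ j, t j * wf j) =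
        f - ∑ j, (MvPowerSeries.X (some j) - X0 * t j) * wf j := by
      conv_rhs => rw [hfdec]
      simp only [sub_mul, Finset.sum_sub_distrib, mul_add, Finset.mul_sum, mul_assoc, X0]
      abel
    refine (Ideal.mul_unit_mem_iff_mem I hunit).1 ?_
    rw [h3]
    exact I.sub_mem hfI (Ideal.sum_mem _ fun j _ => I.mul_mem_right _ (ht j))
  refine ⟨le_antisymm (Ideal.span_le.2 ?_) (Ideal.span_le.2 ?_), ?_⟩
  · rintro x (rfl | ⟨a, rfl⟩)
    · exact (hJ _).2 ⟨f0, f1 none⟩
    · exact (hJ _).2 ⟨g0 a, g1 a⟩
  · rintro x (rfl | ⟨j, rfl⟩)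
    · exact hX0
    · have h := I.add_mem (ht j) (I.mul_mem_right (t j) hX0)
      rw [sub_add_cancel] at h
      exact h
  · change Module.finrank k ((MvPowerSeries (Option (Fin m ⊕ Fin m)) k) ⧸ J) = 2
    let L : (MvPowerSeries (Option (Fin m ⊕ Fin m)) k) →ₗ[k] k × k :=
      (MvPowerSeries.coeff 0).prod (MvPowerSeries.coeff (Finsupp.single none 1))
    have hL : Function.Surjective L := fun p =>
      ⟨MvPowerSeries.C p.1 + MvPowerSeries.C p.2 * MvPowerSeries.X none, by
        simp [L, MvPowerSeries.coeff_C_mul, MvPowerSeries.coeff_C, MvPowerSeries.coeff_X, Finsupp.single_eq_zero, eq_comm]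
        have hne : ¬ (0 : Option (Fin m ⊕ Fin m) →₀ ℕ) = Finsupp.single none 1 :=
          fun h => by simpa using congrArg Finsupp.degree h
        rw [if_neg hne, zero_add]⟩
    have hker : J.restrictScalars k = LinearMap.ker L := by
      ext h
      simp [L, hJ, MvPowerSeries.coeff_zero_eq_constantCoeff_apply]
    rw [← (Submodule.Quotient.restrictScalarsEquiv k J).finrank_eq,
      (Submodule.quotEquivOfEq _ _ hker).finrank_eq,
      (LinearMap.quotKerEquivOfSurjective L hL).finrank_eq]
    simp

end Groth.Agent.S8720
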