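import Groth.Statements.S8721
import Groth.Agent.QLin.Basic

set_option autoImplicit false
universe u v
open SGA7II

namespace Groth.Agent.S8721

open Groth.Agent


/-- Let k be a separably closed field of characteristic p > 0, q = p^r with r >= 1, V a
finite-dimensional k-vector space and phi : V -> V additive with phi(c v) = c^q phi(v). Let V_ss be
the intersection, over n >= 1, of the k-subspaces spanned by the images of the iterates phi^n (the
semisimple part of V). Then V_ss has a k-basis consisting of phi-fixed vectors, and every phi-fixed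
vector of V is a linear combination of this basis with coefficients c satisfying c^q = c; that is,
V_ss is obtained from the F_q-space of fixed vectors by extension of scalars. -/
theorem result (k : Type u) [Field k] [IsSepClosed k] (p : ℕ)
    [Fact p.Prime] [CharP k p] (r : ℕ) (hr : 0 < r) (V : Type v) [AddCommGroup V] [Module k V]
    [FiniteDimensional k V] (φ : V →+ V) (hφ : ∀ (c : k) (v : V), φ (c • v) = c ^ (p ^ r) • φ v) :
    let Vss : Submodule k V := ⨅ n : ℕ, Submodule.span k (Set.range (φ^[n + 1]))
    ∃ b : Module.Basis (Fin (Module.finrank k ↥Vss)) k ↥Vss, (∀ i, φ (b i : V) = (b i : V)) ∧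
      ∀ v : V, φ v = v → ∃ c : Fin (Module.finrank k ↥Vss) → k,
        (∀ i, c i ^ (p ^ r) = c i) ∧ v = ∑ i, c i • (b i : V) := by
  intro Vss
  let T := QLin.toSemi φ hφ
  have e : Vss = ⨅ m, SigmaLin.Basic.stage T m :=
    le_antisymm (le_iInf fun m => (iInf_le _ m).trans (SigmaLin.Basic.stage_antitone T (Nat.le_succ m)))
      (le_iInf fun m => iInf_le _ (m + 1))
  clear_value Vss
  subst e
  obtain ⟨b, hb⟩ := SigmaLin.Basic.exists_fixed_basis_ss T (QLin.additive_poly hr) (QLin.artin_schreier hr)
  refine ⟨b, hb, fun v hv => ?_⟩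
  have hmem : v ∈ ⨅ m, SigmaLin.Basic.stage T m :=
    Submodule.mem_iInf _ |>.mpr fun m => Submodule.subset_span ⟨v, Function.iterate_fixed hv m⟩
  refine ⟨fun i => b.repr ⟨v, hmem⟩ i, fun i => ?_, ?_⟩
  · have := (QLin.repr_fixed (SigmaLin.Basic.ssRestrict T) b (fun i => Subtype.ext (hb i)) 1 ⟨v, hmem⟩).mp
      (Subtype.ext hv) i
    rwa [pow_one] at this
  · have := congrArg Subtype.val (b.sum_repr ⟨v, hmem⟩)
    rw [Submodule.coe_sum] at this
    exact this.symm

end Groth.Agent.S8721
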