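import Groth.Statements.S8722
import Groth.Agent.QLin.Basic

set_option autoImplicit false
universe u v
open SGA7II

namespace Groth.Agent.S8722

open Groth.Agent


/-- Let k be a separably closed field of characteristic p > 0, q = p^r with r >= 1, V a
finite-dimensional k-vector space and phi : V -> V additive with phi(c v) = c^q phi(v), semisimple
in the sense that its image spans V. Then for n >= 1 the fixed vectors of the n-th iterate of phi
are exactly the finite linear combinations of phi-fixed vectors with coefficients c satisfying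
c^(q^n) = c; that is, the fixed space of phi^n is obtained from the F_q-space of phi-fixed vectors
by extending scalars to F_{q^n}. -/
theorem result (k : Type u) [Field k] [IsSepClosed k] (p : ℕ)
    [Fact p.Prime] [CharP k p] (r : ℕ) (hr : 0 < r) (V : Type v) [AddCommGroup V] [Module k V]
    [FiniteDimensional k V] (φ : V →+ V) (hφ : ∀ (c : k) (v : V), φ (c • v) = c ^ (p ^ r) • φ v)
    (hss : Submodule.span k (Set.range φ) = ⊤) (n : ℕ) (hn : 0 < n) (v : V) :
    φ^[n] v = v ↔ ∃ (s : Finset V) (c : V → k), (∀ w ∈ s, φ w = w) ∧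
      (∀ w ∈ s, c w ^ ((p ^ r) ^ n) = c w) ∧ v = ∑ w ∈ s, c w • w := by
  classical
  have h1 : Submodule.span k (Set.range ⇑(QLin.toSemi φ hφ)) = ⊤ := hss
  obtain ⟨b, hb⟩ := SigmaLin.Basic.exists_fixed_basis (QLin.toSemi φ hφ) h1 (QLin.additive_poly hr) (QLin.artin_schreier hr)
  constructor
  · intro hv
    have h := (QLin.repr_fixed (QLin.toSemi φ hφ) b hb n v).mp hv
    refine ⟨Finset.univ.image b, Function.extend b (fun i => b.repr v i) 0, ?_, ?_, ?_⟩
    · intro w hw
      obtain ⟨i, -, rfl⟩ := Finset.mem_image.mp hw
      exact hb i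
    · intro w hw
      obtain ⟨i, -, rfl⟩ := Finset.mem_image.mp hw
      rw [b.injective.extend_apply]
      exact h i
    · rw [Finset.sum_image fun i _ j _ h => b.injective h]
      simp_rw [b.injective.extend_apply]
      exact (b.sum_repr v).symm
  · rintro ⟨s, c, hs, hc, rfl⟩
    rw [show φ^[n] = ⇑(AddMonoidHom.mk' (φ^[n]) (iterate_map_add φ n)) from rfl, map_sum]
    refine Finset.sum_congr rfl fun w hw => ?_
    change φ^[n] (c w • w) = c w • w
    have := SigmaLin.Basic.iterate_smul (QLin.toSemi φ hφ) n (c w) w
    refine this.trans ?_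
    rw [QLin.iterate_frob, hc w hw]
    congr 1
    exact Function.iterate_fixed (hs w hw) n

end Groth.Agent.S8722
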