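import Groth.Statements.S8723
import Groth.Agent.VertInter.CompList
import Groth.Agent.VertInter.DivField
import Groth.Agent.VertInter.Kernel
import Groth.Agent.S3320
import Groth.Agent.S19920
import Groth.Agent.S10867
import Groth.Agent.CycLib.FlatBC
import Groth.Agent.CycLib.MapLib
import Groth.Agent.Hens.CoupleProper
-- import your own Groth.Agent.* helpers here

set_option autoImplicit false
universe u
open CategoryTheory CategoryTheory.Limits AlgebraicGeometry
open ArSurf

namespace Groth.Agent.S8723

section Helpers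

/-- Flat morphisms lift generalizations. -/
theorem exists_specializes {X Y : Scheme.{u}} (f : X ⟶ Y) [Flat f] (x : X) {y : Y} (h : y ⤳ f x) :
    ∃ w, w ⤳ x ∧ f w = y := by
  obtain ⟨p, rfl⟩ : y ∈ Set.range (Y.fromSpecStalk (f x)) := by
    rw [Scheme.range_fromSpecStalk]; exact h
  letI := (f.stalkMap x).hom.toAlgebra
  haveI : Module.Flat (Y.presheaf.stalk (f x)) (X.presheaf.stalk x) := Flat.stalkMap f x
  haveI : IsLocalHom (algebraMap (Y.presheaf.stalk (f x)) (X.presheaf.stalk x)) :=
    inferInstanceAs (IsLocalHom (f.stalkMap x).hom)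
  haveI : Module.FaithfullyFlat (Y.presheaf.stalk (f x)) (X.presheaf.stalk x) :=
    Module.FaithfullyFlat.of_flat_of_isLocalHom
  obtain ⟨q, hq⟩ := PrimeSpectrum.comap_surjective_of_faithfullyFlat (A := Y.presheaf.stalk (f x))
    (B := X.presheaf.stalk x) p
  have h1 : X.fromSpecStalk x q ∈ Set.range (X.fromSpecStalk x) := ⟨q, rfl⟩
  rw [Scheme.range_fromSpecStalk] at h1
  refine ⟨_, h1, ?_⟩
  rw [← Scheme.Hom.comp_apply, ← Scheme.SpecMap_stalkMap_fromSpecStalk, Scheme.Hom.comp_apply]
  exact congrArg (Y.fromSpecStalk (f x)) hq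

/-- The ideal of the closed point. -/
theorem ker_SpecMap_residue (R : Type u) [CommRing R] [IsLocalRing R] :
    haveI := IsClosedImmersion.spec_of_surjective (CommRingCat.ofHom (IsLocalRing.residue R)) IsLocalRing.residue_surjective
    (Spec.map (CommRingCat.ofHom (IsLocalRing.residue R))).ker =
      Curv2.idealSheaf R (IsLocalRing.maximalIdeal R) := by
  haveI := IsClosedImmersion.spec_of_surjective (CommRingCat.ofHom (IsLocalRing.residue R)) IsLocalRing.residue_surjective
  refine Scheme.IdealSheafData.ext_of_isAffine ?_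
  rw [Scheme.Hom.ker_apply]
  refine Eq.trans ?_ (show Ideal.map ((Spec (CommRingCat.of R)).presheaf.map
      (homOfLE (le_top : (⊤ : (Spec (CommRingCat.of R)).Opens) ≤ ⊤)).op).hom
        ((IsLocalRing.maximalIdeal R).map (Scheme.ΓSpecIso (CommRingCat.of R)).inv.hom) = _ from rfl)
  rw [show (homOfLE (le_top : (⊤ : (Spec (CommRingCat.of R)).Opens) ≤ ⊤)).op = 𝟙 _ from rfl,
    CategoryTheory.Functor.map_id]
  show RingHom.ker (Spec.map (CommRingCat.ofHom (IsLocalRing.residue R))).appTop.hom = Ideal.map (RingHom.id _) _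
  rw [Ideal.map_id]
  ext a
  obtain ⟨r, rfl⟩ := (ConcreteCategory.bijective_of_isIso (Scheme.ΓSpecIso (CommRingCat.of R)).inv).2 a
  have h1 : (Spec.map (CommRingCat.ofHom (IsLocalRing.residue R))).appTop
      ((Scheme.ΓSpecIso (CommRingCat.of R)).inv r) =
      (Scheme.ΓSpecIso (CommRingCat.of (IsLocalRing.ResidueField R))).inv (IsLocalRing.residue R r) :=
    (ConcreteCategory.congr_hom (Scheme.ΓSpecIso_inv_naturality (CommRingCat.ofHom (IsLocalRing.residue R))) r).symm
  rw [RingHom.mem_ker, h1,
    map_eq_zero_iff _ (ConcreteCategory.bijective_of_isIso _).1, IsLocalRing.residue_eq_zero_iff]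
  refine ⟨Ideal.mem_map_of_mem _, fun hm => ?_⟩
  obtain ⟨r', hr', e⟩ := (Ideal.mem_map_iff_of_surjective _ (ConcreteCategory.bijective_of_isIso (Scheme.ΓSpecIso (CommRingCat.of R)).inv).2).mp hm
  exact (ConcreteCategory.bijective_of_isIso (Scheme.ΓSpecIso (CommRingCat.of R)).inv).1 e ▸ hr'

/-- The functions on the closed fibre form a field when the multiplicities are coprime. -/
theorem isField_fibre {R : Type u} [CommRing R] [IsDomain R] [IsDiscreteValuationRing R] {X : Scheme.{u}}
    (p : X ⟶ Spec (CommRingCat.of R)) [IsProper p] [Flat p] (hreg : Models.IsRegularScheme X)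
    {n : ℕ} (Γ : Fin n → ArSurf.VertComp R (Over.mk p)) (hΓ : Models.IsComponentList R (Over.mk p) Γ)
    (hconn : _root_.IsPreconnected (Models.specialFibreSet R (Over.mk p)))
    (hgcd : Models.multGcd R (Over.mk p) Γ = 1) :
    IsField Γ((Models.specialFibreIdeal R (Over.mk p)).subscheme, ⊤) := by
  haveI : IsProper (Over.mk p).hom := ‹IsProper p›
  haveI : IsLocallyNoetherian X := LocallyOfFiniteType.isLocallyNoetherian p
  obtain ⟨hc, heq⟩ := S3313.eq_prod p ‹Flat p› inferInstance hreg Γ hΓ
  have hex : ∀ i, ∃ L : X.Modules, ClSub.IsInverseOf L (ClSub.idealMod (Γ i).ι.ker) := fun i => by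
    obtain ⟨L', -, e⟩ := PicLaw.exists_inverse
      (IdealSh.IdealMod.isInvertible_of_isEffCartierIdeal (X := X) (Γ i).ι.ker (hc i))
    exact ⟨L', ⟨ProjTwist.tensComm _ _ ≪≫ e.some⟩⟩
  choose L hL using hex
  let m : Fin n → ℕ := fun j => Models.mult R (Over.mk p) (Γ j)
  have hm0 : ∀ j, 1 ≤ m j := fun j => VertInter.one_le_mult (p := p) hΓ hreg j
  obtain ⟨i₀⟩ : Nonempty (Fin n) := by
    rcases Nat.eq_zero_or_pos n with rfl | h
    · simp [Models.multGcd] at hgcd
    · exact ⟨⟨0, h⟩⟩
  have hkill : ∀ i, ∑ j, (m j : ℤ) * ArSurf.inter R (Over.mk p) (L j) (Γ i) = 0 := fun i =>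
    VertInter.sum_mult_eq_zero p hreg Γ hΓ L hL (Γ i)
  have hF : IsField Γ((VertInter.divIdeal (X := Over.mk p) Γ m).subscheme, ⊤) := by
    refine VertInter.isField_divIdeal (X := Over.mk p) Γ hc L hL m i₀ (hm0 i₀) fun z hz hz1 hne => ?_
    by_contra hno
    push Not at hno
    let w : Fin n → ℤ := fun j => (m j : ℤ) - (z j : ℤ)
    have hw : ∀ i, ∑ j, w j * ArSurf.inter R (Over.mk p) (L j) (Γ i) =
        -∑ j, (z j : ℤ) * ArSurf.inter R (Over.mk p) (L j) (Γ i) := fun i => by
      simp only [w, sub_mul, Finset.sum_sub_distrib, hkill i, zero_sub]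
    have hQ : 0 ≤ ∑ q : Fin n × Fin n, w q.1 * w q.2 * ArSurf.inter R (Over.mk p) (L q.2) (Γ q.1) := by
      rw [Fintype.sum_prod_type]
      simp only [mul_assoc, ← Finset.mul_sum]
      refine Finset.sum_nonneg fun i _ => ?_
      rw [hw i]
      rcases Nat.lt_or_ge (z i) (m i) with h | h
      · exact mul_nonneg (by simp only [w]; omega) (by linarith [hno i h])
      · have : z i = m i := le_antisymm (hz i) h
        simp [w, this]
    have hform := S3320.form p hreg Γ hΓ hconn L hL w
    obtain ⟨c, hcw'⟩ := hform.2.mp (le_antisymm hform.1 hQ)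
    have hcw : ∀ i, (w i : ℚ) = c * (m i : ℚ) := hcw'
    have hnum : ∀ i, (c.num : ℤ) * m i = (c.den : ℤ) * w i := fun i => by
      have h2 : ((c.num : ℤ) * m i : ℚ) = ((c.den : ℤ) * w i : ℚ) := by
        push_cast
        rw [hcw i]
        linear_combination (-(m i : ℚ)) * Rat.den_mul_eq_num c
      exact_mod_cast h2
    have hden : c.den = 1 := by
      have hdvd : ∀ i, c.den ∣ m i := fun i => by
        have h3 : (c.den : ℤ) ∣ c.num * (m i : ℤ) := ⟨w i, hnum i⟩
        have h4 := Int.natCast_dvd.mp h3
        rw [Int.natAbs_mul, Int.natAbs_natCast] at h4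
        exact (c.reduced.symm).dvd_of_dvd_mul_left h4
      exact Nat.dvd_one.mp (hgcd ▸ Finset.dvd_gcd (s := Finset.univ) (f := m) fun i _ => hdvd i)
    have hwt : ∀ i, w i = c.num * m i := fun i => by rw [hnum i, hden]; simp
    have hlt : c.num < 1 := by
      have h1 := hwt i₀
      simp only [w] at h1
      by_contra hge
      push Not at hge
      have h2 : (m i₀ : ℤ) ≤ c.num * m i₀ := le_mul_of_one_le_left (by positivity) hge
      omega
    refine hne (funext fun j => le_antisymm (hz j) ?_)
    have h1 := hwt j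
    simp only [w] at h1
    have h2 : c.num * (m j : ℤ) ≤ 0 := mul_nonpos_of_nonpos_of_nonneg (by omega) (by positivity)
    omega
  rw [show VertInter.divIdeal (X := Over.mk p) Γ m = Models.specialFibreIdeal R (Over.mk p) from heq.symm] at hF
  exact hF

end Helpers

/-- Let R be a discrete valuation ring with residue field k and X an integral regular scheme of Krull
dimension 2, proper and flat over Spec R by f (a regular proper flat model whose fibres are curves).
Write X_s for the special fibre and X_sbar for its base change to an algebraic closure of k. Assume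
that X_s is geometrically connected (its base change to every field extension of k is connected) and
that the multiplicities of the irreducible components of X_sbar, i.e. the lengths of the local rings
of X_sbar at its maximal points, have greatest common divisor 1 (no prime divides all of them). Then
the canonical map k -> H^0(X_s, O_{X_s}) is bijective (X is cohomologically flat over R in degree
0). -/
theorem result (R : Type u) [CommRing R] [IsDomain R]
    [IsDiscreteValuationRing R] {X : Scheme.{u}} (f : X ⟶ Spec (CommRingCat.of R)) [IsProper f] [Flat f]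
    [IsIntegral X] (hreg : ∀ x : X, IsRegularLocalRing (X.presheaf.stalk x))
    (hdim : topologicalKrullDim X = 2)
    (hconn : ∀ (K : Type u) [Field K] [Algebra (IsLocalRing.ResidueField R) K],
      ConnectedSpace ↥(pullback f (Spec.map (CommRingCat.ofHom
        ((algebraMap (IsLocalRing.ResidueField R) K).comp (IsLocalRing.residue R))))))
    (hd : letI Xb := pullback f (Spec.map (CommRingCat.ofHom
        ((algebraMap (IsLocalRing.ResidueField R) (AlgebraicClosure (IsLocalRing.ResidueField R))).comp
          (IsLocalRing.residue R))))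
      ∀ ℓ : ℕ, ℓ.Prime → ∃ x : ↥Xb, (∀ y : ↥Xb, y ⤳ x → y = x) ∧
        ¬ (ℓ ∣ (Module.length (Xb.presheaf.stalk x) (Xb.presheaf.stalk x)).toNat)) :
    Function.Bijective
      (pullback.snd f (Spec.map (CommRingCat.ofHom (IsLocalRing.residue R)))).appTop.hom := by
  let k := IsLocalRing.ResidueField R
  let K := AlgebraicClosure k
  let ρ : Spec (CommRingCat.of k) ⟶ Spec (CommRingCat.of R) := Spec.map (CommRingCat.ofHom (IsLocalRing.residue R))
  let c : Spec (CommRingCat.of K) ⟶ Spec (CommRingCat.of k) := Spec.map (CommRingCat.ofHom (algebraMap k K))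
  haveI : IsClosedImmersion ρ := IsClosedImmersion.spec_of_surjective _ IsLocalRing.residue_surjective
  let P := pullback f ρ
  let gs : P ⟶ X := pullback.fst f ρ
  let sP : P ⟶ Spec (CommRingCat.of k) := pullback.snd f ρ
  haveI : IsClosedImmersion gs := MorphismProperty.pullback_fst f ρ ‹IsClosedImmersion ρ›
  haveI : IsProper sP := MorphismProperty.pullback_snd f ρ ‹IsProper f›
  haveI : Flat (Over.mk f).hom := ‹Flat f›
  -- the closed fibre is connected
  haveI : ConnectedSpace P := by
    have h1 := hconn k
    rw [Algebra.algebraMap_self, RingHom.id_comp] at h1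
    exact h1
  have hrange : Set.range gs.base = Models.specialFibreSet R (Over.mk f) := by
    rw [Scheme.Pullback.range_fst]
    refine Set.ext fun z => ⟨fun hz => ?_, fun hz => ⟨IsLocalRing.closedPoint k, ?_⟩⟩
    · obtain ⟨w, hw⟩ := hz
      show f.base z = IsLocalRing.closedPoint R
      rw [← hw]
      refine PrimeSpectrum.ext ?_
      show Ideal.comap (IsLocalRing.residue R) w.asIdeal = IsLocalRing.maximalIdeal R
      rw [(Ideal.eq_bot_or_top w.asIdeal).resolve_right w.isPrime.ne_top]
      exact IsLocalRing.ker_residue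
    · refine Eq.trans ?_ (hz : f.base z = IsLocalRing.closedPoint R).symm
      refine PrimeSpectrum.ext ?_
      show Ideal.comap (IsLocalRing.residue R) (IsLocalRing.maximalIdeal k) = IsLocalRing.maximalIdeal R
      rw [IsLocalRing.maximalIdeal_eq_bot]
      exact IsLocalRing.ker_residue
  have hpre : _root_.IsPreconnected (Models.specialFibreSet R (Over.mk f)) :=
    hrange ▸ isPreconnected_range gs.continuous
  obtain ⟨n, Γ, hΓ⟩ := VertInter.exists_componentList f hdim hpre
  -- the geometric fibre over the closed fibre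
  let Xb := pullback f (Spec.map (CommRingCat.ofHom ((algebraMap k K).comp (IsLocalRing.residue R))))
  have hcρ : Spec.map (CommRingCat.ofHom ((algebraMap k K).comp (IsLocalRing.residue R))) = c ≫ ρ := by
    rw [← Spec.map_comp]; rfl
  have hXb : IsPullback (pullback.fst f (Spec.map (CommRingCat.ofHom ((algebraMap k K).comp (IsLocalRing.residue R)))))
      (pullback.snd f (Spec.map (CommRingCat.ofHom ((algebraMap k K).comp (IsLocalRing.residue R))))) f (c ≫ ρ) :=
    hcρ ▸ IsPullback.of_hasPullback f _
  let sb : Xb ⟶ Spec (CommRingCat.of K) := pullback.snd f _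
  let q : Xb ⟶ P := pullback.lift (pullback.fst f _) (sb ≫ c) (by rw [Category.assoc]; exact hXb.w)
  have hq : IsPullback q sb sP c := IsPullback.of_right
    (by rw [pullback.lift_fst]; exact hXb) (pullback.lift_snd _ _ _) (IsPullback.of_hasPullback f ρ)
  haveI : Flat q := MorphismProperty.of_isPullback (P := @Flat) hq.flip inferInstance
  -- multiplicities divide the geometric ones
  have hmult : ∀ x : Xb, (∀ y : Xb, y ⤳ x → y = x) → ∃ i,
      Models.mult R (Over.mk f) (Γ i) ∣ (Module.length (Xb.presheaf.stalk x) (Xb.presheaf.stalk x)).toNat := by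
    intro x hx
    have hzs : gs (q x) ∈ Models.specialFibreSet R (Over.mk f) := hrange.le ⟨q x, rfl⟩
    have hcomp : closure ({gs (q x)} : Set X) ∈ Models.fibreComponents R (Over.mk f) := by
      refine ⟨⟨isIrreducible_singleton.closure, (Models.isClosed_specialFibreSet R (Over.mk f)).closure_subset_iff.mpr
        (Set.singleton_subset_iff.mpr hzs)⟩, ?_⟩
      rintro S ⟨hSi, hSs⟩ hle
      have hη := hSi.isGenericPoint_genericPoint_closure
      set η := hSi.genericPoint
      have hηs : η ∈ Models.specialFibreSet R (Over.mk f) :=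
        ((Models.isClosed_specialFibreSet R (Over.mk f)).closure_subset_iff.mpr hSs) hη.mem
      obtain ⟨z', hz'⟩ := hrange.ge hηs
      have h1 : gs.base z' ⤳ gs.base (q x) := hz' ▸ hη.specializes (subset_closure (hle (subset_closure rfl)))
      have h2 : z' ⤳ q x := gs.isEmbedding.isInducing.specializes_iff.mp h1
      obtain ⟨w, hw, rfl⟩ := exists_specializes q x h2
      rw [hx w hw] at hz'
      calc S ⊆ closure S := subset_closure
        _ = closure {η} := hη.def.symm
        _ = closure {gs (q x)} := by rw [← hz']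
    obtain ⟨i, hi⟩ : closure ({gs (q x)} : Set X) ∈
        Set.range (fun i => Set.range ((Γ i).ι.base : (Γ i).curve.left → X)) := hΓ.2.ge hcomp
    refine ⟨i, ?_⟩
    have hpt : Models.genPtOf R (Over.mk f) (Γ i) = gs (q x) := by
      refine IsGenericPoint.eq (S := closure ({gs (q x)} : Set X)) ?_ isGenericPoint_closure
      show closure {(Γ i).ι.base (genericPoint (Γ i).curve.left)} = _
      rw [← S3313.range_eq_closure (Γ i).ι]
      exact hi
    have hlen : Models.mult R (Over.mk f) (Γ i) =
        (Module.length (P.presheaf.stalk (q x)) (P.presheaf.stalk (q x))).toNat := by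
      rw [Models.mult, hpt]
      exact congrArg ENat.toNat (S1868.length_stalk_eq (gs.stalkMap (q x)).hom (gs.stalkMap_surjective (q x)) _
        (S19920.ker_stalkMap_eq R f gs sP (IsPullback.of_hasPullback f ρ) (q x)))
    rw [hlen, CycLib.FlatBC.length_stalk_flat q x]
    exact dvd_mul_right _ _
  have hgcd : Models.multGcd R (Over.mk f) Γ = 1 := by
    refine Nat.eq_one_iff_not_exists_prime_dvd.mpr fun ℓ hℓ hdvd => ?_
    obtain ⟨x, hx, hnd⟩ := hd ℓ hℓ
    obtain ⟨i, hi⟩ := hmult x hx
    exact hnd ((hdvd.trans (Finset.gcd_dvd (Finset.mem_univ i))).trans hi)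
  -- functions on the closed fibre form a finite field extension of `k`
  have hF : IsField Γ(P, ⊤) := by
    have h1 := isField_fibre f hreg Γ hΓ hpre hgcd
    have hker : gs.ker = Models.specialFibreIdeal R (Over.mk f) := by
      rw [Scheme.IdealSheafData.ker_fst_of_isClosedImmersion, ker_SpecMap_residue]
      rfl
    rw [← hker] at h1
    haveI : IsIso gs.toImage := inferInstance
    haveI : IsIso gs.toImage.appTop := by
      show IsIso (Scheme.Γ.map gs.toImage.op)
      infer_instance
    exact MulEquiv.isField h1 ((asIso gs.toImage.appTop).commRingCatIsoToRingEquiv).symm.toMulEquiv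
  let F : Type u := Γ(P, ⊤)
  letI : Field F := hF.toField
  let σ : k →+* F := Coh.toGlobal sP
  letI : Algebra k F := σ.toAlgebra
  have hfin : σ.Finite := Hens.CoupleProper.finite_toGlobal sP
  haveI : Module.Finite k F := hfin
  suffices h1 : Module.finrank k F = 1 by
    have h2 : Function.Bijective σ :=
      ⟨σ.injective, fun a => by
        obtain ⟨r, hr⟩ := (finrank_eq_one_iff_of_nonzero' (1 : F) one_ne_zero).mp h1 a
        exact ⟨r, by rw [← hr, Algebra.smul_def, mul_one]; rfl⟩⟩
    have h3 := h2.comp (ConcreteCategory.bijective_of_isIso (Scheme.ΓSpecIso (CommRingCat.of k)).hom)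
    convert h3 using 1
    funext a
    show sP.appTop a = sP.appTop ((Scheme.ΓSpecIso (CommRingCat.of k)).inv ((Scheme.ΓSpecIso (CommRingCat.of k)).hom a))
    rw [Iso.hom_inv_id_apply]
  -- the scheme of constants of the geometric fibre is one point of length `[F : k]`
  let e : Spec (CommRingCat.of F) ⟶ Spec (CommRingCat.of k) := Spec.map (CommRingCat.ofHom σ)
  have he : P.toSpecΓ ≫ e = sP := by
    show P.toSpecΓ ≫ Spec.map ((Scheme.ΓSpecIso (CommRingCat.of k)).inv ≫ sP.appTop) = sP
    rw [Spec.map_comp, ← Scheme.toSpecΓ_naturality_assoc, toSpecΓ_SpecMap_ΓSpecIso_inv, Category.comp_id]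
  haveI : IsFinite e := (IsFinite.SpecMap_iff _).mpr hfin
  haveI : Subsingleton (Spec Γ(P, ⊤)) := inferInstanceAs (Subsingleton (PrimeSpectrum F))
  haveI : IsIntegral (Spec Γ(P, ⊤)) := inferInstanceAs (IsIntegral (Spec (CommRingCat.of F)))
  haveI : Flat P.toSpecΓ := inferInstance
  haveI : Surjective P.toSpecΓ := ⟨fun y => ⟨Classical.arbitrary P, Subsingleton.elim _ _⟩⟩
  let T := pullback e c
  let cT : T ⟶ Spec (CommRingCat.of K) := pullback.snd e c
  haveI : IsFinite cT := MorphismProperty.pullback_snd e c ‹IsFinite e›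
  haveI : Flat cT := BddFibLib.flat_of_isFinite cT
  let r : Xb ⟶ T := pullback.lift (q ≫ P.toSpecΓ) sb (by rw [Category.assoc, he]; exact hq.w)
  have hr : IsPullback r q (pullback.fst e c) P.toSpecΓ := by
    refine IsPullback.of_right (h₁₂ := cT) (v₁₃ := c) (h₂₂ := e) ?_ (pullback.lift_fst _ _ _) (IsPullback.of_hasPullback e c).flip
    rw [he, pullback.lift_snd]
    exact hq.flip
  haveI : Flat r := MorphismProperty.of_isPullback (P := @Flat) hr.flip inferInstance
  haveI : Surjective r := MorphismProperty.of_isPullback (P := @Surjective) hr.flip inferInstance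
  haveI : ConnectedSpace Xb := hconn K
  haveI : ConnectedSpace T := r.surjective.connectedSpace r.continuous
  haveI : IsLocallyArtinian T := .of_locallyQuasiFinite cT
  haveI : DiscreteTopology T := inferInstance
  haveI : Subsingleton T := PreconnectedSpace.trivial_of_discrete
  have hdvd : ∀ x : Xb, Module.finrank k F ∣ (Module.length (Xb.presheaf.stalk x) (Xb.presheaf.stalk x)).toNat := by
    intro x
    haveI := BddFibLib.finite_points cT
    haveI := Fintype.ofFinite T
    have hcl : IsClosed ({r x} : Set T) := isClosed_discrete _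
    have hdeg : cT.residueDegree (r x) = 1 := CycLib.residueDegree_eq_one cT (r x)
      (S10867.residueFieldMap_bijective cT (𝟙 _) (r x) hcl).2
    let v : Spec (CommRingCat.of K) := cT (r x)
    have h1 := (S1868.finrank_sections cT v).2
    rw [S1868.sum_length_mul_residueDegree cT, Fintype.sum_subsingleton _ (r x), hdeg, mul_one,
      Scheme.Hom.finrank_pullback_snd e c v,
      Scheme.Hom.finrank_SpecMap_eq_finrank hfin (inferInstanceAs (Module.Flat k F)),
      show (CommRingCat.ofHom σ).hom = algebraMap k F from rfl, RingHom.finrank_algebraMap,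
      Module.rankAtStalk_eq_finrank_of_free] at h1
    rw [CycLib.FlatBC.length_stalk_flat r x, ← h1]
    exact dvd_mul_right _ _
  refine Nat.eq_one_iff_not_exists_prime_dvd.mpr fun ℓ hℓ hdv => ?_
  obtain ⟨x, -, hnd⟩ := hd ℓ hℓ
  exact hnd (hdv.trans (hdvd x))

end Groth.Agent.S8723
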