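import Groth.Statements.S8724
import Mathlib

set_option autoImplicit false
open LefPen

namespace Groth.Agent.S8724

theorem inner_sum {R : Type*} [CommRing R] (f : ℕ → R) (M i N : ℕ) (hMN : M ≤ N) :
    (∑ j ∈ Finset.range N, if i + j + 1 = M then f j else 0) = if i < M then f (M - 1 - i) else 0 := by
  split_ifs with h
  · rw [Finset.sum_eq_single (M - 1 - i)]
    · rw [if_pos (by omega)]
    · intro j _ hj
      rw [if_neg (by omega)]
    · intro hj
      exact absurd (Finset.mem_range.2 (by omega)) hj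
  · refine Finset.sum_eq_zero fun j _ => if_neg (by omega)

theorem key1 {R : Type*} [CommRing R] (c : ℕ → R) (y z : R) (M N : ℕ) (hMN : M ≤ N + 1) :
    ∑ m ∈ Finset.range M, c m * (y ^ m - z ^ m) =
      (y - z) * ∑ i ∈ Finset.range N, ∑ j ∈ Finset.range N,
        if i + j + 1 < M then c (i + j + 1) * y ^ i * z ^ j else 0 := by
  induction M with
  | zero => simp
  | succ M ih =>
    have hd : ∀ i j : ℕ, (if i + j + 1 < M + 1 then c (i + j + 1) * y ^ i * z ^ j else 0) =
        (if i + j + 1 < M then c (i + j + 1) * y ^ i * z ^ j else 0) +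
          (if i + j + 1 = M then c M * y ^ i * z ^ j else 0) := by
      intro i j
      rcases Nat.lt_trichotomy (i + j + 1) M with h | h | h
      · rw [if_pos (by omega), if_pos h, if_neg (by omega), add_zero]
      · rw [if_pos (by omega), if_neg (by omega), if_pos h, zero_add, h]
      · rw [if_neg (by omega), if_neg (by omega), if_neg (by omega), add_zero]
    rw [Finset.sum_range_succ, ih (by omega)]
    simp only [hd, Finset.sum_add_distrib]
    rw [mul_add]
    congr 1
    simp only [inner_sum (fun j => c M * y ^ _ * z ^ j) M _ N (by omega)]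
    rw [← Finset.sum_filter]
    have hf : (Finset.range N).filter (fun i => i < M) = Finset.range M := by
      ext i; simp only [Finset.mem_filter, Finset.mem_range]; omega
    rw [hf, ← geom_sum₂_mul, Finset.sum_mul, Finset.mul_sum, Finset.mul_sum]
    refine Finset.sum_congr rfl fun i _ => ?_
    ring

theorem key2 {R : Type*} [CommRing R] (c : ℕ → R) (y z : R) (M N : ℕ) (hMN : M ≤ N + 1) :
    ∑ m ∈ Finset.range M, c m * (y ^ m * z - z ^ m * y) =
      (y - z) * ((if 0 < M then - c 0 else 0) + ∑ i ∈ Finset.range N, ∑ j ∈ Finset.range N,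
        if 1 ≤ i ∧ 1 ≤ j ∧ i + j < M then c (i + j) * y ^ i * z ^ j else 0) := by
  induction M with
  | zero => simp
  | succ M ih =>
    have hd : ∀ i j : ℕ, (if 1 ≤ i ∧ 1 ≤ j ∧ i + j < M + 1 then c (i + j) * y ^ i * z ^ j else 0) =
        (if 1 ≤ i ∧ 1 ≤ j ∧ i + j < M then c (i + j) * y ^ i * z ^ j else 0) +
          (if 1 ≤ i ∧ 1 ≤ j ∧ i + j = M then c M * y ^ i * z ^ j else 0) := by
      intro i j
      by_cases h1 : 1 ≤ i ∧ 1 ≤ j ∧ i + j < M
      · rw [if_pos h1, if_pos ⟨h1.1, h1.2.1, by omega⟩, if_neg (by omega), add_zero]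
      · rw [if_neg h1, zero_add]
        by_cases h2 : 1 ≤ i ∧ 1 ≤ j ∧ i + j = M
        · rw [if_pos h2, if_pos ⟨h2.1, h2.2.1, by omega⟩, h2.2.2]
        · rw [if_neg h2, if_neg (by omega)]
    rw [Finset.sum_range_succ, ih (by omega)]
    simp only [hd, Finset.sum_add_distrib]
    rcases M with _ | M
    · have h0 : ∀ i j : ℕ, ¬ (1 ≤ i ∧ 1 ≤ j ∧ i + j = 0) := fun i j h => by omega
      simp only [h0, if_false, Finset.sum_const_zero, add_zero, lt_irrefl, Nat.not_lt_zero,
        and_false, Nat.zero_add, zero_lt_one, if_true, pow_zero]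
      ring
    have hin : ∀ i : ℕ, (∑ j ∈ Finset.range N,
        if 1 ≤ i ∧ 1 ≤ j ∧ i + j = M + 1 then c (M + 1) * y ^ i * z ^ j else 0) =
          if 1 ≤ i ∧ i ≤ M then c (M + 1) * y ^ i * z ^ (M + 1 - i) else 0 := by
      intro i
      split_ifs with h
      · rw [Finset.sum_eq_single (M + 1 - i)]
        · rw [if_pos (by omega)]
        · intro j _ hj
          rw [if_neg (by omega)]
        · intro hj
          exact absurd (Finset.mem_range.2 (by omega)) hj
      · exact Finset.sum_eq_zero fun j _ => if_neg (by omega)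
    simp only [hin]
    rw [← Finset.sum_filter]
    have hf : (Finset.range N).filter (fun i => 1 ≤ i ∧ i ≤ M) = Finset.Ico 1 (M + 1) := by
      ext i; simp only [Finset.mem_filter, Finset.mem_range, Finset.mem_Ico]; omega
    rw [hf, Finset.sum_Ico_eq_sum_range]
    simp only [Nat.succ_pos, if_true, Nat.add_sub_cancel]
    have h2 : ∑ k ∈ Finset.range M, c (M + 1) * y ^ (1 + k) * z ^ (M + 1 - (1 + k)) =
        c (M + 1) * (y * z) * ∑ k ∈ Finset.range M, y ^ k * z ^ (M - 1 - k) := by
      rw [Finset.mul_sum]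
      refine Finset.sum_congr rfl fun k hk => ?_
      have : k < M := Finset.mem_range.1 hk
      rw [show M + 1 - (1 + k) = (M - 1 - k) + 1 by omega]
      ring
    rw [h2]
    linear_combination c (M + 1) * (y * z) * (geom_sum₂_mul y z M).symm


/-- The algebraic identity established in its proof: let a >= 1 and work in Z[y, z]. Then (1+y)^(a-1) -
(1+z)^(a-1) = (y - z) * (sum over i, j >= 0 with i + j + 1 <= a - 1 of C(a-1, i+j+1) y^i z^j), and
(1+y)^a z - (1+z)^a y = (y - z) * (-1 + sum over i, j >= 1 with i + j <= a of C(a, i+j) y^i z^j).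
Consequently the rational function -((1+y)^(a-1) - (1+z)^(a-1)) / ((1+y)^a z - (1+z)^a y), the
generating series of the primitive middle Hodge numbers of smooth hypersurfaces of degree a, equals
(sum_{i,j >= 0} C(a-1, i+j+1) y^i z^j) / (1 - sum_{i,j >= 1} C(a, i+j) y^i z^j). -/
theorem result (a : ℕ) (ha : 1 ≤ a) :
    let y : MvPolynomial (Fin 2) ℤ := MvPolynomial.X 0
    let z : MvPolynomial (Fin 2) ℤ := MvPolynomial.X 1
    ((1 + y) ^ (a - 1) - (1 + z) ^ (a - 1) =
      (y - z) * ∑ i ∈ Finset.range a, ∑ j ∈ Finset.range a,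
        if i + j + 1 ≤ a - 1 then ((a - 1).choose (i + j + 1) : MvPolynomial (Fin 2) ℤ) * y ^ i * z ^ j else 0) ∧
    ((1 + y) ^ a * z - (1 + z) ^ a * y =
      (y - z) * (-1 + ∑ i ∈ Finset.range (a + 1), ∑ j ∈ Finset.range (a + 1),
        if 1 ≤ i ∧ 1 ≤ j ∧ i + j ≤ a then (a.choose (i + j) : MvPolynomial (Fin 2) ℤ) * y ^ i * z ^ j else 0)) := by
  intro y z
  constructor
  · have h := key1 (fun m => ((a - 1).choose m : MvPolynomial (Fin 2) ℤ)) y z a a (by omega)
    refine Eq.trans ?_ (h.trans ?_)
    · rw [add_comm 1 y, add_comm 1 z, add_pow, add_pow, ← Finset.sum_sub_distrib,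
        show a - 1 + 1 = a by omega]
      refine Finset.sum_congr rfl fun m _ => ?_
      simp only [one_pow, mul_one]
      ring
    · refine congrArg _ (Finset.sum_congr rfl fun i _ => Finset.sum_congr rfl fun j _ => ?_)
      simp only [show (i + j + 1 < a) = (i + j + 1 ≤ a - 1) from propext ⟨by omega, by omega⟩]
  · have h := key2 (fun m => (a.choose m : MvPolynomial (Fin 2) ℤ)) y z (a + 1) (a + 1) (by omega)
    refine Eq.trans ?_ (h.trans ?_)
    · rw [add_comm 1 y, add_comm 1 z, add_pow, add_pow, Finset.sum_mul, Finset.sum_mul,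
        ← Finset.sum_sub_distrib]
      refine Finset.sum_congr rfl fun m _ => ?_
      simp only [one_pow, mul_one]
      ring
    · simp only [Nat.succ_pos, if_true, Nat.choose_zero_right, Nat.cast_one]
      refine congrArg (fun t => (y - z) * (-1 + t))
        (Finset.sum_congr rfl fun i _ => Finset.sum_congr rfl fun j _ => ?_)
      simp only [Nat.lt_succ_iff]

end Groth.Agent.S8724
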