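import Groth.Statements.S8731
import Groth.Agent.CIProj49.Hyp
-- import your own Groth.Agent.* helpers here

set_option autoImplicit false
universe u
open CategoryTheory CategoryTheory.Limits AlgebraicGeometry
open LefPen

namespace Groth.Agent.S8731

/-- (iv), the assertions on the structure sheaf: let k be an algebraically closed field, n >= 1, and Q a
quadratic form in n + 2 variables whose zero scheme X = V(Q) ⊂ P^{n+1}_k is smooth over k of
relative dimension n (a smooth quadric of dimension n). Then H^i(X, O_X) = 0 for every i >= 1, and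
the structure map identifies k with H^0(X, O_X). (The published item also computes H^1(X, O_X(1)),
the canonical sheaf and the Picard group, not stated here.) -/
theorem result (k : Type u) [Field k] [IsAlgClosed k] (n : ℕ) (hn : 1 ≤ n)
    (Q : LefPen.Form (n + 1) k 2)
    [SmoothOfRelativeDimension n ((LefPen.hypIdeal Q).subschemeι ≫ CohB1.ProjSpace.toSpec (n + 1) k)] :
    (∀ i : ℕ, 1 ≤ i → Subsingleton (Coh.HH (LefPen.hypIdeal Q).subscheme
        (Coh.structureModule (LefPen.hypIdeal Q).subscheme) i)) ∧
      Function.Bijective ((LefPen.hypIdeal Q).subschemeι ≫ CohB1.ProjSpace.toSpec (n + 1) k).appTop.hom := by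
  refine ⟨fun i hi => ?_, ?_⟩
  · refine Groth.Agent.CIProj49.subsingleton_structure_of_tw (k := k) (n := n + 1) (LefPen.hypIdeal Q).subschemeι i ?_
    by_cases hQ : Q.1 = 0
    · exact Groth.Agent.CIProj49.subsingleton_tw_zero_form Q hQ 0 i hi (by omega)
    · obtain ⟨q, rfl⟩ := Nat.exists_eq_succ_of_ne_zero (show i ≠ 0 by omega)
      exact Groth.Agent.CIProj49.subsingleton_tw_of_hyp Q hQ 0 (q + 1)
        (Groth.Agent.ProjTwist.Pn.subsingleton_twist (n := n + 1) (R := k) 0 q (Or.inr (by omega)))
        (Groth.Agent.ProjTwist.Pn.subsingleton_twist (n := n + 1) (R := k) _ (q + 1) (Or.inr (by omega)))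
  · exact Groth.Agent.CIProj49.bijective_appTop_of_toGlobal _ (Groth.Agent.CIProj49.bijective_toGlobal_hyp Q (by omega) (by norm_num))

end Groth.Agent.S8731
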