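import Groth.Statements.S8737
import Groth.Agent.QSplit86.Structure
import Groth.Agent.Azu.Basic

set_option autoImplicit false
universe u v
open SGA7II

namespace Groth.Agent.S8737

theorem ff_base {A : Type*} [CommRing A] (B : Type*) [CommRing B] [Algebra A B] [Module.FaithfullyFlat A B]
    (Z : Type*) [CommRing Z] [Algebra A Z] : Module.FaithfullyFlat Z (TensorProduct A Z B) := inferInstance

theorem tmul_smul_eq {Z T E : Type*} [CommRing Z] [AddCommGroup T] [Module Z T] [AddCommGroup E] [Module Z E]
    (z : Z) (t : T) (x : E) : TensorProduct.tmul Z t (z • x) = TensorProduct.tmul Z (z • t) x := by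
  rw [TensorProduct.smul_tmul]

set_option maxHeartbeats 3200000 in
set_option synthInstance.maxHeartbeats 400000 in
open TensorProduct in
theorem main {A : Type u} [CommRing A] {V : Type v} [AddCommGroup V] [Module A V] {Q : QuadraticForm A V}
    {m : ℕ} (hm : 1 ≤ m) (S : QSplit86.Splitting Q m) :
    letI : Algebra ↥(Subalgebra.center A ↥(CliffordAlgebra.even Q)) ↥(CliffordAlgebra.even Q) :=
      (Subalgebra.center A ↥(CliffordAlgebra.even Q)).val.toRingHom.toAlgebra'
        (fun c x => (Subalgebra.mem_center_iff.mp c.2 x).symm)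
    Algebra.Etale A ↥(Subalgebra.center A ↥(CliffordAlgebra.even Q)) ∧
      Module.Finite A ↥(Subalgebra.center A ↥(CliffordAlgebra.even Q)) ∧
      Module.Projective A ↥(Subalgebra.center A ↥(CliffordAlgebra.even Q)) ∧
      (∀ p : PrimeSpectrum A, Module.rankAtStalk ↥(Subalgebra.center A ↥(CliffordAlgebra.even Q)) p = 2) ∧
      IsAzumaya ↥(Subalgebra.center A ↥(CliffordAlgebra.even Q)) ↥(CliffordAlgebra.even Q) := by
  classical
  haveI := S.ffl
  haveI := S.etale
  letI iE : Algebra ↥(Subalgebra.center A ↥(CliffordAlgebra.even Q)) ↥(CliffordAlgebra.even Q) :=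
    (Subalgebra.center A ↥(CliffordAlgebra.even Q)).val.toRingHom.toAlgebra'
      (fun c x => (Subalgebra.mem_center_iff.mp c.2 x).symm)
  letI := iE
  letI : SMul ↥(Subalgebra.center A ↥(CliffordAlgebra.even Q)) ↥(CliffordAlgebra.even Q) := iE.toSMul
  letI : Module ↥(Subalgebra.center A ↥(CliffordAlgebra.even Q)) ↥(CliffordAlgebra.even Q) := iE.toModule
  let Z := ↥(Subalgebra.center A ↥(CliffordAlgebra.even Q))
  let E := ↥(CliffordAlgebra.even Q)
  haveI : IsScalarTower A Z E := IsScalarTower.of_algebraMap_eq fun _ => rfl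
  let c := S.cen hm
  haveI : Module.Finite S.B (S.B ⊗[A] Z) := Module.Finite.equiv c.symm.toLinearEquiv
  haveI : Module.Projective S.B (S.B ⊗[A] Z) := Module.Projective.of_equiv c.symm.toLinearEquiv
  obtain ⟨hZfin, hZproj⟩ := Groth.Agent.Azu.projective_of_baseChange (R := A) Z S.B
  haveI := hZfin
  haveI := hZproj
  haveI : Algebra.Etale S.B (S.B × S.B) := by
    let e : (Fin 2 → S.B) ≃ₐ[S.B] S.B × S.B :=
      { RingEquiv.piFinTwo (fun _ => S.B) with commutes' := fun _ => rfl }
    exact Algebra.Etale.of_equiv e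
  haveI : Algebra.Etale S.B (S.B ⊗[A] Z) := Algebra.Etale.of_equiv c.symm
  refine ⟨Algebra.Etale.of_etale_tensorProduct_of_faithfullyFlat (R := A) S.B, hZfin, hZproj, fun p => ?_, ?_⟩
  · obtain ⟨q, rfl⟩ := PrimeSpectrum.comap_surjective_of_faithfullyFlat (A := A) (B := S.B) p
    haveI := q.nontrivial
    rw [← Module.rankAtStalk_baseChange (M := Z) q, Module.rankAtStalk_eq_of_equiv c.toLinearEquiv]
    simp [Module.rankAtStalk_eq_finrank_of_free]
  -- the split centre
  let T := S.B × S.B
  let cz : Z →+* T := c.toAlgHom.toRingHom.comp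
    (Algebra.TensorProduct.includeRight (A := S.B) (B := Z) (R := A)).toRingHom
  letI : Algebra Z T := cz.toAlgebra
  haveI : IsScalarTower A Z T := IsScalarTower.of_algebraMap_eq fun r => by
    show _ = c ((1 : S.B) ⊗ₜ[A] algebraMap A Z r)
    rw [show (1 : S.B) ⊗ₜ[A] algebraMap A Z r = algebraMap S.B (S.B ⊗[A] Z) (algebraMap A S.B r) by
      rw [Algebra.TensorProduct.algebraMap_apply, Algebra.algebraMap_eq_smul_one (A := Z),
        TensorProduct.tmul_smul, TensorProduct.smul_tmul', Algebra.smul_def, mul_one,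
        Algebra.algebraMap_self, RingHom.id_apply], AlgEquiv.commutes]
    exact IsScalarTower.algebraMap_apply A S.B T r
  haveI : Module.FaithfullyFlat Z T := by
    let f : Z ⊗[A] S.B →ₐ[Z] T := Algebra.TensorProduct.lift (Algebra.ofId Z T)
      (IsScalarTower.toAlgHom A S.B T) (fun _ _ => Commute.all _ _)
    have hf : ∀ y, f y = c (TensorProduct.comm A Z S.B y) := fun y => by
      induction y with
      | zero => simp
      | add a b ha hb => simp [ha, hb]
      | tmul z r =>
        show algebraMap Z T z * algebraMap S.B T r = c (r ⊗ₜ z)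
        rw [show algebraMap Z T z = c ((1 : S.B) ⊗ₜ z) from rfl, mul_comm, ← Algebra.smul_def, ← map_smul,
          TensorProduct.smul_tmul', smul_eq_mul, mul_one]
    have hbij : Function.Bijective f := by
      have h2 : ⇑f = ⇑c ∘ ⇑(TensorProduct.comm A Z S.B) := funext hf
      rw [h2]
      exact c.bijective.comp (TensorProduct.comm A Z S.B).bijective
    haveI : Module.FaithfullyFlat Z (Z ⊗[A] S.B) := ff_base S.B _
    exact Module.FaithfullyFlat.of_linearEquiv _ (Z ⊗[A] S.B) (AlgEquiv.ofBijective f hbij).symm.toLinearEquiv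
  -- the algebra over the split centre
  letI iT : Algebra T S.E2 := RingHom.toAlgebra' S.sc.toRingHom (fun x y =>
    Prod.ext (Matrix.scalar_commute x.1 (mul_comm x.1) _).eq (Matrix.scalar_commute x.2 (mul_comm x.2) _).eq)
  let e₀ : E →+* S.E2 := S.ev.toAlgHom.toRingHom.comp
    (Algebra.TensorProduct.includeRight (A := S.B) (B := E) (R := A)).toRingHom
  have he₀ : ∀ z : Z, e₀ (algebraMap Z E z) = S.sc (algebraMap Z T z) := fun z => by
    show S.ev ((1 : S.B) ⊗ₜ[A] (z : E)) = S.sc (c ((1 : S.B) ⊗ₜ[A] z))
    rw [S.sc_cen hm]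
    rfl
  letI : Algebra Z S.E2 := (S.sc.toRingHom.comp (algebraMap Z T)).toAlgebra'
    (fun x y => Algebra.commutes (R := T) (algebraMap Z T x) y)
  haveI : IsScalarTower Z T S.E2 := IsScalarTower.of_algebraMap_eq fun _ => rfl
  let e₁ : E →ₐ[Z] S.E2 := { e₀ with commutes' := he₀ }
  let g : T ⊗[Z] E →ₐ[T] S.E2 :=
    Algebra.TensorProduct.lift (Algebra.ofId T S.E2) e₁ (fun x y => Algebra.commutes x _)
  -- a left inverse
  let h₀ : S.B →ₗ[A] E →ₗ[A] T ⊗[Z] E := LinearMap.mk₂ A (fun r x => algebraMap S.B T r ⊗ₜ[Z] x)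
    (fun _ _ _ => by rw [map_add, TensorProduct.add_tmul])
    (fun a r x => by
      rw [Algebra.smul_def, map_mul, ← IsScalarTower.algebraMap_apply, ← Algebra.smul_def,
        TensorProduct.smul_tmul'])
    (fun _ _ _ => by rw [TensorProduct.tmul_add])
    (fun a r x => by rw [TensorProduct.tmul_smul])
  let h := TensorProduct.lift h₀
  have hsur : Function.Surjective h := fun w => by
    induction w with
    | zero => exact ⟨0, map_zero _⟩
    | add a b ha hb =>
      obtain ⟨a', rfl⟩ := ha; obtain ⟨b', rfl⟩ := hb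
      exact ⟨a' + b', map_add _ _ _⟩
    | tmul t x =>
      obtain ⟨y, rfl⟩ := c.surjective t
      induction y with
      | zero => exact ⟨0, by simp⟩
      | add a b ha hb =>
        obtain ⟨a', ha'⟩ := ha; obtain ⟨b', hb'⟩ := hb
        exact ⟨a' + b', by simp [map_add, ha', hb', TensorProduct.add_tmul]⟩
      | tmul r z =>
        refine ⟨r ⊗ₜ[A] (algebraMap Z E z * x), ?_⟩
        show algebraMap S.B T r ⊗ₜ[Z] (algebraMap Z E z * x) = c (r ⊗ₜ z) ⊗ₜ[Z] x
        rw [← Algebra.smul_def]
        refine (tmul_smul_eq z (algebraMap S.B T r) x).trans ?_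
        rw [Algebra.smul_def, mul_comm,
          ← Algebra.smul_def, show algebraMap Z T z = c ((1 : S.B) ⊗ₜ z) from rfl, ← map_smul,
          TensorProduct.smul_tmul', smul_eq_mul, mul_one]
  have hgh : ∀ y, g (h y) = S.ev y := fun y => by
    induction y with
    | zero => simp
    | add a b ha hb => simp [map_add, ha, hb]
    | tmul r x =>
      show S.sc (algebraMap S.B T r) * S.ev ((1 : S.B) ⊗ₜ[A] x) = _
      rw [AlgHom.commutes, ← Algebra.smul_def, ← map_smul, TensorProduct.smul_tmul', smul_eq_mul, mul_one]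
  have hgb : Function.Bijective g := by
    constructor
    · intro a b hab
      obtain ⟨a, rfl⟩ := hsur a
      obtain ⟨b, rfl⟩ := hsur b
      rw [hgh, hgh] at hab
      rw [S.ev.injective hab]
    · intro z
      obtain ⟨y, rfl⟩ := S.ev.surjective z
      exact ⟨h y, hgh y⟩
  obtain ⟨k, rfl⟩ := Nat.exists_eq_add_of_le' hm
  haveI : Nonempty (QSplit86.P (k + 1) false) := QSplit86.Splitting.nonempty_P hm false
  let σ : QSplit86.P (k + 1) false ≃ QSplit86.P (k + 1) true :=
    Fintype.equivOfCardEq (by rw [QSplit86.Splitting.card_P, QSplit86.Splitting.card_P])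
  let f1 : Matrix (QSplit86.P (k + 1) false) (QSplit86.P (k + 1) false) T ≃ S.E2 :=
    { toFun := fun M => (M.map Prod.fst, (M.map Prod.snd).submatrix σ.symm σ.symm)
      invFun := fun N => Matrix.of fun i j => (N.1 i j, N.2 (σ i) (σ j))
      left_inv := fun M => by ext <;> simp
      right_inv := fun N => by ext <;> simp }
  let eM : Matrix (QSplit86.P (k + 1) false) (QSplit86.P (k + 1) false) T ≃ₐ[T] S.E2 :=
    { f1 with
      map_mul' := fun M N => by
        refine Prod.ext ?_ ?_
        · exact Matrix.map_mul (f := RingHom.fst S.B S.B)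
        · show ((M * N).map (RingHom.snd S.B S.B)).submatrix σ.symm σ.symm =
            (M.map Prod.snd).submatrix σ.symm σ.symm * (N.map Prod.snd).submatrix σ.symm σ.symm
          rw [Matrix.map_mul, Matrix.submatrix_mul_equiv]
          rfl
      map_add' := fun M N => by refine Prod.ext ?_ ?_ <;> ext i j <;> rfl
      commutes' := fun t => by
        refine Prod.ext ?_ ?_ <;> ext i j
        · show Prod.fst ((algebraMap T (Matrix _ _ T) t) i j) = Matrix.scalar _ t.1 i j
          by_cases hij : i = j <;> simp [Matrix.algebraMap_matrix_apply, Matrix.diagonal_apply, hij]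
        · show Prod.snd ((algebraMap T (Matrix _ _ T) t) (σ.symm i) (σ.symm j)) = Matrix.scalar _ t.2 i j
          by_cases hij : i = j <;> simp [Matrix.algebraMap_matrix_apply, Matrix.diagonal_apply, hij] }
  haveI := IsAzumaya.matrix T (QSplit86.P (k + 1) false)
  haveI : IsAzumaya T (T ⊗[Z] E) :=
    IsAzumaya.of_AlgEquiv (R := T) _ _ (eM.trans (AlgEquiv.ofBijective g hgb).symm)
  exact Groth.Agent.Azu.of_baseChange_faithfullyFlat T


/-- Let A be a commutative ring, V a free A-module of rank 2m with m >= 1, and Q a quadratic form on V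
which is non-degenerate in the sense that its polar bilinear form induces a bijection V -> Hom_A(V,
A). Let Z be the centre of the even Clifford algebra C^+(Q), and regard C^+(Q) as a Z-algebra
through the inclusion of the centre. Then Z is an etale A-algebra which is finitely generated
projective of rank 2 at every prime of A, and C^+(Q) is an Azumaya algebra over Z. (The published
statement allows V locally free of rank 2m; this row takes V free.) -/
theorem result (A : Type u) [CommRing A] (V : Type v) [AddCommGroup V] [Module A V]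
    [Module.Free A V] [Module.Finite A V] (m : ℕ) (hm : 1 ≤ m) (hV : Module.finrank A V = 2 * m)
    (Q : QuadraticForm A V) (hQ : Function.Bijective (QuadraticMap.polarBilin Q)) :
    letI : Algebra ↥(Subalgebra.center A ↥(CliffordAlgebra.even Q)) ↥(CliffordAlgebra.even Q) :=
      (Subalgebra.center A ↥(CliffordAlgebra.even Q)).val.toRingHom.toAlgebra'
        (fun c x => (Subalgebra.mem_center_iff.mp c.2 x).symm)
    Algebra.Etale A ↥(Subalgebra.center A ↥(CliffordAlgebra.even Q)) ∧
      Module.Finite A ↥(Subalgebra.center A ↥(CliffordAlgebra.even Q)) ∧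
      Module.Projective A ↥(Subalgebra.center A ↥(CliffordAlgebra.even Q)) ∧
      (∀ p : PrimeSpectrum A, Module.rankAtStalk ↥(Subalgebra.center A ↥(CliffordAlgebra.even Q)) p = 2) ∧
      IsAzumaya ↥(Subalgebra.center A ↥(CliffordAlgebra.even Q)) ↥(CliffordAlgebra.even Q) := by
  classical
  rcases subsingleton_or_nontrivial A with hA | hA
  · exfalso
    have h1 : Module.finrank A V = 1 := by
      exact Module.finrank_subsingleton
    omega
  obtain ⟨S⟩ := QSplit86.exists_splitting Q hV hQ
  exact main hm S

end Groth.Agent.S8737
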