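import Groth.Statements.S8738
import Mathlib

set_option autoImplicit false
universe u
open SGA7II

namespace Groth.Agent.S8738

section

variable {k : Type u} [Field k] [CharZero k] {K : Type u} [CommRing K] [Algebra k K] (δ : Derivation k K K)

/-- The exponential series of a derivation. -/
noncomputable def expd (x : K) : PowerSeries K :=
  PowerSeries.mk fun n => algebraMap k K (n.factorial : k)⁻¹ * (⇑δ)^[n] x

/-- A derivation on coefficients. -/
noncomputable def mapD (F : PowerSeries K) : PowerSeries K := PowerSeries.mk fun n => δ (PowerSeries.coeff n F)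

theorem mapD_mul (F G : PowerSeries K) : mapD δ (F * G) = mapD δ F * G + F * mapD δ G := by
  ext n
  simp only [mapD, PowerSeries.coeff_mk, map_add, PowerSeries.coeff_mul, map_sum, Derivation.leibniz,
    smul_eq_mul, ← Finset.sum_add_distrib]
  exact Finset.sum_congr rfl fun p _ => by ring

theorem δ_C_mul (c : k) (z : K) : δ (algebraMap k K c * z) = algebraMap k K c * δ z := by
  rw [← Algebra.smul_def, Derivation.map_smul, Algebra.smul_def]

theorem expd_zero_coeff (x : K) : PowerSeries.coeff 0 (expd δ x) = x := by simp [expd]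

theorem expd_rec (x : K) (n : ℕ) :
    PowerSeries.coeff (n + 1) (expd δ x) * ((n : K) + 1) = δ (PowerSeries.coeff n (expd δ x)) := by
  simp only [expd, PowerSeries.coeff_mk, δ_C_mul, Function.iterate_succ_apply']
  rw [show ((n : K) + 1) = algebraMap k K ((n : k) + 1) by simp, mul_right_comm, ← map_mul]
  congr 2
  rw [Nat.factorial_succ, Nat.cast_mul, Nat.cast_succ, mul_inv_rev, mul_assoc,
    inv_mul_cancel₀ (Nat.cast_add_one_ne_zero n), mul_one]

theorem deriv_expd (x : K) : PowerSeries.derivative K (expd δ x) = mapD δ (expd δ x) := by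
  ext n
  rw [PowerSeries.coeff_derivative, expd_rec]
  simp [mapD]

theorem expd_unique {F G : PowerSeries K} (hF : PowerSeries.derivative K F = mapD δ F)
    (hG : PowerSeries.derivative K G = mapD δ G) (h0 : PowerSeries.coeff 0 F = PowerSeries.coeff 0 G) : F = G := by
  ext n
  induction n with
  | zero => exact h0
  | succ n ih =>
    have h1 := congrArg (PowerSeries.coeff n) hF
    have h2 := congrArg (PowerSeries.coeff n) hG
    simp only [PowerSeries.coeff_derivative, mapD, PowerSeries.coeff_mk, ih] at h1 h2
    have hu : IsUnit ((n : K) + 1) := by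
      rw [show ((n : K) + 1) = algebraMap k K ((n : k) + 1) by simp]
      exact (isUnit_iff_ne_zero.mpr (Nat.cast_add_one_ne_zero n)).map _
    exact hu.mul_left_inj.mp (h1.trans h2.symm)

theorem expd_mul (x y : K) : expd δ (x * y) = expd δ x * expd δ y := by
  refine expd_unique δ (deriv_expd δ _) ?_ ?_
  · rw [Derivation.leibniz, deriv_expd, deriv_expd, mapD_mul, smul_eq_mul, smul_eq_mul]
    ring
  · rw [expd_zero_coeff, PowerSeries.coeff_zero_eq_constantCoeff_apply, map_mul,
      ← PowerSeries.coeff_zero_eq_constantCoeff_apply, ← PowerSeries.coeff_zero_eq_constantCoeff_apply,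
      expd_zero_coeff, expd_zero_coeff]

theorem expd_one : expd δ 1 = 1 := by
  refine expd_unique δ (deriv_expd δ _) ?_ ?_
  · ext n
    rcases n with - | n <;> simp [mapD, PowerSeries.coeff_one]
  · simp [expd_zero_coeff]

theorem expd_pow (x : K) (n : ℕ) : expd δ (x ^ n) = expd δ x ^ n := by
  induction n with
  | zero => simp [expd_one]
  | succ n ih => rw [pow_succ, pow_succ, expd_mul, ih]

theorem key_mem (R : Subring K) (hk : ∀ c : k, algebraMap k K c ∈ R) (hδ : ∀ r ∈ R, δ r ∈ R) (x c : K)
    (hcR : c ∈ R) (hc : ∀ n : ℕ, c * x ^ n ∈ R) (N : ℕ) : c * c * δ x ^ N ∈ R := by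
  have hit : ∀ (n : ℕ) (r : K), r ∈ R → (⇑δ)^[n] r ∈ R := by
    intro n
    induction n with
    | zero => exact fun r h => h
    | succ n ih => intro r h; rw [Function.iterate_succ_apply']; exact hδ _ (ih r h)
  let S : Subring (PowerSeries K) := (PowerSeries.map R.subtype).range
  have hS : ∀ F : PowerSeries K, (∀ n, PowerSeries.coeff n F ∈ R) → F ∈ S := fun F h =>
    ⟨PowerSeries.mk fun n => ⟨_, h n⟩, by ext n; simp⟩
  have hS' : ∀ F ∈ S, ∀ n, PowerSeries.coeff n F ∈ R := by
    rintro _ ⟨G, rfl⟩ n
    simp
  have hE : ∀ r ∈ R, expd δ r ∈ S := fun r hr => hS _ fun n => by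
    simp only [expd, PowerSeries.coeff_mk]
    exact mul_mem (hk _) (hit n r hr)
  have hC : ∀ r ∈ R, PowerSeries.C r ∈ S := fun r hr => hS _ fun n => by
    rw [PowerSeries.coeff_C]; split_ifs
    · exact hr
    · exact zero_mem R
  let T := expd δ x - PowerSeries.C x
  have hmem : PowerSeries.C c * expd δ c * T ^ N ∈ S := by
    rw [show T = expd δ x + -PowerSeries.C x from sub_eq_add_neg _ _, add_pow, Finset.mul_sum]
    refine sum_mem fun i _ => ?_
    have e : PowerSeries.C c * expd δ c * (expd δ x ^ i * (-PowerSeries.C x) ^ (N - i) * (N.choose i : PowerSeries K)) =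
        expd δ (c * x ^ i) * PowerSeries.C (c * x ^ (N - i)) * ((-1) ^ (N - i) * (N.choose i : PowerSeries K)) := by
      rw [expd_mul, expd_pow, map_mul, map_pow, neg_pow]
      ring
    rw [e]
    exact mul_mem (mul_mem (hE _ (hc i)) (hC _ (hc (N - i))))
      (mul_mem (pow_mem (neg_mem (one_mem _)) _) (natCast_mem _ _))
  have hT0 : PowerSeries.constantCoeff T = 0 := by
    rw [← PowerSeries.coeff_zero_eq_constantCoeff_apply, map_sub, expd_zero_coeff, PowerSeries.coeff_zero_C, sub_self]
  obtain ⟨G, hG⟩ := PowerSeries.X_dvd_iff.mpr hT0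
  have hG0 : PowerSeries.constantCoeff G = δ x := by
    have := congrArg (PowerSeries.coeff 1) hG
    rw [PowerSeries.coeff_succ_X_mul, PowerSeries.coeff_zero_eq_constantCoeff_apply] at this
    rw [← this]
    simp [T, expd, PowerSeries.coeff_C]
  have h := hS' _ hmem N
  rw [hG, mul_pow, mul_left_comm, PowerSeries.coeff_X_pow_mul', if_pos le_rfl, Nat.sub_self,
    PowerSeries.coeff_zero_eq_constantCoeff_apply, map_mul, map_mul, map_pow, hG0, PowerSeries.constantCoeff_C,
    ← PowerSeries.coeff_zero_eq_constantCoeff_apply, expd_zero_coeff] at h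
  exact h

end

theorem exists_extension {k : Type u} [Field k] {A : Type u} [CommRing A] [Algebra k A] (D : Derivation k A A) :
    ∃ δ : Derivation k (FractionRing A) (FractionRing A),
      ∀ a, δ (algebraMap A (FractionRing A) a) = algebraMap A (FractionRing A) (D a) := by
  classical
  let K := FractionRing A
  let ι := algebraMap A K
  let φ : A →+* TrivSqZeroExt K K :=
    { toFun := fun a => TrivSqZeroExt.inl (ι a) + TrivSqZeroExt.inr (ι (D a))
      map_one' := by ext <;> simp
      map_mul' := fun a b => by
        ext <;> simp <;> ring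
      map_zero' := by ext <;> simp
      map_add' := fun a b => by ext <;> simp <;> ring }
  have hu : ∀ s : nonZeroDivisors A, IsUnit (φ s) := fun s => by
    rw [TrivSqZeroExt.isUnit_iff_isUnit_fst]
    simpa [φ] using IsLocalization.map_units K s
  let ψ : K →+* TrivSqZeroExt K K := IsLocalization.lift hu
  have hψ : ∀ a, ψ (ι a) = φ a := fun a => IsLocalization.lift_eq hu a
  have hfst : ∀ z, (ψ z).fst = z := by
    have e : ((TrivSqZeroExt.fstHom K K K).toRingHom.comp ψ) = RingHom.id K :=
      IsLocalization.ringHom_ext (nonZeroDivisors A) (RingHom.ext fun a => by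
        simp only [RingHom.comp_apply, RingHom.id_apply]
        change (ψ (ι a)).fst = ι a
        rw [hψ]; simp [φ])
    exact fun z => RingHom.congr_fun e z
  have hconst : ∀ c : k, ψ (algebraMap k K c) = TrivSqZeroExt.inl (algebraMap k K c) := fun c => by
    rw [IsScalarTower.algebraMap_apply k A K, hψ]
    simp [φ, ι]
  let L : K →ₗ[k] K :=
    { toFun := fun z => (ψ z).snd
      map_add' := fun x y => by simp
      map_smul' := fun c z => by
        simp only [Algebra.smul_def, map_mul, RingHom.id_apply, hconst, TrivSqZeroExt.snd_mul,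
          TrivSqZeroExt.fst_inl, TrivSqZeroExt.snd_inl]
        simp }
  refine ⟨Derivation.mk' L (fun x y => ?_), fun a => ?_⟩
  · change (ψ (x * y)).snd = x • (ψ y).snd + y • (ψ x).snd
    rw [map_mul, TrivSqZeroExt.snd_mul, hfst, hfst]
    simp [smul_eq_mul, mul_comm]
  · change (ψ (ι a)).snd = ι (D a)
    rw [hψ]; simp [φ]


/-- Let k be a field of characteristic zero and A a reduced Noetherian local k-algebra of Krull
dimension one, essentially of finite type over k (the local ring of a reduced curve over k at one of
its points), and let A' be the integral closure of A in its total ring of fractions (the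
normalization). Then every k-derivation D of A extends to a k-derivation D' of A', i.e. D' agrees
with D on the image of A. -/
theorem result (k : Type u) [Field k] [CharZero k] (A : Type u) [CommRing A]
    [Algebra k A] [IsReduced A] [IsNoetherianRing A] [IsLocalRing A] [Algebra.EssFiniteType k A]
    (hdim : ringKrullDim A = 1) (D : Derivation k A A) :
    ∃ D' : Derivation k ↥(integralClosure A (FractionRing A)) ↥(integralClosure A (FractionRing A)),
      ∀ a : A, (D' (algebraMap A ↥(integralClosure A (FractionRing A)) a) : FractionRing A) =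
        algebraMap A (FractionRing A) (D a) := by
  classical
  obtain ⟨δ, hδ⟩ := exists_extension D
  let K := FractionRing A
  have hint : ∀ x : K, IsIntegral A x → IsIntegral A (δ x) := by
    intro x hx
    obtain ⟨t, ht⟩ := hx.fg_adjoin_singleton
    obtain ⟨b, hb⟩ := IsLocalization.exist_integer_multiples_of_finset (nonZeroDivisors A) t
    set c : K := algebraMap A K b with hc
    have hall : ∀ z ∈ Subalgebra.toSubmodule (Algebra.adjoin A {x}), c * z ∈ (algebraMap A K).range := by
      intro z hz
      rw [← ht] at hz
      induction hz using Submodule.span_induction with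
      | mem w hw =>
        obtain ⟨a, ha⟩ := hb w hw
        exact ⟨a, by rw [ha, Algebra.smul_def]⟩
      | zero => rw [mul_zero]; exact zero_mem _
      | add u v _ _ hu hv => rw [mul_add]; exact add_mem hu hv
      | smul a u _ hu => rw [Algebra.smul_def, mul_left_comm]; exact mul_mem ⟨a, rfl⟩ hu
    have hpow := key_mem δ (algebraMap A K).range
      (fun c => ⟨algebraMap k A c, (IsScalarTower.algebraMap_apply k A K c).symm⟩)
      (by rintro _ ⟨a, rfl⟩; exact ⟨D a, (hδ a).symm⟩) x c ⟨b, rfl⟩
      (fun n => hall _ (pow_mem (Algebra.subset_adjoin (Set.mem_singleton x)) n))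
    obtain ⟨v, hv⟩ := ((IsLocalization.map_units K b).mul (IsLocalization.map_units K b)).exists_left_inv
    have hle : Subalgebra.toSubmodule (Algebra.adjoin A {δ x}) ≤ Submodule.span A {v} := by
      rw [Algebra.adjoin_eq_span, Submodule.span_le]
      intro z hz
      obtain ⟨n, rfl⟩ := Submonoid.mem_closure_singleton.mp hz
      obtain ⟨a, ha⟩ := hpow n
      refine Submodule.mem_span_singleton.mpr ⟨a, ?_⟩
      rw [Algebra.smul_def, ha, mul_comm, ← mul_assoc, hv, one_mul]
    have hfg : (Subalgebra.toSubmodule (Algebra.adjoin A {δ x})).FG := by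
      have : IsNoetherian A ↥(Submodule.span A {v}) := isNoetherian_span_of_finite A (Set.finite_singleton v)
      exact Module.Finite.iff_fg.mp (Module.Finite.of_injective (Submodule.inclusion hle) (Submodule.inclusion_injective hle))
    exact IsIntegral.of_mem_of_fg _ hfg _ (Algebra.subset_adjoin (Set.mem_singleton _))
  refine ⟨Derivation.mk'
    { toFun := fun x => ⟨δ x.1, hint x.1 x.2⟩
      map_add' := fun x y => Subtype.ext (map_add δ x.1 y.1)
      map_smul' := fun c x => Subtype.ext (δ.map_smul c x.1) }
    (fun x y => Subtype.ext (δ.leibniz x.1 y.1)), fun a => hδ a⟩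

end Groth.Agent.S8738
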