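import Groth.Statements.S8747
import Groth.Agent.AdeqLib.Ext

set_option autoImplicit false
universe u
open CategoryTheory Limits
open Adeq

namespace Groth.Agent.S8747

/-- A short exact sequence `0 → underline(M) → G → L → 0` of module-valued functors on `A`-algebras with
`L` linearly adequate splits, and `G` is adequate. -/
theorem result (A : Type u) [CommRing A]
    (S : ShortComplex (Adeq.MVF A)) (hS : S.ShortExact) (M : ModuleCat.{u + 1} A)
    (e : S.X₁ ≅ (Adeq.underline A).obj M) (hL : Adeq.linAdequate A S.X₃) :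
    Nonempty S.Splitting ∧ Adeq.adequate A S.X₂ := by
  have := hS.mono_f
  have := hS.epi_g
  have h₁ : Adeq.adequate A S.X₁ :=
    Groth.Agent.AdeqLib.adequate_of_iso e.symm (Groth.Agent.AdeqLib.adequate_uobj M)
  obtain ⟨d, ⟨e₃⟩⟩ := Groth.Agent.AdeqLib.exists_isKerU_lin hL
  have h₃ : Adeq.adequate A S.X₃ :=
    Groth.Agent.AdeqLib.adequate_of_iso e₃.symm ⟨_, _, d.φ, ⟨Iso.refl _⟩⟩
  have hi := fun B : Adeq.Alg A => PresheafOfModules.injective_of_mono S.f (Adeq.pt B)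
  have hp := fun B : Adeq.Alg A => PresheafOfModules.surjective_of_epi S.g (Adeq.pt B)
  have hex : ∀ (B : Adeq.Alg A) (y : S.X₂.obj (Adeq.pt B)),
      S.g.app (Adeq.pt B) y = 0 ↔ ∃ x, S.f.app (Adeq.pt B) x = y := fun B y =>
    ⟨fun hy => Groth.Agent.AdeqLib.pw_of_exact (w := S.zero) hS.exact (Adeq.pt B) y hy,
      fun ⟨x, hx⟩ => hx ▸ Groth.Agent.AdeqLib.app_apply_of_comp_zero S.zero (Adeq.pt B) x⟩
  obtain ⟨σ, hσ⟩ := Groth.Agent.AdeqLib.exists_lift_lin h₁ h₃ S.f S.g hi hp hex d e₃.inv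
  exact ⟨⟨ShortComplex.Splitting.ofExactOfSection S hS.exact (e₃.hom ≫ σ)
    (by rw [Category.assoc, hσ, Iso.hom_inv_id]) hS.mono_f⟩,
    Groth.Agent.AdeqLib.adequate_extension h₁ h₃ S.f S.g hi hp hex⟩

end Groth.Agent.S8747
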