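import Groth.Statements.S8788
import Groth.Agent.AdeqAmitsur.Exact
import Groth.Agent.AdeqSite.Refine

set_option autoImplicit false
universe u
open CategoryTheory Limits AlgebraicGeometry
open Adeq

namespace Groth.Agent.S8788

open Groth.Agent.AdeqLib Groth.Agent.AdeqSite Groth.Agent.AdeqAmitsur

local notation "Kf" => Scheme.fppfPrecoverage

variable {S : Scheme.{u}} {R : CommRingCat.{u}}

theorem toSpecΓ_w (V : Over (Spec R)) :
    V.left.toSpecΓ ≫ Spec.map (CommRingCat.ofHom (algebraMap R (gAlg V))) = V.hom := by
  change V.left.toSpecΓ ≫ Spec.map (sMap V) = _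
  rw [Spec.map_comp, ← Category.assoc, ← Scheme.toSpecΓ_naturality, ← SpecMap_ΓSpecIso_hom,
    Category.assoc, ← Spec.map_comp, Iso.inv_hom_id, Spec.map_id, Category.comp_id]

/-- The canonical map to the spectrum of the global functions. -/
noncomputable def toObj (a : Spec R ⟶ S) (V : Over (Spec R)) :
    (Over.map a).obj V ⟶ AdeqSite.obj a (gAlg V) :=
  Over.homMk V.left.toSpecΓ ((Category.assoc _ _ _).symm.trans (congrArg (· ≫ a) (toSpecΓ_w V)))

theorem toObj_nat (a : Spec R ⟶ S) {V V' : Over (Spec R)} (f : V' ⟶ V) :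
    (Over.map a).map f ≫ toObj a V = toObj a V' ≫ AdeqSite.hom a (gHom f) :=
  Over.OverMorphism.ext (Scheme.toSpecΓ_naturality f.left)

/-- `F(Γ(V)) → M(V)`. -/
noncomputable def evalMap (a : Spec R ⟶ S) (M : BigSite.Mod Kf S) :
    secPre ((Adeq.toMVF Kf a).obj M) ⟶ (Over.map a).op ⋙ ((BigSite.toAbMod Kf S).obj M).obj where
  app V := M.val.presheaf.map (toObj a V.unop).op
  naturality V V' f := by
    change M.val.presheaf.map (AdeqSite.hom a (gHom f.unop)).op ≫ M.val.presheaf.map (toObj a V'.unop).op =
      M.val.presheaf.map (toObj a V.unop).op ≫ M.val.presheaf.map ((Over.map a).map f.unop).op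
    rw [← Functor.map_comp, ← Functor.map_comp, ← op_comp, ← op_comp, toObj_nat]

theorem evalMap_bijective (a : Spec R ⟶ S) (M : BigSite.Mod Kf S) (V : Over (Spec R)) [IsAffine V.left] :
    Function.Bijective ((evalMap a M).app (Opposite.op V)).hom := by
  have : IsIso ((Over.forget S).map (toObj a V)) := inferInstanceAs (IsIso V.left.toSpecΓ)
  have : IsIso (toObj a V) := isIso_of_reflects_iso (toObj a V) (Over.forget S)
  exact ConcreteCategory.bijective_of_isIso (M.val.presheaf.map (toObj a V).op)

theorem exactD_transfer {C : Type*} [Category C] [HasFiniteProducts C] (U : C)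
    {P Q : Cᵒᵖ ⥤ AddCommGrpCat.{u + 1}} (φ : P ⟶ Q)
    (hφ : ∀ m, Function.Bijective (φ.app (Opposite.op (O U m))).hom) {m : ℕ} (h : ExactD U P m) :
    ExactD U Q m := by
  intro c hc
  obtain ⟨c, rfl⟩ := (hφ (m + 1)).2 c
  obtain ⟨b, rfl⟩ := h c ((hφ (m + 2)).1 (by rw [D_nat, map_zero]; exact hc))
  exact ⟨(φ.app _).hom b, (D_nat U φ m b).symm⟩

/-- For an adequate `O`-module `M` on the big fppf site of `S`, an affine object `Spec R → S` and a
faithfully flat `R`-algebra `B`, the Cech complex of `M` for the single covering map `Spec B → Spec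
R`, whose degree-`n` term is `M` of the `(n+1)`-fold fibre product of `Spec B` over `Spec R` (the
spectrum of the `(n+1)`-fold tensor power of `B` over `R`) and whose differential is the alternating
sum of the coface maps, is exact in every degree `n ≥ 1`. (Exactness of the extended complex at its
first two terms, namely that `M(Spec R)` maps isomorphically onto the kernel of the first
differential, is a separate statement and not part of this row; in degree `0` the complex without
its first term `M(Spec R)` need not be exact.) -/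
theorem result (S : Scheme.{u}) (M : BigSite.Mod Scheme.fppfPrecoverage S)
    (hM : Adeq.adequateMod Scheme.fppfPrecoverage S M) (R : CommRingCat.{u}) (a : Spec R ⟶ S)
    (B : Type u) [CommRing B] [Algebra R B] [Module.FaithfullyFlat R B] (n : ℕ) (hn : 0 < n) :
    ((cechComplexFunctor (A := AddCommGrpCat.{u + 1})
        (fun _ : PUnit.{u + 2} => (Over.mk (Spec.map (CommRingCat.ofHom (algebraMap R B))) : Over (Spec R)))).obj
      ((Over.map a).op ⋙ ((BigSite.toAbMod Scheme.fppfPrecoverage S).obj M).obj)).ExactAt n := by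
  obtain ⟨n, rfl⟩ := Nat.exists_eq_succ_of_ne_zero hn.ne'
  refine exactAt_of_exactD (covObj (R := R) B) (ι := PUnit.{u + 2}) _ n ?_
  refine exactD_transfer (covObj B) (evalMap a M) (fun m => ?_)
    (exactD_secPre B (n + 1) _ (adequate_toMVF_fppf M hM a))
  have := isAffine_O (R := R) B m
  exact evalMap_bijective a M _

end Groth.Agent.S8788
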