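import Groth.Statements.S8792
import Groth.Agent.LocCoh.SuppHm

set_option autoImplicit false
universe u
open CategoryTheory
attribute [local instance] HasDerivedCategory.standard
open LocCoh

namespace Groth.Agent.S8792

/-- Let A be a Noetherian ring with a dualizing complex, I and J ideals, M a finite A-module, s and d
naturals, and T the set of primes p with V(p) ∩ V(I) ⊆ V(J). Assume: (3) every prime p ∉ V(I) lying
in T admits some q ∈ V(p) ∩ V(J) ∩ V(I) with dim((A/p)_q) ≤ d; (4) every prime p ∉ V(I) not in T has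
depth(M_p) ≥ s or depth(M_p) + dim((A/p)_q) > d + s for all q ∈ V(p) ∩ V(J) ∩ V(I); (6) every prime
p ∉ V(I) lying in T has depth(M_p) > s. Then there is an ideal J₀ ⊆ J with V(J₀) ∩ V(I) = V(J) ∩
V(I) such that for every J' ⊆ J₀ with V(J') ∩ V(I) = V(J) ∩ V(I) and every i ≤ s the comparison map
H^i_{J₀}(M) → H^i_{J'}(M) is bijective and H^i_{J₀}(M) is annihilated by a power of J₀I for i ≤ s;
moreover for i ≤ s the comparison maps H^i_J(M) → H^i_{J₀}(M) and H^i_{J+I}(M) → H^i_J(M) are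
bijective and H^i_J(M) is annihilated by a power of I. -/
theorem result (A : Type u) [CommRing A] [IsNoetherianRing A] (hdc : ∃ ω : Dual.D A, Dual.IsDualizing A ω) (I J : Ideal A) (M : Type u) [AddCommGroup M] [Module A M] [Module.Finite A M] (s d : ℕ) (T : Set (PrimeSpectrum A)) (hT : ∀ p : PrimeSpectrum A, p ∈ T ↔ ∀ q : PrimeSpectrum A, p ≤ q → I ≤ q.asIdeal → J ≤ q.asIdeal) (h3 : ∀ p : PrimeSpectrum A, ¬ I ≤ p.asIdeal → p ∈ T → ∃ q : PrimeSpectrum A, p ≤ q ∧ J ≤ q.asIdeal ∧ I ≤ q.asIdeal ∧ Formal2.dimBetween A p.asIdeal q.asIdeal ≤ ((d : ℕ∞) : WithBot ℕ∞)) (h4 : ∀ p : PrimeSpectrum A, ¬ I ≤ p.asIdeal → p ∉ T → ∀ q : PrimeSpectrum A, p ≤ q → J ≤ q.asIdeal → I ≤ q.asIdeal → (s : ℕ∞) ≤ LocCoh.depth (Localization.AtPrime p.asIdeal) (LocalizedModule p.asIdeal.primeCompl M) ∨ (((d + s : ℕ) : ℕ∞) : WithBot ℕ∞) < ((LocCoh.depth (Localization.AtPrime p.asIdeal) (LocalizedModule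 p.asIdeal.primeCompl M) : ℕ∞) : WithBot ℕ∞) + Formal2.dimBetween A p.asIdeal q.asIdeal) (h6 : ∀ p : PrimeSpectrum A, ¬ I ≤ p.asIdeal → p ∈ T → (s : ℕ∞) < LocCoh.depth (Localization.AtPrime p.asIdeal) (LocalizedModule p.asIdeal.primeCompl M)) : ∃ (J₀ : Ideal A) (hJ₀ : J₀ ≤ J), (J₀ ≤ J ∧ PrimeSpectrum.zeroLocus ((J₀ : Ideal A) : Set A) ∩ PrimeSpectrum.zeroLocus ((I : Ideal A) : Set A) = PrimeSpectrum.zeroLocus ((J : Ideal A) : Set A) ∩ PrimeSpectrum.zeroLocus ((I : Ideal A) : Set A) ∧ (∀ (J' : Ideal A) (hJ' : J' ≤ J₀), PrimeSpectrum.zeroLocus ((J' : Ideal A) : Set A) ∩ PrimeSpectrum.zeroLocus ((I : Ideal A) : Set A) = PrimeSpectrum.zeroLocus ((J : Ideal A) : Set A) ∩ PrimeSpectrum.zeroLocus ((I : Ideal A) : Set A) → ∀ i : ℕ, i ≤ s → Function.Bijective ((Dual2.HmapOfLE hJ' i).app (ModuleCat.of A M)).hom) ∧ (∃ n : ℕ, ∀ a ∈ (J₀ * I) ^ n, ∀ i : ℕ, i ≤ s → ∀ x : LocCoh.H J₀ i M,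 a • x = 0)) ∧ (∀ i : ℕ, i ≤ s → Function.Bijective ((Dual2.HmapOfLE hJ₀ i).app (ModuleCat.of A M)).hom ∧ Function.Bijective ((Dual2.HmapOfLE (le_sup_left : J ≤ J ⊔ I) i).app (ModuleCat.of A M)).hom) ∧ ∃ n : ℕ, ∀ a ∈ I ^ n, ∀ i : ℕ, i ≤ s → ∀ x : LocCoh.H J i M, a • x = 0 := by
  obtain ⟨ω, hω⟩ := hdc
  have hS := Groth.Agent.LocCoh.SuppHm.stable I J T hT
  obtain ⟨J₁, hJ₁, hk₁⟩ := (Groth.Agent.LocCoh.AnnModule.annihilator_iff (M := M) hω hS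
    ((PrimeSpectrum.isClosed_zeroLocus (I : Set A)).stableUnderSpecialization) s).2 fun p q hp hq hpq => by
      by_cases hpT : p ∈ T
      · rw [Groth.Agent.LocCoh.AnnModule.krullDim_Icc hpq, ← WithBot.coe_add,
          show (s : WithBot ℕ∞) = ((s : ℕ∞) : WithBot ℕ∞) from rfl, WithBot.coe_lt_coe]
        exact (h6 p hp hpT).trans_le le_self_add
      · exact Groth.Agent.LocCoh.SuppHm.cond_away hω I J s d T hT h3 h4 hp hpT hq hpq
  obtain ⟨J₀, h, hJ₀T, -⟩ := Groth.Agent.LocCoh.SuppHm.core I J s T hT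
    (hJ₁.trans Set.subset_union_right) hk₁
  obtain ⟨m, hm⟩ := Ideal.exists_pow_le_of_le_radical_of_fg_radical
    ((PrimeSpectrum.zeroLocus_subset_zeroLocus_iff _ _).1 hJ₁) (IsNoetherian.noetherian _)
  have hm' : I ^ (m + 1) ≤ J₁ := (Ideal.pow_le_pow_right m.le_succ).trans hm
  have hk : ∀ i : ℤ, i ≤ s → ∀ c ∈ I ^ (m + 1),
      ∀ x : Groth.Agent.LocCoh.SuppGamma.LT T ((Dual.inD A M)⟦i⟧), c • x = 0 :=
    fun i hi c hc x => (Groth.Agent.LocCoh.AnnModule.kills_HT_iff T s J₁).1 hk₁ i hi c (hm' hc) x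
  have hJT : PrimeSpectrum.zeroLocus (J : Set A) ⊆ T := fun p hp => (hT p).2 fun r hr _ => le_trans hp hr
  have hJIT : T ∩ PrimeSpectrum.zeroLocus ((I ^ (m + 1) : Ideal A) : Set A) ⊆
      PrimeSpectrum.zeroLocus ((J ⊔ I : Ideal A) : Set A) := fun p hp => by
    have hI : I ≤ p.asIdeal := Ideal.IsPrime.le_of_pow_le hp.2
    exact (sup_le ((hT p).1 hp.1 p le_rfl hI) hI : J ⊔ I ≤ p.asIdeal)
  have hcap : T ∩ PrimeSpectrum.zeroLocus ((I ^ (m + 1) : Ideal A) : Set A) ⊆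
      PrimeSpectrum.zeroLocus (J : Set A) :=
    hJIT.trans fun p hp => le_trans (le_sup_left : J ≤ J ⊔ I) hp
  exact ⟨J₀, h.1, h, fun i hi => ⟨Groth.Agent.LocCoh.SuppHm.hm_bijective hk h.1 hcap hJ₀T hi,
      Groth.Agent.LocCoh.SuppHm.hm_bijective hk le_sup_left hJIT hJT hi⟩,
    m + 1, fun a ha i hi x => Groth.Agent.LocCoh.SuppHm.smul_eq_zero hk hcap hJT hi ha x⟩

end Groth.Agent.S8792
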