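import Groth.Statements.S8797
import Groth.Agent.LocCoh.BootPoint
import Groth.Agent.LocCoh.CompIdeal

set_option autoImplicit false
universe u
open CategoryTheory
open Dual2

namespace Groth.Agent.S8797

/-- Let I ⊆ 𝔞 be ideals of a Noetherian ring A with a dualizing complex, d a natural with cd(A, I) ≤ d,
M a finite A-module and s a natural. Assume (c): for every prime p ∉ V(I) and every prime q ∈ V(p) ∩
V(𝔞), either depth(M_p) > s or depth(M_p) + dim((A/p)_q) > d + s. Then for every q ∈ V(𝔞), writing
A', I', M' for the I-adic completions of A_q, IA_q, M_q, one has depth(M'_{p'}) > s for every prime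
p' of A' not containing I' such that the only primes containing both p' and I' are maximal. (The
published statement concludes that all standing conditions of the setting hold; the others follow at
once from the hypotheses, and this row states only this depth condition on completions.) -/
theorem result (A : Type u) [CommRing A] [IsNoetherianRing A] (hdc : ∃ ω : Dual.D A, Dual.IsDualizing A ω) (I 𝔞 : Ideal A) (hI𝔞 : I ≤ 𝔞) (d : ℕ) (hcd : LocCoh.CdLE A I d) (M : Type u) [AddCommGroup M] [Module A M] [Module.Finite A M] (s : ℕ) (hc : ∀ p q : PrimeSpectrum A, p ≤ q → ¬ I ≤ p.asIdeal → 𝔞 ≤ q.asIdeal → (s : ℕ∞) < LocCoh.depth (Localization.AtPrime p.asIdeal) (LocalizedModule p.asIdeal.primeCompl M) ∨ (((d + s : ℕ) : ℕ∞) : WithBot ℕ∞) < ((LocCoh.depth (Localization.AtPrime p.asIdeal) (LocalizedModule p.asIdeal.primeCompl M) : ℕ∞) : WithBot ℕ∞) + Formal2.dimBetween A p.asIdeal q.asIdeal) (T : Set (PrimeSpectrum A)) (hT : T = PrimeSpectrum.zeroLocus ((𝔞 : Ideal A) : Set A)) : ∀ q : PrimeSpectrum A, q ∈ T → ∀ p'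 : PrimeSpectrum (AdicCompletion (I.map (algebraMap A (Localization.AtPrime q.asIdeal))) (Localization.AtPrime q.asIdeal)), ¬ (I.map (algebraMap A (AdicCompletion (I.map (algebraMap A (Localization.AtPrime q.asIdeal))) (Localization.AtPrime q.asIdeal)))) ≤ p'.asIdeal → (∀ q' : PrimeSpectrum (AdicCompletion (I.map (algebraMap A (Localization.AtPrime q.asIdeal))) (Localization.AtPrime q.asIdeal)), p' ≤ q' → (I.map (algebraMap A (AdicCompletion (I.map (algebraMap A (Localization.AtPrime q.asIdeal))) (Localization.AtPrime q.asIdeal)))) ≤ q'.asIdeal → q'.asIdeal.IsMaximal) → (s : ℕ∞) < LocCoh.depth (Localization.AtPrime p'.asIdeal) (LocalizedModule p'.asIdeal.primeCompl (AdicCompletion (I.map (algebraMap A (Localization.AtPrime q.asIdeal))) (LocalizedModule q.asIdeal.primeCompl M))) := by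
  subst hT
  intro q hq p' hp' hall
  obtain ⟨ω, hω⟩ := hdc
  have hIq : I ≤ q.asIdeal := hI𝔞.trans hq
  obtain ⟨hflat, hnoe, -, hloc, hqmax, hqc⟩ := LocCoh.BootPoint.facts I hIq
  let B := LocCoh.BootPoint.Bq I q
  let R := Localization.AtPrime q.asIdeal
  let Mq := LocalizedModule q.asIdeal.primeCompl M
  let eN : TensorProduct A B M ≃ₗ[B] AdicCompletion (I.map (algebraMap A R)) Mq :=
    ((TensorProduct.AlgebraTensorModule.cancelBaseChange A R B B M).symm.trans
      (TensorProduct.AlgebraTensorModule.congr (LinearEquiv.refl B B)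
        (LocalizedModule.equivTensorProduct q.asIdeal.primeCompl M).symm)).trans
      (AdicCompletion.ofTensorProductEquivOfFiniteNoetherian _ Mq)
  have hωB : Dual.IsDualizing B ((DualCx.BaseChange.FD A B).obj ω) :=
    DualCx.Extended.isDualizing hω fun Q hQ => by
      obtain rfl := IsLocalRing.eq_maximalIdeal hQ
      rw [hqc, hqmax]
  let m : PrimeSpectrum B := IsLocalRing.closedPoint B
  have hp'm : p' ≤ m := IsLocalRing.le_maximalIdeal p'.2.ne_top
  let p : PrimeSpectrum A := PrimeSpectrum.comap (algebraMap A B) p'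
  have hp : p'.asIdeal.comap (algebraMap A B) = p.asIdeal := rfl
  have hpI : ¬ I ≤ p.asIdeal := fun h => hp' (Ideal.map_le_iff_le_comap.2 h)
  have hpq : p ≤ q := (Ideal.comap_mono hp'm).trans hqc.le
  have hdep := LocCoh.CompletionDeg.depth_le hω hp hωB M _ eN
  rcases hc p q hpq hpI hq with h | h
  · exact h.trans_le hdep
  have hmin : m.asIdeal ∈ (p'.asIdeal ⊔ I.map (algebraMap A B)).minimalPrimes := by
    refine ⟨⟨m.2, sup_le hp'm ?_⟩, fun Q hQ hQm => ?_⟩
    · exact (Ideal.map_mono hIq).trans hqmax.le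
    · have := hall ⟨Q, hQ.1⟩ (le_sup_left.trans hQ.2) (le_sup_right.trans hQ.2)
      exact (IsLocalRing.eq_maximalIdeal this).ge
  have hdim := LocCoh.CompIdeal.dimBetween_le_cd hωB (Groth.Agent.LocCoh.cdLE_map (B := B) hcd) (q := m) hmin
  rw [LocCoh.SuppHm.dimBetween_eq] at h hdim
  rw [← LocCoh.CompletionDeg.depth_add_eq hω hp hωB M _ eN hpq hp'm
    (LocCoh.CompletionDeg.deg_eq hω hqc hωB hqmax)] at h
  by_contra hcon
  rw [not_lt] at hcon
  refine absurd h (not_lt.2 ?_)
  refine (add_le_add (WithBot.coe_le_coe.2 hcon) hdim).trans (le_of_eq ?_)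
  rw [← WithBot.coe_add, add_comm d s]
  push_cast
  rfl

end Groth.Agent.S8797
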