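import Groth.Statements.S8801
import Groth.Agent.S1958
import Groth.Agent.S0543
import Groth.Agent.Hens.PairEtNhd
import Groth.Agent.EGA4Lib.AdicFibres
import Mathlib.RingTheory.FiniteType
import Mathlib.RingTheory.Polynomial.Basic

set_option autoImplicit false
universe u
open AdicRing

namespace Groth.Agent.S8801

/-- An ideal of the henselization is generated by finitely many of its elements modulo every power. -/
theorem exists_finset_sup_eq {C Ch : Type u} [CommRing C] [IsNoetherianRing C] [CommRing Ch]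
    [Algebra C Ch] (I : Ideal C)
    (hb : ∀ n : ℕ, Function.Bijective
      (Ideal.quotientMap ((I ^ n).map (algebraMap C Ch)) (algebraMap C Ch) Ideal.le_comap_map))
    (J : Ideal Ch) :
    ∃ s : Finset Ch, (↑s : Set Ch) ⊆ (J : Set Ch) ∧
      ∀ n : ℕ, J ≤ Ideal.span (↑s : Set Ch) ⊔ (I ^ n).map (algebraMap C Ch) := by
  haveI : IsNoetherianRing (AdicCompletion I C) := Groth.Agent.S0543.result C I
  let e := fun n => RingEquiv.ofBijective _ (hb n)
  let f : ∀ n : ℕ, Ch →+* C ⧸ I ^ n := fun n =>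
    (e n).symm.toRingHom.comp (Ideal.Quotient.mk ((I ^ n).map (algebraMap C Ch)))
  have hf : ∀ (n : ℕ) (x : Ch) (c : C), x - algebraMap C Ch c ∈ (I ^ n).map (algebraMap C Ch) →
      f n x = Ideal.Quotient.mk _ c := by
    intro n x c h
    apply (e n).injective
    show e n ((e n).symm (Ideal.Quotient.mk ((I ^ n).map (algebraMap C Ch)) x)) = _
    rw [(e n).apply_symm_apply]
    show _ = Ideal.quotientMap ((I ^ n).map (algebraMap C Ch)) (algebraMap C Ch) Ideal.le_comap_map
      (Ideal.Quotient.mk (I ^ n) c)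
    rw [Ideal.quotientMap_mk]
    exact Ideal.Quotient.eq.mpr h
  have hex : ∀ (n : ℕ) (x : Ch), ∃ c : C, x - algebraMap C Ch c ∈ (I ^ n).map (algebraMap C Ch) := by
    intro n x
    obtain ⟨q, hq⟩ := (hb n).2 (Ideal.Quotient.mk _ x)
    obtain ⟨c, rfl⟩ := Ideal.Quotient.mk_surjective q
    rw [Ideal.quotientMap_mk, eq_comm, Ideal.Quotient.eq] at hq
    exact ⟨c, hq⟩
  have hcompat : ∀ {m n : ℕ} (hle : m ≤ n), (Ideal.Quotient.factorPow I hle).comp (f n) = f m := by
    intro m n hle
    refine RingHom.ext fun x => ?_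
    obtain ⟨c, hc⟩ := hex n x
    rw [RingHom.comp_apply, hf n x c hc,
      hf m x c (Ideal.map_mono (Ideal.pow_le_pow_right hle) hc)]
    rfl
  let ι : Ch →+* AdicCompletion I C := AdicCompletion.liftRingHom I f hcompat
  obtain ⟨t, ht, hts⟩ := (Submodule.fg_span_iff_fg_span_finset_subset (R := AdicCompletion I C)
    (ι '' (J : Set Ch))).mp (IsNoetherian.noetherian _)
  classical
  obtain ⟨s, hs, hst⟩ := Finset.subset_set_image_iff.mp ht
  refine ⟨s, hs, fun n x hx => ?_⟩
  have h1 : ι x ∈ (Ideal.span (↑s : Set Ch)).map ι := by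
    rw [Ideal.map_span]
    have hmem : ι x ∈ Submodule.span (AdicCompletion I C) (ι '' (J : Set Ch)) :=
      Submodule.subset_span ⟨x, hx, rfl⟩
    rw [hts, ← hst, Finset.coe_image] at hmem
    exact hmem
  have h2 := Ideal.mem_map_of_mem (AdicCompletion.evalₐ I n).toRingHom h1
  rw [Ideal.map_map] at h2
  have hcomp : (AdicCompletion.evalₐ I n).toRingHom.comp ι = f n :=
    RingHom.ext fun y => AdicCompletion.evalₐ_liftRingHom I f hcompat n y
  rw [hcomp] at h2
  change AdicCompletion.evalₐ I n (ι x) ∈ _ at h2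
  rw [AdicCompletion.evalₐ_liftRingHom I f hcompat n x] at h2
  have hsurj : Function.Surjective (f n) :=
    (e n).symm.surjective.comp Ideal.Quotient.mk_surjective
  obtain ⟨y, hy, hxy⟩ := (Ideal.mem_map_iff_of_surjective (f n) hsurj).mp h2
  have h3 : Ideal.Quotient.mk ((I ^ n).map (algebraMap C Ch)) y = Ideal.Quotient.mk _ x :=
    (e n).symm.injective hxy
  have h4 : x - y ∈ (I ^ n).map (algebraMap C Ch) := Ideal.Quotient.eq.mp h3.symm
  rw [show x = y + (x - y) by ring]
  exact Submodule.add_mem_sup hy h4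


/-- Let A be a Noetherian ring and I an ideal. Let C be an A-algebra of finite type and Cʰ a
henselization of the pair (C, IC), viewed as an A-algebra through C, and let J be an ideal of Cʰ.
Then there is an A-algebra B of finite type whose IB-adic completion is isomorphic as an A-algebra
to the I(Cʰ/J)-adic completion of Cʰ/J (existence of an isomorphism only; the published statement
names no particular map). -/
theorem result (A : Type u) [CommRing A] [IsNoetherianRing A] (I : Ideal A) (C : Type u) [CommRing C] [Algebra A C] [Algebra.FiniteType A C] (Ch : Type u) [CommRing Ch] [Algebra C Ch] [Algebra A Ch] [IsScalarTower A C Ch] (hCh : Hens2.IsPairHenselization C (I.map (algebraMap A C)) Ch) (J : Ideal Ch) : ∃ (B : Type u) (_ : CommRing B) (_ : Algebra A B), Algebra.FiniteType A B ∧ Nonempty (AdicCompletion (I.map (algebraMap A B)) B ≃ₐ[A] AdicCompletion (I.map (algebraMap A (Ch ⧸ J))) (Ch ⧸ J)) := by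
  classical
  haveI : IsNoetherianRing C := Algebra.FiniteType.isNoetherianRing A C
  let K : Ideal C := I.map (algebraMap A C)
  have hb : ∀ n : ℕ, Function.Bijective
      (Ideal.quotientMap ((K ^ n).map (algebraMap C Ch)) (algebraMap C Ch) Ideal.le_comap_map) :=
    (Groth.Agent.S1958.result C K Ch hCh).2
  obtain ⟨s, hsJ, hs⟩ := exists_finset_sup_eq K hb J
  obtain ⟨eCh⟩ := Groth.Agent.Hens.nonempty_pairHenselization_algEquiv hCh
  obtain ⟨S, _, _, hS, θ, z, hz⟩ := Groth.Agent.Hens.PairEtNhd.exists_stage_fun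
    (A := C) (I := K) (fun i : s => eCh.symm (i : Ch))
  haveI := hS
  obtain ⟨S', _, _, hS', φ, π, hπφ, -, hker⟩ :=
    Groth.Agent.Hens.PairEtNhd.exists_etaleNhd ((Groth.Agent.Hens.pairPoint C K).comp θ) 1
      (by rw [map_one]; exact isUnit_one)
  haveI := hS'
  obtain ⟨θ', hθ', -⟩ := Groth.Agent.Hens.existsUnique_algHom_pair π
  have hθθ : θ'.comp φ = θ := Groth.Agent.Hens.pair_eq_of_point (by
    rw [← AlgHom.comp_assoc, hθ', hπφ])
  let ψ : S' →ₐ[C] Ch := eCh.toAlgHom.comp θ'
  have hψs : ∀ i : s, ψ (φ (z i)) = (i : Ch) := fun i => by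
    show eCh (θ' (φ (z i))) = _
    rw [← AlgHom.comp_apply θ' φ, hθθ, hz, eCh.apply_symm_apply]
  have hsurj1 : Function.Surjective
      (Ideal.quotientMap (K.map (algebraMap C S')) (algebraMap C S') Ideal.le_comap_map) := by
    intro y
    obtain ⟨x, rfl⟩ := Ideal.Quotient.mk_surjective y
    obtain ⟨c, hc⟩ := Ideal.Quotient.mk_surjective (π x)
    refine ⟨Ideal.Quotient.mk _ c, ?_⟩
    rw [Ideal.quotientMap_mk, Ideal.Quotient.eq]
    refine hker _ ?_
    rw [map_sub, AlgHom.commutes, ← hc]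
    exact sub_self _
  have hψmap : ∀ (n : ℕ) (x : S'), x ∈ (K ^ n).map (algebraMap C S') →
      ψ x ∈ (K ^ n).map (algebraMap C Ch) := by
    intro n x hx
    have := Ideal.mem_map_of_mem ψ.toRingHom hx
    rw [Ideal.map_map, show ψ.toRingHom.comp (algebraMap C S') = algebraMap C Ch from
      ψ.comp_algebraMap] at this
    exact this
  have hψinj : ∀ (n : ℕ) (x : S'), ψ x ∈ (K ^ n).map (algebraMap C Ch) →
      x ∈ (K ^ n).map (algebraMap C S') := by
    intro n x hx
    obtain ⟨c, hc⟩ := Groth.Agent.Hens.exists_sub_mem_map_pow (I := K) hsurj1 n x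
    have h1 : algebraMap C Ch c ∈ (K ^ n).map (algebraMap C Ch) := by
      have h := hψmap n _ hc
      rw [map_sub, AlgHom.commutes] at h
      have := Submodule.sub_mem _ hx h
      rwa [sub_sub_cancel] at this
    have h2 : c ∈ K ^ n := by
      have : Ideal.quotientMap ((K ^ n).map (algebraMap C Ch)) (algebraMap C Ch) Ideal.le_comap_map
          (Ideal.Quotient.mk _ c) = 0 := by
        rw [Ideal.quotientMap_mk, Ideal.Quotient.eq_zero_iff_mem]
        exact h1
      exact Ideal.Quotient.eq_zero_iff_mem.mp ((hb n).1 (this.trans (map_zero _).symm))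
    have := Submodule.add_mem _ hc (Ideal.mem_map_of_mem (algebraMap C S') h2)
    rwa [sub_add_cancel] at this
  have hψsurj : ∀ (n : ℕ) (y : Ch), ∃ x : S', y - ψ x ∈ (K ^ n).map (algebraMap C Ch) := by
    intro n y
    obtain ⟨q, hq⟩ := (hb n).2 (Ideal.Quotient.mk _ y)
    obtain ⟨c, rfl⟩ := Ideal.Quotient.mk_surjective q
    rw [Ideal.quotientMap_mk, eq_comm, Ideal.Quotient.eq] at hq
    exact ⟨algebraMap C S' c, by rw [AlgHom.commutes]; exact hq⟩
  -- the finite type algebra
  let R : Ideal S' := Ideal.span (Set.range fun i : s => φ (z i))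
  have hRJ : ∀ x ∈ R, ψ x ∈ J := by
    intro x hx
    have h : R ≤ J.comap ψ.toRingHom := Ideal.span_le.mpr (by
      rintro _ ⟨i, rfl⟩
      show ψ (φ (z i)) ∈ J
      rw [hψs]
      exact hsJ i.2)
    exact h hx
  have hJR : ∀ (n : ℕ) (j : Ch), j ∈ J → ∃ x ∈ R, j - ψ x ∈ (K ^ n).map (algebraMap C Ch) := by
    intro n j hj
    obtain ⟨a, ha, b, hb', rfl⟩ := Submodule.mem_sup.mp (hs n hj)
    suffices ∃ x ∈ R, a - ψ x ∈ (K ^ n).map (algebraMap C Ch) by
      obtain ⟨x, hx, hax⟩ := this
      exact ⟨x, hx, by rw [add_sub_right_comm]; exact Submodule.add_mem _ hax hb'⟩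
    clear hj
    induction ha using Submodule.span_induction with
    | mem y hy =>
      exact ⟨φ (z ⟨y, hy⟩), Ideal.subset_span ⟨⟨y, hy⟩, rfl⟩, by rw [hψs, sub_self]; exact zero_mem _⟩
    | zero => exact ⟨0, zero_mem _, by rw [map_zero, sub_self]; exact zero_mem _⟩
    | add y w _ _ h1 h2 =>
      obtain ⟨x1, hx1, h1⟩ := h1
      obtain ⟨x2, hx2, h2⟩ := h2
      exact ⟨x1 + x2, add_mem hx1 hx2, by rw [map_add, add_sub_add_comm]; exact add_mem h1 h2⟩
    | smul r y _ h1 =>
      obtain ⟨x1, hx1, h1⟩ := h1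
      obtain ⟨r', hr'⟩ := hψsurj n r
      refine ⟨r' * x1, Ideal.mul_mem_left _ _ hx1, ?_⟩
      rw [smul_eq_mul, map_mul, show r * y - ψ r' * ψ x1 = r * (y - ψ x1) + (r - ψ r') * ψ x1 by ring]
      exact add_mem (Ideal.mul_mem_left _ _ h1) (Ideal.mul_mem_right _ _ hr')
  letI : Algebra A S' := ((algebraMap C S').comp (algebraMap A C)).toAlgebra
  haveI : IsScalarTower A C S' := .of_algebraMap_eq' rfl
  haveI : Algebra.FiniteType A S' := Algebra.FiniteType.trans (R := A) (S := C) inferInstance inferInstance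
  let B := S' ⧸ R
  let g : B →ₐ[A] Ch ⧸ J := Ideal.Quotient.liftₐ R
    ((Ideal.Quotient.mkₐ A J).comp (ψ.restrictScalars A))
    (fun x hx => Ideal.Quotient.eq_zero_iff_mem.mpr (hRJ x hx))
  letI : Algebra B (Ch ⧸ J) := g.toRingHom.toAlgebra
  haveI : IsScalarTower A B (Ch ⧸ J) := .of_algebraMap_eq fun a => (g.commutes a).symm
  have hIB : ∀ k : ℕ, (I.map (algebraMap A B)) ^ k =
      ((K ^ k).map (algebraMap C S')).map (Ideal.Quotient.mk R) := by
    intro k
    rw [← Ideal.map_pow, ← Ideal.map_pow, Ideal.map_map, Ideal.map_map]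
    rfl
  have hID : ∀ k : ℕ, (I.map (algebraMap A (Ch ⧸ J))) ^ k =
      ((K ^ k).map (algebraMap C Ch)).map (Ideal.Quotient.mk J) := by
    intro k
    rw [← Ideal.map_pow, ← Ideal.map_pow, Ideal.map_map, Ideal.map_map, RingHom.comp_assoc,
      ← IsScalarTower.algebraMap_eq A C Ch]
    rfl
  have hg : ∀ x : S', algebraMap B (Ch ⧸ J) (Ideal.Quotient.mk R x) = Ideal.Quotient.mk J (ψ x) :=
    fun x => rfl
  obtain ⟨E⟩ := Groth.Agent.EGA4Lib.nonempty_adicCompletion_congr
    (R := B) (S := Ch ⧸ J) (I.map (algebraMap A B)) (I.map (algebraMap A (Ch ⧸ J)))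
    (fun k d => by
      obtain ⟨y, rfl⟩ := Ideal.Quotient.mk_surjective d
      obtain ⟨x, hx⟩ := hψsurj k y
      refine ⟨Ideal.Quotient.mk R x, ?_⟩
      rw [hg, ← map_sub, hID]
      exact Ideal.mem_map_of_mem _ hx)
    (fun k b => by
      obtain ⟨x, rfl⟩ := Ideal.Quotient.mk_surjective b
      rw [hg, hID, hIB]
      constructor
      · intro h
        rw [Ideal.mem_quotient_iff_mem_sup] at h ⊢
        obtain ⟨u, hu, j, hj, huj⟩ := Submodule.mem_sup.mp h
        obtain ⟨r, hr, hjr⟩ := hJR k j hj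
        have h5 : ψ (x - r) ∈ (K ^ k).map (algebraMap C Ch) := by
          rw [map_sub, ← huj, add_sub_assoc]
          exact add_mem hu hjr
        rw [show x = (x - r) + r by ring]
        exact Submodule.add_mem_sup (hψinj k _ h5) hr
      · intro h
        rw [Ideal.mem_quotient_iff_mem_sup] at h ⊢
        obtain ⟨u, hu, r, hr, rfl⟩ := Submodule.mem_sup.mp h
        rw [map_add]
        exact Submodule.add_mem_sup (hψmap k u hu) (hRJ r hr))
  exact ⟨B, inferInstance, inferInstance, inferInstance, ⟨(E.symm).restrictScalars A⟩⟩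

end Groth.Agent.S8801
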