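import Groth.Statements.S8804
import Groth.Agent.Adic.Rig.Core
import Groth.Agent.CAlg48.AdicPow

set_option autoImplicit false
universe u
open AdicRing

namespace Groth.Agent.S8804

/-- Let A be a Noetherian ring which is complete for the adic topology of an ideal I, and let q be a
prime ideal of A. The following are equivalent: (1) I ⊄ q and q is maximal among the primes not
containing I; (5) dim(A/q) = 1 and I ⊄ q; (8) A/q is a one-dimensional complete local ring whose
maximal ideal is the radical of the image of I (stated as: the Krull dimension of A/q is 1, every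
maximal ideal of A/q equals the radical of I(A/q), and A/q is adically complete for that radical).
(The other equivalent forms, for other ideals of definition or for the induced topology, are not
stated.) -/
theorem result (A : Type u) [CommRing A] [IsNoetherianRing A] (I : Ideal A) [IsAdicComplete I A] (q : PrimeSpectrum A) : List.TFAE [¬ I ≤ q.asIdeal ∧ ∀ q' : PrimeSpectrum A, q ≤ q' → ¬ I ≤ q'.asIdeal → q' = q, ringKrullDim (A ⧸ q.asIdeal) = 1 ∧ ¬ I ≤ q.asIdeal, ringKrullDim (A ⧸ q.asIdeal) = 1 ∧ (∀ m : Ideal (A ⧸ q.asIdeal), m.IsMaximal → m = (I.map (Ideal.Quotient.mk q.asIdeal)).radical) ∧ IsAdicComplete (I.map (Ideal.Quotient.mk q.asIdeal)).radical (A ⧸ q.asIdeal)] := by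
  open Groth.Agent.Adic.Rig in
  let D := A ⧸ q.asIdeal
  let J := I.map (Ideal.Quotient.mk q.asIdeal)
  have hdim : RigClosed I q.asIdeal → ringKrullDim D = 1 := fun h => by
    refine le_antisymm (Ring.krullDimLE_iff.1 h.krullDimLE) (Order.one_le_krullDim_iff.2 ?_)
    obtain ⟨M, hM, hqM⟩ := h.exists_maximal
    have := hM.isPrime
    refine ⟨⟨⊥, Ideal.isPrime_bot⟩, ⟨M.map (Ideal.Quotient.mk q.asIdeal),
      Ideal.map_isPrime_of_surjective Ideal.Quotient.mk_surjective (by simp [hqM.le])⟩,
      lt_of_le_of_ne bot_le fun e => hqM.ne ?_⟩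
    have e' : (⊥ : Ideal D) = M.map (Ideal.Quotient.mk q.asIdeal) :=
      congrArg PrimeSpectrum.asIdeal e
    have h1 := congrArg (Ideal.comap (Ideal.Quotient.mk q.asIdeal)) e'
    rwa [← RingHom.ker_eq_comap_bot, Ideal.mk_ker, Ideal.comap_map_quotientMk,
      sup_eq_right.2 hqM.le] at h1
  have h51 : ringKrullDim D = 1 ∧ ¬ I ≤ q.asIdeal → RigClosed I q.asIdeal := fun h => by
    have : Ring.KrullDimLE 1 D := Ring.krullDimLE_iff.2 h.1.le
    exact rigClosed_of_krullDimLE h.2
  tfae_have 1 → 2 := fun h => ⟨hdim (rigClosed_of_spec h), h.1⟩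
  tfae_have 2 → 3 := fun h => by
    have hr := h51 h
    have hc := isAdicComplete_quotient (I := I) q.asIdeal
    refine ⟨h.1, fun m hm => ?_, ?_⟩
    · have := Ideal.comap_isMaximal_of_surjective (Ideal.Quotient.mk q.asIdeal)
        Ideal.Quotient.mk_surjective (K := m)
      have hle : q.asIdeal ≤ m.comap (Ideal.Quotient.mk q.asIdeal) := fun x hx => by
        rw [Ideal.mem_comap, Ideal.Quotient.eq_zero_iff_mem.2 hx]; exact zero_mem m
      have hlt : q.asIdeal < m.comap (Ideal.Quotient.mk q.asIdeal) :=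
        lt_of_le_of_ne hle fun e => hr.1 (e ▸ le_of_isMaximal)
      refine Ideal.comap_injective_of_surjective _ Ideal.Quotient.mk_surjective ?_
      rw [hr.eq_radical hlt, Ideal.comap_radical, Ideal.comap_map_quotientMk, sup_comm]
    · obtain ⟨d, hd⟩ := Ideal.exists_radical_pow_le_of_fg J (IsNoetherian.noetherian _)
      exact CAlg48.AdicPow.isAdicComplete_of_pow_le (I := J) (c := 1) (d := d + 1) one_pos
        d.succ_pos ((pow_one _).trans_le Ideal.le_radical)
        ((Ideal.pow_le_pow_right d.le_succ).trans hd)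
  tfae_have 3 → 1 := fun h => by
    refine (h51 ⟨h.1, fun hI => ?_⟩).toSpec
    have h3 : J = ⊥ := by
      rw [eq_bot_iff, Ideal.map_le_iff_le_comap]
      exact fun x hx => by
        rw [Ideal.mem_comap, Ideal.mem_bot, Ideal.Quotient.eq_zero_iff_mem.2 (hI hx)]
    have hb : (⊥ : Ideal D).radical = ⊥ := Ideal.isPrime_bot.radical
    obtain ⟨a, b, hab⟩ := Order.one_le_krullDim_iff.1 h.1.ge
    obtain ⟨M, hM, hle⟩ := Ideal.exists_le_maximal b.asIdeal b.2.ne_top
    have h2 : M = J.radical := h.2.1 M hM
    rw [h3, hb] at h2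
    exact hab.not_ge (show b.asIdeal ≤ a.asIdeal from (hle.trans h2.le).trans bot_le)
  tfae_finish

end Groth.Agent.S8804
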