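import Groth.Statements.S8806
import Groth.Agent.Synt44.JacobianNL

set_option autoImplicit false
universe u
open CategoryTheory
attribute [local instance] HasDerivedCategory.standard
open LCI

namespace Groth.Agent.S8806

/-- Let A be a ring, m ≤ n, f_1, …, f_m ∈ A[x_1, …, x_n], B = A[x_1, …, x_n]/(f_1, …, f_m), and g ∈ B
the image of the determinant of the m × m matrix of partial derivatives ∂f_j/∂x_i with i, j ≤ m (the
first m variables). Then: (1) for every B-module N, g annihilates Ext^1_B(NL_{B/A}, N), i.e. every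
morphism NL_{B/A} → N[1] in D(B) is killed by g; (2) if n = m then multiplication by g on NL_{B/A}
is the zero endomorphism in D(B). -/
theorem result (A : Type u) [CommRing A] (n m : ℕ) (hmn : m ≤ n) (f : Fin m → MvPolynomial (Fin n) A) : (∀ (N : Type u) [AddCommGroup N] [Module (MvPolynomial (Fin n) A ⧸ Ideal.span (Set.range f)) N] (φ : LCI.NL A (MvPolynomial (Fin n) A ⧸ Ideal.span (Set.range f)) ⟶ (Dual.inD (MvPolynomial (Fin n) A ⧸ Ideal.span (Set.range f)) N)⟦(1 : ℤ)⟧), (Ideal.Quotient.mk (Ideal.span (Set.range f)) (Matrix.det (Matrix.of (fun i j : Fin m => MvPolynomial.pderiv (Fin.castLE hmn i) (f j))))) • φ = 0) ∧ (n = m → (Ideal.Quotient.mk (Ideal.span (Set.range f)) (Matrix.det (Matrix.of (fun i j : Fin m => MvPolynomial.pderiv (Fin.castLE hmn i) (f j))))) • 𝟙 (LCI.NL A (MvPolynomial (Fin n) A ⧸ Ideal.span (Set.range f))) = 0) := by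
  exact Groth.Agent.Synt44.JacobianNL.jacobian_smul A n m hmn f

end Groth.Agent.S8806
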