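import Groth.Statements.S8812
-- import your own Groth.Agent.* helpers here

set_option autoImplicit false
universe u
open CategoryTheory AlgebraicGeometry
open Algz

namespace Groth.Agent.S8812

open Algz

variable {Y : Type u} [TopologicalSpace Y]

lemma codimPt_congr {w v w' v' : Y} (hw : w = w') (hv : v = v') (h : w ⤳ v) (h' : w' ⤳ v') :
    codimPt w v h = codimPt w' v' h' := by subst hw hv; rfl

lemma codimPt_self (w : Y) : codimPt w w specializes_rfl = 0 :=
  Order.height_eq_zero.2 fun x _ => x.2

lemma eq_of_codimPt_eq_zero [T0Space Y] {w v : Y} (h : w ⤳ v) (h0 : codimPt w v h = 0) : w = v := by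
  have hmin := Order.height_eq_zero.1 h0
  have h1 := hmin (b := ⟨Specialization.toEquiv v, Set.self_mem_Ici⟩) (Specialization.toEquiv_le_toEquiv.mpr h)
  exact (h.antisymm (Specialization.toEquiv_le_toEquiv.1 h1)).eq

lemma codimPt_mono {w v v' : Y} (h : w ⤳ v) (h' : v ⤳ v') :
    codimPt w v h ≤ codimPt w v' (h.trans h') := by
  refine Order.height_le_height_apply_of_strictMono
    (fun x : Set.Ici (Specialization.toEquiv v) =>
      (⟨x.1, (Specialization.toEquiv_le_toEquiv.mpr h').trans x.2⟩ : Set.Ici (Specialization.toEquiv v')))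
    (fun a b hab => hab) _

/-- One more step at the end of a system. -/
def ext {Z : Set Y} {y : Y} {k : ℕ} (S : DSystem Z y k) {y' : Y} (h : y ⤳ y') : DSystem Z y' (k + 1) where
  v := Fin.snoc S.v y'
  w := Fin.snoc S.w y'
  spec i := by
    cases i using Fin.lastCases with
    | last => simp [specializes_rfl]
    | cast i => simpa using S.spec i
  spec_succ i := by
    cases i using Fin.lastCases with
    | last => rw [Fin.succ_last, Fin.snoc_castSucc, Fin.snoc_last, S.last_eq]; exact h
    | cast i => rw [Fin.succ_castSucc, Fin.snoc_castSucc, Fin.snoc_castSucc]; exact S.spec_succ i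
  start_mem := by
    rw [show (0 : Fin (k + 2)) = (0 : Fin (k + 1)).castSucc from rfl, Fin.snoc_castSucc]
    exact S.start_mem
  last_eq := Fin.snoc_last _ _

lemma ext_delta_le {Z : Set Y} {y : Y} {k : ℕ} (S : DSystem Z y k) {y' : Y} (h : y ⤳ y')
    (he : 1 ≤ codimPt y y' h) (hc : 1 ≤ S.c (Fin.last k)) : (ext S h).delta ≤ S.delta := by
  classical
  have hlast : (ext S h).c (Fin.last (k + 1)) = 0 :=
    (codimPt_congr (w' := y') (v' := y') (Fin.snoc_last (α := fun _ => Y) y' S.w) (Fin.snoc_last (α := fun _ => Y) y' S.v) _ specializes_rfl).trans (codimPt_self y')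
  have hc' : ∀ j : Fin (k + 1), (ext S h).c j.castSucc = S.c j := fun j =>
    codimPt_congr (Fin.snoc_castSucc (α := fun _ => Y) y' S.w j) (Fin.snoc_castSucc (α := fun _ => Y) y' S.v j) _ _
  have hb' : ∀ j : Fin k, (ext S h).b j.castSucc = S.b j := fun j =>
    codimPt_congr (Fin.snoc_castSucc (α := fun _ => Y) y' S.w j.castSucc)
      (show (ext S h).v j.castSucc.succ = S.v j.succ by rw [Fin.succ_castSucc]; exact Fin.snoc_castSucc (α := fun _ => Y) y' S.v j.succ) _ _
  have hblast : (ext S h).b (Fin.last k) = codimPt y y' h :=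
    codimPt_congr ((Fin.snoc_castSucc (α := fun _ => Y) y' S.w (Fin.last k)).trans S.last_eq)
      (show (ext S h).v (Fin.last k).succ = y' by rw [Fin.succ_last]; exact Fin.snoc_last (α := fun _ => Y) y' S.v) _ _
  unfold DSystem.delta
  let M := Finset.univ.sup fun i : Fin (k + 1) =>
    (∑ j ∈ Finset.univ.filter (fun j : Fin (k + 1) => i ≤ j), S.c j) -
      ∑ j ∈ Finset.univ.filter (fun j : Fin k => i.val ≤ j.val), S.b j
  have hM : 1 ≤ M := by
    refine le_trans ?_ (Finset.le_sup (Finset.mem_univ (Fin.last k)))
    have h1 : Finset.univ.filter (fun j : Fin (k + 1) => Fin.last k ≤ j) = {Fin.last k} := by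
      ext j; simp [Fin.last_le_iff]
    have h2 : Finset.univ.filter (fun j : Fin k => (Fin.last k).val ≤ j.val) = ∅ := by
      ext j; simp
    simp only [h1, h2, Finset.sum_singleton, Finset.sum_empty, tsub_zero]
    exact hc
  have hsup : (Finset.univ.sup fun i : Fin (k + 1 + 1) =>
      (∑ j ∈ Finset.univ.filter (fun j : Fin (k + 1 + 1) => i ≤ j), (ext S h).c j) -
        ∑ j ∈ Finset.univ.filter (fun j : Fin (k + 1) => i.val ≤ j.val), (ext S h).b j) ≤ M - 1 := by
    refine Finset.sup_le fun i _ => ?_
    cases i using Fin.lastCases with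
    | last =>
      have h1 : Finset.univ.filter (fun j : Fin (k + 1 + 1) => Fin.last (k + 1) ≤ j) = {Fin.last (k + 1)} := by
        ext j; simp [Fin.last_le_iff]
      rw [h1, Finset.sum_singleton, hlast, zero_tsub]
      exact bot_le
    | cast i =>
      refine le_trans ?_ (tsub_le_tsub_right (Finset.le_sup (Finset.mem_univ i)) 1)
      have e1 : (∑ j ∈ Finset.univ.filter (fun j : Fin (k + 1 + 1) => i.castSucc ≤ j), (ext S h).c j) =
          ∑ j ∈ Finset.univ.filter (fun j : Fin (k + 1) => i ≤ j), S.c j := by
        rw [Finset.sum_filter, Finset.sum_filter, Fin.sum_univ_castSucc]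
        simp only [hc', hlast, Fin.castSucc_le_castSucc_iff, ite_self, add_zero]
      have e2 : (∑ j ∈ Finset.univ.filter (fun j : Fin (k + 1) => i.castSucc.val ≤ j.val), (ext S h).b j) =
          (∑ j ∈ Finset.univ.filter (fun j : Fin k => i.val ≤ j.val), S.b j) + codimPt y y' h := by
        rw [Finset.sum_filter, Finset.sum_filter, Fin.sum_univ_castSucc]
        simp only [hb', hblast, Fin.val_castSucc]
        rw [if_pos (show i.val ≤ (Fin.last k).val from Nat.lt_succ_iff.1 i.2)]
      rw [e1, e2, tsub_tsub]
      exact tsub_le_tsub_left (add_le_add le_rfl he) _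
  refine (add_le_add le_rfl hsup).trans ?_
  rw [Nat.cast_add, Nat.cast_one, add_assoc, add_tsub_cancel_of_le hM]

/-- Replace the last degenerate step of a system. -/
def repl {Z : Set Y} {y : Y} {k : ℕ} (S : DSystem Z y (k + 1)) {y' : Y} (h : y ⤳ y')
    (hv : S.v (Fin.last (k + 1)) = y) : DSystem Z y' (k + 1) where
  v := Function.update S.v (Fin.last (k + 1)) y'
  w := Function.update S.w (Fin.last (k + 1)) y'
  spec i := by
    by_cases hi : i = Fin.last (k + 1)
    · subst hi; simp [specializes_rfl]
    · simpa [Function.update_of_ne hi] using S.spec i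
  spec_succ i := by
    rw [Function.update_of_ne (Fin.castSucc_lt_last i).ne]
    by_cases hi : i.succ = Fin.last (k + 1)
    · rw [hi, Function.update_self]
      have h1 := S.spec_succ i
      rw [hi, hv] at h1
      exact h1.trans h
    · rw [Function.update_of_ne hi]; exact S.spec_succ i
  start_mem := by
    rw [Function.update_of_ne (show (0 : Fin (k + 1 + 1)) ≠ Fin.last (k + 1) from fun e => by simpa using congrArg Fin.val e)]
    exact S.start_mem
  last_eq := Function.update_self _ _ _

lemma repl_delta_le {Z : Set Y} {y : Y} {k : ℕ} (S : DSystem Z y (k + 1)) {y' : Y} (h : y ⤳ y')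
    (hv : S.v (Fin.last (k + 1)) = y) : (repl S h hv).delta ≤ S.delta := by
  unfold DSystem.delta
  refine add_le_add le_rfl (Finset.sup_mono_fun fun i _ => tsub_le_tsub (Finset.sum_le_sum fun j _ => ?_)
    (Finset.sum_le_sum fun j _ => ?_))
  · by_cases hj : j = Fin.last (k + 1)
    · subst hj
      rw [show (repl S h hv).c (Fin.last (k + 1)) = 0 from
        (codimPt_congr (w' := y') (v' := y') (Function.update_self _ _ _) (Function.update_self _ _ _) _ specializes_rfl).trans
          (codimPt_self y')]
      exact bot_le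
    · exact (codimPt_congr (Function.update_of_ne hj _ _) (Function.update_of_ne hj _ _) _ _).le
  · have hw : (repl S h hv).w j.castSucc = S.w j.castSucc := Function.update_of_ne (Fin.castSucc_lt_last j).ne _ _
    by_cases hj : j.succ = Fin.last (k + 1)
    · have h1 : S.w j.castSucc ⤳ y := by have := S.spec_succ j; rw [hj, hv] at this; exact this
      have e1 : S.b j = codimPt (S.w j.castSucc) y h1 := codimPt_congr rfl ((congrArg S.v hj).trans hv) _ _
      have e2 : (repl S h hv).b j = codimPt (S.w j.castSucc) y' (h1.trans h) :=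
        codimPt_congr hw ((congrArg (repl S h hv).v hj).trans (Function.update_self _ _ _)) _ _
      rw [e1, e2]
      exact codimPt_mono h1 h
    · exact (codimPt_congr hw (Function.update_of_ne hj _ _) _ _).ge

theorem deltaZ_le [T0Space Y] {Z : Set Y} (hZ : IsClosed Z) {y y' : Y} (h : y ⤳ y') :
    deltaZ Z y' ≤ deltaZ Z y := by
  by_cases hne : y = y'
  · subst hne; exact le_rfl
  refine le_iInf fun k => le_iInf fun S => ?_
  by_cases hc : S.c (Fin.last k) = 0
  · have hv : S.v (Fin.last k) = y := (eq_of_codimPt_eq_zero _ hc).symm.trans S.last_eq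
    cases k with
    | zero =>
      have hy' : y' ∈ Z := h.mem_closed hZ (by rw [← hv]; exact S.start_mem)
      let T : DSystem Z y' 0 := ⟨fun _ => y', fun _ => y', fun _ => specializes_rfl, fun i => i.elim0, hy', rfl⟩
      refine (iInf₂_le (f := fun k (S : DSystem Z y' k) => S.delta) 0 T).trans ?_
      have hT : T.delta = 0 := by
        simp only [DSystem.delta, Nat.cast_zero, zero_add]
        refine le_antisymm (Finset.sup_le fun i _ => ?_) bot_le
        refine le_trans tsub_le_self (le_of_eq (Finset.sum_eq_zero fun j _ => codimPt_self y'))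
      rw [hT]; exact bot_le
    | succ k => exact (iInf₂_le (f := fun k (S : DSystem Z y' k) => S.delta) (k + 1) (repl S h hv)).trans (repl_delta_le S h hv)
  · refine (iInf₂_le (f := fun k (S : DSystem Z y' k) => S.delta) (k + 1) (ext S h)).trans (ext_delta_le S h ?_ (Order.one_le_iff_pos.2 (pos_iff_ne_zero.2 hc)))
    exact Order.one_le_iff_pos.2 (pos_iff_ne_zero.2 fun h0 => hne (eq_of_codimPt_eq_zero h h0))


/-- Let Y be a Noetherian scheme and Z ⊆ Y a closed subset. If y specializes to y' then δ_Z(y') ≤
δ_Z(y); equivalently each set {y | δ_Z(y) ≤ k} is stable under specialization. -/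
theorem result (Y : Scheme.{u}) [IsNoetherian Y] (Z : Set Y) (hZ : IsClosed Z) (y y' : Y) (h : y ⤳ y') : Algz.deltaZ Z y' ≤ Algz.deltaZ Z y := by
  exact deltaZ_le hZ h

end Groth.Agent.S8812
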