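import Groth.Statements.S8813
-- import your own Groth.Agent.* helpers here

set_option autoImplicit false
universe u
open CategoryTheory AlgebraicGeometry
open Algz

namespace Groth.Agent.S8813

/-- Let Y be a Noetherian scheme, Z ⊆ Y a closed subset, y a point of Y and z a point of Z lying in the
closure of y. Then δ_Z(y) is at most the dimension of the local ring at z of the closure of y with
its reduced structure, that is, the Krull dimension of O_{Y,z}/𝔭 where 𝔭 is the prime ideal of the
local ring O_{Y,z} given by the point of Spec O_{Y,z} that maps to y. -/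
theorem result (Y : Scheme.{u}) [IsNoetherian Y] (Z : Set Y) (hZ : IsClosed Z) (y z : Y) (h : y ⤳ z) (hz : z ∈ Z) (P : PrimeSpectrum (Y.presheaf.stalk z)) (hP : (Y.fromSpecStalk z).base P = y) : ((Algz.deltaZ Z y : ℕ∞) : WithBot ℕ∞) ≤ ringKrullDim (↥(Y.presheaf.stalk z) ⧸ P.asIdeal) := by
  let S : Algz.DSystem Z y 0 :=
    { v := fun _ => z, w := fun _ => y, spec := fun _ => h,
      spec_succ := fun i => i.elim0, start_mem := hz, last_eq := rfl }
  have h1 : Algz.deltaZ Z y ≤ Algz.codimPt y z h := by
    refine ((iInf_le (fun k => ⨅ S : Algz.DSystem Z y k, S.delta) 0).trans (iInf_le _ S)).trans (le_of_eq ?_)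
    simp [Algz.DSystem.delta, Algz.DSystem.c, S]
  refine (WithBot.coe_le_coe.mpr h1).trans ?_
  rw [Algz.codimPt, Order.height_eq_krullDim_Iic, ringKrullDim_quotient]
  have hemb := (Y.fromSpecStalk z).isEmbedding
  have hex : ∀ x : Set.Iic (⟨Specialization.toEquiv y, Specialization.toEquiv_le_toEquiv.mpr h⟩ :
      Set.Ici (Specialization.toEquiv z)),
      ∃ Q : PrimeSpectrum (Y.presheaf.stalk z),
        (Y.fromSpecStalk z).base Q = Specialization.ofEquiv x.1.1 ∧
          Q ∈ PrimeSpectrum.zeroLocus (R := Y.presheaf.stalk z) P.asIdeal := by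
    intro x
    have hmem : Specialization.ofEquiv x.1.1 ∈ Set.range (Y.fromSpecStalk z) := by
      rw [Scheme.range_fromSpecStalk]
      exact Specialization.ofEquiv_specializes_ofEquiv.mpr x.1.2
    obtain ⟨Q, hQ⟩ := hmem
    refine ⟨Q, hQ, ?_⟩
    rw [PrimeSpectrum.mem_zeroLocus, SetLike.coe_subset_coe, PrimeSpectrum.asIdeal_le_asIdeal,
      PrimeSpectrum.le_iff_specializes]
    refine hemb.isInducing.specializes_iff.mp ?_
    show (Y.fromSpecStalk z).base P ⤳ (Y.fromSpecStalk z).base Q
    rw [hP]
    exact hQ ▸ Specialization.toEquiv_le_toEquiv.mp x.2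
  choose f hf hfP using hex
  rw [← Order.krullDim_orderDual (α := PrimeSpectrum.zeroLocus (R := Y.presheaf.stalk z) P.asIdeal)]
  refine Order.krullDim_le_of_strictMono (fun x => OrderDual.toDual ⟨f x, hfP x⟩) ?_
  intro a b hab
  refine OrderDual.toDual_lt_toDual.mpr (Subtype.mk_lt_mk.mpr (lt_of_le_of_ne ?_ ?_))
  · rw [PrimeSpectrum.le_iff_specializes]
    refine hemb.isInducing.specializes_iff.mp ?_
    show (Y.fromSpecStalk z).base (f b) ⤳ (Y.fromSpecStalk z).base (f a)
    rw [hf, hf]
    exact Specialization.ofEquiv_specializes_ofEquiv.mpr hab.le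
  · intro he
    have := congrArg (fun Q => (Y.fromSpecStalk z).base Q) he
    simp only [hf] at this
    exact hab.ne (Subtype.ext (Subtype.ext this.symm))

end Groth.Agent.S8813
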