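import Groth.Statements.S8815
import Groth.Agent.Algz48.DeltaZ
import Groth.Agent.LocCoh.Connected
-- import your own Groth.Agent.* helpers here

set_option autoImplicit false
universe u
open CategoryTheory AlgebraicGeometry
open Algz

namespace Groth.Agent.S8815

theorem coheight_eq_dim {A : Type u} [CommRing A] (p : PrimeSpectrum A) :
    (Order.coheight p : WithBot ℕ∞) = ringKrullDim (A ⧸ p.asIdeal) := by
  rw [Order.coheight_eq_krullDim_Ici, ringKrullDim_quotient]
  exact Order.krullDim_eq_of_orderIso (OrderIso.setCongr _ _ rfl)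

/-- Let A be a catenary Noetherian local ring, Y = Spec A and Z the closed point. Then δ_Z(y) equals the
dimension of the closure of y, i.e. dim(A/p_y), for every point y. -/
theorem result (A : Type u) [CommRing A] [IsNoetherianRing A] [IsLocalRing A] (hA : CAlg.IsCatenary A) (y : Spec (CommRingCat.of A)) : ((Algz.deltaZ ({IsLocalRing.closedPoint A} : Set (Spec (CommRingCat.of A))) y : ℕ∞) : WithBot ℕ∞) = ringKrullDim (A ⧸ y.asIdeal) := by
  have hfin : ∀ p : PrimeSpectrum A, Order.coheight p < ⊤ := fun p => WithBot.coe_lt_coe.1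
    (lt_of_le_of_lt (Order.coheight_le_krullDim p) ringKrullDim_lt_top)
  let δ : Spec (CommRingCat.of A) → ℤ := fun q =>
    ((Order.coheight (α := PrimeSpectrum A) q).toNat : ℤ)
  have hco : ∀ p : PrimeSpectrum A, ((Order.coheight p).toNat : ℕ∞) = Order.coheight p := fun p =>
    ENat.natCast_toNat (hfin p).ne
  have key : ∀ a b : PrimeSpectrum A, a ⤳ b → a ≠ b →
      ((Order.coheight b).toNat : ℤ) < (Order.coheight a).toNat ∧
      ((∀ z : PrimeSpectrum A, a ⤳ z → z ⤳ b → z = a ∨ z = b) →
        ((Order.coheight a).toNat : ℤ) = (Order.coheight b).toNat + 1) := by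
    intro a b hab hne
    have hlt : a < b := lt_of_le_of_ne ((PrimeSpectrum.le_iff_specializes a b).2 hab) hne
    refine ⟨?_, fun himm => ?_⟩
    · have h := Order.coheight_strictAnti hlt (hfin b)
      rw [← hco a, ← hco b, Nat.cast_lt] at h
      exact Int.ofNat_lt.2 h
    · have hcov : a ⋖ b := ⟨hlt, fun z h1 h2 => (himm z
        ((PrimeSpectrum.le_iff_specializes a z).1 h1.le)
        ((PrimeSpectrum.le_iff_specializes z b).1 h2.le)).elim h1.ne' h2.ne⟩
      have h := Groth.Agent.LocCoh.ringKrullDim_quotient_covBy hA hcov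
      rw [← coheight_eq_dim, ← coheight_eq_dim, ← hco a, ← hco b] at h
      have h' : ((((Order.coheight a).toNat : ℕ∞)) : WithBot ℕ∞) =
          ((((Order.coheight b).toNat + 1 : ℕ) : ℕ∞) : WithBot ℕ∞) := by
        rw [h]; push_cast; rfl
      exact_mod_cast Nat.cast_inj.1 (WithBot.coe_inj.1 h')
  have hδ : Cyc.IsDimFun (Spec (CommRingCat.of A)) δ := fun a b hab hne => key a b hab hne
  have hm : δ (IsLocalRing.closedPoint A) = 0 := by
    have : Order.coheight (IsLocalRing.closedPoint A) = 0 := Order.coheight_eq_zero.2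
      fun q _ => IsLocalRing.le_maximalIdeal q.isPrime.ne_top
    show ((Order.coheight (IsLocalRing.closedPoint A)).toNat : ℤ) = 0
    rw [this]; rfl
  have hy : (δ y).toNat = (Order.coheight (α := PrimeSpectrum A) y).toNat := rfl
  refine Eq.trans ?_ (coheight_eq_dim (A := A) y)
  refine congrArg _ (Eq.trans ?_ (hco y))
  rw [← hy]
  refine le_antisymm ?_ ?_
  · have hs : y ⤳ IsLocalRing.closedPoint A :=
      (PrimeSpectrum.le_iff_specializes (R := A) y _).1 (IsLocalRing.le_maximalIdeal y.isPrime.ne_top)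
    let S : Algz.DSystem ({IsLocalRing.closedPoint A} : Set (Spec (CommRingCat.of A))) y 0 :=
      ⟨fun _ => IsLocalRing.closedPoint A, fun _ => y, fun _ => hs, fun i => i.elim0, rfl, rfl⟩
    refine le_trans (iInf_le_of_le (0 : ℕ) (iInf_le (fun S => Algz.DSystem.delta S) S)) ?_
    simp [Algz.DSystem.delta, Algz.DSystem.c, S]
    exact (Groth.Agent.Algz48.codimPt_eq hδ y (IsLocalRing.closedPoint A) hs).trans_le (by rw [hm, sub_zero])
  · refine le_iInf fun k => le_iInf fun S => le_trans ?_
      (Groth.Agent.Algz48.toNat_sub_le_delta hδ S)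
    rw [show S.v 0 = IsLocalRing.closedPoint A from S.start_mem, hm, sub_zero]

end Groth.Agent.S8815
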