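import Groth.Statements.S8816
import Mathlib

set_option autoImplicit false
universe u
open CategoryTheory AlgebraicGeometry
open Algz

namespace Groth.Agent.S8816

theorem codimPt_self {Y : Type u} [TopologicalSpace Y] (w : Y) (h : w ⤳ w) :
    Algz.codimPt w w h = 0 := by
  refine Order.height_eq_zero.2 fun b _ => ?_
  exact b.2

theorem codimPt_le_one {Y : Type u} [TopologicalSpace Y] [T0Space Y] (w v : Y) (h : w ⤳ v)
    (himm : ∀ z : Y, w ⤳ z → z ⤳ v → z = w ∨ z = v) : Algz.codimPt w v h ≤ 1 := by
  rw [Algz.codimPt, show (1 : ℕ∞) = ((1 : ℕ) : ℕ∞) from rfl, Order.height_le_coe_iff]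
  rintro ⟨z, hz⟩ hlt
  have hz1 : Specialization.ofEquiv z ⤳ v := hz
  have hz2 : w ⤳ Specialization.ofEquiv z := hlt.le
  have h0 : Order.height (⟨z, hz⟩ : Set.Ici (Specialization.toEquiv v)) = 0 := by
    rcases himm _ hz2 hz1 with e | e
    · exact absurd hlt (by
        have : z = Specialization.toEquiv w := e
        subst this
        exact lt_irrefl _)
    · refine Order.height_eq_zero.2 fun b _ => ?_
      have : z = Specialization.toEquiv v := e
      subst this
      exact b.2
  rw [h0]
  exact_mod_cast Nat.zero_lt_one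

theorem one_le_codimPt {Y : Type u} [TopologicalSpace Y] [T0Space Y] (w v : Y) (h : w ⤳ v)
    (hne : w ≠ v) : 1 ≤ Algz.codimPt w v h := by
  rw [Algz.codimPt, Order.one_le_iff_pos, pos_iff_ne_zero, Ne, Order.height_eq_zero]
  intro hmin
  let bot : Set.Ici (Specialization.toEquiv v) := ⟨Specialization.toEquiv v, le_refl (Specialization.toEquiv v)⟩
  have h2 := hmin (b := bot) (Specialization.toEquiv_le_toEquiv.mpr h)
  exact hne (h.antisymm (Specialization.toEquiv_le_toEquiv.mp h2)).eq

/-- Let Y be a Noetherian scheme and Z ⊆ Y closed. Given points y_0, …, y_k and y'_0, …, y'_{k-1} of Y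
with y_0 ∈ Z such that each y'_i specializes to y_{i+1} with y'_i ≠ y_{i+1}, and each y'_i ⤳ y_i is
an immediate specialization (y'_i ≠ y_i and no point strictly between), one has δ_Z(y_k) ≤ k. (The
published statement also allows y'_i = y_{i+1}. In that generality the bound needs catenarity: for a
Noetherian local domain of dimension 3 having a saturated chain of primes (0) ⊂ 𝔭 ⊂ 𝔪 of length 2,
with Z the closed point and the pattern y_0 = 𝔪, y'_0 = y_1 = 𝔭, y'_1 = y_2 = (0), one has k = 2 but
δ_Z((0)) = 3. The published proof handles nontrivial specializations y'_i ⤳ y_{i+1}, for which the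
closures of the y_i and y'_i form a system of value k, and reduces to that case by shortening the
chain, which does not preserve immediacy; this row states the case the proof establishes.) -/
theorem result (Y : Scheme.{u}) [IsNoetherian Y] (Z : Set Y) (hZ : IsClosed Z) (k : ℕ) (y : Fin (k + 1) → Y) (y' : Fin k → Y) (h0 : y 0 ∈ Z) (hdown : ∀ i : Fin k, y' i ⤳ y i.castSucc ∧ y' i ≠ y i.castSucc ∧ ∀ z : Y, y' i ⤳ z → z ⤳ y i.castSucc → z = y' i ∨ z = y i.castSucc) (hup : ∀ i : Fin k, y' i ⤳ y i.succ ∧ y' i ≠ y i.succ) : Algz.deltaZ Z (y (Fin.last k)) ≤ k := by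
  let w : Fin (k + 1) → Y := Fin.lastCases (y (Fin.last k)) y'
  have hwl : w (Fin.last k) = y (Fin.last k) := Fin.lastCases_last
  have hwc : ∀ i : Fin k, w i.castSucc = y' i := fun i => Fin.lastCases_castSucc i
  have hspec : ∀ i, w i ⤳ y i := fun i => by
    induction i using Fin.lastCases with
    | last => rw [hwl]
    | cast i => rw [hwc]; exact (hdown i).1
  let S : Algz.DSystem Z (y (Fin.last k)) k :=
    { v := y
      w := w
      spec := hspec
      spec_succ := fun i => by rw [hwc]; exact (hup i).1
      start_mem := h0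
      last_eq := hwl }
  refine le_trans (iInf_le_of_le k (iInf_le _ S)) ?_
  unfold Algz.DSystem.delta
  have hzero : ∀ i : Fin (k + 1),
      (∑ j ∈ Finset.univ.filter (fun j : Fin (k + 1) => i ≤ j), S.c j) -
        ∑ j ∈ Finset.univ.filter (fun j : Fin k => i.val ≤ j.val), S.b j = 0 := by
    intro i
    refine tsub_eq_zero_of_le ?_
    calc ∑ j ∈ Finset.univ.filter (fun j : Fin (k + 1) => i ≤ j), S.c j
        ≤ ∑ j ∈ Finset.univ.filter (fun j : Fin k => i.val ≤ j.val), S.c j.castSucc := by
          rw [Finset.sum_filter, Finset.sum_filter, Fin.sum_univ_castSucc]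
          have hl : S.c (Fin.last k) = 0 := by
            change Algz.codimPt (w (Fin.last k)) (y (Fin.last k)) _ = 0
            simp only [hwl]
            exact codimPt_self _ _
          simp [hl, Fin.le_def]
      _ ≤ ∑ j ∈ Finset.univ.filter (fun j : Fin k => i.val ≤ j.val), S.b j := by
          refine Finset.sum_le_sum fun j _ => ?_
          calc S.c j.castSucc ≤ 1 := by
                refine codimPt_le_one _ _ _ fun z hz1 hz2 => ?_
                change w j.castSucc ⤳ z at hz1
                change z = w j.castSucc ∨ z = _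
                rw [hwc] at hz1 ⊢
                exact (hdown j).2.2 z hz1 hz2
            _ ≤ S.b j := one_le_codimPt _ _ _ (by
                change w j.castSucc ≠ y j.succ
                rw [hwc]; exact (hup j).2)
  simp only [hzero]
  rw [Finset.sup_const Finset.univ_nonempty, add_zero]

end Groth.Agent.S8816
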