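import Groth.Statements.S8817
-- import your own Groth.Agent.* helpers here

set_option autoImplicit false
universe u
open CategoryTheory AlgebraicGeometry
open Algz

namespace Groth.Agent.S8817

/-- An inducing injective map with open range preserves the height of a generization over a point. -/
theorem codimPt_map {A B : Type u} [TopologicalSpace A] [TopologicalSpace B] {g : A → B}
    (hg : Topology.IsOpenEmbedding g) (w v : A) (h : w ⤳ v) :
    Algz.codimPt (g w) (g v) (h.map hg.continuous) = Algz.codimPt w v h := by
  let F : Set.Ici (Specialization.toEquiv v) → Set.Ici (Specialization.toEquiv (g v)) := fun a =>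
    ⟨Specialization.toEquiv (g (Specialization.ofEquiv a.1)),
      Specialization.toEquiv_le_toEquiv.mpr
        ((Specialization.toEquiv_le_toEquiv.mp (show Specialization.toEquiv v ≤
          Specialization.toEquiv (Specialization.ofEquiv a.1) from a.2)).map hg.continuous)⟩
  have hle : ∀ a b, F a ≤ F b ↔ a ≤ b := fun a b =>
    Specialization.toEquiv_le_toEquiv.trans (hg.isInducing.specializes_iff)
  have hinj : Function.Injective F := fun a b hab =>
    Subtype.ext (Specialization.ofEquiv.injective (hg.injective
      (congrArg (fun c => Specialization.ofEquiv c.1) hab)))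
  have hsurj : Function.Surjective F := fun b => by
    obtain ⟨a, ha⟩ : Specialization.ofEquiv b.1 ∈ Set.range g :=
      (Specialization.toEquiv_le_toEquiv.mp (show Specialization.toEquiv (g v) ≤
          Specialization.toEquiv (Specialization.ofEquiv b.1) from b.2)).mem_open hg.isOpen_range ⟨v, rfl⟩
    refine ⟨⟨Specialization.toEquiv a, Specialization.toEquiv_le_toEquiv.mpr
      (hg.isInducing.specializes_iff.mp ?_)⟩, Subtype.ext ?_⟩
    · rw [ha]
      exact Specialization.toEquiv_le_toEquiv.mp b.2
    · exact congrArg Specialization.toEquiv ha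
  let e : Set.Ici (Specialization.toEquiv v) ≃o Set.Ici (Specialization.toEquiv (g v)) :=
    { Equiv.ofBijective F ⟨hinj, hsurj⟩ with map_rel_iff' := fun {a b} => hle a b }
  exact Order.height_orderIso e ⟨Specialization.toEquiv w, Specialization.toEquiv_le_toEquiv.mpr h⟩

/-- Let Y be a Noetherian scheme, Z ⊆ Y a closed subset and Y' ⊆ Y an open subscheme. For a point y' of
Y' the distance function of Y' relative to Y' ∩ Z at y' is at least the distance function of Y
relative to Z at y'. -/
theorem result (Y : Scheme.{u}) [IsNoetherian Y] (Z : Set Y) (hZ : IsClosed Z) (Y' : Y.Opens) (y' : (↑Y' : Scheme.{u})) : Algz.deltaZ Z (Y'.ι.base y') ≤ Algz.deltaZ ((fun x : (↑Y' : Scheme.{u}) => Y'.ι.base x) ⁻¹' Z) y' := by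
  refine le_iInf₂ fun k S => ?_
  let g := fun x : (↑Y' : Scheme.{u}) => Y'.ι.base x
  have hg : Topology.IsOpenEmbedding g := Y'.ι.isOpenEmbedding
  let T : Algz.DSystem Z (g y') k :=
    { v := fun i => g (S.v i)
      w := fun i => g (S.w i)
      spec := fun i => (S.spec i).map hg.continuous
      spec_succ := fun i => (S.spec_succ i).map hg.continuous
      start_mem := S.start_mem
      last_eq := congrArg g S.last_eq }
  refine (iInf₂_le k T).trans (le_of_eq ?_)
  have hc : ∀ j, T.c j = S.c j := fun j => codimPt_map hg _ _ (S.spec j)
  have hb : ∀ j, T.b j = S.b j := fun j => codimPt_map hg _ _ (S.spec_succ j)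
  unfold Algz.DSystem.delta
  simp only [hc, hb]

end Groth.Agent.S8817
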