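import Groth.Statements.S8823
import Groth.Agent.SmoothingLib.ApproxAdic
import Groth.Agent.S0600
import Groth.Agent.S0599

set_option autoImplicit false
universe u
open AdicRing

namespace Groth.Agent.S8823

/-- Let A be a Noetherian G-ring and I an ideal of A. Let B and C be A-algebras of finite type, φ an
A-algebra map from the IB-adic completion of B to the IC-adic completion of C, and N ≥ 1. Then one
can find an etale C-algebra C' for which the induced map C/IC → C'/IC' is a bijection, together with
a homomorphism of A-algebras ψ : B → C' that approximates φ to order N: given any b ∈ B, some c ∈ C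
satisfies ψ(b) − c ∈ I^N C', while the image of φ(b) in C/I^N C (the N-th truncation of the
completion) coincides with the class of c. -/
theorem result (A : Type u) [CommRing A] (hA : CAlg.IsGRing A) (I : Ideal A) (B C : Type u) [CommRing B] [Algebra A B] [Algebra.FiniteType A B] [CommRing C] [Algebra A C] [Algebra.FiniteType A C] (φ : (AdicCompletion (I.map (algebraMap A B)) B) →ₐ[A] (AdicCompletion (I.map (algebraMap A C)) C)) (N : ℕ) (hN : 1 ≤ N) : ∃ (C' : Type u) (_ : CommRing C') (_ : Algebra C C') (_ : Algebra A C') (_ : IsScalarTower A C C') (_ : Algebra.Etale C C') (ψ : B →ₐ[A] C'), ((∀ c' : C', ∃ c : C, algebraMap C C' c - c' ∈ I.map (algebraMap A C')) ∧ ∀ c : C, algebraMap C C' c ∈ I.map (algebraMap A C') → c ∈ I.map (algebraMap A C)) ∧ ∀ b : B, ∃ c : C, ψ b - algebraMap C C' c ∈ (I.map (algebraMap A C')) ^ N ∧ AdicCompletion.eval (I.map (algebraMap A C)) C N (φ (AdicCompletion.of (I.map (algebraMap A B)) B b)) = Submodule.Quotient.mk c := by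
  open TensorProduct in
  haveI := hA.1
  haveI : IsNoetherianRing C := Algebra.FiniteType.isNoetherianRing A C
  haveI : Algebra.FinitePresentation A B := Algebra.FinitePresentation.of_finiteType.1 ‹_›
  let f₀ : B →ₐ[A] AdicCompletion (I.map (algebraMap A C)) C :=
    { φ.toRingHom.comp (algebraMap B (AdicCompletion (I.map (algebraMap A B)) B)) with
      commutes' := fun c => by
        show φ (algebraMap B _ (algebraMap A B c)) = _
        rw [← IsScalarTower.algebraMap_apply]
        exact φ.commutes c }
  let f : C ⊗[A] B →ₐ[C] AdicCompletion (I.map (algebraMap A C)) C :=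
    Algebra.TensorProduct.lift (Algebra.ofId C _) f₀ fun _ _ => Commute.all _ _
  obtain ⟨D, _, _, hD, hsurj, hinj, ρ, hρ⟩ := Groth.Agent.SmoothingLib.ApproxAdic.exists_etale_congr
    (I.map (algebraMap A C))
    (Groth.Agent.S0600.result C (Groth.Agent.S0599.result A hA C) (I.map (algebraMap A C))) f N (by omega)
  letI : Algebra A D := ((algebraMap C D).comp (algebraMap A C)).toAlgebra
  haveI : IsScalarTower A C D := IsScalarTower.of_algebraMap_eq fun _ => rfl
  have hmap : (I.map (algebraMap A C)).map (algebraMap C D) = I.map (algebraMap A D) := by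
    rw [Ideal.map_map, ← IsScalarTower.algebraMap_eq]
  rw [hmap] at hsurj hinj hρ
  refine ⟨D, inferInstance, inferInstance, inferInstance, inferInstance, hD,
    (ρ.restrictScalars A).comp Algebra.TensorProduct.includeRight, ⟨hsurj, hinj⟩, fun b => ?_⟩
  have hev : f ((1 : C) ⊗ₜ[A] b) = φ (AdicCompletion.of (I.map (algebraMap A B)) B b) := by
    show Algebra.ofId C _ 1 * φ (algebraMap B _ b) = _
    rw [map_one, one_mul]
    rfl
  obtain ⟨z, hz⟩ := AdicCompletion.mk_surjective (I.map (algebraMap A C)) C
    (φ (AdicCompletion.of (I.map (algebraMap A B)) B b))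
  refine ⟨z.val N, hρ ((1 : C) ⊗ₜ[A] b) (z.val N) ?_, ?_⟩
  · rw [hev, ← hz, AdicCompletion.evalₐ_mk]
  · rw [← hz]
    rfl

end Groth.Agent.S8823
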