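import Groth.Statements.S8825
import Groth.Agent.Adic.Rig.Core
import Groth.Agent.S0598
import Groth.Agent.S0599
import Groth.Agent.S0600
import Groth.Agent.S19379
import Groth.Agent.S9294
import Groth.Agent.Gor.Ring
import Groth.Agent.CAlg48.AdicPow
import Groth.Agent.RegLoc.Completion
-- import your own Groth.Agent.* helpers here

set_option autoImplicit false
universe u
open AdicRing

namespace Groth.Agent.S8825

/-- Let A be a Noetherian ring which is complete for the adic topology of an ideal I, let p be a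
rig-closed prime of A (I ⊄ p and p is maximal among the primes not containing I), and let n ≥ 1.
Then the ring map from A/p to the restricted power series ring (A/p){x_1, …, x_n}, i.e. the I-adic
completion of the polynomial ring (A/p)[x_1, …, x_n], is a regular ring map (flat, with Noetherian
and geometrically regular fibres). (The consequence for the fibre over the fraction field is not
stated.) -/
theorem result (A : Type u) [CommRing A] [IsNoetherianRing A] (I : Ideal A) [IsAdicComplete I A] (p : PrimeSpectrum A) (hp : ¬ I ≤ p.asIdeal ∧ ∀ q : PrimeSpectrum A, p ≤ q → ¬ I ≤ q.asIdeal → q = p) (n : ℕ) (hn : 1 ≤ n) : CAlg.IsRegularHom (A ⧸ p.asIdeal) (AdicCompletion (I.map (algebraMap A (MvPolynomial (Fin n) (A ⧸ p.asIdeal)))) (MvPolynomial (Fin n) (A ⧸ p.asIdeal))) := by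
  have hq := Groth.Agent.Adic.Rig.rigClosed_of_spec hp
  have hMq : ∀ M : Ideal (A ⧸ p.asIdeal), M.IsMaximal →
      M.comap (Ideal.Quotient.mk p.asIdeal) = (I ⊔ p.asIdeal).radical := by
    intro M hM
    have hc := Ideal.comap_isMaximal_of_surjective (Ideal.Quotient.mk p.asIdeal) Ideal.Quotient.mk_surjective (K := M)
    have hle : p.asIdeal ≤ M.comap (Ideal.Quotient.mk p.asIdeal) := fun x hx => by
      rw [Ideal.mem_comap, Ideal.Quotient.eq_zero_iff_mem.2 hx]; exact zero_mem M
    haveI := hc.isPrime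
    exact hq.eq_radical (lt_of_le_of_ne hle fun e => hq.1 (e ▸ Groth.Agent.Adic.Rig.le_of_isMaximal))
  haveI : IsLocalRing (A ⧸ p.asIdeal) := by
    obtain ⟨M, hM⟩ := Ideal.exists_maximal (A ⧸ p.asIdeal)
    refine IsLocalRing.of_unique_max_ideal ⟨M, hM, fun N hN => ?_⟩
    rw [← Ideal.map_comap_of_surjective (Ideal.Quotient.mk p.asIdeal) Ideal.Quotient.mk_surjective N, ← Ideal.map_comap_of_surjective (Ideal.Quotient.mk p.asIdeal) Ideal.Quotient.mk_surjective M, hMq N hN, hMq M hM]
  haveI := Groth.Agent.Adic.Rig.isAdicComplete_quotient (I := I) p.asIdeal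
  haveI : IsAdicComplete (IsLocalRing.maximalIdeal (A ⧸ p.asIdeal)) (A ⧸ p.asIdeal) := by
    have h1 : IsLocalRing.maximalIdeal (A ⧸ p.asIdeal) ≤ (I.map (Ideal.Quotient.mk p.asIdeal)).radical := by
      intro x hx
      obtain ⟨y, rfl⟩ := Ideal.Quotient.mk_surjective x
      have hy : y ∈ (I ⊔ p.asIdeal).radical := hMq _ (IsLocalRing.maximalIdeal.isMaximal _) ▸ hx
      obtain ⟨n, hn⟩ := hy
      refine ⟨n, ?_⟩
      have := Ideal.mem_map_of_mem (Ideal.Quotient.mk p.asIdeal) hn
      rwa [Ideal.map_sup, Ideal.map_quotient_self, sup_bot_eq, map_pow] at this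
    obtain ⟨n, hn⟩ := Ideal.exists_pow_le_of_le_radical_of_fg h1 (IsNoetherian.noetherian _)
    have h2 : I.map (Ideal.Quotient.mk p.asIdeal) ≤ IsLocalRing.maximalIdeal (A ⧸ p.asIdeal) := by
      rw [Ideal.map_le_iff_le_comap, hMq _ (IsLocalRing.maximalIdeal.isMaximal _)]
      exact le_sup_left.trans Ideal.le_radical
    exact Groth.Agent.CAlg48.AdicPow.isAdicComplete_of_pow_le (I := I.map (Ideal.Quotient.mk p.asIdeal)) (c := 1) (d := n + 1) one_pos (Nat.succ_pos n) (by rwa [pow_one]) ((Ideal.pow_le_pow_right (Nat.le_succ n)).trans hn)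
  have hG := Groth.Agent.S0599.result (A ⧸ p.asIdeal) (Groth.Agent.S0598.result (A ⧸ p.asIdeal)) (MvPolynomial (Fin n) (A ⧸ p.asIdeal))
  haveI := Groth.Agent.RegLoc.Completion.isNoetherianRing_adicCompletion' (I.map (algebraMap A (MvPolynomial (Fin n) (A ⧸ p.asIdeal))))
  exact Groth.Agent.S9294.result (A ⧸ p.asIdeal) (MvPolynomial (Fin n) (A ⧸ p.asIdeal)) _
    (Groth.Agent.S19379.result (A ⧸ p.asIdeal) (MvPolynomial (Fin n) (A ⧸ p.asIdeal)))
    (Groth.Agent.S0600.result _ hG _)
    (fun P _ => Groth.Agent.Gor.Ring.isNoetherianRing_fiber P)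

end Groth.Agent.S8825
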