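import Groth.Statements.S8826
import Groth.Agent.ParaFormal.RigLift.Main
-- import your own Groth.Agent.* helpers here

set_option autoImplicit false
universe u
open AdicRing

namespace Groth.Agent.S8826

set_option linter.style.haveILetI false

/-- Let A be a Noetherian ring and I an ideal. Let B be an A-algebra of finite type such that Spec B →
Spec A is etale over the complement of V(I) (B_a etale over A for every a ∈ I), let C be a
Noetherian A-algebra with a henselization Cʰ of the pair (C, IC), and let φ be an A-algebra map from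
the IB-adic completion of B to the IC-adic completion of C. Then there is exactly one A-algebra map
ψ : B → Cʰ which induces φ on completions, in the sense that for every n and every b ∈ B there is c
∈ C with ψ(b) − c ∈ I^n Cʰ and with the n-th truncation of φ(b) in C/I^n C equal to the class of c
(recall C/I^n C = Cʰ/I^n Cʰ). (The second assertion, that such maps factor through an etale
neighbourhood, is not stated.) -/
theorem result (A : Type u) [CommRing A] [IsNoetherianRing A] (I : Ideal A) (B : Type u) [CommRing B] [Algebra A B] [Algebra.FiniteType A B] (hB : ∀ a ∈ I, Algebra.Etale A (Localization.Away (algebraMap A B a))) (C : Type u) [CommRing C] [Algebra A C] [IsNoetherianRing C] (Ch : Type u) [CommRing Ch] [Algebra C Ch] [Algebra A Ch] [IsScalarTower A C Ch] (hCh : Hens2.IsPairHenselization C (I.map (algebraMap A C)) Ch) (φ : (AdicCompletion (I.map (algebraMap A B)) B) →ₐ[A] (AdicCompletion (I.map (algebraMap A C)) C)) : ∃! ψ : B →ₐ[A] Ch, ∀ (n : ℕ) (b : B), ∃ c : C, ψ b - algebraMap C Ch c ∈ (I.map (algebraMap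 A Ch)) ^ n ∧ AdicCompletion.eval (I.map (algebraMap A C)) C n (φ (AdicCompletion.of (I.map (algebraMap A B)) B b)) = Submodule.Quotient.mk c := by
  haveI : IsNoetherianRing Ch :=
    haveI := Groth.Agent.HenGeomInt.isNoetherianRing_pairHenselization (I.map (algebraMap A C))
    isNoetherianRing_of_ringEquiv _ (Groth.Agent.Hens.nonempty_pairHenselization_algEquiv hCh).some.toRingEquiv
  haveI : Module.Flat C Ch := Groth.Agent.Hens.flat_of_isPairHenselization hCh
  have hIJ : (I.map (algebraMap A C)).map (algebraMap C Ch) = I.map (algebraMap A Ch) := by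
    rw [Ideal.map_map, ← IsScalarTower.algebraMap_eq]
  haveI : HenselianRing Ch (I.map (algebraMap A Ch)) := hIJ ▸ hCh.1
  obtain ⟨m₀, hrig⟩ := Groth.Agent.ParaFormal.RigLift.exists_rigid (H := Ch) I hB (HenselianRing.jac (I := I.map (algebraMap A Ch)))
  let x : B → AdicCompletion (I.map (algebraMap A C)) C := fun b => φ (AdicCompletion.of (I.map (algebraMap A B)) B b)
  let σ : ∀ n, B →ₐ[A] C ⧸ (I.map (algebraMap A C)) ^ n := fun n =>
    ((AdicCompletion.evalₐ (I.map (algebraMap A C)) n).restrictScalars A).comp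
      (φ.comp (IsScalarTower.toAlgHom A B (AdicCompletion (I.map (algebraMap A B)) B)))
  have hσ : ∀ n b c, AdicCompletion.eval (I.map (algebraMap A C)) C n (x b) = Submodule.Quotient.mk c →
      σ n b = Ideal.Quotient.mk _ c := fun n b c hc => by
    show AdicCompletion.evalₐ (I.map (algebraMap A C)) n (x b) = _
    rw [← AdicCompletion.factor_eval_eq_evalₐ (I.map (algebraMap A C)) (x b) (by simp), hc]
    rfl
  have hex : ∀ n, ∃ ψ : B →ₐ[A] Ch, ∀ m, m ≤ n → ∀ b c,
      AdicCompletion.eval (I.map (algebraMap A C)) C m (x b) = Submodule.Quotient.mk c →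
        ψ b - algebraMap C Ch c ∈ (I.map (algebraMap A Ch)) ^ m := by
    intro n
    obtain ⟨L, hL, h⟩ := Groth.Agent.ParaFormal.RigLift.exists_approx_map (C := C) (H := Ch) (B := B) I hB n
    have hle : (I.map (algebraMap A C)) ^ L ≤ ((I.map (algebraMap A Ch)) ^ L).comap (algebraMap C Ch) := by
      rw [← Ideal.map_le_iff_le_comap, Ideal.map_pow, hIJ]
    let q : C ⧸ (I.map (algebraMap A C)) ^ L →ₐ[A] Ch ⧸ (I.map (algebraMap A Ch)) ^ L :=
      Ideal.quotientMapₐ _ (IsScalarTower.toAlgHom A C Ch) hle
    obtain ⟨τ, hτ⟩ := h (q.comp (σ L))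
    refine ⟨τ, fun m hm b c hc => ?_⟩
    obtain ⟨c', hc'⟩ := Submodule.Quotient.mk_surjective _ (AdicCompletion.eval (I.map (algebraMap A C)) C L (x b))
    have h1 := hτ b (algebraMap C Ch c') (by rw [AlgHom.comp_apply, hσ L b c' hc'.symm]; rfl)
    have h2 : c' - c ∈ (I.map (algebraMap A C)) ^ m := by
      have h3 : AdicCompletion.transitionMap (I.map (algebraMap A C)) C (hm.trans hL) (Submodule.Quotient.mk c') = Submodule.Quotient.mk c := by
        rw [hc']
        exact ((x b).property (hm.trans hL)).trans hc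
      have h4 := (Submodule.Quotient.eq _).1 h3
      simpa [smul_eq_mul] using h4
    have h5 : algebraMap C Ch c' - algebraMap C Ch c ∈ (I.map (algebraMap A Ch)) ^ m := by
      rw [← map_sub, ← hIJ, ← Ideal.map_pow]
      exact Ideal.mem_map_of_mem _ h2
    rw [← sub_add_sub_cancel (τ b) (algebraMap C Ch c') (algebraMap C Ch c)]
    exact Ideal.add_mem _ (Ideal.pow_le_pow_right hm h1) h5
  choose τ hτ using hex
  have hall : ∀ n, m₀ ≤ n → τ n = τ m₀ := fun n hn => hrig _ _ fun b => by
    obtain ⟨c, hc⟩ := Submodule.Quotient.mk_surjective _ (AdicCompletion.eval (I.map (algebraMap A C)) C m₀ (x b))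
    have h1 := Ideal.sub_mem _ (hτ n m₀ hn b c hc.symm) (hτ m₀ m₀ le_rfl b c hc.symm)
    rwa [sub_sub_sub_cancel_right] at h1
  refine ⟨τ m₀, fun n b => ?_, fun ψ hψ => hrig _ _ fun b => ?_⟩
  · obtain ⟨c, hc⟩ := Submodule.Quotient.mk_surjective _ (AdicCompletion.eval (I.map (algebraMap A C)) C n (x b))
    refine ⟨c, ?_, hc.symm⟩
    rw [← hall (max n m₀) (le_max_right _ _)]
    exact hτ _ n (le_max_left _ _) b c hc.symm
  · obtain ⟨c, hc, hc'⟩ := hψ m₀ b
    have h1 := Ideal.sub_mem _ hc (hτ m₀ m₀ le_rfl b c hc')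
    rwa [sub_sub_sub_cancel_right] at h1

end Groth.Agent.S8826
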