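import Groth.Statements.S8828
import Groth.Agent.LocCoh.BootCompl
import Groth.Agent.LocCoh.CompletionDeg

set_option autoImplicit false
universe u
open CategoryTheory
open Dual2

namespace Groth.Agent.S8828

/-- Let A be a Noetherian ring with a dualizing complex, I an ideal with cd(A, I) ≤ d, M a finite
A-module, T ⊆ V(I) stable under specialization and s a natural, satisfying: (4) for primes p ⊆ r ⊆ q
with p ∉ V(I), r ∈ V(I) ∖ T and q ∈ T, either depth(M_p) ≥ s or depth(M_p) + dim((A/p)_q) > d + s;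
(6) for q ∈ T, writing A_q', I_q', M_q' for the I-adic completions of A_q, IA_q, M_q, one has
depth((M_q')_{p'}) > s for every prime p' of A_q' not containing I_q' such that the only primes
containing both p' and I_q' are maximal. Let A', I', M' be the I-adic completions of A, I, M and T'
⊆ Spec A' the inverse image of T. Then A' has a dualizing complex, cd(A', I') ≤ d, and conditions
(4) and (6) hold for A', I', T', M' (so the completed data are again in the same situation). -/
theorem result (A : Type u) [CommRing A] [IsNoetherianRing A] (hdc : ∃ ω : Dual.D A, Dual.IsDualizing A ω) (I : Ideal A) (d : ℕ) (hcd : LocCoh.CdLE A I d) (M : Type u) [AddCommGroup M] [Module A M] [Module.Finite A M] (T : Set (PrimeSpectrum A)) (hTI : T ⊆ PrimeSpectrum.zeroLocus (I : Set A)) (hT : StableUnderSpecialization T) (s : ℕ) (h4 : ∀ p r q : PrimeSpectrum A, p ≤ r → r ≤ q → ¬ I ≤ p.asIdeal → I ≤ r.asIdeal → r ∉ T → q ∈ T → (s : ℕ∞) ≤ LocCoh.depth (Localization.AtPrime p.asIdeal) (LocalizedModule p.asIdeal.primeCompl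 M) ∨ ((d + s : ℕ) : WithBot ℕ∞) < (LocCoh.depth (Localization.AtPrime p.asIdeal) (LocalizedModule p.asIdeal.primeCompl M) : WithBot ℕ∞) + Formal2.dimBetween A p.asIdeal q.asIdeal) (h6 : ∀ q : PrimeSpectrum A, q ∈ T → ∀ p' : PrimeSpectrum (AdicCompletion (I.map (algebraMap A (Localization.AtPrime q.asIdeal))) (Localization.AtPrime q.asIdeal)), ¬ (I.map (algebraMap A (AdicCompletion (I.map (algebraMap A (Localization.AtPrime q.asIdeal))) (Localization.AtPrime q.asIdeal)))) ≤ p'.asIdeal → (∀ q' : PrimeSpectrum (AdicCompletion (I.map (algebraMap A (Localization.AtPrime q.asIdeal))) (Localization.AtPrime q.asIdeal)), p' ≤ q' → (I.map (algebraMap A (AdicCompletion (I.map (algebraMap A (Localization.AtPrime q.asIdeal))) (Localization.AtPrime q.asIdeal)))) ≤ q'.asIdeal → q'.asIdeal.IsMaximal) → (s : ℕ∞) < LocCoh.depth (Localization.AtPrime p'.asIdeal) (LocalizedModule p'.asIdeal.primeCompl (AdicCompletion (I.map (algebraMap A (Localization.AtPrime q.asIdeal))) (LocalizedModule q.asIdeal.primeCompl M))))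 : (∃ ω' : Dual.D (AdicCompletion I A), Dual.IsDualizing (AdicCompletion I A) ω') ∧ LocCoh.CdLE (AdicCompletion I A) (I.map (algebraMap A (AdicCompletion I A))) d ∧ (∀ p r q : PrimeSpectrum (AdicCompletion I A), p ≤ r → r ≤ q → ¬ (I.map (algebraMap A (AdicCompletion I A))) ≤ p.asIdeal → (I.map (algebraMap A (AdicCompletion I A))) ≤ r.asIdeal → r ∉ ((PrimeSpectrum.comap (algebraMap A (AdicCompletion I A))) ⁻¹' T) → q ∈ ((PrimeSpectrum.comap (algebraMap A (AdicCompletion I A))) ⁻¹' T) → (s : ℕ∞) ≤ LocCoh.depth (Localization.AtPrime p.asIdeal) (LocalizedModule p.asIdeal.primeCompl (AdicCompletion I M)) ∨ ((d + s : ℕ) : WithBot ℕ∞) < (LocCoh.depth (Localization.AtPrime p.asIdeal) (LocalizedModule p.asIdeal.primeCompl (AdicCompletion I M)) : WithBot ℕ∞) + Formal2.dimBetween (AdicCompletion I A) p.asIdeal q.asIdeal) ∧ (∀ q : PrimeSpectrum (AdicCompletion I A), q ∈ ((PrimeSpectrum.comap (algebraMap A (AdicCompletion I A))) ⁻¹' T) → ∀ p' : PrimeSpectrum (AdicCompletion ((I.map (algebraMap A (AdicCompletion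 I A))).map (algebraMap (AdicCompletion I A) (Localization.AtPrime q.asIdeal))) (Localization.AtPrime q.asIdeal)), ¬ ((I.map (algebraMap A (AdicCompletion I A))).map (algebraMap (AdicCompletion I A) (AdicCompletion ((I.map (algebraMap A (AdicCompletion I A))).map (algebraMap (AdicCompletion I A) (Localization.AtPrime q.asIdeal))) (Localization.AtPrime q.asIdeal)))) ≤ p'.asIdeal → (∀ q' : PrimeSpectrum (AdicCompletion ((I.map (algebraMap A (AdicCompletion I A))).map (algebraMap (AdicCompletion I A) (Localization.AtPrime q.asIdeal))) (Localization.AtPrime q.asIdeal)), p' ≤ q' → ((I.map (algebraMap A (AdicCompletion I A))).map (algebraMap (AdicCompletion I A) (AdicCompletion ((I.map (algebraMap A (AdicCompletion I A))).map (algebraMap (AdicCompletion I A) (Localization.AtPrime q.asIdeal))) (Localization.AtPrime q.asIdeal)))) ≤ q'.asIdeal → q'.asIdeal.IsMaximal) → (s : ℕ∞) < LocCoh.depth (Localization.AtPrime p'.asIdeal) (LocalizedModule p'.asIdeal.primeCompl (AdicCompletion ((I.map (algebraMap A (AdicCompletion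 I A))).map (algebraMap (AdicCompletion I A) (Localization.AtPrime q.asIdeal))) (LocalizedModule q.asIdeal.primeCompl (AdicCompletion I M))))) := by
  obtain ⟨ω, hω⟩ := hdc
  let B := AdicCompletion I A
  let J := I.map (algebraMap A B)
  have : IsNoetherianRing B := RegLoc.Completion.isNoetherianRing_adicCompletion' I
  have hωB := LocCoh.CompletionDeg.isDualizing_completion I hω
  let eM : TensorProduct A B M ≃ₗ[B] AdicCompletion I M :=
    AdicCompletion.ofTensorProductEquivOfFiniteNoetherian I M
  refine ⟨⟨_, hωB⟩, Groth.Agent.LocCoh.cdLE_map hcd, ?_, ?_⟩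
  · intro p r q hpr hrq hp hr hrT hqT
    let p₀ := PrimeSpectrum.comap (algebraMap A B) p
    let r₀ := PrimeSpectrum.comap (algebraMap A B) r
    let q₀ := PrimeSpectrum.comap (algebraMap A B) q
    have hpr₀ : p₀ ≤ r₀ := Ideal.comap_mono hpr
    have hrq₀ : r₀ ≤ q₀ := Ideal.comap_mono hrq
    have hpI : ¬ I ≤ p₀.asIdeal := fun h => hp (Ideal.map_le_iff_le_comap.2 h)
    refine (h4 p₀ r₀ q₀ hpr₀ hrq₀ hpI (Ideal.map_le_iff_le_comap.1 hr) hrT hqT).imp
      (fun h => h.trans (LocCoh.CompletionDeg.depth_le hω (p := p₀) (p' := p) rfl hωB M _ eM)) fun h => ?_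
    refine lt_of_lt_of_eq h ?_
    rw [LocCoh.SuppHm.dimBetween_eq, LocCoh.SuppHm.dimBetween_eq]
    exact (LocCoh.CompletionDeg.depth_add_eq hω (p := p₀) (p' := p) rfl hωB M _ eM (hpr₀.trans hrq₀)
      (hpr.trans hrq) (LocCoh.CompletionDeg.deg_eq hω (p := q₀) (p' := q) rfl hωB
        (LocCoh.CompletionDeg.map_comap_completion I q.asIdeal (hr.trans hrq)))).symm
  · intro q hqT p' hp' hall
    let q₀ := PrimeSpectrum.comap (algebraMap A B) q
    have hJq : J ≤ q.asIdeal := Ideal.map_le_iff_le_comap.2 (hTI hqT)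
    have : Module.Finite B (AdicCompletion I M) := Module.Finite.equiv eM
    let C₀ := LocCoh.BootPoint.Bq I q₀
    let C := LocCoh.BootPoint.Bq J q
    obtain ⟨e⟩ := LocCoh.BootCompl.exists_algEquiv I q hJq
    obtain ⟨hflat₀, hnoe₀, -, hloc₀, hmax₀, hc₀⟩ := LocCoh.BootPoint.facts I (hTI hqT : I ≤ q₀.asIdeal)
    obtain ⟨hflat, hnoe, -, hloc, hmax, hc⟩ := LocCoh.BootPoint.facts J hJq
    let := e.toAlgHom.toRingHom.toAlgebra
    have : IsScalarTower A C₀ C := IsScalarTower.of_algebraMap_eq fun a => (e.commutes a).symm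
    have hsurj : Function.Surjective (algebraMap C₀ C) := e.surjective
    have : Module.Flat C₀ C := Module.Flat.of_linearEquiv (AlgEquiv.ofBijective (Algebra.ofId C₀ C) e.bijective).toLinearEquiv.symm
    have hω₀ : Dual.IsDualizing C₀ ((DualCx.BaseChange.FD A C₀).obj ω) :=
      DualCx.Extended.isDualizing hω fun Q hQ => by
        obtain rfl := IsLocalRing.eq_maximalIdeal hQ
        rw [hc₀, hmax₀]
    have hωC := DualCx.Extended.isDualizing (B := C) hω₀ fun Q _ => Ideal.map_comap_of_surjective _ hsurj Q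
    obtain ⟨eN₀⟩ := LocCoh.BootCompl.exists_eN I (q := q₀) M
    obtain ⟨eN⟩ := LocCoh.BootCompl.exists_eN J (q := q) (AdicCompletion I M)
    let eC : TensorProduct C₀ C (TensorProduct A C₀ M) ≃ₗ[C] _ :=
      ((TensorProduct.AlgebraTensorModule.cancelBaseChange A C₀ C C M).trans
        ((TensorProduct.AlgebraTensorModule.cancelBaseChange A B C C M).symm.trans
          (TensorProduct.AlgebraTensorModule.congr (LinearEquiv.refl C C) eM))).trans eN
    let p₁ := PrimeSpectrum.comap (algebraMap C₀ C) p'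
    refine lt_of_lt_of_le ?_ (LocCoh.CompletionDeg.depth_le hω₀ (p := p₁) (p' := p') rfl hωC _ _ eC)
    have hI : (I.map (algebraMap A C₀)).map (algebraMap C₀ C) = J.map (algebraMap B C) := by
      exact (Ideal.map_map _ _).trans ((congrArg (fun g => I.map g)
        ((IsScalarTower.algebraMap_eq A C₀ C).symm.trans (IsScalarTower.algebraMap_eq A B C))).trans
          (Ideal.map_map _ _).symm)
    refine lt_of_lt_of_eq (h6 q₀ hqT p₁ (fun h => hp' ?_) fun q' h1 h2 => ?_)
      (EGA4Lib.depth_supportDim_congr (L := Localization.AtPrime p₁.asIdeal)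
        (IsLocalizedModule.mapEquiv p₁.asIdeal.primeCompl (LocalizedModule.mkLinearMap _ _)
          (LocalizedModule.mkLinearMap _ _) (Localization.AtPrime p₁.asIdeal) eN₀)).1.symm
    · exact hI ▸ Ideal.map_le_iff_le_comap.2 h
    · have hbij : Function.Bijective (algebraMap C₀ C) := e.bijective
      have hker : RingHom.ker (algebraMap C₀ C) ≤ q'.asIdeal := by
        rw [(RingHom.injective_iff_ker_eq_bot _).1 hbij.1]; exact bot_le
      have : (q'.asIdeal.map (algebraMap C₀ C)).IsPrime := Ideal.map_isPrime_of_surjective hsurj hker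
      have h3 := hall ⟨_, this⟩ (fun x hx => ?_) (hI ▸ Ideal.map_mono h2)
      · have h4' := Ideal.comap_isMaximal_of_surjective (algebraMap C₀ C) hsurj (K := q'.asIdeal.map (algebraMap C₀ C)) (H := h3)
        rwa [Ideal.comap_map_of_bijective _ hbij] at h4'
      · obtain ⟨y, rfl⟩ := hsurj x
        exact Ideal.mem_map_of_mem _ (h1 hx)

end Groth.Agent.S8828
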