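import Groth.Statements.S8831
import Groth.Agent.LocCoh.PuncturedArtin

set_option autoImplicit false
universe u
open CategoryTheory AlgebraicGeometry Opposite
open LocCoh

namespace Groth.Agent.S8831

/-- Let (A, m) be a Noetherian local ring and U = Spec A ∖ {m} the punctured spectrum. Suppose we are
given a system (F_n), indexed inversely by n, of coherent modules on U. In each positive degree i,
the cohomology groups H^i(U, F_n) then form a Mittag-Leffler system; concretely, given any n one can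
find r ≥ n such that for all s ≥ r the image of H^i(U, F_s) → H^i(U, F_n) equals the image of H^i(U,
F_r) → H^i(U, F_n). -/
theorem result (A : Type u) [CommRing A] [IsNoetherianRing A] [IsLocalRing A] (G : ℕᵒᵖ ⥤ (↑(LocCoh.puncturedOpen A (IsLocalRing.maximalIdeal A)) : Scheme.{u}).Modules) (hG : ∀ n : ℕᵒᵖ, Coh.IsCoh (G.obj n)) (i : ℕ) (hi : 0 < i) (n : ℕ) : ∃ (r : ℕ) (hnr : n ≤ r), ∀ (s : ℕ) (hrs : r ≤ s), Set.range (Sheaf.H.map ((SheafOfModules.toSheaf _).map (G.map (homOfLE (hnr.trans hrs : n ≤ s)).op)) i) = Set.range (Sheaf.H.map ((SheafOfModules.toSheaf _).map (G.map (homOfLE (hnr : n ≤ r)).op)) i) := by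
  have := Groth.Agent.LocCoh.PuncturedArtin.isArtinian_HH (G.obj (op n)) (hG _) hi
  let f : ∀ k : ℕ, _ →ₗ[A] Coh.HH _ (G.obj (op n)) i := fun k =>
    Canon.HHlin A (G.map (homOfLE (Nat.le_add_right n k)).op) i
  have anti : ∀ j k : ℕ, j ≤ k → LinearMap.range (f k) ≤ LinearMap.range (f j) := by
    rintro j k hjk _ ⟨x, rfl⟩
    refine ⟨Canon.HHlin A (G.map (homOfLE (Nat.add_le_add_left hjk n)).op) i x, ?_⟩
    refine (Sheaf.H.map_comp_apply _ _ _).symm.trans ?_
    erw [← Functor.map_comp, ← Functor.map_comp]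
    rfl
  obtain ⟨k₀, hk₀⟩ := IsArtinian.monotone_stabilizes ⟨fun k => OrderDual.toDual (LinearMap.range (f k)),
    fun j k hjk => anti j k hjk⟩
  refine ⟨n + k₀, Nat.le_add_right _ _, fun s hs => ?_⟩
  obtain ⟨k, rfl⟩ := Nat.exists_eq_add_of_le ((Nat.le_add_right n k₀).trans hs)
  exact congrArg SetLike.coe (OrderDual.toDual_inj.1 (hk₀ k (by omega))).symm

end Groth.Agent.S8831
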