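import Groth.Statements.S8834
import Mathlib.RingTheory.FiniteType
import Mathlib.RingTheory.Ideal.Operations
import Mathlib.RingTheory.Finiteness.Ideal
import Mathlib.RingTheory.Noetherian.Defs
-- import your own Groth.Agent.* helpers here

set_option autoImplicit false
universe u
open AdicRing

namespace Groth.Agent.S8834

/-- Let A be a Noetherian ring complete for the adic topology of an ideal I and B a Noetherian ring
complete for the adic topology of an ideal J, with an algebra map A → B sending I into the radical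
of J (a continuous homomorphism of adic Noetherian topological rings; the radicals of I and J are
the ideals of topologically nilpotent elements). Assume B/√J is of finite type over A, equivalently
over A/√I. Then B is topologically of finite type over A: there are b_1, …, b_s ∈ B such that the
A-algebra map A[x_1, …, x_s] → B with x_i ↦ b_i has dense image for the J-adic topology, that is,
for every y ∈ B and every n there is a polynomial whose value at b differs from y by an element of
J^n. -/
theorem result (A : Type u) [CommRing A] [IsNoetherianRing A] (I : Ideal A) [IsAdicComplete I A] (B : Type u) [CommRing B] [Algebra A B] [IsNoetherianRing B] (J : Ideal B) [IsAdicComplete J B] (hIJ : I.map (algebraMap A B) ≤ J.radical) (hft : Algebra.FiniteType A (B ⧸ J.radical)) : ∃ s : ℕ, ∃ b : Fin s → B, ∀ (y : B) (n : ℕ), ∃ p : MvPolynomial (Fin s) A, y - MvPolynomial.aeval b p ∈ J ^ n := by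
  classical
  set K := J.radical with hK
  obtain ⟨s, hs⟩ := hft.1
  obtain ⟨g, hg⟩ := IsNoetherian.noetherian K
  obtain ⟨N, hN⟩ := Ideal.exists_radical_pow_le_of_fg J (IsNoetherian.noetherian _)
  choose l hl using fun x : B ⧸ K => Ideal.Quotient.mk_surjective x
  let t : Finset B := s.image l ∪ g
  refine ⟨t.card, fun i => (t.equivFin.symm i : B), ?_⟩
  let ev : MvPolynomial (Fin t.card) A →ₐ[A] B :=
    MvPolynomial.aeval fun i => (t.equivFin.symm i : B)
  let R := ev.range
  have hmem : ∀ x ∈ t, x ∈ R := fun x hx =>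
    ⟨MvPolynomial.X (t.equivFin ⟨x, hx⟩), by simp [ev]⟩
  have hsplit : ∀ y : B, ∃ r ∈ R, y - r ∈ K := by
    intro y
    have : Ideal.Quotient.mkₐ A K y ∈ R.map (Ideal.Quotient.mkₐ A K) := by
      refine SetLike.le_def.1 (hs.ge.trans (Algebra.adjoin_le ?_)) Algebra.mem_top
      intro x hx
      exact ⟨l x, hmem _ (Finset.mem_union_left _ (Finset.mem_image_of_mem _ hx)), hl x⟩
    obtain ⟨r, hr, e⟩ := this
    exact ⟨r, hr, (Ideal.Quotient.eq).1 e.symm⟩
  have hK1 : ∀ k ∈ K, ∃ r ∈ R, r ∈ K ∧ k - r ∈ K ^ 2 := by
    intro k hk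
    rw [← hg, Submodule.mem_span_finset'] at hk
    obtain ⟨c, rfl⟩ := hk
    choose r hr hcr using fun a : g => hsplit (c a)
    have hgK : ∀ a : g, (a : B) ∈ K := fun a => hg ▸ Submodule.subset_span a.2
    refine ⟨∑ a : g, r a * (a : B), sum_mem fun a _ => mul_mem (hr a)
      (hmem _ (Finset.mem_union_right _ a.2)), sum_mem fun a _ => Ideal.mul_mem_left _ _ (hgK a), ?_⟩
    rw [← Finset.sum_sub_distrib, pow_two]
    refine sum_mem fun a _ => ?_
    rw [smul_eq_mul, ← sub_mul]
    exact Ideal.mul_mem_mul (hcr a) (hgK a)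
  have key : ∀ n, ∀ y ∈ K ^ n, ∃ r ∈ R, r ∈ K ^ n ∧ y - r ∈ K ^ (n + 1) := by
    intro n
    induction n with
    | zero =>
      intro y _
      obtain ⟨r, hr, h⟩ := hsplit y
      exact ⟨r, hr, by simp, by simpa using h⟩
    | succ n ih =>
      intro y hy
      rw [pow_succ] at hy
      refine Submodule.mul_induction_on hy (fun a ha b hb => ?_) (fun a b ha hb => ?_)
      · obtain ⟨r, hr, hrK, har⟩ := ih a ha
        obtain ⟨q, hq, hqK, hbq⟩ := hK1 b hb
        refine ⟨r * q, mul_mem hr hq, ?_, ?_⟩
        · rw [pow_succ]; exact Ideal.mul_mem_mul hrK hqK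
        · rw [show a * b - r * q = (a - r) * b + r * (b - q) by ring]
          refine add_mem ?_ ?_
          · rw [pow_succ K (n + 1)]; exact Ideal.mul_mem_mul har hb
          · rw [show n + 1 + 1 = n + 2 by omega, pow_add]; exact Ideal.mul_mem_mul hrK hbq
      · obtain ⟨r, hr, hrK, har⟩ := ha
        obtain ⟨q, hq, hqK, hbq⟩ := hb
        exact ⟨r + q, add_mem hr hq, add_mem hrK hqK, by
          rw [show a + b - (r + q) = (a - r) + (b - q) by ring]; exact add_mem har hbq⟩
  have hall : ∀ n y, ∃ r ∈ R, y - r ∈ K ^ n := by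
    intro n
    induction n with
    | zero => intro y; exact ⟨0, zero_mem _, by simp⟩
    | succ n ih =>
      intro y
      obtain ⟨r, hr, h⟩ := ih y
      obtain ⟨q, hq, -, h'⟩ := key n _ h
      exact ⟨r + q, add_mem hr hq, by rw [← sub_sub]; exact h'⟩
  intro y n
  obtain ⟨r, ⟨p, rfl⟩, h⟩ := hall (N * n) y
  rw [pow_mul] at h
  exact ⟨p, Ideal.pow_right_mono hN n h⟩

end Groth.Agent.S8834
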