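import Groth.Statements.S8835
import Groth.Agent.Adic.Rig.Finite

set_option autoImplicit false
universe u
open AdicRing

namespace Groth.Agent.S8835

/-- Let A be a Noetherian ring complete for the adic topology of an ideal I, and B a Noetherian
A-algebra complete for the IB-adic topology with B/IB of finite type over A (an adic morphism,
topologically of finite type, of adic Noetherian topological rings). Let q be a prime of B which is
rig-closed (IB ⊄ q and q maximal among the primes not containing IB). If A/I is a Jacobson ring,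
then the inverse image p of q in A is rig-closed: I ⊄ p and p is maximal among the primes of A not
containing I. -/
theorem result (A : Type u) [CommRing A] [IsNoetherianRing A] (I : Ideal A) [IsAdicComplete I A] (B : Type u) [CommRing B] [Algebra A B] [IsNoetherianRing B] [IsAdicComplete (I.map (algebraMap A B)) B] (hft : Algebra.FiniteType A (B ⧸ (I.map (algebraMap A B)))) (q : PrimeSpectrum B) (hq : (¬ (I.map (algebraMap A B)) ≤ q.asIdeal ∧ ∀ y : PrimeSpectrum B, q ≤ y → ¬ (I.map (algebraMap A B)) ≤ y.asIdeal → y = q)) (hJ : IsJacobsonRing (A ⧸ I)) : (¬ I ≤ (PrimeSpectrum.comap (algebraMap A B) q).asIdeal ∧ ∀ y : PrimeSpectrum A, (PrimeSpectrum.comap (algebraMap A B) q) ≤ y → ¬ I ≤ y.asIdeal → y = (PrimeSpectrum.comap (algebraMap A B) q)) := by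
  open Groth.Agent.Adic.Rig in
  have hq' := rigClosed_of_spec hq
  set Q := (I.map (algebraMap A B) ⊔ q.asIdeal).radical with hQdef
  have hQ : Q.IsMaximal := hq'.isMaximal_radical
  have hIQ : I.map (algebraMap A B) ≤ Q := le_sup_left.trans Ideal.le_radical
  let _ : Field (B ⧸ Q) := Ideal.Quotient.field Q
  let _ : Algebra (A ⧸ I) (B ⧸ Q) :=
    (Ideal.quotientMap Q (algebraMap A B) (Ideal.map_le_iff_le_comap.1 hIQ)).toAlgebra
  have : IsScalarTower A (A ⧸ I) (B ⧸ Q) := IsScalarTower.of_algebraMap_eq fun _ => rfl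
  have : Algebra.FiniteType A (B ⧸ Q) := hft.of_surjective (Ideal.Quotient.factorₐ A hIQ)
    (Ideal.Quotient.factor_surjective hIQ)
  have : Algebra.FiniteType (A ⧸ I) (B ⧸ Q) :=
    Algebra.FiniteType.of_restrictScalars_finiteType A (A ⧸ I) (B ⧸ Q)
  have : Module.Finite (A ⧸ I) (B ⧸ Q) := finite_of_finite_type_of_isJacobsonRing (A ⧸ I) (B ⧸ Q)
  have : Module.Finite A (B ⧸ Q) := Module.Finite.trans (A ⧸ I) (B ⧸ Q)
  have : Module.Finite A (B ⧸ q.asIdeal) := finite_quotient hft q.asIdeal Q le_rfl
  exact (hq'.comap_of_finite).toSpec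

end Groth.Agent.S8835
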