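import Groth.Statements.S8836
import Groth.Agent.Adic.Rig.Finite

set_option autoImplicit false
universe u
open AdicRing

namespace Groth.Agent.S8836

/-- Let A be a Noetherian ring complete for the adic topology of an ideal I, and B a Noetherian
A-algebra complete for the IB-adic topology, flat over A, with B/IB of finite type over A (a flat
adic morphism, topologically of finite type, of adic Noetherian topological rings). Let p be a prime
of A which is rig-closed (I ⊄ p and p maximal among the primes not containing I). The following are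
equivalent: (1) the maximal ideal of the local ring A/p lies in the image of Spec(B/√(IB)) →
Spec(A/√I), stated as: some prime Q of B containing IB lies over a maximal ideal of A containing p;
(2) there is a rig-closed prime q of B (IB ⊄ q, q maximal among the primes not containing IB) whose
inverse image in A is p. (The published statement adds that, when these hold, A/p ⊆ B/q is a finite
extension of rings and the residue field of the local ring B/q is finite over A/√I; this is not
restated here.) -/
theorem result (A : Type u) [CommRing A] [IsNoetherianRing A] (I : Ideal A) [IsAdicComplete I A] (B : Type u) [CommRing B] [Algebra A B] [IsNoetherianRing B] [IsAdicComplete (I.map (algebraMap A B)) B] (hft : Algebra.FiniteType A (B ⧸ (I.map (algebraMap A B)))) [Module.Flat A B] (p : PrimeSpectrum A) (hp : (¬ I ≤ p.asIdeal ∧ ∀ y : PrimeSpectrum A, p ≤ y → ¬ I ≤ y.asIdeal → y = p)) : (∃ Q : PrimeSpectrum B, (I.map (algebraMap A B)) ≤ Q.asIdeal ∧ p.asIdeal ≤ (PrimeSpectrum.comap (algebraMap A B) Q).asIdeal ∧ (PrimeSpectrum.comap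 (algebraMap A B) Q).asIdeal.IsMaximal) ↔ (∃ q : PrimeSpectrum B, (¬ (I.map (algebraMap A B)) ≤ q.asIdeal ∧ ∀ y : PrimeSpectrum B, q ≤ y → ¬ (I.map (algebraMap A B)) ≤ y.asIdeal → y = q) ∧ PrimeSpectrum.comap (algebraMap A B) q = p) := by
  open Groth.Agent.Adic.Rig in
  have hp' := rigClosed_of_spec hp
  constructor
  · rintro ⟨Q, -, hpQ, -⟩
    have : (PrimeSpectrum.comap (algebraMap A B) Q).asIdeal.IsPrime := PrimeSpectrum.isPrime _
    have : Q.asIdeal.LiesOver (PrimeSpectrum.comap (algebraMap A B) Q).asIdeal := ⟨rfl⟩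
    obtain ⟨q₀, -, hq₀, hlo⟩ := Q.asIdeal.exists_ideal_le_liesOver_of_le (p := p.asIdeal)
      (q := (PrimeSpectrum.comap (algebraMap A B) Q).asIdeal) hpQ
    have hq₀p : q₀.comap (algebraMap A B) = p.asIdeal := hlo.over.symm
    let S : Set (Ideal B) := {y | y.IsPrime ∧ q₀ ≤ y ∧ ¬ I.map (algebraMap A B) ≤ y}
    obtain ⟨q, ⟨hq, hle, hI⟩, hmax⟩ := set_has_maximal_iff_noetherian.2 inferInstance S
      ⟨q₀, hq₀, le_rfl, fun h => hp.1 (hq₀p ▸ le_comap_iff.2 h)⟩
    refine ⟨⟨q, hq⟩, ⟨hI, fun y hy hy' => PrimeSpectrum.ext ?_⟩, PrimeSpectrum.ext ?_⟩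
    · exact (congrArg PrimeSpectrum.asIdeal (eq_of_le_of_not_lt hy (hmax y.asIdeal ⟨y.2, hle.trans hy, hy'⟩))).symm
    · exact hp'.2 _ (Ideal.comap_isPrime _ q) (hq₀p.ge.trans (Ideal.comap_mono hle))
        (fun h => hI (le_comap_iff.1 h))
  · rintro ⟨q, hq, rfl⟩
    have hq' := rigClosed_of_spec hq
    have hQ := hq'.isMaximal_radical
    exact ⟨⟨_, hQ.isPrime⟩, le_sup_left.trans Ideal.le_radical,
      Ideal.comap_mono hq'.lt_radical.le,
      hp'.comap_isMaximal (le_sup_left.trans Ideal.le_radical) (Ideal.comap_mono hq'.lt_radical.le)⟩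

end Groth.Agent.S8836
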