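import Groth.Statements.S8837
import Groth.Agent.Adic.Rig.Finite

set_option autoImplicit false
universe u
open AdicRing

namespace Groth.Agent.S8837

/-- Let A be a Noetherian ring complete for the adic topology of an ideal I (an adic Noetherian
topological ring), p a prime ideal of A, and f ∈ A an element mapping to a unit in A/p. Let A_{f}
denote the completed principal localization, i.e. the I-adic completion of A_f = A[1/f]. Then the
ideal p A_{f} generated by p is prime, and the canonical map A/p → A_{f}/p A_{f} is bijective (so p
A_{f} = p ⊗_A A_{f} is the completion of p_f, with quotient A/p). -/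
theorem result (A : Type u) [CommRing A] [IsNoetherianRing A] (I : Ideal A) [IsAdicComplete I A] (p : Ideal A) [p.IsPrime] (f : A) (hf : IsUnit (Ideal.Quotient.mk p f)) : (p.map (algebraMap A (AdicCompletion (I.map (algebraMap A (Localization.Away f))) (Localization.Away f)))).IsPrime ∧ Function.Bijective (Ideal.quotientMap (p.map (algebraMap A (AdicCompletion (I.map (algebraMap A (Localization.Away f))) (Localization.Away f)))) (algebraMap A (AdicCompletion (I.map (algebraMap A (Localization.Away f))) (Localization.Away f))) Ideal.le_comap_map) := by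
  open Groth.Agent.Adic.Rig in
  obtain ⟨π, hπ⟩ := exists_hom_away (I := I) p f hf
  let C := AdicCompletion (I.map (algebraMap A (Localization.Away f))) (Localization.Away f)
  have hcomap : ∀ a : A, algebraMap A C a ∈ p.map (algebraMap A C) ↔ a ∈ p := fun a => by
    rw [← hπ, RingHom.mem_ker]
    show π (algebraMap A C a) = 0 ↔ _
    rw [AlgHom.commutes]
    exact Ideal.Quotient.eq_zero_iff_mem
  refine ⟨hπ ▸ RingHom.ker_isPrime _, ?_, ?_⟩
  · rw [injective_iff_map_eq_zero]
    intro x hx
    obtain ⟨a, rfl⟩ := Ideal.Quotient.mk_surjective x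
    rw [Ideal.quotientMap_mk, Ideal.Quotient.eq_zero_iff_mem] at hx
    exact Ideal.Quotient.eq_zero_iff_mem.2 ((hcomap a).1 hx)
  · intro y
    obtain ⟨z, rfl⟩ := Ideal.Quotient.mk_surjective y
    obtain ⟨a, ha⟩ := Ideal.Quotient.mk_surjective (π z)
    refine ⟨Ideal.Quotient.mk p a, ?_⟩
    rw [Ideal.quotientMap_mk, Ideal.Quotient.eq, ← hπ, RingHom.mem_ker]
    show π (algebraMap A C a - z) = 0
    rw [map_sub, AlgHom.commutes, Ideal.Quotient.algebraMap_eq, ha, sub_self]

end Groth.Agent.S8837
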