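import Groth.Statements.S8840
import Groth.Agent.Adic.Rig.Finite
import Mathlib.RingTheory.Localization.Integral
import Mathlib.RingTheory.Algebraic.Integral

set_option autoImplicit false
universe u
open AdicRing

namespace Groth.Agent.S8840

/-- Let A be a Noetherian ring complete for the adic topology of an ideal I, and B a Noetherian
A-algebra complete for the IB-adic topology with B/IB of finite type over A (an adic morphism,
topologically of finite type, of adic Noetherian topological rings). Let q be a prime of B which is
rig-closed (IB ⊄ q and q maximal among the primes not containing IB). Then there exists f ∈ A which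
maps to a unit in B/q such that the following holds. Let A_{f} and B_{f} be the completed principal
localizations (the I-adic completions of A_f and B_f) and ψ : A_{f} → B_{f} the canonical map,
characterised here as any ring map compatible with A_f → B_f (there is exactly one). Then the
inverse image p' under ψ of the ideal q' = q B_{f} is a rig-closed prime of A_{f}: p' is prime, I
A_{f} ⊄ p', and p' is maximal among the primes of A_{f} not containing I A_{f}. (That q B_{f} is
itself prime with quotient B/q holds because f is a unit modulo q; it is not restated.) -/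
theorem result (A : Type u) [CommRing A] [IsNoetherianRing A] (I : Ideal A) [IsAdicComplete I A] (B : Type u) [CommRing B] [Algebra A B] [IsNoetherianRing B] [IsAdicComplete (I.map (algebraMap A B)) B] (hft : Algebra.FiniteType A (B ⧸ (I.map (algebraMap A B)))) (q : PrimeSpectrum B) (hq : (¬ (I.map (algebraMap A B)) ≤ q.asIdeal ∧ ∀ y : PrimeSpectrum B, q ≤ y → ¬ (I.map (algebraMap A B)) ≤ y.asIdeal → y = q)) : ∃ f : A, IsUnit (Ideal.Quotient.mk q.asIdeal (algebraMap A B f)) ∧ ∀ ψ : (AdicCompletion (I.map (algebraMap A (Localization.Away f))) (Localization.Away f)) →+* (AdicCompletion ((I.map (algebraMap A B)).map (algebraMap B (Localization.Away (algebraMap A B f)))) (Localization.Away (algebraMap A B f))), ψ.comp (algebraMap (Localization.Away f) (AdicCompletion (I.map (algebraMap A (Localization.Away f))) (Localization.Away f))) = (algebraMap (Localization.Away (algebraMap A B f)) (AdicCompletion ((I.map (algebraMap A B)).map (algebraMap B (Localization.Away (algebraMap A B f)))) (Localization.Away (algebraMap A B f)))).comp (Localization.awayMap (algebraMap A B) f) → (((q.asIdeal.map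 (algebraMap B (AdicCompletion ((I.map (algebraMap A B)).map (algebraMap B (Localization.Away (algebraMap A B f)))) (Localization.Away (algebraMap A B f))))).comap ψ).IsPrime ∧ ¬ (I.map (algebraMap A (AdicCompletion (I.map (algebraMap A (Localization.Away f))) (Localization.Away f)))) ≤ ((q.asIdeal.map (algebraMap B (AdicCompletion ((I.map (algebraMap A B)).map (algebraMap B (Localization.Away (algebraMap A B f)))) (Localization.Away (algebraMap A B f))))).comap ψ) ∧ ∀ y : PrimeSpectrum (AdicCompletion (I.map (algebraMap A (Localization.Away f))) (Localization.Away f)), ((q.asIdeal.map (algebraMap B (AdicCompletion ((I.map (algebraMap A B)).map (algebraMap B (Localization.Away (algebraMap A B f)))) (Localization.Away (algebraMap A B f))))).comap ψ) ≤ y.asIdeal → ¬ (I.map (algebraMap A (AdicCompletion (I.map (algebraMap A (Localization.Away f))) (Localization.Away f)))) ≤ y.asIdeal → y.asIdeal = ((q.asIdeal.map (algebraMap B (AdicCompletion ((I.map (algebraMap A B)).map (algebraMap B (Localization.Away (algebraMap A B f)))) (Localization.Away (algebraMap A B f))))).comap ψ))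 := by
  open Groth.Agent.Adic.Rig Groth.Agent.Adic.CV in
  classical
  have hq' := rigClosed_of_spec hq
  set Q := (I.map (algebraMap A B) ⊔ q.asIdeal).radical with hQdef
  have hQ : Q.IsMaximal := hq'.isMaximal_radical
  have hqQ : q.asIdeal ≤ Q := hq'.lt_radical.le
  have hIQ : I.map (algebraMap A B) ≤ Q := le_sup_left.trans Ideal.le_radical
  let k := B ⧸ Q
  let _ : Field k := Ideal.Quotient.field Q
  have hkft : Algebra.FiniteType A k :=
    hft.of_surjective (Ideal.Quotient.factorₐ A hIQ) (Ideal.Quotient.factor_surjective hIQ)
  -- an element making the residue field finite over the localised base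
  let p₀ := RingHom.ker (algebraMap A k)
  have : p₀.IsPrime := RingHom.ker_isPrime _
  let A' := A ⧸ p₀
  let _ : Algebra A' k := (Ideal.Quotient.lift p₀ (algebraMap A k) fun _ h => h).toAlgebra
  have : IsScalarTower A A' k := IsScalarTower.of_algebraMap_eq fun _ => rfl
  have : FaithfulSMul A' k :=
    (faithfulSMul_iff_algebraMap_injective A' k).2 (RingHom.kerLift_injective (algebraMap A k))
  let K := FractionRing A'
  let _ : Algebra K k := FractionRing.liftAlgebra A' k
  have : IsScalarTower A' K k := FractionRing.isScalarTower_liftAlgebra A' k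
  have : Algebra.FiniteType A' k := Algebra.FiniteType.of_restrictScalars_finiteType A A' k
  have : Algebra.FiniteType K k := Algebra.FiniteType.of_restrictScalars_finiteType A' K k
  have : Module.Finite K k := finite_of_finite_type_of_isJacobsonRing K k
  have hmult : ∀ x : k, ∃ c : A, c ∉ p₀ ∧ IsIntegral A (algebraMap A k c * x) := fun x => by
    have hx : IsAlgebraic A' x :=
      (IsFractionRing.isAlgebraic_iff A' K k).2 (Algebra.IsAlgebraic.isAlgebraic (R := K) x)
    obtain ⟨c, hc0, hc⟩ := hx.exists_integral_multiple
    obtain ⟨c, rfl⟩ := Ideal.Quotient.mk_surjective c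
    refine ⟨c, fun h => hc0 (Ideal.Quotient.eq_zero_iff_mem.2 h), ?_⟩
    have : IsIntegral A (Ideal.Quotient.mk p₀ c • x) := isIntegral_trans _ hc
    rwa [Algebra.smul_def] at this
  choose c hc hci using hmult
  obtain ⟨s, hs⟩ := hkft.out
  let f := ∏ x ∈ s, c x
  have hf0 : f ∉ p₀ := fun h => by
    obtain ⟨x, -, hx⟩ := (Ideal.IsPrime.prod_mem_iff).1 h
    exact hc x hx
  have hfQ : algebraMap A B f ∉ Q := fun h => hf0 (Ideal.Quotient.eq_zero_iff_mem.2 h)
  have hfu : IsUnit (Ideal.Quotient.mk q.asIdeal (algebraMap A B f)) := by
    by_contra hnu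
    obtain ⟨M, hM, hfM⟩ := exists_max_ideal_of_mem_nonunits hnu
    have hM' := Ideal.comap_isMaximal_of_surjective (Ideal.Quotient.mk q.asIdeal)
      Ideal.Quotient.mk_surjective (K := M)
    have hle : q.asIdeal ≤ M.comap (Ideal.Quotient.mk q.asIdeal) := fun x hx => by
      rw [Ideal.mem_comap, Ideal.Quotient.eq_zero_iff_mem.2 hx]; exact zero_mem M
    have hlt := lt_of_le_of_ne hle fun e => hq'.1 (e ▸ le_of_isMaximal)
    refine hfQ ?_
    rw [hQdef, ← hq'.eq_radical hlt]
    exact hfM
  refine ⟨f, hfu, fun ψ hψ => ?_⟩
  obtain ⟨π, hπ⟩ := exists_hom_away (I := I.map (algebraMap A B)) q.asIdeal (algebraMap A B f) hfu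
  rw [← hπ]
  let C := AdicCompletion (I.map (algebraMap A (Localization.Away f))) (Localization.Away f)
  let D := B ⧸ q.asIdeal
  let _ : Algebra C D := (π.toRingHom.comp ψ).toAlgebra
  have hCD : IsScalarTower A C D := IsScalarTower.of_algebraMap_eq fun a => by
    have h1 := RingHom.congr_fun hψ (algebraMap A (Localization.Away f) a)
    simp only [RingHom.comp_apply] at h1
    rw [← IsScalarTower.algebraMap_apply A (Localization.Away f) C] at h1
    rw [Localization.awayMap, IsLocalization.Away.map, IsLocalization.map_eq] at h1
    rw [← IsScalarTower.algebraMap_apply B (Localization.Away (algebraMap A B f))] at h1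
    show algebraMap A D a = π (ψ (algebraMap A C a))
    rw [h1, AlgHom.commutes]
    rfl
  let J := I.map (algebraMap A C)
  have hJ : IsAdicComplete J C := isAdicComplete_compl (IsNoetherian.noetherian I)
  have : IsHausdorff I D := isHausdorff_quot q.asIdeal
  have : IsHausdorff J D := (IsHausdorff.map_algebraMap_iff (R := A) (S := C)).2 inferInstance
  have hJD : J.map (algebraMap C D) = I.map (algebraMap A D) := by
    rw [Ideal.map_map, ← IsScalarTower.algebraMap_eq]
  have hID : I.map (algebraMap A D) = (I.map (algebraMap A B)).map (Ideal.Quotient.mk q.asIdeal) := by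
    rw [Ideal.map_map]; rfl
  -- the residue field over the completed localisation
  let φ : D →+* k := Ideal.Quotient.factor hqQ
  let _ : Algebra C k := (φ.comp (algebraMap C D)).toAlgebra
  let φ' : D →ₐ[C] k := { φ with commutes' := fun _ => rfl }
  have : IsScalarTower A C k := IsScalarTower.of_algebraMap_eq fun a => by
    show algebraMap A k a = φ (algebraMap C D (algebraMap A C a))
    rw [← IsScalarTower.algebraMap_apply A C D]
    rfl
  have hint : ∀ x ∈ (s : Set k), IsIntegral C x := fun x hx => by
    have hu : IsUnit (algebraMap A C (c x)) := by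
      rw [IsScalarTower.algebraMap_apply A (Localization.Away f) C]
      exact (isUnit_of_dvd_unit (map_dvd _ (Finset.dvd_prod_of_mem c hx))
        (IsLocalization.Away.algebraMap_isUnit f)).map _
    obtain ⟨u, hu⟩ := hu.exists_left_inv
    have h1 : IsIntegral C (algebraMap A k (c x) * x) := (hci x).tower_top
    have h2 := (isIntegral_algebraMap (x := u) (A := k)).mul h1
    rwa [IsScalarTower.algebraMap_apply A C k, ← mul_assoc, ← map_mul, hu, map_one, one_mul] at h2
  have : Algebra.FiniteType C k := Algebra.FiniteType.of_restrictScalars_finiteType A C k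
  have : Algebra.IsIntegral C k := ⟨fun x => by
    have hle : Algebra.adjoin A (s : Set k) ≤ (integralClosure C k).restrictScalars A :=
      Algebra.adjoin_le hint
    exact hle (hs ▸ Algebra.mem_top)⟩
  have : Module.Finite C k := Algebra.IsIntegral.finite
  have : Module.Finite C (D ⧸ RingHom.ker φ') := Module.Finite.equiv
    (Ideal.quotientKerAlgEquivOfSurjective (f := φ')
      (Ideal.Quotient.factor_surjective hqQ)).symm.toLinearEquiv
  have hftD : Algebra.FiniteType C (D ⧸ J.map (algebraMap C D)) := by
    have : Algebra.FiniteType A (D ⧸ J.map (algebraMap C D)) := by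
      refine hft.of_surjective (Ideal.quotientMapₐ _ (Ideal.Quotient.mkₐ A q.asIdeal) ?_) ?_
      · rw [hJD, hID]; exact Ideal.le_comap_map
      · intro y
        obtain ⟨y, rfl⟩ := Ideal.Quotient.mk_surjective y
        obtain ⟨x, rfl⟩ := Ideal.Quotient.mk_surjective y
        exact ⟨Ideal.Quotient.mk _ x, rfl⟩
    exact Algebra.FiniteType.of_restrictScalars_finiteType A C _
  have : Module.Finite C D := finite_of_radical (I := J) hftD (N := RingHom.ker φ') (by
    intro y hy
    obtain ⟨y, rfl⟩ := Ideal.Quotient.mk_surjective y
    have hy' : y ∈ Q := Ideal.Quotient.eq_zero_iff_mem.1 hy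
    obtain ⟨m, hm⟩ := hy'
    obtain ⟨a, ha, b, hb, hab⟩ := Submodule.mem_sup.1 hm
    refine ⟨m, ?_⟩
    rw [← map_pow, ← hab, map_add, Ideal.Quotient.eq_zero_iff_mem.2 hb, add_zero, hJD, hID]
    exact Ideal.mem_map_of_mem _ ha)
  have : Module.Finite C (D ⧸ (⊥ : Ideal D)) :=
    Module.Finite.equiv (AlgEquiv.quotientBot C D).symm.toLinearEquiv
  have hbot : RigClosed (J.map (algebraMap C D)) (⊥ : Ideal D) := by
    refine ⟨fun h => hq'.1 fun x hx => ?_, fun y hy _ hy' => ?_⟩
    · rw [hJD, hID, le_bot_iff, Ideal.map_eq_bot_iff_le_ker, Ideal.mk_ker] at h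
      exact h hx
    · rw [hJD, hID, Ideal.map_le_iff_le_comap] at hy'
      have := hq'.2 _ (Ideal.comap_isPrime _ y) (fun x hx => by
        rw [Ideal.mem_comap, Ideal.Quotient.eq_zero_iff_mem.2 hx]; exact zero_mem y) hy'
      rw [← Ideal.map_comap_of_surjective (Ideal.Quotient.mk q.asIdeal) Ideal.Quotient.mk_surjective y,
        this, Ideal.map_quotient_self]
  have hp := hbot.comap_of_finite
  have he : (RingHom.ker π.toRingHom).comap ψ = (⊥ : Ideal D).comap (algebraMap C D) := by
    ext x; rfl
  rw [he]
  exact ⟨Ideal.comap_isPrime _ _, hp.1, fun y hy hy' => hp.2 _ y.2 hy hy'⟩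

end Groth.Agent.S8840
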