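import Groth.Statements.S8841
import Groth.Agent.Adic.Rig.Finite
import Groth.Agent.Adic.Rig.Flat
import Mathlib.RingTheory.Flat.Localization
import Mathlib.RingTheory.RingHom.Flat
import Mathlib.RingTheory.AdicCompletion.AsTensorProduct
import Mathlib.RingTheory.Jacobson.Ring
import Mathlib.RingTheory.Localization.Away.AdjoinRoot

set_option autoImplicit false
universe u
open AdicRing

namespace Groth.Agent.S8841

/-- Let A be a Noetherian ring complete for the adic topology of an ideal I, and B a Noetherian
A-algebra complete for the IB-adic topology with B/IB of finite type over A (an adic morphism,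
topologically of finite type, of adic Noetherian topological rings), and assume A/I is a Jacobson
ring. Suppose A → B is naively rig-flat: whenever q is a rig-closed prime of B (IB ⊄ q and q maximal
among the primes not containing IB), the localization B_q is an A-flat ring. Then A → B is rig-flat:
for every f ∈ A, letting A_{f} and B_{f} be the completed principal localizations (the I-adic
completions of A_f and B_f) and ψ : A_{f} → B_{f} the canonical map, characterised here as any ring
map compatible with A_f → B_f (there is exactly one), the local ring (B_{f})_{q'} is flat over A_{f}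
via ψ for every rig-closed prime q' of B_{f} (I B_{f} ⊄ q' and q' maximal among the primes not
containing I B_{f}). (That A_{f} → B_{f} is again adic and topologically of finite type is not
restated.) -/
theorem result (A : Type u) [CommRing A] [IsNoetherianRing A] (I : Ideal A) [IsAdicComplete I A] (B : Type u) [CommRing B] [Algebra A B] [IsNoetherianRing B] [IsAdicComplete (I.map (algebraMap A B)) B] (hft : Algebra.FiniteType A (B ⧸ (I.map (algebraMap A B)))) (hJ : IsJacobsonRing (A ⧸ I)) (hnaive : ∀ q : PrimeSpectrum B, (¬ (I.map (algebraMap A B)) ≤ q.asIdeal ∧ ∀ y : PrimeSpectrum B, q ≤ y → ¬ (I.map (algebraMap A B)) ≤ y.asIdeal → y = q) → (algebraMap A (Localization.AtPrime q.asIdeal)).Flat) (f : A) (ψ : (AdicCompletion (I.map (algebraMap A (Localization.Away f))) (Localization.Away f)) →+* (AdicCompletion ((I.map (algebraMap A B)).map (algebraMap B (Localization.Away (algebraMap A B f)))) (Localization.Away (algebraMap A B f)))) (hψ : ψ.comp (algebraMap (Localization.Away f) (AdicCompletion (I.map (algebraMap A (Localization.Away f))) (Localization.Away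 f))) = (algebraMap (Localization.Away (algebraMap A B f)) (AdicCompletion ((I.map (algebraMap A B)).map (algebraMap B (Localization.Away (algebraMap A B f)))) (Localization.Away (algebraMap A B f)))).comp (Localization.awayMap (algebraMap A B) f)) (q' : PrimeSpectrum (AdicCompletion ((I.map (algebraMap A B)).map (algebraMap B (Localization.Away (algebraMap A B f)))) (Localization.Away (algebraMap A B f)))) (hq' : (¬ ((((I.map (algebraMap A B))).map (algebraMap B (Localization.Away (algebraMap A B f)))).map (algebraMap (Localization.Away (algebraMap A B f)) (AdicCompletion ((I.map (algebraMap A B)).map (algebraMap B (Localization.Away (algebraMap A B f)))) (Localization.Away (algebraMap A B f))))) ≤ q'.asIdeal ∧ ∀ y : PrimeSpectrum (AdicCompletion ((I.map (algebraMap A B)).map (algebraMap B (Localization.Away (algebraMap A B f)))) (Localization.Away (algebraMap A B f))), q' ≤ y → ¬ ((((I.map (algebraMap A B))).map (algebraMap B (Localization.Away (algebraMap A B f)))).map (algebraMap (Localization.Away (algebraMap A B f)) (AdicCompletion ((I.map (algebraMap A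 B)).map (algebraMap B (Localization.Away (algebraMap A B f)))) (Localization.Away (algebraMap A B f))))) ≤ y.asIdeal → y = q')) : ((algebraMap (AdicCompletion ((I.map (algebraMap A B)).map (algebraMap B (Localization.Away (algebraMap A B f)))) (Localization.Away (algebraMap A B f))) (Localization.AtPrime q'.asIdeal)).comp ψ).Flat := by
  open Groth.Agent.Adic.Rig Groth.Agent.Adic.CV in
  have hR := isNoetherianRing_compl (A := A) (I := I) (C := Localization.Away f)
  let R := AdicCompletion (I.map (algebraMap A (Localization.Away f))) (Localization.Away f)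
  let g := algebraMap A B f
  let IB := I.map (algebraMap A B)
  let B₁ := AdicCompletion (IB.map (algebraMap B (Localization.Away g))) (Localization.Away g)
  have hB₁N : IsNoetherianRing B₁ := isNoetherianRing_compl (A := B) (I := IB) (C := Localization.Away g)
  have hB₁c := isAdicComplete_compl (R := B) (I := IB) (C := Localization.Away g) (IsNoetherian.noetherian _)
  have hft₁ : Algebra.FiniteType B (B₁ ⧸ IB.map (algebraMap B B₁)) := by
    have : Algebra.FiniteType B (Localization.Away g) := inferInstance
    have h1 : Algebra.FiniteType B (Localization.Away g ⧸ IB.map (algebraMap B (Localization.Away g)) ^ 1) :=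
      Algebra.FiniteType.of_surjective (A := Localization.Away g) (Ideal.Quotient.mkₐ B _)
        Ideal.Quotient.mk_surjective
    have := h1.equiv (quotCompl (C := Localization.Away g) (IsNoetherian.noetherian IB) 1).symm
    rwa [pow_one] at this
  have hIB₁ : IB.map (algebraMap B B₁) =
      (IB.map (algebraMap B (Localization.Away g))).map (algebraMap (Localization.Away g) B₁) := by
    rw [IsScalarTower.algebraMap_eq B (Localization.Away g) B₁]
    exact (Ideal.map_map _ _).symm
  -- `A/I` Jacobson gives `B/IB` Jacobson
  let _ : Algebra (A ⧸ I) (B ⧸ IB) :=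
    (Ideal.quotientMap IB (algebraMap A B) Ideal.le_comap_map).toAlgebra
  have : IsScalarTower A (A ⧸ I) (B ⧸ IB) := IsScalarTower.of_algebraMap_eq fun _ => rfl
  have : Algebra.FiniteType (A ⧸ I) (B ⧸ IB) :=
    Algebra.FiniteType.of_restrictScalars_finiteType A (A ⧸ I) (B ⧸ IB)
  have : IsJacobsonRing (B ⧸ IB) := isJacobsonRing_of_finiteType (A := A ⧸ I)
  -- `q'` comes from a rig-closed prime of `B`
  have hq1 : RigClosed (IB.map (algebraMap B B₁)) q'.asIdeal := by
    rw [hIB₁]; exact rigClosed_of_spec hq'
  set Q := (IB.map (algebraMap B B₁) ⊔ q'.asIdeal).radical with hQdef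
  have hQ : Q.IsMaximal := hq1.isMaximal_radical
  have hIQ : IB.map (algebraMap B B₁) ≤ Q := le_sup_left.trans Ideal.le_radical
  let _ : Field (B₁ ⧸ Q) := Ideal.Quotient.field Q
  let _ : Algebra (B ⧸ IB) (B₁ ⧸ Q) :=
    (Ideal.quotientMap Q (algebraMap B B₁) (Ideal.map_le_iff_le_comap.1 hIQ)).toAlgebra
  have : IsScalarTower B (B ⧸ IB) (B₁ ⧸ Q) := IsScalarTower.of_algebraMap_eq fun _ => rfl
  have : Algebra.FiniteType B (B₁ ⧸ Q) := hft₁.of_surjective (Ideal.Quotient.factorₐ B hIQ)
    (Ideal.Quotient.factor_surjective hIQ)
  have : Algebra.FiniteType (B ⧸ IB) (B₁ ⧸ Q) :=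
    Algebra.FiniteType.of_restrictScalars_finiteType B _ _
  have : Module.Finite (B ⧸ IB) (B₁ ⧸ Q) := finite_of_finite_type_of_isJacobsonRing _ _
  have : Module.Finite B (B₁ ⧸ Q) := Module.Finite.trans (B ⧸ IB) (B₁ ⧸ Q)
  have hfin₁ : Module.Finite B (B₁ ⧸ q'.asIdeal) := finite_quotient hft₁ q'.asIdeal Q le_rfl
  set q := q'.asIdeal.comap (algebraMap B B₁) with hqdef
  have hq : RigClosed IB q := hq1.comap_of_finite
  have hflatA := hnaive ⟨q, inferInstance⟩ (RigClosed.toSpec (q := ⟨q, inferInstance⟩) hq)
  -- and `f` is invertible modulo it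
  have hgq : IsUnit (Ideal.Quotient.mk q g) := by
    let _ : Algebra (B ⧸ q) (B₁ ⧸ q'.asIdeal) :=
      (Ideal.quotientMap q'.asIdeal (algebraMap B B₁) le_rfl).toAlgebra
    have : IsScalarTower B (B ⧸ q) (B₁ ⧸ q'.asIdeal) := IsScalarTower.of_algebraMap_eq fun _ => rfl
    have : Module.Finite (B ⧸ q) (B₁ ⧸ q'.asIdeal) := Module.Finite.of_restrictScalars_finite B _ _
    have : FaithfulSMul (B ⧸ q) (B₁ ⧸ q'.asIdeal) :=
      (faithfulSMul_iff_algebraMap_injective _ _).2 Ideal.quotientMap_injective
    refine (isUnit_map_iff (algebraMap (B ⧸ q) (B₁ ⧸ q'.asIdeal)) _).1 ?_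
    show IsUnit (Ideal.Quotient.mk q'.asIdeal (algebraMap B B₁ g))
    rw [IsScalarTower.algebraMap_apply B (Localization.Away g) B₁]
    exact ((IsLocalization.Away.algebraMap_isUnit g).map _).map _
  -- the image `p` in `A`
  set p := q.comap (algebraMap A B) with hpdef
  let _ : Field (B ⧸ (IB ⊔ q).radical) :=
    have := hq.isMaximal_radical
    Ideal.Quotient.field _
  have hfinq : Module.Finite A (B ⧸ q) := by
    have hIq : IB ≤ (IB ⊔ q).radical := le_sup_left.trans Ideal.le_radical
    let _ : Algebra (A ⧸ I) (B ⧸ (IB ⊔ q).radical) :=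
      (Ideal.quotientMap _ (algebraMap A B) (Ideal.map_le_iff_le_comap.1 hIq)).toAlgebra
    have : IsScalarTower A (A ⧸ I) (B ⧸ (IB ⊔ q).radical) :=
      IsScalarTower.of_algebraMap_eq fun _ => rfl
    have : Algebra.FiniteType A (B ⧸ (IB ⊔ q).radical) := hft.of_surjective
      (Ideal.Quotient.factorₐ A hIq) (Ideal.Quotient.factor_surjective hIq)
    have : Algebra.FiniteType (A ⧸ I) (B ⧸ (IB ⊔ q).radical) :=
      Algebra.FiniteType.of_restrictScalars_finiteType A _ _
    have : Module.Finite (A ⧸ I) (B ⧸ (IB ⊔ q).radical) :=
      finite_of_finite_type_of_isJacobsonRing _ _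
    have : Module.Finite A (B ⧸ (IB ⊔ q).radical) := Module.Finite.trans (A ⧸ I) _
    exact finite_quotient hft q _ le_rfl
  have hfp : IsUnit (Ideal.Quotient.mk p f) := by
    let _ : Algebra (A ⧸ p) (B ⧸ q) := (Ideal.quotientMap q (algebraMap A B) le_rfl).toAlgebra
    have : IsScalarTower A (A ⧸ p) (B ⧸ q) := IsScalarTower.of_algebraMap_eq fun _ => rfl
    have : Module.Finite (A ⧸ p) (B ⧸ q) := Module.Finite.of_restrictScalars_finite A _ _
    have : FaithfulSMul (A ⧸ p) (B ⧸ q) :=
      (faithfulSMul_iff_algebraMap_injective _ _).2 Ideal.quotientMap_injective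
    exact (isUnit_map_iff (algebraMap (A ⧸ p) (B ⧸ q)) _).1 hgq
  obtain ⟨π, hπ⟩ := exists_hom_away (I := I) p f hfp
  have hsurj : ∀ r : R, ∃ a : A, r - algebraMap A R a ∈ p.map (algebraMap A R) := fun r => by
    obtain ⟨a, ha⟩ := Ideal.Quotient.mk_surjective (π r)
    refine ⟨a, ?_⟩
    rw [← hπ, RingHom.mem_ker]
    show π (r - algebraMap A R a) = 0
    rw [map_sub, AlgHom.commutes, Ideal.Quotient.algebraMap_eq, ha, sub_self]
  -- algebra structures on `S`
  let S := Localization.AtPrime q'.asIdeal
  let _ : Algebra R S := ((algebraMap B₁ S).comp ψ).toAlgebra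
  have hAB₁ : ∀ a : A, ψ (algebraMap A R a) = algebraMap B B₁ (algebraMap A B a) := fun a => by
    have h1 := RingHom.congr_fun hψ (algebraMap A (Localization.Away f) a)
    simp only [RingHom.comp_apply] at h1
    rw [← IsScalarTower.algebraMap_apply A (Localization.Away f) R] at h1
    rw [Localization.awayMap, IsLocalization.Away.map, IsLocalization.map_eq] at h1
    rw [← IsScalarTower.algebraMap_apply B (Localization.Away g)] at h1
    exact h1
  have hAS : ∀ a : A, algebraMap A S a = algebraMap B₁ S (algebraMap B B₁ (algebraMap A B a)) :=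
    fun a => by rw [← IsScalarTower.algebraMap_apply A B B₁, ← IsScalarTower.algebraMap_apply A B₁ S]
  have : IsScalarTower A R S := IsScalarTower.of_algebraMap_eq fun a =>
    (hAS a).trans (congrArg (algebraMap B₁ S) (hAB₁ a).symm)
  -- `S` is flat over `A`
  let Bq := Localization.AtPrime q
  let _ : Algebra Bq S := (Localization.localRingHom q q'.asIdeal (algebraMap B B₁) rfl).toAlgebra
  have : IsScalarTower A Bq S := IsScalarTower.of_algebraMap_eq fun a => by
    refine (hAS a).trans ?_
    show algebraMap B₁ S (algebraMap B B₁ (algebraMap A B a)) =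
      Localization.localRingHom q q'.asIdeal (algebraMap B B₁) rfl (algebraMap A Bq a)
    rw [IsScalarTower.algebraMap_apply A B Bq, Localization.localRingHom_to_map]
  have : Module.Flat A Bq := by
    rwa [RingHom.flat_algebraMap_iff] at hflatA
  have : Module.Flat Bq S := by
    have : Module.Flat B (Localization.Away g) := IsLocalization.flat _ (Submonoid.powers g)
    have : Module.Flat (Localization.Away g) B₁ := AdicCompletion.flat_of_isNoetherian _
    have : Module.Flat B B₁ := Module.Flat.trans B (Localization.Away g) B₁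
    exact RingHom.Flat.localRingHom (RingHom.flat_algebraMap_iff.2 this) q'.asIdeal q rfl
  have : Module.Flat A S := Module.Flat.trans A Bq S
  have hne : p.map (algebraMap A S) ≠ ⊤ := by
    refine ne_top_of_le_ne_top (IsLocalRing.maximalIdeal.isMaximal S).ne_top ?_
    rw [Ideal.map_le_iff_le_comap]
    intro a ha
    rw [Ideal.mem_comap, hAS]
    show algebraMap B₁ S (algebraMap B B₁ (algebraMap A B a)) ∈ IsLocalRing.maximalIdeal S
    rw [IsLocalization.AtPrime.to_map_mem_maximal_iff S q'.asIdeal]
    exact ha
  exact flat_of_surjective_mod p hsurj hne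

end Groth.Agent.S8841
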