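import Groth.Statements.S8842
import Groth.Agent.Formal61.GradedMap
-- import your own Groth.Agent.* helpers here

set_option autoImplicit false
universe u
open scoped BigOperators
attribute [local instance] CategoryTheory.Abelian.hasFiniteBiproducts
open Formal2

namespace Groth.Agent.S8842

open CategoryTheory CategoryTheory.Limits AlgebraicGeometry Opposite in
/-- Let A be a Noetherian ring, f_1, …, f_r ∈ A and I = (f_1, …, f_r) with cd(A, I) = 1; let c ≥ 1 and
φ_j : I^c → A be A-linear with x = Σ_j f_j φ_j(x) for x ∈ I^c. Let X be a Noetherian scheme over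
Spec A, (F_n) a coherent formal module for I on X (coherent O_X-modules with F_n = F_{n+1}/I^n
F_{n+1}; indices shifted by one) and F = lim F_n, the limit in O_X-modules. Then there is c' ≥ c
with the following property. Write φ_j again for the restrictions to I^{c'} and let Φ be a graded
A-algebra homomorphism from ⊕_{n ≥ 0} I^{nc'} to A[T_1, …, T_r] with Φ(g) = Σ_j φ_j(g) T_j on I^{c'}
(there is exactly one; encoded by functions Φ_n : A → A[T_1, …, T_r] additive and A-homogeneous on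
I^{nc'}, with values homogeneous of degree n, multiplicative across degrees, Φ_0 the structure map,
Φ_1 as prescribed). Then for every n there is a unique map of O_X-modules Φ_{F,n} from the submodule
I^{nc'}F to F[T_1, …, T_r]_n = ⊕_{|e| = n} F (one copy of F for each exponent tuple e of total
degree n) such that Φ_{F,n}(g s) = Φ_n(g) s for g ∈ I^{nc'} and local sections s of F, i.e.
precomposed with multiplication by g, F → I^{nc'}F, it is the map whose component at T^e is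
multiplication by the coefficient of T^e in Φ_n(g); moreover composing Φ_{F,n} with the map
⊕_{|e|=n} F → F which is multiplication by f^e = ∏ f_j^{e_j} on the copy at T^e gives the inclusion
I^{nc'}F → F. -/
theorem result (A : Type u) [CommRing A] [IsNoetherianRing A] (r : ℕ) (f : Fin r → A) (I : Ideal A) (hI : I = Ideal.span (Set.range f)) (h1 : LocCoh.CdLE A I 1) (h0 : ¬ LocCoh.CdLE A I 0) (c : ℕ) (hc : 1 ≤ c) (φ : Fin r → (↥(I ^ c) →ₗ[A] A)) (hφ : ∀ x : ↥(I ^ c), (x : A) = ∑ j, f j * φ j x) (X : Scheme.{u}) [X.Over (Spec (CommRingCat.of A))] [IsNoetherian X] (G : ℕᵒᵖ ⥤ X.Modules) (hG : Formal.IsCohFormal I G) : ∃ c' : ℕ, ∃ hcc' : c ≤ c', ∀ Φ : ℕ → A → MvPolynomial (Fin r) A, ((∀ n : ℕ, ∀ g ∈ I ^ (n * c'), ∀ h ∈ I ^ (n * c'), Φ n (g + h) = Φ n g + Φ n h) ∧ (∀ (n : ℕ) (a : A), ∀ g ∈ I ^ (n * c'), Φ n (a * g) = a • Φ n g) ∧ (∀ n : ℕ, ∀ g ∈ I ^ (n * c'), (Φ n g).IsHomogeneous n) ∧ (∀ n m : ℕ, ∀ g ∈ I ^ (n * c'), ∀ h ∈ I ^ (m * c'), Φ (n + m) (g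 * h) = Φ n g * Φ m h) ∧ (∀ a : A, Φ 0 a = MvPolynomial.C a) ∧ (∀ (g : A) (hg : g ∈ I ^ c'), Φ 1 g = ∑ j, MvPolynomial.C (φ j ⟨g, Ideal.pow_le_pow_right hcc' hg⟩) * MvPolynomial.X j)) → ∀ n : ℕ, ∃ ΦF : (Formal2.idealPowMod I (n * c') (limit G)) ⟶ ⨁ (fun _ : ↥(Finset.Nat.antidiagonalTuple r n) ↦ (limit G)), (∀ g ∈ I ^ (n * c'), ∀ γ : (limit G) ⟶ (Formal2.idealPowMod I (n * c') (limit G)), γ ≫ Formal2.idealPowModι I (n * c') (limit G) = Formal.smulMod A (limit G) g → γ ≫ ΦF = biproduct.lift (fun e : ↥(Finset.Nat.antidiagonalTuple r n) ↦ Formal.smulMod A (limit G) (MvPolynomial.coeff (Finsupp.equivFunOnFinite.symm e.1) (Φ n g)))) ∧ ΦF ≫ biproduct.desc (fun e : ↥(Finset.Nat.antidiagonalTuple r n) ↦ Formal.smulMod A (limit G) (∏ j, f j ^ (e.1 j))) = Formal2.idealPowModι I (n * c') (limit G) ∧ (∀ ΦF' : (Formal2.idealPowMod I (n * c') (limit G)) ⟶ ⨁ (fun _ : ↥(Finset.Nat.antidiagonalTuple r n) ↦ (limit G)), (∀ g ∈ I ^ (n * c'), ∀ γ : (limit G) ⟶ (Formal2.idealPowMod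 I (n * c') (limit G)), γ ≫ Formal2.idealPowModι I (n * c') (limit G) = Formal.smulMod A (limit G) g → γ ≫ ΦF' = biproduct.lift (fun e : ↥(Finset.Nat.antidiagonalTuple r n) ↦ Formal.smulMod A (limit G) (MvPolynomial.coeff (Finsupp.equivFunOnFinite.symm e.1) (Φ n g)))) → ΦF' = ΦF) := by

  classical
  obtain ⟨K, hK⟩ := Groth.Agent.Formal61.LimTors.exists_bound hG
  refine ⟨c + K, Nat.le_add_right c K, fun Φ hΦ n => ?_⟩
  obtain ⟨hadd, hsmul, hhom, hmul, hzero, hone⟩ := hΦ
  have hP : Groth.Agent.Formal61.GradedMap.IsPhi (I := I) φ (c + K) (Nat.le_add_right c K) Φ :=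
    ⟨hadd, hsmul, hhom, hmul, hzero, hone⟩
  have hspec := Groth.Agent.Formal61.GradedMap.spec hφ hP n
  let F := limit G
  have hcomm : ∀ (e : ↥(Finset.Nat.antidiagonalTuple r n)), ∀ g ∈ I ^ (n * (c + K)), ∀ h ∈ I ^ (n * (c + K)),
      g * Groth.Agent.Formal61.GradedMap.cf Φ n e h = h * Groth.Agent.Formal61.GradedMap.cf Φ n e g := fun e g hg h hh => by
    have h1 : Φ n (g * h) = g • Φ n h := hsmul n g h hh
    have h2 : Φ n (g * h) = h • Φ n g := by rw [mul_comm]; exact hsmul n h g hg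
    have := congrArg (MvPolynomial.coeff (Finsupp.equivFunOnFinite.symm e.1)) (h1.symm.trans h2)
    rwa [MvPolynomial.coeff_smul, MvPolynomial.coeff_smul, smul_eq_mul, smul_eq_mul] at this
  have hcK : ∀ e : ↥(Finset.Nat.antidiagonalTuple r n), n * (c + K) = 0 ∨
      ∀ g ∈ I ^ (n * (c + K)), Groth.Agent.Formal61.GradedMap.cf Φ n e g ∈ I ^ K := fun e => by
    rcases Nat.eq_zero_or_pos n with hn | hn
    · exact Or.inl (by rw [hn, Nat.zero_mul])
    · exact Or.inr fun g hg => Ideal.pow_le_pow_right (Nat.le_mul_of_pos_left K hn)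
        (MvPolynomial.mem_map_C_iff.1 (hspec g hg).1 _)
  choose θ hθ using fun e : ↥(Finset.Nat.antidiagonalTuple r n) =>
    Groth.Agent.Formal61.GradedMap.exists_component F (n * (c + K)) K (Groth.Agent.Formal61.GradedMap.cf Φ n e)
      (hcomm e) (fun T x hx hxa => hK _ T x hx hxa) (hcK e)
  have h₁ : ∀ g ∈ I ^ (n * (c + K)), ∀ γ : F ⟶ Formal2.idealPowMod I (n * (c + K)) F,
      γ ≫ Formal2.idealPowModι I (n * (c + K)) F = Formal.smulMod A F g → γ ≫ biproduct.lift θ =
        biproduct.lift (fun e : ↥(Finset.Nat.antidiagonalTuple r n) ↦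
          Formal.smulMod A F (Groth.Agent.Formal61.GradedMap.cf Φ n e g)) := fun g hg γ hγ =>
    biproduct.hom_ext _ _ fun e => by
      rw [Category.assoc, biproduct.lift_π, biproduct.lift_π, hθ e g hg γ hγ]
  obtain ⟨S, hS, p, hp, hpι⟩ := Groth.Agent.Formal61.GradedMap.exists_cover (I := I) F _ (n * (c + K)) rfl
  refine ⟨biproduct.lift θ, h₁, ?_, fun Ψ hΨ => ?_⟩
  · rw [← cancel_epi p]
    refine Sigma.hom_ext _ _ fun g => ?_
    rw [hpι g, ← Category.assoc, ← Category.assoc, h₁ g (hS g) _ ((Category.assoc _ _ _).trans (hpι g)),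
      biproduct.lift_desc]
    refine (Finset.sum_congr rfl fun e _ => (CohIII.smulMod_mul _ _ _).symm).trans ?_
    rw [← Groth.Agent.Formal61.GradedMap.smulMod_finsetSum]
    congr 1
    exact ((Finset.sum_congr rfl fun e _ => mul_comm _ _).trans
      (Groth.Agent.Formal61.GradedMap.sum_coeff n _ (hhom n g (hS g)))).trans (hspec g (hS g)).2
  · rw [← cancel_epi p]
    refine Sigma.hom_ext _ _ fun g => ?_
    rw [← Category.assoc, ← Category.assoc, h₁ g (hS g) _ ((Category.assoc _ _ _).trans (hpι g)),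
      hΨ g (hS g) _ ((Category.assoc _ _ _).trans (hpι g))]
    try rfl

end Groth.Agent.S8842
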