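import Groth.Statements.S8843
import Groth.Agent.Adic.Rig.RigFlat

set_option autoImplicit false
universe u
open AdicRing

namespace Groth.Agent.S8843

/-- Let A be a Noetherian ring complete for the adic topology of an ideal I, B a Noetherian A-algebra
complete for the IB-adic topology with B/IB of finite type over A, and C a Noetherian B-algebra,
compatibly an A-algebra, complete for the IC-adic topology with C/IC of finite type over B (so A → B
→ C are adic morphisms of adic Noetherian topological rings, topologically of finite type). Assume A
→ B and B → C are rig-flat, in the following form: for every f ∈ A and the canonical map ψ : A_{f} →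
B_{f} of completed principal localizations (the I-adic completions of A_f → B_f; ψ is characterised
as any ring map compatible with A_f → B_f, and there is exactly one), the local ring (B_{f})_q is
flat over A_{f} via ψ for every rig-closed prime q of B_{f} (I B_{f} ⊄ q and q maximal among the
primes not containing I B_{f}); and likewise for B → C with g ∈ B and rig-closed primes of C_{g}.
Then A → C is rig-flat in the same form: for every f ∈ A, every ring map A_{f} → C_{f} compatible
with A_f → C_f, and every rig-closed prime q of C_{f}, the local ring (C_{f})_q is flat over A_{f}.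
(That A → C is again adic and topologically of finite type is not restated.) -/
theorem result (A : Type u) [CommRing A] [IsNoetherianRing A] (I : Ideal A) [IsAdicComplete I A] (B : Type u) [CommRing B] [Algebra A B] [IsNoetherianRing B] [IsAdicComplete (I.map (algebraMap A B)) B] (hftB : Algebra.FiniteType A (B ⧸ (I.map (algebraMap A B)))) (C : Type u) [CommRing C] [Algebra A C] [Algebra B C] [IsScalarTower A B C] [IsNoetherianRing C] [IsAdicComplete (I.map (algebraMap A C)) C] (hftC : Algebra.FiniteType B (C ⧸ (I.map (algebraMap A C)))) (hAB : (∀ f : A, ∀ ψf : (AdicCompletion (I.map (algebraMap A (Localization.Away f))) (Localization.Away f)) →+* (AdicCompletion ((I.map (algebraMap A B)).map (algebraMap B (Localization.Away (algebraMap A B f)))) (Localization.Away (algebraMap A B f))), ψf.comp (algebraMap (Localization.Away f) (AdicCompletion (I.map (algebraMap A (Localization.Away f))) (Localization.Away f))) = (algebraMap (Localization.Away (algebraMap A B f)) (AdicCompletion ((I.map (algebraMap A B)).map (algebraMap B (Localization.Away (algebraMap A B f)))) (Localization.Away (algebraMap A B f)))).comp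 (Localization.awayMap (algebraMap A B) f) → ∀ qf : PrimeSpectrum (AdicCompletion ((I.map (algebraMap A B)).map (algebraMap B (Localization.Away (algebraMap A B f)))) (Localization.Away (algebraMap A B f))), (¬ (((I.map (algebraMap A B)).map (algebraMap B (Localization.Away (algebraMap A B f)))).map (algebraMap (Localization.Away (algebraMap A B f)) (AdicCompletion ((I.map (algebraMap A B)).map (algebraMap B (Localization.Away (algebraMap A B f)))) (Localization.Away (algebraMap A B f))))) ≤ qf.asIdeal ∧ ∀ y : PrimeSpectrum (AdicCompletion ((I.map (algebraMap A B)).map (algebraMap B (Localization.Away (algebraMap A B f)))) (Localization.Away (algebraMap A B f))), qf ≤ y → ¬ (((I.map (algebraMap A B)).map (algebraMap B (Localization.Away (algebraMap A B f)))).map (algebraMap (Localization.Away (algebraMap A B f)) (AdicCompletion ((I.map (algebraMap A B)).map (algebraMap B (Localization.Away (algebraMap A B f)))) (Localization.Away (algebraMap A B f))))) ≤ y.asIdeal → y = qf) → ((algebraMap (AdicCompletion ((I.map (algebraMap A B)).map (algebraMap B (Localization.Away (algebraMap A B f)))) (Localization.Away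 (algebraMap A B f))) (Localization.AtPrime qf.asIdeal)).comp ψf).Flat)) (hBC : (∀ g : B, ∀ ψg : (AdicCompletion ((I.map (algebraMap A B)).map (algebraMap B (Localization.Away g))) (Localization.Away g)) →+* (AdicCompletion (((I.map (algebraMap A B)).map (algebraMap B C)).map (algebraMap C (Localization.Away (algebraMap B C g)))) (Localization.Away (algebraMap B C g))), ψg.comp (algebraMap (Localization.Away g) (AdicCompletion ((I.map (algebraMap A B)).map (algebraMap B (Localization.Away g))) (Localization.Away g))) = (algebraMap (Localization.Away (algebraMap B C g)) (AdicCompletion (((I.map (algebraMap A B)).map (algebraMap B C)).map (algebraMap C (Localization.Away (algebraMap B C g)))) (Localization.Away (algebraMap B C g)))).comp (Localization.awayMap (algebraMap B C) g) → ∀ qg : PrimeSpectrum (AdicCompletion (((I.map (algebraMap A B)).map (algebraMap B C)).map (algebraMap C (Localization.Away (algebraMap B C g)))) (Localization.Away (algebraMap B C g))), (¬ ((((I.map (algebraMap A B)).map (algebraMap B C)).map (algebraMap C (Localization.Away (algebraMap B C g)))).map (algebraMap (Localization.Away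 (algebraMap B C g)) (AdicCompletion (((I.map (algebraMap A B)).map (algebraMap B C)).map (algebraMap C (Localization.Away (algebraMap B C g)))) (Localization.Away (algebraMap B C g))))) ≤ qg.asIdeal ∧ ∀ y : PrimeSpectrum (AdicCompletion (((I.map (algebraMap A B)).map (algebraMap B C)).map (algebraMap C (Localization.Away (algebraMap B C g)))) (Localization.Away (algebraMap B C g))), qg ≤ y → ¬ ((((I.map (algebraMap A B)).map (algebraMap B C)).map (algebraMap C (Localization.Away (algebraMap B C g)))).map (algebraMap (Localization.Away (algebraMap B C g)) (AdicCompletion (((I.map (algebraMap A B)).map (algebraMap B C)).map (algebraMap C (Localization.Away (algebraMap B C g)))) (Localization.Away (algebraMap B C g))))) ≤ y.asIdeal → y = qg) → ((algebraMap (AdicCompletion (((I.map (algebraMap A B)).map (algebraMap B C)).map (algebraMap C (Localization.Away (algebraMap B C g)))) (Localization.Away (algebraMap B C g))) (Localization.AtPrime qg.asIdeal)).comp ψg).Flat)) : (∀ e : A, ∀ ψe : (AdicCompletion (I.map (algebraMap A (Localization.Away e))) (Localization.Away e)) →+* (AdicCompletion ((I.map (algebraMap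 A C)).map (algebraMap C (Localization.Away (algebraMap A C e)))) (Localization.Away (algebraMap A C e))), ψe.comp (algebraMap (Localization.Away e) (AdicCompletion (I.map (algebraMap A (Localization.Away e))) (Localization.Away e))) = (algebraMap (Localization.Away (algebraMap A C e)) (AdicCompletion ((I.map (algebraMap A C)).map (algebraMap C (Localization.Away (algebraMap A C e)))) (Localization.Away (algebraMap A C e)))).comp (Localization.awayMap (algebraMap A C) e) → ∀ qe : PrimeSpectrum (AdicCompletion ((I.map (algebraMap A C)).map (algebraMap C (Localization.Away (algebraMap A C e)))) (Localization.Away (algebraMap A C e))), (¬ (((I.map (algebraMap A C)).map (algebraMap C (Localization.Away (algebraMap A C e)))).map (algebraMap (Localization.Away (algebraMap A C e)) (AdicCompletion ((I.map (algebraMap A C)).map (algebraMap C (Localization.Away (algebraMap A C e)))) (Localization.Away (algebraMap A C e))))) ≤ qe.asIdeal ∧ ∀ y : PrimeSpectrum (AdicCompletion ((I.map (algebraMap A C)).map (algebraMap C (Localization.Away (algebraMap A C e)))) (Localization.Away (algebraMap A C e))), qe ≤ y → ¬ (((I.map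 (algebraMap A C)).map (algebraMap C (Localization.Away (algebraMap A C e)))).map (algebraMap (Localization.Away (algebraMap A C e)) (AdicCompletion ((I.map (algebraMap A C)).map (algebraMap C (Localization.Away (algebraMap A C e)))) (Localization.Away (algebraMap A C e))))) ≤ y.asIdeal → y = qe) → ((algebraMap (AdicCompletion ((I.map (algebraMap A C)).map (algebraMap C (Localization.Away (algebraMap A C e)))) (Localization.Away (algebraMap A C e))) (Localization.AtPrime qe.asIdeal)).comp ψe).Flat) := by
  open Groth.Agent.Adic.Rig in
  intro e ψe hψe qe hqe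
  let IC := I.map (algebraMap A C)
  let g₀ := algebraMap A C e
  let Te := AdicCompletion (IC.map (algebraMap C (Localization.Away g₀))) (Localization.Away g₀)
  let Ke : Ideal Te := (IC.map (algebraMap C (Localization.Away g₀))).map
    (algebraMap (Localization.Away g₀) Te)
  have hq : RigClosed Ke qe.asIdeal := rigClosed_of_spec hqe
  have : IsNoetherianRing Te := isNoetherianRing_away g₀
  have : IsAdicComplete Ke Te := isAdicComplete_away g₀
  let D := Te ⧸ qe.asIdeal
  let mkq : Te →+* D := Ideal.Quotient.mk qe.asIdeal
  have hKe : IC.map (algebraMap C Te) = Ke := away_ideal_map g₀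
  have hcompD : algebraMap A D = (mkq.comp (algebraMap C Te)).comp (algebraMap A C) := rfl
  have hICD : IC.map (mkq.comp (algebraMap C Te)) = I.map (algebraMap A D) := by
    rw [hcompD]; exact Ideal.map_map _ _
  have hKD : I.map (algebraMap A D) = Ke.map mkq := by
    rw [← hICD, ← Ideal.map_map]
    exact congrArg (Ideal.map mkq) hKe
  have : IsAdicComplete (I.map (algebraMap A D)) D := by
    rw [hKD]; exact isAdicComplete_quotient _
  have hftC' : Algebra.FiniteType A (C ⧸ IC) := finiteType_quot_trans (IB := I.map (algebraMap A B))
    (by rw [Ideal.map_map, ← IsScalarTower.algebraMap_eq]) hftB hftC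
  have hftD : Algebra.FiniteType A (D ⧸ I.map (algebraMap A D)) :=
    finiteType_quot_away hftC' mkq Ideal.Quotient.mk_surjective
      (fun a => by
        show mkq (algebraMap C Te (algebraMap A C a)) = algebraMap A D a
        rw [← IsScalarTower.algebraMap_apply A C Te]; rfl) _
      hICD.le
  have hbot : RigClosed (I.map (algebraMap A D)) (⊥ : Ideal D) := by
    rw [hKD]; exact hq.bot_quotient
  obtain ⟨c, hc, hfin⟩ := exists_away_finite hftD hbot
  let f := e * c
  have heD : IsUnit (algebraMap A D e) := by
    rw [IsScalarTower.algebraMap_apply A Te D, IsScalarTower.algebraMap_apply A C Te,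
      IsScalarTower.algebraMap_apply C (Localization.Away g₀) Te]
    exact ((IsLocalization.Away.algebraMap_isUnit g₀).map _).map _
  have hfD : IsUnit (algebraMap A D f) := by rw [map_mul]; exact heD.mul hc
  let g := algebraMap A B f
  let h := algebraMap B C g
  let IC' := (I.map (algebraMap A B)).map (algebraMap B C)
  have hIC : IC' = IC := by
    show (I.map (algebraMap A B)).map (algebraMap B C) = I.map (algebraMap A C)
    rw [Ideal.map_map, ← IsScalarTower.algebraMap_eq]
  have hh : h = algebraMap A C f := (IsScalarTower.algebraMap_apply A B C f).symm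
  let T₁ := AdicCompletion (I.map (algebraMap A (Localization.Away f))) (Localization.Away f)
  let T₂ := AdicCompletion ((I.map (algebraMap A B)).map (algebraMap B (Localization.Away g)))
    (Localization.Away g)
  let T₃ := AdicCompletion (IC'.map (algebraMap C (Localization.Away h))) (Localization.Away h)
  obtain ⟨μ, hμ, hμflat⟩ := exists_away_hom' (g₀ := g₀) (g := h) hIC
    (by rw [hh]; exact map_dvd _ (dvd_mul_right e c))
  obtain ⟨π, hπ⟩ := exists_away_lift (IC := IC') (g := h) (mkq.comp (algebraMap C Te))
    (I.map (algebraMap A D)) ((congrArg (Ideal.map _) hIC).trans hICD).le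
    (by
      rw [RingHom.comp_apply, hh, ← IsScalarTower.algebraMap_apply A C Te]
      exact hfD)
  have hπμ : π.comp μ = mkq := by
    refine away_hom_ext (IC := IC) (g := g₀) (I.map (algebraMap A D)) _ _ ?_ ?_
    · rw [RingHom.comp_assoc, hμ, hπ, hICD]
    · rw [RingHom.comp_assoc, hμ, hπ]
  obtain ⟨ψ₁, hψ₁⟩ := exists_away_map (IC := I.map (algebraMap A B)) (algebraMap A B) rfl f
  obtain ⟨ψ₂, hψ₂⟩ := exists_away_map (IC := IC') (algebraMap B C) rfl g
  have hA₁ := away_map_comp hψ₁
  have hA₂ := away_map_comp hψ₂
  have e₁ : ∀ a : A, ψ₁ (algebraMap A T₁ a) = algebraMap B T₂ (algebraMap A B a) :=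
    RingHom.congr_fun hA₁
  have e₂ : ∀ b : B, ψ₂ (algebraMap B T₂ b) = algebraMap C T₃ (algebraMap B C b) :=
    RingHom.congr_fun hA₂
  have eπ : ∀ x : C, π (algebraMap C T₃ x) = mkq (algebraMap C Te x) := RingHom.congr_fun hπ
  have hcompat : (π.comp (ψ₂.comp ψ₁)).comp (algebraMap A T₁) = algebraMap A D :=
    RingHom.ext fun a => by
      show π (ψ₂ (ψ₁ (algebraMap A T₁ a))) = algebraMap A D a
      rw [e₁, e₂, eπ, ← IsScalarTower.algebraMap_apply A B C]
      exact (RingHom.congr_fun hcompD a).symm
  have hfinA : (π.comp (ψ₂.comp ψ₁)).Finite := hfin f (dvd_mul_left c e) _ hcompat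
  have hfinB : (π.comp ψ₂).Finite := RingHom.Finite.of_comp_finite (f := ψ₁) hfinA
  have hfinC : π.Finite := RingHom.Finite.of_comp_finite (f := ψ₂) hfinB
  have hq₃ : RigClosed ((IC'.map (algebraMap C (Localization.Away h))).map
      (algebraMap (Localization.Away h) T₃)) (RingHom.ker π) := by
    refine rigClosed_ker_away π hfinC ?_ hbot
    rw [hπ]
    exact (congrArg (Ideal.map _) hIC).trans hICD
  have hq₂ : RigClosed (((I.map (algebraMap A B)).map (algebraMap B (Localization.Away g))).map
      (algebraMap (Localization.Away g) T₂)) (RingHom.ker (π.comp ψ₂)) := by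
    refine rigClosed_ker_away _ hfinB ?_ hbot
    rw [RingHom.comp_assoc, hA₂, ← RingHom.comp_assoc, hπ]
    exact ((Ideal.map_map _ _).symm.trans (congrArg (Ideal.map _) hIC)).trans hICD
  have : (RingHom.ker π).IsPrime := RingHom.ker_isPrime _
  have : (RingHom.ker (π.comp ψ₂)).IsPrime := RingHom.ker_isPrime _
  have h1 := hAB f ψ₁ hψ₁ ⟨RingHom.ker (π.comp ψ₂), inferInstance⟩
    (RigClosed.toSpec (q := ⟨RingHom.ker (π.comp ψ₂), inferInstance⟩) hq₂)
  have h2 := hBC g ψ₂ hψ₂ ⟨RingHom.ker π, inferInstance⟩
    (RigClosed.toSpec (q := ⟨RingHom.ker π, inferInstance⟩) hq₃)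
  have h3 := flat_comp_atPrime ψ₁ ψ₂ (RingHom.ker π) (RingHom.ker (π.comp ψ₂))
    (RingHom.comap_ker π ψ₂).symm h1 h2
  refine flat_descend_atPrime ψe μ hμflat (RingHom.ker π) qe.asIdeal ?_ ?_
  · rw [RingHom.comap_ker, hπμ, Ideal.mk_ker]
  obtain ⟨ν, hν, hνflat⟩ := exists_away_hom (IC := I) (g₀ := e) (g := f) (dvd_mul_right e c)
  have hT₃ : IsAdicComplete ((IC'.map (algebraMap C (Localization.Away h))).map
      (algebraMap (Localization.Away h) T₃)) T₃ := isAdicComplete_away h
  have hAe := away_map_comp hψe
  have key : μ.comp ψe = (ψ₂.comp ψ₁).comp ν := by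
    refine away_hom_ext (IC := I) (g := e) ((IC'.map (algebraMap C (Localization.Away h))).map
      (algebraMap (Localization.Away h) T₃)) _ _ ?_ ?_
    · rw [RingHom.comp_assoc, hAe, ← RingHom.comp_assoc, hμ, ← away_ideal_map h, ← Ideal.map_map]
      exact (congrArg (Ideal.map _) hIC).ge
    · refine RingHom.ext fun a => ?_
      show μ (ψe (algebraMap A _ a)) = ψ₂ (ψ₁ (ν (algebraMap A _ a)))
      rw [show ψe (algebraMap A _ a) = algebraMap C Te (algebraMap A C a) from RingHom.congr_fun hAe a,
        show μ (algebraMap C Te (algebraMap A C a)) = algebraMap C T₃ (algebraMap A C a) from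
          RingHom.congr_fun hμ _,
        show ν (algebraMap A _ a) = algebraMap A T₁ a from RingHom.congr_fun hν a,
        e₁, e₂, ← IsScalarTower.algebraMap_apply A B C]
  rw [key, ← RingHom.comp_assoc]
  exact hνflat.comp h3

end Groth.Agent.S8843
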