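import Groth.Statements.S8844
import Groth.Agent.Adic.Rig.RigFlat
import Mathlib.RingTheory.Ideal.GoingDown

set_option autoImplicit false
universe u
open AdicRing

namespace Groth.Agent.S8844

/-- Consider a commutative square of adic Noetherian topological rings with all maps adic and
topologically of finite type: A a Noetherian ring complete for the adic topology of an ideal I; B,
A' and B' Noetherian algebras complete for the IB-, IA'- and IB'-adic topologies, B' an algebra over
B and over A' compatibly with A, with B/IB and A'/IA' of finite type over A and B'/IB' of finite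
type over B and over A'. Assume A → A' is flat and B → B' is faithfully flat. If A' → B' is rig-flat
— for every f' ∈ A', every ring map A'_{f'} → B'_{f'} of completed principal localizations
compatible with the map of ordinary localizations A'[1/f'] → B'[1/f'] (there is exactly one), and
every rig-closed prime q of B'_{f'} (I B'_{f'} ⊄ q and q maximal among the primes not containing I
B'_{f'}), the local ring (B'_{f'})_q is flat over A'_{f'} — then A → B is rig-flat in the same form:
for every f ∈ A, every ring map A_{f} → B_{f} of completed principal localizations compatible with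
the map of ordinary localizations A[1/f] → B[1/f], and every rig-closed prime q of B_{f}, the local
ring (B_{f})_q is flat over A_{f}. -/
theorem result (A : Type u) [CommRing A] [IsNoetherianRing A] (I : Ideal A) [IsAdicComplete I A] (B : Type u) [CommRing B] [Algebra A B] [IsNoetherianRing B] [IsAdicComplete (I.map (algebraMap A B)) B] (hftB : Algebra.FiniteType A (B ⧸ (I.map (algebraMap A B)))) (A' : Type u) [CommRing A'] [Algebra A A'] [IsNoetherianRing A'] [IsAdicComplete (I.map (algebraMap A A')) A'] (hftA' : Algebra.FiniteType A (A' ⧸ (I.map (algebraMap A A')))) (B' : Type u) [CommRing B'] [Algebra A B'] [Algebra B B'] [Algebra A' B'] [IsScalarTower A B B'] [IsScalarTower A A' B'] [IsNoetherianRing B'] [IsAdicComplete (I.map (algebraMap A B')) B'] (hftB'B : Algebra.FiniteType B (B' ⧸ (I.map (algebraMap A B')))) (hftB'A' : Algebra.FiniteType A' (B' ⧸ (I.map (algebraMap A B')))) [Module.Flat A A'] [Module.FaithfullyFlat B B'] (hA'B' : (∀ f' : A', ∀ ψf' : (AdicCompletion ((I.map (algebraMap A A')).map (algebraMap A' (Localization.Away f'))) (Localization.Away f')) →+* (AdicCompletion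 (((I.map (algebraMap A A')).map (algebraMap A' B')).map (algebraMap B' (Localization.Away (algebraMap A' B' f')))) (Localization.Away (algebraMap A' B' f'))), ψf'.comp (algebraMap (Localization.Away f') (AdicCompletion ((I.map (algebraMap A A')).map (algebraMap A' (Localization.Away f'))) (Localization.Away f'))) = (algebraMap (Localization.Away (algebraMap A' B' f')) (AdicCompletion (((I.map (algebraMap A A')).map (algebraMap A' B')).map (algebraMap B' (Localization.Away (algebraMap A' B' f')))) (Localization.Away (algebraMap A' B' f')))).comp (Localization.awayMap (algebraMap A' B') f') → ∀ qf' : PrimeSpectrum (AdicCompletion (((I.map (algebraMap A A')).map (algebraMap A' B')).map (algebraMap B' (Localization.Away (algebraMap A' B' f')))) (Localization.Away (algebraMap A' B' f'))), (¬ ((((I.map (algebraMap A A')).map (algebraMap A' B')).map (algebraMap B' (Localization.Away (algebraMap A' B' f')))).map (algebraMap (Localization.Away (algebraMap A' B' f')) (AdicCompletion (((I.map (algebraMap A A')).map (algebraMap A' B')).map (algebraMap B' (Localization.Away (algebraMap A'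 B' f')))) (Localization.Away (algebraMap A' B' f'))))) ≤ qf'.asIdeal ∧ ∀ y : PrimeSpectrum (AdicCompletion (((I.map (algebraMap A A')).map (algebraMap A' B')).map (algebraMap B' (Localization.Away (algebraMap A' B' f')))) (Localization.Away (algebraMap A' B' f'))), qf' ≤ y → ¬ ((((I.map (algebraMap A A')).map (algebraMap A' B')).map (algebraMap B' (Localization.Away (algebraMap A' B' f')))).map (algebraMap (Localization.Away (algebraMap A' B' f')) (AdicCompletion (((I.map (algebraMap A A')).map (algebraMap A' B')).map (algebraMap B' (Localization.Away (algebraMap A' B' f')))) (Localization.Away (algebraMap A' B' f'))))) ≤ y.asIdeal → y = qf') → ((algebraMap (AdicCompletion (((I.map (algebraMap A A')).map (algebraMap A' B')).map (algebraMap B' (Localization.Away (algebraMap A' B' f')))) (Localization.Away (algebraMap A' B' f'))) (Localization.AtPrime qf'.asIdeal)).comp ψf').Flat)) : (∀ f : A, ∀ ψf : (AdicCompletion (I.map (algebraMap A (Localization.Away f))) (Localization.Away f)) →+* (AdicCompletion ((I.map (algebraMap A B)).map (algebraMap B (Localization.Away (algebraMap A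 B f)))) (Localization.Away (algebraMap A B f))), ψf.comp (algebraMap (Localization.Away f) (AdicCompletion (I.map (algebraMap A (Localization.Away f))) (Localization.Away f))) = (algebraMap (Localization.Away (algebraMap A B f)) (AdicCompletion ((I.map (algebraMap A B)).map (algebraMap B (Localization.Away (algebraMap A B f)))) (Localization.Away (algebraMap A B f)))).comp (Localization.awayMap (algebraMap A B) f) → ∀ qf : PrimeSpectrum (AdicCompletion ((I.map (algebraMap A B)).map (algebraMap B (Localization.Away (algebraMap A B f)))) (Localization.Away (algebraMap A B f))), (¬ (((I.map (algebraMap A B)).map (algebraMap B (Localization.Away (algebraMap A B f)))).map (algebraMap (Localization.Away (algebraMap A B f)) (AdicCompletion ((I.map (algebraMap A B)).map (algebraMap B (Localization.Away (algebraMap A B f)))) (Localization.Away (algebraMap A B f))))) ≤ qf.asIdeal ∧ ∀ y : PrimeSpectrum (AdicCompletion ((I.map (algebraMap A B)).map (algebraMap B (Localization.Away (algebraMap A B f)))) (Localization.Away (algebraMap A B f))), qf ≤ y → ¬ (((I.map (algebraMap A B)).map (algebraMap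 B (Localization.Away (algebraMap A B f)))).map (algebraMap (Localization.Away (algebraMap A B f)) (AdicCompletion ((I.map (algebraMap A B)).map (algebraMap B (Localization.Away (algebraMap A B f)))) (Localization.Away (algebraMap A B f))))) ≤ y.asIdeal → y = qf) → ((algebraMap (AdicCompletion ((I.map (algebraMap A B)).map (algebraMap B (Localization.Away (algebraMap A B f)))) (Localization.Away (algebraMap A B f))) (Localization.AtPrime qf.asIdeal)).comp ψf).Flat) := by
  open Groth.Agent.Adic.Rig in
  intro f ψf hψf qf hqf
  let g := algebraMap A B f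
  let f' := algebraMap A A' f
  let h := algebraMap A' B' f'
  let IB := I.map (algebraMap A B)
  let IA' := I.map (algebraMap A A')
  let IB' := IA'.map (algebraMap A' B')
  let T₁ := AdicCompletion (I.map (algebraMap A (Localization.Away f))) (Localization.Away f)
  let T₂ := AdicCompletion (IB.map (algebraMap B (Localization.Away g))) (Localization.Away g)
  let T₁' := AdicCompletion (IA'.map (algebraMap A' (Localization.Away f'))) (Localization.Away f')
  let T₃ := AdicCompletion (IB'.map (algebraMap B' (Localization.Away h))) (Localization.Away h)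
  have hq : RigClosed ((IB.map (algebraMap B (Localization.Away g))).map
      (algebraMap (Localization.Away g) T₂)) qf.asIdeal := rigClosed_of_spec hqf
  have : IsNoetherianRing T₂ := isNoetherianRing_away g
  have : IsNoetherianRing T₃ := isNoetherianRing_away h
  have : IsAdicComplete ((IB.map (algebraMap B (Localization.Away g))).map
      (algebraMap (Localization.Away g) T₂)) T₂ := isAdicComplete_away g
  have hIB' : IB' = IB.map (algebraMap B B') := by
    show (I.map (algebraMap A A')).map (algebraMap A' B') =
      (I.map (algebraMap A B)).map (algebraMap B B')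
    rw [Ideal.map_map, Ideal.map_map, ← IsScalarTower.algebraMap_eq, ← IsScalarTower.algebraMap_eq]
  have hh : algebraMap B B' g = h :=
    (IsScalarTower.algebraMap_apply A B B' f).symm.trans (IsScalarTower.algebraMap_apply A A' B' f)
  obtain ⟨μ, hμ, hμflat⟩ := exists_away_hom_flat (IC := IB) (IC' := IB') (g₀ := g) (g := h)
    (algebraMap B B') (RingHom.flat_algebraMap_iff.2 inferInstance) hIB' hh.dvd
  obtain ⟨ψ', hψ'⟩ := exists_away_map (IC := IB') (algebraMap A' B') rfl f'
  obtain ⟨ν, hν, hνflat⟩ := exists_away_hom_flat (IC := I) (IC' := IA') (g₀ := f) (g := f')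
    (algebraMap A A') (RingHom.flat_algebraMap_iff.2 inferInstance) rfl dvd_rfl
  -- a prime of `T₃` over the closed point
  set Q := ((IB.map (algebraMap B (Localization.Away g))).map
    (algebraMap (Localization.Away g) T₂) ⊔ qf.asIdeal).radical with hQdef
  have hQ : Q.IsMaximal := hq.isMaximal_radical
  have hIQ : IB.map (algebraMap B T₂) ≤ Q := by
    rw [away_ideal_map]; exact le_sup_left.trans Ideal.le_radical
  obtain ⟨m', hm'⟩ := PrimeSpectrum.comap_surjective_of_faithfullyFlat (B := B')
    (⟨Q.comap (algebraMap B T₂), inferInstance⟩ : PrimeSpectrum B)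
  have hm : m'.asIdeal.comap (algebraMap B B') = Q.comap (algebraMap B T₂) :=
    congrArg PrimeSpectrum.asIdeal hm'
  let K := FractionRing (B' ⧸ m'.asIdeal)
  have hgm : h ∉ m'.asIdeal := by
    intro hmem
    rw [← hh] at hmem
    have : g ∈ Q.comap (algebraMap B T₂) := hm ▸ hmem
    refine hQ.ne_top (Ideal.eq_top_of_isUnit_mem _ this ?_)
    rw [IsScalarTower.algebraMap_apply B (Localization.Away g) T₂]
    exact (IsLocalization.Away.algebraMap_isUnit g).map _
  obtain ⟨π, hπ⟩ := exists_away_lift (IC := IB') (g := h)
    ((algebraMap (B' ⧸ m'.asIdeal) K).comp (Ideal.Quotient.mk m'.asIdeal)) (⊥ : Ideal K) (by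
      rw [← Ideal.map_map, le_bot_iff, Ideal.map_eq_bot_iff_of_injective
        (IsFractionRing.injective (B' ⧸ m'.asIdeal) K), Ideal.map_eq_bot_iff_le_ker, Ideal.mk_ker,
        hIB', Ideal.map_le_iff_le_comap, hm]
      exact fun x hx => hIQ (Ideal.mem_map_of_mem _ hx))
    (by
      refine isUnit_iff_ne_zero.2 fun h0 => hgm ?_
      rw [RingHom.comp_apply, map_eq_zero_iff _ (IsFractionRing.injective (B' ⧸ m'.asIdeal) K)] at h0
      exact Ideal.Quotient.eq_zero_iff_mem.1 h0)
  have : (RingHom.ker π).IsPrime := RingHom.ker_isPrime _
  have : ((RingHom.ker π).comap μ).IsPrime := Ideal.comap_isPrime _ _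
  have hcomap : ((RingHom.ker π).comap μ).comap (algebraMap B T₂) = Q.comap (algebraMap B T₂) := by
    rw [← hm, Ideal.comap_comap, hμ, ← Ideal.comap_comap, RingHom.comap_ker, hπ]
    congr 1
    rw [RingHom.ker_comp_of_injective _ (IsFractionRing.injective (B' ⧸ m'.asIdeal) K), Ideal.mk_ker]
  have hker : IB.map (algebraMap B T₂) ≤ (RingHom.ker π).comap μ := by
    rw [Ideal.map_le_iff_le_comap, hcomap, ← Ideal.map_le_iff_le_comap]
    exact hIQ
  have hQeq : (RingHom.ker π).comap μ = Q :=
    le_antisymm (away_prime_le _ _ hker hIQ hcomap.le) (away_prime_le _ _ hIQ hker hcomap.ge)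
  -- going down
  let _ : Algebra T₂ T₃ := μ.toAlgebra
  have : Module.Flat T₂ T₃ := hμflat
  have : (RingHom.ker π).LiesOver Q := ⟨hQeq.symm⟩
  obtain ⟨q₀, -, hq₀, hlo⟩ := (RingHom.ker π).exists_ideal_le_liesOver_of_le (p := qf.asIdeal)
    (q := Q) hq.lt_radical.le
  have hq₀q : q₀.comap μ = qf.asIdeal := hlo.over.symm
  let J := (IB'.map (algebraMap B' (Localization.Away h))).map (algebraMap (Localization.Away h) T₃)
  have hJ : J = ((IB.map (algebraMap B (Localization.Away g))).map
      (algebraMap (Localization.Away g) T₂)).map μ := by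
    show (IB'.map (algebraMap B' (Localization.Away h))).map (algebraMap (Localization.Away h) T₃) = _
    rw [← away_ideal_map g, ← away_ideal_map h, Ideal.map_map (g := μ), hμ, ← Ideal.map_map]
    exact congrArg (Ideal.map _) hIB'
  let S : Set (Ideal T₃) := {y | y.IsPrime ∧ q₀ ≤ y ∧ ¬ J ≤ y}
  obtain ⟨q₁, ⟨hq₁, hle, hIq₁⟩, hmax⟩ := set_has_maximal_iff_noetherian.2 inferInstance S
    ⟨q₀, hq₀, le_rfl, fun hle => hq.1 (by
      rw [hJ, Ideal.map_le_iff_le_comap, hq₀q] at hle; exact hle)⟩
  have hrig : RigClosed J q₁ := ⟨hIq₁, fun y hy hley hy' =>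
    (eq_of_le_of_not_lt hley (hmax y ⟨hy, hle.trans hley, hy'⟩)).symm⟩
  have hq₁q : qf.asIdeal = Ideal.comap μ q₁ := (hq.2 _ (Ideal.comap_isPrime _ _)
    (hq₀q.ge.trans (Ideal.comap_mono hle))
    (fun h' => hIq₁ (by rw [hJ, Ideal.map_le_iff_le_comap]; exact h'))).symm
  have h2 := hA'B' f' ψ' hψ' ⟨q₁, hq₁⟩ (RigClosed.toSpec (q := ⟨q₁, hq₁⟩) hrig)
  refine flat_descend_atPrime ψf μ hμflat q₁ qf.asIdeal hq₁q ?_
  have : IsAdicComplete J T₃ := isAdicComplete_away h
  have hA := away_map_comp hψf
  have hA' := away_map_comp hψ'
  have key : μ.comp ψf = ψ'.comp ν := by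
    have e : ∀ a : A, μ (ψf (algebraMap A T₁ a)) = ψ' (ν (algebraMap A T₁ a)) := fun a => by
      rw [show ψf (algebraMap A T₁ a) = algebraMap B T₂ (algebraMap A B a) from RingHom.congr_fun hA a,
        show μ (algebraMap B T₂ (algebraMap A B a)) = algebraMap B' T₃ (algebraMap B B' (algebraMap A B a))
          from RingHom.congr_fun hμ _,
        show ν (algebraMap A T₁ a) = algebraMap A' T₁' (algebraMap A A' a) from RingHom.congr_fun hν a,
        show ψ' (algebraMap A' T₁' (algebraMap A A' a)) =
          algebraMap B' T₃ (algebraMap A' B' (algebraMap A A' a)) from RingHom.congr_fun hA' _,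
        ← IsScalarTower.algebraMap_apply A B B', ← IsScalarTower.algebraMap_apply A A' B']
    refine away_hom_ext (IC := I) (g := f) J _ _ ?_ (RingHom.ext e)
    rw [RingHom.comp_assoc, hA, ← Ideal.map_map, ← Ideal.map_map, hJ, ← away_ideal_map g]
  rw [key, ← RingHom.comp_assoc]
  exact hνflat.comp h2

end Groth.Agent.S8844
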