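import Groth.Statements.S8845
import Groth.Agent.Adic.Rig.Unramified

set_option autoImplicit false
universe u
open AdicRing

namespace Groth.Agent.S8845

/-- Consider a commutative square of adic Noetherian topological rings with all maps adic and
topologically of finite type: A a Noetherian ring complete for the adic topology of an ideal I (the
ideal of definition used below); B, A' and B' Noetherian algebras complete for the IB-, IA'- and
IB'-adic topologies, B' an algebra over B and over A' compatibly with A, with B/IB and A'/IA' of
finite type over A and B'/IB' of finite type over B and over A'. Assume A → A' and B → B' are flat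
and A/I → A'/IA' is étale. If A → B is rig-flat — for every f ∈ A, every ring map ψ : A_{f} → B_{f}
of completed principal localizations compatible with the map of ordinary localizations A[1/f] →
B[1/f] (there is exactly one), and every rig-closed prime q of B_{f} (I B_{f} ⊄ q and q maximal
among the primes not containing I B_{f}), the local ring (B_{f})_q is flat over A_{f} via ψ — then
A' → B' is rig-flat in the same form: for every f' ∈ A', every ring map A'_{f'} → B'_{f'} of
completed principal localizations compatible with the map of ordinary localizations A'[1/f'] →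
B'[1/f'], and every rig-closed prime q' of B'_{f'}, the local ring (B'_{f'})_{q'} is flat over
A'_{f'}. -/
theorem result (A : Type u) [CommRing A] [IsNoetherianRing A] (I : Ideal A) [IsAdicComplete I A] (B : Type u) [CommRing B] [Algebra A B] [IsNoetherianRing B] [IsAdicComplete (I.map (algebraMap A B)) B] (hftB : Algebra.FiniteType A (B ⧸ (I.map (algebraMap A B)))) (A' : Type u) [CommRing A'] [Algebra A A'] [IsNoetherianRing A'] [IsAdicComplete (I.map (algebraMap A A')) A'] (hftA' : Algebra.FiniteType A (A' ⧸ (I.map (algebraMap A A')))) (B' : Type u) [CommRing B'] [Algebra A B'] [Algebra B B'] [Algebra A' B'] [IsScalarTower A B B'] [IsScalarTower A A' B'] [IsNoetherianRing B'] [IsAdicComplete (I.map (algebraMap A B')) B'] (hftB'B : Algebra.FiniteType B (B' ⧸ (I.map (algebraMap A B')))) (hftB'A' : Algebra.FiniteType A' (B' ⧸ (I.map (algebraMap A B')))) [Module.Flat A A'] [Module.Flat B B'] [Algebra.Etale (A ⧸ I) (A' ⧸ (I.map (algebraMap A A')))] (hAB : (∀ f : A, ∀ ψf : (AdicCompletion (I.map (algebraMap A (Localization.Away f))) (Localization.Away f)) →+* (AdicCompletion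 ((I.map (algebraMap A B)).map (algebraMap B (Localization.Away (algebraMap A B f)))) (Localization.Away (algebraMap A B f))), ψf.comp (algebraMap (Localization.Away f) (AdicCompletion (I.map (algebraMap A (Localization.Away f))) (Localization.Away f))) = (algebraMap (Localization.Away (algebraMap A B f)) (AdicCompletion ((I.map (algebraMap A B)).map (algebraMap B (Localization.Away (algebraMap A B f)))) (Localization.Away (algebraMap A B f)))).comp (Localization.awayMap (algebraMap A B) f) → ∀ qf : PrimeSpectrum (AdicCompletion ((I.map (algebraMap A B)).map (algebraMap B (Localization.Away (algebraMap A B f)))) (Localization.Away (algebraMap A B f))), (¬ (((I.map (algebraMap A B)).map (algebraMap B (Localization.Away (algebraMap A B f)))).map (algebraMap (Localization.Away (algebraMap A B f)) (AdicCompletion ((I.map (algebraMap A B)).map (algebraMap B (Localization.Away (algebraMap A B f)))) (Localization.Away (algebraMap A B f))))) ≤ qf.asIdeal ∧ ∀ y : PrimeSpectrum (AdicCompletion ((I.map (algebraMap A B)).map (algebraMap B (Localization.Away (algebraMap A B f)))) (Localization.Away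 (algebraMap A B f))), qf ≤ y → ¬ (((I.map (algebraMap A B)).map (algebraMap B (Localization.Away (algebraMap A B f)))).map (algebraMap (Localization.Away (algebraMap A B f)) (AdicCompletion ((I.map (algebraMap A B)).map (algebraMap B (Localization.Away (algebraMap A B f)))) (Localization.Away (algebraMap A B f))))) ≤ y.asIdeal → y = qf) → ((algebraMap (AdicCompletion ((I.map (algebraMap A B)).map (algebraMap B (Localization.Away (algebraMap A B f)))) (Localization.Away (algebraMap A B f))) (Localization.AtPrime qf.asIdeal)).comp ψf).Flat)) : (∀ f' : A', ∀ ψf' : (AdicCompletion ((I.map (algebraMap A A')).map (algebraMap A' (Localization.Away f'))) (Localization.Away f')) →+* (AdicCompletion (((I.map (algebraMap A A')).map (algebraMap A' B')).map (algebraMap B' (Localization.Away (algebraMap A' B' f')))) (Localization.Away (algebraMap A' B' f'))), ψf'.comp (algebraMap (Localization.Away f') (AdicCompletion ((I.map (algebraMap A A')).map (algebraMap A' (Localization.Away f'))) (Localization.Away f'))) = (algebraMap (Localization.Away (algebraMap A' B' f')) (AdicCompletion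 (((I.map (algebraMap A A')).map (algebraMap A' B')).map (algebraMap B' (Localization.Away (algebraMap A' B' f')))) (Localization.Away (algebraMap A' B' f')))).comp (Localization.awayMap (algebraMap A' B') f') → ∀ qf' : PrimeSpectrum (AdicCompletion (((I.map (algebraMap A A')).map (algebraMap A' B')).map (algebraMap B' (Localization.Away (algebraMap A' B' f')))) (Localization.Away (algebraMap A' B' f'))), (¬ ((((I.map (algebraMap A A')).map (algebraMap A' B')).map (algebraMap B' (Localization.Away (algebraMap A' B' f')))).map (algebraMap (Localization.Away (algebraMap A' B' f')) (AdicCompletion (((I.map (algebraMap A A')).map (algebraMap A' B')).map (algebraMap B' (Localization.Away (algebraMap A' B' f')))) (Localization.Away (algebraMap A' B' f'))))) ≤ qf'.asIdeal ∧ ∀ y : PrimeSpectrum (AdicCompletion (((I.map (algebraMap A A')).map (algebraMap A' B')).map (algebraMap B' (Localization.Away (algebraMap A' B' f')))) (Localization.Away (algebraMap A' B' f'))), qf' ≤ y → ¬ ((((I.map (algebraMap A A')).map (algebraMap A' B')).map (algebraMap B' (Localization.Away (algebraMap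 A' B' f')))).map (algebraMap (Localization.Away (algebraMap A' B' f')) (AdicCompletion (((I.map (algebraMap A A')).map (algebraMap A' B')).map (algebraMap B' (Localization.Away (algebraMap A' B' f')))) (Localization.Away (algebraMap A' B' f'))))) ≤ y.asIdeal → y = qf') → ((algebraMap (AdicCompletion (((I.map (algebraMap A A')).map (algebraMap A' B')).map (algebraMap B' (Localization.Away (algebraMap A' B' f')))) (Localization.Away (algebraMap A' B' f'))) (Localization.AtPrime qf'.asIdeal)).comp ψf').Flat) := by
  open Groth.Agent.Adic.Rig in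
  intro f' ψ' hψ' qf' hqf'
  let IB := I.map (algebraMap A B)
  let IA' := I.map (algebraMap A A')
  let IB' := IA'.map (algebraMap A' B')
  let h' := algebraMap A' B' f'
  let T' := AdicCompletion (IB'.map (algebraMap B' (Localization.Away h'))) (Localization.Away h')
  let K' : Ideal T' := (IB'.map (algebraMap B' (Localization.Away h'))).map
    (algebraMap (Localization.Away h') T')
  have hq : RigClosed K' qf'.asIdeal := rigClosed_of_spec hqf'
  have : IsNoetherianRing T' := isNoetherianRing_away h'
  have : IsAdicComplete K' T' := isAdicComplete_away h'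
  let D := T' ⧸ qf'.asIdeal
  let mkq : T' →+* D := Ideal.Quotient.mk qf'.asIdeal
  have hKe : IB'.map (algebraMap B' T') = K' := away_ideal_map h'
  have hIB' : IB' = I.map (algebraMap A B') := by
    show (I.map (algebraMap A A')).map (algebraMap A' B') = I.map (algebraMap A B')
    rw [Ideal.map_map, ← IsScalarTower.algebraMap_eq]
  have hIBB' : IB' = IB.map (algebraMap B B') := by
    show (I.map (algebraMap A A')).map (algebraMap A' B') =
      (I.map (algebraMap A B)).map (algebraMap B B')
    rw [Ideal.map_map, Ideal.map_map, ← IsScalarTower.algebraMap_eq, ← IsScalarTower.algebraMap_eq]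
  have hftC : Algebra.FiniteType A (B' ⧸ IB') := by
    have := finiteType_quot_trans (IB := IB) (IC := I.map (algebraMap A B'))
      (by rw [Ideal.map_map, ← IsScalarTower.algebraMap_eq]) hftB hftB'B
    rw [hIB']; exact this
  have hcompD : algebraMap A D = (mkq.comp (algebraMap B' T')).comp (algebraMap A B') := rfl
  have hICD : IB'.map (mkq.comp (algebraMap B' T')) = I.map (algebraMap A D) := by
    rw [hcompD]
    exact (congrArg (Ideal.map _) hIB').trans (Ideal.map_map _ _)
  have hKD : I.map (algebraMap A D) = K'.map mkq := by
    rw [← hICD, ← Ideal.map_map]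
    exact congrArg (Ideal.map mkq) hKe
  have : IsAdicComplete (I.map (algebraMap A D)) D := by
    rw [hKD]; exact isAdicComplete_quotient _
  have hftD : Algebra.FiniteType A (D ⧸ I.map (algebraMap A D)) :=
    finiteType_quot_away hftC mkq Ideal.Quotient.mk_surjective
      (fun a => (RingHom.congr_fun hcompD a).symm) _ hICD.le
  have hbot : RigClosed (I.map (algebraMap A D)) (⊥ : Ideal D) := by
    rw [hKD]; exact hq.bot_quotient
  obtain ⟨c, hc, hfin⟩ := exists_away_finite hftD hbot
  let g := algebraMap A B c
  let f'' := f' * algebraMap A A' c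
  let h'' := algebraMap A' B' f''
  let T₁ := AdicCompletion (I.map (algebraMap A (Localization.Away c))) (Localization.Away c)
  let T₂ := AdicCompletion (IB.map (algebraMap B (Localization.Away g))) (Localization.Away g)
  let T₁' := AdicCompletion (IA'.map (algebraMap A' (Localization.Away f''))) (Localization.Away f'')
  let T₃ := AdicCompletion (IB'.map (algebraMap B' (Localization.Away h''))) (Localization.Away h'')
  have hgh : algebraMap B B' g ∣ h'' := by
    show algebraMap B B' (algebraMap A B c) ∣ algebraMap A' B' (f' * algebraMap A A' c)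
    rw [← IsScalarTower.algebraMap_apply A B B', map_mul, ← IsScalarTower.algebraMap_apply A A' B']
    exact dvd_mul_left _ _
  obtain ⟨μ, hμ, hμflat⟩ := exists_away_hom (IC := IB') (g₀ := h') (g := h'')
    (map_dvd _ (dvd_mul_right f' _))
  obtain ⟨π, hπ⟩ := exists_away_lift (IC := IB') (g := h'') (mkq.comp (algebraMap B' T'))
    (I.map (algebraMap A D)) hICD.le (by
      show IsUnit (mkq (algebraMap B' T' (algebraMap A' B' (f' * algebraMap A A' c))))
      rw [map_mul, map_mul, map_mul]
      refine IsUnit.mul (IsUnit.map _ ?_) ?_
      · rw [IsScalarTower.algebraMap_apply B' (Localization.Away h') T']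
        exact (IsLocalization.Away.algebraMap_isUnit h').map _
      · rw [← IsScalarTower.algebraMap_apply A A' B']
        exact (RingHom.congr_fun hcompD c) ▸ hc)
  have hπμ : π.comp μ = mkq := by
    refine away_hom_ext (IC := IB') (g := h') (I.map (algebraMap A D)) _ _ ?_ ?_
    · rw [RingHom.comp_assoc, hμ, hπ, hICD]
    · rw [RingHom.comp_assoc, hμ, hπ]
  obtain ⟨ψ₁, hψ₁⟩ := exists_away_map (IC := IB) (algebraMap A B) rfl c
  obtain ⟨ψ'', hψ''⟩ := exists_away_map (IC := IB') (algebraMap A' B') rfl f''
  obtain ⟨ν, hν, hνflat⟩ := exists_away_hom_flat (IC := I) (IC' := IA') (g₀ := c) (g := f'')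
    (algebraMap A A') (RingHom.flat_algebraMap_iff.2 inferInstance) rfl (dvd_mul_left _ f')
  obtain ⟨κ, hκ, hκflat⟩ := exists_away_hom_flat (IC := IB) (IC' := IB') (g₀ := g) (g := h'')
    (algebraMap B B') (RingHom.flat_algebraMap_iff.2 inferInstance) hIBB' hgh
  have hA₁ := away_map_comp hψ₁
  have hA'' := away_map_comp hψ''
  have e₁ : ∀ a : A, κ (ψ₁ (algebraMap A T₁ a)) = algebraMap B' T₃ (algebraMap A B' a) := fun a => by
    rw [show ψ₁ (algebraMap A T₁ a) = algebraMap B T₂ (algebraMap A B a) from RingHom.congr_fun hA₁ a,
      show κ (algebraMap B T₂ (algebraMap A B a)) = algebraMap B' T₃ (algebraMap B B' (algebraMap A B a))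
        from RingHom.congr_fun hκ _,
      ← IsScalarTower.algebraMap_apply A B B']
  have e₂ : ∀ a : A, ψ'' (ν (algebraMap A T₁ a)) = algebraMap B' T₃ (algebraMap A B' a) := fun a => by
    rw [show ν (algebraMap A T₁ a) = algebraMap A' T₁' (algebraMap A A' a) from RingHom.congr_fun hν a,
      show ψ'' (algebraMap A' T₁' (algebraMap A A' a)) =
        algebraMap B' T₃ (algebraMap A' B' (algebraMap A A' a)) from RingHom.congr_fun hA'' _,
      ← IsScalarTower.algebraMap_apply A A' B']
  let J₃ := (IB'.map (algebraMap B' (Localization.Away h''))).map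
    (algebraMap (Localization.Away h'') T₃)
  have : IsAdicComplete J₃ T₃ := isAdicComplete_away h''
  have hsq : κ.comp ψ₁ = ψ''.comp ν := by
    refine away_hom_ext (IC := I) (g := c) J₃ _ _ (le_of_eq ?_)
      (RingHom.ext fun a => (e₁ a).trans (e₂ a).symm)
    rw [show (κ.comp ψ₁).comp (algebraMap A T₁) = (algebraMap B' T₃).comp (algebraMap A B') from
      RingHom.ext e₁, ← Ideal.map_map]
    exact (congrArg (Ideal.map _) hIB'.symm).trans (away_ideal_map h'')
  -- finiteness and rig-closed primes
  have hcompat : (π.comp (κ.comp ψ₁)).comp (algebraMap A T₁) = algebraMap A D :=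
    RingHom.ext fun a => by
      show π (κ (ψ₁ (algebraMap A T₁ a))) = algebraMap A D a
      rw [e₁]
      exact (RingHom.congr_fun hπ _).trans (RingHom.congr_fun hcompD a).symm
  have hfin₁ : (π.comp (κ.comp ψ₁)).Finite := hfin c dvd_rfl _ hcompat
  have hfin₂ : (π.comp κ).Finite := RingHom.Finite.of_comp_finite (f := ψ₁) hfin₁
  have hfin₃ : π.Finite := RingHom.Finite.of_comp_finite (f := κ.comp ψ₁) hfin₁
  have hq₁ := rigClosed_ker_away (IC := I) _ hfin₁ (by rw [hcompat]) hbot
  have hq₂ := rigClosed_ker_away (IC := IB) _ hfin₂ (by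
    rw [RingHom.comp_assoc, hκ, ← RingHom.comp_assoc, hπ]
    exact ((Ideal.map_map _ _).symm.trans (congrArg (Ideal.map _) hIBB'.symm)).trans hICD) hbot
  have : (RingHom.ker π).IsPrime := RingHom.ker_isPrime _
  have : (RingHom.ker (π.comp κ)).IsPrime := RingHom.ker_isPrime _
  have h1 := hAB c ψ₁ hψ₁ ⟨RingHom.ker (π.comp κ), inferInstance⟩
    (RigClosed.toSpec (q := ⟨RingHom.ker (π.comp κ), inferInstance⟩) hq₂)
  have hκ' : ((algebraMap T₃ (Localization.AtPrime (RingHom.ker π))).comp κ).Flat :=
    hκflat.comp (RingHom.flat_algebraMap_iff.2 (IsLocalization.flat _ (RingHom.ker π).primeCompl))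
  have h3 := flat_comp_atPrime ψ₁ κ (RingHom.ker π) (RingHom.ker (π.comp κ))
    (RingHom.comap_ker π κ).symm h1 hκ'
  rw [hsq] at h3
  -- the prime of `Â'` and its maximal ideal
  set p' := RingHom.ker (π.comp ψ'') with hp'def
  have : p'.IsPrime := RingHom.ker_isPrime _
  let _ : Algebra T₁ T₁' := ν.toAlgebra
  let I₁ : Ideal T₁ := (I.map (algebraMap A (Localization.Away c))).map
    (algebraMap (Localization.Away c) T₁)
  let J₁' : Ideal T₁' := (IA'.map (algebraMap A' (Localization.Away f''))).map
    (algebraMap (Localization.Away f'') T₁')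
  have hνA : (algebraMap T₁ T₁').comp (algebraMap A T₁) =
      (algebraMap A' T₁').comp (algebraMap A A') := hν
  have : IsScalarTower A T₁ T₁' := IsScalarTower.of_algebraMap_eq fun a =>
    (IsScalarTower.algebraMap_apply A A' T₁' a).trans (RingHom.congr_fun hνA a).symm
  have hI₁J : I₁.map (algebraMap T₁ T₁') = J₁' := by
    show _ = (IA'.map (algebraMap A' (Localization.Away f''))).map
      (algebraMap (Localization.Away f'') T₁')
    rw [← away_ideal_map f'']
    exact (congrArg (Ideal.map _) (away_ideal_map c).symm).trans ((Ideal.map_map _ _).trans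
      ((congrArg (fun φ => Ideal.map φ I) hνA).trans (Ideal.map_map _ _).symm))
  have : IsNoetherianRing T₁ := isNoetherianRing_away c
  have : IsNoetherianRing T₁' := isNoetherianRing_away f''
  have : IsNoetherianRing T₃ := isNoetherianRing_away h''
  have : IsAdicComplete I₁ T₁ := isAdicComplete_away c
  have : IsAdicComplete (I₁.map (algebraMap T₁ T₁')) T₁' := by
    rw [hI₁J]; exact isAdicComplete_away f''
  have hft' : Algebra.FiniteType T₁ (T₁' ⧸ I₁.map (algebraMap T₁ T₁')) := by
    rw [hI₁J]
    have : Algebra.FiniteType A (T₁' ⧸ J₁') := finiteType_quot_away (IC := IA') (A := A) hftA'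
      (RingHom.id T₁') Function.surjective_id
      (fun a => (IsScalarTower.algebraMap_apply A A' T₁' a).symm) J₁'
      (le_of_eq (away_ideal_map f''))
    exact Algebra.FiniteType.of_restrictScalars_finiteType A T₁ _
  have hU' : Algebra.FormallyUnramified T₁ (T₁' ⧸ I₁.map (algebraMap T₁ T₁')) := by
    rw [hI₁J]
    have : Algebra.FormallyUnramified A (A' ⧸ IA') :=
      Algebra.FormallyUnramified.comp A (A ⧸ I) (A' ⧸ IA')
    have := formallyUnramified_quot_away (IC := IA') (A := A) this f'' J₁' (away_ideal_map f'')
    exact Algebra.FormallyUnramified.of_restrictScalars A T₁ _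
  have hp₁ : p'.comap (algebraMap T₁ T₁') = RingHom.ker (π.comp (κ.comp ψ₁)) := by
    rw [hsq, hp'def]; exact RingHom.comap_ker _ _
  have hmax := map_comap_eq_maximalIdeal hft' hU' p' (by rw [hp₁]; exact hq₁)
  -- flatness over the local ring of `Â'`
  let R := Localization.AtPrime p'
  let S := Localization.AtPrime (RingHom.ker π)
  let _ : Algebra R S := (Localization.localRingHom p' (RingHom.ker π) ψ''
    (RingHom.comap_ker π ψ'').symm).toAlgebra
  let _ : Algebra T₁ S := ((algebraMap T₃ S).comp (ψ''.comp ν)).toAlgebra
  have hRS : ∀ x : T₁', algebraMap R S (algebraMap T₁' R x) = algebraMap T₃ S (ψ'' x) :=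
    Localization.localRingHom_to_map p' (RingHom.ker π) ψ'' (RingHom.comap_ker π ψ'').symm
  have : IsScalarTower T₁ R S := IsScalarTower.of_algebraMap_eq fun x => by
    rw [IsScalarTower.algebraMap_apply T₁ T₁' R, hRS]
    rfl
  have : Module.Flat T₁ S := h3
  let p₁ := p'.comap (algebraMap T₁ T₁')
  have hp₁R : p₁.map (algebraMap T₁ R) = IsLocalRing.maximalIdeal R := by
    rw [IsScalarTower.algebraMap_eq T₁ T₁' R, ← Ideal.map_map]; exact hmax
  have : (p₁.map (algebraMap T₁ R)).IsMaximal := by rw [hp₁R]; exact IsLocalRing.maximalIdeal.isMaximal R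
  have hjac : p₁.map (algebraMap T₁ S) ≤ (⊥ : Ideal S).jacobson := by
    rw [IsScalarTower.algebraMap_eq T₁ R S, ← Ideal.map_map, hp₁R,
      IsLocalRing.jacobson_eq_maximalIdeal ⊥ bot_ne_top, Ideal.map_le_iff_le_comap]
    have : IsLocalHom (algebraMap R S) := Localization.isLocalHom_localRingHom _ _ _ _
    intro x hx
    exact map_nonunit (algebraMap R S) x hx
  have hRSflat : Module.Flat R S := flat_of_map_isMaximal p₁ hjac
  have h4 : ((algebraMap T₃ S).comp ψ'').Flat := by
    have e : (algebraMap T₃ S).comp ψ'' = (algebraMap R S).comp (algebraMap T₁' R) :=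
      RingHom.ext fun x => (hRS x).symm
    rw [e]
    exact RingHom.Flat.comp (RingHom.flat_algebraMap_iff.2 (IsLocalization.flat R p'.primeCompl))
      (RingHom.flat_algebraMap_iff.2 hRSflat)
  -- back to `f'`
  refine flat_descend_atPrime ψ' μ hμflat (RingHom.ker π) qf'.asIdeal ?_ ?_
  · rw [RingHom.comap_ker, hπμ, Ideal.mk_ker]
  obtain ⟨χ, hχ, hχflat⟩ := exists_away_hom (IC := IA') (g₀ := f') (g := f'') (dvd_mul_right f' _)
  have hA' := away_map_comp hψ'
  let T₀ := AdicCompletion (IA'.map (algebraMap A' (Localization.Away f'))) (Localization.Away f')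
  have key : μ.comp ψ' = ψ''.comp χ := by
    have e : ∀ a : A', μ (ψ' (algebraMap A' T₀ a)) = ψ'' (χ (algebraMap A' T₀ a)) := fun a => by
      rw [show ψ' (algebraMap A' T₀ a) = algebraMap B' T' (algebraMap A' B' a) from
          RingHom.congr_fun hA' a,
        show μ (algebraMap B' T' (algebraMap A' B' a)) = algebraMap B' T₃ (algebraMap A' B' a) from
          RingHom.congr_fun hμ _,
        show χ (algebraMap A' T₀ a) = algebraMap A' T₁' a from RingHom.congr_fun hχ a,
        show ψ'' (algebraMap A' T₁' a) = algebraMap B' T₃ (algebraMap A' B' a) from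
          RingHom.congr_fun hA'' a]
    refine away_hom_ext (IC := IA') (g := f') J₃ _ _ (le_of_eq ?_) (RingHom.ext e)
    rw [RingHom.comp_assoc, hA', ← RingHom.comp_assoc, hμ, ← Ideal.map_map]
    exact away_ideal_map h''
  rw [key, ← RingHom.comp_assoc]
  exact hχflat.comp h4

end Groth.Agent.S8845
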