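import Groth.Statements.S8850
import Groth.Agent.FlatMor.SchDom

set_option autoImplicit false
universe u
open CategoryTheory CategoryTheory.Limits AlgebraicGeometry TopologicalSpace
open SDiv

namespace Groth.Agent.S8850

/-- Let S be a scheme, X a Noetherian S-scheme, Y a proper S-scheme, U ⊆ X an open subscheme and f : U ⟶
Y a morphism compatible with the structure morphisms to S. Then there are a proper morphism p : X' ⟶
X restricting to an isomorphism over U and an S-morphism f' : X' ⟶ Y whose restriction to p⁻¹(U) is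
f composed with p. The published statement takes U dense, so that f is an S-rational map; this row
allows any open U, which its proof does not need. -/
theorem result {X Y S : Scheme.{u}} [IsNoetherian X] (a : X ⟶ S) (b : Y ⟶ S)
    [IsProper b] (U : X.Opens) (f : (U : Scheme.{u}) ⟶ Y) (hf : f ≫ b = U.ι ≫ a) :
    ∃ (X' : Scheme.{u}) (p : X' ⟶ X) (f' : X' ⟶ Y), IsProper p ∧ IsIso (p ∣_ U) ∧ f' ≫ b = p ≫ a ∧
      (p ⁻¹ᵁ U).ι ≫ f' = (p ∣_ U) ≫ f := by
  let P := pullback a b
  let G : (U : Scheme.{u}) ⟶ P := pullback.lift U.ι f hf.symm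
  have hG1 : G ≫ pullback.fst a b = U.ι := pullback.lift_fst _ _ _
  have hG2 : G ≫ pullback.snd a b = f := pullback.lift_snd _ _ _
  have : QuasiCompact G := by
    have : QuasiCompact (G ≫ pullback.fst a b) := by rw [hG1]; infer_instance
    exact QuasiCompact.of_comp G (pullback.fst a b)
  let τ := G.toImage
  have : IsSchemeTheoreticallyDominant τ :=
    Groth.Agent.FlatMor.SchDom.toImage_dominant G (Or.inl inferInstance)
  have : QuasiCompact τ := inferInstanceAs (QuasiCompact G.toImage)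
  let p : G.image ⟶ X := G.imageι ≫ pullback.fst a b
  have : IsProper p := inferInstanceAs (IsProper (G.imageι ≫ pullback.fst a b))
  have hτp : τ ≫ p = U.ι := by
    show G.toImage ≫ G.imageι ≫ pullback.fst a b = U.ι
    rw [G.toImage_imageι_assoc, hG1]
  have hτf : τ ≫ G.imageι ≫ pullback.snd a b = f := by
    show G.toImage ≫ G.imageι ≫ pullback.snd a b = f
    rw [G.toImage_imageι_assoc, hG2]
  let W := p ⁻¹ᵁ U
  have hW : τ ⁻¹ᵁ W = ⊤ := by
    show τ ⁻¹ᵁ (p ⁻¹ᵁ U) = ⊤
    rw [← Scheme.Hom.comp_preimage, hτp, Scheme.Opens.ι_preimage_self]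
  have hc : (τ ∣_ W) ≫ (p ∣_ U) = (τ ⁻¹ᵁ W).ι := by
    rw [← cancel_mono U.ι, Category.assoc, morphismRestrict_ι, morphismRestrict_ι_assoc, hτp]
  have : IsIso (τ ⁻¹ᵁ W).ι := by
    rw [hW, ← Scheme.topIso_hom]
    infer_instance
  have : IsClosedImmersion (τ ∣_ W) := by
    have : IsClosedImmersion ((τ ∣_ W) ≫ (p ∣_ U)) := by rw [hc]; infer_instance
    exact IsClosedImmersion.of_comp (τ ∣_ W) (p ∣_ U)
  have : IsSchemeTheoreticallyDominant (τ ∣_ W) :=
    IsSchemeTheoreticallyDominant.of_isPullback (isPullback_morphismRestrict τ W).flip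
  have : IsIso (τ ∣_ W) := by
    have : IsIso (τ ∣_ W).imageι := by
      rw [Scheme.Hom.imageι, Scheme.isIso_subschemeι_iff_eq_bot]
      exact (τ ∣_ W).ker_eq_bot
    rw [← (τ ∣_ W).toImage_imageι]
    infer_instance
  have : IsIso (p ∣_ U) := by
    have : IsIso ((τ ∣_ W) ≫ (p ∣_ U)) := by rw [hc]; infer_instance
    exact IsIso.of_isIso_comp_left (τ ∣_ W) (p ∣_ U)
  refine ⟨G.image, p, G.imageι ≫ pullback.snd a b, inferInstance, inferInstance, ?_, ?_⟩
  · show (G.imageι ≫ pullback.snd a b) ≫ b = (G.imageι ≫ pullback.fst a b) ≫ a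
    rw [Category.assoc, Category.assoc, pullback.condition]
  · rw [← cancel_epi (τ ∣_ W), morphismRestrict_ι_assoc, ← Category.assoc (τ ∣_ W), hc, hτf]

end Groth.Agent.S8850
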