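import Groth.Statements.S8854
import Mathlib.RingTheory.Ideal.Height
import Mathlib.RingTheory.Ideal.AssociatedPrime.Basic
import Mathlib.RingTheory.Nakayama
import Mathlib.RingTheory.UniqueFactorizationDomain.Ideal
-- import your own Groth.Agent.* helpers here

set_option autoImplicit false
universe u
open SDiv

namespace Groth.Agent.S8854

/-- Let R be a Noetherian unique factorisation domain and I ⊆ R an ideal such that every associated
prime of R/I is minimal over I (R/I has no embedded primes) and every prime minimal over I has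
height 1. Then I is principal: it is generated by one element. -/
theorem result (R : Type u) [CommRing R] [IsDomain R] [IsNoetherianRing R]
    [UniqueFactorizationMonoid R] (I : Ideal R)
    (h1 : ∀ p : Ideal R, p ∈ associatedPrimes R (R ⧸ I) → p ∈ I.minimalPrimes)
    (h2 : ∀ p : Ideal R, p ∈ I.minimalPrimes → p.height = 1) :
    ∃ f : R, I = Ideal.span {f} := by
  classical
  have hne : I ≠ ⊤ → I ≠ ⊥ := by
    intro _ hI
    subst hI
    have h : (⊥ : Ideal R) ∈ (⊥ : Ideal R).minimalPrimes :=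
      ⟨⟨Ideal.isPrime_bot, le_rfl⟩, fun _ _ _ => bot_le⟩
    exact absurd (h2 _ h) (by rw [Ideal.height_bot]; exact zero_ne_one)
  rcases eq_or_ne I ⊤ with rfl | htop
  · exact ⟨1, Ideal.span_singleton_one.symm⟩
  obtain ⟨J, ⟨f, hf⟩, hmax⟩ := set_has_maximal_iff_noetherian.mpr ‹IsNoetherianRing R›
    {J : Ideal R | ∃ f : R, I = Ideal.span {f} * J} ⟨I, 1, by rw [Ideal.span_singleton_one, Ideal.top_mul]⟩
  refine ⟨f, ?_⟩
  suffices hJ : J = ⊤ by rw [hf, hJ, Ideal.mul_top]
  by_contra hJ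
  have hf0 : f ≠ 0 := fun h0 => hne htop (by rw [hf, h0, Ideal.span_singleton_zero, Ideal.bot_mul])
  have hJ0 : J ≠ ⊥ := fun h0 => hne htop (by rw [hf, h0, Ideal.mul_bot])
  -- `R/J` embeds in `R/I` by multiplication with `f`
  let φ : (R ⧸ J) →ₗ[R] (R ⧸ I) := Submodule.mapQ J I (LinearMap.mulLeft R f) fun x hx =>
    hf.symm ▸ Ideal.mul_mem_mul (Ideal.mem_span_singleton_self f) hx
  have hφ : Function.Injective φ := by
    rw [injective_iff_map_eq_zero]
    intro x hx
    obtain ⟨x, rfl⟩ := Submodule.Quotient.mk_surjective J x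
    rw [Submodule.mapQ_apply, Submodule.Quotient.mk_eq_zero, LinearMap.mulLeft_apply, hf,
      Ideal.mem_span_singleton_mul] at hx
    obtain ⟨z, hz, hzx⟩ := hx
    rw [Submodule.Quotient.mk_eq_zero, ← mul_left_cancel₀ hf0 hzx]
    exact hz
  haveI : Nontrivial (R ⧸ J) := Submodule.Quotient.nontrivial_iff.mpr hJ
  obtain ⟨Q, hQ⟩ := associatedPrimes.nonempty R (R ⧸ J)
  have hQI : Q ∈ I.minimalPrimes := h1 Q (associatedPrimes.subset_of_injective hφ hQ)
  haveI : Q.IsPrime := hQI.1.1
  have hJQ : J ≤ Q := by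
    refine le_trans ?_ hQ.annihilator_le
    rw [Submodule.annihilator_top, Ideal.annihilator_quotient]
  have hQ0 : Q ≠ ⊥ := fun h0 => hJ0 (le_bot_iff.mp (hJQ.trans h0.le))
  obtain ⟨π, hπQ, hπ⟩ := ‹Q.IsPrime›.exists_mem_prime_of_ne_bot hQ0
  haveI : (Ideal.span {π}).IsPrime := (Ideal.span_singleton_prime hπ.ne_zero).mpr hπ
  have hQπ : Q = Ideal.span {π} := by
    by_contra hne'
    have hlt : Ideal.span {π} < Q :=
      lt_of_le_of_ne ((Ideal.span_singleton_le_iff_mem Q).mpr hπQ) (Ne.symm hne')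
    have h01 : (⊥ : Ideal R) < Ideal.span {π} :=
      bot_lt_iff_ne_bot.mpr (by simpa using hπ.ne_zero)
    have e1 := Ideal.height_add_one_le_of_lt_of_isPrime h01
    have e2 := Ideal.height_add_one_le_of_lt_of_isPrime hlt
    rw [Ideal.height_bot, zero_add] at e1
    rw [h2 Q hQI] at e2
    exact absurd ((add_le_add_left e1 1).trans e2) (by norm_num)
  obtain ⟨J', hJ'⟩ : ∃ J', J = Ideal.span {π} * J' := by
    rw [hQπ] at hJQ
    refine ⟨Submodule.comap (LinearMap.mulLeft R π) J, le_antisymm (fun x hx => ?_) ?_⟩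
    · obtain ⟨z, rfl⟩ := Ideal.mem_span_singleton.mp (hJQ hx)
      exact Ideal.mul_mem_mul (Ideal.mem_span_singleton_self π) hx
    · intro x hx
      obtain ⟨z, hz, rfl⟩ := Ideal.mem_span_singleton_mul.mp hx
      exact hz
  have hle : J ≤ J' := hJ' ▸ Ideal.mul_le_right
  have hJJ : J = J' := by
    rcases hle.eq_or_lt with h | h
    · exact h
    · exact absurd h (hmax J' ⟨f * π, by
        rw [hf, hJ', ← mul_assoc, Ideal.span_singleton_mul_span_singleton]⟩)
  rw [← hJJ] at hJ'
  obtain ⟨r, hr, hrJ⟩ := Submodule.exists_sub_one_mem_and_smul_eq_zero_of_fg_of_le_smul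
    (Ideal.span {π}) J (IsNoetherian.noetherian J) (by rw [smul_eq_mul]; exact hJ'.le)
  obtain ⟨x, hx, hx0⟩ := Submodule.exists_mem_ne_zero_of_ne_bot hJ0
  have hr0 : r = 0 := (mul_eq_zero.mp (hrJ x hx)).resolve_right hx0
  rw [hr0, zero_sub, neg_mem_iff, Ideal.mem_span_singleton] at hr
  exact hπ.not_unit (isUnit_of_dvd_one hr)

end Groth.Agent.S8854
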