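import Groth.Statements.S8856
import Groth.Agent.KReg47.Cover
import Mathlib.AlgebraicGeometry.Limits

set_option autoImplicit false
universe u
open CategoryTheory CategoryTheory.Limits AlgebraicGeometry TopologicalSpace
open SDiv

namespace Groth.Agent.S8856

/-- For a Koszul-regular closed immersion i : Z ⟶ X, some surjective smooth morphism g : X' ⟶ X makes
the base change Z ×_X X' ⟶ X' of i along g a regular immersion. -/
theorem result {Z X : Scheme.{u}} (i : Z ⟶ X) [IsClosedImmersion i]
    (hi : RegImm.IsRegularImmersion RegImm.Kind.koszul i) :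
    ∃ (X' : Scheme.{u}) (g : X' ⟶ X), Smooth g ∧ Surjective g ∧
      RegImm.IsRegularImmersion RegImm.Kind.regular (pullback.snd i g) := by
  choose S gS hsm hx hreg using Groth.Agent.KReg47.exists_chart i hi
  refine ⟨∐ fun x : X => Spec (S x), Sigma.desc gS, ?_, ?_, inferInstance, fun w => ?_⟩
  · exact IsZariskiLocalAtSource.sigmaDesc (P := @Smooth) hsm
  · refine ⟨fun x => ?_⟩
    obtain ⟨p, hp⟩ := hx x
    refine ⟨Sigma.ι (fun x : X => Spec (S x)) x p, ?_⟩
    rw [← Scheme.Hom.comp_apply, Sigma.ι_desc]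
    exact hp
  · obtain ⟨x, p, hp⟩ := (sigmaOpenCover fun x : X => Spec (S x)).exists_eq
      (pullback.snd i (Sigma.desc gS) w)
    exact hreg x _ (Sigma.desc gS) (Sigma.ι (fun x : X => Spec (S x)) x) inferInstance
      (Sigma.ι_desc _ _) w ⟨p, hp⟩

end Groth.Agent.S8856
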