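import Groth.Statements.S8860
import Groth.Agent.S8880
import Groth.Agent.S8881
import Groth.Agent.NormFLF.Basic
import Groth.Agent.S16188
-- import your own Groth.Agent.* helpers here

set_option autoImplicit false
set_option linter.style.haveILetI false
universe u
open CategoryTheory CategoryTheory.Limits AlgebraicGeometry TopologicalSpace
open SDiv

namespace Groth.Agent.S8860

theorem exists_extend {Y : Scheme.{u}} (U : Y.Opens) (hU : IsClosed (U : Set Y)) (a : Γ(Y, U)) :
    ∃ g : Γ(Y, ⊤), Y.basicOpen g = Y.basicOpen a := by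
  let V : Y.Opens := ⟨(U : Set Y)ᶜ, hU.isOpen_compl⟩
  let c : Bool → Y.Opens := fun b => bif b then U else V
  have hcov : (⊤ : Y.Opens) ≤ iSup c := fun y _ => by
    by_cases hy : y ∈ U
    · exact TopologicalSpace.Opens.mem_iSup.2 ⟨true, hy⟩
    · exact TopologicalSpace.Opens.mem_iSup.2 ⟨false, hy⟩
  have hsub : Subsingleton Γ(Y, U ⊓ V) := by
    rw [show U ⊓ V = ⊥ from TopologicalSpace.Opens.ext (Set.inter_compl_self _)]
    exact CommRingCat.subsingleton_of_isTerminal (TopCat.Sheaf.isTerminalOfEmpty Y.sheaf)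
  have hsub' : Subsingleton Γ(Y, V ⊓ U) := by rwa [inf_comm]
  let sf : ∀ b : Bool, Γ(Y, c b) := fun b => match b with
    | true => a
    | false => (0 : Γ(Y, V))
  have hc : TopCat.Presheaf.IsCompatible Y.sheaf.obj c sf := by
    intro a b
    cases a <;> cases b <;> first | rfl | exact hsub.elim _ _ | exact hsub'.elim _ _
  obtain ⟨(g : Γ(Y, ⊤)), hg, -⟩ := TopCat.Sheaf.existsUnique_gluing' Y.sheaf c ⊤ (fun b => homOfLE le_top) hcov sf hc
  have h1 : Y.presheaf.map (homOfLE (le_top : U ≤ ⊤)).op g = a := hg true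
  have h0 : Y.presheaf.map (homOfLE (le_top : V ≤ ⊤)).op g = 0 := hg false
  refine ⟨g, le_antisymm (fun y hy => ?_) (h1 ▸ (Y.basicOpen_res g _).le.trans inf_le_right)⟩
  by_cases hyU : y ∈ U
  · rw [← h1, Scheme.basicOpen_res]; exact ⟨hyU, hy⟩
  · have : y ∈ Y.basicOpen (Y.presheaf.map (homOfLE (le_top : V ≤ ⊤)).op g) := by
      rw [Scheme.basicOpen_res]; exact ⟨hyU, hy⟩
    rw [h0, Scheme.basicOpen_zero] at this
    exact this.elim

theorem of_finLocFree {X Y : Scheme.{u}} (π : X ⟶ Y) [IsFinite π] [Flat π] [LocallyOfFinitePresentation π]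
    [Surjective π] [hX : X.IsQuasiAffine] : Y.IsQuasiAffine := by
  haveI : CompactSpace Y := ⟨by
    rw [← π.surjective.range_eq]; exact isCompact_range π.continuous⟩
  have hlc := Scheme.Hom.isLocallyConstant_finrank π
  refine Scheme.IsQuasiAffine.of_forall_exists_mem_basicOpen Y fun y => ?_
  let U : Y.Opens := ⟨{z | π.finrank z = π.finrank y}, hlc.isOpen_fiber _⟩
  have hU : IsClosed (U : Set Y) := hlc.isClosed_fiber _
  have hyU : y ∈ U := rfl
  haveI : CompactSpace ↥(π ⁻¹ᵁ U).toScheme :=
    isCompact_iff_compactSpace.1 (hU.preimage π.continuous).isCompact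
  have hd : ∀ z : U.toScheme, (π ∣_ U).finrank z = π.finrank y := fun z => by
    rw [Scheme.Hom.finrank_of_isPullback _ _ _ _ (isPullback_morphismRestrict π U).flip z]
    exact z.2
  haveI : IsFinite (π ∣_ U) := MorphismProperty.of_isPullback (P := @IsFinite) (isPullback_morphismRestrict π U).flip inferInstance
  haveI : Flat (π ∣_ U) := MorphismProperty.of_isPullback (P := @Flat) (isPullback_morphismRestrict π U).flip inferInstance
  haveI : LocallyOfFinitePresentation (π ∣_ U) :=
    MorphismProperty.of_isPullback (P := @LocallyOfFinitePresentation) (isPullback_morphismRestrict π U).flip inferInstance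
  obtain ⟨x, hx⟩ := π.surjective y
  have h1 : 1 ≤ π.finrank y := hx ▸ π.one_le_finrank_map x
  haveI := Groth.Agent.S8880.result (π ∣_ U) (π.finrank y) (Groth.Agent.NormFLF.hasNorm (π ∣_ U) h1 hd)
    (Scheme.IsQuasiAffine.of_isImmersion (π ⁻¹ᵁ U).ι)
  obtain ⟨_, ⟨_, ⟨r, hr, rfl⟩, rfl⟩, hxr, -⟩ :=
    (Scheme.IsQuasiAffine.isBasis_basicOpen U.toScheme).exists_subset_of_mem_open
      (Set.mem_univ (⟨y, hyU⟩ : U.toScheme)) isOpen_univ
  obtain ⟨g, hg⟩ := exists_extend (U.ι ''ᵁ ⊤) (by simpa using hU) r
  refine ⟨g, ?_, ?_⟩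
  · rw [hg]; refine (?_ : IsAffineOpen (Y.basicOpen r)); erw [← U.ι_image_basicOpen r]
    exact hr.image_of_isOpenImmersion U.ι
  · rw [hg]; erw [← U.ι_image_basicOpen r]
    exact ⟨_, hxr, rfl⟩

/-- Let π : X ⟶ Y be a finite surjective morphism of schemes with X quasi-affine. If either π is finite
locally free (finite, flat and locally of finite presentation), or Y is integral with all local
rings integrally closed domains (normal), then Y is quasi-affine. -/
theorem result {X Y : Scheme.{u}} (π : X ⟶ Y) [IsFinite π] [Surjective π]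
    (hX : X.IsQuasiAffine) (h : Mor2.IsFinLocFree π ∨ (IsIntegral Y ∧ Pi1.IsNormalScheme Y)) :
    Y.IsQuasiAffine := by
  haveI := hX
  obtain ⟨_, _, _⟩ | ⟨_, hY⟩ := h
  · exact of_finLocFree π
  · haveI : CompactSpace Y := ⟨by
      rw [← π.surjective.range_eq]; exact isCompact_range π.continuous⟩
    obtain ⟨x, hx⟩ := π.surjective (genericPoint Y)
    let Z : Closeds X := ⟨closure {x}, isClosed_closure⟩
    let I := Scheme.IdealSheafData.vanishingIdeal Z
    haveI : IsIntegral I.subscheme :=
      Groth.Agent.S16188.isIntegral_subscheme Z isIrreducible_singleton.closure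
    haveI : Surjective (I.subschemeι ≫ π) := ⟨fun y => by
      have hcl : IsClosed (Set.range (I.subschemeι ≫ π)) := (I.subschemeι ≫ π).isClosedMap.isClosed_range
      have hx' : x ∈ Set.range I.subschemeι := by
        rw [Scheme.IdealSheafData.range_subschemeι]
        exact (Scheme.IdealSheafData.le_support_iff_le_vanishingIdeal (Z := Z)).2 le_rfl (subset_closure rfl)
      obtain ⟨x', hx'⟩ := hx'
      have hgen : genericPoint Y ∈ Set.range (I.subschemeι ≫ π) := ⟨x', by rw [Scheme.Hom.comp_apply, hx', hx]⟩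
      exact hcl.closure_subset_iff.2 (Set.singleton_subset_iff.2 hgen)
        (((genericPoint_spec Y).specializes trivial).mem_closure)⟩
    haveI : CompactSpace I.subscheme := QuasiCompact.compactSpace_of_compactSpace I.subschemeι
    haveI := Scheme.IsQuasiAffine.of_isImmersion I.subschemeι
    obtain ⟨d, hd⟩ := Groth.Agent.S8881.result (I.subschemeι ≫ π) hY
    exact Groth.Agent.S8880.result (I.subschemeι ≫ π) d hd inferInstance

end Groth.Agent.S8860
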