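import Groth.Statements.S8865
import Groth.Agent.Mero.Basic

set_option autoImplicit false
universe u
open CategoryTheory CategoryTheory.Limits AlgebraicGeometry TopologicalSpace
open SDiv

namespace Groth.Agent.S8865

/-- Let X be a quasi-compact scheme, h a global section of O_X and f a global section of the sheaf of
meromorphic functions K_X whose restriction to the open X_h where h is invertible vanishes. Then h^n
f = 0 in K_X(X) for some natural number n. -/
theorem result (X : Scheme.{u}) [CompactSpace ↥X] (h : Γ(X, ⊤))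
    (f : Γ(Mero.kmod X, ⊤)) (hf : (Mero.kmod X).presheaf.map (homOfLE (le_top : X.basicOpen h ≤ ⊤)).op f = 0) :
    ∃ n : ℕ, Mero.toK X ⊤ h ^ n * f = 0 := by
  classical
  have hf' : ∀ x : X, x ∈ X.basicOpen h → f.1 ⟨x, trivial⟩ = 0 := fun x hx =>
    congrArg (fun t : Γ(Mero.kmod X, X.basicOpen h) => t.1 ⟨x, hx⟩) hf
  choose V n hxV hV using fun x => Groth.Agent.Mero.exists_pow_mul_eq_zero hf' x
  obtain ⟨t, ht⟩ := isCompact_univ.elim_finite_subcover (fun x => (V x : Set X))
    (fun x => (V x).2) fun x _ => Set.mem_iUnion.mpr ⟨x, hxV x⟩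
  refine ⟨t.sup n, Subtype.ext (funext fun y => ?_)⟩
  obtain ⟨x, hxt, hyx⟩ : ∃ x ∈ t, y.1 ∈ V x := by
    simpa [Set.mem_iUnion] using ht (Set.mem_univ y.1)
  exact hV x y.1 hyx _ (Finset.le_sup hxt)

end Groth.Agent.S8865
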