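import Groth.Statements.S8871
import Groth.Agent.AssSch.Stalk
import Groth.Agent.WeakAssSch.Basic
import Groth.Agent.Depth.Local
import Groth.Agent.FDesc.QuasiFlat
import Mathlib.RingTheory.KrullDimension.Module
-- import your own Groth.Agent.* helpers here

set_option autoImplicit false
universe u
open CategoryTheory CategoryTheory.Limits AlgebraicGeometry TopologicalSpace
open SDiv

namespace Groth.Agent.S8871

set_option linter.style.haveILetI false

open Groth.Agent.AssSch.Stalk

/-- Primes of a local ring and points specializing to its point, compatibly with associated points. -/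
theorem exists_point (X : Scheme.{u}) [IsLocallyNoetherian X] (F : X.Modules) [F.IsQuasicoherent]
    (x : X) : ∃ π : PrimeSpectrum (X.presheaf.stalk x) → X,
      (∀ Q, π Q ⤳ x) ∧ (∀ y, y ⤳ x → ∃ Q, π Q = y) ∧ Function.Injective π ∧
      π (IsLocalRing.closedPoint _) = x ∧
      ∀ Q, Q.asIdeal ∈ associatedPrimes (X.presheaf.stalk x) (F.presheaf.stalk x) ↔
        Curv2.IsAssPoint F (π Q) := by
  obtain ⟨V, hV, hx, -⟩ := exists_isAffineOpen_mem_and_subset (X := X) (TopologicalSpace.Opens.mem_top x)
  haveI : IsNoetherianRing Γ(X, V) := isNoetherianRing_of_isAffineOpen hV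
  letI : Algebra Γ(X, V) (X.presheaf.stalk x) := (X.presheaf.germ V x hx).hom.toAlgebra
  letI : Module Γ(X, V) (F.presheaf.stalk x) := Module.compHom _ (X.presheaf.germ V x hx).hom
  haveI : IsScalarTower Γ(X, V) (X.presheaf.stalk x) (F.presheaf.stalk x) :=
    IsScalarTower.of_algebraMap_smul fun _ _ ↦ rfl
  haveI : IsLocalization.AtPrime (X.presheaf.stalk x) (primeOf hV x hx) :=
    hV.isLocalization_stalk ⟨x, hx⟩
  haveI := isLocalizedModule_germLinear F hV x hx
  have key := Module.associatedPrimes.preimage_comap_associatedPrimes_eq_associatedPrimes_of_isLocalizedModule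
    (primeOf hV x hx).primeCompl (R' := X.presheaf.stalk x) (germLinear F x hx)
  have hpt : ∀ Q : PrimeSpectrum (X.presheaf.stalk x), ∃ (y : X) (hy : y ∈ V),
      primeOf hV y hy = Q.asIdeal.comap (algebraMap Γ(X, V) (X.presheaf.stalk x)) := fun Q =>
    Groth.Agent.WeakAssSch.exists_point_of_prime hV _
  choose π hπ hπe using hpt
  have hx' : ∀ {y : X} (hy : y ∈ V), y ⤳ x ↔ primeOf hV y hy ≤ primeOf hV x hx := by
    intro y hy
    let pa : Spec Γ(X, V) := hV.primeIdealOf ⟨y, hy⟩
    let pb : Spec Γ(X, V) := hV.primeIdealOf ⟨x, hx⟩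
    have e : pa ⤳ pb ↔ y ⤳ x := by
      rw [← hV.fromSpec.isOpenEmbedding.isInducing.specializes_iff,
        show hV.fromSpec pa = y from hV.fromSpec_primeIdealOf _,
        show hV.fromSpec pb = x from hV.fromSpec_primeIdealOf _]
    exact e.symm.trans (PrimeSpectrum.le_iff_specializes pa pb).symm
  have hsame : ∀ {y y' : X} (hy : y ∈ V) (hy' : y' ∈ V), primeOf hV y hy = primeOf hV y' hy' →
      y = y' := by
    intro y y' hy hy' h
    have h2 : hV.primeIdealOf ⟨y, hy⟩ = hV.primeIdealOf ⟨y', hy'⟩ := PrimeSpectrum.ext h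
    have h3 := congrArg hV.fromSpec h2
    rwa [hV.fromSpec_primeIdealOf, hV.fromSpec_primeIdealOf] at h3
  refine ⟨π, fun Q => (hx' (hπ Q)).mpr ?_, fun y hyx => ?_, fun Q Q' h => ?_, ?_, fun Q => ?_⟩
  · rw [hπe]
    refine le_trans (Ideal.comap_mono (IsLocalRing.le_maximalIdeal Q.isPrime.ne_top)) ?_
    exact (IsLocalization.AtPrime.under_maximalIdeal (X.presheaf.stalk x) (primeOf hV x hx)).le
  · have hy : y ∈ V := hyx.mem_open V.isOpen hx
    have hle := (hx' hy).mp hyx
    have hdisj : Disjoint ((primeOf hV x hx).primeCompl : Set Γ(X, V)) (primeOf hV y hy : Set Γ(X, V)) :=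
      Set.disjoint_left.mpr fun a ha hay => ha (hle hay)
    let Q : PrimeSpectrum (X.presheaf.stalk x) := ⟨(primeOf hV y hy).map (algebraMap Γ(X, V) (X.presheaf.stalk x)),
      IsLocalization.isPrime_of_isPrime_disjoint (primeOf hV x hx).primeCompl _ _ inferInstance hdisj⟩
    refine ⟨Q, hsame (hπ Q) hy ?_⟩
    rw [hπe]
    exact IsLocalization.under_map_of_isPrime_disjoint (primeOf hV x hx).primeCompl _ inferInstance hdisj
  · apply PrimeSpectrum.ext
    rw [← IsLocalization.map_under (primeOf hV x hx).primeCompl (X.presheaf.stalk x) Q.asIdeal,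
      ← IsLocalization.map_under (primeOf hV x hx).primeCompl (X.presheaf.stalk x) Q'.asIdeal]
    change Ideal.map _ (Ideal.comap _ Q.asIdeal) = Ideal.map _ (Ideal.comap _ Q'.asIdeal)
    rw [← hπe, ← hπe]
    simp only [h]
  · refine hsame (hπ _) hx ?_
    rw [hπe]
    exact IsLocalization.AtPrime.under_maximalIdeal (X.presheaf.stalk x) (primeOf hV x hx)
  · refine Iff.trans ?_ (mem_ass_iff F hV (π Q) (hπ Q)).symm
    rw [hπe, ← key, Set.mem_preimage]

/-- Let X be a locally Noetherian scheme and F a coherent O_X-module. Then F has no embedded associated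
points (every associated point of F is maximal among the associated points of F under
specialization) if and only if F has property (S_1): for every point x, depth F_x ≥ min(1, dim Supp
F_x), where dim Supp F_x is the Krull dimension of the support of the O_{X,x}-module F_x (for F_x =
0 the depth is infinite and the support empty, so the condition holds). -/
theorem result (X : Scheme.{u}) [IsLocallyNoetherian X] (F : X.Modules) (hF : Coh.IsCoh F) :
    (∀ x : ↥X, Curv2.IsAssPoint F x → ∀ y : ↥X, Curv2.IsAssPoint F y → y ⤳ x → y = x) ↔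
      ∀ x : ↥X, min (1 : WithBot ℕ∞) (Module.supportDim ↑(X.presheaf.stalk x) ↑(F.presheaf.stalk x)) ≤
        ((LocCoh.depth (X.presheaf.stalk x) (F.presheaf.stalk x) : ℕ∞) : WithBot ℕ∞) := by
  classical
  haveI := hF.1
  constructor
  · intro hne x
    obtain ⟨π, hπx, -, hπi, hπc, hπa⟩ := exists_point X F x
    haveI := Groth.Agent.FDesc.QuasiFlat.finite_stalk_of_isCoh F hF x
    by_cases hd : (1 : ℕ∞) ≤ LocCoh.depth (X.presheaf.stalk x) (F.presheaf.stalk x)
    · exact (min_le_left _ _).trans (by exact_mod_cast hd)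
    have h0 : LocCoh.depth (X.presheaf.stalk x) (F.presheaf.stalk x) = 0 := by
      by_contra h
      exact hd (Order.one_le_iff_pos.mpr (pos_iff_ne_zero.mpr h))
    obtain ⟨P, hP, hmP⟩ := Groth.Agent.Depth.idealDepth_eq_zero_iff.mp h0
    have hPm : P = IsLocalRing.maximalIdeal (X.presheaf.stalk x) :=
      le_antisymm (IsLocalRing.le_maximalIdeal hP.isPrime.ne_top) hmP
    have hxa : Curv2.IsAssPoint F x := by
      rw [← hπc]
      refine (hπa (IsLocalRing.closedPoint _)).mp ?_
      rw [hPm] at hP
      exact hP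
    refine (min_le_right _ _).trans (le_trans ?_ (WithBot.coe_le_coe.mpr zero_le))
    rw [Module.supportDim]
    refine Order.krullDim_nonpos_iff_forall_isMax.mpr fun Q Q' _ => ?_
    have hall : ∀ Q : Module.support (X.presheaf.stalk x) (F.presheaf.stalk x),
        Q.1.asIdeal = IsLocalRing.maximalIdeal (X.presheaf.stalk x) := fun Q => by
      have hann : Module.annihilator (X.presheaf.stalk x) (F.presheaf.stalk x) ≤ Q.1.asIdeal :=
        Module.annihilator_le_of_mem_support Q.2
      obtain ⟨Q₀, hQ₀, hle⟩ := Ideal.exists_minimalPrimes_le hann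
      have hass := Module.associatedPrimes.minimalPrimes_annihilator_subset_associatedPrimes _ _ hQ₀
      have hy := (hπa ⟨Q₀, hQ₀.isPrime⟩).mp hass
      have he := hne x hxa _ hy (hπx _)
      have : (⟨Q₀, hQ₀.isPrime⟩ : PrimeSpectrum (X.presheaf.stalk x)) = IsLocalRing.closedPoint _ :=
        hπi (he.trans hπc.symm)
      refine le_antisymm (IsLocalRing.le_maximalIdeal Q.1.isPrime.ne_top) ?_
      exact (congrArg PrimeSpectrum.asIdeal this).ge.trans hle
    exact (Subtype.ext (PrimeSpectrum.ext ((hall Q').trans (hall Q).symm))).le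
  · intro hS x hx y hy hyx
    obtain ⟨π, -, hπs, -, hπc, hπa⟩ := exists_point X F x
    haveI := Groth.Agent.FDesc.QuasiFlat.finite_stalk_of_isCoh F hF x
    obtain ⟨Q, hQ⟩ := hπs y hyx
    rw [← hQ] at hy
    have hQa := (hπa Q).mpr hy
    have hma := (hπa (IsLocalRing.closedPoint _)).mpr (hπc.symm ▸ hx)
    have hd : LocCoh.depth (X.presheaf.stalk x) (F.presheaf.stalk x) = 0 :=
      Groth.Agent.Depth.idealDepth_eq_zero_iff.mpr ⟨_, hma, le_rfl⟩
    by_contra hne
    have h := hS x
    rw [hd] at h
    have hQs : ∀ P : PrimeSpectrum (X.presheaf.stalk x),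
        P.asIdeal ∈ associatedPrimes (X.presheaf.stalk x) (F.presheaf.stalk x) →
        P ∈ Module.support (X.presheaf.stalk x) (F.presheaf.stalk x) := fun P hP =>
      Module.mem_support_iff_of_finite.mpr (Groth.Agent.Depth.annihilator_le_associatedPrime hP)
    have hlt : (⟨Q, hQs Q hQa⟩ : Module.support (X.presheaf.stalk x) (F.presheaf.stalk x)) <
        ⟨IsLocalRing.closedPoint _, hQs _ hma⟩ := by
      refine lt_of_le_of_ne (IsLocalRing.le_maximalIdeal Q.isPrime.ne_top) fun e => hne ?_
      have e' : Q = IsLocalRing.closedPoint _ := congrArg Subtype.val e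
      rw [← hQ, e', hπc]
    have hpos : (0 : WithBot ℕ∞) < Module.supportDim (X.presheaf.stalk x) (F.presheaf.stalk x) :=
      Order.krullDim_pos_iff.mpr ⟨_, _, hlt⟩
    have h1 : (0 : WithBot ℕ∞) < min (1 : WithBot ℕ∞)
        (Module.supportDim (X.presheaf.stalk x) (F.presheaf.stalk x)) := lt_min (by norm_num) hpos
    exact absurd (lt_of_lt_of_le h1 h) (lt_irrefl _)

end Groth.Agent.S8871
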