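import Groth.Statements.S8882
import Groth.Agent.NormFLF.OfAffine
import Mathlib.AlgebraicGeometry.IdealSheaf.Subscheme
import Mathlib.AlgebraicGeometry.Noetherian
import Mathlib.Algebra.CharP.Lemmas

set_option autoImplicit false
set_option linter.style.haveILetI false
universe u
open CategoryTheory CategoryTheory.Limits AlgebraicGeometry TopologicalSpace
open SDiv

namespace Groth.Agent.S8882

theorem pow_eq_of_nilpotent {R : Type u} [CommRing R] {p : ℕ} (hp : p.Prime) (hpR : (p : R) = 0)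
    (e : ℕ) {a b : R} (h : (a - b) ^ p ^ e = 0) : a ^ p ^ e = b ^ p ^ e := by
  cases subsingleton_or_nontrivial R
  · exact Subsingleton.elim _ _
  haveI : CharP R p := (CharP.charP_iff_prime_eq_zero hp).2 hpR
  haveI : Fact p.Prime := ⟨hp⟩
  haveI : ExpChar R p := .prime hp
  rw [sub_pow_char_pow] at h
  exact sub_eq_zero.1 h

theorem exists_nilpotency_bound (X : Scheme.{u}) [IsNoetherian X] :
    ∃ n : ℕ, ∀ (U : X.Opens) (g : Γ(X, U)), IsNilpotent g → g ^ n = 0 := by
  classical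
  have h0 : ∀ x : X, ∃ W : X.affineOpens, x ∈ W.1 := fun x => by
    obtain ⟨W, hW, hx, -⟩ := exists_isAffineOpen_mem_and_subset (U := (⊤ : X.Opens)) (x := x) trivial
    exact ⟨⟨W, hW⟩, hx⟩
  choose W hW using h0
  obtain ⟨S, hS⟩ := isCompact_univ.elim_finite_subcover (fun x : X => ((W x).1 : Set X))
    (fun x => (W x).1.isOpen) (fun x _ => Set.mem_iUnion.2 ⟨x, hW x⟩)
  have hn : ∀ i : X, ∃ n : ℕ, nilradical Γ(X, (W i).1) ^ n = ⊥ := fun i => by
    haveI : IsNoetherianRing Γ(X, (W i).1) := IsLocallyNoetherian.component_noetherian (W i)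
    exact IsNoetherianRing.isNilpotent_nilradical _
  choose k hk using hn
  refine ⟨S.sup k, fun U g hg => TopCat.Presheaf.section_ext X.sheaf U _ _ fun x hx => ?_⟩
  obtain ⟨i, hiS, hxi⟩ : ∃ i ∈ S, x ∈ (W i).1 := by simpa using hS (Set.mem_univ x)
  change X.presheaf.germ U x hx (g ^ S.sup k) = X.presheaf.germ U x hx 0
  rw [map_pow, map_zero]
  refine pow_eq_zero_of_le (Finset.le_sup hiS) ?_
  haveI := (W i).2.isLocalization_stalk ⟨x, hxi⟩
  letI := TopCat.Presheaf.algebra_section_stalk X.presheaf (U := (W i).1) ⟨x, hxi⟩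
  obtain ⟨m, hm⟩ := hg
  obtain ⟨⟨b, c⟩, hb⟩ := IsLocalization.surj ((W i).2.primeIdealOf ⟨x, hxi⟩).asIdeal.primeCompl
    (X.presheaf.germ U x hx g)
  dsimp only at hb
  have hbm : algebraMap Γ(X, (W i).1) (X.presheaf.stalk x) (b ^ m) = 0 := by
    rw [map_pow, ← hb, mul_pow, ← map_pow, hm, map_zero, zero_mul]
  obtain ⟨t, ht⟩ := (IsLocalization.map_eq_zero_iff
    ((W i).2.primeIdealOf ⟨x, hxi⟩).asIdeal.primeCompl _ _).1 hbm
  have htb : (t.1 * b) ^ k i = 0 := by
    have hmem : t.1 * b ∈ nilradical Γ(X, (W i).1) := mem_nilradical.2 ⟨m + 1, by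
      rw [mul_pow, pow_succ t.1, pow_succ b]
      linear_combination (t.1 ^ m * b) * ht⟩
    have := Ideal.pow_mem_pow hmem (k i)
    rwa [hk, Ideal.mem_bot] at this
  have h2 := congrArg (algebraMap Γ(X, (W i).1) (X.presheaf.stalk x)) htb
  rw [map_pow, map_mul, ← hb, map_zero, mul_pow, mul_pow] at h2
  have hu := IsLocalization.map_units (X.presheaf.stalk x) t
  have hu' := IsLocalization.map_units (X.presheaf.stalk x) c
  exact (hu'.pow (k i)).mul_left_eq_zero.1 ((hu.pow (k i)).mul_right_eq_zero.1 h2)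

/-- Let X be a Noetherian scheme on which a prime number p is zero (p·O_X = 0). Then the closed
immersion X_red ⟶ X cut out by the nilradical carries a norm whose degree is p^e for some e > 0. -/
theorem result (X : Scheme.{u}) [IsNoetherian X] (p : ℕ) (hp : p.Prime)
    (hpX : (p : Γ(X, ⊤)) = 0) : ∃ e : ℕ, 0 < e ∧ Nrm.HasNorm X.nilradical.subschemeι (p ^ e) := by
  obtain ⟨n, hn⟩ := exists_nilpotency_bound X
  refine ⟨n + 1, n.succ_pos, ?_⟩
  have hnq : n ≤ p ^ (n + 1) := (n.le_succ).trans (Nat.lt_pow_self hp.one_lt).le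
  let q := p ^ (n + 1)
  let ι := X.nilradical.subschemeι
  have hp0 : ∀ W : X.Opens, (p : Γ(X, W)) = 0 := fun W => by
    rw [← map_natCast (X.presheaf.map (homOfLE (le_top : W ≤ ⊤)).op).hom p, hpX, map_zero]
  have hker : ∀ (W : X.Opens), IsAffineOpen W → ∀ g g' : Γ(X, W), ι.app W g = ι.app W g' → g ^ q = g' ^ q := by
    intro W hW g g' h
    refine pow_eq_of_nilpotent hp (hp0 W) _ (pow_eq_zero_of_le hnq (hn W _ ?_))
    have h1 : g - g' ∈ RingHom.ker (ι.app W).hom := by
      rw [RingHom.mem_ker, map_sub]; exact sub_eq_zero.2 h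
    rw [Scheme.IdealSheafData.ker_subschemeι_app _ ⟨W, hW⟩] at h1
    rw [← mem_nilradical]
    exact h1
  have hl : ∀ (W : X.Opens), IsAffineOpen W → Function.Surjective (ι.app W) :=
    fun W hW => Scheme.IdealSheafData.subschemeι_app_surjective _ ⟨W, hW⟩
  let N : ∀ W : X.Opens, IsAffineOpen W → (Γ(X.nilradical.subscheme, ι ⁻¹ᵁ W) →* Γ(X, W)) := fun W hW =>
    { toFun := fun s => (hl W hW s).choose ^ q
      map_one' := (hker W hW _ 1 ((hl W hW 1).choose_spec.trans (map_one _).symm)).trans (one_pow q)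
      map_mul' := fun s t => (hker W hW _ ((hl W hW s).choose * (hl W hW t).choose) (by
        rw [(hl W hW (s * t)).choose_spec, map_mul, (hl W hW s).choose_spec, (hl W hW t).choose_spec])).trans
        (mul_pow _ _ q) }
  have hN : ∀ (W : X.Opens) (hW : IsAffineOpen W) (g : Γ(X, W)), N W hW (ι.app W g) = g ^ q :=
    fun W hW g => hker W hW _ g (hl W hW _).choose_spec
  refine NormFLF.OfAffine.hasNorm_of_affine ι N (fun W W' hW hW' i s => ?_) ?_ hN ?_
  · obtain ⟨g, rfl⟩ := hl W hW s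
    rw [hN W hW, map_pow, ← hN W' hW']
    congr 1
    rw [← CommRingCat.comp_apply, ← CommRingCat.comp_apply, Scheme.Hom.naturality]
    rfl
  · exact Nat.one_le_pow _ _ hp.pos
  · intro W hW s x hx hs
    obtain ⟨g, rfl⟩ := hl W hW s
    rw [hN W hW, map_pow]
    refine Ideal.pow_mem_of_mem _ ?_ q (pow_pos hp.pos _)
    rw [IsLocalRing.mem_maximalIdeal, mem_nonunits_iff] at hs ⊢
    intro hu
    refine hs ?_
    erw [← Scheme.Hom.germ_stalkMap_apply ι W x hx g]
    exact hu.map _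

end Groth.Agent.S8882
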