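import Groth.Statements.S8887
import Groth.Agent.Props.QRank
import Groth.Agent.QCoh.FiniteType
import Mathlib.AlgebraicGeometry.FunctionField

set_option autoImplicit false
universe u
open CategoryTheory CategoryTheory.Limits AlgebraicGeometry TopologicalSpace
open SDiv

namespace Groth.Agent.S8887

/-- Let X be an integral scheme and F a quasi-coherent O_X-module of finite type, of rank r (r being the
finite dimension of the generic stalk of F as a vector space over the function field of X). Then one
can find an open subset U of X, not empty, on which the restriction of F is isomorphic to the free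
module of rank r. -/
theorem result (X : Scheme.{u}) [IsIntegral X] (F : X.Modules) (hF : Coh.IsQCoh F)
    (hft : CohB1.IsFT F) :
    ∃ U : X.Opens, (U : Set ↥X).Nonempty ∧
      Nonempty (F.restrict U.ι ≅ FlatMod.freeMod (↑U)
        (Module.finrank ↑(X.presheaf.stalk (genericPoint ↥X)) ↑(F.presheaf.stalk (genericPoint ↥X)))) := by
  let η := genericPoint ↥X
  have : F.IsQuasicoherent := hF
  have : SheafOfModules.IsFiniteType.{u} F := hft
  obtain ⟨_, ⟨U, hU, rfl⟩, hηU, -⟩ := X.isBasis_affineOpens.exists_subset_of_mem_open
    (Set.mem_univ η) isOpen_univ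
  have := Groth.Agent.QCoh.finite_sections_of_isFiniteType F hU
  obtain ⟨g, hηg, -, m, hm⟩ :=
    Groth.Agent.Props.QRank.exists_generators F hU hηU (O := ⊤) trivial
  let W := X.basicOpen g
  have hW : IsAffineOpen W := hU.basicOpen g
  let : Field (X.presheaf.stalk η) := inferInstanceAs (Field X.functionField)
  have hr : Groth.Agent.Props.QRank.fibreRank F η =
      Module.finrank (X.presheaf.stalk η) (F.presheaf.stalk η) :=
    Groth.Agent.Props.QRank.fibreRank_eq_of_free F η
  have := Groth.Agent.Props.QProj.finite_stalk F hU hηU
  have hspan := Groth.Agent.Props.QRank.span_germ_eq_top F hW hm hηg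
  have hli : LinearIndependent (X.presheaf.stalk η)
      (fun i => Groth.Agent.PullStalk.Sky.germM F W η hηg (m i)) :=
    linearIndependent_of_top_le_span_of_card_eq_finrank hspan.ge
      ((Fintype.card_fin _).trans hr)
  have hind : LinearIndependent Γ(X, W) m := by
    refine Fintype.linearIndependent_iff.mpr fun v hv i => ?_
    have := Fintype.linearIndependent_iff.mp hli _
      (Groth.Agent.Props.QRank.germ_relation F m v hv hηg) i
    exact germ_injective_of_isIntegral X η hηg (this.trans (map_zero _).symm)
  let b : Module.Basis _ Γ(X, W) Γ(F, W) := Module.Basis.mk hind hm.ge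
  obtain ⟨k, ⟨e⟩⟩ := Groth.Agent.Props.QProj.nonempty_restrict_iso_free F hW b
  obtain ⟨b'⟩ := Groth.Agent.Props.QProj.free_sections_of_restrict_iso F e hW le_rfl
  have : Nonempty W := ⟨⟨η, hηg⟩⟩
  have : Nontrivial Γ(X, W) := inferInstance
  have hk : k = Module.finrank (X.presheaf.stalk η) (F.presheaf.stalk η) := by
    rw [← hr]
    simpa using Fintype.card_congr (b'.indexEquiv b)
  subst hk
  exact ⟨W, ⟨η, hηg⟩, ⟨e⟩⟩

end Groth.Agent.S8887
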