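import Groth.Statements.S8888
import Groth.Agent.PullStalk.Basic
import Mathlib.AlgebraicGeometry.Birational.Dominant
import Mathlib.AlgebraicGeometry.FunctionField
-- import your own Groth.Agent.* helpers here

set_option autoImplicit false
universe u
open CategoryTheory CategoryTheory.Limits AlgebraicGeometry TopologicalSpace
open SDiv

namespace Groth.Agent.S8888

/-- Let f : X ⟶ Y be a dominant morphism of integral schemes and G a quasi-coherent O_Y-module. Then the
rank of f^*G on X, the dimension of its stalk at the generic point of X over the function field of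
X, equals the rank of G on Y. -/
theorem result {X Y : Scheme.{u}} [IsIntegral X] [IsIntegral Y] (f : X ⟶ Y) [IsDominant f]
    (G : Y.Modules) (hG : Coh.IsQCoh G) :
    Module.rank ↑(X.presheaf.stalk (genericPoint ↥X)) ↑(((Scheme.Modules.pullback f).obj G).presheaf.stalk (genericPoint ↥X)) =
      Module.rank ↑(Y.presheaf.stalk (genericPoint ↥Y)) ↑(G.presheaf.stalk (genericPoint ↥Y)) := by
  classical
  have hη : f (genericPoint X) = genericPoint Y :=
    ((genericPoint_spec X).image f.continuous).eq (by
      rw [Set.image_univ, f.denseRange.closure_range]
      exact genericPoint_spec Y)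
  suffices H : ∀ y, f (genericPoint X) = y → y = genericPoint Y →
      Module.rank ↑(X.presheaf.stalk (genericPoint ↥X)) ↑(((Scheme.Modules.pullback f).obj G).presheaf.stalk (genericPoint ↥X)) =
        Module.rank ↑(Y.presheaf.stalk y) ↑(G.presheaf.stalk y) from
    (H _ hη rfl)
  rintro y rfl hy
  letI : Field (X.presheaf.stalk (genericPoint X)) := inferInstanceAs (Field X.functionField)
  haveI : Module.Free (Y.presheaf.stalk (f (genericPoint X))) (G.presheaf.stalk (f (genericPoint X))) := by
    have hF : IsField (Y.presheaf.stalk (f (genericPoint X))) := by
      rw [hy]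
      exact Field.toIsField Y.functionField
    letI := hF.toField
    infer_instance
  letI := (f.stalkMap (genericPoint X)).hom.toAlgebra
  letI := Groth.Agent.PullStalk.Basic.moduleOver f G (genericPoint X)
  haveI : IsScalarTower (Y.presheaf.stalk (f (genericPoint X))) (X.presheaf.stalk (genericPoint X))
      (((Scheme.Modules.pullback f).obj G).presheaf.stalk (genericPoint X)) :=
    IsScalarTower.of_algebraMap_smul fun _ _ => rfl
  have h := (Groth.Agent.PullStalk.Basic.isBaseChange_unitStalk f G (genericPoint X)).equiv
  rw [← h.rank_eq, Module.rank_baseChange, Cardinal.lift_id]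

end Groth.Agent.S8888
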