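import Groth.Statements.S8891
import Groth.Agent.WeakAssSch.DepthTwo

set_option autoImplicit false
universe u
open CategoryTheory CategoryTheory.Limits AlgebraicGeometry TopologicalSpace
open SDiv

namespace Groth.Agent.S8891

/-- Let X be an integral locally Noetherian scheme and φ : F ⟶ G a morphism of quasi-coherent
O_X-modules with F coherent and G torsion free. Assume that for every point x either the stalk map
F_x → G_x is an isomorphism, or depth(F_x) ≥ 2 and x is not the generic point of X. Then φ is an
isomorphism. (The published statement allows the second alternative at the generic point as well;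
since the zero module has infinite depth, F = 0 and G = O_X then satisfy every hypothesis while 0 →
O_X is not an isomorphism. The general criterion this is a special case of requires x not to be
associated to G, which for torsion-free G ≠ 0 fails exactly at the generic point; so the generic
point is excluded from the second alternative here.) -/
theorem result (X : Scheme.{u}) [IsIntegral X] [IsLocallyNoetherian X] {F G : X.Modules}
    (φ : F ⟶ G) (hF : Coh.IsCoh F) (hG : Coh.IsQCoh G)
    (htf : ∀ x : ↥X, NoZeroSMulDivisors ↑(X.presheaf.stalk x) ↑(G.presheaf.stalk x))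
    (h : ∀ x : ↥X, Function.Bijective ((TopCat.Presheaf.stalkFunctor AddCommGrpCat.{u} x).map (Scheme.Modules.Hom.mapPresheaf φ)) ∨
      ((2 : ℕ∞) ≤ LocCoh.depth (X.presheaf.stalk x) (F.presheaf.stalk x) ∧ x ≠ genericPoint ↥X)) :
    IsIso φ := by
  refine Groth.Agent.WeakAssSch.DepthTwo.isIso_of_depth φ hF hG fun x => ?_
  rcases h x with hb | ⟨hd, hne⟩
  · exact Or.inl hb
  refine Or.inr ⟨hd, fun hass => hne ?_⟩
  have hz : IsLocalRing.maximalIdeal (X.presheaf.stalk x) = ⊥ := by
    obtain ⟨-, m, hm⟩ := isAssociatedPrime_iff.mp hass
    refine (eq_bot_iff).mpr fun c hc => ?_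
    rw [hm, Submodule.mem_colon_singleton, Submodule.mem_bot] at hc
    have := htf x
    refine (eq_zero_or_eq_zero_of_smul_eq_zero hc).resolve_right fun hm0 => ?_
    subst hm0
    exact (IsLocalRing.maximalIdeal.isMaximal (X.presheaf.stalk x)).ne_top
      (hm.trans ((Ideal.eq_top_iff_one _).mpr (by simp [Submodule.mem_colon_singleton])))
  refine ((genericPoint_specializes x).antisymm ?_).eq.symm
  have hmem : genericPoint ↥X ∈ Set.range (X.fromSpecStalk x) := by
    rw [Scheme.range_fromSpecStalk]
    exact genericPoint_specializes x
  obtain ⟨q, hq⟩ := hmem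
  have hqc : q = IsLocalRing.closedPoint (X.presheaf.stalk x) := PrimeSpectrum.ext
    (((IsLocalRing.maximalIdeal.isMaximal (X.presheaf.stalk x)).eq_of_le q.isPrime.ne_top
      (by rw [hz]; exact bot_le)).symm)
  rw [← hq, hqc, Scheme.fromSpecStalk_closedPoint]

end Groth.Agent.S8891
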