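import Groth.Statements.S8899
import Groth.Agent.PullStalk.Basic
import Mathlib.RingTheory.Flat.FaithfullyFlat.Basic
import Mathlib.AlgebraicGeometry.Stalk

set_option autoImplicit false
universe u
open CategoryTheory CategoryTheory.Limits AlgebraicGeometry TopologicalSpace
open SDiv

namespace Groth.Agent.S8899

open TensorProduct in
theorem ker_of_isBaseChange {A B M N : Type u} [CommRing A] [CommRing B] [Algebra A B] [Module.Flat A B]
    [AddCommGroup M] [Module A M] [AddCommGroup N] [Module A N] [Module B N] [IsScalarTower A B N]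
    {u : M →ₗ[A] N} (hu : IsBaseChange B u) (m : M) :
    LinearMap.ker (LinearMap.toSpanSingleton B N (u m)) =
      Ideal.map (algebraMap A B) (LinearMap.ker (LinearMap.toSpanSingleton A M m)) := by
  refine le_antisymm (fun b hb => ?_) (Ideal.map_le_iff_le_comap.2 fun a ha => ?_)
  · have hb' : b • u m = 0 := hb
    have h0 : (LinearMap.toSpanSingleton A M m).lTensor B (b ⊗ₜ[A] (1 : A)) = 0 := by
      refine hu.equiv.injective ?_
      simp [IsBaseChange.equiv_tmul, hb']
    obtain ⟨w, hw⟩ := (Module.Flat.lTensor_exact B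
      (LinearMap.exact_subtype_ker_map (LinearMap.toSpanSingleton A M m)) _).1 h0
    have key : ∀ w : B ⊗[A] LinearMap.ker (LinearMap.toSpanSingleton A M m),
        TensorProduct.rid A B ((LinearMap.ker (LinearMap.toSpanSingleton A M m)).subtype.lTensor B w) ∈
          Ideal.map (algebraMap A B) (LinearMap.ker (LinearMap.toSpanSingleton A M m)) := fun w => by
      induction w using TensorProduct.induction_on with
      | zero => simp
      | tmul c i =>
        rw [LinearMap.lTensor_tmul, TensorProduct.rid_tmul, Algebra.smul_def]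
        exact Ideal.mul_mem_right _ _ (Ideal.mem_map_of_mem _ i.2)
      | add v w hv hw => rw [map_add, map_add]; exact add_mem hv hw
    simpa [hw] using key w
  · rw [Ideal.mem_comap, LinearMap.mem_ker, LinearMap.toSpanSingleton_apply, algebraMap_smul, ← map_smul]
    rw [show a • m = 0 from ha, map_zero]

/-- Let f : X ⟶ S be a morphism of schemes, G a quasi-coherent O_S-module and x a point of X over s = f
x such that f is flat at x, no point of f⁻¹(s) other than x specialises to x (x is the generic point
of some irreducible component of the fibre X_s), and s is weakly associated to G. Then x is weakly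
associated to f^*G. -/
theorem result {X S : Scheme.{u}} (f : X ⟶ S) (G : S.Modules) (hG : Coh.IsQCoh G)
    (x : ↥X) (hfl : (f.stalkMap x).hom.Flat) (hgen : ∀ y : ↥X, f y = f x → y ⤳ x → y = x)
    (hs : Curv2.IsWeakAssPoint G (f x)) : Curv2.IsWeakAssPoint ((Scheme.Modules.pullback f).obj G) x := by
  obtain ⟨m, hm⟩ := hs
  letI := (f.stalkMap x).hom.toAlgebra
  letI := Groth.Agent.PullStalk.Basic.moduleOver f G x
  haveI : IsScalarTower (S.presheaf.stalk (f x)) (X.presheaf.stalk x)
      (((Scheme.Modules.pullback f).obj G).presheaf.stalk x) :=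
    IsScalarTower.of_algebraMap_smul fun _ _ => rfl
  haveI : Module.Flat (S.presheaf.stalk (f x)) (X.presheaf.stalk x) := hfl
  have hu := Groth.Agent.PullStalk.Basic.isBaseChange_unitStalk f G x
  refine ⟨Groth.Agent.PullStalk.Basic.unitStalk f G x m, ?_⟩
  rw [ker_of_isBaseChange hu m]
  set I := LinearMap.ker (LinearMap.toSpanSingleton (S.presheaf.stalk (f x)) _ m)
  have hIm : I ≤ IsLocalRing.maximalIdeal _ := hm ▸ Ideal.le_radical
  refine le_antisymm ?_ ?_
  · rw [(IsLocalRing.maximalIdeal.isMaximal (X.presheaf.stalk x)).isPrime.radical_le_iff]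
    exact Ideal.map_le_iff_le_comap.2 fun a ha => (map_mem_nonunits_iff (f.stalkMap x).hom a).2 (hIm ha)
  · rw [Ideal.radical_eq_sInf]
    refine le_sInf fun q ⟨hq, hqp⟩ => ?_
    let pt : Spec (X.presheaf.stalk x) := ⟨q, hqp⟩
    have hcomap : q.comap (algebraMap (S.presheaf.stalk (f x)) (X.presheaf.stalk x)) =
        IsLocalRing.maximalIdeal (S.presheaf.stalk (f x)) := by
      refine le_antisymm (IsLocalRing.le_maximalIdeal (Ideal.IsPrime.ne_top inferInstance)) ?_
      rw [← hm]
      exact (Ideal.IsPrime.radical_le_iff inferInstance).2 (Ideal.map_le_iff_le_comap.1 hq)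
    have hy : f (X.fromSpecStalk x pt) = f x := by
      erw [← Scheme.Hom.comp_apply, ← Scheme.SpecMap_stalkMap_fromSpecStalk, Scheme.Hom.comp_apply,
        show Spec.map (f.stalkMap x) pt = IsLocalRing.closedPoint (S.presheaf.stalk (f x)) from
          PrimeSpectrum.ext hcomap, Scheme.fromSpecStalk_closedPoint]
    have hsp : X.fromSpecStalk x pt ⤳ x := by
      rw [← Set.mem_setOf_eq (p := fun y => y ⤳ x), ← Scheme.range_fromSpecStalk]
      exact ⟨pt, rfl⟩
    have hpt : pt = IsLocalRing.closedPoint (X.presheaf.stalk x) := by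
      refine (X.fromSpecStalk x).isEmbedding.injective ?_
      rw [hgen _ hy hsp, Scheme.fromSpecStalk_closedPoint]
    exact (congrArg PrimeSpectrum.asIdeal hpt).ge

end Groth.Agent.S8899
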