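import Groth.Statements.S8900
import Groth.Agent.S9592
import Groth.Agent.WeakAssSch.Basic
import Groth.Agent.LimTop.PullSec
import Groth.Agent.QCoh.Pullback
import Mathlib.AlgebraicGeometry.Morphisms.Affine

set_option autoImplicit false
universe u
open CategoryTheory CategoryTheory.Limits AlgebraicGeometry TopologicalSpace
open SDiv

namespace Groth.Agent.S8900

/-- Let K/k be an extension of fields, X a scheme over k, F a quasi-coherent O_X-module, and y a point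
of X_K = X ×_k Spec K with image x in X. If y is weakly associated to the pullback of F to X_K, then
x is weakly associated to F. -/
theorem result (k : Type u) [Field k] (K : Type u) [Field K] [Algebra k K] (X : Scheme.{u})
    [X.Over (Spec (CommRingCat.of k))] (F : X.Modules) (hF : Coh.IsQCoh F) (y : ↥(Curv2.bc k X K))
    (hy : Curv2.IsWeakAssPoint ((Scheme.Modules.pullback (Curv2.bcFst k X K)).obj F) y) :
    Curv2.IsWeakAssPoint F (Curv2.bcFst k X K y) := by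
  haveI : F.IsQuasicoherent := hF
  let p : Curv2.bc k X K ⟶ X := Curv2.bcFst k X K
  let g : Spec (CommRingCat.of K) ⟶ Spec (CommRingCat.of k) := Spec.map (CommRingCat.ofHom (algebraMap k K))
  let φ : X ⟶ Spec (CommRingCat.of k) := X ↘ Spec (CommRingCat.of k)
  have hc : IsPullback p (Curv2.bcSnd k X K) φ g := IsPullback.of_hasPullback φ g
  obtain ⟨U, hU, hyU, -⟩ := exists_isAffineOpen_mem_and_subset (show p y ∈ (⊤ : X.Opens) from trivial)
  haveI : IsAffineHom p := MorphismProperty.of_isPullback (P := @IsAffineHom) hc.flip (inferInstanceAs (IsAffineHom g))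
  have hW : IsAffineOpen (p ⁻¹ᵁ U) := hU.preimage p
  have hW' : p ⁻¹ᵁ U = p ⁻¹ᵁ U ⊓ (Curv2.bcSnd k X K) ⁻¹ᵁ ⊤ := by simp
  have hpush : IsPushout (φ.appLE ⊤ U le_top) (g.appLE ⊤ ⊤ le_top) (p.appLE U (p ⁻¹ᵁ U) le_rfl)
      ((Curv2.bcSnd k X K).appLE ⊤ (p ⁻¹ᵁ U) le_top) :=
    (isIso_pushoutSection_iff hc le_top le_top hW').mp
      (isIso_pushoutSection_of_isAffineOpen hc le_top le_top hW' (isAffineOpen_top _) (isAffineOpen_top _) hU)
  let γk := (Scheme.ΓSpecIso (CommRingCat.of k)).commRingCatIsoToRingEquiv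
  let γK := (Scheme.ΓSpecIso (CommRingCat.of K)).commRingCatIsoToRingEquiv
  letI : Field Γ(Spec (CommRingCat.of k), ⊤) :=
    (γk.toMulEquiv.isField (Field.toIsField k)).toField
  letI : Field Γ(Spec (CommRingCat.of K), ⊤) :=
    (γK.toMulEquiv.isField (Field.toIsField K)).toField
  letI := (φ.appLE ⊤ U le_top).hom.toAlgebra
  letI := (g.appLE ⊤ ⊤ le_top).hom.toAlgebra
  letI := (p.appLE U (p ⁻¹ᵁ U) le_rfl).hom.toAlgebra
  letI := ((Curv2.bcSnd k X K).appLE ⊤ (p ⁻¹ᵁ U) le_top).hom.toAlgebra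
  letI : Algebra Γ(Spec (CommRingCat.of k), ⊤) Γ(Curv2.bc k X K, p ⁻¹ᵁ U) :=
    (((Curv2.bcSnd k X K).appLE ⊤ (p ⁻¹ᵁ U) le_top).hom.comp (g.appLE ⊤ ⊤ le_top).hom).toAlgebra
  haveI : IsScalarTower Γ(Spec (CommRingCat.of k), ⊤) Γ(Spec (CommRingCat.of K), ⊤) Γ(Curv2.bc k X K, p ⁻¹ᵁ U) :=
    .of_algebraMap_eq' rfl
  haveI : IsScalarTower Γ(Spec (CommRingCat.of k), ⊤) Γ(X, U) Γ(Curv2.bc k X K, p ⁻¹ᵁ U) :=
    .of_algebraMap_eq' congr($(hpush.w).hom).symm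
  haveI : Algebra.IsPushout Γ(Spec (CommRingCat.of k), ⊤) Γ(Spec (CommRingCat.of K), ⊤) Γ(X, U)
      Γ(Curv2.bc k X K, p ⁻¹ᵁ U) :=
    CommRingCat.isPushout_iff_isPushout.mp hpush.flip
  letI := Groth.Agent.LimTop.secModule p F (le_refl (p ⁻¹ᵁ U))
  haveI : IsScalarTower Γ(X, U) Γ(Curv2.bc k X K, p ⁻¹ᵁ U)
      Γ((Scheme.Modules.pullback p).obj F, p ⁻¹ᵁ U) :=
    IsScalarTower.of_algebraMap_smul fun _ _ => rfl
  have hmem := (Groth.Agent.WeakAssSch.isWeakAssPoint_iff_mem ((Scheme.Modules.pullback p).obj F) hW y hyU).1 hy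
  have h2 := Groth.Agent.S9592.result (k := Γ(Spec (CommRingCat.of k), ⊤)) (K := Γ(Spec (CommRingCat.of K), ⊤))
    (R := Γ(X, U)) Γ(Curv2.bc k X K, p ⁻¹ᵁ U) Γ(F, U) Γ((Scheme.Modules.pullback p).obj F, p ⁻¹ᵁ U)
    (Groth.Agent.LimTop.unitSecLin p F le_rfl)
    (Groth.Agent.LimTop.isBaseChange_unitSec p F le_rfl hU hW) _ hmem
  refine (Groth.Agent.WeakAssSch.isWeakAssPoint_iff_mem F hU _ hyU).2 ?_
  have hc' : ((hW.primeIdealOf ⟨y, hyU⟩).asIdeal.comap (algebraMap Γ(X, U) Γ(Curv2.bc k X K, p ⁻¹ᵁ U))) =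
      (hU.primeIdealOf ⟨p y, hyU⟩).asIdeal :=
    congr($(IsAffineOpen.comap_primeIdealOf_appLE (f := p) U hU (p ⁻¹ᵁ U) hW le_rfl hyU).1)
  rwa [hc'] at h2

end Groth.Agent.S8900
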