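import Groth.Statements.S8902
import Groth.Agent.IdealSh.Regular

set_option autoImplicit false
universe u
open CategoryTheory CategoryTheory.Limits AlgebraicGeometry TopologicalSpace
open SDiv

namespace Groth.Agent.S8902

/-- Let f : X ⟶ Y be a flat morphism of schemes. Then pullbacks of meromorphic functions are defined for
f: for every open U ⊆ Y and every regular section s of O_Y over U, the pulled-back section of O_X
over f⁻¹U is regular. -/
theorem result {X Y : Scheme.{u}} (f : X ⟶ Y) [Flat f] (U : Y.Opens) (s : Γ(Y, U))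
    (hs : s ∈ Mero.regSub Y U) : f.app U s ∈ Mero.regSub X (f ⁻¹ᵁ U) := by
  intro x
  rw [← Scheme.Hom.germ_stalkMap_apply f U x.1 x.2]
  exact IdealSh.EffCartier.map_mem_nonZeroDivisors_of_flat _ (Flat.stalkMap f x.1) (hs ⟨f x.1, x.2⟩)

end Groth.Agent.S8902
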