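import Groth.Statements.S8903
import Groth.Agent.MeroDivMod.OfSection
import Groth.Agent.ZeroSchemeLib.Basic

set_option autoImplicit false
set_option linter.style.haveILetI false
universe u
open CategoryTheory CategoryTheory.Limits AlgebraicGeometry TopologicalSpace
open SDiv

namespace Groth.Agent.S8903

open Groth.Agent.QCoh Groth.Agent.PullStalk.Sky

variable {X : Scheme.{u}} {L : X.Modules}

/-- A denominator of a local fraction is in the ideal of denominators. -/
theorem denominator_mem (s : Γ(Mero.merMod L, ⊤)) {W V : X.Opens} (h : V ≤ W) (m : Γ(L, W))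
    (b : Mero.regSub X W)
    (w : ∀ y : W, s.1 ⟨y.1, trivial⟩ = LocalizedModule.mk (germM L W y.1 y.2 m) (Mero.regGerm y b)) :
    rres h b.1 ∈ Mero.denomIdeal L s V := by
  refine ⟨res L h m, fun y => ?_⟩
  rw [w ⟨y.1, h y.2⟩]
  rw [LocalizedModule.mkLinearMap_apply]
  rw [show X.presheaf.germ V y.1 y.2 (rres h b.1) = X.presheaf.germ W y.1 (h y.2) b.1 from
      X.presheaf.germ_res_apply _ _ _ _,
    show L.presheaf.germ V y.1 y.2 (res L h m) = germM L W y.1 (h y.2) m from
      L.presheaf.germ_res_apply _ _ _ _,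
    LocalizedModule.smul'_mk]
  exact LocalizedModule.mk_cancel (Mero.regGerm (⟨y.1, h y.2⟩ : W) b) _

/-- A relation on `D(g)` holds over `U` after multiplying by a power of `g`. -/
theorem exists_pow (hL : PicF.IsInvertible L) (s : Γ(Mero.merMod L, ⊤)) (U : X.affineOpens)
    (g h₀ : Γ(X, U.1)) (m₀ : Γ(L, U.1))
    (h : ∀ (y : X) (hy : y ∈ X.basicOpen g),
      X.presheaf.germ U.1 y (X.basicOpen_le g hy) h₀ • s.1 ⟨y, trivial⟩ =
        LocalizedModule.mk (germM L U.1 y (X.basicOpen_le g hy) m₀) 1) :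
    ∃ N : ℕ, g ^ N * h₀ ∈ Mero.denomIdeal L s U.1 := by
  have loc : ∀ x : U.1, ∃ (V : X.Opens) (n : ℕ), x.1 ∈ V ∧ ∀ (y : X) (hyU : y ∈ U.1), y ∈ V → ∀ M, n ≤ M →
      X.presheaf.germ U.1 y hyU (g ^ M * h₀) • s.1 ⟨y, trivial⟩ =
        LocalizedModule.mk (germM L U.1 y hyU (g ^ M • m₀)) 1 := by
    intro x
    obtain ⟨W, hxW, i, m, b, w⟩ := s.2 ⟨x.1, trivial⟩
    obtain ⟨U₀, e₀, hxU₀, he₀⟩ := Props.GenLocus.exists_isGen hL x.1
    obtain ⟨V, hV, hxV, hle⟩ := exists_isAffineOpen_mem_and_subset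
      (show x.1 ∈ (W ⊓ U.1) ⊓ U₀ from ⟨⟨hxW, x.2⟩, hxU₀⟩)
    have hVW : V ≤ W := (le_trans (show V ≤ (W ⊓ U.1) ⊓ U₀ from hle) inf_le_left).trans inf_le_left
    have hVU : V ≤ U.1 := (le_trans (show V ≤ (W ⊓ U.1) ⊓ U₀ from hle) inf_le_left).trans inf_le_right
    have hV0 : V ≤ U₀ := le_trans (show V ≤ (W ⊓ U.1) ⊓ U₀ from hle) inf_le_right
    have he := he₀.restrict hV0
    obtain ⟨z, hz, -⟩ := he.exists_eq le_rfl (rres hVU h₀ • res L hVW m - rres hVW b.1 • res L hVU m₀)
    rw [res_self] at hz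
    have key : ∀ (y : X) (hy : y ∈ V),
        X.presheaf.germ U.1 y (hVU hy) h₀ • germM L W y (hVW hy) m -
            X.presheaf.germ W y (hVW hy) b.1 • germM L U.1 y (hVU hy) m₀ =
          X.presheaf.germ V y hy z • germM L V y hy (res L hV0 e₀) := by
      intro y hy
      have e := congrArg (germM L V y hy) hz
      replace e := (map_sub (L.presheaf.germ V y hy).hom _ _).symm.trans e
      change germM L V y hy _ - germM L V y hy _ = _ at e
      rw [germM_smul, germM_smul, germM_smul] at e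
      rw [← e]
      congr 2
      · exact (X.presheaf.germ_res_apply _ _ _ _).symm
      · exact (L.presheaf.germ_res_apply _ _ _ _).symm
      · exact (X.presheaf.germ_res_apply _ _ _ _).symm
      · exact (L.presheaf.germ_res_apply _ _ _ _).symm
    set g' : Γ(X, V) := rres hVU g
    have h0 : X.presheaf.map (homOfLE (X.basicOpen_le g')).op z = 0 := by
      refine TopCat.Presheaf.section_ext X.sheaf _ _ _ fun y hy => ?_
      refine Eq.trans ?_ (map_zero (X.presheaf.germ _ y hy).hom).symm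
      refine (X.presheaf.germ_res_apply _ y hy z).trans ?_
      have hy' : y ∈ X.basicOpen g := ((X.basicOpen_res g (homOfLE hVU).op).le hy).2
      have hyV : y ∈ V := X.basicOpen_le g' hy
      have e : X.presheaf.germ U.1 y (hVU hyV) h₀ •
          (LocalizedModule.mk (germM L W y (hVW hyV) m) (Mero.regGerm (⟨y, hVW hyV⟩ : W) b) :
            Mero.MStalk L y) = LocalizedModule.mk (germM L U.1 y (hVU hyV) m₀) 1 := by
        exact (congrArg _ (w ⟨y, hVW hyV⟩).symm).trans (h y hy')
      rw [LocalizedModule.smul'_mk, LocalizedModule.mk_eq] at e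
      obtain ⟨c, hc⟩ := e
      rw [one_smul] at hc
      have hc' : (c.1 : X.presheaf.stalk y) • (X.presheaf.germ V y hyV z • germM L V y hyV (res L hV0 e₀)) = 0 := by
        rw [← key y hyV, smul_sub, sub_eq_zero]
        exact hc
      refine (mem_nonZeroDivisors_iff_right.mp (Mero.regStalk_le_nonZeroDivisors y c.2)) _ ((MeroTotal.RegularSection.bijective_smul_germ he y hyV).1 ?_)
      change (_ * c.1) • germM L V y hyV (res L hV0 e₀) = (0 : X.presheaf.stalk y) • _
      rw [zero_smul, mul_comm, mul_smul]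
      exact hc'
    obtain ⟨n, hn⟩ := exists_pow_mul_eq_zero_of_res_basicOpen_eq_zero_of_isCompact X
      (U := V) hV.isCompact z g' h0
    refine ⟨V, n, hxV, fun y hyU hy M hM => ?_⟩
    obtain ⟨k, rfl⟩ := Nat.exists_eq_add_of_le hM
    have e := congrArg (X.presheaf.germ V y hy) hn
    rw [map_mul, map_pow, map_zero,
      show X.presheaf.germ V y hy g' = X.presheaf.germ U.1 y hyU g from X.presheaf.germ_res_apply _ _ _ _] at e
    have e2 : X.presheaf.germ U.1 y hyU g ^ (n + k) • (X.presheaf.germ U.1 y hyU h₀ • germM L W y (hVW hy) m -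
        X.presheaf.germ W y (hVW hy) b.1 • germM L U.1 y hyU m₀) = 0 := by
      rw [key y hy, smul_smul, pow_add, mul_right_comm, e, zero_mul, zero_smul]
    rw [smul_sub, sub_eq_zero, smul_smul, smul_comm] at e2
    have ew : s.1 ⟨y, trivial⟩ = LocalizedModule.mk (germM L W y (hVW hy) m) (Mero.regGerm (⟨y, hVW hy⟩ : W) b) :=
      w ⟨y, hVW hy⟩
    rw [ew, map_mul, map_pow, germM_smul, map_pow, LocalizedModule.smul'_mk, e2]
    exact LocalizedModule.mk_cancel (Mero.regGerm (⟨y, hVW hy⟩ : W) b) _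
  choose V n hV hVn using loc
  obtain ⟨t, ht⟩ := U.2.isCompact.elim_finite_subcover (fun x : U.1 => (V x : Set X))
    (fun x => (V x).2) (fun x hx => Set.mem_iUnion.mpr ⟨⟨x, hx⟩, hV ⟨x, hx⟩⟩)
  refine ⟨t.sup n, g ^ t.sup n • m₀, fun y => ?_⟩
  obtain ⟨x, hxt, hyx⟩ := Set.mem_iUnion₂.mp (ht y.2)
  rw [LocalizedModule.mkLinearMap_apply]
  exact hVn x y.1 y.2 hyx _ (Finset.le_sup hxt)

theorem map_denomIdeal (hL : PicF.IsInvertible L) (s : Γ(Mero.merMod L, ⊤)) (U : X.affineOpens)
    (g : Γ(X, U.1)) :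
    (Mero.denomIdeal L s U.1).map (X.presheaf.map (homOfLE (X.basicOpen_le g)).op).hom =
      Mero.denomIdeal L s (X.affineBasicOpen g).1 := by
  haveI : L.IsQuasicoherent := ProjTwist.isQCoh_of_isInvertible hL
  have hU : IsAffineOpen U.1 := U.2
  have hle : X.basicOpen g ≤ U.1 := X.basicOpen_le g
  refine le_antisymm (Ideal.map_le_iff_le_comap.mpr fun a ha => ?_) fun a ha => ?_
  · obtain ⟨m, hm⟩ := ha
    refine ⟨res L hle m, fun y => ?_⟩
    refine Eq.trans ?_ ((hm ⟨y.1, hle y.2⟩).trans (congrArg _ (L.presheaf.germ_res_apply _ _ _ _).symm))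
    exact congrArg (· • s.1 ⟨y.1, trivial⟩) (X.presheaf.germ_res_apply (homOfLE hle) y.1 y.2 a)
  · obtain ⟨m, hm⟩ : ∃ m : Γ(L, X.basicOpen g), ∀ (y : X) (hy : y ∈ X.basicOpen g),
        X.presheaf.germ (X.basicOpen g) y hy (show Γ(X, X.basicOpen g) from a) • s.1 ⟨y, trivial⟩ =
          LocalizedModule.mk (germM L (X.basicOpen g) y hy m) 1 := by
      obtain ⟨m, hm⟩ := ha
      exact ⟨m, fun y hy => hm ⟨y, hy⟩⟩
    letI := hU.isLocalization_basicOpen g
    letI : Algebra Γ(X, U.1) Γ(X, X.basicOpen g) := (rres hle).hom.toAlgebra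
    obtain ⟨n, a', ha'⟩ := IsLocalization.Away.surj g (show Γ(X, X.basicOpen g) from a)
    obtain ⟨k, t, ht⟩ := (isLocalizingAt L hU g).surj m
    obtain ⟨N, hN⟩ := exists_pow hL s U g (g ^ k * a') (g ^ n • t) fun y hy => by
      have hm' := hm y hy
      have ea : X.presheaf.germ U.1 y (hle hy) a' = X.presheaf.germ (X.basicOpen g) y hy (show Γ(X, X.basicOpen g) from a) *
          X.presheaf.germ U.1 y (hle hy) g ^ n := by
        rw [← X.presheaf.germ_res_apply (homOfLE hle) y hy a', ← X.presheaf.germ_res_apply (homOfLE hle) y hy g,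
          ← map_pow, ← map_mul]
        exact congrArg _ ha'.symm
      have et : germM L U.1 y (hle hy) t = X.presheaf.germ U.1 y (hle hy) g ^ k •
          germM L (X.basicOpen g) y hy m := by
        refine (L.presheaf.germ_res_apply (homOfLE hle) y hy t).symm.trans ?_
        refine (congrArg (germM L (X.basicOpen g) y hy) ht).trans ?_
        rw [germM_smul, map_pow]
        congr 2
        exact X.presheaf.germ_res_apply _ _ _ _
      rw [germM_smul, et, map_mul, map_pow, map_pow, ea, ← mul_assoc, mul_comm (_ * _) (_ ^ n), ← mul_assoc,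
        mul_smul, hm', LocalizedModule.smul'_mk, smul_smul]
    have hgu : IsUnit (rres hle g) := RingedSpace.isUnit_res_basicOpen _ g
    obtain ⟨v, hv⟩ := hgu.pow (N + k + n)
    have h2 : (↑v⁻¹ : Γ(X, X.basicOpen g)) * rres hle (g ^ N * (g ^ k * a')) =
        (show Γ(X, X.basicOpen g) from a) := by
      rw [Units.inv_mul_eq_iff_eq_mul, hv, map_mul, map_mul, map_pow, map_pow]
      change rres hle g ^ N * (rres hle g ^ k * algebraMap Γ(X, U.1) Γ(X, X.basicOpen g) a') = _
      rw [← ha']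
      change rres hle g ^ N * (_ * (_ * rres hle g ^ n)) = rres hle g ^ (N + k + n) * _
      rw [pow_add, pow_add]
      ring
    change (show Γ(X, X.basicOpen g) from a) ∈ _
    rw [← h2]
    exact Ideal.mul_mem_left _ _ (Ideal.mem_map_of_mem _ hN)

theorem result (X : Scheme.{u}) (L : X.Modules) (hL : PicF.IsInvertible L)
    (s : Γ(Mero.merMod L, ⊤)) (hs : Mero.IsRegularMero L s) :
    ∃ I : X.IdealSheafData, (∀ U : X.affineOpens, I.ideal U = Mero.denomIdeal L s U.1) ∧
      interior (I.support : Set ↥X) = ∅ := by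
  let I : X.IdealSheafData :=
    { ideal := fun V => Mero.denomIdeal L s V.1, map_ideal_basicOpen := fun V g => map_denomIdeal hL s V g }
  refine ⟨I, fun U => rfl, Set.eq_empty_iff_forall_notMem.mpr fun y hy => ?_⟩
  obtain ⟨W, hyW, i, m, b, w⟩ := s.2 ⟨y, trivial⟩
  obtain ⟨V, hV, hyV, hle⟩ := exists_isAffineOpen_mem_and_subset
    (show y ∈ W ⊓ (⟨interior (I.support : Set X), isOpen_interior⟩ : X.Opens) from ⟨hyW, hy⟩)
  have hVW : V ≤ W := le_trans (show V ≤ W ⊓ _ from hle) inf_le_left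
  have hbot : X.basicOpen (rres hVW b.1) ≤ ⊥ := fun z hz => by
    have hzV : z ∈ V := X.basicOpen_le _ hz
    have h1 : z ∈ (I.support : Set X) ∩ V := ⟨interior_subset (hle hzV).2, hzV⟩
    rw [I.coe_support_inter ⟨V, hV⟩] at h1
    exact absurd hz ((Scheme.mem_zeroLocus_iff _ _ _).mp h1.1 _ (denominator_mem s hVW m b w))
  obtain ⟨n, hn⟩ := exists_pow_mul_eq_zero_of_res_basicOpen_eq_zero_of_isCompact X hV.isCompact
    (1 : Γ(X, V)) (rres hVW b.1) (by
      refine TopCat.Presheaf.section_ext X.sheaf _ _ _ fun z hz => ?_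
      exact absurd (hbot hz) id)
  have e := congrArg (X.presheaf.germ V y hyV) hn
  rw [mul_one, map_pow, map_zero, show X.presheaf.germ V y hyV (rres hVW b.1) = X.presheaf.germ W y hyW b.1
    from X.presheaf.germ_res_apply _ _ _ _] at e
  exact nonZeroDivisors.ne_zero (pow_mem (b.2 ⟨y, hyW⟩) n) e

end Groth.Agent.S8903
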