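import Groth.Statements.S8908
import Groth.Agent.WeakAssSch.Basic
import Groth.Agent.S1576
import Groth.Agent.S1577
import Groth.Agent.CohDev.Coh
import Groth.Agent.Omega.Stalks
import Groth.Agent.FlatMor.GenericPts

set_option autoImplicit false
universe u
open CategoryTheory CategoryTheory.Limits AlgebraicGeometry TopologicalSpace
open SDiv

namespace Groth.Agent.S8908

open Groth.Agent.QCoh Groth.Agent.PullStalk.Sky Groth.Agent.PullStalk.Exact Groth.Agent.Omega.Stalks Opposite

/-- Left exactness of sections. -/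
theorem sections_exact {X : Scheme.{u}} {S : ShortComplex X.Modules} (hS : S.Exact) [Mono S.f] (U : X.Opens) :
    Function.Exact (S.f.app U) (S.g.app U) := by
  let F := Scheme.Modules.toPresheaf X ⋙ (evaluation _ _).obj (op U)
  have : Limits.PreservesFiniteLimits ((evaluation (Opens ↥X)ᵒᵖ Ab.{u}).obj (op U)) :=
    ⟨fun J _ _ => inferInstance⟩
  have : Limits.PreservesFiniteLimits F := Limits.comp_preservesFiniteLimits _ _
  have : F.Additive := Functor.additive_of_preserves_binary_products (F := F)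
  obtain ⟨h1, -⟩ : (S.map F).Exact ∧ Mono (F.map S.f) :=
    ((List.TFAE.out (Functor.preservesFiniteLimits_tfae F) 3 1 rfl rfl).mp (by assumption)) S
      ⟨hS, inferInstance⟩
  exact (ShortComplex.ab_exact_iff_function_exact _).mp h1

/-- A point of a closed set has a generization maximal in the set. -/
theorem exists_max {X : Scheme.{u}} {S : Set X} (hS : IsClosed S) {z : X} (hz : z ∈ S) :
    ∃ g ∈ S, g ⤳ z ∧ ∀ y ∈ S, y ⤳ g → y = g := by
  haveI : QuasiSober S := hS.isClosedEmbedding_subtypeVal.quasiSober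
  obtain ⟨η, hη, hηz⟩ := FlatMor.GenericPts.exists_generic_specializes (⟨z, hz⟩ : S)
  rw [FlatMor.GenericPts.closure_mem_irreducibleComponents_iff] at hη
  exact ⟨η, η.2, (subtype_specializes_iff _ _).1 hηz, fun y hy h =>
    h.antisymm ((subtype_specializes_iff _ _).1 (hη ⟨y, hy⟩ ((subtype_specializes_iff _ _).2 h))) |>.eq⟩

/-- Let X be a locally Noetherian scheme and F a coherent O_X-module. The coherent subsheaves K ⊆ F
whose support is nowhere dense in Supp(F) have a largest element K. Setting F' = F/K: (1) Supp(F') =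
Supp(F); (2) F' has no embedded associated points; (3) there is a dense open U ⊆ X with U ∩ Supp(F)
dense in Supp(F) over which the quotient map F → F' restricts to an isomorphism. -/
theorem result (X : Scheme.{u}) [IsLocallyNoetherian X] (F : X.Modules)
    (hF : Coh.IsCoh F) :
    ∃ K : Subobject F, Coh.IsCoh (K : X.Modules) ∧
      (∀ U : X.Opens, (U : Set ↥X) ∩ CohB1.support F ⊆ CohB1.support (K : X.Modules) → (U : Set ↥X) ∩ CohB1.support F = ∅) ∧
      (∀ K' : Subobject F, Coh.IsCoh (K' : X.Modules) →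
        (∀ U : X.Opens, (U : Set ↥X) ∩ CohB1.support F ⊆ CohB1.support (K' : X.Modules) → (U : Set ↥X) ∩ CohB1.support F = ∅) →
        K' ≤ K) ∧
      CohB1.support (cokernel K.arrow) = CohB1.support F ∧
      (∀ x : ↥X, Curv2.IsAssPoint (cokernel K.arrow) x → ∀ y : ↥X, Curv2.IsAssPoint (cokernel K.arrow) y → y ⤳ x → y = x) ∧
      ∃ U : X.Opens, Dense (U : Set ↥X) ∧ CohB1.support F ⊆ closure ((U : Set ↥X) ∩ CohB1.support F) ∧
        IsIso ((Scheme.Modules.restrictFunctor U.ι).map (cokernel.π K.arrow)) := by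
  classical
  haveI : F.IsQuasicoherent := hF.1
  let A : Set X := {x | Curv2.IsAssPoint F x}
  have hAS : A ⊆ CohB1.support F := fun x hx => WeakAssSch.mem_support_of_isWeakAssPoint F
    ((WeakAssSch.isAssPoint_iff_isWeakAssPoint F x).1 hx)
  have hcl : IsClosed (CohB1.support F) := CohDev.isClosed_support hF
  have hfinW : ∀ (W : X.Opens), IsAffineOpen W → {y : X | y ∈ W ∧ Curv2.IsAssPoint F y}.Finite :=
    fun W hW => S1576.result X F hF W hW.isCompact
  -- the closed set swept out by the embedded points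
  let B : Set X := {x | x ∈ A ∧ ∃ y ∈ A, y ⤳ x ∧ y ≠ x}
  let Z : Set X := ⋃ e : B, closure ({e.1} : Set X)
  have hZ : IsClosed Z := by
    refine LocallyFinite.isClosed_iUnion (fun x => ?_) fun e => isClosed_closure
    obtain ⟨W, hW, hxW, -⟩ := exists_isAffineOpen_mem_and_subset (U := (⊤ : X.Opens)) (x := x) trivial
    refine ⟨W, W.isOpen.mem_nhds hxW, ((hfinW W hW).preimage Subtype.val_injective.injOn).subset ?_⟩
    rintro e ⟨w, hw, hwW⟩
    exact ⟨(specializes_iff_mem_closure.2 hw).mem_open W.isOpen hwW, e.2.1⟩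
  let U : X.Opens := ⟨Zᶜ, hZ.isOpen_compl⟩
  have hUgen : ∀ {y x : X}, y ⤳ x → x ∈ U → y ∈ U := fun h hx => h.mem_open U.isOpen hx
  -- associated points in `U` are minimal
  have hUA : ∀ x ∈ A, x ∈ U → ∀ y ∈ A, y ⤳ x → y = x := fun x hx hxU y hy h => by
    by_contra hne
    exact hxU (Set.mem_iUnion.2 ⟨⟨x, hx, y, hy, h, hne⟩, subset_closure rfl⟩)
  have hmax : ∀ g ∈ CohB1.support F, (∀ y ∈ CohB1.support F, y ⤳ g → y = g) → g ∈ A ∧ g ∈ U := by
    refine fun g hg h => ⟨S1577.result X F hF.1 g hg h, fun hgZ => ?_⟩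
    obtain ⟨⟨e, he, y, hy, hye, hne⟩, hge⟩ := Set.mem_iUnion.1 hgZ
    obtain rfl := h e (hAS he) (specializes_iff_mem_closure.2 hge)
    exact hne (h y (hAS hy) hye)
  let η : F ⟶ (Scheme.Modules.pushforward U.ι).obj ((Scheme.Modules.restrictFunctor U.ι).obj F) :=
    (Scheme.Modules.restrictAdjunction U.ι).unit.app F
  let K : Subobject F := Subobject.mk (kernel.ι η)
  let a : (K : X.Modules) ⟶ F := K.arrow
  have ha : a ≫ η = 0 := by
    rw [show a = (Subobject.underlyingIso (kernel.ι η)).hom ≫ kernel.ι η from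
      (Subobject.underlyingIso_hom_comp_eq_mk _).symm, Category.assoc, kernel.condition, comp_zero]
  have hex : (ShortComplex.mk a η ha).Exact := ShortComplex.exact_of_f_is_kernel _
    (IsKernel.isoKernel η a (kernelIsKernel η) (Subobject.underlyingIso (kernel.ι η))
      (Subobject.underlyingIso_hom_comp_eq_mk _))
  haveI hKq : (K : X.Modules).IsQuasicoherent := by
    haveI : ((Scheme.Modules.pushforward U.ι).obj ((Scheme.Modules.restrictFunctor U.ι).obj F)).IsQuasicoherent := by
      haveI : ((Scheme.Modules.restrictFunctor U.ι).obj F).IsQuasicoherent :=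
        inferInstanceAs ((F.restrict U.ι).IsQuasicoherent)
      exact QCoh.isQuasicoherent_pushforward U.ι _
    haveI := QCoh.isQuasicoherent_kernel η
    exact QCoh.isQuasicoherent_of_iso (Subobject.underlyingIso (kernel.ι η)).symm
  have hKc : Coh.IsCoh (K : X.Modules) := CohDev.isCoh_of_mono a hKq hF
  let π := cokernel.π a
  have hsh : (ShortComplex.mk a π (cokernel.condition a)).ShortExact :=
    { exact := ShortComplex.exact_of_g_is_cokernel _ (cokernelIsCokernel a) }
  have hst := fun x => stalk_exact hsh x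
  have hQc : Coh.IsCoh (cokernel a) := CohDev.isCoh_cokernel a hKq hF
  -- sections killed on `U`
  have hunit : ∀ (W : X.Opens) (s : Γ(F, W)), η.app W s = 0 ↔
      ∀ (y : X) (hy : y ∈ W), y ∈ U → germM F W y hy s = 0 := by
    intro W s
    have hi : U.ι ''ᵁ (U.ι ⁻¹ᵁ W) ≤ W := U.ι.image_preimage_le W
    constructor
    · intro h y hy hyU
      have h' : F.presheaf.map (homOfLE hi).op s = 0 := h
      have hy' : y ∈ U.ι ''ᵁ (U.ι ⁻¹ᵁ W) := ⟨⟨y, hyU⟩, hy, rfl⟩
      exact (F.presheaf.germ_res_apply (homOfLE hi) y hy' s).symm.trans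
        ((congrArg (germM F _ y hy') h').trans (map_zero _))
    · intro h
      show F.presheaf.map (homOfLE hi).op s = 0
      refine WeakAssSch.section_eq_zero_of_germ F _ fun y hy => ?_
      obtain ⟨w, hw, rfl⟩ := hy
      exact (F.presheaf.germ_res_apply (homOfLE hi) _ ⟨w, hw, rfl⟩ s).trans (h _ hw w.2)
  have hzero : ∀ (W : X.Opens) (k : Γ((K : X.Modules), W)) (y : X) (hy : y ∈ W), y ∈ U →
      germM F W y hy (a.app W k) = 0 :=
    (fun W k => (hunit W _).1 ((sections_exact hex W _).2 ⟨k, rfl⟩))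
  have hKU : ∀ y ∈ U, Subsingleton ((K : X.Modules).presheaf.stalk y) := fun y hy =>
    subsingleton_of_forall_eq 0 fun t => by
      obtain ⟨W, hyW, k, rfl⟩ := exists_germM_eq (K : X.Modules) y t
      exact (hst y).1 (((stalkLin_germ a W y hyW k).trans (hzero W k y hyW hy)).trans (map_zero _).symm)
  have hbij : ∀ y ∈ U, Function.Bijective (stalkLin π y) := fun y hy => by
    refine ⟨(injective_iff_map_eq_zero _).2 fun t ht => ?_, (hst y).2.2⟩
    obtain ⟨k, hk⟩ := ((hst y).2.1 t).1 ht
    haveI := hKU y hy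
    exact hk.symm.trans ((congrArg _ (Subsingleton.elim k 0)).trans (map_zero _))
  -- associated points of the quotient
  have hQA : ∀ x, Curv2.IsAssPoint (cokernel a) x → x ∈ U ∧ x ∈ A := by
    intro x hx
    have hxU : x ∈ U := by
      by_contra hxU
      obtain ⟨hPp, v, hv⟩ := isAssociatedPrime_iff.1 hx
      obtain ⟨t, rfl⟩ := (hst x).2.2 v
      obtain ⟨W₁, hx₁, s₁, rfl⟩ := exists_germM_eq F x t
      obtain ⟨W, hW, hxW, hle⟩ := exists_isAffineOpen_mem_and_subset (U := W₁) hx₁
      let s : Γ(F, W) := F.presheaf.map (homOfLE hle).op s₁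
      have hs : germM F W x hxW s = germM F W₁ x hx₁ s₁ := F.presheaf.germ_res_apply _ x hxW s₁
      -- germs at the associated generizations in `U` vanish
      have hgen : ∀ (y : X) (hy : y ∈ W), y ∈ U → y ⤳ x → germM F W y hy s = 0 := by
        intro y hy hyU hyx
        obtain ⟨r, hrle, hyr⟩ := hW.exists_basicOpen_le (V := ⟨(closure {x})ᶜ, isClosed_closure.isOpen_compl⟩)
          ⟨y, fun h => hxU (hUgen (specializes_iff_mem_closure.2 h) hyU)⟩ hy
        have hr : X.presheaf.germ W x hxW r ∈ IsLocalRing.maximalIdeal (X.presheaf.stalk x) :=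
          (IsLocalRing.mem_maximalIdeal _).2 fun hu => hrle ((X.mem_basicOpen r x hxW).2 hu) (subset_closure rfl)
        rw [hv, Submodule.mem_colon_singleton, Submodule.mem_bot, ← map_smul, ← hs, ← germM_smul] at hr
        obtain ⟨c, hc⟩ := ((hst x).2.1 _).1 hr
        obtain ⟨W₂, hx₂, c₂, rfl⟩ := exists_germM_eq (K : X.Modules) x c
        have hc' : germM F W₂ x hx₂ (a.app W₂ c₂) = germM F W x hxW (r • s) :=
          (stalkLin_germ a W₂ x hx₂ c₂).symm.trans hc
        obtain ⟨W₃, hx₃, i₁, i₂, e⟩ := F.presheaf.germ_eq x _ _ _ _ hc'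
        have hy₃ : y ∈ W₃ := hyx.mem_open W₃.isOpen hx₃
        have h0 : germM F W y hy (r • s) = 0 := by
          refine (F.presheaf.germ_res_apply i₂ y hy₃ _).symm.trans ?_
          refine (congrArg (germM F W₃ y hy₃) e.symm).trans ?_
          exact (F.presheaf.germ_res_apply i₁ y hy₃ _).trans (hzero W₂ c₂ y (leOfHom i₁ hy₃) hyU)
        rw [germM_smul] at h0
        exact ((X.mem_basicOpen r y hy).1 hyr).smul_eq_zero.1 h0
      -- shrink so that the associated points generize `x`
      let T : Set X := ⋃ y ∈ {y : X | (y ∈ W ∧ Curv2.IsAssPoint F y) ∧ ¬ y ⤳ x}, closure ({y} : Set X)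
      have hT : IsClosed T := ((hfinW W hW).subset fun y hy => hy.1).isClosed_biUnion fun _ _ => isClosed_closure
      let W' : X.Opens := W ⊓ ⟨Tᶜ, hT.isOpen_compl⟩
      have hxW' : x ∈ W' := ⟨hxW, fun h => by
        obtain ⟨y, hy, hyx⟩ := Set.mem_iUnion₂.1 h
        exact hy.2 (specializes_iff_mem_closure.2 hyx)⟩
      have hle' : W' ≤ W := inf_le_left
      have hη : η.app W' (F.presheaf.map (homOfLE hle').op s) = 0 := by
        rw [hunit]
        intro y hy hyU
        have hi : W' ⊓ U ≤ W' := inf_le_left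
        have hz : F.presheaf.map (homOfLE hi).op (F.presheaf.map (homOfLE hle').op s) = 0 := by
          refine WeakAssSch.eq_zero_of_germ_weakAss F _ fun z hz hzA => ?_
          refine (F.presheaf.germ_res_apply (homOfLE hi) z hz _).trans ?_
          refine (F.presheaf.germ_res_apply (homOfLE hle') z hz.1 s).trans (hgen z hz.1.1 hz.2 ?_)
          by_contra hzx
          exact hz.1.2 (Set.mem_biUnion (show z ∈ {y : X | (y ∈ W ∧ Curv2.IsAssPoint F y) ∧ ¬ y ⤳ x} from
            ⟨⟨hz.1.1, (WeakAssSch.isAssPoint_iff_isWeakAssPoint F z).2 hzA⟩, hzx⟩) (subset_closure rfl))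
        exact (F.presheaf.germ_res_apply (homOfLE hi) y ⟨hy, hyU⟩ _).symm.trans
          ((congrArg (germM F (W' ⊓ U) y ⟨hy, hyU⟩) hz).trans (map_zero _))
      obtain ⟨k, hk⟩ := (sections_exact hex W' _).1 hη
      have h0 : stalkLin π x (germM F W₁ x hx₁ s₁) = 0 := by
        refine ((hst x).2.1 _).2 ⟨germM (K : X.Modules) W' x hxW' k, ?_⟩
        refine (stalkLin_germ a W' x hxW' k).trans ?_
        rw [show a.app W' k = F.presheaf.map (homOfLE hle').op s from hk]
        exact (F.presheaf.germ_res_apply _ x hxW' s).trans hs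
      apply hPp.ne_top
      rw [hv, h0, Ideal.eq_top_iff_one, Submodule.mem_colon_singleton]
      simp
    exact ⟨hxU, hx.map_of_injective (LinearEquiv.ofBijective _ (hbij x hxU)).symm.toLinearMap
      (LinearEquiv.injective _)⟩
  have hdense : CohB1.support F ⊆ closure ((U : Set X) ∩ CohB1.support F) := fun z hz => by
    obtain ⟨g, hg, hgz, hgm⟩ := exists_max hcl hz
    exact closure_mono (Set.singleton_subset_iff.2 (show g ∈ (U : Set X) ∩ CohB1.support F from ⟨(hmax g hg hgm).2, hg⟩)) (specializes_iff_mem_closure.1 hgz)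
  refine ⟨K, hKc, fun W hW => ?_, fun K' hK' hnd => ?_, ?_, fun x hx y hy h => ?_, U, ?_, hdense, ?_⟩
  · refine Set.eq_empty_iff_forall_notMem.2 fun z hz => ?_
    obtain ⟨g, hg, hgz, hgm⟩ := exists_max hcl hz.2
    exact hW ⟨hgz.mem_open W.isOpen hz.1, hg⟩ (hKU g (hmax g hg hgm).2)
  · -- the largest one
    haveI := hK'.1
    have hsub : CohB1.support (K' : X.Modules) ⊆ CohB1.support F := CohDev.support_subset_of_mono K'.arrow
    have hcl' := CohDev.isClosed_support hK'
    have hU' : ∀ u ∈ U, Subsingleton ((K' : X.Modules).presheaf.stalk u) := by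
      intro u hu
      by_contra hne
      obtain ⟨g, hg, hgu, hgm⟩ := exists_max hcl' (show u ∈ CohB1.support (K' : X.Modules) from hne)
      have hgA : g ∈ A := (S1577.result X (K' : X.Modules) hK'.1 g hg hgm).map_of_injective (stalkLin K'.arrow g)
        (stalkLin_injective_of_mono K'.arrow g)
      have hgU := hUgen hgu hu
      obtain ⟨W, hW, hgW, -⟩ := exists_isAffineOpen_mem_and_subset (U := (⊤ : X.Opens)) (x := g) trivial
      let T : Set X := ⋃ y ∈ {y : X | (y ∈ W ∧ Curv2.IsAssPoint F y) ∧ ¬ y ⤳ g}, closure ({y} : Set X)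
      have hT : IsClosed T := ((hfinW W hW).subset fun y hy => hy.1).isClosed_biUnion fun _ _ => isClosed_closure
      let W' : X.Opens := W ⊓ ⟨Tᶜ, hT.isOpen_compl⟩
      have hgW' : g ∈ W' := ⟨hgW, fun h => by
        obtain ⟨y, hy, hyg⟩ := Set.mem_iUnion₂.1 h
        exact hy.2 (specializes_iff_mem_closure.2 hyg)⟩
      have hsubW : (W' : Set X) ∩ CohB1.support F ⊆ CohB1.support (K' : X.Modules) := fun z hz => by
        obtain ⟨q, hq, hqz, hqm⟩ := exists_max hcl hz.2
        have hqA := (hmax q hq hqm).1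
        by_cases hqg : q ⤳ g
        · obtain rfl := hUA g hgA hgU q hqA hqg
          exact hqz.mem_closed hcl' hg
        · exact absurd (Set.mem_biUnion (show q ∈ {y : X | (y ∈ W ∧ Curv2.IsAssPoint F y) ∧ ¬ y ⤳ g} from
            ⟨⟨hqz.mem_open W.isOpen hz.1.1, hqA⟩, hqg⟩) (specializes_iff_mem_closure.1 hqz)) hz.1.2
      exact Set.eq_empty_iff_forall_notMem.1 (hnd W' hsubW) g ⟨hgW', hsub hg⟩
    have hfac : K'.arrow ≫ η = 0 := by
      ext W k
      refine (hunit W _).2 fun y hy hyU => ?_
      haveI := hU' y hyU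
      refine (stalkLin_germ K'.arrow W y hy k).symm.trans ?_
      rw [Subsingleton.elim (germM (K' : X.Modules) W y hy k) 0, map_zero]
    exact Subobject.le_mk_of_comm (kernel.lift η _ hfac) (kernel.lift_ι _ _ _)
  · refine subset_antisymm (fun z hz => CohDev.support_subset_of_epi π hz) fun z hz => ?_
    obtain ⟨g, hg, hgz, hgm⟩ := exists_max hcl hz
    refine hgz.mem_closed (CohDev.isClosed_support hQc) (fun h => hg ?_)
    haveI : Subsingleton ((cokernel a).presheaf.stalk g) := h
    exact (hbij g (hmax g hg hgm).2).1.subsingleton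
  · obtain ⟨hxU, hxA⟩ := hQA x hx
    exact hUA x hxA hxU y (hQA y hy).2 h
  · intro z
    obtain ⟨g, -, hgz, hgm⟩ := exists_max (isClosed_univ (X := X)) (Set.mem_univ z)
    refine closure_mono (Set.singleton_subset_iff.2 (show g ∈ (U : Set X) from fun hgZ => ?_))
      (specializes_iff_mem_closure.1 hgz)
    obtain ⟨⟨e, he, y, hy, hye, hne⟩, hge⟩ := Set.mem_iUnion.1 hgZ
    obtain rfl := hgm e trivial (specializes_iff_mem_closure.2 hge)
    exact hne (hgm y trivial hye)
  · let R := Scheme.Modules.restrictFunctor U.ι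
    have h0 : IsZero (R.obj (K : X.Modules)) := by
      rw [IsZero.iff_id_eq_zero]
      ext W k
      refine WeakAssSch.section_eq_zero_of_germ (K : X.Modules) (U := U.ι ''ᵁ W) _ fun y hy => ?_
      haveI := hKU y (by obtain ⟨w, -, rfl⟩ := hy; exact w.2)
      exact Subsingleton.elim _ _
    haveI := (Scheme.Modules.restrictAdjunction U.ι).leftAdjoint_preservesColimits
    have hz : R.map a = 0 := h0.eq_of_src _ _
    haveI : IsIso (cokernel.π (R.map a)) := by
      haveI : IsIso (cokernel.π (R.map a) ≫ (cokernelIsoOfEq hz).hom) := by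
        rw [π_comp_cokernelIsoOfEq_hom]
        infer_instance
      exact IsIso.of_isIso_comp_right _ (cokernelIsoOfEq hz).hom
    show IsIso (R.map (cokernel.π a))
    haveI : IsIso (R.map (cokernel.π a) ≫ (PreservesCokernel.iso R a).hom) := by
      rw [PreservesCokernel.π_iso_hom]
      infer_instance
    exact IsIso.of_isIso_comp_right _ (PreservesCokernel.iso R a).hom

end Groth.Agent.S8908
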