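import Groth.Statements.S8915
import Groth.Agent.S8917
import Groth.Agent.S1478
-- import your own Groth.Agent.* helpers here

set_option autoImplicit false
universe u
open CategoryTheory CategoryTheory.Limits AlgebraicGeometry TopologicalSpace
open SDiv

namespace Groth.Agent.S8915

theorem formallyUnramified_stalkMap_iff {X S : Scheme.{u}} (f : X ⟶ S) (U : X.Opens) (x : U.toScheme) :
    ((U.ι ≫ f).stalkMap x).hom.FormallyUnramified ↔ (f.stalkMap (U.ι x)).hom.FormallyUnramified := by
  rw [Scheme.Hom.stalkMap_comp]
  exact RingHom.FormallyUnramified.respectsIso.cancel_right_isIso (f.stalkMap (U.ι x)) (U.ι.stalkMap x)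

/-- Let f : X ⟶ S be locally of finite type and quasi-separated. Then the closed subset of X defined by
the Fitting ideal Fit_0(Ω_{X/S}) is exactly the set of points at which f is not unramified, i.e.
which have no open neighbourhood on which f is formally unramified. The published statement does not
assume f quasi-separated; this row does, because the module Ω_{X/S} used here is defined for
quasi-separated f. -/
theorem result {X S : Scheme.{u}} (f : X ⟶ S) [LocallyOfFiniteType f] [QuasiSeparated f]
    (x : ↥X) :
    x ∈ (Fitt.sheafIdeal (Omega.sheaf f) 0).support ↔ ¬ ∃ U : X.Opens, x ∈ U ∧ FormallyUnramified (U.ι ≫ f) := by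
  haveI := Groth.Agent.S8917.isQCoh_omega f
  haveI := Groth.Agent.S8917.isFT_omega f
  have hmem : ∀ y : X, y ∈ (Fitt.sheafIdeal (Omega.sheaf f) 0).support ↔
      ¬ (f.stalkMap y).hom.FormallyUnramified := fun y => by
    rw [← SetLike.mem_coe, Groth.Agent.FittLib.coe_support_sheafIdeal_zero,
      ← Groth.Agent.S1478.subsingleton_stalk_omega_iff]
    rfl
  constructor
  · rintro hx ⟨U, hxU, hU⟩
    exact (hmem x).1 hx ((formallyUnramified_stalkMap_iff f U ⟨x, hxU⟩).1
      ((Groth.Agent.S1478.stalkMap_formallyUnramified_iff _).1 hU _))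
  · intro h
    by_contra hx
    refine h ⟨(Fitt.sheafIdeal (Omega.sheaf f) 0).support.compl, hx, ?_⟩
    rw [Groth.Agent.S1478.stalkMap_formallyUnramified_iff]
    intro y
    rw [formallyUnramified_stalkMap_iff]
    exact not_not.1 fun hn => y.2 ((hmem _).2 hn)

end Groth.Agent.S8915
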