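import Groth.Statements.S8918
import Groth.Agent.S8903
import Groth.Agent.BlowUp.Basic
import Groth.Agent.Props.GenPull
import Groth.Agent.Props.GenExt
import Groth.Agent.PicLaw.Basic
import Groth.Agent.CartDiv.Difference
import Groth.Agent.AmpleFam.CanonSection
import Groth.Agent.ZeroSchemeLib.Basic

set_option autoImplicit false
universe u
open CategoryTheory CategoryTheory.Limits AlgebraicGeometry TopologicalSpace
open SDiv

set_option linter.style.haveILetI false

namespace Groth.Agent.S8918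

open Groth.Agent TopologicalSpace Groth.Agent.QCoh Groth.Agent.Props.GenLocus Groth.Agent.Props.GenTensor
  Groth.Agent.Props.GenProd Groth.Agent.PullStalk.Sky

variable {X X' : Scheme.{u}} {L : X.Modules}

/-- Scalars are determined by their action on a frame in the localized stalk. -/
theorem eq_of_mk_eq {W : X.Opens} {e : Γ(L, W)} (he : IsGen L W e) {y : X} (hy : y ∈ W)
    {r r' : X.presheaf.stalk y} {β : Mero.regStalk X y}
    (h : (LocalizedModule.mk (r • germM L W y hy e) β : Mero.MStalk L y) =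
      LocalizedModule.mk (r' • germM L W y hy e) β) : r = r' := by
  obtain ⟨c, hc⟩ := LocalizedModule.mk_eq.mp h
  simp only [Submonoid.smul_def, smul_smul] at hc
  have h1 := (MeroTotal.RegularSection.bijective_smul_germ he y hy).1 hc
  refine (mul_cancel_left_mem_nonZeroDivisors (Mero.regStalk_le_nonZeroDivisors y c.2)).mp
    ((mul_cancel_left_mem_nonZeroDivisors (Mero.regStalk_le_nonZeroDivisors y β.2)).mp ?_)
  linear_combination h1

theorem res_basicOpen_mem_nonZeroDivisors {U : X.Opens} (hU : IsAffineOpen U) {c : Γ(X, U)}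
    (hc : c ∈ nonZeroDivisors Γ(X, U)) {V : X.Opens} (h : V ≤ U) :
    rres h c ∈ nonZeroDivisors Γ(X, V) :=
  IdealSh.Regular.mem_nonZeroDivisors_of_germ fun y hy => by
    rw [show X.presheaf.germ V y hy (rres h c) = X.presheaf.germ U y (h hy) c from
      X.presheaf.germ_res_apply _ _ _ _]
    exact IdealSh.Regular.germ_mem_nonZeroDivisors hU y (h hy) hc

/-- A chart of the twist: an element of the centre generating the exceptional ideal, with its numerator. -/
theorem exists_chart (hL : PicF.IsInvertible L) (s : Γ(Mero.merMod L, ⊤)) (I : X.IdealSheafData)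
    (hI : ∀ V : X.affineOpens, I.ideal V = Mero.denomIdeal L s V.1) {b : X' ⟶ X}
    (hb : BlowUp.IsEffCartierIdeal (I.comap b)) (x : X') :
    ∃ (W : X.Opens) (e : Γ(L, W)) (f a : Γ(X, W)) (U : X'.affineOpens) (hU : U.1 ≤ b ⁻¹ᵁ W),
      x ∈ U.1 ∧ IsGen L W e ∧
      (∀ (y : X) (hy : y ∈ W), X.presheaf.germ W y hy f • s.1 ⟨y, trivial⟩ =
        LocalizedModule.mk (X.presheaf.germ W y hy a • germM L W y hy e) 1) ∧
      rres hU (b.app W f) ∈ nonZeroDivisors Γ(X', U.1) ∧
      (I.comap b).ideal U = Ideal.span {rres hU (b.app W f)} := by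
  obtain ⟨W₀, e₀, hxW₀, he₀⟩ := exists_isGen hL (b x)
  obtain ⟨W, hW, hxW, hWle⟩ := exists_isAffineOpen_mem_and_subset (show b x ∈ W₀ from hxW₀)
  have he := he₀.restrict (show W ≤ W₀ from hWle)
  obtain ⟨U₀, hxU₀, hU₀, c, hc, hcU⟩ := IdealSh.EffCartier.exists_equation hb x (b ⁻¹ᵁ W) hxW
  have hcomap := IdealSh.Comap.ideal_comap I b ⟨W, hW⟩ U₀ hU₀
  rw [hcU] at hcomap
  let P := (U₀.2.primeIdealOf ⟨x, hxU₀⟩).asIdeal
  obtain ⟨f, hf, t, ht, htP⟩ : ∃ f ∈ I.ideal ⟨W, hW⟩, ∃ t, b.appLE W U₀.1 hU₀ f = t * c ∧ t ∉ P := by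
    by_contra hne
    push_neg at hne
    have h1 : (I.ideal ⟨W, hW⟩).map (b.appLE W U₀.1 hU₀).hom ≤ P * Ideal.span {c} := by
      refine Ideal.map_le_iff_le_comap.mpr fun f hf => ?_
      have h2 : b.appLE W U₀.1 hU₀ f ∈ Ideal.span {c} := hcomap.ge (Ideal.mem_map_of_mem _ hf)
      obtain ⟨t, ht⟩ := Ideal.mem_span_singleton'.mp h2
      exact Ideal.mem_mul_span_singleton.mpr ⟨t, hne f hf t ht.symm, ht⟩
    obtain ⟨z, hz, hzc⟩ := Ideal.mem_mul_span_singleton.mp (h1 (hcomap.le (Ideal.mem_span_singleton_self c)))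
    have h3 : z = 1 := (mul_cancel_right_mem_nonZeroDivisors hc).mp (hzc.trans (one_mul c).symm)
    exact (U₀.2.primeIdealOf ⟨x, hxU₀⟩).isPrime.ne_top ((Ideal.eq_top_iff_one _).mpr (h3 ▸ hz))
  have hf' := hf
  rw [hI] at hf'
  obtain ⟨m, hm⟩ := hf'
  obtain ⟨a, ha, -⟩ := he.exists_eq le_rfl m
  rw [res_self] at ha
  let U : X'.affineOpens := X'.affineBasicOpen t
  have hUU : U.1 ≤ U₀.1 := X'.basicOpen_le t
  refine ⟨W, _, f, a, U, hUU.trans hU₀, ?_, he, fun y hy => ?_, ?_, ?_⟩
  · have h1 := (U₀.2.fromSpec_primeIdealOf ⟨x, hxU₀⟩)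
    have h2 : U₀.2.primeIdealOf ⟨x, hxU₀⟩ ∈ U₀.2.fromSpec ⁻¹ᵁ X'.basicOpen t := by
      rw [U₀.2.fromSpec_preimage_basicOpen]; exact htP
    have h3 : U₀.2.fromSpec (U₀.2.primeIdealOf ⟨x, hxU₀⟩) ∈ X'.basicOpen t := h2
    rw [h1] at h3
    exact h3
  · refine (hm ⟨y, hy⟩).trans ?_
    rw [LocalizedModule.mkLinearMap_apply]
    refine congrArg (fun z => (LocalizedModule.mk z 1 : Mero.MStalk L y)) ?_
    rw [← germM_smul, ← ha]
  all_goals
    have e1 : rres (hUU.trans hU₀) (b.app W f) = rres hUU t * rres hUU c := by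
      rw [← map_mul, ← ht]
      exact congr($((b.appLE_map hU₀ (homOfLE hUU).op).symm).hom f)
  · rw [e1]
    exact mul_mem (show rres hUU t ∈ nonZeroDivisors Γ(X', U.1) from
      IsUnit.mem_nonZeroDivisors (RingedSpace.isUnit_res_basicOpen _ t))
      (res_basicOpen_mem_nonZeroDivisors U₀.2 hc hUU)
  · rw [e1, ← (I.comap b).map_ideal (U := U) (V := U₀) hUU, hcU, Ideal.map_span, Set.image_singleton]
    exact (Ideal.span_singleton_mul_left_unit
      (show IsUnit (rres hUU t) from RingedSpace.isUnit_res_basicOpen _ t) _).symm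

/-- Two numerators differ by the ratio of the denominators and the frames. -/
theorem cross_eq (s : Γ(Mero.merMod L, ⊤)) {W W' V : X.Opens} (h : V ≤ W) (h' : V ≤ W') {e : Γ(L, W)}
    (he : IsGen L W e) {e' : Γ(L, W')} {f a : Γ(X, W)} {f' a' : Γ(X, W')}
    (hf : ∀ (y : X) (hy : y ∈ W), X.presheaf.germ W y hy f • s.1 ⟨y, trivial⟩ =
      LocalizedModule.mk (X.presheaf.germ W y hy a • germM L W y hy e) 1)
    (hf' : ∀ (y : X) (hy : y ∈ W'), X.presheaf.germ W' y hy f' • s.1 ⟨y, trivial⟩ =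
      LocalizedModule.mk (X.presheaf.germ W' y hy a' • germM L W' y hy e') 1)
    {A : Γ(X, V)} (hA : res L h' e' = A • res L h e) :
    rres h' f' * rres h a = rres h f * rres h' a' * A := by
  refine TopCat.Presheaf.section_ext X.sheaf V _ _ fun y hy => ?_
  change X.presheaf.germ V y hy _ = X.presheaf.germ V y hy _
  have hgA : germM L W' y (h' hy) e' = X.presheaf.germ V y hy A • germM L W y (h hy) e := by
    have h1 := congrArg (germM L V y hy) hA
    rwa [germM_smul, PicLaw.germM_res', PicLaw.germM_res'] at h1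
  simp only [map_mul, show ∀ z, X.presheaf.germ V y hy (rres h z) = X.presheaf.germ W y (h hy) z from
      fun z => X.presheaf.germ_res_apply _ _ _ _,
    show ∀ z, X.presheaf.germ V y hy (rres h' z) = X.presheaf.germ W' y (h' hy) z from
      fun z => X.presheaf.germ_res_apply _ _ _ _]
  refine eq_of_mk_eq he (h hy) (β := 1) ?_
  rw [mul_smul, ← LocalizedModule.smul'_mk, ← hf y (h hy), smul_comm, hf' y (h' hy),
    LocalizedModule.smul'_mk, hgA, ← mul_smul, ← mul_smul]

/-- The pulled back numerator is regular. -/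
theorem num_regular (s : Γ(Mero.merMod L, ⊤)) (hs : Mero.IsRegularMero L s) {I : X.IdealSheafData}
    {b : X' ⟶ X} (hb : BlowUp.IsBlowUp b I) {W : X.Opens} {e : Γ(L, W)} (he : IsGen L W e) {f a : Γ(X, W)}
    (hf : ∀ (y : X) (hy : y ∈ W), X.presheaf.germ W y hy f • s.1 ⟨y, trivial⟩ =
      LocalizedModule.mk (X.presheaf.germ W y hy a • germM L W y hy e) 1)
    {U : X'.affineOpens} (hU : U.1 ≤ b ⁻¹ᵁ W)
    (hfU : rres hU (b.app W f) ∈ nonZeroDivisors Γ(X', U.1)) :
    rres hU (b.app W a) ∈ nonZeroDivisors Γ(X', U.1) := by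
  refine IdealSh.Regular.mem_nonZeroDivisors_of_germ fun z hz => ?_
  obtain ⟨W₀, hzW₀, i, m, β, w⟩ := s.2 ⟨b z, trivial⟩
  let W₁ : X.Opens := W ⊓ W₀
  obtain ⟨μ, hμ, -⟩ := (he.restrict (inf_le_left : W₁ ≤ W)).exists_eq le_rfl (res L (inf_le_right : W₁ ≤ W₀) m)
  rw [res_self] at hμ
  have hg : ∀ (y : X) (hy : y ∈ W₁), s.1 ⟨y, trivial⟩ =
      LocalizedModule.mk (X.presheaf.germ W₁ y hy μ • germM L W y hy.1 e) (Mero.regGerm (⟨y, hy.2⟩ : W₀) β) := by
    intro y hy
    refine (w ⟨y, hy.2⟩).trans (congrArg (fun z => (LocalizedModule.mk z _ : Mero.MStalk L y)) ?_)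
    have h1 := congrArg (germM L W₁ y hy) hμ
    rw [germM_smul, PicLaw.germM_res', PicLaw.germM_res'] at h1
    exact h1
  have hμreg : ∀ (y : X) (hy : y ∈ W₁), X.presheaf.germ W₁ y hy μ ∈ nonZeroDivisors (X.presheaf.stalk y) := by
    intro y hy
    refine mem_nonZeroDivisors_iff_right.mpr fun r hr => ?_
    refine Mero.algebraMap_KStalk_injective y ((hs y (algebraMap _ _ r) ?_).trans (map_zero _).symm)
    rw [algebraMap_smul, hg y hy, LocalizedModule.smul'_mk, smul_smul, hr, zero_smul, LocalizedModule.zero_mk]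
  have key : rres (inf_le_left : W₁ ≤ W) f * μ =
      rres (inf_le_right : W₁ ≤ W₀) β.1 * rres (inf_le_left : W₁ ≤ W) a := by
    refine TopCat.Presheaf.section_ext X.sheaf W₁ _ _ fun y hy => ?_
    change X.presheaf.germ W₁ y hy _ = X.presheaf.germ W₁ y hy _
    simp only [map_mul, show ∀ z, X.presheaf.germ W₁ y hy (rres (inf_le_left : W₁ ≤ W) z) =
        X.presheaf.germ W y hy.1 z from fun z => X.presheaf.germ_res_apply _ _ _ _,
      show ∀ z, X.presheaf.germ W₁ y hy (rres (inf_le_right : W₁ ≤ W₀) z) =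
        X.presheaf.germ W₀ y hy.2 z from fun z => X.presheaf.germ_res_apply _ _ _ _]
    refine eq_of_mk_eq he hy.1 (β := Mero.regGerm (⟨y, hy.2⟩ : W₀) β) ?_
    rw [mul_smul, ← LocalizedModule.smul'_mk, ← hg y hy, hf y hy.1, mul_smul]
    exact (LocalizedModule.mk_cancel (Mero.regGerm (⟨y, hy.2⟩ : W₀) β) _).symm
  have hzW₁ : z ∈ b ⁻¹ᵁ W₁ := ⟨hU hz, hzW₀⟩
  have h1 := congrArg (fun t => X'.presheaf.germ (b ⁻¹ᵁ W₁) z hzW₁ (b.app W₁ t)) key
  simp only [map_mul, Props.GenPull.app_rres] at h1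
  rw [show ∀ t, X'.presheaf.germ (b ⁻¹ᵁ W₁) z hzW₁ (rres (b.preimage_mono (inf_le_left : W₁ ≤ W)) t) =
      X'.presheaf.germ (b ⁻¹ᵁ W) z (hU hz) t from fun t => X'.presheaf.germ_res_apply _ _ _ _,
    show ∀ t, X'.presheaf.germ (b ⁻¹ᵁ W₁) z hzW₁ (rres (b.preimage_mono (inf_le_left : W₁ ≤ W)) t) =
      X'.presheaf.germ (b ⁻¹ᵁ W) z (hU hz) t from fun t => X'.presheaf.germ_res_apply _ _ _ _] at h1
  have h2 : X'.presheaf.germ (b ⁻¹ᵁ W) z (hU hz) (b.app W f) *
      X'.presheaf.germ (b ⁻¹ᵁ W₁) z hzW₁ (b.app W₁ μ) ∈ nonZeroDivisors (X'.presheaf.stalk z) := by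
    refine mul_mem ?_ (BlowUp.Basic.germ_app_mem_nonZeroDivisors hb W₁ μ hμreg z hzW₁)
    have := IdealSh.Regular.germ_mem_nonZeroDivisors U.2 z hz hfU
    rwa [show X'.presheaf.germ U.1 z hz (rres hU (b.app W f)) = X'.presheaf.germ (b ⁻¹ᵁ W) z (hU hz) (b.app W f)
      from X'.presheaf.germ_res_apply _ _ _ _] at this
  rw [h1] at h2
  rw [show X'.presheaf.germ U.1 z hz (rres hU (b.app W a)) = X'.presheaf.germ (b ⁻¹ᵁ W) z (hU hz) (b.app W a)
      from X'.presheaf.germ_res_apply _ _ _ _]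
  exact (mul_mem_nonZeroDivisors.mp h2).2


/-- Suppose X is locally Noetherian, L is an invertible O_X-module carrying a regular meromorphic
section s, and I is a quasi-coherent ideal sheaf whose value on every affine open is the ideal of
denominators of s. Then I is of finite type and the open complement U of the support of O_X/I is
exactly the set of points near which s is a section of L, so that a blowing up b : X' ⟶ X in I is
U-admissible for this U; and for every such b there is an effective Cartier divisor D ⊆ X' with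
ideal sheaf 𝓓 such that b^*L ⊗ 𝓓 is isomorphic to the ideal sheaf of the exceptional divisor E, i.e.
b^*L ≅ O_{X'}(D - E) (existence of an isomorphism only). This row does not identify the pulled-back
section b^*s with the canonical section 1_D ⊗ 1_E⁻¹ of O_{X'}(D - E). -/
theorem result (X : Scheme.{u}) [IsLocallyNoetherian X] (L : X.Modules) (hL : PicF.IsInvertible L)
    (s : Γ(Mero.merMod L, ⊤)) (hs : Mero.IsRegularMero L s) (I : X.IdealSheafData)
    (hI : ∀ V : X.affineOpens, I.ideal V = Mero.denomIdeal L s V.1) :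
    (BlowUp.IsFiniteTypeIdeal I ∧ ((I.support.compl : X.Opens) : Set X) = Mero.domain L s) ∧
      ∀ (X' : Scheme.{u}) (b : X' ⟶ X), BlowUp.IsBlowUp b I →
        ∃ 𝓓 : X'.IdealSheafData, BlowUp.IsEffCartierIdeal 𝓓 ∧
          Nonempty (CohB1.tensorMod ((Scheme.Modules.pullback b).obj L) (ClSub.idealMod 𝓓) ≅ ClSub.idealMod (I.comap b)) := by
  refine ⟨⟨fun V => haveI := IsLocallyNoetherian.component_noetherian (X := X) V; IsNoetherian.noetherian _, ?_⟩, fun X' b hb => ?_⟩
  · ext x
    constructor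
    · intro hx
      obtain ⟨V, hV, hxV, -⟩ := exists_isAffineOpen_mem_and_subset (show x ∈ (⊤ : X.Opens) from trivial)
      have h1 : x ∉ X.zeroLocus (U := V) (I.ideal ⟨V, hV⟩ : Set Γ(X, V)) := fun h =>
        hx ((Scheme.IdealSheafData.mem_support_iff_of_mem (U := ⟨V, hV⟩) hxV).mpr h)
      rw [Scheme.mem_zeroLocus_iff] at h1
      push_neg at h1
      obtain ⟨f, hf, hxf⟩ := h1
      rw [SetLike.mem_coe, hI] at hf
      have hmem : (X.presheaf.map (homOfLE (X.basicOpen_le f)).op).hom f ∈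
          Mero.denomIdeal L s (X.affineBasicOpen (U := ⟨V, hV⟩) f).1 := by
        rw [← S8903.map_denomIdeal hL s ⟨V, hV⟩ f]
        exact Ideal.mem_map_of_mem _ hf
      have h2 : (1 : Γ(X, X.basicOpen f)) ∈ Mero.denomIdeal L s (X.basicOpen f) := by
        rw [← Ideal.eq_top_iff_one]
        exact Ideal.eq_top_of_isUnit_mem _ hmem (RingedSpace.isUnit_res_basicOpen _ f)
      obtain ⟨m, hm⟩ := h2
      refine ⟨X.basicOpen f, hxf, m, fun y => ?_⟩
      have := hm y
      rw [map_one, one_smul, LocalizedModule.mkLinearMap_apply] at this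
      exact this
    · rintro ⟨V, hxV, m, hm⟩ hxI
      obtain ⟨V', hV', hxV', hle⟩ := exists_isAffineOpen_mem_and_subset (show x ∈ V from hxV)
      have h1 : (1 : Γ(X, V')) ∈ I.ideal ⟨V', hV'⟩ := by
        rw [hI]
        refine ⟨res L hle m, fun y => ?_⟩
        rw [map_one, one_smul, LocalizedModule.mkLinearMap_apply]
        refine (hm ⟨y.1, hle y.2⟩).trans ?_
        exact congrArg (fun z => (LocalizedModule.mk z 1 : Mero.MStalk L y.1)) (L.presheaf.germ_res_apply _ _ _ _).symm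
      have h2 := (Scheme.IdealSheafData.mem_support_iff_of_mem (U := ⟨V', hV'⟩) hxV').mp hxI
      rw [Scheme.mem_zeroLocus_iff] at h2
      exact h2 1 h1 (by rw [Scheme.basicOpen_of_isUnit _ isUnit_one]; exact hxV')
  choose W e f a U hU hxU he hfa hfU hEU using exists_chart hL s I hI hb.1
  have haU : ∀ x, rres (hU x) (b.app (W x) (a x)) ∈ nonZeroDivisors Γ(X', (U x).1) := fun x =>
    num_regular s hs hb (he x) (hfa x) (hU x) (hfU x)
  let E := I.comap b
  have hE : PicF.IsInvertible (ClSub.idealMod E) := IdealSh.IdealMod.isInvertible_of_isEffCartierIdeal E hb.1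
  choose σ hσ hσf using fun x => CartDiv.Difference.exists_isGen_ideal E (hfU x) (hEU x)
  let P := (Scheme.Modules.pullback b).obj L
  let pe : ∀ x, Γ(P, (U x).1) := fun x => res P (hU x) (Props.GenPull.pb b (e x))
  have hpe : ∀ x, IsGen P (U x).1 (pe x) := fun x => (Props.GenPull.isGen_pb b (he x)).restrict (hU x)
  -- transition of frames and numerators
  have trans : ∀ (i j : X') (V : X'.Opens) (hi : V ≤ (U i).1) (hj : V ≤ (U j).1) (w : Γ(X', V)),
      res (ClSub.idealMod E) hj (σ j) = w • res (ClSub.idealMod E) hi (σ i) →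
      ∃ A : Γ(X', V), res P hj (pe j) = A • res P hi (pe i) ∧
        w * rres hi (rres (hU i) (b.app (W i) (a i))) = A * rres hj (rres (hU j) (b.app (W j) (a j))) := by
    intro i j V hi hj w hw
    let O : X.Opens := W i ⊓ W j
    obtain ⟨A, hA, -⟩ := (he i).exists_eq (inf_le_left : O ≤ W i) (res L (inf_le_right : O ≤ W j) (e j))
    have hO : V ≤ b ⁻¹ᵁ O := fun z hz => ⟨hU i (hi hz), hU j (hj hz)⟩
    refine ⟨rres hO (b.app O A), ?_, ?_⟩
    · have h1 := congrArg (LFFrame.unitSec b L O) hA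
      rw [LFFrame.unitSec_smul, LFFrame.unitSec_res, LFFrame.unitSec_res] at h1
      have h2 := congrArg (res P hO) h1
      rw [res_smul] at h2
      simp only [pe, res_res]
      dsimp only [P, Props.GenPull.pb]
      rw [res_res, res_res] at h2
      exact h2
    · have h1 := congrArg (fun t => rres hO (b.app O t))
        (cross_eq s (inf_le_left : O ≤ W i) (inf_le_right : O ≤ W j) (he i) (hfa i) (hfa j) hA)
      simp only [map_mul, Props.GenPull.app_rres] at h1
      have rr : ∀ {T T' : X'.Opens} (h₁ : T' ≤ T) (h₂ : V ≤ T') (z : Γ(X', T)),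
          rres h₂ (rres h₁ z) = rres (h₂.trans h₁) z := fun h₁ h₂ z => by
        rw [← CommRingCat.comp_apply, ← Functor.map_comp]; rfl
      have h2 := congrArg (OmegaSh.idealSect E V) hw
      rw [Omega.Stalks.idealSect_smul] at h2
      rw [show OmegaSh.idealSect E V (res (ClSub.idealMod E) hj (σ j)) =
          rres hj (OmegaSh.idealSect E (U j).1 (σ j)) from Omega.Stalks.idealSect_map E _ _,
        show OmegaSh.idealSect E V (res (ClSub.idealMod E) hi (σ i)) =
          rres hi (OmegaSh.idealSect E (U i).1 (σ i)) from Omega.Stalks.idealSect_map E _ _, hσf, hσf,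
        rr, rr] at h2
      simp only [rr] at h1 ⊢
      rw [h2] at h1
      refine (mul_cancel_left_mem_nonZeroDivisors (res_basicOpen_mem_nonZeroDivisors (U i).2 (hfU i) hi)).mp ?_
      simp only [rr]
      linear_combination h1
  -- the twisted module with the section cutting out the divisor
  let N := CohB1.tensorMod P (RefHull.homSh (ClSub.idealMod E) (Coh.structureModule X'))
  have hN : PicF.IsInvertible N := AmpleLib.isInvertible_tensorMod (PicCl.isInvertible_pullback b hL)
    (AmpleFam.CanonSection.tensor_dual hE).1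
  let n : ∀ x, Γ(N, (U x).1) := fun x => tmul (pe x) (PicLaw.dualGen (hσ x))
  have hn : ∀ x, IsGen N (U x).1 (n x) := fun x => isGen_tmul (hpe x) (PicLaw.isGen_dualGen (hσ x))
  obtain ⟨τ, hτ⟩ := Props.GenExt.exists_hom_of_cover (L := N) (fun x => (U x).1)
    (fun x _ => Opens.mem_iSup.mpr ⟨x, hxU x⟩) n hn 1 (fun x => rres (hU x) (b.app (W x) (a x))) (by
      intro i j v hv
      let V := (U i).1 ⊓ (U j).1
      obtain ⟨w, hw, -⟩ := (hσ i).exists_eq (inf_le_left : V ≤ (U i).1) (res _ (inf_le_right : V ≤ (U j).1) (σ j))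
      obtain ⟨w', hw', -⟩ := (hσ j).exists_eq (inf_le_right : V ≤ (U j).1) (res _ (inf_le_left : V ≤ (U i).1) (σ i))
      have hww : w' * w = 1 := (hσ i).injective (inf_le_left : V ≤ (U i).1)
        (by rw [mul_smul, ← hw, ← hw', one_smul])
      obtain ⟨A, hA, hAc⟩ := trans i j V inf_le_left inf_le_right w hw
      have hd : res _ (inf_le_right : V ≤ (U j).1) (PicLaw.dualGen (hσ j)) =
          w' • res (RefHull.homSh (ClSub.idealMod E) (Coh.structureModule X')) (inf_le_left : V ≤ (U i).1)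
            (PicLaw.dualGen (hσ i)) := by
        refine PicLaw.eq_of_eval (hσ j) (inf_le_right : V ≤ (U j).1) _ _ fun y => ?_
        rw [PicLaw.smul_apply, PicLaw.res_dualGen_apply, PicLaw.res_dualGen_apply,
          PicLaw.dualAt_gen (hσ j) ⟨y.1, y.2.2⟩, ← PicLaw.germM_res' _ (inf_le_right : V ≤ (U j).1) y.1 y.2 (σ j), hw,
          germM_smul, map_smul, LinearMap.smul_apply, smul_smul, PicLaw.germM_res',
          PicLaw.dualAt_gen (hσ i) ⟨y.1, y.2.1⟩, ← map_mul, mul_comm, hww, map_one, one_smul,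
          ← PicLaw.germM_res' _ (inf_le_right : V ≤ (U j).1) y.1 y.2, ← PicLaw.germM_res' _ (inf_le_left : V ≤ (U i).1) y.1 y.2,
          PicLaw.res_one', PicLaw.res_one']
      have hv' : v = A * w' := by
        refine (hn i).injective (inf_le_left : V ≤ (U i).1) ?_
        rw [← hv]
        dsimp only [n, N]
        rw [res_tmul, res_tmul, hA, hd, tmul_smul_left, tmul_smul_right, smul_smul]
      rw [pow_one, hv']
      linear_combination (-(rres (inf_le_left : V ≤ (U i).1) (rres (hU i) (b.app (W i) (a i))))) * hww + w' * hAc)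
  let D := PicF2.zeroScheme _ τ
  have hTN := AmpleLib.isInvertible_tensorPow hN 1
  have hDU : ∀ x, D.ideal (U x) = Ideal.span {rres (hU x) (b.app (W x) (a x))} := fun x => by
    refine ZeroSchemeLib.zeroScheme_ideal_eq_span hTN τ (U x) (isGen_pw (hn x) 1) ?_
    rw [← (hτ x).1]
    refine Eq.trans ?_ (co_spec (sec τ ⊤) le_top (hn x))
    exact (sec_res τ _).symm
  refine ⟨D, fun x => ⟨U x, hxU x, _, haU x, hDU x⟩, ?_⟩
  choose ρ hρ hρf using fun x => CartDiv.Difference.exists_isGen_ideal D (haU x) (hDU x)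
  refine PicLaw.nonempty_iso_of_transition (fun x => (U x).1) (fun x => ⟨x, hxU x⟩)
    (fun x => tmul (pe x) (ρ x)) (fun x => isGen_tmul (hpe x) (hρ x)) σ hσ ?_
  intro i j V hi hj
  obtain ⟨w, hw, -⟩ := (hσ i).exists_eq hi (res _ hj (σ j))
  obtain ⟨C, hC, -⟩ := (hρ i).exists_eq hi (res _ hj (ρ j))
  obtain ⟨A, hA, hAc⟩ := trans i j V hi hj w hw
  have h2 := congrArg (OmegaSh.idealSect D V) hC
  rw [Omega.Stalks.idealSect_smul] at h2
  rw [show OmegaSh.idealSect D V (res (ClSub.idealMod D) hj (ρ j)) =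
      rres hj (OmegaSh.idealSect D (U j).1 (ρ j)) from Omega.Stalks.idealSect_map D _ _,
    show OmegaSh.idealSect D V (res (ClSub.idealMod D) hi (ρ i)) =
      rres hi (OmegaSh.idealSect D (U i).1 (ρ i)) from Omega.Stalks.idealSect_map D _ _, hρf, hρf] at h2
  refine ⟨w, ?_, hw⟩
  dsimp only
  rw [res_tmul, res_tmul, hA, hC, tmul_smul_left, tmul_smul_right, smul_smul]
  congr 1
  refine (mul_cancel_right_mem_nonZeroDivisors (res_basicOpen_mem_nonZeroDivisors (U i).2 (haU i) hi)).mp ?_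
  rw [hAc, h2]
  ring

end Groth.Agent.S8918
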