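import Groth.Statements.S8921
import Groth.Agent.SmDesc77.Equiv

set_option autoImplicit false
universe u
open CategoryTheory CategoryTheory.Limits AlgebraicGeometry TopologicalSpace
open SDiv

namespace Groth.Agent.S8921

/-- Let i : Z ⟶ Y and j : Y ⟶ X be immersions of schemes with X locally Noetherian, z a point of Z with
images y = i z and x, and a : i^*C_{Y/X} ⟶ C_{Z/X}, b : C_{Z/X} ⟶ C_{Z/Y} the canonical maps of
conormal sheaves. The following are equivalent: (1) i is regular near z and j is regular near y; (2)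
i and j ∘ i are regular near z; (3) j ∘ i is regular near z and the sequence 0 → i^*C_{Y/X} →
C_{Z/X} → C_{Z/Y} → 0 is split short exact over some open neighbourhood of z. Both immersions are
quasi-compact automatically, X being locally Noetherian; the quasi-compactness binders only make the
conormal sheaves available. -/
theorem result {Z Y X : Scheme.{u}} (i : Z ⟶ Y) (j : Y ⟶ X) [IsImmersion i] [IsImmersion j]
    [QuasiCompact i] [QuasiCompact j]
    (a : (Scheme.Modules.pullback i).obj (Omega.conormal j) ⟶ Omega.conormal (i ≫ j))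
    (ha : OmegaSh.IsConormalMap (i ≫ j) j (𝟙 X) i a)
    (b : (Scheme.Modules.pullback (𝟙 Z)).obj (Omega.conormal (i ≫ j)) ⟶ Omega.conormal i)
    (hb : OmegaSh.IsConormalMap i (i ≫ j) j (𝟙 Z) b)
    [IsLocallyNoetherian X] (z : ↥Z) :
    ((RegImm.IsRegularImmersionAt RegImm.Kind.regular i z ∧ RegImm.IsRegularImmersionAt RegImm.Kind.regular j (i z)) ↔
      (RegImm.IsRegularImmersionAt RegImm.Kind.regular i z ∧ RegImm.IsRegularImmersionAt RegImm.Kind.regular (i ≫ j) z)) ∧
    ((RegImm.IsRegularImmersionAt RegImm.Kind.regular i z ∧ RegImm.IsRegularImmersionAt RegImm.Kind.regular (i ≫ j) z) ↔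
      (RegImm.IsRegularImmersionAt RegImm.Kind.regular (i ≫ j) z ∧
        ∃ U : Z.Opens, z ∈ U ∧
          ∀ w : (Scheme.Modules.restrictFunctor U.ι).map a ≫ (Scheme.Modules.restrictFunctor U.ι).map ((Scheme.Modules.pullbackId Z).inv.app (Omega.conormal (i ≫ j)) ≫ b) = 0,
            Nonempty (ShortComplex.mk ((Scheme.Modules.restrictFunctor U.ι).map a) ((Scheme.Modules.restrictFunctor U.ι).map ((Scheme.Modules.pullbackId Z).inv.app (Omega.conormal (i ≫ j)) ≫ b)) w).Splitting)) := by
  haveI : LocallyOfFinitePresentation j := inferInstance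
  have hC : RegImm.IsRegularImmersionAt .regular (i ≫ j) z → (∃ U : Z.Opens, z ∈ U ∧
      ∀ w : (Scheme.Modules.restrictFunctor U.ι).map a ≫ (Scheme.Modules.restrictFunctor U.ι).map ((Scheme.Modules.pullbackId Z).inv.app (Omega.conormal (i ≫ j)) ≫ b) = 0,
        Nonempty (ShortComplex.mk ((Scheme.Modules.restrictFunctor U.ι).map a) ((Scheme.Modules.restrictFunctor U.ι).map ((Scheme.Modules.pullbackId Z).inv.app (Omega.conormal (i ≫ j)) ≫ b)) w).Splitting) →
      RegImm.IsRegularImmersionAt .regular i z ∧ RegImm.IsRegularImmersionAt .regular j (i z) := by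
    rintro hz ⟨U, hzU, hU⟩
    obtain ⟨sp⟩ := hU (by rw [← Functor.map_comp, SmDesc77.comp_eq_zero j i ha hb, Functor.map_zero])
    exact SmDesc77.regularAt_of_split j i ha z ⟨U, sp.r, hzU, sp.f_r⟩ hz
  have hAB : ∀ h : RegImm.IsRegularImmersionAt .regular i z ∧ RegImm.IsRegularImmersionAt .regular j (i z),
      RegImm.IsRegularImmersionAt .regular (i ≫ j) z := fun h => SmDesc77.regularAt_comp j i z h.1 h.2
  refine ⟨⟨fun h => ⟨h.1, hAB h⟩, fun h => ⟨h.1, (hC h.2 (SmDesc77.exists_splitting j i ha hb z h.1)).2⟩⟩,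
    ⟨fun h => ⟨h.2, SmDesc77.exists_splitting j i ha hb z h.1⟩, fun h => ⟨(hC h.1 h.2).1, h.1⟩⟩⟩

end Groth.Agent.S8921
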