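import Groth.Statements.S8922
import Groth.Agent.RG.StrictSub
import Groth.Agent.RG.StrictLP
import Groth.Agent.CohBase.FlatBC.Global
import Groth.Agent.DirImgAff.Basic

set_option autoImplicit false
universe u
open CategoryTheory CategoryTheory.Limits AlgebraicGeometry TopologicalSpace
open SDiv

namespace Groth.Agent.S8922

/-- Powers of the inverse image ideal, and the sections they kill, along an affine morphism. -/
lemma killed_iff {P Q : Scheme.{u}} (g : P ⟶ Q) [IsAffineHom g] (E : Q.IdealSheafData) (N : P.Modules)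
    {M : Q.Modules} (β : M ⟶ (Scheme.Modules.pushforward g).obj N) [IsIso β] (W : Q.affineOpens)
    (m : M.presheaf.obj (Opposite.op W.1)) :
    BlowUp.KilledByPowerNear (E.comap g) N ⟨g ⁻¹ᵁ W.1, W.2.preimage g⟩ (β.app W.1 m) ↔
      BlowUp.KilledByPowerNear E M W m := by
  have hinj : Function.Injective (β.app W.1) := Groth.Agent.QCoh.app_injective_of_mono β W.1
  refine exists_congr fun n => ?_
  have hI : ((E.comap g) ^ n).ideal ⟨g ⁻¹ᵁ W.1, W.2.preimage g⟩ = ((E ^ n).ideal W).map (g.app W.1).hom := by
    rw [← IdealSh.Comap.comap_pow, IdealSh.Comap.ideal_comap_app]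
  rw [hI]
  let y : Γ(N, g ⁻¹ᵁ W.1) := β.app W.1 m
  change (∀ a : Γ(P, g ⁻¹ᵁ W.1), a ∈ ((E ^ n).ideal W).map (g.app W.1).hom → a • y = 0) ↔ _
  have key : ∀ a : Γ(Q, W.1), β.app W.1 (a • m) = (g.app W.1).hom a • y :=
    fun a => Scheme.Modules.Hom.app_smul β a m
  refine ⟨fun h a ha => hinj ?_, fun h a ha => ?_⟩
  · rw [map_zero]
    exact (key a).trans (h _ (Ideal.mem_map_of_mem _ ha))
  · induction ha using Submodule.span_induction with
    | mem z hz =>
      obtain ⟨c, hc, rfl⟩ := hz
      exact (key c).symm.trans ((congrArg _ (h c hc)).trans (map_zero _))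
    | zero => exact zero_smul _ _
    | add a b _ _ iha ihb => exact (add_smul a b y).trans (by rw [iha, ihb, add_zero])
    | smul r b _ ihb => exact (mul_smul r b y).trans (by rw [ihb, smul_zero])

/-- Let S be a scheme, 𝓘 a quasi-coherent ideal sheaf on S with closed subscheme Z, b : S' ⟶ S a blowing
up of S in Z, g : X ⟶ Y an affine morphism of schemes over S, F a quasi-coherent O_X-module, and π :
pr_X^*F ⟶ F' a strict transform of F along b (on X ×_S S'). Write g' : X ×_S S' ⟶ Y ×_S S' for the
base change of g. Then g'_*F' is a strict transform of g_*F along b: there is an epimorphism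
pr_Y^*(g_*F) ⟶ g'_*F' whose kernel consists, affine-locally, exactly of the sections annihilated by
a power of the inverse image of 𝓘. The published statement identifies g'_*F' with the strict
transform through the canonical base-change isomorphism; this row asserts only that some epimorphism
from pr_Y^*(g_*F) onto g'_*F' has the strict-transform property. -/
theorem result {X Y S S' : Scheme.{u}} (hX : X ⟶ S) (hY : Y ⟶ S) (g : X ⟶ Y) [IsAffineHom g]
    (h : g ≫ hY = hX) (𝓘 : S.IdealSheafData) (b : S' ⟶ S) (hb : BlowUp.IsBlowUp b 𝓘) (F : X.Modules) (hF : Coh.IsQCoh F)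
    (F' : (pullback hX b).Modules) (π : (Scheme.Modules.pullback (pullback.fst hX b)).obj F ⟶ F')
    (hπ : BlowUp.IsStrictTransform (pullback.fst hX b) (𝓘.comap hX) F F' π) :
    ∃ π' : (Scheme.Modules.pullback (pullback.fst hY b)).obj ((Scheme.Modules.pushforward g).obj F) ⟶
        (Scheme.Modules.pushforward (pullback.map hX b hY b g (𝟙 S') (𝟙 S)
          ((Category.comp_id hX).trans h.symm) ((Category.comp_id b).trans (Category.id_comp b).symm))).obj F',
      BlowUp.IsStrictTransform (pullback.fst hY b) (𝓘.comap hY) ((Scheme.Modules.pushforward g).obj F)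
        ((Scheme.Modules.pushforward (pullback.map hX b hY b g (𝟙 S') (𝟙 S)
          ((Category.comp_id hX).trans h.symm) ((Category.comp_id b).trans (Category.id_comp b).symm))).obj F') π' := by
  haveI : F.IsQuasicoherent := hF
  haveI : Epi π := hπ.1
  let g' := pullback.map hX b hY b g (𝟙 S') (𝟙 S)
    ((Category.comp_id hX).trans h.symm) ((Category.comp_id b).trans (Category.id_comp b).symm)
  have w : pullback.fst hX b ≫ g = g' ≫ pullback.fst hY b := (pullback.lift_fst _ _ _).symm
  have hs : g' ≫ pullback.snd hY b = pullback.snd hX b := (pullback.lift_snd _ _ _).trans (Category.comp_id _)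
  have H : IsPullback (pullback.fst hX b) g' g (pullback.fst hY b) := by
    refine IsPullback.of_bot ?_ w (IsPullback.of_hasPullback hY b)
    rw [hs, h]
    exact IsPullback.of_hasPullback hX b
  haveI : IsAffineHom g' := MorphismProperty.of_isPullback H ‹IsAffineHom g›
  haveI := CohBase.FlatBC.isIso_bc0_of_affine g (pullback.fst hY b) (pullback.fst hX b) g' F H
  let β := CohBC.bc0 g (pullback.fst hY b) g' (pullback.fst hX b) H.w F
  haveI : F'.IsQuasicoherent :=
    RG.StrictLP.isQuasicoherent_of_kills (π := π)
      (RG.StrictSub.isLocPrincipal_exceptional hb pullback.condition) hπ.2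
  haveI := DirImgAff.epi_pushforward g' π
  refine ⟨β ≫ (Scheme.Modules.pushforward g').map π, inferInstance, fun W m => ?_⟩
  have hE : (𝓘.comap hX).comap (pullback.fst hX b) = ((𝓘.comap hY).comap (pullback.fst hY b)).comap g' := by
    rw [← Scheme.IdealSheafData.comap_comp, ← Scheme.IdealSheafData.comap_comp, ← Scheme.IdealSheafData.comap_comp]
    exact congrArg _ ((congrArg (pullback.fst hX b ≫ ·) h.symm).trans
      ((Category.assoc _ _ _).symm.trans ((congrArg (· ≫ hY) w).trans rfl)))
  refine (hπ.2 ⟨g' ⁻¹ᵁ W.1, W.2.preimage g'⟩ (β.app W.1 m)).trans ?_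
  rw [BlowUp.exceptional, hE]
  exact killed_iff g' _ _ β W m

end Groth.Agent.S8922
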