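import Groth.Statements.S8926
import Groth.Agent.InjHull.Basic

set_option autoImplicit false
universe u
open InjHull

namespace Groth.Agent.S8926

open scoped TensorProduct

/-- Suppose R → S is an epimorphism of rings and E is an S-module whose underlying R-module (via
restriction of scalars) is injective; then E is injective as an S-module as well. -/
theorem result (R S : Type u) [CommRing R] [CommRing S] [Algebra R S] [Algebra.IsEpi R S] (E : Type u) [AddCommGroup E] [Module S E] [Module R E] [IsScalarTower R S E] [Module.Injective R E] : Module.Injective S E := by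
  refine ⟨fun X Y _ _ _ _ i hi g => ?_⟩
  letI : Module R X := Module.compHom X (algebraMap R S)
  haveI : IsScalarTower R S X := IsScalarTower.of_algebraMap_smul fun _ _ => rfl
  letI : Module R Y := Module.compHom Y (algebraMap R S)
  haveI : IsScalarTower R S Y := IsScalarTower.of_algebraMap_smul fun _ _ => rfl
  obtain ⟨l, hl⟩ := Module.Injective.out (i.restrictScalars R) hi (g.restrictScalars R)
  refine ⟨{ toFun := l, map_add' := map_add l, map_smul' := fun a y => ?_ }, hl⟩
  have h1 : (1 : S) ⊗ₜ[R] (a • y) = a ⊗ₜ[R] y :=
    Algebra.injective_lift_lsmul R S Y (by simp)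
  let Φ : S ⊗[R] Y →ₗ[R] E :=
    (TensorProduct.lift (LinearMap.restrictScalars₁₂ R R (LinearMap.lsmul S E))).comp (l.lTensor S)
  simpa [Φ] using congrArg Φ h1

end Groth.Agent.S8926
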