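import Groth.Statements.S8927
import Mathlib
-- import your own Groth.Agent.* helpers here

set_option autoImplicit false
universe u
open Disc

namespace Groth.Agent.S8927

/-- For a map A → B of Noetherian rings such that the localization B_q is flat over A for every
associated prime q of B, every nonzerodivisor of A maps to a nonzerodivisor of B. -/
theorem result (A B : Type u) [CommRing A] [CommRing B] [IsNoetherianRing A] [IsNoetherianRing B] [Algebra A B] (h3 : ∀ (q : Ideal B) [q.IsPrime], IsAssociatedPrime q B → Module.Flat A (Localization.AtPrime q)) : nonZeroDivisors A ≤ (nonZeroDivisors B).comap (algebraMap A B) := by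
  intro a ha
  show algebraMap A B a ∈ nonZeroDivisors B
  by_contra h
  have hmem : algebraMap A B a ∈ ⋃ q ∈ associatedPrimes B B, (q : Set B) := by
    rw [biUnion_associatedPrimes_eq_compl_nonZeroDivisors]
    exact h
  simp only [Set.mem_iUnion, SetLike.mem_coe] at hmem
  obtain ⟨q, hq, haq⟩ := hmem
  have := hq.isPrime
  have hf := h3 q hq
  obtain ⟨b, hb⟩ := (isAssociatedPrime_iff.1 hq).2
  have hmul : b * algebraMap A B a = 0 := by
    rw [hb] at haq
    have := (Submodule.mem_colon_singleton).1 haq
    simpa [mul_comm] using this
  have hreg : IsSMulRegular (Localization.AtPrime q) a :=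
    (Module.Flat.isSMulRegular_of_nonZeroDivisors (M := Localization.AtPrime q) ha)
  have h0 : algebraMap B (Localization.AtPrime q) b = 0 := by
    apply hreg
    simp only [smul_zero]
    rw [Algebra.smul_def, IsScalarTower.algebraMap_apply A B (Localization.AtPrime q), ← map_mul, mul_comm, hmul, map_zero]
  obtain ⟨⟨s, hs⟩, hsb⟩ := (IsLocalization.map_eq_zero_iff q.primeCompl _ _).1 h0
  apply hs
  rw [SetLike.mem_coe, hb, Submodule.mem_colon_singleton]
  simpa using hsb

end Groth.Agent.S8927
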