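import Groth.Statements.S8928
import Mathlib
-- import your own Groth.Agent.* helpers here

set_option autoImplicit false
universe u
open scoped TensorProduct
open Disc

namespace Groth.Agent.S8928

open TensorProduct

attribute [local instance] Algebra.TensorProduct.rightAlgebra

theorem flat_atPrime {A B : Type u} [CommRing A] [CommRing B] [Algebra A B]
    (h2 : Module.Flat (FractionRing A) (FractionRing A ⊗[A] B)) (q : Ideal B) [q.IsPrime]
    (hle : Algebra.algebraMapSubmonoid B (nonZeroDivisors A) ≤ q.primeCompl) :
    Module.Flat A (Localization.AtPrime q) := by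
  let T := FractionRing A ⊗[A] B
  have hfQ : Module.Flat A (FractionRing A) := IsLocalization.flat _ (nonZeroDivisors A)
  have hT : Module.Flat A T := Module.Flat.trans A (FractionRing A) T
  letI : Algebra T (Localization.AtPrime q) :=
    IsLocalization.localizationAlgebraOfSubmonoidLe T (Localization.AtPrime q)
      (Algebra.algebraMapSubmonoid B (nonZeroDivisors A)) q.primeCompl hle
  haveI htB : IsScalarTower B T (Localization.AtPrime q) :=
    IsLocalization.localization_isScalarTower_of_submonoid_le _ _ _ _ hle
  haveI : IsLocalization (q.primeCompl.map (algebraMap B T)) (Localization.AtPrime q) :=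
    IsLocalization.isLocalization_of_submonoid_le T _ (Algebra.algebraMapSubmonoid B (nonZeroDivisors A)) _ hle
  haveI : Module.Flat T (Localization.AtPrime q) :=
    IsLocalization.flat _ (q.primeCompl.map (algebraMap B T))
  haveI : IsScalarTower A B T := IsScalarTower.of_algebraMap_eq fun a => by
    show algebraMap A (FractionRing A) a ⊗ₜ[A] (1 : B) = (1 : FractionRing A) ⊗ₜ[A] algebraMap A B a
    rw [Algebra.algebraMap_eq_smul_one, Algebra.algebraMap_eq_smul_one, smul_tmul]
  haveI : IsScalarTower A T (Localization.AtPrime q) := IsScalarTower.of_algebraMap_eq fun a =>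
    (IsScalarTower.algebraMap_apply A B (Localization.AtPrime q) a).trans
      ((IsScalarTower.algebraMap_apply B T (Localization.AtPrime q) _).trans
        (congrArg (algebraMap T (Localization.AtPrime q)) (IsScalarTower.algebraMap_apply A B T a).symm))
  exact Module.Flat.trans A T (Localization.AtPrime q) 

/-- Let A → B be a map of Noetherian rings such that nonzerodivisors of A map to nonzerodivisors of B
and Q(A) ⊗_A B is flat over the total ring of fractions Q(A). Then B_q is flat over A for every
associated prime q of B and for every prime q of B lying over an associated prime of A. -/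
theorem result (A B : Type u) [CommRing A] [CommRing B] [IsNoetherianRing A] [IsNoetherianRing B] [Algebra A B] (h1 : nonZeroDivisors A ≤ (nonZeroDivisors B).comap (algebraMap A B)) (h2 : Module.Flat (FractionRing A) (FractionRing A ⊗[A] B)) : (∀ (q : Ideal B) [q.IsPrime], IsAssociatedPrime q B → Module.Flat A (Localization.AtPrime q)) ∧ (∀ (q : Ideal B) [q.IsPrime], IsAssociatedPrime (q.comap (algebraMap A B)) A → Module.Flat A (Localization.AtPrime q)) := by
  have hzd : ∀ (R : Type u) [CommRing R] [IsNoetherianRing R] (p : Ideal R), IsAssociatedPrime p R →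
      ∀ x ∈ p, x ∉ nonZeroDivisors R := fun R _ _ p hp x hx => by
    have : x ∈ ⋃ p ∈ associatedPrimes R R, (p : Set R) := Set.mem_biUnion hp hx
    rw [biUnion_associatedPrimes_eq_compl_nonZeroDivisors] at this
    exact this
  refine ⟨fun q _ hq => flat_atPrime h2 q ?_, fun q _ hq => flat_atPrime h2 q ?_⟩
  · rintro _ ⟨a, ha, rfl⟩
    exact fun hmem => hzd B q hq _ hmem (h1 ha)
  · rintro _ ⟨a, ha, rfl⟩
    exact fun hmem => hzd A _ hq a hmem ha

end Groth.Agent.S8928
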