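import Groth.Statements.S8929
import Mathlib
-- import your own Groth.Agent.* helpers here

set_option autoImplicit false
universe u
open scoped TensorProduct
open Disc

namespace Groth.Agent.S8929

open TensorProduct

attribute [local instance] Algebra.TensorProduct.rightAlgebra

theorem flat_core {A B : Type u} [CommRing A] [CommRing B] [IsNoetherianRing A] [Algebra A B]
    [Algebra.HasGoingUp A B]
    (h4 : ∀ (q : Ideal B) [q.IsPrime], IsAssociatedPrime (q.comap (algebraMap A B)) A →
      Module.Flat A (Localization.AtPrime q)) :
    Module.Flat (FractionRing A) (FractionRing A ⊗[A] B) := by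
  let T := FractionRing A ⊗[A] B
  let M := Algebra.algebraMapSubmonoid B (nonZeroDivisors A)
  haveI : IsScalarTower A B T := IsScalarTower.of_algebraMap_eq fun a => by
    show algebraMap A (FractionRing A) a ⊗ₜ[A] (1 : B) = (1 : FractionRing A) ⊗ₜ[A] algebraMap A B a
    rw [Algebra.algebraMap_eq_smul_one, Algebra.algebraMap_eq_smul_one, smul_tmul]
  rw [Module.flat_iff_of_isLocalization (FractionRing A) (nonZeroDivisors A)]
  refine Module.flat_of_isLocalized_maximal (R := A) T T (fun P _ => Localization.AtPrime P)
    (fun P _ => Algebra.linearMap T (Localization.AtPrime P)) fun P hP => ?_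
  let q := P.comap (algebraMap B T)
  haveI : q.IsPrime := Ideal.IsPrime.comap _
  have hdisj : Disjoint (M : Set B) (q : Set B) :=
    (IsLocalization.isPrime_iff_isPrime_disjoint M T P).1 hP.isPrime |>.2
  have hsub : ((q.comap (algebraMap A B) : Ideal A) : Set A) ⊆
      ⋃ p ∈ (↑(associatedPrimes.finite A A).toFinset : Set (Ideal A)), (p : Set A) := by
    rw [Set.Finite.coe_toFinset, biUnion_associatedPrimes_eq_compl_nonZeroDivisors]
    intro a ha hnz
    exact Set.disjoint_left.1 hdisj ⟨a, hnz, rfl⟩ ha
  obtain ⟨p, hp, hle⟩ := (Ideal.subset_union_prime (f := fun p : Ideal A => p) ⊥ ⊥ fun p hp _ _ =>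
    ((associatedPrimes.finite A A).mem_toFinset.1 hp).isPrime).1 hsub
  have hpa := (associatedPrimes.finite A A).mem_toFinset.1 hp
  haveI := hpa.isPrime
  haveI : q.LiesOver (q.comap (algebraMap A B)) := ⟨rfl⟩
  obtain ⟨Q, hqQ, hQp, hQo⟩ := Ideal.exists_ideal_ge_liesOver_of_le q hle
  have hdQ : Disjoint (M : Set B) (Q : Set B) := by
    rw [Set.disjoint_left]
    rintro _ ⟨a, ha, rfl⟩ haQ
    have hap : a ∈ p := by rw [hQo.over]; exact haQ
    have : a ∈ ⋃ p ∈ associatedPrimes A A, (p : Set A) := Set.mem_biUnion hpa hap
    rw [biUnion_associatedPrimes_eq_compl_nonZeroDivisors] at this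
    exact this ha
  have hmap : P ≤ Q.map (algebraMap B T) := by
    rw [← IsLocalization.map_comap M T P]
    exact Ideal.map_mono hqQ
  have hQT : (Q.map (algebraMap B T)).IsPrime :=
    IsLocalization.isPrime_of_isPrime_disjoint M T Q hQp hdQ
  have hPQ : P = Q.map (algebraMap B T) := hP.eq_of_le hQT.ne_top hmap
  have hqeq : q = Q := by
    show P.comap (algebraMap B T) = Q
    rw [hPQ]
    exact IsLocalization.comap_map_of_isPrime_disjoint M T hQp hdQ
  have hflat : Module.Flat A (Localization.AtPrime q) := h4 q (by
    have : q.comap (algebraMap A B) = p := by rw [hqeq]; exact hQo.over.symm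
    rw [this]; exact hpa)
  haveI := IsLocalization.isLocalization_isLocalization_atPrime_isLocalization M (Localization.AtPrime P) P
  let e := IsLocalization.algEquiv q.primeCompl (Localization.AtPrime q) (Localization.AtPrime P)
  exact Module.Flat.of_linearEquiv ((e.toLinearEquiv.restrictScalars A).symm) 

/-- Let A → B be a map of Noetherian rings with the going-up property. If B_q is flat over A for every
associated prime q of B and for every prime q of B lying over an associated prime of A, then Q(A)
⊗_A B is flat over the total ring of fractions Q(A). -/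
theorem result (A B : Type u) [CommRing A] [CommRing B] [IsNoetherianRing A] [IsNoetherianRing B] [Algebra A B] [Algebra.HasGoingUp A B] (h3 : ∀ (q : Ideal B) [q.IsPrime], IsAssociatedPrime q B → Module.Flat A (Localization.AtPrime q)) (h4 : ∀ (q : Ideal B) [q.IsPrime], IsAssociatedPrime (q.comap (algebraMap A B)) A → Module.Flat A (Localization.AtPrime q)) : Module.Flat (FractionRing A) (FractionRing A ⊗[A] B) := by
  exact flat_core h4

end Groth.Agent.S8929
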