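import Groth.Statements.S8930
import Mathlib
-- import your own Groth.Agent.* helpers here

set_option autoImplicit false
universe u
open AlgebraicGeometry
open Disc

namespace Groth.Agent.S8930

open CategoryTheory

theorem away_of_openImm {R S : Type u} [CommRing R] [CommRing S] [Algebra R S]
    (h : IsOpenImmersion (Spec.map (CommRingCat.ofHom (algebraMap R S)))) (f : R)
    (hsub : ∀ p : PrimeSpectrum R, f ∉ p.asIdeal → ∃ q : PrimeSpectrum S, PrimeSpectrum.comap (algebraMap R S) q = p) :
    IsLocalization.Away f (Localization.Away (algebraMap R S f)) := by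
  let Sg := Localization.Away (algebraMap R S f)
  let φ : CommRingCat.of R ⟶ CommRingCat.of Sg := CommRingCat.ofHom (algebraMap R Sg)
  let ψ : CommRingCat.of R ⟶ CommRingCat.of (Localization.Away f) :=
    CommRingCat.ofHom (algebraMap R (Localization.Away f))
  have hS : IsOpenImmersion (Spec.map (CommRingCat.ofHom (algebraMap S Sg))) :=
    IsOpenImmersion.of_isLocalization (algebraMap R S f)
  have hφ : IsOpenImmersion (Spec.map φ) := by
    have : φ = CommRingCat.ofHom (algebraMap R S) ≫ CommRingCat.ofHom (algebraMap S Sg) := by
      ext x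
      exact IsScalarTower.algebraMap_apply R S Sg x
    rw [this, Spec.map_comp]
    infer_instance
  have hψ : IsOpenImmersion (Spec.map ψ) := IsOpenImmersion.of_isLocalization f
  have hr : Set.range (PrimeSpectrum.comap (algebraMap R Sg)) = PrimeSpectrum.basicOpen f := by
    ext p
    constructor
    · rintro ⟨y, rfl⟩
      show algebraMap R Sg f ∉ y.asIdeal
      rw [IsScalarTower.algebraMap_apply R S Sg]
      exact fun hy => y.isPrime.ne_top (Ideal.eq_top_of_isUnit_mem _ hy
        (IsLocalization.map_units Sg (⟨_, Submonoid.mem_powers _⟩ : Submonoid.powers (algebraMap R S f))))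
    · intro hp
      obtain ⟨q, hq⟩ := hsub p hp
      obtain ⟨y, hy⟩ := (PrimeSpectrum.localization_away_comap_range Sg (algebraMap R S f)).ge
        (show q ∈ (PrimeSpectrum.basicOpen (algebraMap R S f) : Set (PrimeSpectrum S)) from by
          show f ∉ (PrimeSpectrum.comap (algebraMap R S) q).asIdeal
          rw [hq]; exact hp)
      refine ⟨y, ?_⟩
      rw [IsScalarTower.algebraMap_eq R S Sg, PrimeSpectrum.comap_comp_apply, hy, hq]
  have H : Set.range (Spec.map ψ) = Set.range (Spec.map φ) :=
    (PrimeSpectrum.localization_away_comap_range (Localization.Away f) f).trans hr.symm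
  let i : CommRingCat.of Sg ≅ CommRingCat.of (Localization.Away f) := (Scheme.Spec.preimageIso
    (IsOpenImmersion.isoOfRangeEq (Spec.map ψ) (Spec.map φ) H)).unop
  have hfac : φ = ψ ≫ i.inv := by
    apply Spec.map_injective
    simp [i, ← Scheme.Spec_map]
  let e : Localization.Away f ≃ₐ[R] Sg := AlgEquiv.ofRingEquiv (f := i.commRingCatIsoToRingEquiv.symm)
    fun x => (congrArg (fun t => t.hom x) hfac).symm
  exact IsLocalization.isLocalization_of_algEquiv (Submonoid.powers f) e 

/-- Given two factorizations A → B' → B and A → B'' → B of a ring map with A → B' and A → B'' finite and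
Spec(B) → Spec(B'), Spec(B) → Spec(B'') open immersions, there is an A-subalgebra C of B which is
finite over A, contains the images of B' and B'', and is such that Spec(B) → Spec(C) is an open
immersion. (Such an A → B is quasi-finite; that hypothesis of the published statement is implied by
the factorizations and is not repeated.) -/
theorem result (A B B' B'' : Type u) [CommRing A] [CommRing B] [CommRing B'] [CommRing B''] [Algebra A B] [Algebra A B'] [Algebra A B''] [Algebra B' B] [Algebra B'' B] [IsScalarTower A B' B] [IsScalarTower A B'' B] [Module.Finite A B'] [Module.Finite A B''] (h' : IsOpenImmersion (Spec.map (CommRingCat.ofHom (algebraMap B' B)))) (h'' : IsOpenImmersion (Spec.map (CommRingCat.ofHom (algebraMap B'' B)))) : ∃ C : Subalgebra A B, Module.Finite A C ∧ Set.range (algebraMap B' B) ⊆ (C : Set B) ∧ Set.range (algebraMap B'' B) ⊆ (C : Set B) ∧ IsOpenImmersion (Spec.map (CommRingCat.ofHom C.val.toRingHom)) := by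
  let C : Subalgebra A B := (IsScalarTower.toAlgHom A B' B).range ⊔ (IsScalarTower.toAlgHom A B'' B).range
  have hfin : Module.Finite A C := by
    haveI : Module.Finite A (IsScalarTower.toAlgHom A B' B).range :=
      Module.Finite.of_surjective (IsScalarTower.toAlgHom A B' B).rangeRestrict.toLinearMap
        (AlgHom.rangeRestrict_surjective _)
    haveI : Module.Finite A (IsScalarTower.toAlgHom A B'' B).range :=
      Module.Finite.of_surjective (IsScalarTower.toAlgHom A B'' B).rangeRestrict.toLinearMap
        (AlgHom.rangeRestrict_surjective _)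
    exact Subalgebra.finite_sup _ _
  have hmem : ∀ b, algebraMap B' B b ∈ C := fun b =>
    (le_sup_left : (IsScalarTower.toAlgHom A B' B).range ≤ C) ⟨b, rfl⟩
  refine ⟨C, hfin, ?_, ?_, ?_⟩
  · rintro _ ⟨b, rfl⟩; exact hmem b
  · rintro _ ⟨b, rfl⟩; exact (le_sup_right : (IsScalarTower.toAlgHom A B'' B).range ≤ C) ⟨b, rfl⟩
  have hinj : Function.Injective (PrimeSpectrum.comap (algebraMap B' B)) := h'.base_open.injective
  refine IsOpenImmersion.of_forall_source_exists _ ?_ fun x => ?_
  · intro p q hpq
    apply hinj
    refine PrimeSpectrum.ext (Ideal.ext fun b => ?_)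
    have := congrArg (fun t : PrimeSpectrum C => (⟨_, hmem b⟩ : C) ∈ t.asIdeal) hpq
    exact iff_of_eq this
  have hU : IsOpen (Set.range (PrimeSpectrum.comap (algebraMap B' B))) := h'.base_open.isOpen_range
  obtain ⟨_, ⟨_, ⟨f, rfl⟩, rfl⟩, hxf, hfU⟩ :=
    PrimeSpectrum.isBasis_basic_opens.exists_subset_of_mem_open
      (show PrimeSpectrum.comap (algebraMap B' B) x ∈ Set.range _ from ⟨x, rfl⟩) hU
  let g : B := algebraMap B' B f
  have hloc := away_of_openImm h' f fun p hp => hfU hp
  let cf : C := ⟨g, hmem f⟩
  have hi : IsOpenImmersion (Spec.map (CommRingCat.ofHom (algebraMap B (Localization.Away g)))) :=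
    IsOpenImmersion.of_isLocalization g
  refine ⟨_, Spec.map (CommRingCat.ofHom (algebraMap B (Localization.Away g))), hi, ?_, ?_⟩
  · exact (PrimeSpectrum.localization_away_comap_range (Localization.Away g) g).ge hxf
  rw [← Spec.map_comp]
  letI : Algebra C (Localization.Away g) := ((algebraMap B (Localization.Away g)).comp C.val.toRingHom).toAlgebra
  have : IsLocalization.Away cf (Localization.Away g) := by
    refine IsLocalization.Away.mk cf ?_ ?_ ?_
    · exact IsLocalization.Away.algebraMap_isUnit (S := Localization.Away g) g
    · intro z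
      obtain ⟨n, b, hb⟩ := @IsLocalization.Away.surj B' _ (Localization.Away g) _ _ f hloc z
      refine ⟨n, ⟨_, hmem b⟩, ?_⟩
      rw [IsScalarTower.algebraMap_apply B' B (Localization.Away g), IsScalarTower.algebraMap_apply B' B (Localization.Away g)] at hb
      exact hb
    · intro a b hab
      obtain ⟨n, hn⟩ := IsLocalization.Away.exists_of_eq (S := Localization.Away g) g hab
      exact ⟨n, Subtype.ext hn⟩
  exact IsOpenImmersion.of_isLocalization (S := Localization.Away g) cf

end Groth.Agent.S8930
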