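import Groth.Statements.S8932
import Groth.Agent.DualCx.GorFibre
import Mathlib.RingTheory.KrullDimension.Polynomial

set_option autoImplicit false
universe u
open CategoryTheory
open scoped TensorProduct
attribute [local instance] HasDerivedCategory.standard
open Dual

namespace Groth.Agent.S8932

/-- For a field extension K/k, a finite type k-algebra A and a dualizing complex ω for A, the derived
base change of ω along A → K ⊗_k A is a dualizing complex for K ⊗_k A (the derived base change
functor being assumed to exist). -/
theorem result (k K : Type u) [Field k] [Field K] [Algebra k K] (A : Type u) [CommRing A] [Algebra k A] [Algebra.FiniteType k A] [DRing.HasLBaseChange (Algebra.TensorProduct.includeRight : A →ₐ[k] K ⊗[k] A).toRingHom] (ω : Dual.D A) (hω : Dual.IsDualizing A ω) : Dual.IsDualizing (K ⊗[k] A) ((DRing.LBaseChange (Algebra.TensorProduct.includeRight : A →ₐ[k] K ⊗[k] A).toRingHom).obj ω) := by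
  algebraize [(Algebra.TensorProduct.includeRight : A →ₐ[k] K ⊗[k] A).toRingHom]
  let e : K ⊗[k] A ≃ₐ[A] A ⊗[k] K :=
    AlgEquiv.ofRingEquiv (f := (Algebra.TensorProduct.comm k K A).toRingEquiv) fun a => rfl
  have : Module.Flat A (K ⊗[k] A) := Module.Flat.of_linearEquiv e.toLinearEquiv
  have : IsNoetherianRing A := hω.isNoetherianRing
  have : IsNoetherianRing (K ⊗[k] A) := Algebra.FiniteType.isNoetherianRing K (K ⊗[k] A)
  obtain ⟨n, f, hf⟩ := Algebra.FiniteType.iff_quotient_mvPolynomial''.mp
    (inferInstance : Algebra.FiniteType K (K ⊗[k] A))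
  obtain ⟨ec⟩ := DualCx.FlatBC.nonempty_LBaseChange (A := A) (B := K ⊗[k] A) ω
  refine DualCx.FlatBC.isDualizing_of_iso ec.symm (DualCx.GorFibre.isDualizing hω (fun p _ => ?_) n
    fun m hm => ?_)
  · have : Algebra.EssFiniteType A p.ResidueField :=
      .comp A (Localization.AtPrime p) p.ResidueField
    have : Algebra.EssFiniteType k p.ResidueField := .comp k A p.ResidueField
    exact Gor.Ring.isGorensteinRing_of_ringEquiv
      ((Algebra.TensorProduct.comm k K p.ResidueField).toRingEquiv.trans
        (((Algebra.TensorProduct.cancelBaseChange k A A p.ResidueField K).symm.toRingEquiv).trans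
          (Algebra.TensorProduct.congr (AlgEquiv.refl (R := A) (A₁ := p.ResidueField)) e.symm).toRingEquiv))
      (Gor.Ring.isGorensteinRing_fg_field_tensor k p.ResidueField K)
  · have : m.IsPrime := hm.isPrime
    rw [IsLocalization.AtPrime.ringKrullDim_eq_height m (Localization.AtPrime m)]
    refine (Ideal.height_le_ringKrullDim_of_ne_top hm.ne_top).trans
      ((ringKrullDim_le_of_surjective f.toRingHom hf).trans (le_of_eq ?_))
    rw [MvPolynomial.ringKrullDim_of_isNoetherianRing, ringKrullDim_eq_zero_of_field, zero_add, Nat.card_fin]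

end Groth.Agent.S8932
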