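import Groth.Statements.S8933
import Groth.Agent.S1812
import Groth.Agent.DRing.Devissage

set_option autoImplicit false
universe u
open CategoryTheory CategoryTheory.Limits
attribute [local instance] HasDerivedCategory.standard
open LocCoh

namespace Groth.Agent.S8933

/-- For a ring A, a finitely generated ideal I and a complex K of A-modules such that multiplication by
some f ∈ I is bijective on every term of K, the object RΓ_I(K) of D(A) is zero; here RΓ_I is the
right derived functor of the I-power torsion functor, assumed to exist. -/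
theorem result (A : Type u) [CommRing A] (I : Ideal A) (hI : I.FG) [DRing.HasRgammaI I] (K : CochainComplex (ModuleCat.{u} A) ℤ) (f : A) (hf : f ∈ I) (hK : ∀ n : ℤ, Function.Bijective (fun x : K.X n => f • x)) : IsZero ((DRing.RgammaI I).obj (DerivedCategory.Q.obj K)) := by
  refine Groth.Agent.DRing.Devissage.isZero_of_subsingleton_HD fun q => ?_
  obtain ⟨e⟩ := Groth.Agent.S1812.result A I hI (DerivedCategory.Q.obj K) q
  have key : ∀ (n : ℕ) (φ : Dual.inD A (A ⧸ I ^ n) ⟶
      DerivedCategory.Q.obj ((shiftFunctor (CochainComplex (ModuleCat.{u} A) ℤ) q).obj K)), φ = 0 := by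
    intro n φ
    let K' := (shiftFunctor (CochainComplex (ModuleCat.{u} A) ℤ) q).obj K
    have hb : ∀ (m : ℕ) (j : ℤ), Function.Bijective (fun x : K'.X j => f ^ m • x) := by
      intro m j
      induction m with
      | zero =>
        simp only [pow_zero, one_smul]
        exact Function.bijective_id
      | succ m ih =>
        simp only [pow_succ, mul_smul]
        exact ih.comp (hK (j + q))
    have : ∀ j, IsIso ((f ^ n • 𝟙 K' : K' ⟶ K').f j) := fun j =>
      (ConcreteCategory.isIso_iff_bijective _).2 (hb n j)
    have : IsIso (f ^ n • 𝟙 K' : K' ⟶ K') := HomologicalComplex.Hom.isIso_of_components _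
    have h := congrArg (· ≫ φ) (Groth.Agent.DualCx.TorsColim.pow_smul_qD I (Ideal.pow_mem_pow hf n))
    rw [Linear.smul_comp, Category.id_comp, Limits.zero_comp] at h
    rw [← cancel_mono (DerivedCategory.Q.map (f ^ n • 𝟙 K' : K' ⟶ K')), Limits.zero_comp,
      Functor.map_smul, CategoryTheory.Functor.map_id, Linear.comp_smul]
    exact (congrArg (f ^ n • ·) (Category.comp_id φ)).trans h
  let θ := Groth.Agent.DualCx.TorsColim.congr I
    (((DerivedCategory.Q (C := ModuleCat.{u} A)).commShiftIso q).app K)
  have : Subsingleton (Groth.Agent.DualCx.TorsColim.L I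
      (DerivedCategory.Q.obj ((shiftFunctor (CochainComplex (ModuleCat.{u} A) ℤ) q).obj K))) :=
    ⟨fun x y => by
      obtain ⟨n, a, b, rfl, rfl⟩ := Groth.Agent.DualCx.TorsColim.exists_rep₂ I x y
      rw [key n a, key n b]⟩
  exact e.toEquiv.subsingleton_congr.2 (θ.toEquiv.subsingleton_congr.1 this)

end Groth.Agent.S8933
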