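import Groth.Statements.S8935
import Groth.Agent.NoetherDiff.GCI
import Mathlib.RingTheory.Jacobson.Artinian
-- import your own Groth.Agent.* helpers here

set_option autoImplicit false
universe u
open Disc

namespace Groth.Agent.S8935

/-- Let k be a field and B = k[x_1, …, x_n]/(f_1, …, f_n), a global complete intersection with as many
equations as variables, of Krull dimension 0. Then ω_{B/k} = Hom_k(B, k), with B acting through the
argument, is an invertible B-module; since B is Artinian this means it is free of rank one, which is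
the form stated. -/
theorem result (k : Type u) [Field k] (n : ℕ) (f : Fin n → MvPolynomial (Fin n) k) (h0 : ringKrullDim (MvPolynomial (Fin n) k ⧸ Ideal.span (Set.range f)) = 0) : Nonempty (Disc.Omega k (MvPolynomial (Fin n) k ⧸ Ideal.span (Set.range f)) ≃ₗ[MvPolynomial (Fin n) k ⧸ Ideal.span (Set.range f)] (MvPolynomial (Fin n) k ⧸ Ideal.span (Set.range f))) := by
  let I := Ideal.span (Set.range f)
  have : Ring.KrullDimLE 0 (MvPolynomial (Fin n) k ⧸ I) := Ring.krullDimLE_iff.2 h0.le
  have : Module.Finite k (MvPolynomial (Fin n) k ⧸ I) := (Module.finite_iff_krullDimLE_zero k _).2 inferInstance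
  let b : Fin n → MvPolynomial (Fin n) k ⧸ I := fun j => Ideal.Quotient.mk I (MvPolynomial.X j)
  have hev : ∀ p, MvPolynomial.aeval b p = Ideal.Quotient.mkₐ k I p := fun p =>
    congrArg (· p) (MvPolynomial.algHom_ext (f := MvPolynomial.aeval b) (g := Ideal.Quotient.mkₐ k I)
      fun i => MvPolynomial.aeval_X b i)
  obtain ⟨e, he⟩ := Groth.Agent.NoetherDiff.GCI.exists_tate f b
    (fun y => by
      obtain ⟨p, rfl⟩ := Ideal.Quotient.mk_surjective y
      exact ⟨p, hev p⟩)
    (by
      ext p
      rw [RingHom.mem_ker, hev]
      exact Ideal.Quotient.eq_zero_iff_mem)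
  exact ⟨e.symm⟩

end Groth.Agent.S8935
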