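import Groth.Statements.S8936
import Groth.Agent.InjHull.Basic

set_option autoImplicit false
universe u v
open InjHull

namespace Groth.Agent.S8936

/-- For a directed system (E_i) of R-modules over a nonempty directed preorder and a compatible family
of essential injections M → E_i, the induced map from M to the direct limit of the E_i is an
essential injection. -/
theorem result (R : Type u) [CommRing R] (ι : Type v) [Preorder ι] [IsDirectedOrder ι] [DecidableEq ι] (i₀ : ι) (E : ι → Type v) [∀ i, AddCommGroup (E i)] [∀ i, Module R (E i)] (f : ∀ i j, i ≤ j → E i →ₗ[R] E j) [DirectedSystem E fun i j h => f i j h] (M : Type v) [AddCommGroup M] [Module R M] (g : ∀ i, M →ₗ[R] E i) (hg : ∀ i j (h : i ≤ j), f i j h ∘ₗ g i = g j) (he : ∀ i, InjHull.IsEssentialInj (g i)) : InjHull.IsEssentialInj (Module.DirectLimit.of R ι E f i₀ ∘ₗ g i₀) := by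
  refine InjHull.Basic.isEssentialInj_iff.mpr ⟨?_, fun x hx => ?_⟩
  · rw [← LinearMap.ker_eq_bot, Submodule.eq_bot_iff]
    intro m hm
    have : Nonempty ι := ⟨i₀⟩
    obtain ⟨j, hij, hj⟩ := Module.DirectLimit.of.zero_exact (LinearMap.mem_ker.mp hm)
    have h1 : g j m = 0 := by rw [← hg i₀ j hij]; exact hj
    exact (he j).injective (by rw [h1, map_zero])
  · have : Nonempty ι := ⟨i₀⟩
    obtain ⟨i, y, rfl⟩ := Module.DirectLimit.exists_of x
    have hy : y ≠ 0 := fun h => hx (by rw [h, map_zero])
    obtain ⟨r, m, hm, hr0⟩ := InjHull.Basic.exists_smul_mem_range (he i) hy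
    obtain ⟨k, hik, hk⟩ := exists_ge_ge i i₀
    have e : ∀ l (hl : l ≤ k),
        Module.DirectLimit.of R ι E f k (g k m) = Module.DirectLimit.of R ι E f l (g l m) := by
      intro l hl
      rw [← hg l k hl, LinearMap.comp_apply, Module.DirectLimit.of_f]
    refine ⟨r, ⟨m, ?_⟩, ?_⟩
    · rw [LinearMap.comp_apply, ← e i₀ hk, e i hik, hm, map_smul]
    · rw [← map_smul, ← hm]
      intro h0
      obtain ⟨j, hij, hj⟩ := Module.DirectLimit.of.zero_exact h0
      have h1 : g j m = 0 := by rw [← hg i j hij]; exact hj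
      have hm0 : m = 0 := (he j).injective (by rw [h1, map_zero])
      exact hr0 (by rw [← hm, hm0, map_zero])

end Groth.Agent.S8936
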