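import Groth.Statements.S8940
import Groth.Agent.LocCoh.BootPointwise

set_option autoImplicit false
universe u
open CategoryTheory
open LocCoh

namespace Groth.Agent.S8940

/-- Let A be a Noetherian ring of finite dimension, T ⊆ Spec A a specialization-stable subset whose
chains of primes have length at most e, (M_n) an inverse system of A-modules and i ≥ 0. If m′(m) ≥ m
is such that the maps H^i_{pA_p}(M_{k,p}) → H^i_{pA_p}(M_{m,p}) vanish for every p ∈ T and k ≥
m′(m), then H^i_T(M_k) → H^i_T(M_m) vanishes for all k ≥ m″(m), m″ the 2^e-fold iterate of m′. (The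
published statement uses exactly dim T; any bound e ≥ dim T gives the same conclusion since m′(m) ≥
m.) -/
theorem result (A : Type u) [CommRing A] [IsNoetherianRing A] (hA : ringKrullDim A < ⊤) (T : Set (PrimeSpectrum A)) (hT : StableUnderSpecialization T) (e : ℕ) (he : Order.krullDim ↥T ≤ (e : WithBot ℕ∞)) (M : ℕ → Type u) [∀ n, AddCommGroup (M n)] [∀ n, Module A (M n)] (φ : ∀ k m : ℕ, m ≤ k → (M k →ₗ[A] M m)) (hφ : ∀ (k l m : ℕ) (h₁ : m ≤ l) (h₂ : l ≤ k), φ k m (h₁.trans h₂) = φ l m h₁ ∘ₗ φ k l h₂) (i : ℕ) (m' : ℕ → ℕ) (hm' : ∀ m, m ≤ m' m) (hloc : ∀ (p : PrimeSpectrum A), p ∈ T → ∀ (m k : ℕ) (h : m ≤ k), m' m ≤ k → (localCohomology (IsLocalRing.maximalIdeal (Localization.AtPrime p.asIdeal)) i).map (ModuleCat.ofHom (LocalizedModule.map p.asIdeal.primeCompl (φ k m h))) = 0) (m k : ℕ) (h : m ≤ k) (hk : (m'^[2 ^ e]) m ≤ k) : (localCohomology.ofDiagram (Dual2.idealsInDiagram T) i).map (ModuleCat.ofHom (φ k m h)) = 0 := by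
  classical
  obtain ⟨D, hD⟩ : ∃ D : ℕ, ringKrullDim A ≤ (D : WithBot ℕ∞) := LocCoh.BootPointwise.exists_dim hA
  obtain ⟨hd, -⟩ := LocCoh.BootPointwise.negCoheight hD
  have hTe : ∀ p ∈ T, (Order.coheight p).toNat ≤ e := fun p hp => by
    refine ENat.toNat_le_of_le_natCast (WithBot.coe_le_coe.1 ?_)
    rw [Order.coheight_eq_krullDim_Ici]
    exact le_trans (Order.krullDim_le_of_strictMono (fun x : Set.Ici p => (⟨x.1, hT ((PrimeSpectrum.le_iff_specializes p x.1).1 x.2) hp⟩ : T))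
      (fun _ _ h => h)) he
  let d : PrimeSpectrum A → ℤ := fun p => -((Order.coheight p).toNat : ℤ)
  have hup : LocCoh.BootStrata.up T d (-(e : ℤ)) = T := Set.inter_eq_left.2 fun p hp => by
    have := hTe p hp
    show -(e : ℤ) ≤ d p
    simp only [d]; omega
  have hj : -1 + (i : ℤ) + 1 = 0 + (i : ℤ) := by omega
  have key := LocCoh.BootPointwise.zero_iterate (T := T) (LocCoh.BootPointwise.sys M φ hφ) (d := d) hd hj m' hm'
    (fun n l hl hf => LocCoh.BootPointwise.pointZero hφ i hl fun q hq => hloc q hq n l hl hf) (e + 1) (-(e : ℤ))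
    (fun p _ => by simp only [d]; push_cast; omega)
  rw [hup] at key
  refine ModuleCat.hom_ext (LinearMap.ext fun x => ?_)
  obtain ⟨z, hz, hc, hx⟩ := LocCoh.BootModel.exists_cycle (LocCoh.BootGlobal.mdl (ModuleCat.of A (M k))) x
  exact (hx _ _ _ (LocCoh.BootGlobal.lifts (ModuleCat.ofHom (φ k m h)))).2
    (key m k h ((LocCoh.BootPointwise.iterate_le hm' m Nat.lt_two_pow_self).trans hk) z hz hc)

end Groth.Agent.S8940
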