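import Groth.Statements.S8941
import Groth.Agent.DualCx.ShriekExists
import Groth.Agent.Gor.InjDim
import Mathlib.Algebra.Homology.DerivedCategory.ShortExact

set_option autoImplicit false
universe u
open CategoryTheory CategoryTheory.Pretriangulated
attribute [local instance] HasDerivedCategory.standard
open Dual

namespace Groth.Agent.S8941

/-- Let A be a Noetherian local ring with normalized dualizing complex ω, f a nonzerodivisor in the
maximal ideal and B = A/(f); with R right adjoint to restriction of scalars D(B) → D(A) (so that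
R(ω) is RHom_A(B, ω), a normalized dualizing complex for B), there is a distinguished triangle in
D(A) with vertices R(ω) viewed over A, ω, ω, whose middle morphism ω → ω is multiplication by f. -/
theorem result (A : Type u) [CommRing A] [IsLocalRing A] [IsNoetherianRing A] (ω : Dual.D A) (hω : Dual.IsDualizing A ω) (hn : Dual.IsNormalized A ω) (f : A) (hf : f ∈ IsLocalRing.maximalIdeal A) (hf' : f ∈ nonZeroDivisors A) (R : Dual.D A ⥤ Dual.D (A ⧸ Ideal.span {f})) (adj : DRing.restrictD (Ideal.Quotient.mk (Ideal.span {f})) ⊣ R) : ∃ (u : (DRing.restrictD (Ideal.Quotient.mk (Ideal.span {f}))).obj (R.obj ω) ⟶ ω) (w : ω ⟶ ((DRing.restrictD (Ideal.Quotient.mk (Ideal.span {f}))).obj (R.obj ω))⟦(1 : ℤ)⟧), Triangle.mk u (f • 𝟙 ω) w ∈ distinguishedTriangles := by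
  classical
  obtain ⟨a, ha⟩ := DualCx.Dimfun.exists_isGE hω
  obtain ⟨I, hI, ⟨eI⟩⟩ := DualCx.Residue.exists_rep (ω := ω) (a := a) fun i hi =>
    (DRing.DBasic.subsingleton_HD_iff_isZero ω i).mpr (DerivedCategory.isZero_of_isGE ω a i hi)
  letI : Algebra A (A ⧸ Ideal.span {f}) := Ideal.Quotient.algebra A
  let φ : A →+* A ⧸ Ideal.span {f} := algebraMap A (A ⧸ Ideal.span {f})
  let F := ModuleCat.restrictScalars.{u} φ
  let J : Dual.D (A ⧸ Ideal.span {f}) := DRing.toD (DualCx.Shriek.coextC (B := A ⧸ Ideal.span {f}) I)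
  let c : (DRing.restrictD φ).obj J ⟶ ω := DualCx.Shriek.counitD I ≫ eI.hom
  have hc : ∀ X, Function.Bijective fun g : X ⟶ J => (DRing.restrictD φ).map g ≫ c := fun X => by
    refine (congrArg Function.Bijective (funext fun g : X ⟶ J => ?_)).mp
      ((eI.homToEquiv (Z := (DRing.restrictD φ).obj X)).bijective.comp (DualCx.Shriek.counit_bijective I hI X))
    exact Category.assoc _ (DualCx.Shriek.counitD I) eI.hom
  let u : (DRing.restrictD φ).obj (R.obj ω) ⟶ ω := adj.counit.app ω
  obtain ⟨ψ, hψ⟩ : ∃ ψ : R.obj ω ⟶ J, (DRing.restrictD φ).map ψ ≫ c = u := (hc _).surjective u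
  obtain ⟨χ, hχ⟩ : ∃ χ : J ⟶ R.obj ω, (DRing.restrictD φ).map χ ≫ u = c :=
    ⟨adj.homEquiv _ _ c, (adj.homEquiv_counit _ _ _).symm.trans ((adj.homEquiv _ _).symm_apply_apply c)⟩
  have h1 : χ ≫ ψ = 𝟙 J := (hc J).injective (by
    rw [Functor.map_comp, Category.assoc, hψ, hχ]
    exact ((congrArg (· ≫ c) (CategoryTheory.Functor.map_id _ J)).trans (Category.id_comp c)).symm)
  have h2 : ψ ≫ χ = 𝟙 (R.obj ω) := (adj.homEquiv _ ω).symm.injective (by
    rw [adj.homEquiv_counit, adj.homEquiv_counit, Functor.map_comp, Category.assoc]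
    change (DRing.restrictD φ).map ψ ≫ (DRing.restrictD φ).map χ ≫ u = _
    rw [hχ, hψ]
    exact ((congrArg (· ≫ u) (CategoryTheory.Functor.map_id (DRing.restrictD φ) (R.obj ω))).trans (Category.id_comp u)).symm)
  let eR : R.obj ω ≅ J := ⟨ψ, χ, h2, h1⟩
  -- the short exact sequence of complexes
  have hfI : DualCx.Shriek.counitC (B := A ⧸ Ideal.span {f}) I ≫ (f • 𝟙 I) = 0 := by
    refine HomologicalComplex.hom_ext _ _ fun n => ModuleCat.hom_ext (LinearMap.ext fun g => ?_)
    change f • (ModuleCat.CoextendScalars.equiv φ (I.X n) g) (1 : A ⧸ Ideal.span {f}) = 0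
    refine (LinearMap.map_smul _ f _).symm.trans ?_
    refine (congrArg _ ?_).trans (map_zero _)
    change (φ f * (1 : A ⧸ Ideal.span {f}) : A ⧸ Ideal.span {f}) = (0 : A ⧸ Ideal.span {f})
    rw [mul_one]
    exact Ideal.Quotient.eq_zero_iff_mem.mpr (Ideal.mem_span_singleton_self f)
  let S : ShortComplex (DRing.Cx A) := ShortComplex.mk _ _ hfI
  have hS : S.ShortExact := by
    refine HomologicalComplex.shortExact_of_degreewise_shortExact S fun n => ?_
    have hex : Function.Exact
        ((ModuleCat.restrictCoextendScalarsAdj φ).counit.app (I.X n)).hom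
        (f • (LinearMap.id : (I.X n) →ₗ[A] (I.X n))) := fun y => by
      constructor
      · intro hy
        let g : (A ⧸ Ideal.span {f}) →ₗ[A] I.X n := Submodule.liftQ _ (LinearMap.toSpanSingleton A _ y)
          (fun r hr => by
            obtain ⟨r, rfl⟩ := Ideal.mem_span_singleton'.mp hr
            rw [LinearMap.mem_ker, LinearMap.toSpanSingleton_apply, mul_smul,
              show f • y = 0 from hy, smul_zero])
        refine ⟨(ModuleCat.CoextendScalars.equiv φ (I.X n)).symm
          { toFun := fun b => g b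
            map_add' := fun x y => g.map_add x y
            map_smul' := fun r (x : A ⧸ Ideal.span {f}) =>
              (congrArg g (Algebra.smul_def r x).symm).trans (g.map_smul r x) }, ?_⟩
        exact one_smul A y
      · rintro ⟨g, rfl⟩
        exact congrArg (fun h : S.X₁ ⟶ I => (h.f n).hom g) hfI
    refine ModuleCat.shortComplex_shortExact (S.map (HomologicalComplex.eval _ _ n)) hex ?_ ?_
    · rw [injective_iff_map_eq_zero]
      intro (g : (ModuleCat.coextendScalars φ).obj (I.X n)) hg
      refine (ModuleCat.CoextendScalars.equiv φ (I.X n)).injective (LinearMap.ext fun b => ?_)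
      obtain ⟨b, rfl⟩ := Ideal.Quotient.mk_surjective (I := Ideal.span {f}) b
      refine Eq.trans ?_ (LinearMap.congr_fun (map_zero (ModuleCat.CoextendScalars.equiv φ (I.X n))) _).symm
      refine (congrArg _ ?_).trans ((LinearMap.map_smul _ b (1 : A ⧸ Ideal.span {f})).trans ?_)
      · change (Ideal.Quotient.mk (Ideal.span {f}) b : A ⧸ Ideal.span {f}) = φ b * 1
        rw [mul_one]; rfl
      · exact (congrArg ((b • (LinearMap.id : (I.X n) →ₗ[A] (I.X n))) ·) hg).trans
          ((b • (LinearMap.id : (I.X n) →ₗ[A] (I.X n))).map_zero)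
    · intro y
      obtain ⟨z, hz⟩ := Gor.InjDim.divisible_of_injective
        (x := f) (fun p q (h : f * p = f * q) => (mul_cancel_left_mem_nonZeroDivisors hf').mp h)
        (Module.injective_module_of_injective_object A (I.X n) (inj := hI.1 n)) y
      exact ⟨z, hz⟩
  let T := DerivedCategory.triangleOfSES hS
  let e₁ : (DRing.restrictD φ).obj (R.obj ω) ≅ DerivedCategory.Q.obj S.X₁ :=
    (DRing.restrictD φ).mapIso eR ≪≫ F.mapDerivedCategoryFactors.app _
  refine ⟨u, eI.inv ≫ DerivedCategory.triangleOfSESδ hS ≫ e₁.inv⟦(1 : ℤ)⟧', ?_⟩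
  refine Pretriangulated.isomorphic_distinguished _ (DerivedCategory.triangleOfSES_distinguished hS) _
    (Pretriangulated.Triangle.isoMk _ _ e₁ eI.symm eI.symm ?_ ?_ ?_)
  · change u ≫ eI.inv = ((DRing.restrictD φ).map ψ ≫ F.mapDerivedCategoryFactors.hom.app _) ≫
      DerivedCategory.Q.map (DualCx.Shriek.counitC I)
    rw [Iso.comp_inv_eq, ← hψ]
    simp only [c, DualCx.Shriek.counitD, Category.assoc]
    rfl
  · change (f • 𝟙 ω) ≫ eI.inv = eI.inv ≫ DerivedCategory.Q.map (f • 𝟙 I)
    rw [Functor.map_smul, CategoryTheory.Functor.map_id, Linear.smul_comp, Linear.comp_smul,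
      Category.id_comp]
    exact congrArg (f • ·) (Category.comp_id eI.inv).symm
  · change (eI.inv ≫ DerivedCategory.triangleOfSESδ hS ≫ e₁.inv⟦(1 : ℤ)⟧') ≫ e₁.hom⟦(1 : ℤ)⟧' =
      eI.inv ≫ DerivedCategory.triangleOfSESδ hS
    rw [Category.assoc, Category.assoc, ← Functor.map_comp, e₁.inv_hom_id,
      CategoryTheory.Functor.map_id, Category.comp_id]

end Groth.Agent.S8941
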