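import Groth.Statements.S8942
import Groth.Agent.KFlat.AdjSupport
import Groth.Agent.PerfTri.Bounded
import Groth.Agent.S4267

set_option autoImplicit false
universe u
open CategoryTheory CategoryTheory.Limits AlgebraicGeometry
attribute [local instance] HasDerivedCategory.standard
open Dual3

namespace Groth.Agent.S8942

/-- Suppose X and Y are Noetherian schemes and f : X → Y is a morphism that is both proper and perfect,
and a a right adjoint of Rf_* on D_QCoh (Rf_* assumed to exist and to preserve quasi-coherent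
cohomology). If Q in D_QCoh(O_Y) is supported on a closed subset T (all cohomology sheaves vanish on
the open complement V), then a(Q) is supported on f⁻¹(T). -/
theorem result (X Y : Scheme.{u}) [IsNoetherian X] [IsNoetherian Y] (f : X ⟶ Y) [IsProper f] (hperf : MoreMor.IsPerfectMor f) [DCoh.HasRpush f] (hf : DCoh.RpushPreservesQCoh f) (a : DCoh.DQCoh Y ⥤ DCoh.DQCoh X) (adj : DCoh.RpushQ f hf ⊣ a) (V : Y.Opens) (Q : DCoh.DQCoh Y) (hQV : ∀ i : ℤ, IsZero ((DCoh.HD Q.obj i).restrict V.ι)) (i : ℤ) : IsZero ((DCoh.HD (a.obj Q).obj i).restrict (f ⁻¹ᵁ V).ι) := by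
  open Groth.Agent CategoryTheory.Limits AlgebraicGeometry in
  have hperf' : ∀ P : DCoh.D X, DCoh.IsPerfect P → DCoh.IsPerfect ((DCoh.Rpush f).obj P) := fun P hP => by
    obtain ⟨-, a', b', _, -⟩ := PerfTri.Bounded.perfect_isCohD_bounded P hP
    exact S4267.result f hperf P a' hP
  have hsup : CohB1.support (DCoh.HD (a.obj Q).obj i) ⊆ ((f ⁻¹ᵁ V : X.Opens) : Set X)ᶜ := fun x hx hxV => by
    obtain ⟨W, hW, hxW, hWV⟩ := exists_isAffineOpen_mem_and_subset (U := V) (x := f x) hxV
    exact PerfExt.support_subset_of_isZero_restrict (f ⁻¹ᵁ W) (KFlat.AdjSupport.isZero_restrict_rightAdjoint f hf a adj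
      hperf' W hW Q (PerfExt.isZero_restrict_of_support W fun k y hy hyW => hy (S6528.subsingleton_stalk (U := V) (hQV k) (hWV hyW)))) i hx hxW
  refine CohDev.isZero_restrict_of_support (f ⁻¹ᵁ V).ι fun x hx => ?_
  rw [Scheme.Opens.range_ι]
  exact hsup hx

end Groth.Agent.S8942
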