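import Groth.Statements.S8944
import Mathlib.AlgebraicGeometry.AffineScheme
import Mathlib.RingTheory.Flat.EquationalCriterion
import Mathlib.RingTheory.Flat.Localization
import Mathlib.RingTheory.Localization.BaseChange
import Mathlib.RingTheory.Localization.AtPrime.Basic
import Mathlib.LinearAlgebra.TensorProduct.Tower
import Mathlib.CategoryTheory.MorphismProperty.Basic
import Mathlib.Algebra.Module.LocalizedModule.Int
-- import your own Groth.Agent.* helpers here

set_option autoImplicit false
universe u
open CategoryTheory AlgebraicGeometry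
open scoped TensorProduct
open Disc

namespace Groth.Agent.S8944

section
variable {A B' : Type u} [CommRing A] [CommRing B'] [Algebra A B'] [Module.Finite A B']

instance omegaModule : Module A (Disc.Omega A B') := Module.compHom _ (algebraMap A B')

instance : IsScalarTower A B' (Disc.Omega A B') := IsScalarTower.of_algebraMap_smul fun _ _ => rfl

theorem omega_add_apply (φ ψ : Disc.Omega A B') (x : B') :
    (φ + ψ).toLinearMap x = φ.toLinearMap x + ψ.toLinearMap x := rfl

theorem omega_smulA (a : A) (φ : Disc.Omega A B') (x : B') :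
    (a • φ).toLinearMap x = a • φ.toLinearMap x := by
  rw [← algebraMap_smul B' a φ, Disc.Omega.smul_toLinearMap_apply, ← Algebra.smul_def, map_smul]

/-- If `S⁻¹B'` is flat over `A`, some element of `S` acts on `B'` through a finite free `A`-module. -/
theorem exists_factor [IsNoetherianRing A] (S : Submonoid B') (hflat : Module.Flat A (Localization S)) :
    ∃ s ∈ S, ∃ (k : ℕ) (a : B' →ₗ[A] (Fin k →₀ A)) (b : (Fin k →₀ A) →ₗ[A] B'),
      ∀ x, b (a x) = s * x := by
  classical
  have := Module.finitePresentation_of_finite A B'
  obtain ⟨k, a, y, hay⟩ := Module.Flat.exists_factorization_of_finitePresentation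
    (IsScalarTower.toAlgHom A B' (Localization S)).toLinearMap
  obtain ⟨s, hs⟩ := IsLocalization.exist_integer_multiples_of_finset S
    (Finset.univ.image fun i : Fin k => y (Finsupp.single i 1))
  have hs' : ∀ i : Fin k, ∃ c : B', algebraMap B' (Localization S) c = (s : B') • y (Finsupp.single i 1) :=
    fun i => hs _ (Finset.mem_image_of_mem _ (Finset.mem_univ i))
  choose c hc using hs'
  let b₀ : (Fin k →₀ A) →ₗ[A] B' := Finsupp.linearCombination A c
  have hb₀ : ∀ v, algebraMap B' (Localization S) (b₀ v) = (s : B') • y v := by
    intro v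
    induction v using Finsupp.induction_linear with
    | zero => simp
    | add v w hv hw => simp [map_add, hv, hw, smul_add]
    | single i r =>
      have : (Finsupp.single i r : Fin k →₀ A) = r • Finsupp.single i 1 := by simp
      rw [this]
      simp only [map_smul]
      rw [Algebra.smul_def r, map_mul, ← IsScalarTower.algebraMap_apply, ← Algebra.smul_def,
        smul_comm ((s : B')) r, ← hc]
      simp [b₀]
  obtain ⟨t, ht⟩ := (Module.Finite.fg_top (R := A) (M := B'))
  have hx : ∀ x : B', ∃ u : S, (u : B') * b₀ (a x) = u * (s * x) := fun x => by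
    apply IsLocalization.exists_of_eq (M := S) (S := Localization S)
    rw [hb₀, map_mul, Algebra.smul_def]
    congr 1
    exact (LinearMap.congr_fun hay x).symm
  choose u hu using hx
  let U : S := ∏ x ∈ t, u x
  refine ⟨(U : B') * s, S.mul_mem U.2 s.2, k, a, (LinearMap.mulLeft A (U : B')) ∘ₗ b₀, ?_⟩
  have heq : (LinearMap.mulLeft A (U : B') ∘ₗ b₀) ∘ₗ a = LinearMap.mulLeft A ((U : B') * s) := by
    refine LinearMap.ext_on ht fun x hx => ?_
    obtain ⟨w, hw⟩ := Finset.dvd_prod_of_mem (fun x => (u x : B')) hx
    show (U : B') * b₀ (a x) = U * s * x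
    rw [Submonoid.coe_finset_prod, hw, mul_right_comm, hu]
    ring
  exact fun x => LinearMap.congr_fun heq x

theorem flat_localized [IsNoetherianRing A] (S : Submonoid B') (hflat : Module.Flat A (Localization S)) :
    Module.Flat A (LocalizedModule S (Disc.Omega A B')) := by
  classical
  obtain ⟨σ, hσ, k, a, b, hab⟩ := exists_factor S hflat
  rw [Module.Flat.iff_forall_isTrivialRelation]
  intro l f x hfx
  let j := LocalizedModule.mkLinearMap S (Disc.Omega A B')
  obtain ⟨w, hw⟩ := IsLocalizedModule.exist_integer_multiples_of_finite S j x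
  choose m hm using hw
  have h0 : j (∑ i, f i • m i) = 0 := by
    rw [map_sum]
    have : ∀ i, j (f i • m i) = (w : B') • (f i • x i) := fun i => by
      rw [LinearMap.map_smul_of_tower, hm, smul_comm]
    simp only [this, ← Finset.smul_sum, hfx, smul_zero]
  obtain ⟨c, hc⟩ := (IsLocalizedModule.eq_zero_iff S j).1 h0
  have hc' : ∑ i, f i • ((c : B') • m i) = 0 := by
    refine Eq.trans ?_ hc
    rw [Submonoid.smul_def, Finset.smul_sum]
    exact Finset.sum_congr rfl fun i _ => smul_comm _ _ _
  let β : Disc.Omega A B' →ₗ[A] ((Fin k →₀ A) →ₗ[A] A) :=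
    { toFun := fun φ => φ.toLinearMap ∘ₗ b
      map_add' := fun φ ψ => rfl
      map_smul' := fun r φ => LinearMap.ext fun v => omega_smulA r φ (b v) }
  let α : ((Fin k →₀ A) →ₗ[A] A) →ₗ[A] Disc.Omega A B' :=
    { toFun := fun L => ⟨L ∘ₗ a⟩
      map_add' := fun L L' => Disc.Omega.ext rfl
      map_smul' := fun r L => Disc.Omega.ext (LinearMap.ext fun v => by
        rw [RingHom.id_apply, omega_smulA]
        rfl) }
  have hαβ : ∀ φ, α (β φ) = σ • φ := fun φ => Disc.Omega.ext (LinearMap.ext fun v => by
    show φ.toLinearMap (b (a v)) = _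
    rw [hab]
    rfl)
  obtain ⟨κ, e, y, hy, he⟩ := Module.Flat.isTrivialRelation_of_sum_smul_eq_zero (f := f)
    (x := fun i => β ((c : B') • m i)) (by simp only [← map_smul, ← map_sum, hc', map_zero])
  obtain ⟨v, hv⟩ := IsLocalizedModule.map_units j
    ((⟨σ, hσ⟩ : S) * c * w) |>.exists_left_inv
  refine ⟨κ, e, fun i => v (j (α (y i))), fun i => ?_, he⟩
  have h1 : σ • ((c : B') • m i) = ∑ r, e i r • α (y r) := by
    rw [← hαβ]
    refine (congrArg α (hy i)).trans ?_
    rw [map_sum]
    simp only [map_smul]
  have h2 : (σ * c * w : B') • x i = j (σ • ((c : B') • m i)) := by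
    rw [map_smul, map_smul, hm, mul_smul, mul_smul]
  calc x i = v ((σ * c * w : B') • x i) := (LinearMap.congr_fun hv (x i)).symm
    _ = v (j (∑ r, e i r • α (y r))) := by rw [h2, h1]
    _ = _ := by simp only [map_sum, LinearMap.map_smul_of_tower]

end

theorem bijective_localRingHom {B B' : Type u} [CommRing B] [CommRing B'] [Algebra B' B]
    (hopen : IsOpenImmersion (Spec.map (CommRingCat.ofHom (algebraMap B' B)))) (P : Ideal B) [P.IsPrime] :
    Function.Bijective (Localization.localRingHom (P.comap (algebraMap B' B)) P (algebraMap B' B) rfl) := by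
  let f := CommRingCat.ofHom (algebraMap B' B)
  let p : PrimeSpectrum B := ⟨P, inferInstance⟩
  have : IsOpenImmersion (Spec.map f) := hopen
  have : IsIso ((Spec.map f).stalkMap p) := by
    let x : ↥(Spec (CommRingCat.of B)) := p
    exact (inferInstance : IsIso ((Spec.map f).stalkMap x))
  have h := (CategoryTheory.ConcreteCategory.isIso_iff_bijective _).1
    (((MorphismProperty.isomorphisms CommRingCat).arrow_mk_iso_iff (Scheme.arrowStalkMapSpecIso f p)).1
      (MorphismProperty.isomorphisms.iff _ |>.2 this) : IsIso _)
  exact h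


/-- Let A → B be a flat homomorphism of Noetherian rings, and suppose it factors through a ring B′ as A
→ B′ → B, where B′ is finite over A and the induced map of spectra Spec(B) → Spec(B′) is an open
immersion, so that the relative dualizing module is ω_{B/A} = Hom_A(B′, A) ⊗_{B′} B (B′ acting on
Hom_A(B′, A) through the argument). Then ω_{B/A} is a flat A-module. -/
theorem result (A B B' : Type u) [CommRing A] [CommRing B] [CommRing B'] [IsNoetherianRing A] [IsNoetherianRing B] [Algebra A B] [Module.Flat A B] [Algebra A B'] [Algebra B' B] [IsScalarTower A B' B] [Module.Finite A B'] (hopen : IsOpenImmersion (Spec.map (CommRingCat.ofHom (algebraMap B' B)))) : Module.Flat A (B ⊗[B'] Disc.Omega A B') := by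
  let N := B ⊗[B'] Disc.Omega A B'
  refine Module.flat_of_isLocalized_maximal (R := A) (S := B) (M := N)
    (fun P _ => LocalizedModule P.primeCompl N) (fun P _ => LocalizedModule.mkLinearMap P.primeCompl N) ?_
  intro P _
  let q : Ideal B' := P.comap (algebraMap B' B)
  let g := Localization.localRingHom q P (algebraMap B' B) rfl
  let e : Localization q.primeCompl ≃ₗ[B'] Localization P.primeCompl :=
    { RingEquiv.ofBijective g (bijective_localRingHom hopen P) with
      map_smul' := fun r z => by
        show g (r • z) = r • g z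
        rw [Algebra.smul_def, map_mul, Localization.localRingHom_to_map,
          ← IsScalarTower.algebraMap_apply, ← Algebra.smul_def] }
  have : Module.Flat B (Localization P.primeCompl) := IsLocalization.flat _ P.primeCompl
  have : Module.Flat A (Localization P.primeCompl) := Module.Flat.trans A B _
  have hq : Module.Flat A (Localization q.primeCompl) := Module.Flat.of_linearEquiv (e.restrictScalars A)
  have hM := flat_localized q.primeCompl hq
  let e₁ : LocalizedModule P.primeCompl N ≃ₗ[B] Localization P.primeCompl ⊗[B] N :=
    (LocalizedModule.equivTensorProduct P.primeCompl N).restrictScalars B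
  let e₂ : Localization P.primeCompl ⊗[B] N ≃ₗ[B'] Localization P.primeCompl ⊗[B'] Disc.Omega A B' :=
    (TensorProduct.AlgebraTensorModule.cancelBaseChange B' B B (Localization P.primeCompl) (Disc.Omega A B')).restrictScalars B'
  let e₃ : Localization q.primeCompl ⊗[B'] Disc.Omega A B' ≃ₗ[B'] Localization P.primeCompl ⊗[B'] Disc.Omega A B' :=
    TensorProduct.congr e (LinearEquiv.refl B' _)
  let e₄ := (LocalizedModule.equivTensorProduct q.primeCompl (Disc.Omega A B')).restrictScalars B'
  exact Module.Flat.of_linearEquiv
    ((((e₁.restrictScalars B').trans e₂).trans (e₃.symm.trans e₄.symm)).restrictScalars A)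

end Groth.Agent.S8944
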