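import Groth.Statements.S8945
import Groth.Agent.DualCx.ShriekExists
import Groth.Agent.DualCx.HomInj
import Groth.Agent.S1749
import Groth.Agent.Gor.InjDim
import Mathlib.Algebra.Homology.DerivedCategory.ShortExact

set_option autoImplicit false
universe u
open CategoryTheory CategoryTheory.Pretriangulated
attribute [local instance] HasDerivedCategory.standard
open Dual

namespace Groth.Agent.S8945

/-- Suppose A is a Noetherian local ring with maximal ideal m and residue field κ, and that ω is a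
normalized dualizing complex on A; take an ideal I ⊆ m of finite length, set B = A/I, and let E be
an injective hull of κ; with R right adjoint to restriction of scalars D(B) → D(A) (so that R(ω) =
RHom_A(B, ω) is a normalized dualizing complex for B), there is a distinguished triangle in D(A)
with vertices R(ω) viewed over A, ω, and the module Hom_A(I, E) placed in degree 0. -/
theorem result (A : Type u) [CommRing A] [IsLocalRing A] [IsNoetherianRing A] (ω : Dual.D A) (hω : Dual.IsDualizing A ω) (hn : Dual.IsNormalized A ω) (I : Ideal A) (hI : I ≤ IsLocalRing.maximalIdeal A) (hIl : IsFiniteLength A I) (E : Type u) [AddCommGroup E] [Module A E] (e : IsLocalRing.ResidueField A →ₗ[A] E) (he : InjHull.IsInjectiveHull e) (R : Dual.D A ⥤ Dual.D (A ⧸ I)) (adj : DRing.restrictD (Ideal.Quotient.mk I) ⊣ R) : ∃ (u : (DRing.restrictD (Ideal.Quotient.mk I)).obj (R.obj ω) ⟶ ω) (v : ω ⟶ Dual.inD A (I →ₗ[A] E)) (w : Dual.inD A (I →ₗ[A] E) ⟶ ((DRing.restrictD (Ideal.Quotient.mk I)).obj (R.obj ω))⟦(1 : ℤ)⟧),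 Triangle.mk u v w ∈ distinguishedTriangles := by
  classical
  obtain ⟨a, ha⟩ := DualCx.Dimfun.exists_isGE hω
  obtain ⟨C, hC, ⟨eC⟩⟩ := DualCx.Residue.exists_rep (ω := ω) (a := a) fun i hi =>
    (DRing.DBasic.subsingleton_HD_iff_isZero ω i).mpr (DerivedCategory.isZero_of_isGE ω a i hi)
  have : C.IsKInjective := hC.isKInjective
  letI : Algebra A (A ⧸ I) := Ideal.Quotient.algebra A
  let φ : A →+* A ⧸ I := algebraMap A (A ⧸ I)
  let F := ModuleCat.restrictScalars.{u} φ
  let J : Dual.D (A ⧸ I) := DRing.toD (DualCx.Shriek.coextC (B := A ⧸ I) C)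
  let c : (DRing.restrictD φ).obj J ⟶ ω := DualCx.Shriek.counitD C ≫ eC.hom
  have hc : ∀ X, Function.Bijective fun g : X ⟶ J => (DRing.restrictD φ).map g ≫ c := fun X => by
    refine (congrArg Function.Bijective (funext fun g : X ⟶ J => ?_)).mp
      ((eC.homToEquiv (Z := (DRing.restrictD φ).obj X)).bijective.comp (DualCx.Shriek.counit_bijective C hC X))
    exact Category.assoc _ (DualCx.Shriek.counitD C) eC.hom
  let u : (DRing.restrictD φ).obj (R.obj ω) ⟶ ω := adj.counit.app ω
  obtain ⟨ψ, hψ⟩ : ∃ ψ : R.obj ω ⟶ J, (DRing.restrictD φ).map ψ ≫ c = u := (hc _).surjective u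
  obtain ⟨χ, hχ⟩ : ∃ χ : J ⟶ R.obj ω, (DRing.restrictD φ).map χ ≫ u = c :=
    ⟨adj.homEquiv _ _ c, (adj.homEquiv_counit _ _ _).symm.trans ((adj.homEquiv _ _).symm_apply_apply c)⟩
  have h1 : χ ≫ ψ = 𝟙 J := (hc J).injective (by
    rw [Functor.map_comp, Category.assoc, hψ, hχ]
    exact ((congrArg (· ≫ c) (CategoryTheory.Functor.map_id _ J)).trans (Category.id_comp c)).symm)
  have h2 : ψ ≫ χ = 𝟙 (R.obj ω) := (adj.homEquiv _ ω).symm.injective (by
    rw [adj.homEquiv_counit, adj.homEquiv_counit, Functor.map_comp, Category.assoc]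
    change (DRing.restrictD φ).map ψ ≫ (DRing.restrictD φ).map χ ≫ u = _
    rw [hχ, hψ]
    exact ((congrArg (· ≫ u) (CategoryTheory.Functor.map_id (DRing.restrictD φ) (R.obj ω))).trans (Category.id_comp u)).symm)
  let eR : R.obj ω ≅ J := ⟨ψ, χ, h2, h1⟩
  -- the short exact sequence of complexes
  let π : C ⟶ DualCx.HomInj.homC I C :=
    { f := fun n => ModuleCat.ofHom ((LinearMap.lcomp A (C.X n) (I : Submodule A A).subtype).comp
        (LinearMap.lsmul A (C.X n)).flip)
      comm' := fun i j hij => by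
        refine ModuleCat.hom_ext (LinearMap.ext fun x => LinearMap.ext fun b => ?_)
        refine (DualCx.HomInj.homC_d_apply I C i j hij _ b).trans ?_
        exact (C.d i j).hom.map_smul (b : A) x }
  have hzero : DualCx.Shriek.counitC (B := A ⧸ I) C ≫ π = 0 := by
    refine HomologicalComplex.hom_ext _ _ fun n => ModuleCat.hom_ext (LinearMap.ext fun g =>
      LinearMap.ext fun b => ?_)
    change (b : A) • (ModuleCat.CoextendScalars.equiv φ (C.X n) g) (1 : A ⧸ I) = 0
    refine (LinearMap.map_smul _ (b : A) _).symm.trans ?_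
    refine (congrArg _ ?_).trans (map_zero _)
    change (φ (b : A) * (1 : A ⧸ I) : A ⧸ I) = (0 : A ⧸ I)
    rw [mul_one]
    exact Ideal.Quotient.eq_zero_iff_mem.mpr b.2
  let S : ShortComplex (DRing.Cx A) := ShortComplex.mk _ _ hzero
  have hS : S.ShortExact := by
    refine HomologicalComplex.shortExact_of_degreewise_shortExact S fun n => ?_
    have hex : Function.Exact
        ((ModuleCat.restrictCoextendScalarsAdj φ).counit.app (C.X n)).hom
        ((LinearMap.lcomp A (C.X n) (I : Submodule A A).subtype).comp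
          (LinearMap.lsmul A (C.X n)).flip) := fun y => by
      constructor
      · intro hy
        let g : (A ⧸ I) →ₗ[A] C.X n := Submodule.liftQ _ (LinearMap.toSpanSingleton A _ y)
          (fun r hr => by
            rw [LinearMap.mem_ker, LinearMap.toSpanSingleton_apply]
            exact LinearMap.congr_fun hy ⟨r, hr⟩)
        refine ⟨(ModuleCat.CoextendScalars.equiv φ (C.X n)).symm
          { toFun := fun b => g b
            map_add' := fun x y => g.map_add x y
            map_smul' := fun r (x : A ⧸ I) =>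
              (congrArg g (Algebra.smul_def r x).symm).trans (g.map_smul r x) }, ?_⟩
        exact one_smul A y
      · rintro ⟨g, rfl⟩
        exact congrArg (fun h : S.X₁ ⟶ S.X₃ => (h.f n).hom g) hzero
    refine ModuleCat.shortComplex_shortExact (S.map (HomologicalComplex.eval _ _ n)) hex ?_ ?_
    · rw [injective_iff_map_eq_zero]
      intro (g : (ModuleCat.coextendScalars φ).obj (C.X n)) hg
      refine (ModuleCat.CoextendScalars.equiv φ (C.X n)).injective (LinearMap.ext fun b => ?_)
      obtain ⟨b, rfl⟩ := Ideal.Quotient.mk_surjective (I := I) b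
      refine Eq.trans ?_ (LinearMap.congr_fun (map_zero (ModuleCat.CoextendScalars.equiv φ (C.X n))) _).symm
      refine (congrArg _ ?_).trans ((LinearMap.map_smul _ b (1 : A ⧸ I)).trans ?_)
      · change (Ideal.Quotient.mk I b : A ⧸ I) = φ b * 1
        rw [mul_one]; rfl
      · exact (congrArg ((b • (LinearMap.id : (C.X n) →ₗ[A] (C.X n))) ·) hg).trans
          ((b • (LinearMap.id : (C.X n) →ₗ[A] (C.X n))).map_zero)
    · intro (y : I →ₗ[A] C.X n)
      have := Module.injective_module_of_injective_object A (C.X n) (inj := hC.1 n)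
      obtain ⟨h, hh⟩ := Module.Injective.extension_property A (C.X n) _ _
        (I : Submodule A A).subtype (I : Submodule A A).injective_subtype y
      refine ⟨h 1, LinearMap.ext fun b => ?_⟩
      change (b : A) • h 1 = y b
      rw [← h.map_smul, smul_eq_mul, mul_one]
      exact LinearMap.congr_fun hh b
  -- the third vertex
  obtain ⟨hvan, ⟨eIE⟩⟩ := Groth.Agent.S1749.result A ω hω hn E e he I hIl
  have hsub : ∀ i : ℤ, i ≠ 0 → Subsingleton (Dual.HD A (DRing.toD (DualCx.HomInj.homC I C)) i) :=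
    fun i hi => DualCx.HomInj.subsingleton_HD I C i
      (@Equiv.subsingleton _ _ (DualCx.Hom.congr A (Iso.refl _)
        ((shiftFunctor (Dual.D A) i).mapIso eC)).toEquiv (hvan i hi))
  obtain ⟨e0⟩ := DualCx.HomInj.nonempty_HD_equiv I C 0
  let eH : Dual.HD A (DRing.toD (DualCx.HomInj.homC I C)) 0 ≃ₗ[A] (I →ₗ[A] E) :=
    e0.trans ((DualCx.Hom.congr A (Iso.refl _)
      ((shiftFunctorZero (Dual.D A) ℤ).app _ ≪≫ eC)).trans eIE)
  obtain ⟨eK⟩ := DualCx.Devissage.nonempty_single _ 0 hsub
  let e₃ : DerivedCategory.Q.obj S.X₃ ≅ Dual.inD A (I →ₗ[A] E) :=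
    eK ≪≫ (shiftFunctorZero' _ (-0 : ℤ) neg_zero).app _ ≪≫
      (DerivedCategory.singleFunctor (ModuleCat.{u} A) 0).mapIso eH.toModuleIso
  let e₁ : (DRing.restrictD φ).obj (R.obj ω) ≅ DerivedCategory.Q.obj S.X₁ :=
    (DRing.restrictD φ).mapIso eR ≪≫ F.mapDerivedCategoryFactors.app _
  refine ⟨u, eC.inv ≫ DerivedCategory.Q.map π ≫ e₃.hom,
    e₃.inv ≫ DerivedCategory.triangleOfSESδ hS ≫ e₁.inv⟦(1 : ℤ)⟧', ?_⟩
  refine Pretriangulated.isomorphic_distinguished _ (DerivedCategory.triangleOfSES_distinguished hS) _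
    (Pretriangulated.Triangle.isoMk _ _ e₁ eC.symm e₃.symm ?_ ?_ ?_)
  · change u ≫ eC.inv = ((DRing.restrictD φ).map ψ ≫ F.mapDerivedCategoryFactors.hom.app _) ≫
      DerivedCategory.Q.map (DualCx.Shriek.counitC C)
    rw [Iso.comp_inv_eq, ← hψ]
    simp only [c, DualCx.Shriek.counitD, Category.assoc]
    rfl
  · change (eC.inv ≫ DerivedCategory.Q.map π ≫ e₃.hom) ≫ e₃.inv = eC.inv ≫ DerivedCategory.Q.map π
    rw [Category.assoc, Category.assoc, e₃.hom_inv_id, Category.comp_id]
  · change (e₃.inv ≫ DerivedCategory.triangleOfSESδ hS ≫ e₁.inv⟦(1 : ℤ)⟧') ≫ e₁.hom⟦(1 : ℤ)⟧' =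
      e₃.inv ≫ DerivedCategory.triangleOfSESδ hS
    rw [Category.assoc, Category.assoc, ← Functor.map_comp, e₁.inv_hom_id,
      CategoryTheory.Functor.map_id, Category.comp_id]

end Groth.Agent.S8945
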