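import Groth.Statements.S8946
import Groth.Agent.LocCoh.BootPointwise

set_option autoImplicit false
universe u
open CategoryTheory
open LocCoh

namespace Groth.Agent.S8946

/-- Let A be a Noetherian ring of finite dimension, T ⊆ Spec A a specialization-stable subset, (M_n) an
inverse system of A-modules and i ≥ 0. Suppose m′(m) ≥ m is such that for every p ∈ T: the maps
H^{i-1}_{pA_p}(M_{k,p}) → H^{i-1}_{pA_p}(M_{m,p}) vanish for k ≥ m′(m) (no condition when i = 0),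
and the maps H^i_{pA_p}(M_{k,p}) → H^i_{pA_p}(M_{m,p}) have the same image for all k ≥ m′(m), this
image mapping injectively into H^i_{pA_p}(M_{0,p}). Then there is m₀ such that for every m ≥ m₀
there is m″ ≥ m such that for k ≥ m″ the image of H^i_T(M_k) → H^i_T(M_m) maps injectively into
H^i_T(M_{m₀}). -/
theorem result (A : Type u) [CommRing A] [IsNoetherianRing A] (hA : ringKrullDim A < ⊤) (T : Set (PrimeSpectrum A)) (hT : StableUnderSpecialization T) (M : ℕ → Type u) [∀ n, AddCommGroup (M n)] [∀ n, Module A (M n)] (φ : ∀ k m : ℕ, m ≤ k → (M k →ₗ[A] M m)) (hφ : ∀ (k l m : ℕ) (h₁ : m ≤ l) (h₂ : l ≤ k), φ k m (h₁.trans h₂) = φ l m h₁ ∘ₗ φ k l h₂) (i : ℕ) (m' : ℕ → ℕ) (hm' : ∀ m, m ≤ m' m) (h1 : 0 < i → ∀ (p : PrimeSpectrum A), p ∈ T → ∀ (m k : ℕ) (h : m ≤ k), m' m ≤ k → (localCohomology (IsLocalRing.maximalIdeal (Localization.AtPrime p.asIdeal)) (i - 1)).map (ModuleCat.ofHom (LocalizedModule.map p.asIdeal.primeCompl (φ k m h)))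 = 0) (h2 : ∀ (p : PrimeSpectrum A), p ∈ T → ∀ (m k : ℕ) (h : m ≤ k), m' m ≤ k → LinearMap.range ((localCohomology (IsLocalRing.maximalIdeal (Localization.AtPrime p.asIdeal)) i).map (ModuleCat.ofHom (LocalizedModule.map p.asIdeal.primeCompl (φ k m h)))).hom = LinearMap.range ((localCohomology (IsLocalRing.maximalIdeal (Localization.AtPrime p.asIdeal)) i).map (ModuleCat.ofHom (LocalizedModule.map p.asIdeal.primeCompl (φ (m' m) m (hm' m))))).hom) (h3 : ∀ (p : PrimeSpectrum A), p ∈ T → ∀ (m : ℕ) (x : ↑((localCohomology (IsLocalRing.maximalIdeal (Localization.AtPrime p.asIdeal)) i).obj (ModuleCat.of (Localization.AtPrime p.asIdeal) (LocalizedModule p.asIdeal.primeCompl (M m))))), x ∈ LinearMap.range ((localCohomology (IsLocalRing.maximalIdeal (Localization.AtPrime p.asIdeal)) i).map (ModuleCat.ofHom (LocalizedModule.map p.asIdeal.primeCompl (φ (m' m) m (hm' m))))).hom → ((localCohomology (IsLocalRing.maximalIdeal (Localization.AtPrime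 p.asIdeal)) i).map (ModuleCat.ofHom (LocalizedModule.map p.asIdeal.primeCompl (φ m 0 (Nat.zero_le m))))).hom x = 0 → x = 0) : ∃ m₀ : ℕ, ∀ m : ℕ, ∀ (hm : m₀ ≤ m), ∃ m'' : ℕ, m ≤ m'' ∧ ∀ (k : ℕ) (h : m ≤ k), m'' ≤ k → ∀ x : ↑((localCohomology.ofDiagram (Dual2.idealsInDiagram T) i).obj (ModuleCat.of A (M m))), x ∈ LinearMap.range ((localCohomology.ofDiagram (Dual2.idealsInDiagram T) i).map (ModuleCat.ofHom (φ k m h))).hom → ((localCohomology.ofDiagram (Dual2.idealsInDiagram T) i).map (ModuleCat.ofHom (φ m m₀ hm))).hom x = 0 → x = 0 := by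
  classical
  obtain ⟨D, hD⟩ : ∃ D : ℕ, ringKrullDim A ≤ (D : WithBot ℕ∞) := LocCoh.BootPointwise.exists_dim hA
  obtain ⟨hd, hdD⟩ := LocCoh.BootPointwise.negCoheight hD
  let d : PrimeSpectrum A → ℤ := fun p => -((Order.coheight p).toNat : ℤ)
  have hup : LocCoh.BootStrata.up T d (-(D : ℤ)) = T := Set.inter_eq_left.2 fun p _ => by
    have := hdD p
    show -(D : ℤ) ≤ d p
    simp only [d]; omega
  let S := LocCoh.BootPointwise.sys M φ hφ
  have hker : S.PointKer T (-1 + (i : ℤ)) (0 + (i : ℤ)) := fun n => by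
    refine ⟨m' n, hm' n, LocCoh.BootPointwise.pointKer hφ i (hm' n) fun q hq y hy => h3 q hq n _ ⟨y, rfl⟩ ?_⟩
    rw [← hy, ← ModuleCat.comp_apply, ← Functor.map_comp, ← ModuleCat.ofHom_comp,
      LocCoh.BootPointwise.map_comp_eq q (φ (m' n) n (hm' n)) (φ n 0 (Nat.zero_le n)),
      ← hφ _ _ _ (Nat.zero_le n) (hm' n)]
  have hzero : S.PointZero T (-2 + (i : ℤ)) (-1 + (i : ℤ)) := fun n => by
    refine ⟨m' n, hm' n, fun q hq z hz hc => ?_⟩
    rcases Nat.eq_zero_or_pos i with hi | hi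
    · have := LocCoh.BootPointwise.subsingleton_X M φ hφ n (-1 + (i : ℤ)) (by omega)
      exact ⟨1, fun h => q.2.ne_top ((Ideal.eq_top_iff_one _).2 h), 0, Submodule.zero_mem _, Subsingleton.elim _ _⟩
    · obtain ⟨i, rfl⟩ := Nat.exists_eq_add_of_le hi
      have h := LocCoh.BootPointwise.pointZero hφ i (hm' n) (T := T) fun q hq => by
        have := h1 hi q hq n (m' n) (hm' n) le_rfl
        rwa [show Nat.succ 0 + i - 1 = i by omega] at this
      rw [show (-1 + (i : ℤ)) = -2 + ((Nat.succ 0 + i : ℕ) : ℤ) by omega,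
        show (0 + (i : ℤ)) = -1 + ((Nat.succ 0 + i : ℕ) : ℤ) by omega] at h
      exact h q hq z hz hc
  obtain ⟨b, hb⟩ := S.ker (d := d) hd (show -2 + (i : ℤ) + 1 = -1 + (i : ℤ) by omega)
    (show -1 + (i : ℤ) + 1 = 0 + (i : ℤ) by omega) hker hzero (D + 1) (-(D : ℤ))
    (fun p _ => by simp only [d]; push_cast; omega)
  rw [hup] at hb
  refine ⟨b, fun m hm => ?_⟩
  obtain ⟨m₁, hm₁⟩ := hb m
  refine ⟨max m m₁, le_max_left _ _, fun k h hk x hx hx0 => ?_⟩
  obtain ⟨y, rfl⟩ := hx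
  obtain ⟨z, hz, hc, hyz⟩ := LocCoh.BootModel.exists_cycle (LocCoh.BootGlobal.mdl (ModuleCat.of A (M k))) y
  have hy0 : (localCohomology.ofDiagram (Dual2.idealsInDiagram T) i).map (ModuleCat.ofHom (φ k b (hm.trans h))) y = 0 := by
    rw [hφ k m b hm h, ModuleCat.ofHom_comp, Functor.map_comp, ModuleCat.comp_apply]
    exact hx0
  exact (hyz _ _ _ (LocCoh.BootGlobal.lifts (ModuleCat.ofHom (φ k m h)))).2
    (hm₁ k h (hm.trans h) ((le_max_right _ _).trans hk) z hz hc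
      ((hyz _ _ _ (LocCoh.BootGlobal.lifts (ModuleCat.ofHom (φ k b (hm.trans h))))).1 hy0))

end Groth.Agent.S8946
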