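import Groth.Statements.S8950
import Groth.Agent.CIntCI.Ascend
import Groth.Agent.S2166

set_option autoImplicit false
universe u
open scoped TensorProduct
open CInt

namespace Groth.Agent.S8950

/-- Base change of the local complete intersection property along finitely generated field extensions.
Suppose R is a Noetherian k-algebra, k a field, with every local ring of R a complete intersection,
and suppose K is finitely generated as a field over k; then the tensor product K ⊗_k R is again a
Noetherian ring, and every localization of it at a prime is a complete intersection. -/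
theorem result (k K R : Type u) [Field k] [Field K] [Algebra k K] (hK : ∃ s : Finset K, IntermediateField.adjoin k (s : Set K) = ⊤) [CommRing R] [Algebra k R] [IsNoetherianRing R] (hR : ∀ (p : Ideal R) [p.IsPrime], Pi1.IsCompleteIntersection (Localization.AtPrime p)) : IsNoetherianRing (K ⊗[k] R) ∧ ∀ (P : Ideal (K ⊗[k] R)) [P.IsPrime], Pi1.IsCompleteIntersection (Localization.AtPrime P) := by
  classical
  obtain ⟨fs, hfs⟩ := hK
  obtain ⟨n, g, hg⟩ : ∃ (n : ℕ) (g : Fin n → K), Set.range g = (fs : Set K) :=
    ⟨fs.card, fun i => (fs.equivFin.symm i : K), by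
      ext x
      refine ⟨fun ⟨i, hi⟩ => hi ▸ (fs.equivFin.symm i).2, fun hx => ⟨fs.equivFin ⟨x, hx⟩, by simp⟩⟩⟩
  let P₀ := MvPolynomial (Fin n) k
  let T := MvPolynomial (Fin n) R
  let θ : P₀ →ₐ[k] K := MvPolynomial.aeval g
  let ι : P₀ →+* T := MvPolynomial.map (algebraMap k R)
  let π : T →+* K ⊗[k] R :=
    MvPolynomial.eval₂Hom (Algebra.TensorProduct.includeRight (R := k) (A := K) (B := R)).toRingHom
      fun i => g i ⊗ₜ[k] (1 : R)
  have hπι : ∀ p : P₀, π (ι p) = θ p ⊗ₜ[k] (1 : R) := by
    intro p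
    have h : π.comp ι = (Algebra.TensorProduct.includeLeft (R := k) (S := k) (A := K) (B := R)).toRingHom.comp θ.toRingHom := by
      refine MvPolynomial.ringHom_ext (fun c => ?_) fun i => ?_
      · show π (MvPolynomial.map _ (MvPolynomial.C c)) = θ (MvPolynomial.C c) ⊗ₜ[k] (1 : R)
        rw [MvPolynomial.map_C, MvPolynomial.eval₂Hom_C]
        show (1 : K) ⊗ₜ[k] algebraMap k R c = θ (MvPolynomial.C c) ⊗ₜ[k] (1 : R)
        rw [Algebra.algebraMap_eq_smul_one, ← TensorProduct.smul_tmul, MvPolynomial.algHom_C, Algebra.algebraMap_eq_smul_one]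
      · show π (MvPolynomial.map _ (MvPolynomial.X i)) = θ (MvPolynomial.X i) ⊗ₜ[k] (1 : R)
        rw [MvPolynomial.map_X, MvPolynomial.eval₂Hom_X']
        exact congrArg (· ⊗ₜ[k] (1 : R)) (MvPolynomial.aeval_X g i).symm
    exact RingHom.congr_fun h p
  -- every element is a fraction with denominator from the polynomial ring over `k`
  have hden : ∀ z : K ⊗[k] R, ∃ b : P₀, θ b ≠ 0 ∧ ∃ a : T, π (ι b) * z = π a := by
    intro z
    induction z with
    | zero => exact ⟨1, by simp, 0, by simp⟩
    | tmul x r =>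
      obtain ⟨p, q, hpq⟩ := (IntermediateField.mem_adjoin_range_iff k g x).1 (by
        rw [hg, hfs]; exact IntermediateField.mem_top)
      by_cases hq : θ q = 0
      · refine ⟨1, by simp, 0, ?_⟩
        have hx : x = 0 := by rw [hpq, show MvPolynomial.aeval g q = 0 from hq, div_zero]
        simp [hx]
      refine ⟨q, hq, ι p * MvPolynomial.C r, ?_⟩
      rw [map_mul, hπι, hπι, MvPolynomial.eval₂Hom_C]
      show (θ q ⊗ₜ[k] (1 : R)) * (x ⊗ₜ[k] r) = (θ p ⊗ₜ[k] (1 : R)) * ((1 : K) ⊗ₜ[k] r)
      rw [Algebra.TensorProduct.tmul_mul_tmul, Algebra.TensorProduct.tmul_mul_tmul, mul_one]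
      congr 1
      rw [hpq]
      exact mul_div_cancel₀ _ hq
    | add u v hu hv =>
      obtain ⟨b, hb, a, ha⟩ := hu
      obtain ⟨b', hb', a', ha'⟩ := hv
      refine ⟨b * b', by simp [map_mul, hb, hb'], ι b' * a + ι b * a', ?_⟩
      simp only [map_mul, map_add, ← ha, ← ha']
      ring
  have hunit : ∀ b : P₀, θ b ≠ 0 → IsUnit (π (ι b)) := fun b hb => by
    rw [hπι]
    exact (isUnit_iff_ne_zero.2 hb).map (Algebra.TensorProduct.includeLeft (R := k) (S := k) (A := K) (B := R))
  haveI hN : IsNoetherianRing (K ⊗[k] R) := by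
    refine ⟨fun J => ?_⟩
    have hJ : J = Ideal.map π (Ideal.comap π J) := by
      refine le_antisymm (fun z hz => ?_) Ideal.map_comap_le
      obtain ⟨b, hb, a, ha⟩ := hden z
      have h1 : π a ∈ Ideal.map π (Ideal.comap π J) :=
        Ideal.mem_map_of_mem π (show π a ∈ J from ha ▸ Ideal.mul_mem_left J _ hz)
      rw [← ha] at h1
      exact (Ideal.unit_mul_mem_iff_mem _ (hunit b hb)).1 h1
    rw [hJ]
    exact Ideal.FG.map (IsNoetherian.noetherian _) π
  refine ⟨hN, fun Q _ => ?_⟩
  let P : Ideal P₀ := RingHom.ker θ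
  haveI : P.IsPrime := RingHom.ker_isPrime _
  let Q₁ : Ideal T := Q.comap π
  haveI : Q₁.IsPrime := Ideal.comap_isPrime π Q
  have hcomap : Q₁.comap ι = P := by
    ext b
    refine ⟨fun hb => ?_, fun hb => ?_⟩
    · by_contra hne
      exact (inferInstance : Q.IsPrime).ne_top (Ideal.eq_top_of_isUnit_mem _ hb (hunit b hne))
    · show π (ι b) ∈ Q
      rw [hπι, show θ b = 0 from hb, TensorProduct.zero_tmul]
      exact Q.zero_mem
  -- the kernel of `π` comes from the polynomial ring over `k`
  have hker : RingHom.ker π ≤ P.map ι := by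
    let θ' := θ.rangeRestrict
    let e := MvPolynomial.algebraTensorAlgEquiv (σ := Fin n) k R
    let Φ : R ⊗[k] P₀ →ₐ[k] R ⊗[k] K := Algebra.TensorProduct.map (AlgHom.id k R) θ
    let Ψ : R ⊗[k] P₀ →ₐ[k] R ⊗[k] θ.range := Algebra.TensorProduct.map (AlgHom.id k R) θ'
    have hfac : ∀ z, Φ z = (θ.range.val.toLinearMap).lTensor R (Ψ z) := fun z => by
      induction z with
      | zero => simp
      | tmul r p => rfl
      | add u v hu hv => simp only [map_add, hu, hv]
    have hinj : Function.Injective ((θ.range.val.toLinearMap).lTensor R) :=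
      Module.Flat.lTensor_preserves_injective_linearMap _ Subtype.val_injective
    have hkΨ : RingHom.ker Ψ = (RingHom.ker θ').map Algebra.TensorProduct.includeRight :=
      Algebra.TensorProduct.lTensor_ker θ' θ.rangeRestrict_surjective
    have hθ' : RingHom.ker θ' = P := by
      ext b
      simp only [RingHom.mem_ker, P, θ']
      exact ⟨fun h => congrArg Subtype.val h, fun h => Subtype.ext h⟩
    have he : ∀ z, π (e z) = Algebra.TensorProduct.comm k R K (Φ z) := fun z => by
      induction z with
      | zero => simp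
      | tmul r p =>
        rw [MvPolynomial.algebraTensorAlgEquiv_tmul, MvPolynomial.smul_eq_C_mul, map_mul,
          MvPolynomial.eval₂Hom_C]
        show ((1 : K) ⊗ₜ[k] r) * π (ι p) = θ p ⊗ₜ[k] r
        rw [hπι, Algebra.TensorProduct.tmul_mul_tmul, one_mul, mul_one]
      | add u v hu hv => simp only [map_add, hu, hv]
    intro f hf
    obtain ⟨z, rfl⟩ := e.surjective f
    have h1 : Φ z = 0 := (Algebra.TensorProduct.comm k R K).injective (by
      rw [← he, map_zero]; exact hf)
    rw [hfac] at h1
    have h2 : Ψ z = 0 := hinj (h1.trans (map_zero _).symm)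
    have h3 : z ∈ P.map (Algebra.TensorProduct.includeRight (R := k) (A := R) (B := P₀)) := by
      rw [← hθ', ← hkΨ]; exact h2
    refine (Ideal.map_le_iff_le_comap (f := (Algebra.TensorProduct.includeRight (R := k) (A := R) (B := P₀))) (K := (P.map ι).comap e)).2 (fun b hb => ?_) h3
    show e ((1 : R) ⊗ₜ[k] b) ∈ P.map ι
    rw [MvPolynomial.algebraTensorAlgEquiv_tmul, one_smul]
    exact Ideal.mem_map_of_mem ι hb
  -- the localization of the polynomial ring over `R` is a complete intersection
  let p₀ : Ideal R := Q₁.comap MvPolynomial.C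
  haveI : p₀.IsPrime := Ideal.comap_isPrime _ _
  let Rp := Localization.AtPrime p₀
  letI : Algebra T (MvPolynomial (Fin n) Rp) := MvPolynomial.algebraMvPolynomial
  haveI : IsLocalization (p₀.primeCompl.map (MvPolynomial.C (σ := Fin n))) (MvPolynomial (Fin n) Rp) :=
    MvPolynomial.isLocalization p₀.primeCompl Rp
  let Q₂ : Ideal (MvPolynomial (Fin n) Rp) := Q₁.map (algebraMap T (MvPolynomial (Fin n) Rp))
  have hdisj : Disjoint (↑(p₀.primeCompl.map (MvPolynomial.C (σ := Fin n))) : Set T) (Q₁ : Set T) := by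
    rw [Set.disjoint_left]
    rintro _ ⟨c, hc, rfl⟩ hc'
    exact hc hc'
  haveI : Q₂.IsPrime := IsLocalization.isPrime_of_isPrime_disjoint _ _ Q₁ inferInstance hdisj
  have hQ₂ : Q₂.comap (algebraMap T (MvPolynomial (Fin n) Rp)) = Q₁ :=
    IsLocalization.under_map_of_isPrime_disjoint _ _ inferInstance hdisj
  have hCI2 : Pi1.IsCompleteIntersection (Localization.AtPrime Q₂) := by
    haveI : IsNoetherianRing Rp := IsLocalization.isNoetherianRing p₀.primeCompl Rp inferInstance
    refine Groth.Agent.CIntCI.isCI_polynomial (hR p₀) n Q₂ ?_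
    rw [← IsLocalization.AtPrime.map_eq_maximalIdeal p₀ Rp, Ideal.map_le_iff_le_comap]
    intro c hc
    show MvPolynomial.C (algebraMap R Rp c) ∈ Q₂
    rw [← MvPolynomial.map_C (algebraMap R Rp) c]
    exact Ideal.mem_map_of_mem _ hc
  let C' := Localization.AtPrime Q₁
  have hCI : Pi1.IsCompleteIntersection C' := by
    haveI : IsLocalization.AtPrime (Localization.AtPrime Q₂) Q₁ := by
      have h := IsLocalization.isLocalization_isLocalization_atPrime_isLocalization
        (p₀.primeCompl.map (MvPolynomial.C (σ := Fin n))) (Localization.AtPrime Q₂) Q₂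
      have hh : (Q₂.comap (algebraMap T (MvPolynomial (Fin n) Rp))).primeCompl = Q₁.primeCompl :=
        SetLike.ext fun x => not_congr (SetLike.ext_iff.1 hQ₂ x)
      change IsLocalization (Q₂.comap (algebraMap T (MvPolynomial (Fin n) Rp))).primeCompl _ at h
      rw [hh] at h
      exact h
    exact (Groth.Agent.CIntCI.isCI_iff_of_ringEquiv
      (IsLocalization.algEquiv Q₁.primeCompl C' (Localization.AtPrime Q₂)).toRingEquiv).2 hCI2
  -- the regular sequence generating the maximal ideal of the local ring over `k`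
  let R₀ := Localization.AtPrime P
  haveI : IsRegularRing P₀ := inferInstance
  haveI : IsRegularLocalRing R₀ := IsRegularRing.isRegularLocalRing_localization P
  letI : Algebra P₀ T := MvPolynomial.algebraMvPolynomial
  haveI : Module.Flat P₀ T := by
    have h : Algebra.IsPushout k R P₀ T := inferInstance
    haveI := Algebra.IsPushout.symm h
    exact Module.Flat.isBaseChange (R := k) (S := P₀) (M := R) T
      (Algebra.IsPushout.out (R := k) (S := P₀) (R' := R) (S' := T))
  let j : R₀ →+* C' := Localization.localRingHom P Q₁ ι hcomap.symm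
  letI : Algebra R₀ C' := j.toAlgebra
  haveI : IsLocalHom (algebraMap R₀ C') := Localization.isLocalHom_localRingHom _ _ _ _
  haveI : Module.Flat R₀ C' := by
    haveI : IsScalarTower P₀ R₀ C' := .of_algebraMap_eq fun b =>
      (Localization.localRingHom_to_map P Q₁ ι hcomap.symm b).symm
    haveI : Module.Flat T C' := IsLocalization.flat C' Q₁.primeCompl
    haveI : Module.Flat P₀ C' := Module.Flat.trans P₀ T C'
    exact (Module.flat_iff_of_isLocalization R₀ P.primeCompl C').2 inferInstance
  let M : Ideal R₀ := IsLocalRing.maximalIdeal R₀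
  haveI : M.IsMaximal := IsLocalRing.maximalIdeal.isMaximal R₀
  obtain ⟨ts, hts, htreg⟩ := (Groth.Agent.Synt44.exists_regular_iff_spanFinrank M
    (IsLocalRing.maximalIdeal.isMaximal R₀).ne_top).2 (by
      letI := Ideal.Quotient.field M
      rw [ringKrullDim_eq_zero_of_field, add_zero]
      exact IsRegularLocalRing.spanFinrank_maximalIdeal.le)
  -- the quotient
  let D := Localization.AtPrime Q
  let ψ : C' →+* D := Localization.localRingHom Q₁ Q π rfl
  have hψ : Function.Surjective ψ := by
    intro d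
    obtain ⟨⟨z, ⟨s, hs⟩⟩, rfl⟩ := IsLocalization.mk'_surjective Q.primeCompl d
    obtain ⟨b, hb, a, ha⟩ := hden z
    obtain ⟨b', hb', a', ha'⟩ := hden s
    have hden' : a' * ι b ∈ Q₁.primeCompl := fun h => by
      have h' : π (a' * ι b) ∈ Q := h
      rw [map_mul, ← ha'] at h'
      exact hs ((Ideal.unit_mul_mem_iff_mem _ (hunit b' hb')).1 ((Ideal.mul_unit_mem_iff_mem _ (hunit b hb)).1 h'))
    refine ⟨IsLocalization.mk' C' (a * ι b') ⟨a' * ι b, hden'⟩, ?_⟩
    rw [Localization.localRingHom_mk', IsLocalization.mk'_eq_iff_eq]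
    congr 1
    simp only [map_mul, ← ha, ← ha']
    ring
  have hkψ : RingHom.ker ψ = Ideal.ofList (ts.map (algebraMap R₀ C')) := by
    rw [← Ideal.map_ofList, hts, show M = P.map (algebraMap P₀ R₀) from
      (IsLocalization.AtPrime.map_eq_maximalIdeal P R₀).symm, Ideal.map_map,
      show (algebraMap R₀ C').comp (algebraMap P₀ R₀) = (algebraMap T C').comp ι from
        RingHom.ext fun b => Localization.localRingHom_to_map P Q₁ ι hcomap.symm b, ← Ideal.map_map]
    refine le_antisymm (fun c hc => ?_) (Ideal.map_le_iff_le_comap.2 fun f hf => ?_)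
    · obtain ⟨⟨a, s⟩, rfl⟩ := IsLocalization.mk'_surjective Q₁.primeCompl c
      rw [RingHom.mem_ker, Localization.localRingHom_mk', IsLocalization.mk'_eq_zero_iff] at hc
      obtain ⟨⟨t, ht⟩, hta⟩ := hc
      obtain ⟨b, hb, a', ha'⟩ := hden t
      refine (IsLocalization.mk'_mem_map_algebraMap_iff Q₁.primeCompl _ _ _ _).2 ⟨a', fun h => ?_, hker ?_⟩
      · have h' : π a' ∈ Q := h
        rw [← ha'] at h'
        exact ht ((Ideal.unit_mul_mem_iff_mem _ (hunit b hb)).1 h')
      · rw [RingHom.mem_ker, map_mul, ← ha', mul_assoc]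
        exact (congrArg (π (ι b) * ·) hta).trans (mul_zero _)
    · rw [Ideal.mem_comap, RingHom.mem_ker, Localization.localRingHom_to_map]
      have hf0 : π f = 0 := by
        refine (Ideal.map_le_iff_le_comap (f := ι) (K := RingHom.ker π)).2 (fun b hb => ?_) hf
        rw [Ideal.mem_comap, RingHom.mem_ker, hπι, show θ b = 0 from hb, TensorProduct.zero_tmul]
      rw [hf0, map_zero]
  let e : C' ⧸ Ideal.ofList (ts.map (algebraMap R₀ C')) ≃+* D :=
    (Ideal.quotEquivOfEq hkψ.symm).trans (RingHom.quotientKerEquivOfSurjective hψ)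
  haveI : IsLocalRing (C' ⧸ Ideal.ofList (ts.map (algebraMap R₀ C'))) := e.symm.isLocalRing
  haveI : IsNoetherianRing C' := IsLocalization.isNoetherianRing Q₁.primeCompl C' inferInstance
  have hmem : ∀ r ∈ ts.map (algebraMap R₀ C'), r ∈ IsLocalRing.maximalIdeal C' := fun r hr =>
    IsLocalRing.le_maximalIdeal (RingHom.ker_ne_top ψ) (hkψ.ge (Ideal.subset_span hr))
  exact (Groth.Agent.CIntCI.isCI_iff_of_ringEquiv e).1 (Groth.Agent.CIntCI.isCI_of_regular_quotient hCI _
    (.of_isWeaklyRegular_of_mem_maximalIdeal _ hmem htreg.toIsWeaklyRegular.of_flat))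

end Groth.Agent.S8950
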