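import Groth.Statements.S8951
import Groth.Agent.CInt77.Ascent
import Groth.Agent.EGA4Lib.FibreLoc

set_option autoImplicit false
universe u
open scoped TensorProduct
open CInt

namespace Groth.Agent.S8951

open IsLocalRing in
open scoped TensorProduct in
/-- The local ring of a fibre at a prime is the local fibre ring of the point below. -/
theorem nonempty_equiv (A B : Type u) [CommRing A] [CommRing B] [Algebra A B] (p : Ideal A) [p.IsPrime]
    (Q : Ideal (p.Fiber B)) [Q.IsPrime] :
    ∃ (r : Ideal B) (_ : r.IsPrime), r.comap (algebraMap A B) = p ∧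
      Nonempty (Localization.AtPrime Q ≃+* EGA4.FibLocRing A B r) := by
  let r := Q.comap (Algebra.TensorProduct.includeRight (R := A) (A := p.ResidueField) (B := B))
  have hp : r.comap (algebraMap A B) = p := by
    ext a
    have h : (Algebra.TensorProduct.includeRight (R := A) (A := p.ResidueField) (B := B)) (algebraMap A B a) =
        algebraMap p.ResidueField (p.Fiber B) (algebraMap A p.ResidueField a) := by
      rw [AlgHom.commutes, ← IsScalarTower.algebraMap_apply]
    show (Algebra.TensorProduct.includeRight (R := A) (A := p.ResidueField) (B := B)) (algebraMap A B a) ∈ Q ↔ _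
    rw [h, ← Ideal.algebraMap_residueField_eq_zero (I := p)]
    refine ⟨fun ha => ?_, fun ha => by rw [ha, map_zero]; exact zero_mem _⟩
    by_contra hne
    exact Ideal.IsPrime.ne_top' (Ideal.eq_top_of_isUnit_mem Q ha ((IsUnit.mk0 _ hne).map _))
  refine ⟨r, inferInstanceAs (Q.comap _).IsPrime, hp, ⟨?_⟩⟩
  exact ((Ideal.Fiber.algEquivAux₂ p Q).toRingEquiv).trans (Ideal.quotEquivOfEq (by
    show (p.map (algebraMap A B)).map (algebraMap B (Localization.AtPrime r)) =
      (r.comap (algebraMap A B)).map (algebraMap A (Localization.AtPrime r))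
    rw [hp, Ideal.map_map, ← IsScalarTower.algebraMap_eq]))

/-- Complete intersection fibres are preserved by composing with a regular map. For flat maps A → B → C
of Noetherian rings, if all local rings of the fibres of A → B are complete intersections and B → C
is regular, then all local rings of the fibres of A → C are complete intersections. -/
theorem result (A B C : Type u) [CommRing A] [CommRing B] [CommRing C] [IsNoetherianRing A] [IsNoetherianRing B] [IsNoetherianRing C] [Algebra A B] [Algebra B C] [Algebra A C] [IsScalarTower A B C] [Module.Flat A B] [Module.Flat B C] (hAB : ∀ (q : Ideal A) [q.IsPrime] (P : Ideal (q.Fiber B)) [P.IsPrime], Pi1.IsCompleteIntersection (Localization.AtPrime P)) (hBC : CAlg.IsRegularHom B C) : ∀ (q : Ideal A) [q.IsPrime] (P : Ideal (q.Fiber C)) [P.IsPrime], Pi1.IsCompleteIntersection (Localization.AtPrime P) := by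
  intro q _ P _
  obtain ⟨r, hr, hrq, ⟨E⟩⟩ := nonempty_equiv A C q P
  haveI := hr
  let s := r.comap (algebraMap B C)
  have hsq : s.comap (algebraMap A B) = q := by
    rw [Ideal.comap_comap, ← IsScalarTower.algebraMap_eq]; exact hrq
  let L := Localization.AtPrime s
  let M := Localization.AtPrime r
  let I := (s.comap (algebraMap A B)).map (algebraMap A L)
  letI : Algebra L M := (Localization.localRingHom s r (algebraMap B C) rfl).toAlgebra
  haveI hloc : IsLocalHom (algebraMap L M) := Localization.isLocalHom_localRingHom _ _ _ rfl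
  haveI : Module.Flat L M :=
    RingHom.flat_algebraMap_iff.1
      (RingHom.Flat.localRingHom (RingHom.flat_algebraMap_iff.2 inferInstance) r s rfl)
  have hBM : (algebraMap L M).comp (algebraMap B L) = algebraMap B M := by
    ext b
    rw [RingHom.comp_apply, RingHom.algebraMap_toAlgebra, Localization.localRingHom_to_map,
      ← IsScalarTower.algebraMap_apply]
  have hIM : I.map (algebraMap L M) = (r.comap (algebraMap A C)).map (algebraMap A M) := by
    rw [hrq, ← hsq, Ideal.map_map]
    congr 1
    rw [IsScalarTower.algebraMap_eq A B L, ← RingHom.comp_assoc, hBM, ← IsScalarTower.algebraMap_eq]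
  have hIm : I ≤ IsLocalRing.maximalIdeal L := by
    rw [← Localization.AtPrime.map_eq_maximalIdeal]
    refine Ideal.map_le_iff_le_comap.2 fun a ha => ?_
    rw [Ideal.mem_comap, IsScalarTower.algebraMap_apply A B L]
    exact Ideal.mem_map_of_mem _ ha
  have hIMm : I.map (algebraMap L M) ≤ IsLocalRing.maximalIdeal M :=
    (Ideal.map_mono hIm).trans (IsLocalRing.map_maximalIdeal_le (algebraMap L M))
  haveI : Nontrivial (L ⧸ I) := Ideal.Quotient.nontrivial_iff.2
    fun h => (IsLocalRing.maximalIdeal.isMaximal L).ne_top (top_le_iff.1 (h ▸ hIm))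
  haveI : Nontrivial (M ⧸ I.map (algebraMap L M)) := Ideal.Quotient.nontrivial_iff.2
    fun h => (IsLocalRing.maximalIdeal.isMaximal M).ne_top (top_le_iff.1 (h ▸ hIMm))
  haveI : IsLocalRing (L ⧸ I) := IsLocalRing.of_surjective' (Ideal.Quotient.mk I) Ideal.Quotient.mk_surjective
  haveI : IsLocalRing (M ⧸ I.map (algebraMap L M)) :=
    IsLocalRing.of_surjective' (Ideal.Quotient.mk _) Ideal.Quotient.mk_surjective
  haveI : IsNoetherianRing L := IsLocalization.isNoetherianRing s.primeCompl L inferInstance
  haveI : IsNoetherianRing M := IsLocalization.isNoetherianRing r.primeCompl M inferInstance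
  haveI : Module.Flat (L ⧸ I) (M ⧸ I.map (algebraMap L M)) :=
    Module.Flat.of_linearEquiv (Algebra.TensorProduct.quotIdealMapEquivQuotTensor M I).toLinearEquiv
  have hmle : (IsLocalRing.maximalIdeal (L ⧸ I)).map (algebraMap (L ⧸ I) (M ⧸ I.map (algebraMap L M))) =
      ((IsLocalRing.maximalIdeal L).map (algebraMap L M)).map (Ideal.Quotient.mk _) := by
    rw [← IsLocalRing.map_maximalIdeal_of_surjective (Ideal.Quotient.mk I) Ideal.Quotient.mk_surjective]
    refine Eq.trans (Ideal.map_map (I := IsLocalRing.maximalIdeal L) (Ideal.Quotient.mk I) _)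
      (Eq.trans ?_ (Ideal.map_map (I := IsLocalRing.maximalIdeal L) (algebraMap L M) _).symm)
    rfl
  haveI : IsLocalHom (algebraMap (L ⧸ I) (M ⧸ I.map (algebraMap L M))) :=
    ((IsLocalRing.local_hom_TFAE (algebraMap (L ⧸ I) (M ⧸ I.map (algebraMap L M)))).out 0 2).mpr (by
      rw [hmle, ← IsLocalRing.map_maximalIdeal_of_surjective (Ideal.Quotient.mk (I.map (algebraMap L M)))
        Ideal.Quotient.mk_surjective]
      exact Ideal.map_mono (IsLocalRing.map_maximalIdeal_le (algebraMap L M)))
  haveI : IsRegularLocalRing (EGA4.FibLocRing B C r) :=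
    Groth.Agent.EGA4Lib.isRegularLocalRing_fibLocRing B (fun p _ => (hBC.2 p).2) r
  haveI : IsRegularLocalRing (EGA4.FibRing (L ⧸ I) (M ⧸ I.map (algebraMap L M))) := by
    refine IsRegularLocalRing.of_ringEquiv (R := EGA4.FibLocRing B C r) ?_
    refine (Ideal.quotEquivOfEq ?_).trans ((DoubleQuot.quotQuotEquivQuotOfLE
      (Ideal.map_mono hIm : I.map (algebraMap L M) ≤ (IsLocalRing.maximalIdeal L).map (algebraMap L M))).symm.trans
      (Ideal.quotEquivOfEq hmle.symm))
    rw [← Localization.AtPrime.map_eq_maximalIdeal, Ideal.map_map, hBM]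
  obtain ⟨n, hn, -⟩ := Groth.Agent.RegLoc.exists_natCast_eq_ringKrullDim
    (EGA4.FibRing (L ⧸ I) (M ⧸ I.map (algebraMap L M)))
  obtain ⟨Q, _, ⟨EQ⟩⟩ := Groth.Agent.EGA4Lib.nonempty_fibLocRing_equiv A s
  have hA : Pi1.IsCompleteIntersection (L ⧸ I) :=
    Groth.Agent.CIntCI.isCI_of_ringEquiv EQ (hAB _ Q)
  exact Groth.Agent.CIntCI.isCI_of_ringEquiv ((Ideal.quotEquivOfEq hIM).trans E.symm)
    (Groth.Agent.CInt77.isCI_of_regular_fibre (L ⧸ I) hA n (M ⧸ I.map (algebraMap L M)) hn)

end Groth.Agent.S8951
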