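import Groth.Statements.S8954
import Groth.Agent.SquarePres.General
import Groth.Agent.SquarePres.Basic
import Groth.Agent.QuietLib.Syntomic
import Mathlib.RingTheory.LocalRing.Module
-- import your own Groth.Agent.* helpers here

set_option autoImplicit false
universe u
open Synt

namespace Groth.Agent.S8954

open TensorProduct

/-- The equivalence of being finite syntomic with having a square presentation, stated over a local
base. For a local ring A and a finite A-algebra B, the map A → B is syntomic if and only if B ≅
A[x_1, …, x_n]/(f_1, …, f_n) as A-algebras for some n and f_1, …, f_n ∈ A[x_1, …, x_n]. (The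
published statement is for a finite morphism of schemes and asserts such a presentation over some
affine open neighbourhood of each point of the base; over a local base that neighbourhood is the
whole spectrum.) -/
theorem result (A B : Type u) [CommRing A] [IsLocalRing A] [CommRing B] [Algebra A B] [Module.Finite A B] : Synt.IsSyntomic A B ↔ ∃ (n : ℕ) (F : Fin n → MvPolynomial (Fin n) A), Nonempty (B ≃ₐ[A] Synt.RelGCIRing A n n F) := by
  constructor
  · rintro ⟨hflat, hfp, hci⟩
    have : Module.Free A B := Module.free_of_flat_of_isLocalRing
    let p := IsLocalRing.maximalIdeal A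
    let k := p.ResidueField
    have hk : Function.Surjective (algebraMap A k) := Ideal.algebraMap_residueField_surjective p
    let ρ : B →ₐ[A] p.Fiber B := Algebra.TensorProduct.includeRight
    have hρ : Function.Surjective ρ := by
      intro t
      induction t using TensorProduct.induction_on with
      | zero => exact ⟨0, map_zero ρ⟩
      | tmul c b =>
        obtain ⟨a, rfl⟩ := hk c
        refine ⟨a • b, ?_⟩
        change (1 : k) ⊗ₜ[A] (a • b) = _
        rw [← TensorProduct.smul_tmul, Algebra.smul_def, mul_one]
      | add x y hx hy =>
        obtain ⟨b, rfl⟩ := hx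
        obtain ⟨c, rfl⟩ := hy
        exact ⟨b + c, map_add ρ b c⟩
    have hρk : RingHom.ker ρ.toRingHom ≤ p.map (algebraMap A B) := by
      intro x hx
      have h := (Algebra.TensorProduct.lTensor_ker (A := B) (IsScalarTower.toAlgHom A A k) hk)
      have hx' : x ⊗ₜ[A] (1 : k) = 0 := by
        have := congrArg (Algebra.TensorProduct.comm A k B) (RingHom.mem_ker.1 hx)
        rw [map_zero] at this
        exact this
      have hx'' : x ⊗ₜ[A] (1 : A) ∈ RingHom.ker
          (Algebra.TensorProduct.map (AlgHom.id A B) (IsScalarTower.toAlgHom A A k)) := by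
        rw [RingHom.mem_ker, Algebra.TensorProduct.map_tmul]
        simpa using hx'
      rw [h] at hx''
      have h2 := Ideal.mem_map_of_mem (Algebra.TensorProduct.rid A A B).toRingHom hx''
      have hle : RingHom.ker (IsScalarTower.toAlgHom A A k) ≤ p :=
        IsLocalRing.le_maximalIdeal (RingHom.ker_ne_top _)
      have h4 : (((RingHom.ker (IsScalarTower.toAlgHom A A k)).map
          (Algebra.TensorProduct.includeRight : A →ₐ[A] B ⊗[A] A)).map
          (Algebra.TensorProduct.rid A A B).toRingHom) ≤ p.map (algebraMap A B) := by
        rw [Ideal.map_le_iff_le_comap, Ideal.map_le_iff_le_comap]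
        intro a ha
        rw [Ideal.mem_comap, Ideal.mem_comap]
        have : (Algebra.TensorProduct.rid A A B).toRingHom
            ((Algebra.TensorProduct.includeRight : A →ₐ[A] B ⊗[A] A) a) = algebraMap A B a := by
          change (Algebra.TensorProduct.rid A A B) ((1 : B) ⊗ₜ[A] a) = _
          rw [Algebra.TensorProduct.rid_tmul, Algebra.algebraMap_eq_smul_one]
        exact this ▸ Ideal.mem_map_of_mem _ (hle ha)
      have h5 := h4 h2
      have : (Algebra.TensorProduct.rid A A B).toRingHom (x ⊗ₜ[A] (1 : A)) = x := by
        change (Algebra.TensorProduct.rid A A B) (x ⊗ₜ[A] (1 : A)) = x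
        rw [Algebra.TensorProduct.rid_tmul, one_smul]
      exact this ▸ h5
    obtain ⟨n, f, b, hb, hker⟩ := Groth.Agent.SquarePres.exists_square hk ρ hρ hρk (hci ⟨p, inferInstance⟩)
    exact ⟨n, f, ⟨(Ideal.quotientKerAlgEquivOfSurjective hb).symm.trans
      (Ideal.quotientEquivAlgOfEq A hker)⟩⟩
  · rintro ⟨n, F, ⟨e⟩⟩
    have hfin : Module.Finite A (Synt.RelGCIRing A n n F) := Module.Finite.equiv e.toLinearEquiv
    have : Module.Flat A (Synt.RelGCIRing A n n F) := Groth.Agent.SquarePres.flat_square F
    have : Module.Flat A B := Module.Flat.of_linearEquiv e.toLinearEquiv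
    refine Groth.Agent.QuietLib.isSyntomic_of_balanced_quasiFinite A B ⟨Fin n, Fin n,
      inferInstance, inferInstance, rfl, ?_⟩
    exact ⟨(Algebra.Presentation.naive (Function.surjInv Ideal.Quotient.mk_surjective)
      (Function.surjInv_eq _)).ofAlgEquiv e.symm⟩

end Groth.Agent.S8954
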