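import Groth.Statements.S8957
import Groth.Agent.SquarePres.Different
-- import your own Groth.Agent.* helpers here

set_option autoImplicit false
universe u
open Disc

namespace Groth.Agent.S8957

open TensorProduct Groth.Agent

/-- Affine case of a finite free syntomic morphism. Let A be a Noetherian ring and B a finite free
A-algebra with A → B syntomic. Then the different of B over A (the elements b with b · Hom_A(B, A) ⊆
B · Trace_{B/A}) coincides, as a subset of B, with the Kähler different Fit_0(Ω_{B/A}). (The
published statement is for a flat quasi-finite local complete intersection morphism of Noetherian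
schemes and the different as an ideal sheaf; this row is its affine finite free case, where the
relative dualizing module is Hom_A(B, A) and the trace element is the trace.) -/
theorem result (A B : Type u) [CommRing A] [CommRing B] [Algebra A B] [IsNoetherianRing A] [Module.Finite A B] [Module.Free A B] (h : Synt.IsSyntomic A B) : Disc.differentSet A B = (Fitt.ideal B (KaehlerDifferential A B) 0 : Set B) := by
  classical
  let β := Module.Free.chooseBasis A B
  let Fit := Fitt.ideal B (KaehlerDifferential A B) 0
  have hfp : Algebra.FinitePresentation A B := h.2.1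
  have hloc : ∀ (p : Ideal A) [p.IsPrime] (b : B),
      (b ∈ Disc.differentSet A B → ∃ s ∉ p, s • b ∈ Fit) ∧
      (b ∈ Fit → ∀ k, ∃ s ∉ p, ∃ c : B, ∀ j,
        Algebra.trace A B (c * β j) = s * β.coord k (b * β j)) := by
    intro p _ b
    letI : Algebra B (Localization.AtPrime p ⊗[A] B) := Algebra.TensorProduct.rightAlgebra
    have : IsLocalizedModule p.primeCompl (TensorProduct.mk A (Localization.AtPrime p) B 1) :=
      inferInstance
    have hB' : IsLocalization (Algebra.algebraMapSubmonoid B p.primeCompl)
        (Localization.AtPrime p ⊗[A] B) :=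
      isLocalizedModule_iff_isLocalization.1 (show IsLocalizedModule p.primeCompl
        (IsScalarTower.toAlgHom A B (Localization.AtPrime p ⊗[A] B)).toLinearMap from this)
    obtain ⟨n, f, g, hg, hker⟩ := SquarePres.exists_square_tensor (A := A) (B := B)
      (Localization.AtPrime p) p.ResidueField Ideal.Quotient.mk_surjective (h.2.2 ⟨p, inferInstance⟩)
    have hD : (1 : Localization.AtPrime p) ⊗ₜ[A] b ∈
        Disc.differentSet (Localization.AtPrime p) (Localization.AtPrime p ⊗[A] B) ↔
        algebraMap B (Localization.AtPrime p ⊗[A] B) b ∈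
          Fit.map (algebraMap B (Localization.AtPrime p ⊗[A] B)) := by
      rw [SquarePres.mem_differentSet_iff_of_square f g hg hker,
        SquarePres.fit_baseChange (A := A) (B := B)]
      rfl
    constructor
    · intro hb
      obtain ⟨⟨⟨i, hi⟩, ⟨_, s, hs, rfl⟩⟩, hsb⟩ :=
        (IsLocalization.mem_map_algebraMap_iff (Algebra.algebraMapSubmonoid B p.primeCompl)
          (Localization.AtPrime p ⊗[A] B)).1
          (hD.1 (SquarePres.mem_differentSet_one_tmul _ b hb))
      simp only at hsb
      rw [← map_mul] at hsb
      obtain ⟨⟨_, t, ht, rfl⟩, hts⟩ :=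
        (IsLocalization.eq_iff_exists (Algebra.algebraMapSubmonoid B p.primeCompl)
          (Localization.AtPrime p ⊗[A] B)).1 hsb
      refine ⟨t * s, p.primeCompl.mul_mem ht hs, ?_⟩
      simp only at hts
      rw [Algebra.smul_def, map_mul, mul_assoc, mul_comm (algebraMap A B s) b, hts]
      exact Fit.mul_mem_left _ hi
    · intro hb k
      exact SquarePres.exists_coord_eq_of_mem (Localization.AtPrime p) p.primeCompl β b
        (hD.2 (Ideal.mem_map_of_mem _ hb)) k
  ext b
  constructor
  · intro hb
    by_contra hne
    let I : Ideal A := (Fit.restrictScalars A).comap (LinearMap.toSpanSingleton A B b)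
    have hI : I ≠ ⊤ := fun h' => hne (by
      have h1 : (1 : A) ∈ I := h' ▸ trivial
      simpa [I, Fit] using h1)
    obtain ⟨p, hp, hle⟩ := Ideal.exists_le_maximal I hI
    obtain ⟨s, hs, hsb⟩ := (hloc p b).1 hb
    exact hs (hle (by simpa [I] using hsb))
  · intro hb
    refine SquarePres.mem_differentSet_of_coord β b fun k => ?_
    let T : B →ₗ[A] (Module.Free.ChooseBasisIndex A B → A) :=
      LinearMap.pi fun j => Algebra.trace A B ∘ₗ LinearMap.mulRight A (β j)
    let I : Ideal A := (LinearMap.range T).comap
      (LinearMap.toSpanSingleton A _ fun j => β.coord k (b * β j))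
    by_contra hne
    have hI : I ≠ ⊤ := fun h' => hne (by
      have h1 : (1 : A) ∈ I := h' ▸ trivial
      obtain ⟨c, hc⟩ := h1
      exact ⟨c, fun j => by simpa [T] using congrFun hc j⟩)
    obtain ⟨p, hp, hle⟩ := Ideal.exists_le_maximal I hI
    obtain ⟨s, hs, c, hc⟩ := (hloc p b).2 hb k
    exact hs (hle ⟨c, funext fun j => by simpa [T] using hc j⟩)

end Groth.Agent.S8957
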