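import Groth.Statements.S8961
import Groth.Agent.QFDLib.Dedekind
import Mathlib
-- import your own Groth.Agent.* helpers here

set_option autoImplicit false
universe u
open QFDual

namespace Groth.Agent.S8961

/-- trace of a matrix killed by a monic polynomial, field case -/
lemma trace_integral_field (A : Type u) [CommRing A] (Ω : Type u) [Field Ω] [Algebra A Ω]
    {n : Type u} [Fintype n] [DecidableEq n] (M : Matrix n n Ω) (f : Polynomial A) (hf : f.Monic)
    (h0 : Polynomial.aeval M f = 0) : IsIntegral A M.trace := by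
  let Ω' := AlgebraicClosure Ω
  have hinj := (algebraMap Ω Ω').injective
  suffices hs : IsIntegral A (algebraMap Ω Ω' M.trace) by
    exact (isIntegral_algHom_iff (IsScalarTower.toAlgHom A Ω Ω') hinj).1 hs
  rw [AddMonoidHom.map_trace, Matrix.trace_eq_sum_roots_charpoly]
  refine IsIntegral.multiset_sum fun r hr => ?_
  rw [Polynomial.mem_roots (Matrix.charpoly_monic _).ne_zero, ← Matrix.mem_spectrum_iff_isRoot_charpoly] at hr
  rcases isEmpty_or_nonempty n with hn | hn
  · exact absurd hr (by simp [spectrum.of_subsingleton])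
  have h1 := spectrum.subset_polynomial_aeval _ (f.map (algebraMap A Ω')) ⟨r, hr, rfl⟩
  have h2 : Polynomial.aeval (M.map (algebraMap Ω Ω')) (f.map (algebraMap A Ω')) = 0 := by
    rw [Polynomial.aeval_map_algebraMap]
    show Polynomial.aeval (((IsScalarTower.toAlgHom A Ω Ω').mapMatrix) M) f = 0
    rw [Polynomial.aeval_algHom_apply, h0, map_zero]
  rw [h2, spectrum.zero_eq, Set.mem_singleton_iff] at h1
  exact ⟨f, hf, by simpa [Polynomial.eval_map] using h1⟩

/-- trace of a matrix killed by a monic polynomial -/
lemma trace_integral (A : Type u) [CommRing A] [IsNoetherianRing A] (K : Type u) [CommRing K] [Algebra A K]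
    [IsFractionRing A K] {n : Type u} [Fintype n] [DecidableEq n] (M : Matrix n n K) (f : Polynomial A)
    (hf : f.Monic) (h0 : Polynomial.aeval M f = 0) : IsIntegral A M.trace := by
  have : IsNoetherianRing K := IsLocalization.isNoetherianRing (nonZeroDivisors A) K inferInstance
  have hfin := minimalPrimes.finite_of_isNoetherianRing K
  have hq : ∀ q ∈ hfin.toFinset, ∃ g : Polynomial A, g.Monic ∧ Polynomial.aeval M.trace g ∈ q := by
    intro q hq
    have hqp : q.IsPrime := (hfin.mem_toFinset.1 hq).1.1
    let Ω := FractionRing (K ⧸ q)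
    let φ : K →ₐ[A] Ω := IsScalarTower.toAlgHom A K Ω
    have h1 : IsIntegral A (M.map φ).trace := by
      refine trace_integral_field A Ω _ f hf ?_
      show Polynomial.aeval (φ.mapMatrix M) f = 0
      rw [Polynomial.aeval_algHom_apply, h0, map_zero]
    rw [← AddMonoidHom.map_trace] at h1
    obtain ⟨g, hg, hg0⟩ := h1
    refine ⟨g, hg, ?_⟩
    have h2 : Polynomial.aeval (φ M.trace) g = 0 := hg0
    rw [Polynomial.aeval_algHom_apply] at h2
    have h3 : algebraMap (K ⧸ q) Ω (Ideal.Quotient.mk q (Polynomial.aeval M.trace g)) = 0 := h2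
    rw [← map_zero (algebraMap (K ⧸ q) Ω)] at h3
    exact Ideal.Quotient.eq_zero_iff_mem.1 (IsFractionRing.injective (K ⧸ q) Ω h3)
  choose! g hg hgq using hq
  have hnil : IsNilpotent (Polynomial.aeval M.trace (∏ q ∈ hfin.toFinset, g q)) := by
    rw [← mem_nilradical, nilradical_eq_sInf, Ideal.mem_sInf]
    intro P hP
    have hPp : P.IsPrime := hP
    obtain ⟨q, hq, hqP⟩ := Ideal.exists_minimalPrimes_le (bot_le : ⊥ ≤ P)
    have hq' : q ∈ hfin.toFinset := hfin.mem_toFinset.2 hq
    rw [← Finset.mul_prod_erase _ _ hq', map_mul]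
    exact hqP (q.mul_mem_right _ (hgq q hq'))
  obtain ⟨k, hk⟩ := hnil
  refine ⟨(∏ q ∈ hfin.toFinset, g q) ^ k, (Polynomial.monic_prod_of_monic _ _ hg).pow k, ?_⟩
  show Polynomial.aeval M.trace _ = 0
  rw [map_pow, hk]

/-- a normal ring is integrally closed in its total ring of fractions -/
lemma mem_range_of_integral (A : Type u) [CommRing A] (K : Type u) [CommRing K] [Algebra A K]
    [IsFractionRing A K] (hA : EGA4.IsNormalRing A) (t : K) (ht : IsIntegral A t) :
    t ∈ (algebraMap A K).range := by
  let I : Ideal A := Submodule.comap (LinearMap.toSpanSingleton A K t) (LinearMap.range (Algebra.linearMap A K))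
  have hI : ∀ x, x ∈ I ↔ algebraMap A K x * t ∈ (algebraMap A K).range := fun x => by
    simp [I, Algebra.smul_def]
  by_cases htop : I = ⊤
  · have := (hI 1).1 (by rw [htop]; trivial)
    simpa using this
  exfalso
  obtain ⟨p, hp, hle⟩ := Ideal.exists_le_maximal I htop
  obtain ⟨hdom, hic⟩ := hA p
  let Ap := Localization.AtPrime p
  let Fp := FractionRing Ap
  have hunit : ∀ s : nonZeroDivisors A, IsUnit (algebraMap A Fp s) := by
    intro s
    rw [IsScalarTower.algebraMap_apply A Ap Fp, isUnit_iff_ne_zero]
    intro h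
    rw [← map_zero (algebraMap Ap Fp)] at h
    have h' := IsFractionRing.injective Ap Fp h
    rw [IsLocalization.map_eq_zero_iff p.primeCompl] at h'
    obtain ⟨v, hv⟩ := h'
    exact v.2 (by rw [(mem_nonZeroDivisors_iff_right.1 s.2) v.1 hv]; exact p.zero_mem)
  let ψ : K →ₐ[A] Fp := IsLocalization.liftAlgHom (M := nonZeroDivisors A) (f := Algebra.ofId A Fp) hunit
  have hψ : IsIntegral Ap (ψ t) := (ht.map ψ).tower_top
  obtain ⟨y, hy⟩ := IsIntegrallyClosed.isIntegral_iff.1 hψ
  obtain ⟨⟨c, u⟩, hcu⟩ := IsLocalization.surj p.primeCompl y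
  obtain ⟨⟨a, s⟩, has⟩ := IsLocalization.surj (nonZeroDivisors A) t
  have e1 : algebraMap A Ap (a * u) = algebraMap A Ap (c * s) := by
    apply IsFractionRing.injective Ap Fp
    rw [map_mul, map_mul, map_mul, map_mul, ← hcu, map_mul, hy, ← IsScalarTower.algebraMap_apply,
      ← IsScalarTower.algebraMap_apply, ← IsScalarTower.algebraMap_apply]
    have e2 := congrArg ψ has
    rw [map_mul, AlgHom.commutes, AlgHom.commutes] at e2
    rw [← e2]; ring
  obtain ⟨v, hv⟩ := (IsLocalization.eq_iff_exists p.primeCompl Ap).1 e1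
  have hmem : (v : A) * (u : A) ∈ I := by
    rw [hI]
    refine ⟨(v : A) * c, ?_⟩
    refine (IsLocalization.map_units K s).mul_right_cancel ?_
    rw [← map_mul, mul_assoc _ t, has, ← map_mul]
    refine congrArg (algebraMap A K) ?_
    calc (v : A) * c * (s : A) = (v : A) * (c * s) := by ring
      _ = (v : A) * (a * u) := hv.symm
      _ = (v : A) * u * a := by ring
  exact (hp.isPrime.mem_or_mem (hle hmem)).elim v.2 u.2


/-- Suppose the Dedekind different of A → B is defined: A is Noetherian, B is a finite A-algebra,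
nonzerodivisors of A are nonzerodivisors on B, and with K = Q(A) and L = B ⊗_A K the map K → L is
étale (here with L finite free over K). If A is a normal ring, i.e. every localization A_p at a
prime is an integrally closed domain, then Trace_{L/K}(b) lies in A for every b ∈ B; equivalently 1
∈ 𝓛_{B/A}. -/
theorem result (A K B L : Type u) [CommRing A] [CommRing K] [CommRing B] [CommRing L] [Algebra A K] [Algebra A B] [Algebra B L] [Algebra K L] [Algebra A L] [IsScalarTower A K L] [IsScalarTower A B L] (h : QFDual.IsDedekindDefined A K B L) (hA : EGA4.IsNormalRing A) : (1 : L) ∈ QFDual.complementary A K B L := by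
  classical
  have := h.isFractionRing
  have := h.isNoetherianRing
  have := h.finite
  have := h.free
  have := h.finiteKL
  intro b
  rw [one_mul]
  refine mem_range_of_integral A K hA _ ?_
  have hbi : IsIntegral A (algebraMap B L b) := (IsIntegral.of_finite A b).map (IsScalarTower.toAlgHom A B L)
  obtain ⟨f, hf, hf0⟩ := hbi
  let bs := Module.Free.chooseBasis K L
  rw [Algebra.trace_eq_matrix_trace bs]
  refine trace_integral A K _ f hf ?_
  have h0 : Polynomial.aeval (algebraMap B L b) f = 0 := hf0
  show Polynomial.aeval (((Algebra.leftMulMatrix bs).restrictScalars A) (algebraMap B L b)) f = 0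
  rw [Polynomial.aeval_algHom_apply, h0, map_zero]

end Groth.Agent.S8961
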