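import Groth.Statements.S8963
import Groth.Agent.QFDLib.Factor
import Groth.Agent.QFDLib.FibreInv
import Groth.Agent.S12080
import Mathlib.RingTheory.LocalRing.ResidueField.Ideal
-- import your own Groth.Agent.* helpers here

set_option autoImplicit false
universe u
open TensorProduct
open QFDual

namespace Groth.Agent.S8963

theorem invertible_of_fibres (A B' B : Type u) [CommRing A] [CommRing B'] [CommRing B] [IsNoetherianRing A] [IsNoetherianRing B]
    [Algebra A B'] [Algebra B' B] [Algebra A B] [IsScalarTower A B' B] [Module.Flat A B] (hf : QFDual.IsQFFactor A B' B)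
    (hspan : Ideal.span (algebraMap B' B '' {s | ∃ k, ∃ (α : B' →ₗ[A] (Fin k → A)) (β : (Fin k → A) →ₗ[A] B'),
      β.comp α = LinearMap.mulLeft A s}) = ⊤)
    (hfib : ∀ (p : Ideal A) [p.IsPrime] (B'₁ B₁ : Type u) [CommRing B'₁] [CommRing B₁] [Algebra B' B'₁] [Algebra p.ResidueField B'₁] [Algebra A B'₁] [IsScalarTower A p.ResidueField B'₁] [IsScalarTower A B' B'₁] [Algebra B B₁] [Algebra p.ResidueField B₁] [Algebra A B₁] [IsScalarTower A p.ResidueField B₁] [IsScalarTower A B B₁] [Algebra B'₁ B₁] [Algebra B' B₁] [IsScalarTower B' B'₁ B₁] [IsScalarTower B' B B₁] [IsScalarTower p.ResidueField B'₁ B₁], Algebra.IsPushout A p.ResidueField B' B'₁ → Algebra.IsPushout A p.ResidueField B B₁ → Module.Invertible B₁ (QFDual.omega p.ResidueField B'₁ B₁)) :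
    Module.Invertible B (QFDual.omega A B' B) := by
  classical
  have := hf.finite
  have : IsNoetherianRing B' := IsNoetherianRing.of_finite A B'
  let _ : Module A (Disc.Omega A B') := Module.compHom _ (algebraMap A B')
  have hAM : IsScalarTower A B' (Disc.Omega A B') := IsScalarTower.of_compHom A B' _
  have hMA : ∀ (a : A) (φ : Disc.Omega A B') (x : B'), (a • φ).toLinearMap x = a * φ.toLinearMap x := fun a φ x => by
    show φ.toLinearMap (algebraMap A B' a * x) = _
    rw [← Algebra.smul_def, map_smul, smul_eq_mul]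
  have hfinM : Module.Finite B' (Disc.Omega A B') := by
    have : Module.Finite A (Disc.Omega A B') := by
      let emb : Disc.Omega A B' →ₗ[A] (B' →ₗ[A] A) :=
        { toFun := Disc.Omega.toLinearMap
          map_add' := fun _ _ => rfl
          map_smul' := fun a φ => LinearMap.ext fun x => hMA a φ x }
      exact Module.Finite.equiv (LinearEquiv.ofBijective emb
        ⟨Disc.Omega.toLinearMap_injective, fun l => ⟨⟨l⟩, rfl⟩⟩).symm
    exact Module.Finite.of_restrictScalars_finite A B' _
  have hlocal : ∀ (q : Ideal B) [q.IsMaximal], ∃ r ∉ q,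
      Nonempty (LocalizedModule.Away r (QFDual.omega A B' B) ≃ₗ[Localization.Away r] Localization.Away r) := by
    intro q hqmax
    let q' : Ideal B' := q.comap (algebraMap B' B)
    have : q'.IsPrime := hqmax.isPrime.comap _
    let L := Localization.AtPrime q
    -- `L` is the local ring of `B'` at `q'`
    have hL : IsLocalization q'.primeCompl L := by
      let φ := CommRingCat.ofHom (algebraMap B' B)
      have : AlgebraicGeometry.IsOpenImmersion (AlgebraicGeometry.Spec.map φ) := hf.isOpenImmersion
      let P : PrimeSpectrum B := ⟨q, hqmax.isPrime⟩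
      let x : AlgebraicGeometry.Spec (CommRingCat.of B) := P
      have hx : CategoryTheory.IsIso ((AlgebraicGeometry.Spec.map φ).stalkMap x) := inferInstance
      have hiso : CategoryTheory.IsIso (CommRingCat.ofHom <| Localization.localRingHom (PrimeSpectrum.comap φ.hom P).asIdeal P.asIdeal φ.hom rfl) :=
        ((CategoryTheory.MorphismProperty.isomorphisms CommRingCat).arrow_mk_iso_iff (AlgebraicGeometry.Scheme.arrowStalkMapSpecIso φ P)).1 hx
      have hb : Function.Bijective (Localization.localRingHom q' q (algebraMap B' B) rfl) :=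
        CategoryTheory.ConcreteCategory.bijective_of_isIso (CommRingCat.ofHom
          (Localization.localRingHom (PrimeSpectrum.comap φ.hom P).asIdeal P.asIdeal φ.hom rfl))
      let ψ : Localization.AtPrime q' →ₐ[B'] L :=
        { Localization.localRingHom q' q (algebraMap B' B) rfl with
          commutes' := fun b => by
            show Localization.localRingHom q' q (algebraMap B' B) rfl (algebraMap B' _ b) = _
            rw [Localization.localRingHom_to_map, ← IsScalarTower.algebraMap_apply] }
      exact IsLocalization.isLocalization_of_algEquiv _ (AlgEquiv.ofBijective ψ hb)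
    -- flatness of the stalk
    obtain ⟨s, ⟨k, α, β, hαβ⟩, hsq⟩ : ∃ s ∈ {s | ∃ k, ∃ (α : B' →ₗ[A] (Fin k → A)) (β : (Fin k → A) →ₗ[A] B'),
        β.comp α = LinearMap.mulLeft A s}, s ∉ q' := by
      by_contra! h
      refine hqmax.ne_top (top_unique (hspan ▸ Ideal.span_le.2 ?_))
      rintro _ ⟨s, hs, rfl⟩
      exact h s hs
    let γ : Disc.Omega A B' →ₗ[A] ((Fin k → A) →ₗ[A] A) :=
      { toFun := fun φ => φ.toLinearMap.comp β
        map_add' := fun φ ψ => LinearMap.ext fun v => rfl
        map_smul' := fun a φ => LinearMap.ext fun v => hMA a φ _ }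
    let δ : ((Fin k → A) →ₗ[A] A) →ₗ[A] Disc.Omega A B' :=
      { toFun := fun l => ⟨l.comp α⟩
        map_add' := fun _ _ => rfl
        map_smul' := fun a l => Disc.Omega.ext (LinearMap.ext fun x => (hMA a ⟨l.comp α⟩ x).symm) }
    have : Module.Flat A (TensorProduct B' L (Disc.Omega A B')) :=
      QFDLib.flat_of_isLocalizedModule_of_factor q'.primeCompl (TensorProduct.mk B' L (Disc.Omega A B') 1) γ δ
        ⟨s, hsq⟩ fun φ => Disc.Omega.ext (LinearMap.ext fun x => by
          show φ.toLinearMap (β (α x)) = φ.toLinearMap (s * x)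
          rw [← LinearMap.comp_apply β α, hαβ]; rfl)
    -- the fibre
    let p : Ideal A := q.comap (algebraMap A B)
    have : p.IsPrime := hqmax.isPrime.comap _
    let J : Ideal L := p.map (algebraMap A L)
    have hJ : J ≠ ⊤ := by
      refine fun h => (IsLocalRing.maximalIdeal.isMaximal L).ne_top (top_unique (h ▸ Ideal.map_le_iff_le_comap.2 fun a ha => ?_))
      rw [Ideal.mem_comap, IsScalarTower.algebraMap_apply A B L]
      exact (IsLocalization.AtPrime.to_map_mem_maximal_iff L q _).2 ha
    let φκ : p.ResidueField →+* L ⧸ J :=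
      Ideal.ResidueField.lift p ((Ideal.Quotient.mk J).comp (algebraMap A L))
        (fun a ha => RingHom.mem_ker.2 (Ideal.Quotient.eq_zero_iff_mem.2 (Ideal.mem_map_of_mem _ ha)))
        (fun a ha => IsUnit.map (Ideal.Quotient.mk J) (by
          rw [IsScalarTower.algebraMap_apply A B L]
          exact IsLocalization.map_units L (⟨algebraMap A B a, ha⟩ : q.primeCompl)))
    let φA : p.ResidueField →ₐ[A] L ⧸ J :=
      { φκ with commutes' := fun a => Ideal.ResidueField.lift_algebraMap p _ _ _ a }
    let B₁ := TensorProduct A B p.ResidueField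
    let B'₁ := TensorProduct A B' p.ResidueField
    letI : Algebra p.ResidueField B₁ := Algebra.TensorProduct.rightAlgebra
    letI : Algebra p.ResidueField B'₁ := Algebra.TensorProduct.rightAlgebra
    let ι : B'₁ →ₐ[A] B₁ := Algebra.TensorProduct.map (IsScalarTower.toAlgHom A B' B) (AlgHom.id A p.ResidueField)
    letI : Algebra B'₁ B₁ := ι.toRingHom.toAlgebra
    haveI : IsScalarTower B' B'₁ B₁ := IsScalarTower.of_algebraMap_eq fun b => by
      show _ = ι (b ⊗ₜ[A] (1 : p.ResidueField))
      simp [ι, Algebra.TensorProduct.algebraMap_apply]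
      rfl
    haveI : IsScalarTower p.ResidueField B'₁ B₁ := IsScalarTower.of_algebraMap_eq fun c => by
      show (1 : B) ⊗ₜ[A] c = ι ((1 : B') ⊗ₜ[A] c)
      exact ((Algebra.TensorProduct.map_tmul _ _ _ _).trans (congrArg (· ⊗ₜ[A] c) (map_one (algebraMap B' B)))).symm
    haveI hp' : Algebra.IsPushout A p.ResidueField B' B'₁ := Algebra.IsPushout.symm inferInstance
    haveI hp₁ : Algebra.IsPushout A p.ResidueField B B₁ := Algebra.IsPushout.symm inferInstance
    have hω := hfib p B'₁ B₁ hp' hp₁
    have hspan₁ : Ideal.span (algebraMap B' B₁ '' {s | ∃ k, ∃ (α : B' →ₗ[A] (Fin k → A)) (β : (Fin k → A) →ₗ[A] B'),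
        β.comp α = LinearMap.mulLeft A s}) = ⊤ := by
      have := congrArg (Ideal.map (algebraMap B B₁)) hspan
      rw [Ideal.map_span, Ideal.map_top, ← Set.image_comp] at this
      rw [IsScalarTower.algebraMap_eq B' B B₁]
      exact this
    have : Module.Invertible B₁ (TensorProduct B' B₁ (Disc.Omega A B')) :=
      Module.Invertible.congr (LinearEquiv.ofBijective _
        (QFDLib.omegaBC_bijective_of_kills hp' B₁ _ hspan₁ fun s hs => hs)).symm
    let χ : B₁ →ₐ[A] L ⧸ J :=
      Algebra.TensorProduct.lift (IsScalarTower.toAlgHom A B (L ⧸ J)) φA fun _ _ => Commute.all _ _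
    letI : Algebra B₁ (L ⧸ J) := χ.toRingHom.toAlgebra
    haveI : IsScalarTower B' B₁ (L ⧸ J) := IsScalarTower.of_algebraMap_eq fun b => by
      show _ = χ (algebraMap B' B b ⊗ₜ[A] (1 : p.ResidueField))
      rw [Algebra.TensorProduct.lift_tmul, map_one, mul_one, IsScalarTower.toAlgHom_apply,
        ← IsScalarTower.algebraMap_apply]
    have hQ : Module.Invertible (L ⧸ J) (TensorProduct L (L ⧸ J) (TensorProduct B' L (Disc.Omega A B'))) :=
      Module.Invertible.congr
        ((TensorProduct.AlgebraTensorModule.cancelBaseChange B' B₁ (L ⧸ J) (L ⧸ J) (Disc.Omega A B')).trans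
          (TensorProduct.AlgebraTensorModule.cancelBaseChange B' L (L ⧸ J) (L ⧸ J) (Disc.Omega A B')).symm)
    have : IsNoetherianRing L := IsLocalization.isNoetherianRing q.primeCompl L inferInstance
    obtain ⟨e⟩ := QFDLib.nonempty_equiv_of_fibre (A := A) (L := L) p hJ hQ
    have : Module.FinitePresentation B (QFDual.omega A B' B) := Module.finitePresentation_of_finite B _
    let l : TensorProduct B L (QFDual.omega A B' B) ≃ₗ[B] L :=
      ((TensorProduct.AlgebraTensorModule.cancelBaseChange B' B L L (Disc.Omega A B')).trans e).restrictScalars B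
    obtain ⟨r, hr, l', -⟩ := Module.FinitePresentation.exists_lift_equiv_of_isLocalizedModule
      (R := B) q.primeCompl (TensorProduct.mk B L (QFDual.omega A B' B) 1) (Algebra.linearMap B L) l
    exact ⟨r, hr, ⟨l'.trans (IsLocalizedModule.iso (Submonoid.powers r) (Algebra.linearMap B (Localization.Away r))
      |>.extendScalarsOfIsLocalization (Submonoid.powers r) (Localization.Away r))⟩⟩
  choose r hr hiso using fun q : {q : Ideal B // q.IsMaximal} => @hlocal q.1 q.2
  refine S12080.result B (QFDual.omega A B' B) (Set.range r) ?_ (by rintro _ ⟨q, rfl⟩; exact hiso q)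
  by_contra hne
  obtain ⟨m, hm, hle⟩ := Ideal.exists_le_maximal _ hne
  exact hr ⟨m, hm⟩ (hle (Ideal.subset_span ⟨⟨m, hm⟩, rfl⟩))

/-- Invertibility of the relative dualizing module is a fibrewise condition. Let A → B be a flat
homomorphism of Noetherian rings with a factorization A → B' → B, A → B' finite and Spec B → Spec B'
an open immersion, so that A → B is quasi-finite and ω_{B/A} = B ⊗_{B'} Hom_A(B', A). The B-module
ω_{B/A} is invertible exactly when, for every prime p of A and every presentation of the fibre rings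
B'_p = B' ⊗_A κ(p), B_p = B ⊗_A κ(p) as cocartesian squares over the residue field κ(p) (compatibly
with B' → B), the module ω_{B_p/κ(p)} = B_p ⊗_{B'_p} Hom_{κ(p)}(B'_p, κ(p)) is an invertible
B_p-module. -/
theorem result (A B' B : Type u) [CommRing A] [CommRing B'] [CommRing B] [IsNoetherianRing A] [IsNoetherianRing B] [Algebra A B'] [Algebra B' B] [Algebra A B] [IsScalarTower A B' B] [Module.Flat A B] (hf : QFDual.IsQFFactor A B' B) : Module.Invertible B (QFDual.omega A B' B) ↔ ∀ (p : Ideal A) [p.IsPrime] (B'₁ B₁ : Type u) [CommRing B'₁] [CommRing B₁] [Algebra B' B'₁] [Algebra p.ResidueField B'₁] [Algebra A B'₁] [IsScalarTower A p.ResidueField B'₁] [IsScalarTower A B' B'₁] [Algebra B B₁] [Algebra p.ResidueField B₁] [Algebra A B₁] [IsScalarTower A p.ResidueField B₁] [IsScalarTower A B B₁] [Algebra B'₁ B₁] [Algebra B' B₁] [IsScalarTower B' B'₁ B₁] [IsScalarTower B' B B₁] [IsScalarTower p.ResidueField B'₁ B₁], Algebra.IsPushout A p.ResidueField B' B'₁ → Algebra.IsPushout A p.ResidueField B B₁ → Module.Invertible B₁ (QFDual.omega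 p.ResidueField B'₁ B₁) := by
  classical
  have hspan := QFDLib.span_factor_eq_top (A := A) (B' := B') (B := B) hf
  set S : Set B' := {s | ∃ k, ∃ (α : B' →ₗ[A] (Fin k → A)) (β : (Fin k → A) →ₗ[A] B'),
      β.comp α = LinearMap.mulLeft A s} with hS
  constructor
  · intro hinv p _ B'₁ B₁ _ _ _ _ _ _ _ _ _ _ _ _ _ _ _ _ _ hb' hb
    have hspan₁ : Ideal.span (algebraMap B' B₁ '' S) = ⊤ := by
      have := congrArg (Ideal.map (algebraMap B B₁)) hspan
      rw [Ideal.map_span, Ideal.map_top, ← Set.image_comp] at this
      rw [IsScalarTower.algebraMap_eq B' B B₁]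
      exact this
    have e := LinearEquiv.ofBijective _ (QFDLib.omegaBC_bijective_of_kills hb' B₁ S hspan₁ fun s hs => hs)
    exact Module.Invertible.congr
      ((TensorProduct.AlgebraTensorModule.cancelBaseChange B' B B₁ B₁ (Disc.Omega A B')).trans e)
  · intro hfib
    exact invertible_of_fibres A B' B hf hspan hfib

end Groth.Agent.S8963
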