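import Groth.Statements.S8964
import Groth.Agent.S8963
import Groth.Agent.QFDLib.LCIFibre

set_option autoImplicit false
universe u
open TensorProduct
open QFDual

namespace Groth.Agent.S8964

/-- A quasi-finite syntomic map has an invertible relative dualizing module. Let A be a Noetherian ring
and A → B a syntomic ring map (flat, of finite presentation, with fibres local complete
intersections), and suppose it factors through an intermediate ring B', with A → B' a finite map and
the induced morphism Spec B → Spec B' an open immersion, so that A → B is quasi-finite and ω_{B/A} =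
B ⊗_{B'} Hom_A(B', A). Then ω_{B/A} is an invertible B-module. (The published statement is for a
locally quasi-finite syntomic morphism of locally Noetherian schemes and the sheaf ω_{Y/X}; this row
is its form over a pair of affine opens.) -/
theorem result (A B' B : Type u) [CommRing A] [CommRing B'] [CommRing B] [IsNoetherianRing A] [Algebra A B'] [Algebra B' B] [Algebra A B] [IsScalarTower A B' B] (hf : QFDual.IsQFFactor A B' B) (hs : Synt.IsSyntomic A B) : Module.Invertible B (QFDual.omega A B' B) := by
  obtain ⟨hflat, hfp, hci⟩ := hs
  haveI := hflat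
  haveI := hfp
  haveI : Algebra.FiniteType A B := inferInstance
  haveI : IsNoetherianRing B := Algebra.FiniteType.isNoetherianRing A B
  refine (Groth.Agent.S8963.result A B' B hf).mpr ?_
  intro p hp B'₁ B₁ _ _ _ _ _ _ _ _ _ _ _ _ _ _ _ _ _ hb' hb
  haveI := hb'
  haveI := hb
  haveI : Module.Finite A B' := hf.finite
  haveI : Module.Finite p.ResidueField B'₁ :=
    Module.Finite.of_surjective (Algebra.IsPushout.equiv A p.ResidueField B' B'₁).toLinearEquiv.toLinearMap
      (Algebra.IsPushout.equiv A p.ResidueField B' B'₁).surjective
  haveI : IsScalarTower A B'₁ B₁ := .of_algebraMap_eq fun a => by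
    rw [IsScalarTower.algebraMap_apply A p.ResidueField B'₁, ← IsScalarTower.algebraMap_apply p.ResidueField B'₁ B₁,
      ← IsScalarTower.algebraMap_apply A p.ResidueField B₁]
  have hopen : AlgebraicGeometry.IsOpenImmersion
      (AlgebraicGeometry.Spec.map (CommRingCat.ofHom (algebraMap B'₁ B₁))) := by
    haveI := hb'.symm
    haveI : Algebra.IsPushout A B p.ResidueField B₁ := hb.symm
    haveI : Algebra.IsPushout B' B B'₁ B₁ :=
      (Algebra.IsPushout.comp_iff (R := A) (S := B') (R' := p.ResidueField) (S' := B'₁) (T := B) (T' := B₁)).1
        inferInstance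
    exact CategoryTheory.MorphismProperty.of_isPullback
      (AlgebraicGeometry.isPullback_SpecMap_of_isPushout _ _ _ _
        (CommRingCat.isPushout_of_isPushout B' B B'₁ B₁)) hf.isOpenImmersion
  have hG : LocCoh.IsGorensteinRing B₁ := by
    have h1 : Synt.IsLCIOver p.ResidueField B₁ :=
      Groth.Agent.Synt44.isLCIOver_of_equiv (Algebra.IsPushout.equiv A p.ResidueField B B₁) (hci ⟨p, hp⟩)
    exact Groth.Agent.S1827.result p.ResidueField B₁
      (Groth.Agent.Gor.Ring.isGorensteinRing_of_isRegularRing p.ResidueField)
      (Groth.Agent.Synt44.isLCI_of_isLCIOver h1)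
  exact Groth.Agent.QFDLib.invertible_omega_factor hopen hG

end Groth.Agent.S8964
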