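import Groth.Statements.S8970
import Groth.Agent.DualCx.Shriek

set_option autoImplicit false
universe u
open CategoryTheory
attribute [local instance] HasDerivedCategory.standard
open Dual

namespace Groth.Agent.S8970

/-- For a Noetherian ring A with a dualizing complex ω, δ(p) denotes the integer such that the
localization at p of Hom(A/p, ω[i]) is nonzero exactly for i = −δ(p); this δ is the dimension
function of ω. Suppose A is a Noetherian ring equipped with a dualizing complex ω, fix a surjective
ring homomorphism A → B, and take R : D(A) → D(B) to be the right adjoint of restriction of scalars;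
then ω_B = R(ω) = RHom_A(B, ω) is a dualizing complex for B. Then δ_{ω_B} is the restriction of δ_ω
to Spec B: for every prime q of B, with p its preimage in A, and every integer i, the localization
at q of the B-module of maps B/q → ω_B[i] in D(B) is nonzero if and only if the localization at p of
the A-module of maps A/p → ω[i] in D(A) is nonzero. -/
theorem result (A B : Type u) [CommRing A] [CommRing B] [IsNoetherianRing A] [IsNoetherianRing B] [Algebra A B] (hs : Function.Surjective (algebraMap A B)) (R : Dual.D A ⥤ Dual.D B) (adj : DRing.restrictD (algebraMap A B) ⊣ R) (ω : Dual.D A) (hω : Dual.IsDualizing A ω) (q : PrimeSpectrum B) (i : ℤ) : Nontrivial (LocalizedModule q.asIdeal.primeCompl (Dual.inD B (B ⧸ q.asIdeal) ⟶ (R.obj ω)⟦i⟧)) ↔ Nontrivial (LocalizedModule (q.asIdeal.comap (algebraMap A B)).primeCompl (Dual.inD A (A ⧸ q.asIdeal.comap (algebraMap A B)) ⟶ ω⟦i⟧)) := by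
  let p : Ideal A := q.asIdeal.comap (algebraMap A B)
  let S := DualCx.Shriek.ofAdj R adj ω
  let π : A →ₗ[A] B ⧸ q.asIdeal := Algebra.linearMap A (B ⧸ q.asIdeal)
  have hπ : Function.Surjective π := fun x => by
    obtain ⟨b, rfl⟩ := Submodule.Quotient.mk_surjective _ x
    obtain ⟨a, rfl⟩ := hs b
    exact ⟨a, rfl⟩
  have hker : LinearMap.ker π = p := by
    ext a
    exact Ideal.Quotient.eq_zero_iff_mem
  let eq' : (B ⧸ q.asIdeal) ≃ₗ[A] (A ⧸ p) :=
    (π.quotKerEquivOfSurjective hπ).symm.trans (Submodule.quotEquivOfEq _ _ hker)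
  let φ := (S.e (B ⧸ q.asIdeal) i).trans (DualCx.Devissage.congrE eq' ω i).toAddEquiv
  have hφ : ∀ (a : A) x, φ (algebraMap A B a • x) = a • φ x := fun a x => by
    simp only [φ, AddEquiv.trans_apply, DualCx.Shriek.map_smul S]
    exact (DualCx.Devissage.congrE eq' ω i).map_smul a _
  have key : ∀ {C : Type u} [CommRing C] (P : Ideal C) [P.IsPrime] (N : Type (u+1)) [AddCommGroup N]
      [Module C N], Nontrivial (LocalizedModule P.primeCompl N) ↔
        ∃ x : N, ∀ s : C, s ∉ P → s • x ≠ 0 := fun {C} _ P _ N _ _ => by
    rw [← not_subsingleton_iff_nontrivial, LocalizedModule.subsingleton_iff]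
    push Not
    exact exists_congr fun x => forall_congr' fun s => ⟨fun h hs => h hs, fun h hs => h hs⟩
  rw [key, key]
  constructor
  · rintro ⟨x, hx⟩
    refine ⟨φ x, fun a ha h => hx _ ha ?_⟩
    exact φ.injective ((hφ a x).trans (h.trans (map_zero φ).symm))
  · rintro ⟨x, hx⟩
    refine ⟨φ.symm x, fun b hb h => ?_⟩
    obtain ⟨a, rfl⟩ := hs b
    refine hx a hb ?_
    have := hφ a (φ.symm x)
    rwa [h, map_zero, φ.apply_symm_apply, eq_comm] at this

end Groth.Agent.S8970
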