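import Groth.Statements.S8971
import Groth.Agent.RegLoc.AssTensor
import Mathlib.AlgebraicGeometry.Morphisms.Flat
import Mathlib.RingTheory.Ideal.GoingUp
import Mathlib.RingTheory.Localization.FractionRing
-- import your own Groth.Agent.* helpers here

set_option autoImplicit false
universe u
open TensorProduct
open QFDual

namespace Groth.Agent.S8971

theorem comap_mem_of_mem (A B' : Type u) [CommRing A] [CommRing B'] [IsNoetherianRing A] [IsNoetherianRing B']
    [Algebra A B'] [Module.Finite A B'] {q : Ideal B'} (hq : q ∈ associatedPrimes B' (Disc.Omega A B')) :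
    q.comap (algebraMap A B') ∈ associatedPrimes A A := by
  classical
  obtain ⟨hq', φ, hφ⟩ := isAssociatedPrime_iff.1 hq
  obtain ⟨G, hG⟩ := Module.Finite.fg_top (R := A) (M := B')
  have hann : ∀ a : A, algebraMap A B' a ∈ q ↔ ∀ g ∈ G, a * φ.toLinearMap g = 0 := by
    intro a
    rw [hφ, Submodule.mem_colon_singleton, Submodule.mem_bot, Disc.Omega.ext_iff, Disc.Omega.zero_toLinearMap]
    constructor
    · intro h g _
      have := LinearMap.congr_fun h g
      rwa [Disc.Omega.smul_toLinearMap_apply, ← Algebra.smul_def, map_smul, LinearMap.zero_apply, smul_eq_mul] at this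
    · intro h
      refine LinearMap.ext_on hG fun g hg => ?_
      rw [Disc.Omega.smul_toLinearMap_apply, ← Algebra.smul_def, map_smul, LinearMap.zero_apply, smul_eq_mul]
      exact h g hg
  have hp : (q.comap (algebraMap A B')).IsPrime := hq'.comap _
  have hle : G.inf (fun g => (⊥ : Submodule A A).colon {φ.toLinearMap g}) ≤ q.comap (algebraMap A B') := by
    intro a ha
    rw [Submodule.mem_finsetInf] at ha
    exact (hann a).2 fun g hg => by simpa [Submodule.mem_colon_singleton] using ha g hg
  obtain ⟨g, hg, hgp⟩ := hp.inf_le'.1 hle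
  refine isAssociatedPrime_iff.2 ⟨hp, φ.toLinearMap g, le_antisymm (fun a ha => ?_) hgp⟩
  rw [Submodule.mem_colon_singleton, Submodule.mem_bot, smul_eq_mul]
  exact (hann a).1 ha g hg

theorem mem_of_comap_mem (A B' : Type u) [CommRing A] [CommRing B'] [IsNoetherianRing A] [IsNoetherianRing B']
    [Algebra A B'] [Module.Finite A B'] (q : Ideal B') [hq : q.IsPrime]
    (hqA : q.comap (algebraMap A B') ∈ associatedPrimes A A) : q ∈ associatedPrimes B' (Disc.Omega A B') := by
  classical
  obtain ⟨hp, a, ha⟩ := isAssociatedPrime_iff.1 hqA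
  have : (q.comap (algebraMap A B')).IsPrime := hp
  let Ā := A ⧸ q.comap (algebraMap A B')
  let M := B' ⧸ q
  have : Module.Finite Ā M := Module.Finite.of_restrictScalars_finite A Ā M
  have hinjA : Function.Injective (algebraMap Ā M) := Ideal.algebraMap_quotient_injective
  -- a non-zero functional on `B'/q`
  let K := FractionRing Ā
  let L := FractionRing M
  have : FaithfulSMul Ā M := (faithfulSMul_iff_algebraMap_injective _ _).2 hinjA
  let : Algebra K L := FractionRing.liftAlgebra Ā L
  obtain ⟨r, hr⟩ := LinearMap.exists_leftInverse_of_injective (Algebra.linearMap K L)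
    (LinearMap.ker_eq_bot.2 (algebraMap K L).injective)
  obtain ⟨G, hG⟩ := Module.Finite.fg_top (R := Ā) (M := M)
  obtain ⟨d, hd⟩ := IsLocalization.exist_integer_multiples (nonZeroDivisors Ā) G
    fun g => r (algebraMap M L g)
  let f : M →ₗ[Ā] K := (d : Ā) • ((r.restrictScalars Ā).comp ((IsScalarTower.toAlgHom Ā M L).toLinearMap))
  have hf : ∀ x, f x ∈ LinearMap.range (Algebra.linearMap Ā K) := by
    intro x
    have hx : x ∈ Submodule.span Ā (G : Set M) := hG ▸ Submodule.mem_top
    induction hx using Submodule.span_induction with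
    | zero => rw [map_zero]; exact zero_mem _
    | add a b _ _ ha hb => rw [map_add]; exact add_mem ha hb
    | smul a b _ hb => rw [map_smul]; exact Submodule.smul_mem _ _ hb
    | mem g hg =>
      obtain ⟨c, hc⟩ := hd g hg
      exact ⟨c, hc⟩
  let ι := LinearEquiv.ofInjective (Algebra.linearMap Ā K) (IsFractionRing.injective Ā K)
  let ℓ : M →ₗ[Ā] Ā := ι.symm.toLinearMap.comp (f.codRestrict _ hf)
  have hℓ : ∀ x, algebraMap Ā K (ℓ x) = f x := fun x =>
    congrArg Subtype.val (ι.apply_symm_apply ⟨f x, hf x⟩)
  have hℓ1 : ℓ 1 ≠ 0 := by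
    intro h
    have h1 := hℓ 1
    rw [h, map_zero] at h1
    have h2 : r (algebraMap M L 1) = 1 := by
      rw [map_one, ← map_one (algebraMap K L)]
      exact LinearMap.congr_fun hr 1
    have h3 : (d : Ā) • (1 : K) = 0 := by rw [← h2]; exact h1.symm
    rw [Algebra.smul_def, mul_one, map_eq_zero_iff _ (IsFractionRing.injective Ā K)] at h3
    exact nonZeroDivisors.ne_zero d.2 h3
  -- `c ↦ c a` on `Ā`
  let μ : Ā →ₗ[A] A := (q.comap (algebraMap A B')).liftQ (LinearMap.toSpanSingleton A A a) fun c hc => by
    rw [ha, Submodule.mem_colon_singleton, Submodule.mem_bot] at hc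
    exact hc
  have hμ : ∀ z, μ z = 0 → z = 0 := by
    intro z hz
    obtain ⟨c, rfl⟩ := Ideal.Quotient.mk_surjective z
    have hz' : c • a = 0 := hz
    refine Ideal.Quotient.eq_zero_iff_mem.2 ?_
    rw [ha, Submodule.mem_colon_singleton, Submodule.mem_bot]
    exact hz'
  let φ : Disc.Omega A B' := ⟨μ.comp ((ℓ.restrictScalars A).comp (Ideal.Quotient.mkₐ A q).toLinearMap)⟩
  refine isAssociatedPrime_iff.2 ⟨hq, φ, ?_⟩
  let J : Ideal M :=
    { carrier := {m | ∀ y, ℓ (m * y) = 0}
      zero_mem' := fun y => by rw [zero_mul, map_zero]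
      add_mem' := fun {m m'} hm hm' y => by rw [add_mul, map_add, hm y, hm' y, add_zero]
      smul_mem' := fun c m hm y => by rw [smul_eq_mul, mul_comm c, mul_assoc]; exact hm _ }
  have hJ : J = ⊥ := by
    refine Ideal.eq_bot_of_comap_eq_bot (R := Ā) (eq_bot_iff.2 fun c hc => ?_)
    have h := (hc : ∀ y, ℓ (algebraMap Ā M c * y) = 0) 1
    rw [← Algebra.smul_def, map_smul, smul_eq_mul, mul_eq_zero] at h
    exact h.resolve_right hℓ1
  ext b
  rw [Submodule.mem_colon_singleton, Submodule.mem_bot]
  constructor
  · intro hb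
    ext x
    show μ (ℓ (Ideal.Quotient.mk q (b * x))) = 0
    rw [map_mul, Ideal.Quotient.eq_zero_iff_mem.2 hb, zero_mul, map_zero, map_zero]
  · intro hb
    have hmem : Ideal.Quotient.mk q b ∈ J := fun y => by
      obtain ⟨x, rfl⟩ := Ideal.Quotient.mk_surjective y
      refine hμ _ ?_
      rw [← map_mul]
      have := LinearMap.congr_fun (congrArg Disc.Omega.toLinearMap hb) x
      exact this
    rw [hJ, Ideal.mem_bot, Ideal.Quotient.eq_zero_iff_mem] at hmem
    exact hmem

/-- Let A → B be a quasi-finite homomorphism of Noetherian rings, presented by writing it as a composite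
A → B' → B, where the map A → B' is finite and the induced morphism Spec B → Spec B' is an open
immersion, so that ω_{B/A} = B ⊗_{B'} Hom_A(B', A) (B' acting on Hom_A(B', A) through the argument).
Then Ass_B(ω_{B/A}) is the set of primes of B whose preimage in A is an associated prime of A. -/
theorem result (A B' B : Type u) [CommRing A] [CommRing B'] [CommRing B] [IsNoetherianRing A] [IsNoetherianRing B] [Algebra A B'] [Algebra B' B] [Algebra A B] [IsScalarTower A B' B] (hf : QFDual.IsQFFactor A B' B) : associatedPrimes B (QFDual.omega A B' B) = {q : Ideal B | q.IsPrime ∧ q.comap (algebraMap A B) ∈ associatedPrimes A A} := by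
  classical
  have := hf.finite
  have hB' : IsNoetherianRing B' := IsNoetherianRing.of_finite A B'
  let φ := CommRingCat.ofHom (algebraMap B' B)
  have : AlgebraicGeometry.IsOpenImmersion (AlgebraicGeometry.Spec.map φ) := hf.isOpenImmersion
  have hflat : Module.Flat B' B :=
    RingHom.flat_algebraMap_iff.1 ((AlgebraicGeometry.HasRingHomProperty.Spec_iff (P := @AlgebraicGeometry.Flat)).1
      (inferInstance : AlgebraicGeometry.Flat (AlgebraicGeometry.Spec.map φ)))
  have hinj : Function.Injective (PrimeSpectrum.comap (algebraMap B' B)) :=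
    (AlgebraicGeometry.Spec.map φ).isOpenEmbedding.injective
  show associatedPrimes B (TensorProduct B' B (Disc.Omega A B')) = _
  rw [RegLoc.AssTensor.associatedPrimes_tensor]
  -- comap of an associated prime of `B / pB`
  have hcomap : ∀ p : Ideal B', p.IsPrime → ∀ q ∈ associatedPrimes B (B ⧸ p.map (algebraMap B' B) • (⊤ : Submodule B B)),
      q.comap (algebraMap B' B) = p := by
    intro p hp q hq
    obtain ⟨hq', x, hx⟩ := isAssociatedPrime_iff.1 hq
    have htop : p.map (algebraMap B' B) • (⊤ : Submodule B B) = p.map (algebraMap B' B) := by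
      rw [Ideal.smul_eq_mul, Ideal.mul_top]
    refine le_antisymm (fun b hb => ?_) (fun b hb => ?_)
    · by_contra hbp
      obtain ⟨y, rfl⟩ := Submodule.Quotient.mk_surjective _ x
      have h1 : algebraMap B' B b * y ∈ p.map (algebraMap B' B) := by
        have hb' : algebraMap B' B b ∈ q := hb
        rw [hx, Submodule.mem_colon_singleton, Submodule.mem_bot, ← Submodule.Quotient.mk_smul,
          Submodule.Quotient.mk_eq_zero, htop] at hb'
        exact hb'
      let m : B' ⧸ p →ₗ[B'] B' ⧸ p := b • LinearMap.id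
      have hm : Function.Injective m := by
        refine (injective_iff_map_eq_zero m).2 fun z hz => ?_
        obtain ⟨c, rfl⟩ := Ideal.Quotient.mk_surjective z
        have hz' : Ideal.Quotient.mk p (b * c) = 0 := hz
        rw [Ideal.Quotient.eq_zero_iff_mem] at hz'
        exact Ideal.Quotient.eq_zero_iff_mem.2 ((hp.mem_or_mem hz').resolve_left hbp)
      have hm' := Module.Flat.lTensor_preserves_injective_linearMap (M := B) m hm
      have h2 : y ∈ p.map (algebraMap B' B) := by
        let e := TensorProduct.quotTensorEquivQuotSMul B p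
        have key : ∀ z : B, z ∈ p.map (algebraMap B' B) ↔ z ⊗ₜ[B'] (1 : B' ⧸ p) = 0 := by
          intro z
          rw [← (TensorProduct.comm B' B (B' ⧸ p)).map_eq_zero_iff, TensorProduct.comm_tmul, ← e.map_eq_zero_iff,
            ← map_one (Ideal.Quotient.mk p), TensorProduct.quotTensorEquivQuotSMul_mk_tmul, one_smul,
            Submodule.Quotient.mk_eq_zero, Ideal.smul_top_eq_map, Submodule.restrictScalars_mem]
        rw [key] at h1 ⊢
        refine hm' ?_
        rw [map_zero, LinearMap.lTensor_tmul]
        show y ⊗ₜ[B'] (b • (1 : B' ⧸ p)) = 0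
        rw [← TensorProduct.smul_tmul, Algebra.smul_def]
        exact h1
      have h3 : (1 : B) ∈ q := by
        rw [hx, Submodule.mem_colon_singleton, Submodule.mem_bot, one_smul, Submodule.Quotient.mk_eq_zero, htop]
        exact h2
      exact hq'.ne_top ((Ideal.eq_top_iff_one q).2 h3)
    · show algebraMap B' B b ∈ q
      rw [hx, Submodule.mem_colon_singleton, Submodule.mem_bot]
      obtain ⟨y, rfl⟩ := Submodule.Quotient.mk_surjective _ x
      rw [← Submodule.Quotient.mk_smul, Submodule.Quotient.mk_eq_zero, htop]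
      exact Ideal.mul_mem_right _ _ (Ideal.mem_map_of_mem _ hb)
  ext q
  simp only [Set.mem_iUnion, Set.mem_ofPred_eq, exists_prop]
  constructor
  · rintro ⟨p, hp, hq⟩
    refine ⟨hq.1, ?_⟩
    rw [IsScalarTower.algebraMap_eq A B' B, ← Ideal.comap_comap, hcomap p hp.1 q hq]
    exact comap_mem_of_mem A B' hp
  · rintro ⟨hq, hqA⟩
    rw [IsScalarTower.algebraMap_eq A B' B, ← Ideal.comap_comap] at hqA
    have hp : (q.comap (algebraMap B' B)).IsPrime := hq.comap _
    refine ⟨q.comap (algebraMap B' B), mem_of_comap_mem A B' _ hqA, ?_⟩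
    have : Nontrivial (B ⧸ (q.comap (algebraMap B' B)).map (algebraMap B' B) • (⊤ : Submodule B B)) := by
      rw [Submodule.Quotient.nontrivial_iff, Ideal.smul_eq_mul, Ideal.mul_top]
      exact fun h => hq.ne_top (top_unique (h ▸ Ideal.map_comap_le))
    obtain ⟨r, hr⟩ := associatedPrimes.nonempty B
      (B ⧸ (q.comap (algebraMap B' B)).map (algebraMap B' B) • (⊤ : Submodule B B))
    have e : (⟨r, hr.1⟩ : PrimeSpectrum B) = ⟨q, hq⟩ :=
      hinj (PrimeSpectrum.ext (hcomap _ hp r hr))
    obtain rfl : r = q := congrArg PrimeSpectrum.asIdeal e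
    exact hr

end Groth.Agent.S8971
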