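import Groth.Statements.S8973
import Mathlib.RingTheory.Smooth.StandardSmoothCotangent
import Mathlib.RingTheory.Unramified.LocalRing
import Mathlib.RingTheory.Unramified.Finite
import Mathlib.RingTheory.QuasiFinite.Basic

set_option autoImplicit false
universe u

open MvPolynomial

namespace Groth.Agent.S8973

/-- A square system is étale and quasi-finite at a zero where the Jacobian does not vanish. -/
theorem exists_etale_point {R : Type u} [CommRing R] {n : ℕ} (f : Fin n → MvPolynomial (Fin n) R)
    {K : Type} [Field K] (θ : MvPolynomial (Fin n) R →+* K) (hf : ∀ i, θ (f i) = 0)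
    (hdet : θ (Matrix.of fun i j => pderiv i (f j)).det ≠ 0) :
    ∃ q : PrimeSpectrum (MvPolynomial (Fin n) R ⧸ Ideal.span (Set.range f)),
      Algebra.QuasiFiniteAt R q.asIdeal ∧ Algebra.IsEtaleAt R q.asIdeal := by
  classical
  let J := Ideal.span (Set.range f)
  let B := MvPolynomial (Fin n) R ⧸ J
  let θ' : B →+* K := Ideal.Quotient.lift J θ fun x hx =>
    (Ideal.span_le.2 (by rintro _ ⟨i, rfl⟩; exact hf i) : J ≤ RingHom.ker θ) hx
  let P := Algebra.PreSubmersivePresentation.naive (R := R) (v := f) id Function.injective_id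
  let Δ : B := P.jacobian
  have hΔθ : θ' Δ = θ (Matrix.of fun i j => pderiv i (f j)).det := by
    have h1 : P.jacobiMatrix = Matrix.of fun i j => pderiv i (f j) := by
      ext i j
      simp [P]
    change θ' P.jacobian = _
    rw [Algebra.PreSubmersivePresentation.jacobian_eq_jacobiMatrix_det, h1]
    have h2 : ∀ x : MvPolynomial (Fin n) R, algebraMap P.Ring B x = Ideal.Quotient.mk J x := fun x => by
      rw [Algebra.Generators.algebraMap_apply]
      have h3 : (aeval P.val : MvPolynomial (Fin n) R →ₐ[R] B) = Ideal.Quotient.mkₐ R J :=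
        MvPolynomial.algHom_ext fun i => by rw [aeval_X]; rfl
      exact AlgHom.congr_fun h3 x
    exact (congrArg θ' (h2 _)).trans (Ideal.Quotient.lift_mk J θ _)
  let T := Localization.Away Δ
  let Q := (Algebra.PreSubmersivePresentation.localizationAway T Δ).comp P
  have hu : IsUnit Q.jacobian := by
    rw [Algebra.PreSubmersivePresentation.comp_jacobian_eq_jacobian_smul_jacobian,
      Algebra.PreSubmersivePresentation.localizationAway_jacobian, Algebra.smul_def]
    exact (IsLocalization.Away.algebraMap_isUnit Δ).mul (IsLocalization.Away.algebraMap_isUnit Δ)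
  let Q' : Algebra.SubmersivePresentation R T _ _ := ⟨Q, hu⟩
  haveI : Algebra.IsStandardSmoothOfRelativeDimension 0 R T :=
    Q'.isStandardSmoothOfRelativeDimension (by simp [Algebra.Presentation.dimension])
  haveI : Algebra.Etale R T := inferInstance
  haveI hθp : (RingHom.ker θ').IsPrime := RingHom.ker_isPrime θ'
  let q : PrimeSpectrum B := ⟨RingHom.ker θ', hθp⟩
  have hq : Δ ∉ q.asIdeal := fun h => hdet (hΔθ ▸ h)
  let L := Localization.AtPrime q.asIdeal
  let φ : T →+* L := IsLocalization.Away.lift (S := T) Δ
    (IsLocalization.map_units L (⟨Δ, hq⟩ : q.asIdeal.primeCompl))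
  letI : Algebra T L := φ.toAlgebra
  haveI : IsScalarTower B T L := IsScalarTower.of_algebraMap_eq fun x => (IsLocalization.Away.lift_eq Δ _ x).symm
  haveI : IsScalarTower R T L := IsScalarTower.of_algebraMap_eq fun x => by
    rw [IsScalarTower.algebraMap_apply R B L, IsScalarTower.algebraMap_apply R B T, ← IsScalarTower.algebraMap_apply B T L]
  haveI : IsLocalization (Submonoid.map (algebraMap B T) q.asIdeal.primeCompl) L :=
    IsLocalization.isLocalization_of_submonoid_le T L (Submonoid.powers Δ) q.asIdeal.primeCompl
      (Submonoid.powers_le.2 hq)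
  refine ⟨q, ?_, ?_⟩
  · haveI : Algebra.QuasiFinite T L := Algebra.QuasiFinite.of_isLocalization (Submonoid.map (algebraMap B T) q.asIdeal.primeCompl)
    haveI : Algebra.QuasiFinite R T :=
      ⟨fun P _ => Algebra.FormallyUnramified.finite_of_free P.ResidueField (P.Fiber T)⟩
    exact Algebra.QuasiFinite.trans R T L
  · haveI : Algebra.FormallyEtale T L := Algebra.FormallyEtale.of_isLocalization (Submonoid.map (algebraMap B T) q.asIdeal.primeCompl)
    exact Algebra.FormallyEtale.comp R T L

/-- Let n, d ≥ 1 and let B = A[x_1, …, x_n]/(f_1, …, f_n) be the universal algebra over A = ℤ[a_{i,E}],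
f_i = Σ_E a_{i,E} x^E summed over exponent vectors E with |E| ≤ d. Then there is a prime q of B at
which B is quasi-finite over A and étale over A (that is, B_q is quasi-finite and formally étale
over A). (The published statement asserts a dense open V of the quasi-finite locus Y_{n,d} ⊆ Spec B
that is étale over Spec A; as Spec B is irreducible and the étale locus is open, that amounts to the
existence of one such point, which is what is stated here and what the printed argument exhibits.) -/
theorem result (n d : ℕ) (hn : 1 ≤ n) (hd : 1 ≤ d) : ∃ q : PrimeSpectrum (Synt.UnivAlg n d), Algebra.QuasiFiniteAt (Synt.UnivBase n d) q.asIdeal ∧ Algebra.IsEtaleAt (Synt.UnivBase n d) q.asIdeal := by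
  classical
  let θA : Synt.UnivBase n d →+* ℚ :=
    eval₂Hom (Int.castRingHom ℚ) fun p => if p.2.exponent = Finsupp.single p.1 1 then 1 else 0
  let θ : MvPolynomial (Fin n) (Synt.UnivBase n d) →+* ℚ := eval₂Hom θA fun _ => 0
  have hval : ∀ i, θ (Synt.univPoly n d i) = 0 := fun i => by
    simp only [Synt.univPoly, map_sum]
    refine Finset.sum_eq_zero fun E _ => ?_
    by_cases h0 : E.exponent = 0
    · rw [h0]
      simp [θ, θA, h0, (Finsupp.single_ne_zero.2 one_ne_zero).symm]
    · obtain ⟨j, hj⟩ := Finsupp.ne_iff.1 h0
      simp only [θ, eval₂Hom_monomial]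
      rw [Finsupp.prod, Finset.prod_eq_zero (Finsupp.mem_support_iff.2 hj) (zero_pow hj), mul_zero]
  have hder : ∀ i j, θ (pderiv i (Synt.univPoly n d j)) = if i = j then 1 else 0 := fun i j => by
    simp only [Synt.univPoly, map_sum, pderiv_monomial]
    have hE₀ : ∑ l, ((fun l => if l = i then (⟨1, by omega⟩ : Fin (d + 1)) else 0) l : ℕ) ≤ d := by
      simp [apply_ite, hd]
    let E₀ : Synt.UnivIdx n d := ⟨_, hE₀⟩
    have hexp : E₀.exponent = Finsupp.single i 1 := by
      ext l
      simp [Synt.UnivIdx.exponent, E₀, Finsupp.single_apply, apply_ite, eq_comm]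
    rw [Finset.sum_eq_single E₀]
    · rw [hexp]
      simp [θ, θA, hexp, Finsupp.single_left_inj (one_ne_zero : (1 : ℕ) ≠ 0)]
    · intro E _ hE
      by_cases h0 : E.exponent i = 0
      · simp [h0]
      by_cases h1 : E.exponent - Finsupp.single i 1 = 0
      · refine absurd ?_ hE
        have hle : Finsupp.single i 1 ≤ E.exponent := Finsupp.single_le_iff.2 (by omega)
        have : E.exponent = E₀.exponent := by rw [hexp]; exact le_antisymm (tsub_eq_zero_iff_le.1 h1) hle
        exact Subtype.ext (funext fun l => Fin.ext (DFunLike.congr_fun this l))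
      · obtain ⟨l, hl⟩ := Finsupp.ne_iff.1 h1
        simp only [θ, eval₂Hom_monomial]
        rw [Finsupp.prod, Finset.prod_eq_zero (Finsupp.mem_support_iff.2 hl) (zero_pow hl), mul_zero]
    · simp
  refine exists_etale_point (Synt.univPoly n d) θ hval ?_
  rw [RingHom.map_det]
  have : θ.mapMatrix (Matrix.of fun i j => pderiv i (Synt.univPoly n d j)) = 1 := by
    ext i j
    simp [hder, Matrix.one_apply]
  rw [this, Matrix.det_one]
  exact one_ne_zero

end Groth.Agent.S8973
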