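import Groth.Statements.S8974
import Mathlib.Algebra.MvPolynomial.CommRing
import Mathlib.Algebra.MvPolynomial.Degrees

set_option autoImplicit false
universe u
open Synt

namespace Groth.Agent.S8974

/-- Let R be a ring, n, d ≥ 1 and g_1, …, g_n ∈ R[y_1, …, y_n] of total degree at most d. Then there is
a ring map φ : A = ℤ[a_{i,E}] → R (E running over exponent vectors with |E| ≤ d) such that applying
φ to the coefficients of the universal polynomial f_i = Σ_E a_{i,E} x^E gives g_i for each i. (The
published statement is for a locally quasi-finite syntomic morphism of schemes and asserts, locally,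
a cartesian square with the universal family; this row is its affine core: the coefficient map.) -/
theorem result (R : Type u) [CommRing R] (n d : ℕ) (hn : 1 ≤ n) (hd : 1 ≤ d) (g : Fin n → MvPolynomial (Fin n) R) (hg : ∀ i, (g i).totalDegree ≤ d) : ∃ φ : Synt.UnivBase n d →+* R, ∀ i, MvPolynomial.map φ (Synt.univPoly n d i) = g i := by
  classical
  refine ⟨MvPolynomial.eval₂Hom (Int.castRingHom R) (fun p => MvPolynomial.coeff p.2.exponent (g p.1)), fun i => ?_⟩
  have hinj : Function.Injective (UnivIdx.exponent : UnivIdx n d → _) := fun a b h => by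
    refine Subtype.ext (funext fun j => Fin.ext ?_)
    exact DFunLike.congr_fun h j
  ext m
  simp only [Synt.univPoly, map_sum, MvPolynomial.map_monomial, MvPolynomial.eval₂Hom_X', MvPolynomial.coeff_sum,
    MvPolynomial.coeff_monomial]
  by_cases hm : ∃ E : UnivIdx n d, E.exponent = m
  · obtain ⟨E, rfl⟩ := hm
    rw [Finset.sum_eq_single E (fun b _ hb => if_neg fun h => hb (hinj h))
      (fun h => absurd (Finset.mem_univ E) h), if_pos rfl]
  · rw [Finset.sum_eq_zero fun E _ => if_neg fun h => hm ⟨E, h⟩]
    symm
    by_contra hne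
    apply hm
    have hmem : m ∈ (g i).support := MvPolynomial.mem_support_iff.mpr hne
    have hdeg : ∑ j, m j ≤ d := by
      refine le_trans (le_of_eq ?_) ((MvPolynomial.le_totalDegree hmem).trans (hg i))
      exact (Finsupp.sum_fintype m (fun _ e => e) (fun _ => rfl)).symm
    refine ⟨⟨fun j => ⟨m j, Nat.lt_succ_of_le (le_trans (Finset.single_le_sum (f := fun j => m j)
      (fun _ _ => Nat.zero_le _) (Finset.mem_univ j)) hdeg)⟩, hdeg⟩, ?_⟩
    ext j
    rfl


end Groth.Agent.S8974
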