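import Groth.Statements.S8975

-- import your own Groth.Agent.* helpers here

set_option autoImplicit false
universe u
open TensorProduct
open QFDual

namespace Groth.Agent.S8975

open TensorProduct

variable {A B' B C' C : Type u} [CommRing A] [CommRing B'] [CommRing B] [CommRing C'] [CommRing C]
  [Algebra A B'] [Algebra B' B] [Algebra A C'] [Algebra C' C]
  [Algebra (B' × C') (B × C)] (halg : algebraMap (B' × C') (B × C) = (algebraMap B' B).prodMap (algebraMap C' C))

include halg in
theorem smul_pair (r : B' × C') (x : B × C) : r • x = (algebraMap B' B r.1 * x.1, algebraMap C' C r.2 * x.2) := by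
  rw [Algebra.smul_def, halg]; rfl

/-- Left component of a form on the product. -/
def fl (φ : Disc.Omega A (B' × C')) : Disc.Omega A B' := ⟨φ.toLinearMap ∘ₗ LinearMap.inl A B' C'⟩

/-- Right component of a form on the product. -/
def fr (φ : Disc.Omega A (B' × C')) : Disc.Omega A C' := ⟨φ.toLinearMap ∘ₗ LinearMap.inr A B' C'⟩

/-- Extension by zero from the left. -/
def xl : Disc.Omega A B' →+ Disc.Omega A (B' × C') :=
  AddMonoidHom.mk' (fun φ => ⟨φ.toLinearMap ∘ₗ LinearMap.fst A B' C'⟩) fun _ _ => rfl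

/-- Extension by zero from the right. -/
def xr : Disc.Omega A C' →+ Disc.Omega A (B' × C') :=
  AddMonoidHom.mk' (fun φ => ⟨φ.toLinearMap ∘ₗ LinearMap.snd A B' C'⟩) fun _ _ => rfl

theorem fl_smul (r : B' × C') (φ : Disc.Omega A (B' × C')) : fl (r • φ) = r.1 • fl φ :=
  Disc.Omega.ext (LinearMap.ext fun x => by
    show φ.toLinearMap (r * (x, 0)) = φ.toLinearMap (r.1 * x, 0)
    congr 1; exact Prod.ext rfl (mul_zero _))

theorem fr_smul (r : B' × C') (φ : Disc.Omega A (B' × C')) : fr (r • φ) = r.2 • fr φ :=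
  Disc.Omega.ext (LinearMap.ext fun x => by
    show φ.toLinearMap (r * (0, x)) = φ.toLinearMap (0, r.2 * x)
    congr 1; exact Prod.ext (mul_zero _) rfl)

theorem xl_smul (b' : B') (φ : Disc.Omega A B') :
    xl (C' := C') (b' • φ) = ((b', 0) : B' × C') • xl φ :=
  Disc.Omega.ext (LinearMap.ext fun _ => rfl)

theorem xr_smul (c' : C') (φ : Disc.Omega A C') :
    xr (B' := B') (c' • φ) = ((0, c') : B' × C') • xr φ :=
  Disc.Omega.ext (LinearMap.ext fun _ => rfl)

theorem decomp (φ : Disc.Omega A (B' × C')) : φ = xl (fl φ) + xr (fr φ) :=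
  Disc.Omega.ext (LinearMap.ext fun x => by
    show φ.toLinearMap x = φ.toLinearMap (x.1, 0) + φ.toLinearMap (0, x.2)
    rw [← map_add]; simp)

include halg in
theorem exists_addEquiv :
    ∃ e : QFDual.omega A (B' × C') (B × C) ≃+ QFDual.omega A B' B × QFDual.omega A C' C,
      ∀ (b : B) (c : C) (φ : Disc.Omega A (B' × C')), e ((b, c) ⊗ₜ φ) = (b ⊗ₜ fl φ, c ⊗ₜ fr φ) := by
  let F : QFDual.omega A (B' × C') (B × C) →+ QFDual.omega A B' B × QFDual.omega A C' C :=
    TensorProduct.liftAddHom
      (AddMonoidHom.mk' (fun x : B × C => AddMonoidHom.mk' (fun φ : Disc.Omega A (B' × C') =>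
          ((x.1 ⊗ₜ fl φ : QFDual.omega A B' B), (x.2 ⊗ₜ fr φ : QFDual.omega A C' C)))
        fun φ ψ => Prod.ext (show x.1 ⊗ₜ[B'] (fl φ + fl ψ) = _ from TensorProduct.tmul_add _ _ _)
            (show x.2 ⊗ₜ[C'] (fr φ + fr ψ) = _ from TensorProduct.tmul_add _ _ _))
        fun x y => AddMonoidHom.ext fun φ => Prod.ext (TensorProduct.add_tmul _ _ _) (TensorProduct.add_tmul _ _ _))
      (fun r x φ => by
        show ((r • x).1 ⊗ₜ[B'] fl φ, (r • x).2 ⊗ₜ[C'] fr φ) = (x.1 ⊗ₜ[B'] fl (r • φ), x.2 ⊗ₜ[C'] fr (r • φ))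
        rw [smul_pair halg, fl_smul, fr_smul, ← Algebra.smul_def, ← Algebra.smul_def, TensorProduct.smul_tmul,
          TensorProduct.smul_tmul])
  let G1 : QFDual.omega A B' B →+ QFDual.omega A (B' × C') (B × C) :=
    TensorProduct.liftAddHom
      (AddMonoidHom.mk' (fun b : B => AddMonoidHom.mk' (fun φ : Disc.Omega A B' =>
          ((b, 0) : B × C) ⊗ₜ[B' × C'] xl φ) fun φ ψ => by rw [map_add, TensorProduct.tmul_add])
        fun x y => AddMonoidHom.ext fun φ => by
          show ((x + y, 0) : B × C) ⊗ₜ[B' × C'] xl φ = (x, 0) ⊗ₜ xl φ + (y, 0) ⊗ₜ xl φ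
          rw [← TensorProduct.add_tmul, Prod.mk_add_mk, add_zero])
      (fun r x φ => by
        show ((r • x, 0) : B × C) ⊗ₜ[B' × C'] xl φ = (x, 0) ⊗ₜ xl (r • φ)
        rw [xl_smul, ← TensorProduct.smul_tmul, smul_pair halg, Algebra.smul_def]
        simp)
  let G2 : QFDual.omega A C' C →+ QFDual.omega A (B' × C') (B × C) :=
    TensorProduct.liftAddHom
      (AddMonoidHom.mk' (fun c : C => AddMonoidHom.mk' (fun φ : Disc.Omega A C' =>
          ((0, c) : B × C) ⊗ₜ[B' × C'] xr φ) fun φ ψ => by rw [map_add, TensorProduct.tmul_add])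
        fun x y => AddMonoidHom.ext fun φ => by
          show ((0, x + y) : B × C) ⊗ₜ[B' × C'] xr φ = (0, x) ⊗ₜ xr φ + (0, y) ⊗ₜ xr φ
          rw [← TensorProduct.add_tmul, Prod.mk_add_mk, add_zero])
      (fun r x φ => by
        show ((0, r • x) : B × C) ⊗ₜ[B' × C'] xr φ = (0, x) ⊗ₜ xr (r • φ)
        rw [xr_smul, ← TensorProduct.smul_tmul, smul_pair halg, Algebra.smul_def]
        simp)
  let G := G1.coprod G2
  have h1 : ∀ z, G (F z) = z := by
    intro z
    induction z using TensorProduct.induction_on with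
    | zero => simp
    | add x y hx hy => simp only [map_add, hx, hy]
    | tmul x φ =>
      show (x.1, (0 : C)) ⊗ₜ[B' × C'] xl (fl φ) + ((0 : B), x.2) ⊗ₜ xr (fr φ) = x ⊗ₜ φ
      have hx : x = (((1 : B'), (0 : C'))) • x + ((0 : B'), (1 : C')) • x := by
        rw [smul_pair halg, smul_pair halg]; simp
      have e1 : ((1 : B'), (0 : C')) • (xl (fl φ) + xr (fr φ)) = xl (fl φ) :=
        Disc.Omega.ext (LinearMap.ext fun y => by simp [xl, xr, fl, fr, Prod.mk_zero_zero])
      have e2 : ((0 : B'), (1 : C')) • (xl (fl φ) + xr (fr φ)) = xr (fr φ) :=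
        Disc.Omega.ext (LinearMap.ext fun y => by simp [xl, xr, fl, fr, Prod.mk_zero_zero])
      conv_rhs => rw [hx, TensorProduct.add_tmul, TensorProduct.smul_tmul, TensorProduct.smul_tmul, decomp φ, e1, e2]
      rw [show (x.1, (0 : C)) = ((1 : B'), (0 : C')) • x by rw [smul_pair halg]; simp,
        show ((0 : B), x.2) = ((0 : B'), (1 : C')) • x by rw [smul_pair halg]; simp,
        TensorProduct.smul_tmul, TensorProduct.smul_tmul]
      congr 2 <;> exact Disc.Omega.ext (LinearMap.ext fun y => by simp [xl, xr])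
  have h2 : ∀ z, F (G z) = z := by
    have k1 : ∀ z, F (G1 z) = (z, 0) := by
      intro z
      induction z using TensorProduct.induction_on with
      | zero => simp only [map_zero]; rfl
      | add x y hx hy => simp only [map_add, hx, hy, Prod.mk_add_mk, add_zero]
      | tmul b φ =>
        show ((b ⊗ₜ[B'] fl (xl φ), (0 : C) ⊗ₜ[C'] fr (xl φ)) : QFDual.omega A B' B × QFDual.omega A C' C) = _
        rw [TensorProduct.zero_tmul]
        refine Prod.ext ?_ rfl
        congr 1
    have k2 : ∀ z, F (G2 z) = (0, z) := by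
      intro z
      induction z using TensorProduct.induction_on with
      | zero => simp only [map_zero]; rfl
      | add x y hx hy => simp only [map_add, hx, hy, Prod.mk_add_mk, add_zero]
      | tmul c φ =>
        show (((0 : B) ⊗ₜ[B'] fl (xr φ), c ⊗ₜ[C'] fr (xr φ)) : QFDual.omega A B' B × QFDual.omega A C' C) = _
        rw [TensorProduct.zero_tmul]
        refine Prod.ext rfl ?_
        congr 1
    intro z
    show F (G1 z.1 + G2 z.2) = z
    rw [map_add, k1, k2]
    simp
  exact ⟨{ F with invFun := G, left_inv := h1, right_inv := h2 }, fun b c φ => rfl⟩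


/-- The relative dualizing module of a product. Suppose A, B, C are Noetherian rings and the ring maps A
→ B, A → C are quasi-finite, presented by factorizations A → B' → B and A → C' → C with A → B', A →
C' finite and Spec B → Spec B', Spec C → Spec C' open immersions, and let B × C carry the product
algebra structure over B' × C' (so that A → B' × C' → B × C is a factorization of the same kind).
Then ω_{(B × C)/A} = (B × C) ⊗_{B' × C'} Hom_A(B' × C', A) is identified with ω_{B/A} × ω_{C/A}:
there is an A-linear isomorphism sending (b, c) ⊗ φ to (b ⊗ φ∘ι_{B'}, c ⊗ φ∘ι_{C'}), where ι_{B'},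
ι_{C'} are the inclusions of the factors; this formula determines the isomorphism and makes it (B ×
C)-linear. -/
theorem result (A B' B C' C : Type u) [CommRing A] [CommRing B'] [CommRing B] [CommRing C'] [CommRing C] [IsNoetherianRing A] [IsNoetherianRing B] [IsNoetherianRing C] [Algebra A B'] [Algebra B' B] [Algebra A B] [IsScalarTower A B' B] [Algebra A C'] [Algebra C' C] [Algebra A C] [IsScalarTower A C' C] (hB : QFDual.IsQFFactor A B' B) (hC : QFDual.IsQFFactor A C' C) [Algebra (B' × C') (B × C)] [IsScalarTower A (B' × C') (B × C)] (halg : algebraMap (B' × C') (B × C) = (algebraMap B' B).prodMap (algebraMap C' C)) : ∃ e : QFDual.omega A (B' × C') (B × C) ≃ₗ[A] QFDual.omega A B' B × QFDual.omega A C' C, ∀ (b : B) (c : C) (φ : Disc.Omega A (B' × C')), e ((b, c) ⊗ₜ[B' × C'] φ) = (b ⊗ₜ[B'] Disc.Omega.mk (φ.toLinearMap ∘ₗ LinearMap.inl A B' C'), c ⊗ₜ[C'] Disc.Omega.mk (φ.toLinearMap ∘ₗ LinearMap.inr A B' C')) := by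
  obtain ⟨e, he⟩ := exists_addEquiv (A := A) halg
  refine ⟨{ e with map_smul' := fun a z => ?_ }, fun b c φ => he b c φ⟩
  show e (a • z) = a • e z
  induction z using TensorProduct.induction_on with
  | zero => simp
  | add x y hx hy => rw [smul_add, map_add, map_add, smul_add, hx, hy]
  | tmul x φ =>
    rw [TensorProduct.smul_tmul', show a • x = ((a • x).1, (a • x).2) from rfl, he]
    conv_rhs => rw [show x = (x.1, x.2) from rfl, he, Prod.smul_mk, TensorProduct.smul_tmul', TensorProduct.smul_tmul']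
    rfl

end Groth.Agent.S8975
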