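import Groth.Statements.S8980
import Groth.Agent.HTopLib.Cover
-- import your own Groth.Agent.* helpers here

set_option autoImplicit false
universe u
open HTop

namespace Groth.Agent.S8980

open CategoryTheory CategoryTheory.Limits AlgebraicGeometry in
set_option backward.isDefEq.respectTransparency false in
/-- A family of morphisms T_i → T, indexed by a type in the universe of T and all locally of finite
presentation, is an h covering if and only if the one-member family given by the induced morphism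
from the coproduct of the T_i to T is an h covering. (The published statement also lists, as a
further equivalent condition, that some h covering refines the family; that equivalence is immediate
from the definitions and is not restated here.) -/
theorem result {T : Scheme.{u}} (E : PreZeroHypercover.{u} T) (hE : ∀ i, LocallyOfFinitePresentation (E.f i)) : HTop.IsHCover E ↔ HTop.IsHCover (PreZeroHypercover.singleton.{0} (Sigma.desc E.f)) := by
  constructor
  · rintro ⟨_, hV⟩
    refine ⟨fun _ => (IsZariskiLocalAtSource.sigmaDesc hE : LocallyOfFinitePresentation (Sigma.desc E.f)), fun U => ?_⟩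
    obtain ⟨F, hF, hFE⟩ := hV U
    refine ⟨F, hF, fun j => ?_⟩
    obtain ⟨i, l, hl⟩ := hFE j
    refine ⟨PUnit.unit, l ≫ Sigma.ι E.X i, ?_⟩
    show (l ≫ Sigma.ι E.X i) ≫ Sigma.desc E.f = F.f j ≫ U.1.ι
    rw [Category.assoc, Sigma.ι_desc, hl]
  · rintro ⟨_, hV⟩
    refine ⟨hE, fun U => ?_⟩
    obtain ⟨F, hF, hFE⟩ := hV U
    have : ∀ j, ∃ C : PreZeroHypercover.{0} (F.X j), HTop.IsStandardV C ∧
        ∀ k, ∃ (i : E.I₀) (m : C.X k ⟶ E.X i), m ≫ E.f i = C.f k ≫ F.f j ≫ U.1.ι := by
      intro j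
      obtain ⟨_, l₀, hl₀⟩ := hFE j
      let l : F.X j ⟶ ∐ E.X := l₀
      have hl : l ≫ Sigma.desc E.f = F.f j ≫ U.1.ι := hl₀
      haveI := hF.isAffine_obj j
      have key : ∀ z : F.X j, ∃ (W : (F.X j).Opens) (i : E.I₀), IsAffineOpen W ∧ z ∈ W ∧
          W ≤ l ⁻¹ᵁ (Sigma.ι E.X i).opensRange := by
        intro z
        obtain ⟨i, y, hy⟩ := (sigmaOpenCover E.X).exists_eq (l.base z)
        obtain ⟨W, hW, hzW, hle⟩ := exists_isAffineOpen_mem_and_subset
          (U := l ⁻¹ᵁ (Sigma.ι E.X i).opensRange) (x := z) ⟨y, hy⟩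
        exact ⟨W, i, hW, hzW, hle⟩
      choose W i hW hzW hle using key
      obtain ⟨t, ht⟩ := (isCompact_univ (X := F.X j)).elim_finite_subcover (fun z => (W z : Set (F.X j)))
        (fun z => (W z).2) (fun z _ => Set.mem_iUnion.2 ⟨z, hzW z⟩)
      obtain ⟨n, ⟨e⟩⟩ := Finite.exists_equiv_fin ↥t
      let z : Fin n → F.X j := fun k => (e.symm k).1
      let C : PreZeroHypercover.{0} (F.X j) := ⟨Fin n, fun k => W (z k), fun k => (W (z k)).ι⟩
      refine ⟨C, ⟨inferInstance, inferInstanceAs (Finite (Fin n)), fun k => hW (z k),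
        Groth.Agent.HTopLib.hasValLift_of_flat C (fun k => inferInstanceAs (Flat (W (z k)).ι))
          fun x => ?_⟩, fun k => ⟨i (z k), ?_⟩⟩
      · obtain ⟨z₀, hz₀, hx⟩ : ∃ z₀ ∈ t, x ∈ W z₀ := by simpa using ht (Set.mem_univ x)
        exact ⟨e ⟨z₀, hz₀⟩, ⟨x, by simpa [z] using hx⟩, rfl⟩
      · have hr : Set.range ((W (z k)).ι ≫ l).base ⊆ Set.range (Sigma.ι E.X (i (z k))).base := by
          rintro _ ⟨a, rfl⟩
          exact hle _ a.2
        refine ⟨IsOpenImmersion.lift (Sigma.ι E.X (i (z k))) ((W (z k)).ι ≫ l) hr, ?_⟩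
        show IsOpenImmersion.lift _ _ hr ≫ E.f (i (z k)) = (W (z k)).ι ≫ F.f j ≫ U.1.ι
        have := congrArg (· ≫ Sigma.desc E.f)
          (IsOpenImmersion.lift_fac (Sigma.ι E.X (i (z k))) ((W (z k)).ι ≫ l) hr)
        simp only [Category.assoc, Sigma.ι_desc] at this
        rw [this, hl]
    choose C hC hCE using this
    refine ⟨F.bind C, Groth.Agent.HTopLib.isStandardV_bind hF hC, ?_⟩
    rintro ⟨j, k⟩
    obtain ⟨i, m, hm⟩ := hCE j k
    exact ⟨i, m, hm.trans (Category.assoc _ _ _).symm⟩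

end Groth.Agent.S8980
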