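import Groth.Statements.S8977
import Groth.Agent.S8980
import Groth.Agent.SubtrLib.Submersive
-- import your own Groth.Agent.* helpers here

set_option autoImplicit false
universe u
open HTop

namespace Groth.Agent.S8977

open CategoryTheory CategoryTheory.Limits AlgebraicGeometry in
set_option backward.isDefEq.respectTransparency false in
/-- For a Noetherian scheme X and a finite family of finite type morphisms X_i → X, the induced morphism
from the coproduct of the X_i to X is universally submersive if and only if the family is an h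
covering. -/
theorem result {X : Scheme.{u}} [IsNoetherian X] (E : PreZeroHypercover.{u} X) [Finite E.I₀] [∀ i, LocallyOfFiniteType (E.f i)] [∀ i, QuasiCompact (E.f i)] : SGA1.UnivSubmersive (Sigma.desc E.f) ↔ HTop.IsHCover E := by
  haveI hlfp : ∀ i, LocallyOfFinitePresentation (E.f i) := fun i => inferInstance
  refine ⟨fun h => ?_, fun h => Groth.Agent.HTopLib.univSubmersive_sigmaDesc E h.2⟩
  rw [Groth.Agent.S8980.result E hlfp]
  haveI : QuasiCompact (Sigma.desc E.f) := by
    refine (quasiCompact_iff _).2 fun U hU hUc => ?_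
    have : Sigma.desc E.f ⁻¹' U = ⋃ i, Sigma.ι E.X i '' (E.f i ⁻¹' U) := by
      ext z
      obtain ⟨i, w, rfl⟩ : ∃ i w, Sigma.ι E.X i w = z := (sigmaOpenCover E.X).exists_eq z
      simp only [Set.mem_preimage, Set.mem_iUnion, Set.mem_image]
      rw [← Scheme.Hom.comp_apply, Sigma.ι_desc]
      refine ⟨fun h => ⟨i, w, h, rfl⟩, ?_⟩
      rintro ⟨j, v, hv, hvw⟩
      have := congrArg (Sigma.desc E.f) hvw
      rw [← Scheme.Hom.comp_apply, ← Scheme.Hom.comp_apply, Sigma.ι_desc, Sigma.ι_desc] at this
      exact this ▸ hv
    rw [this]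
    exact isCompact_iUnion fun i =>
      (((quasiCompact_iff _).1 inferInstance U hU hUc)).image (Sigma.ι E.X i).continuous
  refine ⟨fun _ => (IsZariskiLocalAtSource.sigmaDesc hlfp : LocallyOfFinitePresentation (Sigma.desc E.f)), ?_⟩
  exact Groth.Agent.HTopLib.isVCover_singleton_of_univSSubtrusive.{0} _
    (Groth.Agent.SubtrLib.univSSubtrusive_of_univSubmersive _ h)

end Groth.Agent.S8977
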