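import Groth.Statements.S8990
import Groth.Agent.HTopLib.Square
import Groth.Agent.BlowUpProper.Basic
import Groth.Agent.LimLib.Props
import Groth.Agent.LimLib.ClosedApprox
-- import your own Groth.Agent.* helpers here

set_option autoImplicit false
universe u
open HTop

namespace Groth.Agent.S8990

open CategoryTheory CategoryTheory.Limits AlgebraicGeometry Opposite in
/-- A ph sheaf on schemes over S turns every blow up square (centre a closed subscheme of finite
presentation, X' → X the blowing up, E the inverse image of the centre) into a cartesian square of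
sets of sections. -/
theorem result (S : Scheme.{u}) (F : HTop.ShPh S) {E Z X' X : Over S} (e : E ⟶ X') (π : E ⟶ Z) (b : X' ⟶ X) (i : Z ⟶ X) [IsClosedImmersion i.left] [LocallyOfFinitePresentation i.left] (hb : BlowUp.IsBlowUp b.left i.left.ker) (hE : IsPullback e.left π.left b.left i.left) (t : F.obj.obj (op Z)) (s' : F.obj.obj (op X')) (hts : F.obj.map π.op t = F.obj.map e.op s') : ∃! s : F.obj.obj (op X), F.obj.map i.op s = t ∧ F.obj.map b.op s = s' := by
  haveI : IsProper b.left := Groth.Agent.BlowUpProper.Basic.isProper hb
    (fun U => Groth.Agent.LimLib.fg_ker_ideal i.left U)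
  refine Groth.Agent.HTopLib.existsUnique_of_square HTop.phPrecoverage ⊤ F.obj
    ((isSheaf_iff_isSheaf_of_type _ _).1 F.property) ?_ e π b i trivial trivial trivial hE
    (fun U hU => Groth.Agent.BlowUp.Basic.isIso_restrict hb U
      (by rw [hU, Groth.Agent.HTopLib.support_ker_eq_range]; exact disjoint_compl_left)) t s' hts
  intro X A B a b ha hb _ _ hcov
  exact (HTop.presieve₀_mem_phPrecoverage_iff _).2 (Groth.Agent.HTopLib.isPhCover_pair a b hcov)

end Groth.Agent.S8990
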