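import Groth.Statements.S8992
import Groth.Agent.WN.CharP

set_option autoImplicit false
universe u
open HTop

namespace Groth.Agent.S8992

/-- An algebra over the prime field with p elements is absolutely weakly normal if and only if its p-th
power map is bijective (the algebra is perfect). -/
theorem result (p : ℕ) [Fact p.Prime] (A : Type u) [CommRing A] [Algebra (ZMod p) A] : HTop.IsAWNRing A ↔ PerfectRing A p := by
  have hp : (p : A) = 0 := by
    rw [← map_natCast (algebraMap (ZMod p) A), ZMod.natCast_self, map_zero]
  exact ⟨fun h => WN.perfectRing_of_isAWNRing p hp h, fun h => WN.isAWNRing_of_perfectRing p hp⟩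

end Groth.Agent.S8992
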