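import Groth.Statements.S8993
import Groth.Agent.WN.CharP
import Groth.Agent.WN.Exists

set_option autoImplicit false
universe u
open HTop

namespace Groth.Agent.S8993

/-- For a ring A of prime characteristic p, the map from A to the direct limit of A along Frobenius (the
perfect closure) is an absolute weak normalization of A. (The published statement also identifies,
over a base of characteristic p, the h sheafification of the structure sheaf on quasi-compact
quasi-separated objects with this colimit; that part is not stated here.) -/
theorem result (p : ℕ) [Fact p.Prime] (A : Type u) [CommRing A] [CharP A p] : HTop.IsRingAWN (PerfectClosure.of A p) := by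
  let φ : A →+* PerfectClosure A p := PerfectClosure.of A p
  have hp : (p : A) = 0 := CharP.cast_eq_zero A p
  have hp' : (p : PerfectClosure A p) = 0 := by rw [← map_natCast φ, hp, map_zero]
  have hrad : WN.IsRadHomeo φ := by
    have hpow : ∀ (x : ℕ × A), PerfectClosure.mk A p x ^ p ^ x.1 = φ x.2 := fun x => by
      rw [← iterate_frobenius]
      exact PerfectClosure.iterate_frobenius_mk A p x.1 x.2
    have hi : φ.IsIntegral := fun x => by
      induction x using PerfectClosure.induction_on with
      | _ x =>
        let := φ.toAlgebra
        exact IsIntegral.of_pow (R := A) (pow_pos (Fact.out : p.Prime).pos x.1)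
          (by rw [hpow]; exact isIntegral_algebraMap)
    refine ⟨hi, WN.surj_of_isIntegral_of_ker_le hi fun a ha => ?_, ?_⟩
    · have h0 : PerfectClosure.mk A p (0, a) = PerfectClosure.mk A p (0, 0) :=
        (RingHom.mem_ker.mp ha).trans (PerfectClosure.zero_def A p)
      obtain ⟨z, hz⟩ := (PerfectClosure.mk_eq_iff _ _ _ _).mp h0
      exact mem_nilradical.mpr ⟨p ^ z, by
        simpa [iterate_frobenius, zero_pow (pow_pos (Fact.out : p.Prime).pos z).ne'] using hz⟩
    · intro K _ g₁ g₂ hg
      have : CharP K p := ringChar.of_eq (CharP.ringChar_of_prime_eq_zero Fact.out (by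
        rw [← map_natCast g₁, hp', map_zero]))
      refine RingHom.ext fun x => ?_
      induction x using PerfectClosure.induction_on with
      | _ x =>
        apply (frobenius_inj K p).iterate x.1
        rw [← RingHom.map_iterate_frobenius, ← RingHom.map_iterate_frobenius]
        erw [PerfectClosure.iterate_frobenius_mk]
        exact DFunLike.congr_fun hg x.2
  obtain ⟨e, he⟩ := WN.exists_equiv_norm_of_isAWNRing hrad (WN.isAWNRing_of_perfectRing p hp')
  exact WN.isRingAWN_of_equiv φ e he

end Groth.Agent.S8993
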