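import Groth.Statements.S8996
import Groth.Agent.FlatMor.NormalBase.LocalFree
import Groth.Agent.FlatMor.NormalBase.Step
import Groth.Agent.RegLoc.Serre
import Groth.Agent.VBLib.Basic
import Groth.Agent.Props.QProj

set_option autoImplicit false
universe u
open FlatMor

namespace Groth.Agent.S8996

open TopologicalSpace Opposite

open CategoryTheory CategoryTheory.Limits AlgebraicGeometry in
/-- Over a normal Noetherian base S, a finite locally free module on a flat proper S-scheme X with f_*
O_X = O_S, which becomes free after base change to the local scheme Spec O_{S,s} at every point s of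
S whose local ring has dimension at most one, is isomorphic to the pullback of a finite locally free
module on S. (The published statement asks freeness only at the points whose local ring has
dimension exactly one; over S = Spec k, with X the projective line over k and E its twisting sheaf
O(1), that condition is empty and the conclusion fails. This row also asks freeness at the points of
dimension zero, which the proof uses and which the conclusion forces.) -/
theorem result {X S : Scheme.{u}} (f : X ⟶ S) [Flat f] [IsProper f] (hO : ∀ U : S.Opens, Function.Bijective (f.app U).hom) [IsNoetherian S] (hS : Pi1.IsNormalScheme S) (E : X.Modules) (hE : FlatMod.IsFinLocFree E) (h1 : ∀ s : S, ringKrullDim (S.presheaf.stalk s) ≤ 1 → ∃ r : ℕ, Nonempty ((Scheme.Modules.pullback (pullback.fst f (S.fromSpecStalk s))).obj E ≅ FlatMod.freeMod (pullback f (S.fromSpecStalk s)) r)) : ∃ G : S.Modules, FlatMod.IsFinLocFree G ∧ Nonempty (E ≅ (Scheme.Modules.pullback f).obj G) := by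
  classical
  haveI : IsLocallyNoetherian X := LocallyOfFiniteType.isLocallyNoetherian f
  haveI : CompactSpace X := QuasiCompact.compactSpace_of_compactSpace f
  haveI : IsNoetherian X := ⟨⟩
  haveI : E.IsQuasicoherent := (Groth.Agent.VBLib.isCoh_of_isFinLocFree hE).1
  let Good : Set S := {s | ∃ (V : S.Opens) (n : ℕ) (e : Fin n → Γ(E, f ⁻¹ᵁ V)),
    s ∈ V ∧ Groth.Agent.LFFrame.IsFrame E (f ⁻¹ᵁ V) e}
  have hopen : IsOpen Good := isOpen_iff_forall_mem_open.2 fun s ⟨V, n, e, hs, he⟩ =>
    ⟨V, fun y hy => ⟨V, n, e, hy, he⟩, V.2, hs⟩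
  have hall : ∀ s, s ∈ Good := by
    by_contra hne
    rw [not_forall] at hne
    obtain ⟨T, hTf, hT, hTs⟩ := NoetherianSpace.exists_finite_set_closeds_irreducible
      (⟨Goodᶜ, hopen.isClosed_compl⟩ : Closeds S)
    lift T to Finset (Closeds S) using hTf
    have hmem : ∀ y, y ∉ Good ↔ ∃ t ∈ T, y ∈ (t : Set S) := fun y => by
      have h1 : Goodᶜ = ((⟨Goodᶜ, hopen.isClosed_compl⟩ : Closeds S) : Set S) := rfl
      rw [← Set.mem_compl_iff, h1, hTs, ← Finset.sup_id_eq_sSup, Closeds.coe_finset_sup]
      simp [Finset.sup_eq_iSup]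
    obtain ⟨y₀, hy₀⟩ := hne
    obtain ⟨t₀, ht₀, -⟩ := (hmem y₀).1 hy₀
    obtain ⟨t, htT, htmax⟩ := T.exists_maximal ⟨t₀, ht₀⟩
    have hgen := (hT t htT).isGenericPoint_genericPoint t.isClosed
    generalize (hT t htT).genericPoint = s at hgen
    refine (hmem s).2 ⟨t, htT, hgen.mem⟩ ?_
    let V : S.Opens := ⟨(⋃ t' ∈ T.erase t, (t' : Set S))ᶜ,
      ((T.erase t).finite_toSet.isClosed_biUnion fun t' _ => t'.isClosed).isOpen_compl⟩
    have hsV : s ∈ V := fun hs => by
      obtain ⟨t', ht', hst'⟩ := Set.mem_iUnion₂.1 hs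
      obtain ⟨hne', ht'T⟩ := Finset.mem_erase.1 ht'
      have hle : (t : Set S) ⊆ t' := by
        rw [← hgen.def]; exact closure_minimal (Set.singleton_subset_iff.2 hst') t'.isClosed
      exact hne' (le_antisymm (htmax ht'T hle) hle)
    have hgood : ∀ y ∈ V, ¬ s ⤳ y → y ∈ Good := fun y hyV hy => by
      by_contra hn
      obtain ⟨t', ht', hyt'⟩ := (hmem y).1 hn
      by_cases htt : t' = t
      · subst htt; exact hy (hgen.specializes hyt')
      · exact hyV (Set.mem_iUnion₂.2 ⟨t', Finset.mem_erase.2 ⟨htt, ht'⟩, hyt'⟩)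
    by_cases hdim : ringKrullDim (S.presheaf.stalk s) ≤ 1
    · obtain ⟨r, ⟨φ⟩⟩ := h1 s hdim
      haveI : Flat (S.fromSpecStalk s) := Groth.Agent.FDesc.BaseChangeStalk.flat_fromSpecStalk s
      haveI : Flat (pullback.fst f (S.fromSpecStalk s)) := MorphismProperty.pullback_fst _ _ inferInstance
      haveI : IsPreimmersion (pullback.fst f (S.fromSpecStalk s)) :=
        MorphismProperty.pullback_fst _ _ inferInstance
      have hrange : Set.range (pullback.fst f (S.fromSpecStalk s)) = f ⁻¹' {y | y ⤳ s} := by
        rw [Scheme.Pullback.range_fst, Scheme.range_fromSpecStalk]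
      obtain ⟨V', e, hs', he⟩ := Groth.Agent.FlatMor.NormalBase.exists_isFrame_of_free_local f hE s
        (pullback.fst f (S.fromSpecStalk s)) (fun x hx => by rw [hrange]; exact hx)
        (fun q => hrange.le (Set.mem_range_self q)) φ
      exact ⟨V', r, e, hs', he⟩
    · haveI := (hS s).1
      haveI := (hS s).2
      have hA : ¬ (IsLocalRing.maximalIdeal (S.presheaf.stalk s)).IsPrincipal := fun hp => hdim <| by
        rw [← IsLocalRing.maximalIdeal_height_eq_ringKrullDim]
        exact WithBot.coe_le_coe.mpr (Ideal.height_le_one_of_isPrincipal_of_mem_minimalPrimes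
          (IsLocalRing.maximalIdeal _) (IsLocalRing.maximalIdeal _)
            (by rw [Ideal.minimalPrimes_eq_subsingleton_self]; rfl))
      obtain ⟨a, ha, b, hb, hreg, hdvd⟩ := Groth.Agent.RegLoc.Serre.exists_regular_pair
        (Groth.Agent.RegLoc.Serre.two_le_depth hA) (I := IsLocalRing.maximalIdeal (S.presheaf.stalk s))
        fun q hq hle => ((IsLocalRing.maximalIdeal.isMaximal _).eq_of_le hq.ne_top hle).symm
      obtain ⟨V', n, e, hs', he⟩ := Groth.Agent.FlatMor.NormalBase.exists_isFrame_step f hO hE s V hsV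
        hgood a b ((IsLocalRing.mem_maximalIdeal a).1 ha) ((IsLocalRing.mem_maximalIdeal b).1 hb)
        ⟨fun p hp => hreg (hp.trans (smul_zero a).symm), fun p p' hp => by
          obtain ⟨r, hr⟩ := hdvd p ⟨p', hp⟩
          exact ⟨r, hr⟩⟩
      exact ⟨V', n, e, hs', he⟩
  let G := (Scheme.Modules.pushforward f).obj E
  haveI : G.IsQuasicoherent := Groth.Agent.QCoh.isQuasicoherent_pushforward f E
  refine ⟨G, Groth.Agent.Props.QProj.isFinLocFree_of _ (fun s => ?_) (fun s => ?_), ?_⟩
  · obtain ⟨V, n, e, hs, he⟩ := hall s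
    have hN := Groth.Agent.LFFrame.IsFrame.pushforward f hO he
    obtain ⟨_, ⟨(U : S.Opens), hU, rfl⟩, hsU, hUV⟩ :=
      S.isBasis_affineOpens.exists_subset_of_mem_open hs V.2
    refine ⟨U, hU, hsU, ?_⟩
    have hlin : Function.Bijective (Fintype.linearCombination Γ(S, U)
        (fun i => G.presheaf.map (homOfLE hUV).op (show Γ(G, V) from e i))) := hN U hUV
    exact Module.FinitePresentation.of_equiv (LinearEquiv.ofBijective _ hlin)
  · obtain ⟨V, n, e, hs, he⟩ := hall s
    exact Module.Free.of_equiv (LinearEquiv.ofBijective _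
      ((Groth.Agent.LFFrame.IsFrame.pushforward f hO he).stalkComb_bijective s hs))
  · haveI : IsIso ((Scheme.Modules.pullbackPushforwardAdjunction f).counit.app E) :=
      Groth.Agent.LFFrame.isIso_of_locally_bijective _ fun x => by
        obtain ⟨V, n, e, hs, he⟩ := hall (f x)
        exact ⟨f ⁻¹ᵁ V, hs, fun U hU => he.counit_bijective f hO U hU⟩
    exact ⟨(asIso ((Scheme.Modules.pullbackPushforwardAdjunction f).counit.app E)).symm⟩

end Groth.Agent.S8996
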