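import Groth.Statements.S8997
import Groth.Agent.FlatMor.LocalInj

set_option autoImplicit false
universe u
open FlatMor

namespace Groth.Agent.S8997

open IsLocalRing TensorProduct in
/-- For a local homomorphism A → B of local rings essentially of finite type, a B-linear map from a
finite B-module N to an A-flat B-module M which is injective modulo the maximal ideal of A is
A-universally injective, and N is then finitely presented over B and flat over A. -/
theorem result {A B : Type u} [CommRing A] [IsLocalRing A] [CommRing B] [IsLocalRing B] [Algebra A B] [IsLocalHom (algebraMap A B)] [Algebra.EssFiniteType A B] {N M : Type u} [AddCommGroup N] [Module B N] [Module A N] [IsScalarTower A B N] [Module.Finite B N] [AddCommGroup M] [Module B M] [Module A M] [IsScalarTower A B M] [Module.Flat A M] (u : N →ₗ[B] M) (hu : Function.Injective ((u.restrictScalars A).lTensor (ResidueField A))) : FlatCA.UnivInj A (u.restrictScalars A) ∧ Module.FinitePresentation B N ∧ Module.Flat A N := by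
  obtain ⟨h1, h2, h3, h4⟩ := Groth.Agent.FlatMor.LocalInj.main u hu
  haveI := h2
  refine ⟨fun Q _ _ => ?_, h4, h3⟩
  exact Groth.Agent.LocFlat.lTensor_injective_of_flat_coker (u.restrictScalars A) _
    (u.restrictScalars A).exact_map_mkQ_range (Submodule.mkQ_surjective _) h1 Q

end Groth.Agent.S8997
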