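import Groth.Statements.S8998
import Groth.Agent.RGFlat.ImpurityDescend
import Groth.Agent.S1247
import Groth.Agent.S1246
import Mathlib.RingTheory.QuasiFinite.Basic

set_option autoImplicit false
set_option linter.style.haveILetI false
universe u
open FlatMor TensorProduct

namespace Groth.Agent.S8998

/-- From an impurity over `A` to one over the local ring at `p`. -/
theorem hasImpurity_localization {A B : Type u} [CommRing A] [CommRing B] [Algebra A B]
    [Algebra.FiniteType A B] {N : Type u} [AddCommGroup N] [Module B N] [Module.Finite B N]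
    {p : Ideal A} [p.IsPrime] {Bp Np : Type u} [CommRing Bp] [Algebra B Bp]
    [Algebra (Localization.AtPrime p) Bp] [Algebra A Bp] [IsScalarTower A B Bp]
    [IsScalarTower A (Localization.AtPrime p) Bp] [Algebra.IsPushout A B (Localization.AtPrime p) Bp]
    [AddCommGroup Np] [Module Bp Np] [Module B Np] [IsScalarTower B Bp Np] (f₀ : N →ₗ[B] Np)
    (hf₀ : IsBaseChange Bp f₀)
    {A₁ B₁ N₁ : Type u} [CommRing A₁] [CommRing B₁] [Algebra A A₁] [Algebra B B₁] [Algebra A₁ B₁]
    [Algebra A B₁] [IsScalarTower A B B₁] [IsScalarTower A A₁ B₁] [AddCommGroup N₁] [Module B₁ N₁]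
    [Module B N₁] [IsScalarTower B B₁ N₁] [Module A₁ N₁] [IsScalarTower A₁ B₁ N₁] {f : N →ₗ[B] N₁}
    {t' t : Ideal A₁} [t'.IsPrime] [t.IsPrime] {P : Ideal B₁} [P.IsPrime]
    (h : FlatCA.IsImpurity A B N p A₁ B₁ N₁ f t' t P) :
    FlatCA.HasImpurity (Localization.AtPrime p) Bp Np (IsLocalRing.maximalIdeal (Localization.AtPrime p))
      (fun _ _ _ _ => True) := by
  haveI := h.2.2.2.1
  let A₂ := Localization.AtPrime t
  let L := IsLocalRing.maximalIdeal A₂
  let s' := t'.map (algebraMap A₁ A₂)
  have hle : t' ≤ t := h.2.2.1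
  have hd : Disjoint (t.primeCompl : Set A₁) t' :=
    Set.disjoint_left.mpr fun x hx hx' => hx (hle hx')
  haveI : s'.IsPrime := IsLocalization.isPrime_of_isPrime_disjoint t.primeCompl A₂ t' inferInstance hd
  have hs' : s'.comap (algebraMap A₁ A₂) = t' :=
    IsLocalization.comap_map_of_isPrime_disjoint t.primeCompl A₂ inferInstance hd
  have hs : L.comap (algebraMap A₁ A₂) = t := IsLocalization.AtPrime.under_maximalIdeal A₂ t
  obtain ⟨B₂, N₂, _, _, _, _, _, _, _, _, _, _, _, _, g, P₂, _, h₂⟩ :=
    Groth.Agent.RGFlat.Impurity.exists_isImpurity_baseChange h A₂ s' L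
      (IsLocalRing.le_maximalIdeal (Ideal.IsPrime.ne_top inferInstance)) hs' hs
  have hover : L.comap (algebraMap A A₂) = p := by
    rw [IsScalarTower.algebraMap_eq A A₁ A₂, ← Ideal.comap_comap, hs]
    exact (t.over_def p).symm
  have hu : ∀ y : p.primeCompl, IsUnit (algebraMap A A₂ y) := fun y => by
    by_contra hy
    exact y.2 (hover.le hy)
  let ψ : Localization.AtPrime p →+* A₂ := IsLocalization.lift hu
  letI : Algebra (Localization.AtPrime p) A₂ := ψ.toAlgebra
  haveI : IsScalarTower A (Localization.AtPrime p) A₂ :=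
    IsScalarTower.of_algebraMap_eq fun a => (IsLocalization.lift_eq hu a).symm
  haveI : L.LiesOver (IsLocalRing.maximalIdeal (Localization.AtPrime p)) := ⟨by
    refine (IsLocalization.orderEmbedding p.primeCompl (Localization.AtPrime p)).injective ?_
    show (IsLocalRing.maximalIdeal (Localization.AtPrime p)).comap (algebraMap A _) =
      (L.comap (algebraMap (Localization.AtPrime p) A₂)).comap (algebraMap A _)
    rw [Ideal.comap_comap, ← IsScalarTower.algebraMap_eq, hover]
    exact IsLocalization.AtPrime.under_maximalIdeal _ p⟩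
  obtain ⟨_, _, _, _, _, _, _, g', h₃⟩ := Groth.Agent.RGFlat.Impurity.exists_isImpurity_rebase
    f₀ hf₀ (IsLocalRing.maximalIdeal (Localization.AtPrime p)) h₂
  exact ⟨A₂, B₂, N₂, inferInstance, inferInstance, inferInstance, inferInstance, inferInstance,
    inferInstance, inferInstance, inferInstance, inferInstance, inferInstance, inferInstance,
    inferInstance, inferInstance, inferInstance, g', s', L, inferInstance, inferInstance, P₂,
    inferInstance, h₃, trivial⟩

/-- From a quasi-finite impurity over the local ring at `p` to an étale one over `A`. -/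
theorem hasImpurity_etale {A B : Type u} [CommRing A] [CommRing B] [Algebra A B]
    [Algebra.FiniteType A B] {N : Type u} [AddCommGroup N] [Module B N] [Module.Finite B N]
    {p : Ideal A} [p.IsPrime] {Bp Np : Type u} [CommRing Bp] [Algebra B Bp]
    [Algebra (Localization.AtPrime p) Bp] [Algebra A Bp] [IsScalarTower A B Bp]
    [IsScalarTower A (Localization.AtPrime p) Bp] [Algebra.IsPushout A B (Localization.AtPrime p) Bp]
    [AddCommGroup Np] [Module Bp Np] [Module B Np] [IsScalarTower B Bp Np] (f₀ : N →ₗ[B] Np)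
    (hf₀ : IsBaseChange Bp f₀)
    (h : FlatCA.HasImpurity (Localization.AtPrime p) Bp Np (IsLocalRing.maximalIdeal (Localization.AtPrime p))
      (fun A' _ _ t => ∃ _ : t.IsPrime, Algebra.FiniteType (Localization.AtPrime p) A' ∧
        Algebra.QuasiFiniteAt (Localization.AtPrime p) t)) :
    FlatCA.HasImpurity A B N p (fun A' _ _ t => ∃ _ : t.IsPrime, FlatCA.IsEtaleNhd A A' p t) := by
  classical
  let Ap := Localization.AtPrime p
  obtain ⟨A₁, B₁, N₁, _, _, _, _, _, _, _, _, _, _, _, _, _, _, f, t', t, _, _, P, _, himp, _, hft, hqf⟩ := h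
  obtain ⟨hpo, hf, hle, hto, hP, hass, hno⟩ := himp
  haveI := hft
  haveI := hqf
  haveI := hto
  haveI := hpo
  letI : Algebra A A₁ := ((algebraMap Ap A₁).comp (algebraMap A Ap)).toAlgebra
  haveI : IsScalarTower A Ap A₁ := IsScalarTower.of_algebraMap_eq fun _ => rfl
  letI : Algebra B B₁ := ((algebraMap Bp B₁).comp (algebraMap B Bp)).toAlgebra
  haveI : IsScalarTower B Bp B₁ := IsScalarTower.of_algebraMap_eq fun _ => rfl
  letI : Algebra A B₁ := ((algebraMap A₁ B₁).comp (algebraMap A A₁)).toAlgebra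
  haveI : IsScalarTower A A₁ B₁ := IsScalarTower.of_algebraMap_eq fun _ => rfl
  haveI : IsScalarTower A Bp B₁ := IsScalarTower.of_algebraMap_eq fun a => by
    show algebraMap A₁ B₁ (algebraMap Ap A₁ (algebraMap A Ap a)) = _
    rw [← IsScalarTower.algebraMap_apply Ap A₁ B₁, IsScalarTower.algebraMap_apply Ap Bp B₁,
      ← IsScalarTower.algebraMap_apply A Ap Bp]
  haveI : IsScalarTower A B B₁ := IsScalarTower.of_algebraMap_eq fun a => by
    rw [IsScalarTower.algebraMap_apply B Bp B₁, ← IsScalarTower.algebraMap_apply A B Bp,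
      ← IsScalarTower.algebraMap_apply A Bp B₁]
  letI : Module B N₁ := Module.compHom N₁ (algebraMap B B₁)
  haveI : IsScalarTower B B₁ N₁ := IsScalarTower.of_algebraMap_smul fun _ _ => rfl
  haveI : IsScalarTower B Bp N₁ := IsScalarTower.of_algebraMap_smul fun b x => by
    show algebraMap B Bp b • x = algebraMap B B₁ b • x
    rw [IsScalarTower.algebraMap_apply B Bp B₁]
    exact (algebraMap_smul B₁ _ x).symm
  haveI : Algebra.IsPushout A Ap B Bp := Algebra.IsPushout.symm inferInstance
  haveI : Algebra.IsPushout Ap A₁ Bp B₁ := hpo.symm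
  have hpo₁ : Algebra.IsPushout A B A₁ B₁ :=
    ((Algebra.IsPushout.comp_iff (R := A) (S := Ap) (R' := B) (S' := Bp) (T := A₁) (T' := B₁)).mpr
      inferInstance).symm
  haveI : t.LiesOver p := ⟨by
    rw [Ideal.under_def, IsScalarTower.algebraMap_eq A Ap A₁, ← Ideal.comap_comap]
    exact (IsLocalization.AtPrime.under_maximalIdeal Ap p).symm.trans
      (congrArg (Ideal.comap _) hto.over)⟩
  have himp' : FlatCA.IsImpurity A B N p A₁ B₁ N₁ ((f.restrictScalars B).comp f₀) t' t P :=
    ⟨hpo₁, hf₀.comp hf, hle, inferInstance, hP, hass, hno⟩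
  obtain ⟨F, hF⟩ := Groth.Agent.RGFlat.Impurity.exists_descend himp'
  obtain ⟨G, hG⟩ := hft.out
  let R : Subalgebra A A₁ := Algebra.adjoin A ((F ∪ G : Finset A₁) : Set A₁)
  haveI : Algebra.FiniteType A R := (Subalgebra.fg_iff_finiteType _).1 ⟨F ∪ G, rfl⟩
  -- every element of `A₁` is a fraction
  have hfrac : ∀ x : A₁, ∃ s ∈ p.primeCompl, algebraMap A A₁ s * x ∈ R := by
    intro x
    have hx : x ∈ Algebra.adjoin Ap (G : Set A₁) := hG ▸ Algebra.mem_top
    induction hx using Algebra.adjoin_induction with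
    | mem x hx =>
      exact ⟨1, one_mem _, by rw [map_one, one_mul]; exact Algebra.subset_adjoin (by simp [hx])⟩
    | algebraMap r =>
      obtain ⟨⟨a, s⟩, hs⟩ := IsLocalization.surj p.primeCompl r
      refine ⟨s, s.2, ?_⟩
      rw [IsScalarTower.algebraMap_apply A Ap A₁, ← map_mul, mul_comm, hs,
        ← IsScalarTower.algebraMap_apply]
      exact R.algebraMap_mem a
    | add x y _ _ hx hy =>
      obtain ⟨s, hs, hsx⟩ := hx
      obtain ⟨u, hu, huy⟩ := hy
      refine ⟨s * u, mul_mem hs hu, ?_⟩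
      rw [map_mul, mul_add]
      refine add_mem ?_ ?_
      · rw [mul_comm (algebraMap A A₁ s), mul_assoc]
        exact mul_mem (R.algebraMap_mem u) hsx
      · rw [mul_assoc]
        exact mul_mem (R.algebraMap_mem s) huy
    | mul x y _ _ hx hy =>
      obtain ⟨s, hs, hsx⟩ := hx
      obtain ⟨u, hu, huy⟩ := hy
      refine ⟨s * u, mul_mem hs hu, ?_⟩
      rw [map_mul, mul_mul_mul_comm]
      exact mul_mem hsx huy
  obtain ⟨BR, NR, _, _, _, _, _, _, _, _, _, _, _, _, g, PR, _, s, hs, hI⟩ := hF R fun a ha =>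
    ⟨⟨a, Algebra.subset_adjoin (by simp only [Finset.coe_union]; exact Or.inl ha)⟩, rfl⟩
  let a := t.comap (algebraMap R A₁)
  haveI : a.IsPrime := Ideal.comap_isPrime _ _
  haveI : a.LiesOver p := ⟨by
    show p = (t.comap (algebraMap R A₁)).comap (algebraMap A R)
    rw [Ideal.comap_comap, ← IsScalarTower.algebraMap_eq, ← Ideal.under_def, ← Ideal.over_def t p]⟩
  haveI : IsLocalization (Algebra.algebraMapSubmonoid R p.primeCompl) A₁ := by
    refine ⟨⟨fun y => ?_, fun x => ?_, fun {x y} hxy => ⟨1, ?_⟩⟩⟩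
    · obtain ⟨_, c, hc, rfl⟩ := y
      rw [← IsScalarTower.algebraMap_apply, IsScalarTower.algebraMap_apply A Ap A₁]
      exact (IsLocalization.map_units Ap (⟨c, hc⟩ : p.primeCompl)).map _
    · obtain ⟨c, hc, hcx⟩ := hfrac x
      refine ⟨(⟨_, hcx⟩, ⟨_, c, hc, rfl⟩), ?_⟩
      exact mul_comm _ _
    · rw [Subtype.coe_injective hxy]
  letI : Algebra A₁ (Localization.AtPrime t) := inferInstance
  haveI : IsLocalization.AtPrime (Localization.AtPrime t) a :=
    IsLocalization.isLocalization_isLocalization_atPrime_isLocalization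
      (Algebra.algebraMapSubmonoid R p.primeCompl) (Localization.AtPrime t) t
  haveI : Algebra.QuasiFinite Ap (Localization.AtPrime t) := hqf
  haveI : Algebra.QuasiFinite A Ap := Algebra.QuasiFinite.of_isLocalization p.primeCompl
  haveI : Algebra.QuasiFinite A (Localization.AtPrime t) := Algebra.QuasiFinite.trans A Ap _
  let e : Localization.AtPrime t ≃ₐ[A] Localization.AtPrime a :=
    (IsLocalization.algEquiv a.primeCompl (Localization.AtPrime t) (Localization.AtPrime a)).restrictScalars A
  haveI : Algebra.QuasiFiniteAt A a := Algebra.QuasiFinite.of_surjective_algHom e.toAlgHom e.surjective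
  exact S1246.result_aux N p (hI a le_rfl hs inferInstance)

/-- For an affine finite type morphism Spec B → Spec A: if the local ring of A at the prime p is
Noetherian, then a finite B-module is pure along the fibre over p if and only if it is universally
pure along it. -/
theorem result {A B : Type u} [CommRing A] [CommRing B] [Algebra A B] [Algebra.FiniteType A B] (N : Type u) [AddCommGroup N] [Module B N] [Module.Finite B N] (p : Ideal A) [p.IsPrime] [IsNoetherianRing (Localization.AtPrime p)] : FlatCA.IsPureAlong A B N p ↔ FlatCA.IsUnivPureAlong A B N p := by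
  refine ⟨fun H A₁ B₁ N₁ _ _ _ _ _ _ _ _ _ _ _ _ _ _ f t' t _ _ P _ himp => ?_,
    fun H A₁ B₁ N₁ _ _ _ _ _ _ _ _ _ _ _ _ _ _ f t' t _ _ P _ _ himp => H A₁ B₁ N₁ f t' t P himp⟩
  obtain ⟨Bp, _, _, _, _, _, _, hpo⟩ : ∃ (Bp : Type u) (_ : CommRing Bp) (_ : Algebra B Bp)
      (_ : Algebra (Localization.AtPrime p) Bp) (_ : Algebra A Bp) (_ : IsScalarTower A B Bp)
      (_ : IsScalarTower A (Localization.AtPrime p) Bp), Algebra.IsPushout A B (Localization.AtPrime p) Bp := by
    letI : Algebra B (Localization.AtPrime p ⊗[A] B) := Algebra.TensorProduct.rightAlgebra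
    exact ⟨Localization.AtPrime p ⊗[A] B, inferInstance, inferInstance, inferInstance, inferInstance,
      inferInstance, inferInstance, Algebra.IsPushout.symm inferInstance⟩
  haveI := hpo
  obtain ⟨Np, _, _, _, _, f₀, hf₀⟩ : ∃ (Np : Type u) (_ : AddCommGroup Np) (_ : Module Bp Np)
      (_ : Module B Np) (_ : IsScalarTower B Bp Np) (f₀ : N →ₗ[B] Np), IsBaseChange Bp f₀ :=
    ⟨Bp ⊗[B] N, _, _, _, inferInstance, _, TensorProduct.isBaseChange B N Bp⟩
  haveI : Algebra.FiniteType (Localization.AtPrime p) Bp := Algebra.FiniteType.equiv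
    (inferInstance : Algebra.FiniteType (Localization.AtPrime p) (Localization.AtPrime p ⊗[A] B))
    (haveI := hpo.symm; Algebra.IsPushout.equiv A (Localization.AtPrime p) B Bp)
  haveI : Module.Finite Bp Np := Module.Finite.equiv hf₀.equiv
  obtain ⟨A₂, B₂, N₂, _, _, _, _, _, _, _, _, _, _, _, _, _, _, f₂, s', s, _, _, P₂, _, h2, _, hn⟩ :=
    hasImpurity_etale f₀ hf₀ (S1247.result Np (IsLocalRing.maximalIdeal (Localization.AtPrime p))
      (hasImpurity_localization f₀ hf₀ himp))
  exact H A₂ B₂ N₂ f₂ s' s P₂ hn h2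

end Groth.Agent.S8998
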