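import Groth.Statements.S8999
import Groth.Agent.RGFlat.ImpurityQF
import Mathlib.RingTheory.IsTensorProduct

set_option autoImplicit false
set_option linter.style.haveILetI false
set_option linter.unusedSectionVars false
universe u
open FlatMor TensorProduct

namespace Groth.Agent.S8999

/-- `q` is the annihilator of an element of the fibre over `p`, phrased on `N` only. -/
def Assoc {R S : Type u} [CommRing R] [CommRing S] (N : Type u) [AddCommGroup N] [Module S N]
    [Module R N] (p : Ideal R) (q : Ideal S) : Prop :=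
  ∃ n : N, ∀ b : S, b ∈ q ↔ ∃ r ∉ p, r • (b • n) ∈ p • (⊤ : Submodule R N)

section
variable {R S : Type u} [CommRing R] [CommRing S] [Algebra R S] [Algebra.FiniteType R S]
  (M : Type u) [AddCommGroup M] [Module S M] [Module R M] [IsScalarTower R S M] [Module.Finite S M]

omit [Algebra.FiniteType R S] [Module.Finite S M] in
lemma mem_iff (p : Ideal R) (r : R) (x : M) :
    algebraMap R S r • x ∈ p.map (algebraMap R S) • (⊤ : Submodule S M) ↔
      r • x ∈ p • (⊤ : Submodule R M) := by
  rw [← Submodule.restrictScalars_mem R, Submodule.restrictScalars_map_smul_eq,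
    Submodule.restrictScalars_top, algebraMap_smul]

lemma assoc_iff (p : Ideal R) [p.IsPrime] (q : Ideal S) [q.IsPrime] [q.LiesOver p] :
    FlatCA.fiberIdeal p q ∈ associatedPrimes (p.Fiber S) (FlatCA.fiberMod p S M) ↔
      Assoc M p q := by
  constructor
  · intro h
    obtain ⟨n, hn⟩ := RGFlat.Impurity.exists_elem p q h
    refine ⟨n, fun b => (hn b).trans ⟨fun h0 => ?_, fun ⟨r, hr, h0⟩ => ?_⟩⟩
    · obtain ⟨r, hr, h1⟩ := CAlgA.FibreMod.exists_smul_mem M p h0
      exact ⟨r, hr, (mem_iff M p r _).1 h1⟩
    · have h1 := CAlgA.FibreMod.toFiberMod_eq_zero_of_mem M p ((mem_iff (S := S) M p r _).2 h0)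
      rw [map_smul] at h1
      exact CAlgA.FibreMod.eq_zero_of_smul_eq_zero M p hr h1
  · rintro ⟨n, hn⟩
    refine RGFlat.Impurity.fiberIdeal_mem_ass p q n ⟨⟨inferInstance, fun b hb => (hn b).2
      ⟨1, ‹p.IsPrime›.one_notMem, ?_⟩⟩, fun J hJ hJq b hb => ?_⟩
    · rw [← mem_iff (S := S), map_one, one_smul]
      exact Submodule.mem_colon_singleton.1 hb
    · obtain ⟨r, hr, hrb⟩ := (hn b).1 hb
      have h1 : algebraMap R S r * b ∈ J :=
        hJ.2 (Submodule.mem_colon_singleton.2 (by rw [mul_smul]; exact (mem_iff M p r _).2 hrb))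
      exact (hJ.1.mem_or_mem h1).resolve_left fun h0 => hr ((q.over_def p).ge (hJq h0))

end

section
variable {R S T : Type u} [CommRing R] [CommRing S] [CommRing T] [Algebra S T]
  (M : Type u) [AddCommGroup M] [Module S M] [Module T M] [IsScalarTower S T M] [Module R M]

lemma assoc_comap {p : Ideal R} {q : Ideal T} (h : Assoc M p q) :
    Assoc M p (q.comap (algebraMap S T)) := by
  obtain ⟨n, hn⟩ := h
  exact ⟨n, fun b => by rw [Ideal.mem_comap, hn, algebraMap_smul]⟩

omit [Module T M] [IsScalarTower S T M] in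
lemma assoc_of_equiv {M' : Type u} [AddCommGroup M'] [Module S M'] [Module R M']
    {p : Ideal R} {q : Ideal S} (e : M ≃ₗ[S] M') (he : ∀ (r : R) x, e (r • x) = r • e x)
    (h : Assoc M p q) : Assoc M' p q := by
  obtain ⟨n, hn⟩ := h
  let e' : M ≃ₗ[R] M' := { e with map_smul' := he }
  refine ⟨e n, fun b => (hn b).trans (exists_congr fun r => and_congr_right fun _ => ?_)⟩
  have h1 : (p • (⊤ : Submodule R M)).map e'.toLinearMap = p • ⊤ := by
    rw [Submodule.map_smul'', Submodule.map_top, LinearMap.range_eq_top.2 e'.surjective]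
  conv_rhs => rw [← h1, ← e.map_smul, ← he]
  exact ⟨fun hx => ⟨_, hx, rfl⟩, fun ⟨y, hy, hy'⟩ => e'.injective hy' ▸ hy⟩

lemma map_of_assoc {p : Ideal R} {q : Ideal S} [q.IsPrime] (h : Assoc M p q)
    (hsurj : Function.Surjective (algebraMap S T)) (hp : (1 : R) ∉ p) :
    RingHom.ker (algebraMap S T) ≤ q ∧ (q.map (algebraMap S T)).IsPrime ∧
      Assoc M p (q.map (algebraMap S T)) := by
  obtain ⟨n, hn⟩ := h
  have hker : RingHom.ker (algebraMap S T) ≤ q := fun b hb => (hn b).2 ⟨1, hp, by
    rw [← algebraMap_smul T b n, RingHom.mem_ker.1 hb, zero_smul, smul_zero]; exact zero_mem _⟩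
  refine ⟨hker, Ideal.map_isPrime_of_surjective hsurj hker, n, fun c => ?_⟩
  obtain ⟨b, rfl⟩ := hsurj c
  rw [algebraMap_smul, ← hn b, ← Ideal.mem_comap, Ideal.comap_map_of_surjective _ hsurj,
    sup_eq_left.2 (by rw [← RingHom.ker_eq_comap_bot]; exact hker)]

end

section
variable {B C B' C' : Type u} [CommRing B] [CommRing C] [CommRing B'] [CommRing C'] [Algebra B C]
  [Algebra B B'] [Algebra C C'] [Algebra B' C'] [Algebra B C'] [IsScalarTower B C C']
  [IsScalarTower B B' C'] [Algebra.IsPushout B B' C C']

lemma surjective_of_pushout (h : Function.Surjective (algebraMap B C)) :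
    Function.Surjective (algebraMap B' C') := by
  intro x
  obtain ⟨z, rfl⟩ := (Algebra.IsPushout.equiv B B' C C').surjective x
  induction z using TensorProduct.induction_on with
  | zero => exact ⟨0, by simp⟩
  | tmul b' c =>
    obtain ⟨b, rfl⟩ := h c
    exact ⟨b' * algebraMap B B' b, by
      rw [Algebra.IsPushout.equiv_tmul, map_mul, ← IsScalarTower.algebraMap_apply,
        ← IsScalarTower.algebraMap_apply]⟩
  | add x y hx hy =>
    obtain ⟨a, ha⟩ := hx
    obtain ⟨b, hb⟩ := hy
    exact ⟨a + b, by rw [map_add, map_add, ha, hb]⟩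

variable {N N' : Type u} [AddCommGroup N] [Module B N] [Module C N] [IsScalarTower B C N]
  [AddCommGroup N'] [Module B N'] [Module C N'] [Module B' N'] [Module C' N'] [IsScalarTower B C N']
  [IsScalarTower C C' N'] [IsScalarTower B' C' N'] [IsScalarTower B B' N']

lemma isBaseChange_restrict (g : N →ₗ[C] N') (hg : IsBaseChange C' g) :
    IsBaseChange B' (g.restrictScalars B) := by
  refine IsBaseChange.of_equiv ((Algebra.IsPushout.cancelBaseChange B B' C C' N).symm.trans
    (hg.equiv.restrictScalars B')) fun x => ?_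
  simp [Algebra.IsPushout.cancelBaseChange_symm_tmul, hg.equiv_tmul]

end

section
variable {A B C : Type u} [CommRing A] [CommRing B] [CommRing C] [Algebra A B] [Algebra B C]
  [Algebra A C] [IsScalarTower A B C] [Algebra.FiniteType A B] (hBC : Function.Surjective (algebraMap B C))
  {N : Type u} [AddCommGroup N] [Module C N] [Module B N] [IsScalarTower B C N] [Module.Finite C N]
  {p : Ideal A} [p.IsPrime]

include hBC

lemma finite_B : Module.Finite B N := by
  have : Module.Finite B C := Module.Finite.of_surjective (Algebra.linearMap B C) hBC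
  exact Module.Finite.trans C N

lemma finiteType_C : Algebra.FiniteType A C :=
  Algebra.FiniteType.of_surjective (IsScalarTower.toAlgHom A B C) hBC

/-- From an impurity of `N` over `C` to one over `B`. -/
theorem to_B {A' C' N' : Type u} [CommRing A'] [CommRing C'] [Algebra A A'] [Algebra C C'] [Algebra A' C']
    [Algebra A C'] [IsScalarTower A C C'] [IsScalarTower A A' C'] [AddCommGroup N'] [Module C' N']
    [Module C N'] [IsScalarTower C C' N'] [Module A' N'] [IsScalarTower A' C' N'] {g : N →ₗ[C] N'}
    {t' t : Ideal A'} [t'.IsPrime] [t.IsPrime] {P : Ideal C'} [P.IsPrime]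
    (h : FlatCA.IsImpurity A C N p A' C' N' g t' t P) :
    ∃ (B' : Type u) (_ : CommRing B') (_ : Algebra B B') (_ : Algebra A' B') (_ : Algebra A B')
      (_ : IsScalarTower A B B') (_ : IsScalarTower A A' B') (_ : Module B' N') (_ : Module B N')
      (_ : IsScalarTower B B' N') (_ : IsScalarTower A' B' N') (f : N →ₗ[B] N') (P' : Ideal B')
      (_ : P'.IsPrime), FlatCA.IsImpurity A B N p A' B' N' f t' t P' := by
  obtain ⟨hpo, hg, hle, hto, hP, hass, hno⟩ := h
  haveI := finite_B hBC (N := N)
  haveI := finiteType_C (A := A) hBC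
  haveI := hP
  let B' := A' ⊗[A] B
  letI : Algebra B B' := Algebra.TensorProduct.rightAlgebra
  haveI : Algebra.IsPushout A A' B B' := inferInstance
  letI : Algebra B C' := ((algebraMap C C').comp (algebraMap B C)).toAlgebra
  haveI : IsScalarTower B C C' := IsScalarTower.of_algebraMap_eq fun _ => rfl
  haveI : IsScalarTower A B C' := IsScalarTower.of_algebraMap_eq fun a => by
    rw [IsScalarTower.algebraMap_apply A C C', IsScalarTower.algebraMap_apply A B C]; rfl
  let ψ : B' →ₐ[A] C' := Algebra.pushoutDesc (R := A) (S := A') (R' := B) B'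
    (IsScalarTower.toAlgHom A A' C') (IsScalarTower.toAlgHom A B C') fun x y => mul_comm _ _
  letI : Algebra B' C' := ψ.toRingHom.toAlgebra
  haveI : IsScalarTower B B' C' := IsScalarTower.of_algebraMap_eq fun x => by
    show algebraMap B C' x = ψ (algebraMap B B' x)
    rw [Algebra.pushoutDesc_right]; rfl
  haveI : IsScalarTower A' B' C' := IsScalarTower.of_algebraMap_eq fun x => by
    show algebraMap A' C' x = ψ (algebraMap A' B' x)
    rw [Algebra.pushoutDesc_left]; rfl
  haveI : IsScalarTower A B' C' := IsScalarTower.of_algebraMap_eq fun x => (ψ.commutes x).symm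
  haveI : Algebra.IsPushout A A' C C' := hpo.symm
  haveI : Algebra.IsPushout B B' C C' :=
    (Algebra.IsPushout.comp_iff A B A' B').mp hpo |>.symm
  letI : Module B' N' := Module.compHom N' (algebraMap B' C')
  haveI : IsScalarTower B' C' N' := IsScalarTower.of_algebraMap_smul fun _ _ => rfl
  letI : Module B N' := Module.compHom N' (algebraMap B C)
  haveI : IsScalarTower B C N' := IsScalarTower.of_algebraMap_smul fun _ _ => rfl
  haveI : IsScalarTower B B' N' := IsScalarTower.of_algebraMap_smul fun b x => by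
    show algebraMap B' C' (algebraMap B B' b) • x = algebraMap B C b • x
    rw [← IsScalarTower.algebraMap_apply B B' C', IsScalarTower.algebraMap_apply B C C',
      algebraMap_smul]
  haveI : IsScalarTower A' B' N' := IsScalarTower.of_algebraMap_smul fun a x => by
    show algebraMap B' C' (algebraMap A' B' a) • x = a • x
    rw [← IsScalarTower.algebraMap_apply, algebraMap_smul]
  haveI : Algebra.FiniteType A' C' := Algebra.FiniteType.equiv
    (inferInstance : Algebra.FiniteType A' (A' ⊗[A] C)) (Algebra.IsPushout.equiv A A' C C')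
  haveI : Module.Finite C' N' := Module.Finite.equiv hg.equiv
  haveI : Module.Finite B' N' := Module.Finite.equiv (isBaseChange_restrict (B := B) (B' := B') g hg).equiv
  have hpo' : Algebra.IsPushout A B A' B' := Algebra.IsPushout.symm inferInstance
  haveI hP' : (P.comap (algebraMap B' C')).LiesOver t' := ⟨by
    rw [hP.over, Ideal.under_def, Ideal.under_def, Ideal.comap_comap, ← IsScalarTower.algebraMap_eq]⟩
  refine ⟨B', _, _, _, _, inferInstance, inferInstance, _, _, inferInstance, inferInstance,
    g.restrictScalars B, P.comap (algebraMap B' C'), Ideal.comap_isPrime _ _, hpo',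
    isBaseChange_restrict g hg, hle, hto, hP', ?_, fun Q _ hPQ hQ => ?_⟩
  · exact (assoc_iff N' t' _).2 (assoc_comap N' ((assoc_iff N' t' P).1 hass))
  · have hs := surjective_of_pushout (B' := B') (C' := C') hBC
    have hker : RingHom.ker (algebraMap B' C') ≤ Q :=
      fun b hb => hPQ (by rw [Ideal.mem_comap, RingHom.mem_ker.1 hb]; exact zero_mem P)
    haveI := Ideal.map_isPrime_of_surjective hs hker
    refine hno (Q.map (algebraMap B' C')) ?_ ⟨?_⟩
    · rw [← Ideal.map_comap_of_surjective _ hs P]; exact Ideal.map_mono hPQ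
    · rw [hQ.over, Ideal.under_def, Ideal.under_def, IsScalarTower.algebraMap_eq A' B' C',
        ← Ideal.comap_comap, Ideal.comap_map_of_surjective _ hs,
        sup_eq_left.2 (by rw [← RingHom.ker_eq_comap_bot]; exact hker)]

/-- From an impurity of `N` over `B` to one over `C`. -/
theorem to_C {A' B' N' : Type u} [CommRing A'] [CommRing B'] [Algebra A A'] [Algebra B B'] [Algebra A' B']
    [Algebra A B'] [IsScalarTower A B B'] [IsScalarTower A A' B'] [AddCommGroup N'] [Module B' N']
    [Module B N'] [IsScalarTower B B' N'] [Module A' N'] [IsScalarTower A' B' N'] {f : N →ₗ[B] N'}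
    {t' t : Ideal A'} [t'.IsPrime] [t.IsPrime] {P : Ideal B'} [P.IsPrime]
    (h : FlatCA.IsImpurity A B N p A' B' N' f t' t P) :
    ∃ (C' N'' : Type u) (_ : CommRing C') (_ : Algebra C C') (_ : Algebra A' C') (_ : Algebra A C')
      (_ : IsScalarTower A C C') (_ : IsScalarTower A A' C') (_ : AddCommGroup N'') (_ : Module C' N'')
      (_ : Module C N'') (_ : IsScalarTower C C' N'') (_ : Module A' N'') (_ : IsScalarTower A' C' N'')
      (g : N →ₗ[C] N'') (P' : Ideal C') (_ : P'.IsPrime), FlatCA.IsImpurity A C N p A' C' N'' g t' t P' := by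
  obtain ⟨hpo, hf, hle, hto, hP, hass, hno⟩ := h
  haveI := finite_B hBC (N := N)
  haveI := finiteType_C (A := A) hBC
  haveI := hP
  haveI := hpo
  haveI : Algebra.IsPushout A A' B B' := hpo.symm
  let C' := A' ⊗[A] C
  letI : Algebra C C' := Algebra.TensorProduct.rightAlgebra
  haveI : Algebra.IsPushout A A' C C' := inferInstance
  have hpo' : Algebra.IsPushout A C A' C' := Algebra.IsPushout.symm inferInstance
  letI : Algebra B C' := ((algebraMap C C').comp (algebraMap B C)).toAlgebra
  haveI : IsScalarTower B C C' := IsScalarTower.of_algebraMap_eq fun _ => rfl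
  haveI : IsScalarTower A B C' := IsScalarTower.of_algebraMap_eq fun a => by
    rw [IsScalarTower.algebraMap_apply A C C', IsScalarTower.algebraMap_apply A B C]; rfl
  let ψ : B' →ₐ[A] C' := Algebra.pushoutDesc (R := A) (S := A') (R' := B) B'
    (IsScalarTower.toAlgHom A A' C') (IsScalarTower.toAlgHom A B C') fun x y => mul_comm _ _
  letI : Algebra B' C' := ψ.toRingHom.toAlgebra
  haveI : IsScalarTower B B' C' := IsScalarTower.of_algebraMap_eq fun x => by
    show algebraMap B C' x = ψ (algebraMap B B' x)
    rw [Algebra.pushoutDesc_right]; rfl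
  haveI : IsScalarTower A' B' C' := IsScalarTower.of_algebraMap_eq fun x => by
    show algebraMap A' C' x = ψ (algebraMap A' B' x)
    rw [Algebra.pushoutDesc_left]; rfl
  haveI : IsScalarTower A B' C' := IsScalarTower.of_algebraMap_eq fun x => (ψ.commutes x).symm
  haveI : Algebra.IsPushout B B' C C' :=
    (Algebra.IsPushout.comp_iff A B A' B').mp hpo' |>.symm
  obtain ⟨N'', _, _, _, _, g, hg⟩ : ∃ (N'' : Type u) (_ : AddCommGroup N'') (_ : Module C' N'')
      (_ : Module C N'') (_ : IsScalarTower C C' N'') (g : N →ₗ[C] N''), IsBaseChange C' g :=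
    ⟨C' ⊗[C] N, _, _, _, inferInstance, _, TensorProduct.isBaseChange C N C'⟩
  letI : Module B' N'' := Module.compHom N'' (algebraMap B' C')
  haveI : IsScalarTower B' C' N'' := IsScalarTower.of_algebraMap_smul fun _ _ => rfl
  letI : Module B N'' := Module.compHom N'' (algebraMap B C)
  haveI : IsScalarTower B C N'' := IsScalarTower.of_algebraMap_smul fun _ _ => rfl
  letI : Module A' N'' := Module.compHom N'' (algebraMap A' C')
  haveI : IsScalarTower A' C' N'' := IsScalarTower.of_algebraMap_smul fun _ _ => rfl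
  haveI : IsScalarTower B B' N'' := IsScalarTower.of_algebraMap_smul fun b x => by
    show algebraMap B' C' (algebraMap B B' b) • x = algebraMap B C b • x
    rw [← IsScalarTower.algebraMap_apply B B' C', IsScalarTower.algebraMap_apply B C C',
      algebraMap_smul]
  haveI : IsScalarTower A' B' N'' := IsScalarTower.of_algebraMap_smul fun a x => by
    show algebraMap B' C' (algebraMap A' B' a) • x = a • x
    rw [← IsScalarTower.algebraMap_apply, algebraMap_smul]
  haveI : Algebra.FiniteType A' C' := Algebra.FiniteType.equiv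
    (inferInstance : Algebra.FiniteType A' (A' ⊗[A] C)) (Algebra.IsPushout.equiv A A' C C')
  haveI : Module.Finite C' N'' := Module.Finite.equiv hg.equiv
  have hg' := isBaseChange_restrict (B := B) (B' := B') g hg
  let e : N' ≃ₗ[B'] N'' := hf.equiv.symm.trans hg'.equiv
  haveI : Algebra.FiniteType A' B' := Algebra.FiniteType.equiv
    (inferInstance : Algebra.FiniteType A' (A' ⊗[A] B)) (Algebra.IsPushout.equiv A A' B B')
  haveI : Module.Finite B' N' := Module.Finite.equiv hf.equiv
  have hA := assoc_of_equiv N' e (fun r x => e.toLinearMap.map_smul_of_tower r x)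
    ((assoc_iff N' t' P).1 hass)
  have hs := surjective_of_pushout (B' := B') (C' := C') hBC
  obtain ⟨hker, hprime, hA'⟩ := map_of_assoc N'' hA hs ‹t'.IsPrime›.one_notMem
  haveI := hprime
  have hc : (P.map (algebraMap B' C')).comap (algebraMap B' C') = P := by
    rw [Ideal.comap_map_of_surjective _ hs,
      sup_eq_left.2 (by rw [← RingHom.ker_eq_comap_bot]; exact hker)]
  haveI hP' : (P.map (algebraMap B' C')).LiesOver t' := ⟨by
    rw [hP.over, Ideal.under_def, Ideal.under_def, IsScalarTower.algebraMap_eq A' B' C',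
      ← Ideal.comap_comap, hc]⟩
  refine ⟨C', N'', _, _, _, _, inferInstance, inferInstance, _, _, _, inferInstance, _, inferInstance,
    g, P.map (algebraMap B' C'), hprime, hpo', hg, hle, hto, hP', (assoc_iff N'' t' _).2 hA',
    fun Q _ hPQ hQ => ?_⟩
  refine hno (Q.comap (algebraMap B' C')) (hc.ge.trans (Ideal.comap_mono hPQ)) ⟨?_⟩
  rw [hQ.over, Ideal.under_def, Ideal.under_def, Ideal.comap_comap, ← IsScalarTower.algebraMap_eq]

end

/-- For affine finite type schemes over Spec A: purity and universal purity along a fibre of a finite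
module are unchanged when the module is pushed forward along a closed immersion Spec C → Spec B (a
surjective algebra map B → C). -/
theorem result {A B C : Type u} [CommRing A] [CommRing B] [CommRing C] [Algebra A B] [Algebra B C] [Algebra A C] [IsScalarTower A B C] [Algebra.FiniteType A B] (hBC : Function.Surjective (algebraMap B C)) (N : Type u) [AddCommGroup N] [Module C N] [Module B N] [IsScalarTower B C N] [Module.Finite C N] (p : Ideal A) [p.IsPrime] : (FlatCA.IsPureAlong A C N p ↔ FlatCA.IsPureAlong A B N p) ∧ (FlatCA.IsUnivPureAlong A C N p ↔ FlatCA.IsUnivPureAlong A B N p) := by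
  refine ⟨⟨fun H A' B' N' _ _ _ _ _ _ _ _ _ _ _ _ _ _ f t' t _ _ P _ hn hi => ?_,
      fun H A' C' N' _ _ _ _ _ _ _ _ _ _ _ _ _ _ g t' t _ _ P _ hn hi => ?_⟩,
    ⟨fun H A' B' N' _ _ _ _ _ _ _ _ _ _ _ _ _ _ f t' t _ _ P _ hi => ?_,
      fun H A' C' N' _ _ _ _ _ _ _ _ _ _ _ _ _ _ g t' t _ _ P _ hi => ?_⟩⟩
  · obtain ⟨C', N'', _, _, _, _, _, _, _, _, _, _, _, _, g, P', _, h'⟩ := to_C hBC hi
    exact H A' C' N'' g t' t P' hn h'
  · obtain ⟨B', _, _, _, _, _, _, _, _, _, _, f, P', _, h'⟩ := to_B hBC hi
    exact H A' B' N' f t' t P' hn h'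
  · obtain ⟨C', N'', _, _, _, _, _, _, _, _, _, _, _, _, g, P', _, h'⟩ := to_C hBC hi
    exact H A' C' N'' g t' t P' h'
  · obtain ⟨B', _, _, _, _, _, _, _, _, _, _, f, P', _, h'⟩ := to_B hBC hi
    exact H A' B' N' f t' t P' h'

end Groth.Agent.S8999
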