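import Groth.Statements.S9000
import Groth.Agent.RGFlat.Impurity
import Groth.Agent.Hens.Unique

set_option autoImplicit false
set_option linter.style.haveILetI false
universe u
open FlatMor

namespace Groth.Agent.S9000

open IsLocalRing in
/-- For Spec B → Spec A of finite type, a finite B-module N and a prime p of A, an impurity of N above p
over an elementary etale neighbourhood of (A, p) yields an impurity of N above p over the
henselization of the local ring of A at p, based at its closed point. (The other implications of the
published equivalence are separate results: from the henselization to an elementary etale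
neighbourhood, and between elementary etale neighbourhoods and base rings quasi-finite at the
point.) -/
theorem result {A B : Type u} [CommRing A] [CommRing B] [Algebra A B] [Algebra.FiniteType A B] (N : Type u) [AddCommGroup N] [Module B N] [Module.Finite B N] (p : Ideal A) [p.IsPrime] (h : FlatCA.HasImpurity A B N p (fun A' _ _ t => ∃ _ : t.IsPrime, FlatCA.IsEtaleNhd A A' p t)) : FlatCA.HasImpurity A B N p (fun A' _ _ t => ∃ (_ : IsLocalRing A') (_ : Algebra (Localization.AtPrime p) A') (_ : IsScalarTower A (Localization.AtPrime p) A') (_ : IsLocalHom (algebraMap (Localization.AtPrime p) A')), Hensel.IsHenselization (Localization.AtPrime p) A' ∧ t = maximalIdeal A') := by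
  classical
  obtain ⟨A₁, B₁, N₁, _, _, _, _, _, _, _, _, _, _, _, _, _, _, f, t', t, _, _, P, _, himp, _, het, hover, hbij⟩ := h
  haveI := het
  haveI := hover
  let H := Groth.Agent.Hens.Henselization (Localization.AtPrime p)
  letI : Algebra A H := ((algebraMap (Localization.AtPrime p) H).comp
    (algebraMap A (Localization.AtPrime p))).toAlgebra
  haveI : IsScalarTower A (Localization.AtPrime p) H := IsScalarTower.of_algebraMap_eq fun _ => rfl
  obtain ⟨E, hE⟩ := Groth.Agent.Hens.exists_algEquiv_etLoc_atPrime (R := A) (p := p) H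
  let κe := AlgEquiv.ofBijective (Ideal.ResidueField.mapₐ p t (Algebra.ofId A A₁) hover.over) hbij
  let τ : A₁ →ₐ[A] p.ResidueField :=
    κe.symm.toAlgHom.comp (IsScalarTower.toAlgHom A A₁ t.ResidueField)
  obtain ⟨θ, hθ, -⟩ := Groth.Agent.Hens.existsUnique_algHom_etLoc τ
  let φ : A₁ →ₐ[A] H := E.toAlgHom.comp θ
  letI : Algebra A₁ H := φ.toRingHom.toAlgebra
  haveI : IsScalarTower A A₁ H := IsScalarTower.of_algebraMap_eq fun a => (φ.commutes a).symm
  haveI : Module.Flat A H := Module.Flat.of_linearEquiv E.toLinearEquiv.symm
  haveI : Module.Flat A₁ H := Algebra.FormallyUnramified.flat_of_restrictScalars A A₁ H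
  have hs : (maximalIdeal H).comap (algebraMap A₁ H) = t := by
    ext x
    rw [Ideal.mem_comap]
    show E (θ x) ∈ maximalIdeal H ↔ _
    rw [mem_maximalIdeal, mem_nonunits_iff, isUnit_map_iff, ← mem_nonunits_iff, ← mem_maximalIdeal,
      Groth.Agent.Hens.mem_maximalIdeal_iff_point]
    rw [show Groth.Agent.Hens.point A p.ResidueField (θ x) = τ x from AlgHom.congr_fun hθ x]
    show κe.symm (algebraMap A₁ t.ResidueField x) = 0 ↔ _
    rw [map_eq_zero_iff _ κe.symm.injective, Ideal.algebraMap_residueField_eq_zero]
  haveI : (maximalIdeal H).LiesOver t := ⟨hs.symm⟩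
  obtain ⟨s', hs'le, hs'p, hs'o⟩ :=
    Ideal.exists_ideal_le_liesOver_of_le (R := A₁) (maximalIdeal H) himp.2.2.1
  obtain ⟨B₂, N₂, i1, i2, i3, i4, i5, i6, i7, i8, i9, i10, i11, i12, g, P₂, i13, himp₂⟩ :=
    Groth.Agent.RGFlat.Impurity.exists_isImpurity_baseChange himp H s' (maximalIdeal H) hs'le
      hs'o.over.symm hs
  exact ⟨H, B₂, N₂, inferInstance, i1, inferInstance, i2, i3, i4, i5, i6, i7, i8, i9, i10, i11, i12,
    g, s', maximalIdeal H, hs'p, inferInstance, P₂, i13, himp₂, inferInstance, inferInstance,
    inferInstance, inferInstance, Groth.Agent.Hens.isHenselization_henselization, rfl⟩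

end Groth.Agent.S9000
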