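import Groth.Statements.S9001
import Groth.Agent.S6361
import Mathlib.RingTheory.Nakayama
import Mathlib.RingTheory.Finiteness.Basic
import Mathlib.LinearAlgebra.FiniteDimensional.Basic

set_option autoImplicit false
universe u
open FlatMor

namespace Groth.Agent.S9001

open IsLocalRing TensorProduct in
/-- Over a henselian local ring R with maximal ideal m, for an R-algebra S and an S-module N which is
countably generated and Mittag-Leffler as an R-module, every associated prime q of the S-module N
⊗_R M (M any R-module) satisfies q + mS ≠ S. (Associated primes are taken here in the sense of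
primes equal to the radical of the annihilator of some element, a larger set than the annihilators
of elements used in the published statement; the published argument goes through once the chosen
element of q is replaced by a suitable power of it, so the row states this slightly stronger form.) -/
theorem result {R S : Type u} [CommRing R] [HenselianLocalRing R] [CommRing S] [Algebra R S] (N : Type u) [AddCommGroup N] [Module S N] [Module R N] [IsScalarTower R S N] (hcg : CAlg.IsCountablyGenerated R N) (hML : CAlg.IsMittagLeffler R N) (M : Type u) [AddCommGroup M] [Module R M] (q : Ideal S) [q.IsPrime] (hq : q ∈ associatedPrimes S (N ⊗[R] M)) : q ⊔ (maximalIdeal R).map (algebraMap R S) ≠ ⊤ := by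
  classical
  intro htop
  obtain ⟨hp, x, hx⟩ := hq
  -- an element of `S` killing `x` and congruent to `1`
  obtain ⟨s, hsx, hs⟩ : ∃ s : S, s • x = 0 ∧ s - 1 ∈ (maximalIdeal R).map (algebraMap R S) := by
    obtain ⟨f, hf, y, hy, hfy⟩ := Submodule.mem_sup.1 ((Ideal.eq_top_iff_one _).1 htop)
    obtain ⟨k, hk⟩ := (hx ▸ hf : f ∈ ((⊥ : Submodule S (N ⊗[R] M)).colon {x}).radical)
    refine ⟨f ^ k, Submodule.mem_colon_singleton.1 hk, ?_⟩
    rw [← Ideal.Quotient.eq, map_pow, map_one,
      (show Ideal.Quotient.mk ((maximalIdeal R).map (algebraMap R S)) f = 1 by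
        rw [← map_one (Ideal.Quotient.mk ((maximalIdeal R).map (algebraMap R S))), Ideal.Quotient.eq,
          ← hfy, sub_add_cancel_left]
        exact neg_mem hy), one_pow]
  let g : N →ₗ[R] N := DistribSMul.toLinearMap R N s
  have hg : ∀ n : N, g n - n ∈ maximalIdeal R • (⊤ : Submodule R N) := by
    intro n
    have h1 : (s - 1) • n ∈ ((maximalIdeal R).map (algebraMap R S)) • (⊤ : Submodule S N) :=
      Submodule.smul_mem_smul hs Submodule.mem_top
    rw [← Submodule.restrictScalars_mem R, Submodule.restrictScalars_map_smul_eq,
      Submodule.restrictScalars_top, sub_smul, one_smul] at h1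
    exact h1
  have hgx : g.rTensor M x = 0 := by
    refine Eq.trans ?_ hsx
    clear hsx hx
    induction x using TensorProduct.induction_on with
    | zero => rw [map_zero, smul_zero]
    | tmul a b => rw [LinearMap.rTensor_tmul, TensorProduct.smul_tmul']; rfl
    | add a b ha hb => rw [map_add, smul_add, ha, hb]
  obtain ⟨t, ht⟩ := TensorProduct.exists_finset x
  let P := Submodule.span R ((t.image fun i => i.1 : Finset N) : Set N)
  have : Module.Finite R P := Module.Finite.span_of_finite R (Finset.finite_toSet _)
  obtain ⟨Q, _, _, _, b, c, hbc⟩ := S6361.result R N hML hcg P.subtype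
  have hfix : ∀ i ∈ t, c (b i.1) = i.1 := fun i hi =>
    LinearMap.congr_fun hbc ⟨i.1, Submodule.subset_span (Finset.mem_image_of_mem _ hi)⟩
  let u : Q →ₗ[R] Q := b ∘ₗ g ∘ₗ c + (LinearMap.id - b ∘ₗ c)
  have hu : ∀ z : Q, u z - z ∈ maximalIdeal R • (⊤ : Submodule R Q) := by
    intro z
    have h1 : u z - z = b (g (c z) - c z) := by simp [u]; abel
    rw [h1]
    have h2 := Submodule.mem_map_of_mem (f := b) (hg (c z))
    rw [Submodule.map_smul''] at h2
    exact Submodule.smul_mono le_rfl le_top h2
  have husurj : Function.Surjective u := by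
    rw [← LinearMap.range_eq_top, eq_top_iff]
    refine Submodule.le_of_le_smul_of_le_jacobson_bot Module.Finite.fg_top
      (IsLocalRing.maximalIdeal_le_jacobson ⊥) fun z _ => ?_
    rw [show z = u z + -(u z - z) by abel]
    exact Submodule.add_mem_sup ⟨z, rfl⟩ (neg_mem (hu z))
  let e := LinearEquiv.ofBijective u ⟨OrzechProperty.injective_of_surjective_endomorphism u husurj, husurj⟩
  have hcx : c.rTensor M (b.rTensor M x) = x := by
    rw [ht, map_sum, map_sum]
    exact Finset.sum_congr rfl fun i hi => by
      rw [LinearMap.rTensor_tmul, LinearMap.rTensor_tmul, hfix i hi]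
  have hbx : u.rTensor M (b.rTensor M x) = 0 := by
    simp only [u, LinearMap.rTensor_add, LinearMap.rTensor_sub, LinearMap.rTensor_comp,
      LinearMap.rTensor_id, LinearMap.add_apply, LinearMap.sub_apply, LinearMap.comp_apply,
      LinearMap.id_apply, hcx, hgx, map_zero, sub_self, add_zero]
  have hb0 : b.rTensor M x = 0 := by
    apply (e.rTensor M).injective
    rw [map_zero]
    exact hbx
  have hx0 : x = 0 := by rw [← hcx, hb0, map_zero]
  apply hp.ne_top
  rw [hx, hx0, Ideal.radical_eq_top, Ideal.eq_top_iff_one, Submodule.mem_colon_singleton, smul_zero]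
  exact zero_mem _

end Groth.Agent.S9001
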