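import Groth.Statements.S9002
import Groth.Agent.FlatMor62.RelAssFlat

set_option autoImplicit false
universe u
open FlatMor

namespace Groth.Agent.S9002

open CategoryTheory CategoryTheory.Limits AlgebraicGeometry in
/-- Over the spectrum of a local ring, a finite type quasi-coherent module on a scheme locally of finite
type, all of whose relative associated points specialize into the closed fibre and which is flat
over the base at every point of the closed fibre, is flat over the base. -/
theorem result {R : Type u} [CommRing R] [IsLocalRing R] {X : Scheme.{u}} (f : X ⟶ Spec (CommRingCat.of R)) [LocallyOfFiniteType f] (F : X.Modules) [Coh.IsQCoh F] (hF : CohB1.IsFT F) (h₁ : ∀ x ∈ MoreMor.relAss f F, ∃ x' : X, x ⤳ x' ∧ f.base x' = IsLocalRing.closedPoint R) (h₂ : ∀ x : X, f.base x = IsLocalRing.closedPoint R → FlatMod.IsFlatOverAt f F x) : FlatMod.IsFlatOver f F := by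
  haveI : F.IsQuasicoherent := ‹Coh.IsQCoh F›
  intro x
  refine Groth.Agent.FlatMor62.RelAssFlat.flatOverAt_of_relAss f F hF x fun y _ _ hy => ?_
  obtain ⟨x', hx', hc⟩ := h₁ y hy
  exact Groth.Agent.FlatMor62.RelAssFlat.flatOverAt_of_specializes f F hx' (h₂ x' hc)

end Groth.Agent.S9002
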