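import Groth.Statements.S9005
import Groth.Agent.RGFlat.PureFlat

set_option autoImplicit false
universe u
open FlatMor TensorProduct

attribute [local instance] Algebra.TensorProduct.rightAlgebra

namespace Groth.Agent.S9005

/-- For an affine finite type morphism Spec B → Spec A: a finite B-module which is projective as an
A-module is universally pure over Spec A. (The published statement allows any base scheme S and asks
the direct image to be locally projective; over an affine base a projective module gives such a
direct image, so this row is that case.) -/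
theorem result {A B : Type u} [CommRing A] [CommRing B] [Algebra A B] [Algebra.FiniteType A B] (N : Type u) [AddCommGroup N] [Module B N] [Module A N] [IsScalarTower A B N] [Module.Finite B N] [Module.Projective A N] : FlatCA.IsUnivPure A B N := by
  intro p _ A₁ B₁ N₁ _ _ _ _ _ _ _ _ _ _ _ _ _ _ f t' t _ _ P _ himp
  obtain ⟨-, -, htt, -⟩ := id himp
  let π := Ideal.Quotient.mk t'
  let sb := t.map π
  have hsb : sb.comap π = t := by
    rw [Ideal.comap_map_of_surjective π Ideal.Quotient.mk_surjective, ← RingHom.ker_eq_comap_bot, Ideal.mk_ker,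
      sup_eq_left.mpr htt]
  haveI : sb.IsPrime := Ideal.map_isPrime_of_surjective Ideal.Quotient.mk_surjective (by rw [Ideal.mk_ker]; exact htt)
  let T := Localization.AtPrime sb
  haveI : IsDomain T := IsLocalization.isDomain_localization sb.primeCompl_le_nonZeroDivisors
  have hbot : (⊥ : Ideal T).comap (algebraMap A₁ T) = t' := by
    rw [IsScalarTower.algebraMap_eq A₁ (A₁ ⧸ t') T, ← Ideal.comap_comap,
      Ideal.comap_bot_of_injective _ (IsLocalization.injective T sb.primeCompl_le_nonZeroDivisors),
      Ideal.Quotient.algebraMap_eq, ← RingHom.ker_eq_comap_bot, Ideal.mk_ker]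
  have hmax : (IsLocalRing.maximalIdeal T).comap (algebraMap A₁ T) = t := by
    rw [IsScalarTower.algebraMap_eq A₁ (A₁ ⧸ t') T, ← Ideal.comap_comap, ← Ideal.under_def (A := A₁ ⧸ t'),
      IsLocalization.AtPrime.under_maximalIdeal T sb]
    exact hsb
  obtain ⟨B₂, N₂, _, _, _, _, _, _, _, _, _, _, _, _, g, P₂, _, himp₂⟩ :=
    RGFlat.Impurity.exists_isImpurity_baseChange himp T (⊥ : Ideal T) (IsLocalRing.maximalIdeal T) bot_le hbot hmax
  obtain ⟨hpush, hbc, -, -, hP₂, hass, hno⟩ := himp₂
  haveI := hP₂
  haveI : Algebra.IsPushout A T B B₂ := hpush.symm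
  haveI : Algebra.FiniteType T B₂ :=
    Algebra.FiniteType.equiv (inferInstance : Algebra.FiniteType T (T ⊗[A] B)) (Algebra.IsPushout.equiv A T B B₂)
  haveI : Module.Finite B₂ N₂ := Module.Finite.equiv hbc.equiv
  haveI : Module.Projective T N₂ := Module.Projective.of_equiv
    ((Algebra.IsPushout.cancelBaseChange A T B B₂ N).symm ≪≫ₗ hbc.equiv.restrictScalars T)
  have h1 : ∀ x : Submonoid.powers (1 : B₂), x = 1 := fun x => Subtype.ext (by
    obtain ⟨k, hk⟩ := x.2; simp [← hk])
  haveI : Module.Projective T (LocalizedModule (Submonoid.powers (1 : B₂)) N₂) := by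
    refine Module.Projective.of_equiv (LinearEquiv.ofBijective
      ((LocalizedModule.mkLinearMap (Submonoid.powers (1 : B₂)) N₂).restrictScalars T) ⟨fun a b h => ?_, fun z => ?_⟩)
    · obtain ⟨c, hc⟩ := (IsLocalizedModule.eq_iff_exists (Submonoid.powers (1 : B₂))
        (LocalizedModule.mkLinearMap (Submonoid.powers (1 : B₂)) N₂)).mp h
      rwa [h1 c, one_smul, one_smul] at hc
    · obtain ⟨⟨m, c⟩, hc⟩ := IsLocalizedModule.surj (Submonoid.powers (1 : B₂))
        (LocalizedModule.mkLinearMap (Submonoid.powers (1 : B₂)) N₂) z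
      rw [h1 c, one_smul] at hc
      exact ⟨m, hc.symm⟩
  obtain ⟨Q, hQ, hPQ, hQm⟩ := RGFlat.Impurity.exists_above_of_projective (1 : B₂) P₂
    (fun h => (inferInstance : P₂.IsPrime).ne_top ((Ideal.eq_top_iff_one _).mpr h)) hass
  haveI := hQ
  exact hno Q hPQ hQm

end Groth.Agent.S9005
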