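import Groth.Statements.S9007
-- import your own Groth.Agent.* helpers here

set_option autoImplicit false
universe u
open FlatMor

namespace Groth.Agent.S9007

open CategoryTheory CategoryTheory.Limits AlgebraicGeometry in
/-- For a morphism f of compactifications of X over a quasi-compact quasi-separated S whose source
contains X as a dense open, the preimage under f of the image of X in the target is the image of X
in the source. -/
theorem result {X S : Scheme.{u}} [CompactSpace S] [QuasiSeparatedSpace S] (p : X ⟶ S) [IsSeparated p] [QuasiCompact p] [LocallyOfFiniteType p] {Y Y' : Scheme.{u}} (j : X ⟶ Y) (q : Y ⟶ S) [IsOpenImmersion j] [IsProper q] (h : j ≫ q = p) (j' : X ⟶ Y') (q' : Y' ⟶ S) [IsOpenImmersion j'] [IsProper q'] (h' : j' ≫ q' = p) (f : Y' ⟶ Y) (hf : f ≫ q = q') (hfj : j' ≫ f = j) (hd : Dense (Set.range j'.base)) : f ⁻¹ᵁ j.opensRange = j'.opensRange := by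
  have : IsSeparated q' := inferInstance
  have hsep : IsSeparated (f ≫ q) := hf ▸ this
  have : IsSeparated f := IsSeparated.of_comp f q
  set U := j.opensRange with hU
  have hle : j'.opensRange ≤ f ⁻¹ᵁ U := by
    rintro _ ⟨x, rfl⟩
    change f (j' x) ∈ Set.range j
    rw [← Scheme.Hom.comp_apply, hfj]
    exact ⟨x, rfl⟩
  let σ : X ⟶ (f ⁻¹ᵁ U).toScheme := IsOpenImmersion.lift (f ⁻¹ᵁ U).ι j' (by
    rw [Scheme.Opens.range_ι]
    exact hle)
  have hσ : σ ≫ (f ⁻¹ᵁ U).ι = j' := IsOpenImmersion.lift_fac _ _ _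
  let g : (f ⁻¹ᵁ U).toScheme ⟶ X := (f ∣_ U) ≫ j.isoOpensRange.inv
  have hg : σ ≫ g = 𝟙 X := by
    rw [← cancel_mono j]
    simp only [g, Category.assoc, Category.id_comp, Scheme.Hom.isoOpensRange_inv_comp]
    erw [morphismRestrict_ι, reassoc_of% hσ]
    exact hfj
  have : IsClosedImmersion (σ ≫ g) := by rw [hg]; infer_instance
  have : IsClosedImmersion σ := IsClosedImmersion.of_comp σ g
  refine le_antisymm ?_ hle
  intro y hy
  obtain ⟨C, hC, hCσ⟩ := isClosed_induced_iff.mp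
    ((f ⁻¹ᵁ U).ι.isOpenEmbedding.isInducing.eq_induced ▸ σ.isClosedEmbedding.isClosed_range)
  have hjC : Set.range j'.base ⊆ C := by
    rintro _ ⟨x, rfl⟩
    have : σ x ∈ (f ⁻¹ᵁ U).ι ⁻¹' C := hCσ ▸ ⟨x, rfl⟩
    rw [← hσ]
    exact this
  have hCuniv : C = Set.univ := by
    rw [← hC.closure_eq]
    exact (hd.mono hjC).closure_eq
  have : (⟨y, hy⟩ : f ⁻¹ᵁ U) ∈ Set.range σ := hCσ ▸ (hCuniv ▸ Set.mem_univ _)
  obtain ⟨x, hx⟩ := this
  exact ⟨x, by rw [← hσ, Scheme.Hom.comp_apply, hx]; rfl⟩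

end Groth.Agent.S9007
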