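import Groth.Statements.S9008
-- import your own Groth.Agent.* helpers here

set_option autoImplicit false
universe u
open FlatMor

namespace Groth.Agent.S9008

/-- For Spec B → Spec A affine of finite type: a finite B-module is universally pure along the fibre
over a prime p of A exactly when every base change of it along a ring map A → A' is pure along the
fibre over every prime of A' above p. -/
theorem result {A B : Type u} [CommRing A] [CommRing B] [Algebra A B] [Algebra.FiniteType A B] (N : Type u) [AddCommGroup N] [Module B N] [Module.Finite B N] (p : Ideal A) [p.IsPrime] : FlatCA.IsUnivPureAlong A B N p ↔ ∀ (A' B' N' : Type u) [CommRing A'] [CommRing B'] [Algebra A A'] [Algebra B B'] [Algebra A' B'] [Algebra A B'] [IsScalarTower A B B'] [IsScalarTower A A' B'] [Algebra.IsPushout A B A' B'] [AddCommGroup N'] [Module B' N'] [Module B N'] [IsScalarTower B B' N'] (g : N →ₗ[B] N'), IsBaseChange B' g → ∀ (p' : Ideal A') [p'.IsPrime], p'.LiesOver p → FlatCA.IsPureAlong A' B' N' p' := by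
  constructor
  · intro H A' B' N' _ _ _ _ _ _ _ _ _ _ _ _ _ g hg p' _ hp' A'' B'' N'' _ _ _ _ _ _ _ _ _ _ _ _ _ _ f
      t' t _ _ P _ _ himp
    obtain ⟨hpo, hf, hle, hto, hPt, hass, hno⟩ := himp
    let _ : Algebra A A'' := ((algebraMap A' A'').comp (algebraMap A A')).toAlgebra
    let _ : Algebra B B'' := ((algebraMap B' B'').comp (algebraMap B B')).toAlgebra
    let _ : Algebra A B'' := ((algebraMap A' B'').comp (algebraMap A A')).toAlgebra
    have : IsScalarTower A A' A'' := IsScalarTower.of_algebraMap_eq' rfl
    have : IsScalarTower A A' B'' := IsScalarTower.of_algebraMap_eq' rfl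
    have : IsScalarTower B B' B'' := IsScalarTower.of_algebraMap_eq' rfl
    have : IsScalarTower A A'' B'' := IsScalarTower.of_algebraMap_eq fun x ↦ by
      rw [IsScalarTower.algebraMap_apply A A' B'', IsScalarTower.algebraMap_apply A A' A'',
        ← IsScalarTower.algebraMap_apply A' A'' B'']
    have : IsScalarTower A B' B'' := IsScalarTower.of_algebraMap_eq fun x ↦ by
      rw [IsScalarTower.algebraMap_apply A A' B'', IsScalarTower.algebraMap_apply A A' B',
        ← IsScalarTower.algebraMap_apply A' B' B'']
    have : IsScalarTower A B B'' := IsScalarTower.of_algebraMap_eq fun x ↦ by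
      rw [IsScalarTower.algebraMap_apply A B' B'', IsScalarTower.algebraMap_apply A B B',
        ← IsScalarTower.algebraMap_apply B B' B'']
    let _ : Module B N'' := Module.compHom N'' (algebraMap B B'')
    have : IsScalarTower B B'' N'' := ⟨fun b c n ↦ by
      rw [Algebra.smul_def, mul_smul]; rfl⟩
    have : IsScalarTower B B' N'' := ⟨fun b c n ↦ by
      rw [Algebra.smul_def, mul_smul, ← algebraMap_smul B'' (algebraMap B B' b),
        ← IsScalarTower.algebraMap_apply B B' B'']
      rfl⟩
    have hA : Algebra.IsPushout A A' B B' :=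
      Algebra.IsPushout.symm (‹Algebra.IsPushout A B A' B'›)
    have hcomp : Algebra.IsPushout A A'' B B'' :=
      (Algebra.IsPushout.comp_iff A A' B B').mpr (Algebra.IsPushout.symm hpo)
    refine H A'' B'' N'' ((f.restrictScalars B).comp g) t' t P ⟨hcomp.symm,
      IsBaseChange.comp hg hf, hle, ?_, hPt, hass, hno⟩
    have := hto
    have := hp'
    exact Ideal.LiesOver.trans t p' p
  · intro H A' B' N' _ _ _ _ _ _ _ _ _ _ _ _ _ _ f t' t _ _ P _ himp
    obtain ⟨hpo, hf, hle, hto, hPt, hass, hno⟩ := himp
    have := hpo
    refine H A' B' N' f hf t hto A' B' N' LinearMap.id t' t P ⟨inferInstance, ?_, ?_⟩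
      ⟨?_, ?_, hle, ⟨by rw [Ideal.under_def, Algebra.algebraMap_self, Ideal.comap_id]⟩,
        hPt, hass, hno⟩
    · exact ⟨by rw [Ideal.under_def, Algebra.algebraMap_self, Ideal.comap_id]⟩
    · have key : ∀ h, (Ideal.ResidueField.mapₐ t t (Algebra.ofId A' A') h) =
          AlgHom.id A' t.ResidueField := fun h ↦ Ideal.ResidueField.algHom_ext (AlgHom.ext fun x ↦ by
            simp)
      rw [key]
      exact Function.bijective_id
    · infer_instance
    · exact IsBaseChange.ofEquiv (LinearEquiv.refl B' N')

end Groth.Agent.S9008
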