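import Groth.Statements.S9009
import Groth.Agent.HP.FiberOpen
import Groth.Agent.FlatMor62.RelAssFlat
import Groth.Agent.AlgSpD.RelDim
import Groth.Agent.QCoh.FiniteType
import Mathlib.RingTheory.Spectrum.Prime.RingHom

set_option autoImplicit false
universe u
open FlatMor

namespace Groth.Agent.S9009

section
open CategoryTheory CategoryTheory.Limits AlgebraicGeometry Topology
open Groth.Agent.AssSch.Stalk

namespace Groth.Agent.NonFlatDim88

set_option maxHeartbeats 800000 in
/-- The flat locus is open in each fibre. -/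
theorem exists_open_flat {X S : Scheme.{u}} (f : X ⟶ S) [LocallyOfFiniteType f] (F : X.Modules)
    [F.IsQuasicoherent] (hF : CohB1.IsFT F) (x : X) (hfl : FlatMod.IsFlatOverAt f F x) :
    ∃ W : Set X, IsOpen W ∧ x ∈ W ∧ ∀ y ∈ W, f y = f x → FlatMod.IsFlatOverAt f F y := by
  obtain ⟨_, ⟨V, hV, rfl⟩, hfx, -⟩ := S.isBasis_affineOpens.exists_subset_of_mem_open
    (Set.mem_univ (f x)) isOpen_univ
  obtain ⟨_, ⟨U, hU, rfl⟩, hx, hUV⟩ := X.isBasis_affineOpens.exists_subset_of_mem_open
    (show x ∈ (f ⁻¹ᵁ V : Set X) from hfx) (f ⁻¹ᵁ V).2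
  have e : U ≤ f ⁻¹ᵁ V := hUV
  letI := (f.appLE V U e).hom.toAlgebra
  letI : Module Γ(S, V) Γ(F, U) := Module.compHom _ (f.appLE V U e).hom
  haveI : IsScalarTower Γ(S, V) Γ(X, U) Γ(F, U) := IsScalarTower.of_algebraMap_smul fun _ _ => rfl
  haveI : Algebra.FiniteType Γ(S, V) Γ(X, U) := f.finiteType_appLE hV hU e
  haveI : Module.Finite Γ(X, U) Γ(F, U) := @QCoh.finite_sections_of_isFiniteType _ F _ hF _ hU
  let p := primeOf hV (f x) (e hx)
  let P : PrimeSpectrum Γ(S, V) := ⟨p, inferInstance⟩
  let h := PrimeSpectrum.preimageHomeomorphFiber Γ(S, V) Γ(X, U) P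
  have hop := (HP.isOpen_flatLocus (R := Γ(S, V)) (S := Γ(X, U)) Γ(F, U) p).preimage h.continuous
  obtain ⟨O, hO, hOeq⟩ := isOpen_induced_iff.1 hop
  have hmem : ∀ (y : X) (hy : y ∈ U), f y = f x →
      (hU.primeIdealOf ⟨y, hy⟩ ∈ O ↔ FlatMod.IsFlatOverAt f F y) := by
    intro y hy hfy
    have hp : PrimeSpectrum.comap (algebraMap Γ(S, V) Γ(X, U)) (hU.primeIdealOf ⟨y, hy⟩) = P := by
      refine PrimeSpectrum.ext ?_
      refine (Wt.RelAssRing.comap_primeOf f hV hU e y hy).trans ?_
      exact congrArg PrimeSpectrum.asIdeal (congrArg hV.primeIdealOf (Subtype.ext hfy))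
    have := Set.ext_iff.1 hOeq ⟨hU.primeIdealOf ⟨y, hy⟩, hp⟩
    refine this.trans ?_
    rw [Set.mem_preimage, Set.mem_ofPred_eq, FlatOpen.Scheme.isFlatOverAt_iff f hV hU e y hy F]
    have hid : ((h ⟨hU.primeIdealOf ⟨y, hy⟩, hp⟩).asIdeal.comap (Algebra.TensorProduct.includeRight
        (R := Γ(S, V)) (A := p.ResidueField) (B := Γ(X, U))).toRingHom) = primeOf hU y hy :=
      congrArg PrimeSpectrum.asIdeal
        (congrArg Subtype.val (h.symm_apply_apply ⟨hU.primeIdealOf ⟨y, hy⟩, hp⟩))
    exact ⟨fun hh => FlatOpen.flatAt_congr hid.symm hh, fun hh => FlatOpen.flatAt_congr hid hh⟩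
  haveI := hU.isOpenImmersion_fromSpec
  refine ⟨hU.fromSpec '' O, hU.fromSpec.isOpenEmbedding.isOpenMap _ hO,
    ⟨_, (hmem x hx rfl).2 hfl, hU.fromSpec_primeIdealOf _⟩, ?_⟩
  rintro _ ⟨q, hq, rfl⟩ hfy
  have hy : hU.fromSpec q ∈ U := hU.range_fromSpec.subset ⟨q, rfl⟩
  refine (hmem _ hy hfy).1 ?_
  rwa [hU.fromSpec.isOpenEmbedding.injective (hU.fromSpec_primeIdealOf ⟨_, hy⟩)]

/-- dimension of a subset closed in a scheme in terms of heights of its points -/
theorem krullDim_lt_iff {Y : Scheme.{u}} {Z : Set Y} (hZ : IsClosed Z) (n : ℕ) :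
    topologicalKrullDim Z < n ↔ ∀ z ∈ Z, Order.height z < n := by
  haveI : QuasiSober Z := hZ.isClosedEmbedding_subtypeVal.quasiSober
  have e : topologicalKrullDim Z = Order.krullDim Z := by
    let φ : TopologicalSpace.IrreducibleCloseds Z ≃o Z := ⟨irreducibleSetEquivPoints.toEquiv, fun {a b} =>
      (subtype_specializes_iff _ _).symm.trans irreducibleSetEquivPoints.map_rel_iff⟩
    exact Order.krullDim_eq_of_orderIso φ
  have hlt : ∀ a b : Z, a < b ↔ (a : Y) < (b : Y) := fun a b => Iff.rfl
  rw [e, ← not_le, Order.le_krullDim_iff]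
  constructor
  · intro h z hz
    by_contra hc
    obtain ⟨l, hl, hlen⟩ := Order.exists_series_of_le_height z (not_lt.1 hc)
    refine h ⟨⟨l.length, fun i => ⟨l i, ?_⟩, fun i => (hlt _ _).2 (l.step i)⟩, hlen⟩
    have : l i ≤ z := hl ▸ l.monotone (Fin.le_last i)
    exact (show z ⤳ l i from this).mem_closed hZ hz
  · rintro h ⟨l, hlen⟩
    let l' : LTSeries Y := ⟨l.length, fun i => (l i : Y), fun i => (hlt _ _).1 (l.step i)⟩
    have h1 := Order.length_le_height (p := l') (x := (l.last : Y)) le_rfl
    have h2 : l'.length = n := hlen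
    rw [h2] at h1
    exact absurd (h _ l.last.2) (not_lt.2 h1)

end Groth.Agent.NonFlatDim88

end

open CategoryTheory CategoryTheory.Limits AlgebraicGeometry in
/-- For f : X → S locally of finite type and a finite type quasi-coherent O_X-module F, the non-flat
locus of F in every fibre has dimension less than n if and only if every point where F is not flat
over S has residue field of transcendence degree less than n over the residue field of its image.
(The non-flat locus of the fibre over s is taken with the subspace topology from X, which is that of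
the fibre. The published statement adds that when these conditions hold they continue to hold after
any base change S' → S; this row states only the equivalence.) -/
theorem result {X S : Scheme.{u}} (f : X ⟶ S) [LocallyOfFiniteType f] (F : X.Modules) [Coh.IsQCoh F] (hF : CohB1.IsFT F) (n : ℕ) : (∀ s : S, topologicalKrullDim {x : X // f.base x = s ∧ ¬ FlatMod.IsFlatOverAt f F x} < n) ↔ ∀ x : X, ¬ FlatMod.IsFlatOverAt f F x → ∀ [Algebra (S.residueField (f.base x)) (X.residueField x)], algebraMap (S.residueField (f.base x)) (X.residueField x) = (f.residueFieldMap x).hom → Algebra.trdeg (S.residueField (f.base x)) (X.residueField x) < n := by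
  classical
  have key : ∀ (x : X) [Algebra (S.residueField (f.base x)) (X.residueField x)],
      algebraMap (S.residueField (f.base x)) (X.residueField x) = (f.residueFieldMap x).hom →
      (Algebra.trdeg (S.residueField (f.base x)) (X.residueField x) < n ↔
        Order.height (f.asFiber x) < n) := by
    intro x i hi
    obtain ⟨c, m, hm, hh, -, -⟩ := Groth.Agent.AlgSpD.exists_fibre_dims f x
    have hi' : i = (f.residueFieldMap x).hom.toAlgebra := Algebra.algebra_ext _ _ fun r =>
      RingHom.congr_fun hi r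
    subst hi'
    rw [hh]
    refine Iff.trans (Iff.of_eq (congrArg (· < (n : Cardinal.{u})) hm)) ?_
    exact_mod_cast Iff.rfl
  have hclosed : ∀ s : S, IsClosed ((f.fiberι s) ⁻¹' {x | ¬ FlatMod.IsFlatOverAt f F x}) := by
    intro s
    rw [← isOpen_compl_iff, isOpen_iff_forall_mem_open]
    intro z hz
    have hfz : ∀ w, f (f.fiberι s w) = s := fun w => by
      have : f.fiberι s w ∈ Set.range (f.fiberι s) := ⟨w, rfl⟩
      rwa [f.range_fiberι] at this
    obtain ⟨W, hW, hzW, hWfl⟩ := Groth.Agent.NonFlatDim88.exists_open_flat f F hF (f.fiberι s z)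
      (not_not.1 hz)
    exact ⟨f.fiberι s ⁻¹' W, fun w hw hn => hn (hWfl _ hw (by rw [hfz, hfz])),
      hW.preimage (f.fiberι s).continuous, hzW⟩
  have hdim : ∀ s : S, topologicalKrullDim {x : X // f.base x = s ∧ ¬ FlatMod.IsFlatOverAt f F x} < n ↔
      ∀ z : f.fiber s, ¬ FlatMod.IsFlatOverAt f F (f.fiberι s z) → Order.height z < n := by
    intro s
    have := Groth.Agent.NonFlatDim88.krullDim_lt_iff (hclosed s) n
    refine Iff.trans (Iff.of_eq (congrArg (· < (n : WithBot ℕ∞)) ?_)) this
    let e : ((f.fiberι s) ⁻¹' {x | ¬ FlatMod.IsFlatOverAt f F x} : Set (f.fiber s)) →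
        {x : X // f.base x = s ∧ ¬ FlatMod.IsFlatOverAt f F x} := fun z =>
      ⟨f.fiberι s z, by
        have : f.fiberι s z.1 ∈ Set.range (f.fiberι s) := ⟨z.1, rfl⟩
        rw [f.range_fiberι] at this
        exact this, z.2⟩
    have he : IsHomeomorph e := by
      rw [isHomeomorph_iff_isEmbedding_surjective]
      refine ⟨Topology.IsEmbedding.of_comp
        (((f.fiberι s).continuous.comp continuous_subtype_val).subtype_mk _) continuous_subtype_val
        ((f.fiberι s).isEmbedding.comp Topology.IsEmbedding.subtypeVal), ?_⟩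
      rintro ⟨x, hx, hn⟩
      obtain ⟨z, rfl⟩ : x ∈ Set.range (f.fiberι s) := by rw [f.range_fiberι]; exact hx
      exact ⟨⟨z, hn⟩, rfl⟩
    exact (he.topologicalKrullDim_eq e).symm
  constructor
  · intro h x hx i hi
    rw [key x hi]
    exact (hdim _).1 (h _) (f.asFiber x) (by rwa [f.fiberι_asFiber])
  · intro h s
    rw [hdim s]
    intro z hz
    have hfz : f (f.fiberι s z) = s := by
      have : f.fiberι s z ∈ Set.range (f.fiberι s) := ⟨z, rfl⟩
      rwa [f.range_fiberι] at this
    generalize hx : f.fiberι s z = x at hfz hz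
    subst hfz
    have hzx : f.asFiber x = z := (f.fiberι _).isEmbedding.injective ((f.fiberι_asFiber x).trans hx.symm)
    rw [← hzx]
    letI := (f.residueFieldMap x).hom.toAlgebra
    exact (key x rfl).1 (h x hz rfl)

end Groth.Agent.S9009
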