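import Groth.Statements.S9011
import Groth.Agent.Content.UnivInj
import Mathlib.LinearAlgebra.TensorProduct.Quotient
import Mathlib.RingTheory.Localization.BaseChange
import Mathlib.RingTheory.LocalRing.ResidueField.Instances

set_option autoImplicit false
universe u
open FlatMor

namespace Groth.Agent.S9011

open IsLocalRing in
/-- For a local ring R with maximal ideal m, an R-algebra S with S/mS Noetherian and an S-module N with
N/mN finite over S/mS which is projective as an R-module, every element of S that is a
nonzerodivisor on N/mN acts R-universally injectively on N, and the map from N to its localization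
at all such elements is R-universally injective. -/
theorem result {R S : Type u} [CommRing R] [IsLocalRing R] [CommRing S] [Algebra R S] (N : Type u) [AddCommGroup N] [Module S N] [Module R N] [IsScalarTower R S N] [IsNoetherianRing ((maximalIdeal R).Fiber S)] [Module.Finite ((maximalIdeal R).Fiber S) (FlatCA.fiberMod (maximalIdeal R) S N)] [Module.Projective R N] : (∀ s ∈ FlatCA.nzdFiber R S N, FlatCA.UnivInj R ((LinearMap.lsmul S N s).restrictScalars R)) ∧ FlatCA.UnivInj R ((LocalizedModule.mkLinearMap (FlatCA.nzdFiber R S N) N).restrictScalars R) := by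
  have key : ∀ s ∈ FlatCA.nzdFiber R S N, ∀ (m : Ideal R) [m.IsMaximal],
      Function.Injective (((LinearMap.lsmul S N s).restrictScalars R).lTensor (R ⧸ m)) := by
    intro s hs m _
    obtain rfl : m = maximalIdeal R := IsLocalRing.eq_maximalIdeal ‹_›
    let I := maximalIdeal R
    letI := Algebra.TensorProduct.rightAlgebra (R := R) (A := I.ResidueField) (B := S)
    let e := Algebra.IsPushout.cancelBaseChange R I.ResidueField S (I.Fiber S) N
    let ι : (R ⧸ I) ≃ₗ[R] I.ResidueField :=
      LinearEquiv.ofBijective (IsScalarTower.toAlgHom R (R ⧸ I) I.ResidueField).toLinearMap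
        I.bijective_algebraMap_quotient_residueField
    have hι : ι (Ideal.Quotient.mk I 1) = 1 := by
      show algebraMap (R ⧸ I) I.ResidueField 1 = 1
      exact map_one _
    have he : ∀ y : N, e ((FlatCA.toFiberMod I S N) y) = (1 : I.ResidueField) ⊗ₜ[R] y := by
      intro y
      rw [← LinearEquiv.eq_symm_apply]
      simp [e, FlatCA.toFiberMod]
      rfl
    rw [injective_iff_map_eq_zero]
    intro z hz
    obtain ⟨y, rfl⟩ : ∃ y, Ideal.Quotient.mk I 1 ⊗ₜ[R] y = z := by
      obtain ⟨y, hy⟩ := Submodule.Quotient.mk_surjective _ (TensorProduct.quotTensorEquivQuotSMul N I z)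
      refine ⟨y, (TensorProduct.quotTensorEquivQuotSMul N I).injective ?_⟩
      rw [← hy]
      simp
    have h1 : (1 : I.ResidueField) ⊗ₜ[R] (s • y) = 0 := by
      have := congrArg (TensorProduct.congr ι (LinearEquiv.refl R N)) hz
      rw [map_zero, LinearMap.lTensor_tmul, TensorProduct.congr_tmul, hι] at this
      exact this
    have h2 : s • FlatCA.toFiberMod I S N y = 0 := by
      rw [← map_smul]
      exact e.injective ((he _).trans (h1.trans (map_zero e).symm))
    have h3 : FlatCA.toFiberMod I S N y = 0 := mem_nonZeroSMulDivisors_iff.mp hs _ h2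
    apply (TensorProduct.congr ι (LinearEquiv.refl R N)).injective
    rw [map_zero, TensorProduct.congr_tmul, hι, LinearEquiv.refl_apply, ← he, h3]
    exact map_zero e
  have hu : ∀ s ∈ FlatCA.nzdFiber R S N, FlatCA.UnivInj R ((LinearMap.lsmul S N s).restrictScalars R) := by
    intro s hs Q _ _
    intro a b hab
    apply (TensorProduct.comm R Q N).injective
    refine Content.univInj_of_projective _ (key s hs) Q ?_
    have h4 : ∀ w, ((LinearMap.lsmul S N s).restrictScalars R).rTensor Q (TensorProduct.comm R Q N w) =
        TensorProduct.comm R Q N (((LinearMap.lsmul S N s).restrictScalars R).lTensor Q w) := by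
      intro w
      induction w using TensorProduct.induction_on with
      | zero => simp
      | tmul q n => simp
      | add a b ha hb => simp only [map_add, ha, hb]
    rw [h4, h4, hab]
  refine ⟨hu, fun Q _ _ => ?_⟩
  rw [injective_iff_map_eq_zero]
  intro z hz
  let f := LocalizedModule.mkLinearMap (FlatCA.nzdFiber R S N) N
  have h5 : TensorProduct.AlgebraTensorModule.rTensor R Q f (TensorProduct.comm R Q N z) = 0 := by
    have h4 : ∀ w, TensorProduct.AlgebraTensorModule.rTensor R Q f (TensorProduct.comm R Q N w) =
        TensorProduct.comm R Q _ ((f.restrictScalars R).lTensor Q w) := by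
      intro w
      induction w using TensorProduct.induction_on with
      | zero => simp
      | tmul q n => simp
      | add a b ha hb => simp only [map_add, ha, hb]
    rw [h4, hz, map_zero]
  obtain ⟨⟨s, hs⟩, hs0⟩ :=
    (IsLocalizedModule.eq_zero_iff (FlatCA.nzdFiber R S N) (TensorProduct.AlgebraTensorModule.rTensor R Q f)).mp h5
  apply hu s hs Q
  apply (TensorProduct.comm R Q N).injective
  rw [map_zero, map_zero]
  have h6 : ∀ w, TensorProduct.comm R Q N (((LinearMap.lsmul S N s).restrictScalars R).lTensor Q w) =
      s • TensorProduct.comm R Q N w := by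
    intro w
    induction w using TensorProduct.induction_on with
    | zero => simp
    | tmul q n => simp [TensorProduct.smul_tmul']
    | add a b ha hb => simp only [map_add, ha, hb, smul_add]
  rw [h6]
  exact hs0

end Groth.Agent.S9011
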