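import Groth.Statements.S9012
import Groth.Agent.FlatFunSheaf.CondT
import Groth.Agent.Fibres16.LimCritScheme
import Groth.Agent.FDesc.BaseChangeStalk

set_option autoImplicit false
set_option backward.isDefEq.respectTransparency false
set_option backward.isDefEq.respectTransparency.types false
universe u
open FlatMor

namespace Groth.Agent.S9012

open CategoryTheory CategoryTheory.Limits AlgebraicGeometry Opposite in
/-- For f : X → S and a quasi-coherent O_X-module F, the functor F_flat on schemes over S (one point on
T when the base change F_T on X_T = X ×_S T is flat over T, empty otherwise; written as the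
subfunctor of the final functor generated by that condition, which agrees with it because flatness
is preserved by base change) satisfies the sheaf condition for the fpqc topology. -/
theorem result {X S : Scheme.{u}} (f : X ⟶ S) (F : X.Modules) [Coh.IsQCoh F] :
    Presheaf.IsSheaf (QuotSh.J Scheme.fpqcPrecoverage S)
      (FlatFun.genPSp S (fun T => FlatMod.IsFlatOver (PicF.XTproj f T) (FGA.ET f F T))) := by
  refine Groth.Agent.FlatFunSheaf.isSheaf_genPSp_of S _ (fun T T₀ k h x =>
    Groth.Agent.Fibres16.LimCrit.isFlatOverAt_of_iso _
      ((Groth.Agent.LimTop.compIso (Groth.Agent.FlatFunSheaf.bcMap f k) (pullback.fst f T₀.hom)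
        (Groth.Agent.FlatFunSheaf.bcMap_fst f k)).app F) x
      (Groth.Agent.FDesc.BaseChangeStalk.flatOverAt_baseChange
        (Groth.Agent.FlatFunSheaf.isPullback_bcMap f k) x _ (h _))) ?_
  intro T ι Ti a _ hs h x
  obtain ⟨i, v, hv⟩ := hs (pullback.snd f T.hom x)
  obtain ⟨z, rfl, -⟩ := Scheme.exists_preimage_of_isPullback
    (Groth.Agent.FlatFunSheaf.isPullback_bcMap f (a i)) x v hv.symm
  exact Groth.Agent.FDesc.BaseChangeStalk.flatOverAt_of_baseChange
    (Groth.Agent.FlatFunSheaf.isPullback_bcMap f (a i)) z _ (Flat.stalkMap (a i).left _)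
    (Groth.Agent.Fibres16.LimCrit.isFlatOverAt_of_iso _
      ((Groth.Agent.LimTop.compIso (Groth.Agent.FlatFunSheaf.bcMap f (a i)) (pullback.fst f T.hom)
        (Groth.Agent.FlatFunSheaf.bcMap_fst f (a i))).app F).symm z (h i z))

end Groth.Agent.S9012
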