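import Groth.Statements.S9017
import Groth.Agent.FlatFunSheaf.Basic

set_option autoImplicit false
universe u
open FlatMor

namespace Groth.Agent.S9017

open CategoryTheory CategoryTheory.Limits AlgebraicGeometry Opposite in
/-- For f : X → S, a homomorphism u : F → G of quasi-coherent O_X-modules, a scheme T over S and an fpqc
covering family of S-morphisms T_i → T, the base change u_T on X_T = X ×_S T is injective (a
monomorphism in the abelian category of O-modules) if and only if u_{T_i} is injective for every i.
(Injectivity of u_T is not preserved by arbitrary base change, so this variant is a sheaf condition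
on coverings rather than a subfunctor of the final functor.) -/
theorem result {X S : Scheme.{u}} (f : X ⟶ S) {F G : X.Modules} [Coh.IsQCoh F] [Coh.IsQCoh G] (u : F ⟶ G)
    (T : Over S) {ι : Type u} (Ti : ι → Over S) (g : ∀ i, Ti i ⟶ T)
    (hcov : Presieve.ofArrows (fun i => (Ti i).left) (fun i => (g i).left) ∈ Scheme.fpqcPrecoverage T.left) :
    Mono ((Scheme.Modules.pullback (pullback.fst f T.hom)).map u) ↔
      ∀ i, Mono ((Scheme.Modules.pullback (pullback.fst f (Ti i).hom)).map u) := by
  obtain ⟨hfl, hs⟩ := Groth.Agent.FlatFunSheaf.flat_and_surjective_bcMap f Ti g hcov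
  haveI := hfl
  have key : ∀ i, Mono ((Scheme.Modules.pullback (Groth.Agent.FlatFunSheaf.bcMap f (g i))).map
      ((Scheme.Modules.pullback (pullback.fst f T.hom)).map u)) ↔
      Mono ((Scheme.Modules.pullback (pullback.fst f (Ti i).hom)).map u) := fun i =>
    (MorphismProperty.monomorphisms _).arrow_mk_iso_iff
      (((Functor.mapArrowFunctor _ _).mapIso (Groth.Agent.LimTop.compIso _ _
        (Groth.Agent.FlatFunSheaf.bcMap_fst f (g i)))).app (Arrow.mk u))
  refine ⟨fun h i => (key i).1 ?_, fun h => ?_⟩
  · haveI := h
    haveI := Groth.Agent.LimTop.preservesMonomorphisms_pullback (Groth.Agent.FlatFunSheaf.bcMap f (g i))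
    infer_instance
  · exact Groth.Agent.FlatFunSheaf.mono_of_pullback _ hs _ fun i => (key i).2 (h i)

end Groth.Agent.S9017
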