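import Groth.Statements.S9018
import Groth.Agent.LimPresFun.Basic

set_option autoImplicit false
universe u
open FlatMor

namespace Groth.Agent.S9018

open CategoryTheory CategoryTheory.Limits AlgebraicGeometry Opposite in
/-- For f : X → S quasi-compact and a homomorphism u : F → G of quasi-coherent O_X-modules with G of
finite type, the functor F_surj (one point on T when the base change u_T on X ×_S T is an
epimorphism of O-modules, empty otherwise; the subfunctor of the final functor generated by that
condition) is limit preserving. -/
theorem result {X S : Scheme.{u}} (f : X ⟶ S) [QuasiCompact f] {F G : X.Modules} [Coh.IsQCoh F] [Coh.IsQCoh G]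
    (hG : CohB1.IsFT G) (u : F ⟶ G) :
    AlgSp.IsLimitPreserving (FlatFun.genPSp S (fun T => Epi ((Scheme.Modules.pullback (pullback.fst f T.hom)).map u))) := by
  refine Groth.Agent.LimPresFun.isLimitPreserving_genPSp f
    (fun Y g => Epi ((Scheme.Modules.pullback g).map u)) (fun Z Y p g h => ?_) ?_
  · exact Groth.Agent.LimTop.epi_of_natIso (Groth.Agent.LimTop.compIso p g rfl) u
      ((Scheme.Modules.pullback p).map_epi ((Scheme.Modules.pullback g).map u))
  · intro J _ _ D c hc _ i₀ _ q h
    obtain ⟨j, φ, hj⟩ := Groth.Agent.LimTop.eventually_epi hc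
      (Groth.Agent.LimPresFun.finOn_pullback q (Groth.Agent.LimTop.finOn_of_isFiniteType G hG ⊤))
      ((Scheme.Modules.pullback q).map u)
      (Groth.Agent.LimTop.epi_of_natIso (Groth.Agent.LimTop.compIso (c.π.app i₀) q rfl).symm u h)
    exact ⟨j, φ, Groth.Agent.LimTop.epi_of_natIso (Groth.Agent.LimTop.compIso (D.map φ) q rfl) u hj⟩

end Groth.Agent.S9018
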