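import Groth.Statements.S9019
import Groth.Agent.LimPresFun.Basic

set_option autoImplicit false
universe u
open FlatMor

namespace Groth.Agent.S9019

open CategoryTheory CategoryTheory.Limits AlgebraicGeometry Opposite in
/-- For f : X → S quasi-compact and a homomorphism u : F → G of quasi-coherent O_X-modules with F of
finite type, the functor F_zero (one point on T when the base change u_T on X ×_S T is zero, empty
otherwise; the subfunctor of the final functor generated by that condition) is limit preserving. -/
theorem result {X S : Scheme.{u}} (f : X ⟶ S) [QuasiCompact f] {F G : X.Modules} [Coh.IsQCoh F] [Coh.IsQCoh G]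
    (hF : CohB1.IsFT F) (u : F ⟶ G) :
    AlgSp.IsLimitPreserving (FlatFun.genPSp S (fun T => ((Scheme.Modules.pullback (pullback.fst f T.hom)).map u) = 0)) := by
  refine Groth.Agent.LimPresFun.isLimitPreserving_genPSp f
    (fun Y g => (Scheme.Modules.pullback g).map u = 0) (fun Z Y p g h => ?_) ?_
  · exact (NatIso.naturality_1 (Groth.Agent.LimTop.compIso p g rfl) u).symm.trans (by simp [h])
  · intro J _ _ D c hc _ i₀ _ q h
    have e := Groth.Agent.LimTop.compIso (c.π.app i₀) q rfl
    obtain ⟨j, φ, hj⟩ := Groth.Agent.LimTop.eventually_map_eq hc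
      (Groth.Agent.LimPresFun.finOn_pullback q (Groth.Agent.LimTop.finOn_of_isFiniteType F hF ⊤))
      ((Scheme.Modules.pullback q).map u) 0 (by
        rw [Functor.map_zero]
        exact (NatIso.naturality_2 e u).symm.trans (by simp [h]))
    refine ⟨j, φ, (NatIso.naturality_1 (Groth.Agent.LimTop.compIso (D.map φ) q rfl) u).symm.trans ?_⟩
    rw [Functor.map_zero] at hj
    simp [hj]

end Groth.Agent.S9019
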