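import Groth.Statements.S9026
import Groth.Agent.FlatMor62.GenRankLocus

set_option autoImplicit false
universe u
open FlatMor

namespace Groth.Agent.S9026

open CategoryTheory CategoryTheory.Limits AlgebraicGeometry Opposite in
/-- For f : X → S smooth with geometrically irreducible fibres, F a quasi-coherent O_X-module of finite
type and p ≥ 0, the functor H_p on schemes over S (one point on T when the base change F_T is free
of rank p on a neighbourhood of the generic point of every fibre of X ×_S T → T, empty otherwise;
the subfunctor of the final functor generated by that condition) is representable by a scheme S_p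
over S whose structure morphism S_p → S is an immersion (a locally closed immersion). When the
module F is finitely presented, the morphism S_p → S is likewise finitely presented, i.e. locally of
finite presentation, quasi-compact and quasi-separated. -/
theorem result {X S : Scheme.{u}} (f : X ⟶ S) [Smooth f] [GeometricallyIrreducible f] (F : X.Modules) [Coh.IsQCoh F]
    (hF : CohB1.IsFT F) (p : ℕ) :
    ∃ Z : Over S, IsImmersion Z.hom ∧
      Nonempty ((FlatFun.genPSp S (fun T => FlatFun.FreeAtGenericPts (PicF.XTproj f T) (FGA.ET f F T) p)).RepresentableBy Z) ∧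
      (CohB1.IsFP F → LocallyOfFinitePresentation Z.hom ∧ QuasiCompact Z.hom ∧ QuasiSeparated Z.hom) := by
  haveI : F.IsQuasicoherent := ‹Coh.IsQCoh F›
  haveI : F.IsFiniteType := hF
  obtain ⟨Z, i, hi, hZ, hfp⟩ := Groth.Agent.FlatMor62.GenRankLocus.exists_immersion f F p
  haveI := hi
  refine ⟨Over.mk i, hi, ⟨?_⟩, hfp⟩
  have hmem : ∀ T : Over S, Nonempty ((FlatFun.genPSp S (fun T => FlatFun.FreeAtGenericPts (PicF.XTproj f T)
      (FGA.ET f F T) p)).obj (op T)) → Nonempty (T ⟶ Over.mk i) := fun T h => by
    obtain ⟨T₀, k, hk⟩ := (FlatFun.genPSp_nonempty_iff _ T).1 h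
    obtain ⟨l, hl⟩ := (hZ T₀).2 hk
    exact ⟨Over.homMk (k.left ≫ l) (by
      show (k.left ≫ l) ≫ i = T.hom
      rw [Category.assoc, hl]; exact Over.w k)⟩
  have hsub : ∀ T : Over S, Subsingleton (T ⟶ Over.mk i) := fun T => ⟨fun a b => Over.OverMorphism.ext (by
    rw [← cancel_mono i]; exact (Over.w a).trans (Over.w b).symm)⟩
  exact
    { homEquiv := fun {T} =>
        { toFun := fun l => (FlatFun.genPSp_nonempty_of _ ((hZ T).1 ⟨l.left, Over.w l⟩)).some
          invFun := fun x => (hmem T ⟨x⟩).some
          left_inv := fun _ => (hsub T).elim _ _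
          right_inv := fun _ => Subsingleton.elim _ _ }
      homEquiv_comp := fun _ _ => Subsingleton.elim _ _ }

end Groth.Agent.S9026
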