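import Groth.Statements.S9022
import Groth.Agent.S9026
import Groth.Agent.HomShEval.Reflexive

set_option autoImplicit false
universe u
open FlatMor

namespace Groth.Agent.S9022

open CategoryTheory CategoryTheory.Limits AlgebraicGeometry Opposite in
/-- For f : X → S smooth with geometrically irreducible fibres, F a quasi-coherent O_X-module of finite
presentation and p ≥ 0, the functor H_p on schemes over S (one point on T when F_T is free of rank p
near the generic point of every fibre of X ×_S T → T, empty otherwise; the subfunctor of the final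
functor generated by that condition) is limit preserving. -/
theorem result {X S : Scheme.{u}} (f : X ⟶ S) [Smooth f] [GeometricallyIrreducible f] (F : X.Modules) [Coh.IsQCoh F]
    (hF : CohB1.IsFP F) (p : ℕ) :
    AlgSp.IsLimitPreserving (FlatFun.genPSp S (fun T => FlatFun.FreeAtGenericPts (PicF.XTproj f T) (FGA.ET f F T) p)) := by
  obtain ⟨Z, -, ⟨R⟩, hfp⟩ := Groth.Agent.S9026.result f F (Groth.Agent.HomShEval.Reflexive.isFT_of_isFP F hF) p
  obtain ⟨hlfp, -, -⟩ := hfp hF
  intro I _ _ D c hc hD hT
  refine ⟨Types.FilteredColimit.isColimitOf _ _ (fun x => ?_) fun i j xi xj _ => ?_⟩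
  · haveI := hlfp
    haveI : ∀ i, IsAffine ((D ⋙ Over.forget S).obj i) := hD
    haveI : ∀ {i j : I} (φ : i ⟶ j), IsAffineHom ((D ⋙ Over.forget S).map φ) := fun _ => isAffineHom_of_isAffine _
    let l : c.pt ⟶ Z := R.homEquiv.symm x
    obtain ⟨i, g, -, hg⟩ := Scheme.exists_π_app_comp_eq_of_locallyOfFinitePresentation (D ⋙ Over.forget S)
      { app := fun i => (D.obj i).hom
        naturality := fun i j φ => by simp }
      Z.hom ((Over.forget S).mapCone c) hc l.left (by
        ext i
        exact (Over.w (c.π.app i)).trans (Over.w l).symm)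
    exact ⟨op i, R.homEquiv (Over.homMk g hg : D.obj i ⟶ Z), @Subsingleton.elim _ (FlatFun.genPSp_subsingleton _ _ _) _ _⟩
  · obtain ⟨k, a, b, -⟩ := IsFilteredOrEmpty.cocone_objs i j
    exact ⟨k, a, b, @Subsingleton.elim _ (FlatFun.genPSp_subsingleton _ _ _) _ _⟩

end Groth.Agent.S9022
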