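import Groth.Statements.S9024
import Groth.Agent.FlatFunSheaf.DimLP
import Groth.Agent.FlatFunSheaf.Basic
import Groth.Agent.S9023
import Groth.Agent.AlgSpD.RelDim

set_option autoImplicit false
set_option backward.isDefEq.respectTransparency false
set_option backward.isDefEq.respectTransparency.types false
set_option linter.style.haveILetI false
universe u
open FlatMor

namespace Groth.Agent.S9024

open CategoryTheory CategoryTheory.Limits AlgebraicGeometry

/-- Flatness in dimensions `≥ n` of `F_T` read on an étale surjective cover of a stage. -/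
theorem key {X S : Scheme.{u}} (f : X ⟶ S) (F : X.Modules) {T₀ : Over S} {W : Scheme.{u}}
    (w : W ⟶ pullback f T₀.hom) [Etale w] [Surjective w] {T : Over S} (a : T ⟶ T₀) (n : ℕ) :
    FlatFun.DimFibresLT n (PicF.XTproj f T)
        {x | ¬ FlatMod.IsFlatOverAt (PicF.XTproj f T) (FGA.ET f F T) x} ↔
      FlatFun.DimFibresLT n (pullback.fst a.left (w ≫ pullback.snd f T₀.hom))
        (Groth.Agent.FlatFunSheaf.DimLP.NF (w ≫ pullback.snd f T₀.hom)
          ((Scheme.Modules.pullback (w ≫ pullback.fst f T₀.hom)).obj F) a.left) := by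
  let W' := pullback a.left (w ≫ pullback.snd f T₀.hom)
  let p : W' ⟶ W := pullback.snd a.left (w ≫ pullback.snd f T₀.hom)
  let B := Groth.Agent.FlatFunSheaf.isPullback_bcMap f a
  let m : W' ⟶ pullback f T.hom := B.lift (p ≫ w) (pullback.fst _ _)
    (by rw [Category.assoc]; exact pullback.condition.symm)
  have hm1 : m ≫ Groth.Agent.FlatFunSheaf.bcMap f a = p ≫ w := B.lift_fst _ _ _
  have hm2 : m ≫ pullback.snd f T.hom = pullback.fst _ _ := B.lift_snd _ _ _
  have sq : IsPullback p m w (Groth.Agent.FlatFunSheaf.bcMap f a) :=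
    IsPullback.of_bot (by rw [hm2]; exact (IsPullback.of_hasPullback _ _).flip) hm1.symm B
  haveI : Etale m := MorphismProperty.of_isPullback sq ‹Etale w›
  haveI : Surjective m := MorphismProperty.of_isPullback sq ‹Surjective w›
  haveI := Groth.Agent.AlgSpD.locallyQuasiFinite_of_etale m
  have hq : m ≫ pullback.fst f T.hom = p ≫ w ≫ pullback.fst f T₀.hom := by
    rw [← Groth.Agent.FlatFunSheaf.bcMap_fst f a, reassoc_of% hm1]
  let e : (Scheme.Modules.pullback m).obj (FGA.ET f F T) ≅
      (Scheme.Modules.pullback p).obj ((Scheme.Modules.pullback (w ≫ pullback.fst f T₀.hom)).obj F) :=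
    (Groth.Agent.LimTop.compIso m (pullback.fst f T.hom) hq).app F ≪≫
      ((Groth.Agent.LimTop.compIso p (w ≫ pullback.fst f T₀.hom) rfl).app F).symm
  have hfl : ∀ y, FlatMod.IsFlatOverAt (pullback.fst a.left (w ≫ pullback.snd f T₀.hom))
      ((Scheme.Modules.pullback p).obj ((Scheme.Modules.pullback (w ≫ pullback.fst f T₀.hom)).obj F)) y ↔
      FlatMod.IsFlatOverAt (PicF.XTproj f T) (FGA.ET f F T) (m y) := fun y => by
    refine Iff.trans ?_ (Groth.Agent.FDesc.Stalk.flatOverAt_pullback_iff m (pullback.snd f T.hom) _ y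
      (Flat.stalkMap m y))
    rw [hm2]
    exact ⟨Groth.Agent.Fibres16.LimCrit.isFlatOverAt_of_iso _ e.symm y,
      Groth.Agent.Fibres16.LimCrit.isFlatOverAt_of_iso _ e y⟩
  have htr : ∀ y, Dual3.resTrdeg (pullback.fst a.left (w ≫ pullback.snd f T₀.hom)) y =
      Dual3.resTrdeg (PicF.XTproj f T) (m y) := fun y => by
    rw [← hm2, Groth.Agent.AlgSpD.resTrdeg_comp, Groth.Agent.AlgSpD.resTrdeg_eq_zero_of_lqf m, zero_add]
  refine ⟨fun h y hy => ?_, fun h x hx => ?_⟩
  · exact (htr y).trans_lt (h (m y) fun hh => hy ((hfl y).2 hh))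
  · obtain ⟨y, rfl⟩ := m.surjective x
    exact (htr y).symm.trans_lt (h y fun hh => hx ((hfl y).1 hh))


open CategoryTheory CategoryTheory.Limits AlgebraicGeometry Opposite in
/-- Given a quasi-compact morphism f : X → S that is locally finitely presented, a finitely presented
quasi-coherent O_X-module F, and an integer n ≥ 0, the functor F_n on schemes over S (one point on T
when F_T is flat over T in dimensions ≥ n, in the transcendence-degree form: every point of X ×_S T
where F_T is not flat over T has residue field of transcendence degree less than n over that of its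
image; empty otherwise; the subfunctor of the final functor generated by that condition) is limit
preserving. -/
theorem result {X S : Scheme.{u}} (f : X ⟶ S) [QuasiCompact f] [LocallyOfFinitePresentation f] (F : X.Modules) [Coh.IsQCoh F]
    (hF : CohB1.IsFP F) (n : ℕ) :
    AlgSp.IsLimitPreserving (FlatFun.genPSp S (fun T => FlatFun.DimFibresLT n (PicF.XTproj f T)
        {x | ¬ FlatMod.IsFlatOverAt (PicF.XTproj f T) (FGA.ET f F T) x})) := by
  intro I _ _ D c hc hD hT
  refine ⟨Types.FilteredColimit.isColimitOf _ _ (fun x => ?_) fun i j xi xj _ => ?_⟩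
  · obtain ⟨T₀, (k : c.pt ⟶ T₀), hk⟩ := x.down.down
    have hflat : FlatFun.DimFibresLT n (PicF.XTproj f c.pt)
        {x | ¬ FlatMod.IsFlatOverAt (PicF.XTproj f c.pt) (FGA.ET f F c.pt) x} := fun z hz => by
      show Dual3.resTrdeg (PicF.XTproj f c.pt) z < (n : Cardinal.{u})
      rw [Groth.Agent.S9023.resTrdeg_isoPullback f k z]
      refine lt_of_le_of_lt (Groth.Agent.TrdegBC.resTrdeg_snd_le _) (hk _ ?_)
      rw [← Scheme.Hom.comp_apply, IsPullback.isoPullback_hom_fst]
      exact fun hfl => hz (Groth.Agent.S9023.flatAt_of_flatAt f F k z hfl)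
    let D₀ := D ⋙ Over.forget S
    let c₀ : Cone D₀ := (Over.forget S).mapCone c
    haveI : ∀ i, IsAffine (D₀.obj i) := hD
    haveI : ∀ (i j : I) (φ : i ⟶ j), IsAffineHom (D₀.map φ) := fun _ _ _ => isAffineHom_of_isAffine _
    obtain ⟨i₀⟩ := IsCofiltered.nonempty (C := I)
    let h : pullback f (D.obj i₀).hom ⟶ D₀.obj i₀ := pullback.snd f (D.obj i₀).hom
    haveI : CompactSpace (pullback f (D.obj i₀).hom : Scheme.{u}) :=
      QuasiCompact.compactSpace_of_compactSpace h
    let 𝒰 := (pullback f (D.obj i₀).hom).affineCover.finiteSubcover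
    let W : Scheme.{u} := ∐ fun i => 𝒰.X i
    haveI : ∀ i, IsAffine (𝒰.X i) := fun i => inferInstanceAs (IsAffine (Spec _))
    haveI : IsAffine W := inferInstanceAs (IsAffine (∐ fun i => 𝒰.X i))
    let w : W ⟶ pullback f (D.obj i₀).hom := Sigma.desc 𝒰.f
    haveI : Surjective w := ⟨fun x => by
      obtain ⟨i, y, rfl⟩ := 𝒰.exists_eq x
      exact ⟨Sigma.ι (fun i => 𝒰.X i) i y, by rw [← Scheme.Hom.comp_apply, Sigma.ι_desc]⟩⟩
    haveI : Etale w := IsZariskiLocalAtSource.sigmaDesc fun i => inferInstance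
    haveI : LocallyOfFinitePresentation w := IsZariskiLocalAtSource.sigmaDesc fun i => inferInstance
    let q : W ⟶ X := w ≫ pullback.fst f (D.obj i₀).hom
    obtain ⟨hq₁, hq₂⟩ := Groth.Agent.ConsPairLib.isFP_pullback q F hF
    haveI : Coh.IsQCoh ((Scheme.Modules.pullback q).obj F) := hq₁
    obtain ⟨j, hj⟩ := Groth.Agent.FlatFunSheaf.DimLP.exists_stage D₀ c₀ (i₀ := i₀) (w ≫ h)
      ((Scheme.Modules.pullback q).obj F) hc hq₂ n ((key f F w (c.π.app i₀) n).1 hflat)
    exact ⟨op j.left, ⟨⟨D.obj j.left, 𝟙 _, (key f F w (D.map j.hom) n).2 hj⟩⟩,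
      @Subsingleton.elim _ (FlatFun.genPSp_subsingleton _ _ _) _ _⟩
  · obtain ⟨k, a, b, -⟩ := IsFilteredOrEmpty.cocone_objs i j
    exact ⟨k, a, b, @Subsingleton.elim _ (FlatFun.genPSp_subsingleton _ _ _) _ _⟩

end Groth.Agent.S9024
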