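import Groth.Statements.S9032
import Groth.Agent.FlatLocusE.Main

set_option autoImplicit false
universe u
open FlatMor

namespace Groth.Agent.S9032

open CategoryTheory CategoryTheory.Limits AlgebraicGeometry Opposite in
/-- Let A be a henselian local ring, s the closed point of S = Spec A, f : X → S a morphism locally of
finite type, F a quasi-coherent O_X-module of finite type and E a subset of the closed fibre X_s.
Then there is a closed subscheme Z = V(I) of S with the following property: for every morphism of
pointed schemes (T, t) → (S, s), the base change F_T on X_T = X ×_S T is T-flat at each point over t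
whose image in X lies in E if and only if Spec(O_{T,t}) → S factors through Z, that is, the map A →
O_{T,t} sends I to zero. Assume in addition that the morphism f is locally finitely presented, that
the module F is finitely presented, and that the subset E is both quasi-compact and closed; in that
case the closed immersion Z → S is finitely presented, meaning the ideal I is finitely generated. -/
theorem result {A : Type u} [CommRing A] [HenselianLocalRing A] {X : Scheme.{u}} (f : X ⟶ Spec (CommRingCat.of A))
    [LocallyOfFiniteType f] (F : X.Modules) [Coh.IsQCoh F] (hF : CohB1.IsFT F)
    (E : Set X) (hE : ∀ x ∈ E, f.base x = IsLocalRing.closedPoint A) :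
    ∃ I : Ideal A,
      (∀ (T : Scheme.{u}) (g : T ⟶ Spec (CommRingCat.of A)) (t : T), g.base t = IsLocalRing.closedPoint A →
        ((∀ x' : ↑(pullback f g), (pullback.snd f g).base x' = t → (pullback.fst f g).base x' ∈ E →
            FlatMod.IsFlatOverAt (pullback.snd f g) ((Scheme.Modules.pullback (pullback.fst f g)).obj F) x') ↔
          ∀ a ∈ I, (T.presheaf.germ ⊤ t trivial).hom
            (g.appTop.hom ((Scheme.ΓSpecIso (CommRingCat.of A)).inv.hom a)) = 0)) ∧
      (LocallyOfFinitePresentation f → CohB1.IsFP F → IsClosed E → IsCompact E → I.FG) := by
  obtain ⟨I, hI, hfg⟩ := Groth.Agent.FlatLocusE.exists_ideal_along f F hF E hE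
  exact ⟨I, hI, hfg⟩

end Groth.Agent.S9032
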