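import Groth.Statements.S9033
-- import your own Groth.Agent.* helpers here

set_option autoImplicit false
universe u
open Cpct

namespace Groth.Agent.S9033

open CategoryTheory CategoryTheory.Limits AlgebraicGeometry

variable {S : Scheme.{u}}

lemma restr_ι {A B : Cpct.Pair S} (f : A ⟶ B) :
    Cpct.restr f ≫ B.U.ι = A.U.ι ≫ (Cpct.Pair.Hom.bar f).left :=
  Scheme.Hom.resLE_comp_ι _ _

lemma restr_id (A : Cpct.Pair S) : Cpct.restr (𝟙 A) = 𝟙 (A.U : Scheme.{u}) := by
  rw [← cancel_mono A.U.ι, restr_ι]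
  simp

lemma restr_comp {A B C : Cpct.Pair S} (f : A ⟶ B) (g : B ⟶ C) :
    Cpct.restr (f ≫ g) = Cpct.restr f ≫ Cpct.restr g := by
  rw [← cancel_mono C.U.ι, restr_ι, Category.assoc, restr_ι, ← Category.assoc, restr_ι]
  simp

instance : (Cpct.isoOpen S).IsMultiplicative where
  id_mem A := show IsIso (Cpct.restr (𝟙 A)) by rw [restr_id]; infer_instance
  comp_mem f g hf hg := show IsIso (Cpct.restr (f ≫ g)) by
    have : IsIso (Cpct.restr f) := hf
    have : IsIso (Cpct.restr g) := hg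
    rw [restr_comp]
    infer_instance

/-- An open subscheme receiving a split surjection from a compact scheme has compact carrier. -/
lemma isCompact_of_retraction {X : Scheme.{u}} (U : X.Opens) {T : Scheme.{u}} [CompactSpace T]
    (σ : T ⟶ (U : Scheme.{u})) (r : (U : Scheme.{u}) ⟶ T) (h : r ≫ σ = 𝟙 _) :
    IsCompact (U : Set X) := by
  have hs : Function.Surjective σ := fun z => ⟨r z, by rw [← Scheme.Hom.comp_apply, h]; rfl⟩
  have : Set.range (σ ≫ U.ι) = (U : Set X) := by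
    refine Eq.trans ?_ U.range_ι
    ext z
    constructor
    · rintro ⟨t, rfl⟩
      exact ⟨σ t, rfl⟩
    · rintro ⟨w, rfl⟩
      obtain ⟨t, rfl⟩ := hs w
      exact ⟨t, rfl⟩
  rw [← this]
  exact isCompact_range (σ ≫ U.ι).continuous

lemma ore {X Y Y' : Cpct.Pair S} (f : X ⟶ Y') (s : Y ⟶ Y') (hs : Cpct.isoOpen S s) :
    ∃ (P : Cpct.Pair S) (t : P ⟶ X) (g : P ⟶ Y), Cpct.isoOpen S t ∧ t ≫ f = g ≫ s := by
  have : IsIso (Cpct.restr s) := hs
  let fb := (Cpct.Pair.Hom.bar f).left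
  let sb := (Cpct.Pair.Hom.bar s).left
  have hfw : fb ≫ Y'.bar.hom = X.bar.hom := Over.w _
  have hsw : sb ≫ Y'.bar.hom = Y.bar.hom := Over.w _
  have := X.isProper
  have := Y.isProper
  have := Y'.isProper
  have : IsProper sb := by
    have : IsProper (sb ≫ Y'.bar.hom) := by rw [hsw]; infer_instance
    exact IsProper.of_comp sb Y'.bar.hom
  let p1 : pullback fb sb ⟶ X.bar.left := pullback.fst _ _
  let p2 : pullback fb sb ⟶ Y.bar.left := pullback.snd _ _
  let PB : Over S := Over.mk (p1 ≫ X.bar.hom)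
  let UP : (pullback fb sb).Opens := p1 ⁻¹ᵁ X.U ⊓ p2 ⁻¹ᵁ Y.U
  have e1 : UP ≤ p1 ⁻¹ᵁ X.U := inf_le_left
  have e2 : UP ≤ p2 ⁻¹ᵁ Y.U := inf_le_right
  let r1 := p1.resLE X.U UP e1
  let r2 := p2.resLE Y.U UP e2
  have hr1 : r1 ≫ X.U.ι = UP.ι ≫ p1 := Scheme.Hom.resLE_comp_ι _ _
  have hr2 : r2 ≫ Y.U.ι = UP.ι ≫ p2 := Scheme.Hom.resLE_comp_ι _ _
  have hf' : Cpct.restr f ≫ Y'.U.ι = X.U.ι ≫ fb := restr_ι f
  have hs' : Cpct.restr s ≫ Y'.U.ι = Y.U.ι ≫ sb := restr_ι s
  have hsq : r2 ≫ Cpct.restr s = r1 ≫ Cpct.restr f := by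
    rw [← cancel_mono Y'.U.ι, Category.assoc, Category.assoc, hs', hf', reassoc_of% hr2,
      reassoc_of% hr1, pullback.condition]
  let g0 := Cpct.restr f ≫ inv (Cpct.restr s)
  let σ0 : (X.U : Scheme.{u}) ⟶ pullback fb sb :=
    pullback.lift X.U.ι (g0 ≫ Y.U.ι) (by rw [Category.assoc, ← hs', Category.assoc,
      IsIso.inv_hom_id_assoc, hf'])
  have hσ1 : σ0 ≫ p1 = X.U.ι := pullback.lift_fst _ _ _
  have hσ2 : σ0 ≫ p2 = g0 ≫ Y.U.ι := pullback.lift_snd _ _ _
  have hrange : Set.range σ0 ⊆ Set.range UP.ι := by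
    rw [Scheme.Opens.range_ι]
    rintro _ ⟨x, rfl⟩
    refine ⟨?_, ?_⟩
    · show p1 (σ0 x) ∈ X.U
      rw [← Scheme.Hom.comp_apply, hσ1]
      exact x.2
    · show p2 (σ0 x) ∈ Y.U
      rw [← Scheme.Hom.comp_apply, hσ2]
      exact (g0 x).2
  let σ := IsOpenImmersion.lift UP.ι σ0 hrange
  have hσ : σ ≫ UP.ι = σ0 := IsOpenImmersion.lift_fac _ _ _
  have h1 : σ ≫ r1 = 𝟙 _ := by
    rw [← cancel_mono X.U.ι, Category.assoc, hr1, reassoc_of% hσ, hσ1, Category.id_comp]
  have h2 : r1 ≫ σ = 𝟙 _ := by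
    rw [← cancel_mono UP.ι, Category.assoc, hσ, Category.id_comp]
    apply pullback.hom_ext
    · rw [Category.assoc, hσ1]; exact hr1
    · rw [Category.assoc, hσ2]
      simp only [g0, Category.assoc]
      rw [← reassoc_of% hsq, IsIso.hom_inv_id_assoc]; exact hr2
  have : CompactSpace (X.U : Scheme.{u}) := isCompact_iff_compactSpace.mp X.isCompact
  let P : Cpct.Pair S :=
    { bar := PB
      U := UP
      isProper := show IsProper (p1 ≫ X.bar.hom) from inferInstance
      isCompact := isCompact_of_retraction UP σ r1 h2 }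
  let t : P ⟶ X := ⟨Over.homMk p1 rfl, fun x hx => hx.1⟩
  let g : P ⟶ Y := ⟨Over.homMk p2 (by
    show p2 ≫ Y.bar.hom = p1 ≫ X.bar.hom
    rw [← hsw, ← hfw, ← Category.assoc, ← Category.assoc, pullback.condition]),
    fun x hx => hx.2⟩
  refine ⟨P, t, g, ?_, ?_⟩
  · show IsIso r1
    exact ⟨σ, h2, h1⟩
  · apply Cpct.Pair.Hom.ext
    apply Over.OverMorphism.ext
    exact pullback.condition

lemma coequalize {X Y Y' : Cpct.Pair S} (f₁ f₂ : X ⟶ Y) (s : Y ⟶ Y') (hs : Cpct.isoOpen S s)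
    (h : f₁ ≫ s = f₂ ≫ s) :
    ∃ (X' : Cpct.Pair S) (t : X' ⟶ X), Cpct.isoOpen S t ∧ t ≫ f₁ = t ≫ f₂ := by
  have : IsIso (Cpct.restr s) := hs
  have := X.isProper
  have := Y.isProper
  have hr : Cpct.restr f₁ = Cpct.restr f₂ := by
    rw [← cancel_mono (Cpct.restr s), ← restr_comp, ← restr_comp, h]
  let b1 := Cpct.Pair.Hom.bar f₁
  let b2 := Cpct.Pair.Hom.bar f₂
  let e : equalizer b1 b2 ⟶ X.bar := equalizer.ι b1 b2
  have : IsClosedImmersion e.left := inferInstanceAs (IsClosedImmersion (equalizer.ι b1 b2).left)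
  let UP : (equalizer b1 b2).left.Opens := e.left ⁻¹ᵁ X.U
  let r1 := e.left.resLE X.U UP le_rfl
  have hr1 : r1 ≫ X.U.ι = UP.ι ≫ e.left := Scheme.Hom.resLE_comp_ι _ _
  let XU : Over S := Over.mk (X.U.ι ≫ X.bar.hom)
  let i0 : XU ⟶ X.bar := Over.homMk X.U.ι rfl
  have hi : i0 ≫ b1 = i0 ≫ b2 := by
    apply Over.OverMorphism.ext
    show X.U.ι ≫ b1.left = X.U.ι ≫ b2.left
    rw [← restr_ι f₁, ← restr_ι f₂, hr]
  let l := equalizer.lift i0 hi
  have hl : l.left ≫ e.left = X.U.ι := by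
    rw [← Over.comp_left, equalizer.lift_ι]
    rfl
  have hrange : Set.range l.left ⊆ Set.range UP.ι := by
    rw [Scheme.Opens.range_ι]
    rintro _ ⟨x, rfl⟩
    show e.left (l.left x) ∈ X.U
    rw [← Scheme.Hom.comp_apply, hl]
    exact x.2
  let σ : (X.U : Scheme.{u}) ⟶ UP := IsOpenImmersion.lift UP.ι l.left hrange
  have hσ : σ ≫ UP.ι = l.left := IsOpenImmersion.lift_fac _ _ _
  have h1 : σ ≫ r1 = 𝟙 _ := by
    rw [← cancel_mono X.U.ι, Category.assoc, hr1, reassoc_of% hσ, hl, Category.id_comp]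
  have h2 : r1 ≫ σ = 𝟙 _ := by
    rw [← cancel_mono UP.ι, ← cancel_mono e.left, Category.id_comp, Category.assoc,
      Category.assoc, reassoc_of% hσ, hl]
    exact hr1
  have : CompactSpace (X.U : Scheme.{u}) := isCompact_iff_compactSpace.mp X.isCompact
  let X' : Cpct.Pair S :=
    { bar := equalizer b1 b2
      U := UP
      isProper := by
        have : IsProper (e.left ≫ X.bar.hom) := inferInstance
        rw [← Over.w e]
        exact this
      isCompact := isCompact_of_retraction UP σ r1 h2 }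
  let t : X' ⟶ X := ⟨e, fun x hx => hx⟩
  refine ⟨X', t, ?_, ?_⟩
  · show IsIso r1
    exact ⟨σ, h2, h1⟩
  · apply Cpct.Pair.Hom.ext
    exact equalizer.condition b1 b2


open CategoryTheory CategoryTheory.Limits AlgebraicGeometry Opposite in
/-- Let S be a quasi-compact and quasi-separated scheme. In the category of compactifications over S —
objects the pairs (X, X̄) with X̄ proper over S and X a quasi-compact open of X̄, morphisms the
morphisms X̄' → X̄ over S mapping X' into X — the collection of morphisms (u, ū) : (X', X̄') → (X,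
X̄) with u : X' → X an isomorphism is a right multiplicative system: it contains the identities and
is closed under composition; for f : (Y, Ȳ) → (X, X̄) and (u, ū) : (X', X̄') → (X, X̄) in the
collection there are (v, v̄) : (Y', Ȳ') → (Y, Ȳ) in the collection and g : (Y', Ȳ') → (X', X̄') with
f ∘ (v, v̄) = (u, ū) ∘ g; and if two morphisms (X, X̄) → (Y, Ȳ) become equal after composing with
some (Y, Ȳ) → (Y', Ȳ') of the collection, they become equal after precomposing with some (X', X̄') →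
(X, X̄) of the collection. -/
theorem result (S : Scheme.{u}) [CompactSpace S] [QuasiSeparatedSpace S] :
    (Cpct.isoOpen S).HasRightCalculusOfFractions := by
  refine { exists_rightFraction := ?_, ext := ?_ }
  · intro X Y φ
    obtain ⟨P, t, g, ht, h⟩ := ore φ.f φ.s φ.hs
    exact ⟨⟨t, ht, g⟩, h⟩
  · intro X Y Y' f₁ f₂ s hs h
    obtain ⟨X', t, ht, h'⟩ := coequalize f₁ f₂ s hs h
    exact ⟨X', t, ht, h'⟩
end Groth.Agent.S9033
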