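import Groth.Statements.S9034
import Groth.Agent.S9033
import Groth.Agent.CohDev.LocCriterion
import Mathlib.AlgebraicGeometry.Morphisms.Immersion

set_option autoImplicit false
set_option linter.style.haveILetI false
universe u
open Cpct

namespace Groth.Agent.S9034


open CategoryTheory CategoryTheory.Limits AlgebraicGeometry Groth.Agent.S9033

variable {S : Scheme.{u}}

lemma coequalize' {X Y : Cpct.Pair S} (f₁ f₂ : X ⟶ Y) (hr : Cpct.restr f₁ = Cpct.restr f₂) :
    ∃ (X' : Cpct.Pair S) (t : X' ⟶ X), Cpct.isoOpen S t ∧ t ≫ f₁ = t ≫ f₂ := by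
  have := X.isProper
  have := Y.isProper
  let b1 := Cpct.Pair.Hom.bar f₁
  let b2 := Cpct.Pair.Hom.bar f₂
  let e : equalizer b1 b2 ⟶ X.bar := equalizer.ι b1 b2
  have : IsClosedImmersion e.left := inferInstanceAs (IsClosedImmersion (equalizer.ι b1 b2).left)
  let UP : (equalizer b1 b2).left.Opens := e.left ⁻¹ᵁ X.U
  let r1 := e.left.resLE X.U UP le_rfl
  have hr1 : r1 ≫ X.U.ι = UP.ι ≫ e.left := Scheme.Hom.resLE_comp_ι _ _
  let XU : Over S := Over.mk (X.U.ι ≫ X.bar.hom)
  let i0 : XU ⟶ X.bar := Over.homMk X.U.ι rfl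
  have hi : i0 ≫ b1 = i0 ≫ b2 := by
    apply Over.OverMorphism.ext
    show X.U.ι ≫ b1.left = X.U.ι ≫ b2.left
    rw [← restr_ι f₁, ← restr_ι f₂, hr]
  let l := equalizer.lift i0 hi
  have hl : l.left ≫ e.left = X.U.ι := by
    rw [← Over.comp_left, equalizer.lift_ι]
    rfl
  have hrange : Set.range l.left ⊆ Set.range UP.ι := by
    rw [Scheme.Opens.range_ι]
    rintro _ ⟨x, rfl⟩
    show e.left (l.left x) ∈ X.U
    rw [← Scheme.Hom.comp_apply, hl]
    exact x.2
  let σ : (X.U : Scheme.{u}) ⟶ UP := IsOpenImmersion.lift UP.ι l.left hrange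
  have hσ : σ ≫ UP.ι = l.left := IsOpenImmersion.lift_fac _ _ _
  have h1 : σ ≫ r1 = 𝟙 _ := by
    rw [← cancel_mono X.U.ι, Category.assoc, hr1, reassoc_of% hσ, hl, Category.id_comp]
  have h2 : r1 ≫ σ = 𝟙 _ := by
    rw [← cancel_mono UP.ι, ← cancel_mono e.left, Category.id_comp, Category.assoc,
      Category.assoc, reassoc_of% hσ, hl]
    exact hr1
  have : CompactSpace (X.U : Scheme.{u}) := isCompact_iff_compactSpace.mp X.isCompact
  let X' : Cpct.Pair S :=
    { bar := equalizer b1 b2
      U := UP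
      isProper := by
        have : IsProper (e.left ≫ X.bar.hom) := inferInstance
        rw [← Over.w e]
        exact this
      isCompact := isCompact_of_retraction UP σ r1 h2 }
  let t : X' ⟶ X := ⟨e, fun x hx => hx⟩
  refine ⟨X', t, ?_, ?_⟩
  · show IsIso r1
    exact ⟨σ, h2, h1⟩
  · apply Cpct.Pair.Hom.ext
    exact equalizer.condition b1 b2


/-- Every morphism of open parts extends after modifying the compactification of the source. -/
lemma exists_lift [QuasiSeparatedSpace S] {A B : Cpct.Pair S}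
    (φ : Cpct.openOver.obj A ⟶ Cpct.openOver.obj B) :
    ∃ (P : Cpct.Pair S) (t : P ⟶ A) (g : P ⟶ B),
      IsIso (Cpct.restr t) ∧ Cpct.restr g = Cpct.restr t ≫ φ.left := by
  have := A.isProper
  have := B.isProper
  haveI : QuasiSeparatedSpace A.bar.left := quasiSeparatedSpace_of_quasiSeparated A.bar.hom
  haveI : CompactSpace (A.U : Scheme.{u}) := isCompact_iff_compactSpace.mp A.isCompact
  haveI : QuasiCompact A.U.ι := inferInstance
  let q1 : pullback A.bar.hom B.bar.hom ⟶ A.bar.left := pullback.fst _ _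
  let q2 : pullback A.bar.hom B.bar.hom ⟶ B.bar.left := pullback.snd _ _
  have hφ : φ.left ≫ B.U.ι ≫ B.bar.hom = A.U.ι ≫ A.bar.hom := Over.w φ
  let σ : (A.U : Scheme.{u}) ⟶ pullback A.bar.hom B.bar.hom :=
    pullback.lift A.U.ι (φ.left ≫ B.U.ι) ((Category.assoc _ _ _).trans hφ).symm
  have hσ1 : σ ≫ q1 = A.U.ι := pullback.lift_fst _ _ _
  have hσ2 : σ ≫ q2 = φ.left ≫ B.U.ι := pullback.lift_snd _ _ _
  haveI : IsImmersion σ := by
    haveI : IsImmersion (σ ≫ q1) := by rw [hσ1]; infer_instance
    exact IsImmersion.of_comp σ q1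
  haveI : QuasiCompact σ := by
    haveI : QuasiCompact (σ ≫ q1) := by rw [hσ1]; infer_instance
    exact QuasiCompact.of_comp σ q1
  let p1 : σ.image ⟶ A.bar.left := σ.imageι ≫ q1
  let p2 : σ.image ⟶ B.bar.left := σ.imageι ≫ q2
  have hp1 : σ.toImage ≫ p1 = A.U.ι := by simp only [p1]; rw [Scheme.Hom.toImage_imageι_assoc, hσ1]
  have hp2 : σ.toImage ≫ p2 = φ.left ≫ B.U.ι := by simp only [p2]; rw [Scheme.Hom.toImage_imageι_assoc, hσ2]
  let P : Cpct.Pair S :=
    { bar := Over.mk (p1 ≫ A.bar.hom)
      U := σ.toImage.opensRange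
      isProper := show IsProper (p1 ≫ A.bar.hom) from inferInstance
      isCompact := isCompact_range σ.toImage.continuous }
  let t : P ⟶ A := ⟨Over.homMk p1 rfl, fun x hx => by
    obtain ⟨a, ha⟩ := hx
    show p1 x ∈ A.U
    rw [← ha, ← Scheme.Hom.comp_apply, hp1]
    exact a.2⟩
  let g : P ⟶ B := ⟨Over.homMk p2 (by
    show p2 ≫ B.bar.hom = p1 ≫ A.bar.hom
    simp only [p1, p2, Category.assoc]
    exact congrArg (σ.imageι ≫ ·) pullback.condition.symm), fun x hx => by
    obtain ⟨a, ha⟩ := hx
    show p2 x ∈ B.U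
    rw [← ha, ← Scheme.Hom.comp_apply, hp2]
    exact (φ.left a).2⟩
  let j : (A.U : Scheme.{u}) ≅ (σ.toImage.opensRange : Scheme.{u}) := σ.toImage.isoOpensRange
  have hj : j.hom ≫ σ.toImage.opensRange.ι = σ.toImage := Scheme.Hom.isoOpensRange_hom_ι _
  have ht : Cpct.restr t = j.inv := by
    rw [← Iso.hom_comp_eq_id, ← cancel_mono A.U.ι]
    refine (Category.assoc _ _ _).trans (Eq.trans ?_ (Category.id_comp _).symm)
    rw [restr_ι]
    exact ((Category.assoc _ _ _).symm.trans (congrArg (· ≫ p1) hj)).trans hp1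
  refine ⟨P, t, g, by rw [ht]; infer_instance, ?_⟩
  rw [ht]
  refine (Iso.eq_inv_comp j).2 ?_
  refine (cancel_mono B.U.ι).1 ?_
  refine (Category.assoc _ _ _).trans ?_
  rw [restr_ι]
  exact ((Category.assoc _ _ _).symm.trans (congrArg (· ≫ p2) hj)).trans hp2

open CategoryTheory CategoryTheory.Limits AlgebraicGeometry Opposite in
/-- Fix a scheme S which is quasi-separated and quasi-compact. Sending a pair (X, X̄) to X gives a
functor from the category of compactifications over S (pairs of a scheme X̄ proper over S and a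
quasi-compact open X ⊆ X̄, with morphisms the S-morphisms X̄' → X̄ sending X' into X) to the
category of compactifyable schemes over S (the full subcategory of schemes over S that are the open
part of such a pair), and this functor is a localization functor for the class of morphisms whose
open part X' → X is an isomorphism: it inverts that class and the induced functor from the localized
category is an equivalence. -/
theorem result (S : Scheme.{u}) [CompactSpace S] [QuasiSeparatedSpace S] :
    (Cpct.openFunctor S).IsLocalization (Cpct.isoOpen S) := by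
  let L := Cpct.openFunctor S
  have hiso : ∀ {A B : Cpct.Pair S} (f : A ⟶ B), IsIso (L.map f) ↔ IsIso (Cpct.restr f) := fun {A B} f => by
    rw [← isIso_iff_of_reflects_iso (L.map f) (ObjectProperty.ι _ ⋙ Over.forget S)]
    rfl
  haveI : L.EssSurj := ⟨fun N => by
    obtain ⟨A, ⟨e⟩⟩ := N.property
    exact ⟨A, ⟨(ObjectProperty.ι (Cpct.IsCompactifyable S)).preimageIso e⟩⟩⟩
  have hloc := Groth.Agent.CohDev.LocCriterion.isLocalization L
    (fun A B φ => by
      obtain ⟨P, t, g, ht, hg⟩ := exists_lift φ.hom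
      refine ⟨P, t, g, (hiso t).2 ht, ObjectProperty.hom_ext _ ?_⟩
      exact Over.OverMorphism.ext hg)
    (fun A B f g h => by
      obtain ⟨X', t, ht, hte⟩ := coequalize' f g (congrArg (fun k => k.hom.left) h)
      exact ⟨X', t, (hiso t).2 ht, hte⟩)
  suffices hW : Cpct.isoOpen S = (MorphismProperty.isomorphisms _).inverseImage L by
    rw [hW]; exact hloc
  funext A B f
  exact propext (hiso f).symm

end Groth.Agent.S9034
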