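import Groth.Statements.S9040
import Mathlib

set_option autoImplicit false
universe u
open Topology
open CohTop

namespace Groth.Agent.S9040

/-- Let X be a Hausdorff locally quasi-compact space, Y a Hausdorff space and f : X → Y a proper
surjective continuous map. Then {f : X → Y} is a qc covering: every point of Y has a neighbourhood
f(E) with E ⊆ X quasi-compact. (The published statement also assumes Y locally quasi-compact, in
which case the claim is immediate from properness; the published proof does not use that assumption,
and the row is stated without it, so that it shows in particular that Y is locally quasi-compact.) -/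
theorem result
    {X Y : Type u} [TopologicalSpace X] [T2Space X] [LocallyCompactSpace X] [TopologicalSpace Y] [T2Space Y]
    (f : X → Y) (hf : IsProperMap f) (hsurj : Function.Surjective f) (y : Y) :
    ∃ E : Set X, IsCompact E ∧ f '' E ∈ 𝓝 y := by
  classical
  have hK : IsCompact (f ⁻¹' {y}) := hf.isCompact_preimage isCompact_singleton
  choose V hV hVn using fun x : X => exists_compact_mem_nhds x
  obtain ⟨t, -, ht⟩ := hK.elim_nhds_subcover (fun x => interior (V x))
    (fun x _ => isOpen_interior.mem_nhds (mem_interior_iff_mem_nhds.mpr (hVn x)))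
  refine ⟨⋃ x ∈ t, V x, t.isCompact_biUnion fun x _ => hV x, ?_⟩
  let O := ⋃ x ∈ t, interior (V x)
  have hO : IsOpen O := isOpen_biUnion fun x _ => isOpen_interior
  have hy : y ∈ (f '' Oᶜ)ᶜ := by
    rintro ⟨x, hx, hxy⟩
    exact hx (ht hxy)
  refine Filter.mem_of_superset ((hf.isClosedMap _ hO.isClosed_compl).isOpen_compl.mem_nhds hy) ?_
  intro z hz
  obtain ⟨x, rfl⟩ := hsurj z
  refine ⟨x, ?_, rfl⟩
  have hxO : x ∈ O := by_contra fun h => hz ⟨x, h, rfl⟩
  simp only [O, Set.mem_iUnion] at hxO ⊢
  obtain ⟨i, hi, hxi⟩ := hxO
  exact ⟨i, hi, interior_subset hxi⟩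

end Groth.Agent.S9040
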