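import Groth.Statements.S9042
import Groth.Agent.SitePull.Tower

set_option autoImplicit false
universe u
open CategoryTheory CategoryTheory.Limits Opposite
open ModSite

namespace Groth.Agent.S9042

/-- Let (C, O) be a ringed site, E an object of D(O), B a class of objects such that every object has a
covering by members of B, and p : ℤ → ℤ a function such that H^k(V, H^{m-k}(E)) = 0 for every V in
B, every m and every k > p(m). Then the canonical map from E to the derived limit of its truncations
τ_{≥ -n} E is an isomorphism, i.e. E is a derived limit of that tower through the canonical maps.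
The derived category of O-modules and the product of the truncations are instance hypotheses; H^k(V,
-) of an O-module is the cohomology of its underlying abelian sheaf. -/
theorem result
    {C : Type u} [SmallCategory C] {J : GrothendieckTopology C} (O : Sheaf J CommRingCat.{u})
    [HasDerivedCategory.{u} (ModSite.Mod O)] (E : DerivedCategory (ModSite.Mod O))
    [HasProduct (CohCx.truncTower E)] (B : Set C)
    (hB : ∀ U : C, ∃ (ι : Type u) (Y : ι → C) (f : ∀ i, Y i ⟶ U), Sieve.ofArrows Y f ∈ J U ∧ ∀ i, Y i ∈ B)
    (p : ℤ → ℤ)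
    (h : ∀ V ∈ B, ∀ (m : ℤ) (k : ℕ), p m < k →
      Subsingleton (ModSite.HU O ((DerivedCategory.homologyFunctor (ModSite.Mod O) (m - k)).obj E) k V)) :
    CohCx.IsRlimVia (CohCx.truncTower E) (CohCx.truncTowerMap E) E (CohCx.toTruncTower E) := by
  refine Groth.Agent.SitePull.isRlimVia_truncTower E B hB fun m V hV => ?_
  refine ⟨(max (p m) (p (m + 1)) - m + 1).toNat + (1 - m).toNat, fun T hT => ?_⟩
  choose κ Z g hg hgB using fun W : C => hB W
  let ι := Σ (W : C) (_ : { a : W ⟶ V // T.arrows a }), κ W
  refine ⟨ι, fun i => Z i.1 i.2.2, fun i => g i.1 i.2.2 ≫ i.2.1.1,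
    fun i => T.downward_closed i.2.1.2 _, ?_, fun i => ?_⟩
  · refine J.transitive hT _ fun W a ha => J.superset_covering ?_ (hg W)
    rintro W' b hb
    obtain ⟨k, c, rfl⟩ := (Sieve.mem_ofArrows_iff _ _ b).1 hb
    change (Sieve.ofArrows _ _).arrows ((c ≫ g W k) ≫ a)
    exact (Sieve.mem_ofArrows_iff _ _ _).2 ⟨⟨W, ⟨a, ha⟩, k⟩, c, Category.assoc _ _ _⟩
  · refine Groth.Agent.SitePull.stableAt_truncTower E _ m _ fun n hn => ⟨by omega, fun k hk => ?_⟩
    have hkp : ∀ m' : ℤ, m' - (k : ℤ) = -((n + 1 : ℕ) : ℤ) → p m' < k →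
        Subsingleton (ModSite.HU O ((DerivedCategory.homologyFunctor (ModSite.Mod O)
          (-((n + 1 : ℕ) : ℤ))).obj E) k (Z i.1 i.2.2)) := fun m' he hlt => by
      have := h _ (hgB i.1 i.2.2) m' k hlt
      rwa [he] at this
    rcases hk with hk | hk
    · exact hkp m (by omega) (by omega)
    · exact hkp (m + 1) (by omega) (by omega)

end Groth.Agent.S9042
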