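import Groth.Statements.S9044
import Groth.Agent.FreeCompact.NerveMapPB
import Groth.Agent.SiteCoh.ModuleFree

set_option autoImplicit false
universe u
open CategoryTheory CategoryTheory.Limits Opposite
open ModSite

namespace Groth.Agent.S9044

/-- Suppose the functor of sites u : C → D is both continuous and cocontinuous (sites with fibre
products; u sends coverings to coverings and commutes with fibre products), g the associated
morphism of topoi (g⁻¹ is precomposition with u, and g_! on sheaves of sets is the sheaf pullback
along u), O_D a sheaf of rings on D and I an injective O_D-module. If g_! commutes with fibre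
products then the abelian sheaf g⁻¹ I is totally acyclic. Stated for a sheaf of commutative rings
O_D. -/
theorem result
    {C : Type u} [SmallCategory C] [HasPullbacks C] (J : GrothendieckTopology C)
    {D : Type u} [SmallCategory D] [HasPullbacks D] (K : GrothendieckTopology D)
    (u : C ⥤ D) (hu : CoverPreserving J K u) [PreservesLimitsOfShape WalkingCospan u]
    [u.IsContinuous J K] [u.IsCocontinuous J K]
    (hfib : PreservesLimitsOfShape WalkingCospan (u.sheafPullback (Type u) J K))
    (O_D : Sheaf K CommRingCat.{u}) (I : ModSite.Mod O_D) (hI : Injective I) :
    CohCx.IsTotallyAcyclic ((u.sheafPushforwardContinuous AddCommGrpCat.{u} J K).obj (ModSite.toAb I)) := by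
  haveI := hfib; haveI := hI
  exact Groth.Agent.FreeCompact.NerveMapPB.isTotallyAcyclic_push (J := K) J u _
    (Groth.Agent.SiteCoh.ModuleFree.isTotallyAcyclic_toSheaf (ModSite.ringSh O_D) I)

end Groth.Agent.S9044
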