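import Groth.Statements.S9046
import Groth.Agent.PullFlat.Nullhom
import Groth.Agent.PerfTri.Cone
-- import your own Groth.Agent.* helpers here

set_option autoImplicit false
universe u
open CategoryTheory CategoryTheory.Limits Opposite
open ModSite

namespace Groth.Agent.S9046

/-- On a ringed site (C, O), let α : E → F and f : G → F be maps of complexes of O-modules where E is
strictly perfect and vanishes in degrees below a, and f induces isomorphisms on H^j for all j > a
and a surjection on H^a. Then locally α lifts through f up to homotopy: every object V has a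
covering sieve such that over each of its arrows W → V there is a map of complexes β : E|_W → G|_W
with β ≫ f|_W homotopic to α|_W. (The published statement is phrased over the localisation (C/U,
O_U) at an object U with a covering of U; this row states it at every object of an arbitrary ringed
site, which covers that case.) -/
theorem result
    {C : Type u} [SmallCategory C] {J : GrothendieckTopology C} (O : Sheaf J CommRingCat.{u})
    (E F G : CochainComplex (ModSite.Mod O) ℤ) (α : E ⟶ F) (f : G ⟶ F)
    (hE : DCoh.IsStrictlyPerfectMod (ModSite.ringSh O) E) (a : ℤ)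
    (hEa : ∀ j : ℤ, j < a → IsZero (E.X j))
    (hiso : ∀ j : ℤ, a < j → IsIso (HomologicalComplex.homologyMap f j))
    (hepi : Epi (HomologicalComplex.homologyMap f a)) (V : C) :
    ∃ R ∈ J V, ∀ ⦃W : C⦄ (g : W ⟶ V), R g →
      ∃ β : ((ModSite.restr O W).mapHomologicalComplex (ComplexShape.up ℤ)).obj E ⟶
          ((ModSite.restr O W).mapHomologicalComplex (ComplexShape.up ℤ)).obj G,
        Nonempty (Homotopy (β ≫ ((ModSite.restr O W).mapHomologicalComplex (ComplexShape.up ℤ)).map f)
          (((ModSite.restr O W).mapHomologicalComplex (ComplexShape.up ℤ)).map α)) := by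
  haveI : ∀ W : C, (ModSite.restr O W).Additive := fun W =>
    haveI := preservesBinaryBiproducts_of_preservesBinaryCoproducts (ModSite.restr O W)
    Functor.additive_of_preservesBinaryBiproducts _
  letI := HasDerivedCategory.standard (ModSite.Mod O)
  obtain ⟨⟨a', b, hv⟩, hfree⟩ := hE
  have hF : ∀ i : ℤ, a ≤ i → IsZero ((CochainComplex.mappingCone f).homology i) := fun i hi => by
    have : Epi (HomologicalComplex.homologyMap f i) := by
      rcases eq_or_lt_of_le hi with h | h
      · subst h; exact hepi
      · have := hiso i h
        infer_instance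
    have := hiso (i + 1) (by omega)
    exact Groth.Agent.PerfTri.Cone.isZero_homology_cone f i
  let α₁ := α ≫ CochainComplex.mappingCone.inr f
  obtain ⟨R, hR, hR'⟩ := Groth.Agent.PullFlat.exists_nullhomotopy a hfree hEa hF (b + 1 - a).toNat
    ((Groth.Agent.PullFlat.resCx O V).map α₁)
    (fun i hi => ((ModSite.restr O V).map_isZero (hv i (Or.inr (by omega)))).eq_of_src _ _)
  refine ⟨R, hR, fun W g hg => ?_⟩
  obtain ⟨H⟩ := hR' g hg
  let Φ := Groth.Agent.PullFlat.resCx O W
  have H' : Homotopy (Φ.map α₁) 0 :=
    (Homotopy.ofEq (Groth.Agent.PullFlat.resCxHom_map g α₁).symm).trans H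
  let e := CochainComplex.mappingCone.mapHomologicalComplexIso f (ModSite.restr O W)
  refine Groth.Agent.PerfTri.Cone.exists_lift_of_nullhomotopic (Φ.map α) (Φ.map f) ?_
  refine (Homotopy.ofEq ?_).trans ((H'.compRight e.hom).trans (Homotopy.ofEq zero_comp))
  rw [← CochainComplex.mappingCone.map_inr, ← Category.assoc, ← Functor.map_comp]

end Groth.Agent.S9046
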