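import Groth.Statements.S9071
import Groth.Agent.SitePull.Eps
import Groth.Agent.SitePull.UnitSingle

set_option autoImplicit false
universe u
open CategoryTheory CategoryTheory.Limits Opposite
attribute [local instance] HasDerivedCategory.standard
open SiteCmp

namespace Groth.Agent.S9071

/-- Let τ' be a coarser topology than τ on a category C, O a τ-sheaf of rings and ε the comparison
morphism from (C_τ, O) to (C_τ', O). Let B be a set of objects and A a full subcategory of
presheaves of O-modules such that (1) every object of A is a τ-sheaf, (2) A forms a weak Serre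
subcategory inside Mod(O_τ), (3) each object of C admits a τ'-covering by members of B, and (4)
H^p_τ(U, F) = 0 for U ∈ B, F ∈ A, p > 0. Then the essential image of A under ε_* forms a weak Serre
subcategory inside Mod(O_τ') and ε^*, Rε_* are quasi-inverse equivalences between D_A(O_τ') and
D_A(O_τ): on objects with cohomology sheaves in the respective subcategory, ε^* and Rε_* preserve
that condition and the unit and counit are isomorphisms. In the order of topologies used here the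
finer topology τ is the larger one, J, and τ' is J' ≤ J; A is given as a property of τ-sheaves of
modules (condition (1) built in); flatness of ε, existence of the unbounded Rε_* and an adjunction
ε^* ⊣ Rε_* are hypotheses. -/
theorem result
    {C : Type u} [SmallCategory C] {J J' : GrothendieckTopology C} (h : J' ≤ J) (O : Sheaf J CommRingCat.{u})
    [PreservesFiniteLimits (SiteCmp.eps h O).pull] [SiteCmp.HasRpushD (SiteCmp.eps h O)]
    (adj : SiteCmp.pullD (SiteCmp.eps h O) ⊣ SiteCmp.RpushD (SiteCmp.eps h O))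
    (A : ObjectProperty (ModSite.Mod O)) [WSerre.IsWeakSerre A] (B : Set C)
    (h3 : ∀ U : C, ∃ (ι : Type u) (Y : ι → C) (g : ∀ i, Y i ⟶ U), Sieve.ofArrows Y g ∈ J' U ∧ ∀ i, Y i ∈ B)
    (h4 : ∀ U ∈ B, ∀ F : ModSite.Mod O, A F → ∀ p : ℕ, 0 < p → Subsingleton (ModSite.HU O F p U)) :
    WSerre.IsWeakSerre (A.map (SiteCmp.eps h O).push) ∧
    (∀ Y : DerivedCategory (ModSite.Mod (SiteCmp.epsRing h O)), WSerre.cohIn (A.map (SiteCmp.eps h O).push) Y →
      WSerre.cohIn A ((SiteCmp.pullD (SiteCmp.eps h O)).obj Y) ∧ IsIso (adj.unit.app Y)) ∧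
    (∀ X : DerivedCategory (ModSite.Mod O), WSerre.cohIn A X →
      WSerre.cohIn (A.map (SiteCmp.eps h O).push) ((SiteCmp.RpushD (SiteCmp.eps h O)).obj X) ∧
      IsIso (adj.counit.app X)) := by
  have hW := Groth.Agent.SitePull.isWeakSerre_map_eps h O A B h3 h4
  have hB : ∀ U : C, ∃ (ι : Type u) (Y : ι → C) (g : ∀ i, Y i ⟶ U), Sieve.ofArrows Y g ∈ J U ∧ ∀ i, Y i ∈ B := by
    intro U
    obtain ⟨ι, Y, g, hg, hY⟩ := h3 U
    exact ⟨ι, Y, g, _root_.id (h U hg), hY⟩
  have hcof : ∀ (K₀ : GrothendieckTopology C), J' ≤ K₀ → ∀ (V : C) (T : Sieve V), T ∈ K₀ V →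
      ∃ (ι : Type u) (Y : ι → C) (g : ∀ i, Y i ⟶ V),
        (∀ i, T.arrows (g i)) ∧ Sieve.ofArrows Y g ∈ K₀ V ∧ ∀ i, Y i ∈ B := by
    intro K₀ hK V T hT
    choose κ Z g hg hgB using fun W : C => h3 W
    let ι := Σ (W : C) (_ : { a : W ⟶ V // T.arrows a }), κ W
    refine ⟨ι, fun i => Z i.1 i.2.2, fun i => g i.1 i.2.2 ≫ i.2.1.1, fun i => T.downward_closed i.2.1.2 _, ?_,
      fun i => hgB _ _⟩
    refine K₀.transitive hT _ fun W a ha => K₀.superset_covering ?_ (hK W (hg W))
    rintro W' b hb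
    obtain ⟨k, c, rfl⟩ := (Sieve.mem_ofArrows_iff _ _ b).1 hb
    change (Sieve.ofArrows _ _).arrows ((c ≫ g W k) ≫ a)
    exact (Sieve.mem_ofArrows_iff _ _ _).2 ⟨⟨W, ⟨a, ha⟩, k⟩, c, Category.assoc _ _ _⟩
  have h2a : ∀ F', A.map (SiteCmp.eps h O).push F' → A ((SiteCmp.eps h O).pull.obj F') := by
    rintro F' ⟨F, hF, ⟨e⟩⟩
    exact A.prop_of_iso ((Groth.Agent.SitePull.epsCounitIso h O F).symm ≪≫ (SiteCmp.eps h O).pull.mapIso e) hF
  have hunit : ∀ F', A.map (SiteCmp.eps h O).push F' → IsIso ((SiteCmp.eps h O).adj.unit.app F') := by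
    rintro F' ⟨F, hF, ⟨e⟩⟩
    have := Groth.Agent.SitePull.isIso_unit_eps h O F
    exact (NatTrans.isIso_app_iff_of_iso (SiteCmp.eps h O).adj.unit e).1 this
  refine ⟨hW, Groth.Agent.SitePull.equivalence (SiteCmp.eps h O) adj A (A.map (SiteCmp.eps h O).push) h2a ?_
    (fun F hF => ⟨_, A.prop_map_obj _ hF, ⟨Groth.Agent.SitePull.epsCounitIso h O F⟩⟩) ?_ B B hB ?_ h3 ?_⟩
  · intro F' G' hF' hG'
    have := hunit G' hG'
    have hφ : ∀ φ : F' ⟶ G', (SiteCmp.eps h O).adj.homEquiv F' _ ((SiteCmp.eps h O).pull.map φ) =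
        φ ≫ (SiteCmp.eps h O).adj.unit.app G' := fun φ => by
      rw [Adjunction.homEquiv_unit]
      exact ((SiteCmp.eps h O).adj.unit.naturality φ).symm
    refine (Function.Bijective.of_comp_iff' ((SiteCmp.eps h O).adj.homEquiv F' _).bijective _).1 ?_
    rw [show (⇑((SiteCmp.eps h O).adj.homEquiv F' _) ∘ fun φ : F' ⟶ G' => (SiteCmp.eps h O).pull.map φ) =
      fun φ => φ ≫ (SiteCmp.eps h O).adj.unit.app G' from funext hφ]
    exact (asIso ((SiteCmp.eps h O).adj.unit.app G')).homToEquiv.bijective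
  · intro F' hF'
    have := hunit F' hF'
    exact Groth.Agent.SitePull.isIso_unit_single (SiteCmp.eps h O) adj F' fun i hi =>
      Groth.Agent.SitePull.isZero_H_push (SiteCmp.eps h O) B h3 _ i hi fun V hV p hp => h4 V hV _ (h2a F' hF') p hp
  · intro V _
    refine ⟨0, fun T hT => ?_⟩
    obtain ⟨ι, Y, g, hg, hgJ, hY⟩ := hcof J h V T hT
    exact ⟨ι, Y, g, hg, hgJ, fun i F hF k hk => h4 _ (hY i) F hF k hk⟩
  · intro X hX _
    refine Groth.Agent.SitePull.stab_of_upstairs (SiteCmp.eps h O) A B (fun V _ => ⟨0, fun T hT => ?_⟩) X hX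
    obtain ⟨ι, Y, g, hg, hgJ, hY⟩ := hcof J' le_rfl V T hT
    exact ⟨ι, Y, g, hg, hgJ, fun i F hF k hk => h4 _ (hY i) F hF k hk⟩

end Groth.Agent.S9071
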