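import Groth.Statements.S9076
import Groth.Agent.SitePull.Derived

set_option autoImplicit false
universe u
open CategoryTheory CategoryTheory.Limits Opposite
attribute [local instance] HasDerivedCategory.standard
open SiteCmp

namespace Groth.Agent.S9076

/-- For a morphism f from the ringed site (C, O_C) to the ringed site (D, O_D), Rf_* commutes with
derived limits: if L = R lim K_n in D(O_C) through maps a_n : L → K_n, then Rf_*L = R lim Rf_*K_n
through the maps Rf_*a_n. Rf_* is the unbounded total derived direct image under its existence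
binder; the products of the two systems are instance hypotheses. Stated for ringed sites; the
published statement is for ringed topoi. -/
theorem result
    {C : Type u} [SmallCategory C] {J : GrothendieckTopology C} {O_C : Sheaf J CommRingCat.{u}}
    {D : Type u} [SmallCategory D] {K : GrothendieckTopology D} {O_D : Sheaf K CommRingCat.{u}}
    (f : ModSite.RMor O_C O_D) [SiteCmp.HasRpushD f]
    (E : ℕ → DerivedCategory (ModSite.Mod O_C)) (t : ∀ n, E (n + 1) ⟶ E n) [HasProduct E]
    (L : DerivedCategory (ModSite.Mod O_C)) (a : ∀ n, L ⟶ E n) (hL : CohCx.IsRlimVia E t L a)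
    [HasProduct fun n => (SiteCmp.RpushD f).obj (E n)] :
    CohCx.IsRlimVia (fun n => (SiteCmp.RpushD f).obj (E n)) (fun n => (SiteCmp.RpushD f).map (t n))
      ((SiteCmp.RpushD f).obj L) (fun n => (SiteCmp.RpushD f).map (a n)) := by
  obtain ⟨c, hT⟩ := hL
  obtain ⟨δ, hδ⟩ := Groth.Agent.CohDerLib.RFLim.distinguished_RF f.push _ hT
  have := Groth.Agent.SitePull.isRightAdjoint_rpushD f
  let R := SiteCmp.RpushD f
  have : R.Additive := Groth.Agent.CohDerLib.RFLim.additive_RF f.push
  have : PreservesLimit (Discrete.functor E) R := inferInstance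
  let φ := PreservesProduct.iso R E
  have hπ : ∀ n, φ.hom ≫ Pi.π (fun n => R.obj (E n)) n = R.map (Pi.π E n) := fun n => by
    rw [PreservesProduct.iso_hom]
    exact piComparison_comp_π R E n
  refine ⟨φ.inv ≫ δ, Pretriangulated.isomorphic_distinguished _ hδ _ ?_⟩
  refine Pretriangulated.Triangle.isoMk _ _ (Iso.refl _) φ.symm φ.symm ?_ ?_ ?_
  · change Pi.lift (fun n => R.map (a n)) ≫ φ.inv = 𝟙 _ ≫ R.map (Pi.lift a)
    rw [Category.id_comp, Iso.comp_inv_eq]
    refine Pi.hom_ext _ _ fun n => ?_
    rw [Pi.lift_π, Category.assoc, hπ, ← R.map_comp, Pi.lift_π]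
  · change Pi.lift (fun n => Pi.π (fun n => R.obj (E n)) n - Pi.π (fun n => R.obj (E n)) (n + 1) ≫ R.map (t n)) ≫
      φ.inv = φ.inv ≫ R.map (Pi.lift fun n => Pi.π E n - Pi.π E (n + 1) ≫ t n)
    rw [Iso.eq_inv_comp, ← Category.assoc, Iso.comp_inv_eq]
    refine Pi.hom_ext _ _ fun n => ?_
    rw [Category.assoc, Category.assoc, Pi.lift_π, hπ, ← R.map_comp, Pi.lift_π, R.map_sub, R.map_comp,
      Preadditive.comp_sub, ← Category.assoc, hπ, hπ]
  · change (φ.inv ≫ δ) ≫ (𝟙 (R.obj L))⟦(1 : ℤ)⟧' = φ.inv ≫ δ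
    exact (congrArg ((φ.inv ≫ δ) ≫ ·) (CategoryTheory.Functor.map_id _ _)).trans (Category.comp_id _)

end Groth.Agent.S9076
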