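import Groth.Statements.S9089


set_option autoImplicit false
universe u
open CategoryTheory Opposite
open ModSite

namespace Groth.Agent.S9089

/-- Part (1): ⇔ (2), for a ringed site (C, O) with C small and O a sheaf of commutative rings: the
following are equivalent. (1) For every object U and every section f of O over U there is a covering
sieve on U on each of whose arrows either f or 1 - f restricts to a unit. (2) For every object U,
every n ≥ 1 and all sections f₁, …, fₙ of O over U generating the unit ideal of O(U), there is a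
covering sieve on U on each of whose arrows some fᵢ restricts to a unit. -/
theorem result {C : Type u} [SmallCategory C] (J : GrothendieckTopology C)
    (O : Sheaf J CommRingCat.{u}) :
    (∀ (U : C) (f : O.obj.obj (op U)), ∃ S ∈ J U, ∀ ⦃V : C⦄ (g : V ⟶ U), S g →
        IsUnit ((O.obj.map g.op).hom f) ∨ IsUnit ((O.obj.map g.op).hom (1 - f))) ↔
    (∀ (U : C) (n : ℕ) (f : Fin n → O.obj.obj (op U)), 1 ≤ n → Ideal.span (Set.range f) = ⊤ →
        ∃ S ∈ J U, ∀ ⦃V : C⦄ (g : V ⟶ U), S g → ∃ i, IsUnit ((O.obj.map g.op).hom (f i))) := by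
  constructor
  · intro h
    suffices key : ∀ (n : ℕ) (U : C) (f a : Fin (n + 1) → O.obj.obj (op U)),
        IsUnit (∑ i, a i * f i) → ∃ S ∈ J U, ∀ ⦃V : C⦄ (g : V ⟶ U), S g →
          ∃ i, IsUnit ((O.obj.map g.op).hom (f i)) by
      intro U n f hn hspan
      obtain ⟨m, rfl⟩ : ∃ m, n = m + 1 := ⟨n - 1, by omega⟩
      obtain ⟨a, ha⟩ := Submodule.mem_span_range_iff_exists_fun _ |>.1
        ((Ideal.eq_top_iff_one _).1 hspan)
      exact key m U f a (by simp only [smul_eq_mul] at ha; rw [ha]; exact isUnit_one)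
    intro n
    induction n with
    | zero =>
      intro U f a hu
      refine ⟨⊤, J.top_mem U, fun V g _ => ⟨0, RingHom.isUnit_map _ ?_⟩⟩
      rw [Fin.sum_univ_one] at hu
      exact isUnit_of_mul_isUnit_right hu
    | succ n ih =>
      intro U f a hu
      obtain ⟨u, hu'⟩ := hu
      let x := (↑u⁻¹ : O.obj.obj (op U)) * a (Fin.last _) * f (Fin.last _)
      obtain ⟨S, hS, hS'⟩ := h U x
      have key : ∀ ⦃V : C⦄ (g : V ⟶ U), S g → ∃ T ∈ J V, ∀ ⦃W : C⦄ (k : W ⟶ V), T k →
          ∃ i, IsUnit ((O.obj.map (k ≫ g).op).hom (f i)) := by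
        intro V g hg
        rcases hS' g hg with hx | hx
        · refine ⟨⊤, J.top_mem V, fun W k _ => ⟨Fin.last _, ?_⟩⟩
          rw [op_comp, Functor.map_comp]
          refine RingHom.isUnit_map (O.obj.map k.op).hom ?_
          simp only [x, map_mul] at hx
          exact isUnit_of_mul_isUnit_right hx
        · have he : 1 - x = ↑u⁻¹ * ∑ i : Fin (n + 1), a i.castSucc * f i.castSucc := by
            have hsum : (u : O.obj.obj (op U)) = (∑ i : Fin (n + 1), a i.castSucc * f i.castSucc) +
                a (Fin.last _) * f (Fin.last _) := by rw [hu', Fin.sum_univ_castSucc]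
            calc 1 - x = ↑u⁻¹ * (u : O.obj.obj (op U)) - x := by rw [Units.inv_mul]
              _ = _ := by rw [hsum]; ring
          rw [he, map_mul] at hx
          obtain ⟨T, hT, hT'⟩ := ih V (fun i => (O.obj.map g.op).hom (f i.castSucc))
            (fun i => (O.obj.map g.op).hom (a i.castSucc))
            (by simpa only [map_sum, map_mul] using isUnit_of_mul_isUnit_right hx)
          refine ⟨T, hT, fun W k hk => ?_⟩
          obtain ⟨i, hi⟩ := hT' k hk
          exact ⟨i.castSucc, by rw [op_comp, Functor.map_comp]; exact hi⟩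
      choose T hT hT' using key
      refine ⟨Sieve.bind S T, J.bind_covering hS hT, ?_⟩
      rintro W _ ⟨V, k, g, hg, hk, rfl⟩
      exact hT' g hg k hk
  · intro h U f
    have hspan : Ideal.span (Set.range ![f, 1 - f]) = ⊤ := by
      rw [Ideal.eq_top_iff_one]
      have h₁ : f ∈ Ideal.span (Set.range ![f, 1 - f]) := Ideal.subset_span ⟨0, rfl⟩
      have h₂ : 1 - f ∈ Ideal.span (Set.range ![f, 1 - f]) := Ideal.subset_span ⟨1, rfl⟩
      simpa using Ideal.add_mem _ h₁ h₂
    obtain ⟨S, hS, hS'⟩ := h U 2 ![f, 1 - f] (by omega) hspan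
    refine ⟨S, hS, fun V g hg => ?_⟩
    obtain ⟨i, hi⟩ := hS' g hg
    fin_cases i
    · exact Or.inl hi
    · exact Or.inr hi

end Groth.Agent.S9089
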