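import Groth.Statements.S9091
import Groth.Agent.ModFlat.PointGerm

set_option autoImplicit false
universe u
open CategoryTheory Opposite
open ModSite

namespace Groth.Agent.S9091

/-- Part (2): ⇒ (1) when the site has enough points, for a ringed site (C, O) with C small and O a sheaf
of commutative rings: if at every point p of the site the stalk O_p is the zero ring or is local,
then for every object U and every section f of O over U there is a covering sieve on U on each of
whose arrows either f or 1 - f restricts to a unit. -/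
theorem result {C : Type u} [SmallCategory C] {J : GrothendieckTopology C}
    (O : Sheaf J CommRingCat.{u}) [GrothendieckTopology.HasEnoughPoints.{u} J]
    (h : ∀ p : GrothendieckTopology.Point.{u} J, Subsingleton (ModSite.stalkRing p O) ∨ IsLocalRing (ModSite.stalkRing p O))
    (U : C) (f : O.obj.obj (op U)) :
    ∃ S ∈ J U, ∀ ⦃V : C⦄ (g : V ⟶ U), S g →
        IsUnit ((O.obj.map g.op).hom f) ∨ IsUnit ((O.obj.map g.op).hom (1 - f)) := by
  obtain ⟨P, _, hP⟩ := GrothendieckTopology.HasEnoughPoints.exists_objectProperty.{u} J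
  let Good : ∀ ⦃V : C⦄, (V ⟶ U) → Prop := fun V g =>
    IsUnit ((O.obj.map g.op).hom f) ∨ IsUnit ((O.obj.map g.op).hom (1 - f))
  let ι : Type u := Σ V : C, { g : V ⟶ U // Good g }
  refine ⟨Sieve.ofArrows (fun i : ι => i.1) (fun i => i.2.1), ?_, ?_⟩
  · rw [hP.jointly_reflect_ofArrows_mem]
    intro Φ x
    have key : ∀ r, IsUnit (ModSite.germRing Φ.obj U x r) → ∃ (V : C) (g : V ⟶ U) (v : Φ.obj.fiber.obj V),
        Φ.obj.fiber.map g v = x ∧ IsUnit ((O.obj.map g.op).hom r) := by
      intro r hr
      obtain ⟨b, hb⟩ := hr.exists_right_inv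
      obtain ⟨V, g, v, hv, c, rfl⟩ := Groth.Agent.ModFlat.exists_germRing x b
      have h1 : ModSite.germRing Φ.obj V v ((O.obj.map g.op).hom r * c) = ModSite.germRing Φ.obj V v 1 := by
        refine (map_mul (Φ.obj.toPresheafFiber V v O.obj).hom _ _).trans (Eq.trans ?_
          (map_one (Φ.obj.toPresheafFiber V v O.obj).hom).symm)
        rw [← Groth.Agent.ModFlat.germRing_res hv] at hb
        exact hb
      obtain ⟨W, k, w, hw, hk⟩ := Groth.Agent.ModFlat.exists_eq_of_germRing_eq v h1
      refine ⟨W, k ≫ g, w, hv.comp hw, ?_⟩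
      rw [map_mul, map_one] at hk
      rw [op_comp, Functor.map_comp]
      exact IsUnit.of_mul_eq_one _ hk
    have hu : IsUnit (ModSite.germRing Φ.obj U x f) ∨ IsUnit (ModSite.germRing Φ.obj U x (1 - f)) := by
      rcases h Φ.obj with hs | hl
      · exact Or.inl (isUnit_of_subsingleton _)
      · refine hl.isUnit_or_isUnit_of_add_one ?_
        refine (map_add (Φ.obj.toPresheafFiber U x O.obj).hom _ _).symm.trans ?_
        rw [add_sub_cancel]
        exact map_one (Φ.obj.toPresheafFiber U x O.obj).hom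
    rcases hu with hu | hu
    · obtain ⟨V, g, v, hv, hg⟩ := key f hu
      exact ⟨⟨V, g, Or.inl hg⟩, v, hv⟩
    · obtain ⟨V, g, v, hv, hg⟩ := key (1 - f) hu
      exact ⟨⟨V, g, Or.inr hg⟩, v, hv⟩
  · rintro W _ ⟨V, k, _, ⟨⟨⟨V, g, hg⟩⟩, rfl⟩⟩
    rcases hg with hg | hg
    · exact Or.inl (by rw [op_comp, Functor.map_comp]; exact hg.map (O.obj.map k.op).hom)
    · exact Or.inr (by rw [op_comp, Functor.map_comp]; exact hg.map (O.obj.map k.op).hom)

end Groth.Agent.S9091
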