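import Groth.Statements.S9094
import Groth.Agent.KFlat.Flat

set_option autoImplicit false
universe u
open CategoryTheory
open ModSite

namespace Groth.Agent.S9094

/-- Part (4): on a small ringed site (C, O) with O commutative: every O-module is a quotient of a flat
O-module; there exist a flat O-module G (tensoring with G is exact) and an epimorphism G → F. -/
theorem result {C : Type u} [SmallCategory C] {J : GrothendieckTopology C}
    (O : Sheaf J CommRingCat.{u}) (F : ModSite.Mod O) :
    ∃ (G : ModSite.Mod O) (π : G ⟶ F), ModSite.IsFlat G ∧ Epi π := by
  exact ⟨Groth.Agent.KFlat.freeCover O F, Groth.Agent.KFlat.freeCoverπ O F,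
    Groth.Agent.KFlat.isFlat_of_tensorMono (Groth.Agent.KFlat.tensorMono_freeCover O F), inferInstance⟩

end Groth.Agent.S9094
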