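import Groth.Statements.S9097
import Groth.Agent.SiteCoh.ConstSections
import Mathlib.CategoryTheory.Sites.Abelian
import Mathlib.Algebra.Category.Grp.Abelian

set_option autoImplicit false
universe u
open CategoryTheory Opposite
open CohSite

namespace Groth.Agent.S9097

/-- If 0 → A → B → C → 0 is short exact in the category of abelian groups then, for every object U, the
sequence 0 → A̲(U) → B̲(U) → C̲(U) → 0 of sections of the constant abelian sheaves is short exact;
in other words the sequence of constant sheaves is exact even as a sequence of abelian presheaves.
The instance binder on the sections-of-constant-sheaf functor (it preserves zero morphisms) always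
holds and is only needed to form the complex. -/
theorem result {C : Type u} [SmallCategory C] (J : GrothendieckTopology C)
    (S : ShortComplex AddCommGrpCat.{u}) (hS : S.ShortExact) (U : C)
    [(constantSheaf J AddCommGrpCat.{u} ⋙ (sheafSections J AddCommGrpCat.{u}).obj (op U)).PreservesZeroMorphisms] :
    (S.map (constantSheaf J AddCommGrpCat.{u} ⋙ (sheafSections J AddCommGrpCat.{u}).obj (op U))).ShortExact := by
  open Limits in
  let F := constantSheaf J AddCommGrpCat.{u} ⋙ (sheafSections J AddCommGrpCat.{u}).obj (op U)
  have : PreservesFiniteLimits (constantSheaf J AddCommGrpCat.{u}) := comp_preservesFiniteLimits _ _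
  have : PreservesFiniteLimits F :=
    inferInstanceAs (PreservesFiniteLimits (constantSheaf J AddCommGrpCat.{u} ⋙
      sheafToPresheaf J AddCommGrpCat.{u} ⋙ (evaluation Cᵒᵖ AddCommGrpCat.{u}).obj (op U)))
  have := hS.mono_f
  have := hS.epi_g
  exact
    { exact := ShortComplex.exact_of_f_is_kernel _ (KernelFork.mapIsLimit _ hS.fIsKernel F)
      mono_f := inferInstanceAs (Mono (F.map S.f))
      epi_g := (AddCommGrpCat.epi_iff_surjective _).2
        (Groth.Agent.SiteCoh.ConstSections.surjective_sections J S.g
          ((AddCommGrpCat.epi_iff_surjective _).1 hS.epi_g) U) }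

end Groth.Agent.S9097
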