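import Groth.Statements.S9104
import Groth.Agent.InvRing.Basic

set_option autoImplicit false
universe u
open CategoryTheory
open ModSite

namespace Groth.Agent.S9104

/-- Part (1): for a morphism of ringed sites f : (C, O_C) → (D, O_D) between small sites with
commutative structure sheaves (only the underlying morphism of topoi is used): if (D, O_D) is a
locally ringed site then C equipped with the pulled-back sheaf of rings f⁻¹O_D is a locally ringed
site. -/
theorem result {C D : Type u} [SmallCategory C] [SmallCategory D] {J : GrothendieckTopology C}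
    {K : GrothendieckTopology D} {O_C : Sheaf J CommRingCat.{u}} {O_D : Sheaf K CommRingCat.{u}}
    (f : ModSite.RMor O_C O_D) (hD : ModSite.IsLocallyRinged K O_D) : ModSite.IsLocallyRinged J f.invRing := by
  refine ⟨fun U x => ?_, fun U h01 => ?_⟩
  · obtain ⟨S, hS, hS'⟩ := Groth.Agent.InvRing.exists_pl0 f x
    refine Groth.Agent.PullFlat.exists_cover_bind _ hS fun W g hg => ?_
    obtain ⟨V, b, r, hr⟩ := hS' g hg
    obtain ⟨R, hR, hR'⟩ := hD.1 V r
    obtain ⟨T, hT, hT'⟩ := (Groth.Agent.PullFlat.covFlat_rmor f).cover R hR b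
    refine ⟨T, hT, fun W' k hk => ?_⟩
    obtain ⟨V', q, b', hq, hb'⟩ := hT' k hk
    have e : (f.invRing.obj.map (k ≫ g).op).hom x = Groth.Agent.InvRing.pl0 f b' ((O_D.obj.map q.op).hom r) := by
      rw [Groth.Agent.ModFlat.map_ring_comp, hr, Groth.Agent.InvRing.pl0_res, hb', Groth.Agent.InvRing.pl0_map]
    rcases hR' q hq with hu | hu
    · exact Or.inl (e ▸ hu.map _)
    · refine Or.inr ?_
      have := hu.map (Groth.Agent.InvRing.pl0 f b')
      rw [map_sub, map_sub, map_one, map_one, ← e] at this
      rw [map_sub, map_one]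
      exact this
  · have key : ∀ ⦃W : C⦄ (g : W ⟶ U) (V : D) (b : W ⟶ f.fn.obj V), (⊥ : Sieve W) ∈ J W := fun W g V b => by
      have h : Groth.Agent.InvRing.pl0 f b 1 = 0 := by
        rw [map_one, ← map_one (f.invRing.obj.map g.op).hom, ← h01, map_zero]
      obtain ⟨S, hS, hS'⟩ := Groth.Agent.InvRing.pl0_eq_zero f b 1 h
      refine J.transitive hS _ fun W' k hk => ?_
      obtain ⟨V', q, b', -, hq⟩ := hS' k hk
      rw [map_one] at hq
      obtain ⟨T, hT, hT'⟩ := (Groth.Agent.PullFlat.covFlat_rmor f).cover _ (hD.2 V' hq.symm) b'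
      refine J.superset_covering (fun W'' h hh => ?_) hT
      obtain ⟨V'', r, b'', hr, -⟩ := hT' h hh
      exact hr.elim
    obtain ⟨S, hS, hS'⟩ := (Groth.Agent.PullFlat.covFlat_rmor f).some U
    refine J.transitive hS _ fun W g hg => ?_
    obtain ⟨V, ⟨b⟩⟩ := hS' g hg
    exact J.superset_covering bot_le (key g V b)

end Groth.Agent.S9104
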