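import Groth.Statements.S9108
import Groth.Agent.SiteCoh.SubTerminal
import Mathlib.Algebra.Category.Grp.Limits

set_option autoImplicit false
universe u
open CategoryTheory
open CohSite

namespace Groth.Agent.S9108

/-- Let u : C ⥤ D be a functor between small sites which is cocontinuous, continuous (restriction along
u preserves sheaves, and u sends covering families to covering families) and fully faithful; let g
be the morphism of topoi attached to u, so that g⁻¹ is restriction along u, g_* its right adjoint
and g_! its left adjoint on abelian sheaves. Then for every abelian sheaf F on C the canonical maps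
F → g⁻¹g_!F (unit) and g⁻¹g_*F → F (counit) are isomorphisms. -/
theorem result {C D : Type u} [SmallCategory C] [SmallCategory D]
    (J : GrothendieckTopology C) (K : GrothendieckTopology D) (u : C ⥤ D)
    [u.IsCocontinuous J K] [u.IsContinuous J K] (hu : CoverPreserving J K u) [u.Full] [u.Faithful]
    (F : Sheaf J AddCommGrpCat.{u}) :
    IsIso ((u.sheafAdjunctionContinuous AddCommGrpCat.{u} J K).unit.app F) ∧
      IsIso ((u.sheafAdjunctionCocontinuous AddCommGrpCat.{u} J K).counit.app F) := by
  let A := AddCommGrpCat.{u}
  let t : Adjunction.Triple _ _ _ :=
    ⟨u.sheafAdjunctionContinuous A J K, u.sheafAdjunctionCocontinuous A J K⟩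
  have h : (u.sheafPushforwardCocontinuous A J K).FullyFaithful := by
    have hr : (u.op.ran (H := A)).FullyFaithful := (u.op.ranAdjunction A).fullyFaithfulROfIsIsoCounit
    exact Functor.FullyFaithful.ofCompFaithful
      (G := sheafToPresheaf K A) ((fullyFaithfulSheafToPresheaf _ A).comp hr)
  have := h.full
  have := h.faithful
  have h2 : IsIso (u.sheafAdjunctionCocontinuous A J K).counit := inferInstanceAs (IsIso t.adj₂.counit)
  have h1 : IsIso (u.sheafAdjunctionContinuous A J K).unit := t.isIso_unit_iff_isIso_counit.2 h2
  exact ⟨inferInstance, inferInstance⟩

end Groth.Agent.S9108
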