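import Groth.Statements.S9109
import Mathlib.Algebra.Category.Grp.AB
import Mathlib.CategoryTheory.Abelian.Exact

set_option autoImplicit false
universe u
open CategoryTheory CategoryTheory.Limits
open CohSite

namespace Groth.Agent.S9109

/-- Part (1): on a small site (C, J) with a point p: the skyscraper functor p_* from abelian groups to
abelian sheaves on C (right adjoint to the stalk functor at p; its value on A is the sheaf U ↦ ∏_{x
∈ p⁻¹U} A) is exact. As a right adjoint it preserves limits; the statement here is that it also
preserves finite colimits. -/
theorem result {C : Type u} [SmallCategory C] {J : GrothendieckTopology C}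
    (p : GrothendieckTopology.Point.{u} J) :
    PreservesFiniteColimits (p.skyscraperSheafFunctor (A := AddCommGrpCat.{u})) := by
  let F := p.skyscraperSheafFunctor (A := AddCommGrpCat.{u})
  have : PreservesLimitsOfShape (Discrete WalkingPair) F := inferInstance
  have : F.Additive := F.additive_of_preserves_binary_products
  have : F.PreservesEpimorphisms := ⟨fun {A B} f _ => by
    apply (sheafToPresheaf J AddCommGrpCat.{u}).epi_of_epi_map
    rw [NatTrans.epi_iff_epi_app]
    intro U
    show Epi (Limits.Pi.map fun _ : p.fiber.obj U.unop => f)
    rw [AddCommGrpCat.epi_iff_surjective]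
    intro y
    have hf := (AddCommGrpCat.epi_iff_surjective f).1 inferInstance
    choose x hx using fun i => hf (Limits.Pi.π (fun _ : p.fiber.obj U.unop => B) i y)
    refine ⟨(Concrete.productEquiv (fun _ : p.fiber.obj U.unop => A)).symm x, ?_⟩
    apply (Concrete.productEquiv (fun _ : p.fiber.obj U.unop => B)).injective
    funext i
    rw [Concrete.productEquiv_apply_apply, Concrete.productEquiv_apply_apply]
    rw [← ConcreteCategory.comp_apply, Limits.Pi.map_π, ConcreteCategory.comp_apply,
      Concrete.productEquiv_symm_apply_π, hx]⟩
  have : F.PreservesHomology := F.preservesHomology_of_preservesEpis_and_kernels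
  exact F.preservesFiniteColimits_of_preservesHomology

end Groth.Agent.S9109
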