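import Groth.Statements.S9113
import Groth.Agent.ModExt.Stalk

set_option autoImplicit false
universe u
open CategoryTheory
open ModSite

namespace Groth.Agent.S9113

open CategoryTheory.Limits in
/-- On a small ringed site (C, O) with O commutative: let U be an object, G an O_U-module on the
localised site C/U and p a point of the site. The points of C/U lying over p correspond to the
elements x of the fibre of p at U, and the stalk of the extension by zero j_{U!}G at p is isomorphic
to the direct sum over these points of the stalks of G. Stated for the underlying abelian groups,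
existence of an isomorphism only. -/
theorem result {C : Type u} [SmallCategory C] {J : GrothendieckTopology C}
    (O : Sheaf J CommRingCat.{u}) (U : C) (G : ModSite.Mod (O.over U))
    (p : GrothendieckTopology.Point.{u} J) :
    Nonempty (ModSite.stalkAb p ((ModSite.extZero O U).obj G) ≅ ∐ fun x : p.fiber.obj U => ModSite.stalkAb (p.over x) G) := by
  classical
  let P := (ModSite.toPre (O.over U)).obj G
  let u := (Groth.Agent.KFlat.preAdj O).unit.app ((Groth.Agent.ModExt.extPre O U).obj P)
  obtain ⟨h₁, h₂⟩ := (Groth.Agent.KFlat.isIso_shPre_map_iff u).1 inferInstance
  have : IsIso (p.presheafFiber.map ((PresheafOfModules.toPresheaf _).map u)) :=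
    (ConcreteCategory.isIso_iff_bijective _).2
      (GrothendieckTopology.Point.toPresheafFiber_map_bijective p _)
  exact ⟨p.sheafFiber.mapIso ((SheafOfModules.toSheaf (ModSite.ringSh O)).mapIso
      ((Groth.Agent.ModExt.extZeroIso O U).app G)) ≪≫
    (asIso (p.presheafFiber.map ((PresheafOfModules.toPresheaf _).map u))).symm ≪≫
    Groth.Agent.ModExt.stalkPreIso O U P p⟩

end Groth.Agent.S9113
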