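import Groth.Statements.S9121
import Mathlib.CategoryTheory.Sites.EpiMono
import Mathlib.CategoryTheory.Sites.Abelian
import Mathlib.CategoryTheory.Abelian.Exact

set_option autoImplicit false
universe u
open CategoryTheory CategoryTheory.Limits
open CohSite

namespace Groth.Agent.S9121

/-- Part (1): for the morphism of topoi f : Sh(C) → Sh(D) attached to a continuous functor u : D ⥤ C
between small sites whose induced pullback of sheaves of sets is exact (f_* is restriction along u):
if f_* transforms epimorphisms of sheaves of sets into epimorphisms, then f_* on abelian sheaves is
exact; being a right adjoint it preserves finite limits, and the statement is that it also preserves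
finite colimits. -/
theorem result {C D : Type u} [SmallCategory C] [SmallCategory D]
    (J : GrothendieckTopology C) (K : GrothendieckTopology D) (u : D ⥤ C) [u.IsContinuous K J]
    [PreservesFiniteLimits (u.sheafPullback (Type u) K J)]
    [(u.sheafPushforwardContinuous (Type u) K J).PreservesEpimorphisms] :
    PreservesFiniteColimits (u.sheafPushforwardContinuous AddCommGrpCat.{u} K J) := by
  let F := u.sheafPushforwardContinuous AddCommGrpCat.{u} K J
  let T := u.sheafPushforwardContinuous (Type u) K J
  have : PreservesLimitsOfShape (Discrete WalkingPair) F := inferInstance
  have : F.Additive := F.additive_of_preserves_binary_products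
  have : F.PreservesEpimorphisms := ⟨fun {A B} f _ => by
    have h : Sheaf.IsLocallySurjective f := (Sheaf.isLocallySurjective_iff_epi' _ f).2 inferInstance
    have : Epi ((sheafCompose J (forget AddCommGrpCat.{u})).map f) := inferInstance
    have h2 : Epi ((sheafCompose K (forget AddCommGrpCat.{u})).map (F.map f)) :=
      inferInstanceAs (Epi (T.map ((sheafCompose J (forget AddCommGrpCat.{u})).map f)))
    exact (sheafCompose K (forget AddCommGrpCat.{u})).epi_of_epi_map h2⟩
  have : F.PreservesHomology := F.preservesHomology_of_preservesEpis_and_kernels
  exact F.preservesFiniteColimits_of_preservesHomology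

end Groth.Agent.S9121
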