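import Groth.Statements.S9124
import Groth.Agent.PtTop.Catenary
import Mathlib.RingTheory.Localization.Ideal

open Groth.Agent.PtTop.Catenary


set_option autoImplicit false
universe u
open CAlg

namespace Groth.Agent.S9124

/-- A localization of a catenary ring is catenary. -/
theorem result (A : Type u) [CommRing A] (S : Submonoid A)
    (B : Type u) [CommRing B] [Algebra A B] [IsLocalization S B]
    (hA : CAlg.IsCatenary A) : CAlg.IsCatenary B := by
  refine (cat_iff_isCatenary B).mpr (((cat_iff_isCatenary A).mp hA).of_embedding
    (OrderEmbedding.ofMapLEIff (PrimeSpectrum.comap (algebraMap A B)) fun p q => ?_) ?_)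
  · exact (IsLocalization.orderEmbedding S B).le_iff_le
  · change (Set.range (PrimeSpectrum.comap (algebraMap A B))).OrdConnected
    rw [PrimeSpectrum.localization_comap_range B S]
    exact ⟨fun p _ q hq x hx => Set.disjoint_of_subset_right (fun y hy => hx.2 hy) hq⟩

end Groth.Agent.S9124
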