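import Groth.Statements.S9127
import Groth.Agent.PtTop.Catenary
import Mathlib.RingTheory.Spectrum.Prime.RingHom
import Mathlib.RingTheory.Ideal.MinimalPrime.Basic
-- import your own Groth.Agent.* helpers here

set_option autoImplicit false
universe u
open CAlg

namespace Groth.Agent.S9127

/-- A Noetherian ring is catenary if and only if its quotient by every minimal prime is catenary. -/
theorem result (R : Type u) [CommRing R] [IsNoetherianRing R] :
    CAlg.IsCatenary R ↔ ∀ p ∈ minimalPrimes R, CAlg.IsCatenary (R ⧸ p) := by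
  open Groth.Agent.PtTop.Catenary in
  refine ⟨fun h p _ => isCatenary_of_surjective (Ideal.Quotient.mk p) Ideal.Quotient.mk_surjective h, fun h => cat_of_cover fun a b hab => ?_⟩
  obtain ⟨m, hm, hma⟩ := Ideal.exists_minimalPrimes_le (I := (⊥ : Ideal R)) (J := a.asIdeal) bot_le
  refine ⟨_, inferInstance, (m.primeSpectrumQuotientOrderIsoZeroLocus.toOrderEmbedding).trans (OrderEmbedding.subtype _), ?_, ?_, ?_, h m hm⟩
  all_goals
    have : Set.range ((m.primeSpectrumQuotientOrderIsoZeroLocus.toOrderEmbedding).trans (OrderEmbedding.subtype _)) = PrimeSpectrum.zeroLocus (m : Set R) := by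
      ext x
      exact ⟨by rintro ⟨y, rfl⟩; exact (m.primeSpectrumQuotientOrderIsoZeroLocus y).2, fun hx => ⟨m.primeSpectrumQuotientOrderIsoZeroLocus.symm ⟨x, hx⟩, by simp⟩⟩
    rw [this]
  · exact ⟨fun p hp q _ x hx => Set.Subset.trans hp hx.1⟩
  · exact hma
  · exact Set.Subset.trans hma hab

end Groth.Agent.S9127
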