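import Groth.Statements.S9128
import Groth.Agent.PtTop.Catenary
import Groth.Agent.LocCoh.Connected

set_option autoImplicit false
universe u
open CAlg

namespace Groth.Agent.S9128

/-- A Noetherian local ring A is catenary if and only if the assignment sending a prime p to the Krull
dimension of A/p is a dimension function on Spec A, i.e. it decreases strictly along strict
inclusions of primes and drops by exactly one along inclusions with no prime strictly in between. -/
theorem result (A : Type u) [CommRing A] [IsNoetherianRing A]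
    [IsLocalRing A] :
    CAlg.IsCatenary A ↔
      ∀ p q : PrimeSpectrum A, p < q →
        ringKrullDim (A ⧸ q.asIdeal) < ringKrullDim (A ⧸ p.asIdeal) ∧
          (p ⋖ q → ringKrullDim (A ⧸ p.asIdeal) = ringKrullDim (A ⧸ q.asIdeal) + 1) := by
  have hfin : ∀ p : PrimeSpectrum A, Order.coheight p ≠ ⊤ := fun p h => by
    have h1 : (Order.coheight p : WithBot ℕ∞) ≤ ringKrullDim A := Order.coheight_le_krullDim p
    rw [h] at h1
    exact absurd (h1.trans_lt ringKrullDim_lt_top) (lt_irrefl _)
  have hq : ∀ p : PrimeSpectrum A, ringKrullDim (A ⧸ p.asIdeal) = (Order.coheight p : WithBot ℕ∞) := by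
    intro p
    rw [Order.coheight_eq_krullDim_Ici, ringKrullDim_quotient]
    refine Order.krullDim_eq_of_orderIso (OrderIso.setCongr _ _ ?_)
    ext q
    exact PrimeSpectrum.mem_zeroLocus q _
  refine ⟨fun h p q hlt => ⟨?_, fun hc => LocCoh.ringKrullDim_quotient_covBy h hc⟩, fun h => ?_⟩
  · rw [hq, hq]
    exact_mod_cast Order.coheight_strictAnti hlt (hfin q).lt_top
  · refine (PtTop.Catenary.cat_iff_isCatenary A).2 (PtTop.Catenary.cat_of_rank
      (fun p => -((Order.coheight p).toNat : ℤ)) (fun p q hlt => ?_) fun p q hc => ?_)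
    · obtain ⟨a, ha⟩ := ENat.ne_top_iff_exists.1 (hfin p)
      obtain ⟨b, hb⟩ := ENat.ne_top_iff_exists.1 (hfin q)
      have := Order.coheight_strictAnti hlt (hfin q).lt_top
      rw [← ha, ← hb] at this
      simp only [← ha, ← hb, ENat.toNat_natCast, neg_lt_neg_iff, Nat.cast_lt]
      exact_mod_cast this
    · obtain ⟨a, ha⟩ := ENat.ne_top_iff_exists.1 (hfin p)
      obtain ⟨b, hb⟩ := ENat.ne_top_iff_exists.1 (hfin q)
      have h2 := (h p q hc.lt).2 hc
      rw [hq, hq, ← ha, ← hb] at h2
      have h3 : (a : ℕ∞) = b + 1 := by exact_mod_cast h2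
      have h4 : a = b + 1 := by exact_mod_cast h3
      simp only [← ha, ← hb, ENat.toNat_natCast]
      omega

end Groth.Agent.S9128
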