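import Groth.Statements.S9129
import Groth.Agent.S2604
import Groth.Agent.Dim.LocalHom
import Groth.Agent.Depth.Local
import Groth.Agent.Depth.CM
import Groth.Agent.RegLoc.Basic
import Mathlib.RingTheory.Artinian.Ring
-- import your own Groth.Agent.* helpers here

set_option autoImplicit false
set_option linter.style.haveILetI false
universe u
open CAlg

namespace Groth.Agent.S9129

/-- Suppose R → S is a flat local homomorphism between Noetherian local rings, with R Cohen–Macaulay.
Assume either that S is finite over R or that the Krull dimension of S is at most that of R. Then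
the two rings have equal dimension and S is itself Cohen–Macaulay. -/
theorem result (R S : Type u) [CommRing R] [CommRing S]
    [LocCoh.IsCohenMacaulayLocalRing R] [IsNoetherianRing S] [IsLocalRing S] [Algebra R S]
    [IsLocalHom (algebraMap R S)] [Module.Flat R S]
    (h : Module.Finite R S ∨ ringKrullDim S ≤ ringKrullDim R) :
    LocCoh.IsCohenMacaulayLocalRing S ∧ ringKrullDim R = ringKrullDim S := by
  classical
  have hne : (IsLocalRing.maximalIdeal R).map (algebraMap R S) ≠ ⊤ :=
    ne_top_of_le_ne_top (IsLocalRing.maximalIdeal.isMaximal S).ne_top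
      (Ideal.map_le_iff_le_comap.2 fun r hr => map_nonunit (algebraMap R S) r hr)
  haveI : Nontrivial (S ⧸ (IsLocalRing.maximalIdeal R).map (algebraMap R S)) :=
    Ideal.Quotient.nontrivial_iff.2 hne
  have hadd := Groth.Agent.Dim.ringKrullDim_eq_add_fibre (A := R) (B := S)
  have h0 : ringKrullDim (S ⧸ (IsLocalRing.maximalIdeal R).map (algebraMap R S)) = 0 := by
    refine le_antisymm ?_ ringKrullDim_nonneg_of_nontrivial
    rcases h with h | h
    · haveI : Module.Finite R (S ⧸ (IsLocalRing.maximalIdeal R).map (algebraMap R S)) :=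
        Module.Finite.of_surjective ((Ideal.Quotient.mkₐ R _).toLinearMap) Ideal.Quotient.mk_surjective
      letI := Ideal.Quotient.field (IsLocalRing.maximalIdeal R)
      haveI : Module.Finite (R ⧸ IsLocalRing.maximalIdeal R)
          (S ⧸ (IsLocalRing.maximalIdeal R).map (algebraMap R S)) := Module.Finite.of_restrictScalars_finite R _ _
      haveI := IsArtinianRing.of_finite (R ⧸ IsLocalRing.maximalIdeal R)
        (S ⧸ (IsLocalRing.maximalIdeal R).map (algebraMap R S))
      exact Ring.krullDimLE_iff.mp inferInstance
    · haveI : IsLocalRing (S ⧸ (IsLocalRing.maximalIdeal R).map (algebraMap R S)) :=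
        IsLocalRing.of_surjective' (Ideal.Quotient.mk _) Ideal.Quotient.mk_surjective
      obtain ⟨f, hf⟩ : ∃ f : ℕ, ringKrullDim (S ⧸ (IsLocalRing.maximalIdeal R).map (algebraMap R S)) = f :=
        (Groth.Agent.RegLoc.exists_natCast_eq_ringKrullDim _).imp fun _ h => h.1
      obtain ⟨n, hn⟩ : ∃ n : ℕ, ringKrullDim R = n :=
        (Groth.Agent.RegLoc.exists_natCast_eq_ringKrullDim R).imp fun _ h => h.1
      rw [hadd, hn, hf] at h
      have : n + f ≤ n := by exact_mod_cast h
      rw [hf, show f = 0 by omega]
      rfl
  refine ⟨?_, by rw [hadd, h0, add_zero]⟩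
  rw [Groth.Agent.Depth.isCohenMacaulayLocalRing_iff]
  have hR : LocCoh.IsCohenMacaulayModule R R := Groth.Agent.Depth.isCohenMacaulayModule_self R
  have hF : LocCoh.IsCohenMacaulayModule (EGA4.FibRing R S) (EGA4.FibMod R S S) := by
    haveI : IsLocalRing (EGA4.FibRing R S) :=
      IsLocalRing.of_surjective' (Ideal.Quotient.mk _) Ideal.Quotient.mk_surjective
    haveI : Nontrivial (EGA4.FibMod R S S) := by
      rw [Submodule.Quotient.nontrivial_iff]
      simpa [EGA4.mB] using hne
    have hle := Groth.Agent.Depth.depth_le_supportDim (R := EGA4.FibRing R S) (M := EGA4.FibMod R S S)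
    have h1 : Module.supportDim (EGA4.FibRing R S) (EGA4.FibMod R S S) = 0 :=
      le_antisymm ((Module.supportDim_le_ringKrullDim _ _).trans h0.le)
        (Module.supportDim_ne_bot_iff_nontrivial _ _ |>.mpr ‹_› |> fun hb => by
          obtain ⟨a, ha⟩ := WithBot.ne_bot_iff_exists.mp hb
          rw [← ha]; exact WithBot.coe_le_coe.mpr zero_le)
    rw [h1] at hle
    rw [LocCoh.IsCohenMacaulayModule, h1]
    exact le_antisymm (WithBot.coe_le_coe.mpr zero_le) hle
  refine (Groth.Agent.Depth.isCohenMacaulayModule_congr (TensorProduct.AlgebraTensorModule.rid R S S)).mp ?_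
  exact (Groth.Agent.S2604.result R S R S).mpr ⟨hR, hF⟩

end Groth.Agent.S9129
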