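import Groth.Statements.S9130
import Groth.Agent.DimIneq.Basic
import Mathlib

set_option autoImplicit false
universe u
open CAlg

namespace Groth.Agent.S9130

/-- Let A ⊆ B be domains with B of finite type over A and A Noetherian, and assume every element of B is
algebraic over A. For a height-one prime p of A, only finitely many primes of B lie over p and each
of them has height one. (The published statement assumes that Frac(B) is finite over Frac(A); this
row assumes B algebraic over A, which is equivalent for a finite type extension of domains.) -/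
theorem result (A B : Type u) [CommRing A] [IsDomain A]
    [IsNoetherianRing A] [CommRing B] [IsDomain B] [Algebra A B] [FaithfulSMul A B]
    [Algebra.FiniteType A B] [Algebra.IsAlgebraic A B] (p : Ideal A) [p.IsPrime]
    (hp : p.height = 1) :
    (p.primesOver B).Finite ∧ ∀ q ∈ p.primesOver B, q.height = 1 := by
  have : IsNoetherianRing B := Algebra.FiniteType.isNoetherianRing A B
  have hinj : Function.Injective (algebraMap A B) := FaithfulSMul.algebraMap_injective A B
  have key : ∀ q ∈ p.primesOver B, q.height = 1 ∧ q ∈ (p.map (algebraMap A B)).minimalPrimes := by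
    rintro q ⟨hqp, hqo⟩
    obtain ⟨n, -, hle⟩ := DimIneq.height_add_le p q 0 (fun P hP hPq => by
      rw [IsDomain.minimalPrimes_eq_singleton_bot, Set.mem_singleton_iff] at hP
      subst hP
      have hker : (⊥ : Ideal B).under A = ⊥ := by
        rw [Ideal.under_def, ← RingHom.ker_eq_comap_bot, (RingHom.injective_iff_ker_eq_bot _).1 hinj]
      have : Algebra.IsAlgebraic (A ⧸ (⊥ : Ideal B).under A) (B ⧸ (⊥ : Ideal B)) := ⟨fun x => by
        obtain ⟨b, rfl⟩ := Ideal.Quotient.mk_surjective x
        obtain ⟨f, hf0, hf⟩ := Algebra.IsAlgebraic.isAlgebraic (R := A) b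
        refine ⟨f.map (Ideal.Quotient.mk _), fun h => hf0 ?_, ?_⟩
        · refine Polynomial.map_injective _ ?_ (h.trans (Polynomial.map_zero _).symm)
          rw [RingHom.injective_iff_ker_eq_bot, Ideal.mk_ker, hker]
        · rw [Polynomial.aeval_def, Polynomial.eval₂_map,
            show (algebraMap (A ⧸ (⊥ : Ideal B).under A) (B ⧸ (⊥ : Ideal B))).comp (Ideal.Quotient.mk _) = algebraMap A _ from rfl,
            ← Polynomial.aeval_def,
            show Ideal.Quotient.mk (⊥ : Ideal B) b = IsScalarTower.toAlgHom A B (B ⧸ (⊥ : Ideal B)) b from rfl,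
            Polynomial.aeval_algHom_apply, hf, map_zero]⟩
      rw [trdeg_eq_zero, Nat.cast_zero])
    rw [hp, Nat.cast_zero, add_zero] at hle
    have hq1 : q.height ≤ 1 := le_trans le_self_add hle
    have hpbot : p ≠ ⊥ := by
      intro h
      subst h
      rw [Ideal.height_bot] at hp
      exact zero_ne_one hp
    have hmap : p.map (algebraMap A B) ≠ ⊥ := fun h => hpbot <| by
      rw [Ideal.map_eq_bot_iff_le_ker, (RingHom.injective_iff_ker_eq_bot _).1 hinj] at h
      exact le_bot_iff.1 h
    have hle' : p.map (algebraMap A B) ≤ q := Ideal.map_le_iff_le_comap.2 hqo.over.le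
    have h1 : q.height = 1 := by
      refine le_antisymm hq1 (Order.one_le_iff_ne_zero.2 fun h => hmap ?_)
      have hqmem : q ∈ minimalPrimes B := Ideal.height_eq_zero_iff.1 h
      rw [IsDomain.minimalPrimes_eq_singleton_bot, Set.mem_singleton_iff] at hqmem
      exact le_bot_iff.1 (hle'.trans hqmem.le)
    refine ⟨h1, ⟨hqp, hle'⟩, fun r hr hrq => ?_⟩
    by_contra hne
    have hlt : r < q := lt_of_le_of_ne hrq fun h => hne h.symm.le
    have := hr.1
    have hr0 : r.height = 0 := by
      have h2 := Ideal.height_strict_mono_of_isPrime hlt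
      rw [h1] at h2
      exact Order.lt_one_iff.1 h2
    have hrmem : r ∈ minimalPrimes B := Ideal.height_eq_zero_iff.1 hr0
    rw [IsDomain.minimalPrimes_eq_singleton_bot, Set.mem_singleton_iff] at hrmem
    exact hmap (le_bot_iff.1 (hr.2.trans hrmem.le))
  exact ⟨(Ideal.finite_minimalPrimes_of_isNoetherianRing B (p.map (algebraMap A B))).subset fun q hq => (key q hq).2,
    fun q hq => (key q hq).1⟩

end Groth.Agent.S9130
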