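import Groth.Statements.S9132
import Mathlib

set_option autoImplicit false
universe u
open CAlg

namespace Groth.Agent.S9132

open scoped Pointwise in
theorem exists_good {R : Type*} [CommRing R] [IsDomain R] [IsNoetherianRing R] [IsLocalRing R] (hR : ¬ IsField R)
    (s : Finset R) (hs : Ideal.span (s : Set R) = IsLocalRing.maximalIdeal R) :
    ∃ x ∈ s, ∀ n, x ^ n ∉ IsLocalRing.maximalIdeal R ^ (n + 1) := by
  classical
  set m := IsLocalRing.maximalIdeal R
  by_contra hcon
  push Not at hcon
  choose! n hn using hcon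
  -- a high power of every element is in a higher power of `m`
  let N := ∑ x ∈ s, n x + 1
  have hgen : ∀ x ∈ s, x ^ N ∈ m ^ (N + 1) := fun x hx => by
    obtain ⟨d, hd⟩ : ∃ d, N = n x + d := ⟨N - n x, by
      have := Finset.single_le_sum (f := n) (fun i _ => Nat.zero_le _) hx
      omega⟩
    rw [show N + 1 = (n x + 1) + d by omega, hd, pow_add x (n x) d, pow_add m (n x + 1) d]
    exact Ideal.mul_mem_mul (hn x hx) (Ideal.pow_mem_pow (hs ▸ Ideal.subset_span hx) d)
  -- pigeonhole
  let M := s.card * N
  have key : m ^ M ≤ m ^ (M + 1) := by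
    have h1 : m ^ M = Submodule.span R ((s : Set R) ^ M) := by
      rw [← Submodule.span_pow, ← hs]
    conv_lhs => rw [h1]
    rw [Submodule.span_le]
    intro z hz
    obtain ⟨f, rfl⟩ := Set.mem_pow.1 hz
    rw [List.prod_ofFn, SetLike.mem_coe]
    by_cases hbig : ∃ x ∈ s, N ≤ (Finset.univ.filter fun i => (f i : R) = x).card
    · obtain ⟨x, hx, hc⟩ := hbig
      obtain ⟨T, hT, hTc⟩ := Finset.exists_subset_card_eq hc
      rw [← Finset.prod_sdiff (Finset.subset_univ T)]
      have e1 : ∏ i ∈ T, (f i : R) = x ^ N := by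
        rw [Finset.prod_congr rfl fun i hi => (Finset.mem_filter.1 (hT hi)).2, Finset.prod_const, hTc]
      have e2 : ∏ i ∈ Finset.univ \ T, (f i : R) ∈ m ^ (M - N) := by
        have hc2 : (Finset.univ \ T).card = M - N := by
          rw [Finset.card_sdiff_of_subset (Finset.subset_univ T), Finset.card_univ, Fintype.card_fin, hTc]
        rw [← hc2, ← Finset.prod_const]
        exact Ideal.prod_mem_prod fun i _ => hs ▸ Ideal.subset_span (f i).2
      have hNM : N ≤ M := Nat.le_mul_of_pos_left N (Finset.card_pos.2 ⟨x, hx⟩)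
      rw [show M + 1 = (M - N) + (N + 1) by omega, pow_add, e1]
      exact Ideal.mul_mem_mul e2 (hgen x hx)
    · push Not at hbig
      exfalso
      have h2 := Finset.card_eq_sum_card_fiberwise (s := (Finset.univ : Finset (Fin M))) (t := s)
        (f := fun i => (f i : R)) fun i _ => (f i).2
      rw [Finset.card_univ, Fintype.card_fin] at h2
      rcases s.eq_empty_or_nonempty with rfl | hne
      · exact hR (IsLocalRing.isField_iff_maximalIdeal_eq.2 (hs.symm.trans (by simp)))
      · exact absurd h2 (ne_of_gt (lt_of_lt_of_le (Finset.sum_lt_sum_of_nonempty hne hbig) (by simp [M])))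
  have h0 : m ^ M = ⊥ := by
    refine Submodule.eq_bot_of_le_smul_of_le_jacobson_bot m _ (IsNoetherian.noetherian _) ?_
      (IsLocalRing.maximalIdeal_le_jacobson _)
    rwa [smul_eq_mul, ← pow_succ']
  exact hR (IsLocalRing.isField_iff_maximalIdeal_eq.2
    (eq_zero_of_pow_eq_zero (n := M) (by rwa [Ideal.zero_eq_bot])))

open nonZeroDivisors in
theorem main_aux (R K : Type u) [CommRing R] [IsDomain R] [IsNoetherianRing R] [IsLocalRing R] (hR : ¬ IsField R)
    [Field K] [Algebra R K] [IsFractionRing R K] :
    ∃ R' : Subalgebra R K, ∃ _ : IsLocalRing R',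
      IsNoetherianRing R' ∧ ringKrullDim R' = 1 ∧ IsLocalHom (algebraMap R R') ∧
        Algebra.EssFiniteType R R' := by
  classical
  set m := IsLocalRing.maximalIdeal R
  obtain ⟨s, hs⟩ := IsNoetherian.noetherian m
  change Ideal.span (s : Set R) = m at hs
  obtain ⟨x, hxs, hx⟩ := exists_good hR s hs
  have hx0 : x ≠ 0 := fun h => hx 1 (by rw [h, zero_pow one_ne_zero]; exact zero_mem _)
  have hxK : algebraMap R K x ≠ 0 := (map_ne_zero_iff _ (IsFractionRing.injective R K)).2 hx0
  let B := Algebra.adjoin R ((fun y => algebraMap R K y / algebraMap R K x) '' (s : Set R))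
  have hinv : ∀ b : K, b ∈ B → ∃ (n : ℕ) (a : R), a ∈ m ^ n ∧ b * algebraMap R K x ^ n = algebraMap R K a := by
    intro b hb
    induction hb using Algebra.adjoin_induction with
    | mem b hb =>
      obtain ⟨y, hy, rfl⟩ := hb
      exact ⟨1, y, by rw [pow_one]; exact hs ▸ Ideal.subset_span hy, by rw [pow_one, div_mul_cancel₀ _ hxK]⟩
    | algebraMap r => exact ⟨0, r, by simp, by simp⟩
    | add b c _ _ hb hc =>
      obtain ⟨n, a, ha, e⟩ := hb
      obtain ⟨n', a', ha', e'⟩ := hc
      refine ⟨n + n', a * x ^ n' + a' * x ^ n, add_mem ?_ ?_, ?_⟩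
      · rw [pow_add]; exact Ideal.mul_mem_mul ha (Ideal.pow_mem_pow (hs ▸ Ideal.subset_span hxs) _)
      · rw [add_comm, pow_add]; exact Ideal.mul_mem_mul ha' (Ideal.pow_mem_pow (hs ▸ Ideal.subset_span hxs) _)
      · simp only [map_add, map_mul, map_pow, ← e, ← e']
        ring
    | mul b c _ _ hb hc =>
      obtain ⟨n, a, ha, e⟩ := hb
      obtain ⟨n', a', ha', e'⟩ := hc
      refine ⟨n + n', a * a', by rw [pow_add]; exact Ideal.mul_mem_mul ha ha', ?_⟩
      rw [map_mul, ← e, ← e']
      ring
  have hBft : Algebra.FiniteType R B :=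
    (Subalgebra.fg_iff_finiteType B).1 (Subalgebra.fg_def.2 ⟨_, s.finite_toSet.image _, rfl⟩)
  have : IsNoetherianRing B := Algebra.FiniteType.isNoetherianRing R B
  have : IsFractionRing B K := IsFractionRing.of_field (R := B) (K := K) fun z => by
    obtain ⟨a, b, -, rfl⟩ := IsFractionRing.div_surjective R z
    exact ⟨algebraMap R B a, algebraMap R B b, rfl⟩
  let x' : B := algebraMap R B x
  have hx'0 : x' ≠ 0 := fun h => hxK (congrArg Subtype.val h)
  have htop : Ideal.span {x'} ≠ ⊤ := fun h => by
    rw [Ideal.eq_top_iff_one, Ideal.mem_span_singleton'] at h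
    obtain ⟨⟨c, hc⟩, h⟩ := h
    obtain ⟨n, a, ha, e⟩ := hinv c hc
    have h' : c * algebraMap R K x = 1 := congrArg Subtype.val h
    rcases n with _ | n
    · rw [pow_zero, mul_one] at e
      have hax : a * x = 1 := IsFractionRing.injective R K (by rw [map_mul, ← e, h', map_one])
      exact (IsLocalRing.mem_maximalIdeal x).1 (show x ∈ m by rw [← hs]; exact Ideal.subset_span hxs) (.of_mul_eq_one_right _ hax)
    · refine hx n ?_
      have : a = x ^ n := IsFractionRing.injective R K (by
        rw [← e, map_pow, pow_succ', ← mul_assoc, h', one_mul])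
      rwa [← this]
  obtain ⟨J, hJ, hJle⟩ := Ideal.exists_le_maximal _ htop
  obtain ⟨P, hP, -⟩ := Ideal.exists_minimalPrimes_le (I := Ideal.span {x'}) (J := J) hJle
  have := hP.1.1
  have hxP : x' ∈ P := hP.1.2 (Ideal.mem_span_singleton_self _)
  have hh : P.height = 1 := le_antisymm (Ideal.height_le_one_of_isPrincipal_of_mem_minimalPrimes _ P hP)
    (Order.one_le_iff_ne_zero.2 fun h => hx'0 (by
      have h1 : P ∈ minimalPrimes B := Ideal.height_eq_zero_iff.1 h
      rw [IsDomain.minimalPrimes_eq_singleton_bot, Set.mem_singleton_iff] at h1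
      rw [h1] at hxP
      exact hxP))
  have hS : P.primeCompl ≤ B⁰ := P.primeCompl_le_nonZeroDivisors
  let L := Localization.subalgebra K P.primeCompl hS
  have hLloc : IsLocalization.AtPrime L P := Localization.subalgebra.isLocalization_subalgebra K P.primeCompl hS
  have hloc : IsLocalRing L := IsLocalization.AtPrime.isLocalRing L P
  have hN : IsNoetherianRing L := IsLocalization.isNoetherianRing P.primeCompl L inferInstance
  have hdim : ringKrullDim L = 1 := by
    rw [IsLocalization.AtPrime.ringKrullDim_eq_height P L, hh]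
    rfl
  have hdom : IsLocalHom (algebraMap R L) := ⟨fun r hr => by
    by_contra hnu
    have hrm : r ∈ Ideal.span (s : Set R) := hs ▸ (IsLocalRing.mem_maximalIdeal r).2 hnu
    have hle : (Ideal.span (s : Set R)).map (algebraMap R B) ≤ P := by
      rw [Ideal.map_span, Ideal.span_le]
      rintro _ ⟨y, hy, rfl⟩
      have : algebraMap R B y = x' * ⟨_, Algebra.subset_adjoin ⟨y, hy, rfl⟩⟩ :=
        Subtype.ext (mul_div_cancel₀ _ hxK).symm
      rw [this]
      exact Ideal.mul_mem_right _ _ hxP
    rw [IsScalarTower.algebraMap_apply R B L, IsLocalization.AtPrime.isUnit_to_map_iff L P] at hr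
    exact hr (hle (Ideal.mem_map_of_mem _ hrm))⟩
  have heft : Algebra.EssFiniteType R L := by
    have := Algebra.EssFiniteType.of_isLocalization L P.primeCompl
    exact Algebra.EssFiniteType.comp R B L
  exact ⟨L.restrictScalars R, hloc, hN, hdim, hdom, heft⟩


/-- A Noetherian local domain R that is not a field is dominated by a Noetherian local ring R' of
dimension one lying between R and its fraction field, with R' essentially of finite type over R. -/
theorem result (R : Type u) [CommRing R] [IsDomain R]
    [IsNoetherianRing R] [IsLocalRing R] (hR : ¬ IsField R) :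
    ∃ R' : Subalgebra R (FractionRing R), ∃ _ : IsLocalRing R',
      IsNoetherianRing R' ∧ ringKrullDim R' = 1 ∧ IsLocalHom (algebraMap R R') ∧
        Algebra.EssFiniteType R R' := by
  exact main_aux R (FractionRing R) hR

end Groth.Agent.S9132
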