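import Groth.Statements.S9133
import Groth.Agent.RegLoc.KAExt
import Mathlib

set_option autoImplicit false
universe u
open CAlg

namespace Groth.Agent.S9133

/-- Let R → S be a homomorphism of domains compatible with field maps K → L of their fraction fields (so
R → S is injective), where R is Noetherian local of dimension one and L is finite over K. Then each
prime n of S whose contraction to R is the maximal ideal of R is a maximal ideal of S, only finitely
many such n exist, and each quotient S/n is a finite R-module (its residue field is a finite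
extension of that of R). -/
theorem result (R S K L : Type u)
    [CommRing R] [IsDomain R] [IsNoetherianRing R] [IsLocalRing R] (hdim : ringKrullDim R = 1)
    [CommRing S] [IsDomain S] [Algebra R S] [Field K] [Field L] [Algebra R K] [IsFractionRing R K]
    [Algebra S L] [IsFractionRing S L] [Algebra K L] [Algebra R L] [IsScalarTower R K L]
    [IsScalarTower R S L] [FiniteDimensional K L] :
    (∀ n ∈ (IsLocalRing.maximalIdeal R).primesOver S, n.IsMaximal) ∧
      ((IsLocalRing.maximalIdeal R).primesOver S).Finite ∧
      ∀ n ∈ (IsLocalRing.maximalIdeal R).primesOver S, Module.Finite R (S ⧸ n) := by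
  classical
  have : Ring.KrullDimLE 1 R := by
    rw [Ring.krullDimLE_iff, hdim]
    exact le_of_eq Nat.cast_one.symm
  let m := IsLocalRing.maximalIdeal R
  have hm : m ≠ ⊥ := fun h => by
    have hf : IsField R := IsLocalRing.isField_iff_maximalIdeal_eq.2 h
    rw [ringKrullDim_eq_zero_of_isField hf] at hdim
    exact zero_ne_one hdim
  obtain ⟨x, hxm, hx0⟩ := Submodule.exists_mem_ne_zero_of_ne_bot hm
  let r := Module.finrank K L
  let e : L ≃ₗ[R] (Fin r → K) := (Module.finBasis K L).equivFun.restrictScalars R
  let ι : S →ₗ[R] (Fin r → K) := e.toLinearMap ∘ₗ (IsScalarTower.toAlgHom R S L).toLinearMap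
  have hι : Function.Injective ι := e.injective.comp (IsFractionRing.injective S L)
  let J : Ideal S := Ideal.span {algebraMap R S x}
  let M := LinearMap.range ι
  let eS : S ≃ₗ[R] M := LinearEquiv.ofInjective ι hι
  let ψ : (J.restrictScalars R) →ₗ[R] M := eS.toLinearMap ∘ₗ (J.restrictScalars R).subtype
  have hJ : (J.restrictScalars R).map eS.toLinearMap = LinearMap.range (LinearMap.lsmul R M x) := by
    refine le_antisymm ?_ ?_
    · rintro _ ⟨y, hy, rfl⟩
      obtain ⟨z, rfl⟩ := Ideal.mem_span_singleton'.1 hy
      refine ⟨eS z, ?_⟩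
      rw [LinearMap.lsmul_apply, mul_comm, ← Algebra.smul_def, LinearEquiv.coe_coe, map_smul]
    · rintro _ ⟨y, rfl⟩
      obtain ⟨y, rfl⟩ := eS.surjective y
      refine ⟨x • y, ?_, by rw [LinearMap.lsmul_apply, LinearEquiv.coe_coe, map_smul]⟩
      rw [Algebra.smul_def]
      exact Ideal.mul_mem_right _ _ (Ideal.mem_span_singleton_self _)
  let q : (S ⧸ J.restrictScalars R) ≃ₗ[R] M ⧸ LinearMap.range (LinearMap.lsmul R M x) :=
    Submodule.Quotient.equiv _ _ eS hJ
  have hlen : Module.length R (S ⧸ J.restrictScalars R) ≠ ⊤ := by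
    rw [q.length_eq]
    refine ne_top_of_le_ne_top ?_ (RegLoc.length_submodule_pi_quotient_le hx0 r M)
    exact WithTop.mul_ne_top (ENat.natCast_ne_top r) (Module.length_ne_top_iff.mpr
      (isFiniteLength_quotient_span_singleton R (mem_nonZeroDivisors_of_ne_zero hx0)))
  have hfl : IsFiniteLength R (S ⧸ J) := Module.length_ne_top_iff.mp hlen
  obtain ⟨hN, hA⟩ := isFiniteLength_iff_isNoetherian_isArtinian.1 hfl
  have hJn : ∀ n ∈ m.primesOver S, J ≤ n := fun n hn => by
    rw [Ideal.span_singleton_le_iff_mem]
    have h := hn.2.over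
    exact (show x ∈ n.comap (algebraMap R S) by rw [← Ideal.under_def, ← h]; exact hxm)
  have hfin : ∀ n ∈ m.primesOver S, IsNoetherian R (S ⧸ n) ∧ IsArtinian R (S ⧸ n) := fun n hn => by
    let f : (S ⧸ J) →ₗ[R] S ⧸ n := (Ideal.Quotient.factorₐ R (hJn n hn)).toLinearMap
    have hf : Function.Surjective f := Ideal.Quotient.factor_surjective (hJn n hn)
    exact ⟨isNoetherian_of_surjective f (LinearMap.range_eq_top.2 hf), isArtinian_of_surjective _ f hf⟩
  have : IsArtinianRing (S ⧸ J) := isArtinian_of_tower R hA
  refine ⟨fun n hn => ?_, ?_, fun n hn => ?_⟩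
  · have := hn.1
    have := (hfin n hn).2
    have : IsArtinianRing (S ⧸ n) := isArtinian_of_tower R this
    exact Ideal.Quotient.maximal_of_isField n (IsArtinianRing.isField_of_isDomain _)
  · have h1 : ({P : Ideal (S ⧸ J) | P.IsPrime}).Finite := IsArtinianRing.setOfPred_isPrime_finite _
    refine Set.Finite.of_finite_image (f := fun n => n.map (Ideal.Quotient.mk J)) (h1.subset ?_) ?_
    · rintro _ ⟨n, hn, rfl⟩
      have := hn.1
      exact Ideal.map_isPrime_of_surjective Ideal.Quotient.mk_surjective (by rw [Ideal.mk_ker]; exact hJn n hn)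
    · intro a ha b hb hab
      have h := congrArg (Ideal.comap (Ideal.Quotient.mk J)) hab
      rwa [Ideal.comap_map_of_surjective _ Ideal.Quotient.mk_surjective,
        Ideal.comap_map_of_surjective _ Ideal.Quotient.mk_surjective, ← RingHom.ker_eq_comap_bot,
        Ideal.mk_ker, sup_eq_left.2 (hJn a ha), sup_eq_left.2 (hJn b hb)] at h
  · have := (hfin n hn).1
    exact inferInstance

end Groth.Agent.S9133
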