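import Groth.Statements.S9134
import Mathlib.RingTheory.OrderOfVanishing.Basic
import Mathlib.RingTheory.Localization.Integer
import Mathlib.RingTheory.Ideal.Quotient.Operations

set_option autoImplicit false
universe u
open CAlg

namespace Groth.Agent.S9134


abbrev Q {R : Type*} [CommRing R] (x : R) (M : Type*) [AddCommGroup M] [Module R M] :=
  M ⧸ (Ideal.span ({x} : Set R) • (⊤ : Submodule R M))

def qmap {R : Type*} [CommRing R] (x : R) {M N : Type*} [AddCommGroup M] [Module R M] [AddCommGroup N] [Module R N]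
    (f : M →ₗ[R] N) : Q x M →ₗ[R] Q x N :=
  Submodule.mapQ _ _ f (by
    rw [← Submodule.map_le_iff_le_comap, Submodule.map_smul'']
    exact Submodule.smul_mono le_rfl le_top)

theorem qmap_surjective {R : Type*} [CommRing R] (x : R) {M N : Type*} [AddCommGroup M] [Module R M] [AddCommGroup N]
    [Module R N] (f : M →ₗ[R] N) (hf : Function.Surjective f) : Function.Surjective (qmap x f) := by
  intro q
  obtain ⟨n, rfl⟩ := Submodule.Quotient.mk_surjective _ q
  obtain ⟨m, rfl⟩ := hf n
  exact ⟨Submodule.Quotient.mk m, rfl⟩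

/-- bounded on finitely generated submodules -/
theorem length_le_of_fg {R : Type*} [CommRing R] {M : Type*} [AddCommGroup M] [Module R M] (B : ℕ∞)
    (h : ∀ P : Submodule R M, P.FG → Module.length R P ≤ B) : Module.length R M ≤ B := by
  classical
  rw [Module.length_eq_height]
  refine Order.height_le fun p _ => ?_
  have hex : ∀ i : Fin p.length, ∃ q, q ∈ p i.succ ∧ q ∉ p i.castSucc := fun i =>
    SetLike.exists_of_lt (p.step i)
  choose q hq hq' using hex
  let P : Submodule R M := Submodule.span R (Set.range q)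
  refine le_trans ?_ (h P (Submodule.fg_span (Set.finite_range q)))
  let p' : LTSeries (Submodule R P) :=
    { length := p.length
      toFun := fun i => (p i).comap P.subtype
      step := fun i => by
        refine lt_of_le_of_ne (Submodule.comap_mono (p.step i).le) fun heq => ?_
        exact hq' i (show (⟨q i, Submodule.subset_span ⟨i, rfl⟩⟩ : P) ∈ (p i.castSucc).comap P.subtype by
          rw [heq]; exact hq i) }
  rw [Module.length_eq_height]
  exact (Order.length_le_height_last (p := p')).trans (Order.height_mono le_top)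

theorem length_ideal {R : Type*} [CommRing R] [IsDomain R] [IsNoetherianRing R] [Ring.KrullDimLE 1 R] (x : R) (hx : x ≠ 0)
    (J : Ideal R) : Module.length R (Q x J) ≤ Module.length R (R ⧸ Ideal.span {x}) := by
  rcases eq_or_ne J ⊥ with rfl | hJ
  · rw [Module.length_eq_zero]
    exact bot_le
  obtain ⟨y, hy, hy0⟩ := Submodule.exists_mem_ne_zero_of_ne_bot hJ
  have hfin : Module.length R (R ⧸ J) ≠ ⊤ := by
    refine ne_top_of_le_ne_top (Module.length_ne_top_iff.2 (isFiniteLength_quotient_span_singleton R ?_))
      (Module.length_le_of_surjective (Submodule.factor ((Ideal.span_singleton_le_iff_mem J).2 hy))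
        (Submodule.factor_surjective _))
    exact mem_nonZeroDivisors_of_ne_zero hy0
  let L : Ideal R := Ideal.span {x} * J
  have hLJ : L ≤ J := Ideal.mul_le_right
  have hLx : L ≤ Ideal.span {x} := Ideal.mul_le_left
  -- J/xJ → R/L → R/J
  let a : Q x J →ₗ[R] R ⧸ L := Submodule.mapQ _ _ J.subtype (by
    rw [← Submodule.map_le_iff_le_comap, Submodule.map_smul'', Submodule.map_top, Submodule.range_subtype, smul_eq_mul])
  let b : (R ⧸ L) →ₗ[R] R ⧸ J := Submodule.factor hLJ
  have hai : Function.Injective a := by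
    rw [← LinearMap.ker_eq_bot, Submodule.ker_mapQ, Submodule.eq_bot_iff]
    rintro _ ⟨z, hz, rfl⟩
    refine (Submodule.Quotient.mk_eq_zero _).2 ?_
    have : (Submodule.map J.subtype (Ideal.span ({x} : Set R) • (⊤ : Submodule R J))) = L := by
      rw [Submodule.map_smul'', Submodule.map_top, Submodule.range_subtype, smul_eq_mul]
    have hz' : (z : R) ∈ Submodule.map J.subtype (Ideal.span ({x} : Set R) • (⊤ : Submodule R J)) := this ▸ hz
    obtain ⟨w, hw, hwz⟩ := hz'
    rwa [← Subtype.ext (a1 := w) (a2 := z) hwz]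
  have hab : Function.Exact a b := by
    intro r
    constructor
    · intro hr
      obtain ⟨r, rfl⟩ := Submodule.Quotient.mk_surjective _ r
      exact ⟨Submodule.Quotient.mk ⟨r, (Submodule.Quotient.mk_eq_zero _).1 hr⟩, rfl⟩
    · rintro ⟨z, rfl⟩
      obtain ⟨z, rfl⟩ := Submodule.Quotient.mk_surjective _ z
      exact (Submodule.Quotient.mk_eq_zero _).2 z.2
  -- R/J → R/L → R/(x)
  let c : (R ⧸ J) →ₗ[R] R ⧸ L := Submodule.mapQ _ _ (LinearMap.mulLeft R x) (fun z hz =>
    Ideal.mul_mem_mul (Ideal.mem_span_singleton_self x) hz)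
  let d : (R ⧸ L) →ₗ[R] R ⧸ Ideal.span {x} := Submodule.factor hLx
  have hci : Function.Injective c := by
    rw [injective_iff_map_eq_zero]
    intro z hz
    obtain ⟨z, rfl⟩ := Submodule.Quotient.mk_surjective _ z
    obtain ⟨w, hw, hwz⟩ := Ideal.mem_span_singleton_mul.1 ((Submodule.Quotient.mk_eq_zero _).1 hz)
    exact (Submodule.Quotient.mk_eq_zero _).2 (mul_left_cancel₀ hx hwz ▸ hw)
  have hcd : Function.Exact c d := by
    intro r
    constructor
    · intro hr
      obtain ⟨r, rfl⟩ := Submodule.Quotient.mk_surjective _ r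
      obtain ⟨w, rfl⟩ := Ideal.mem_span_singleton'.1 ((Submodule.Quotient.mk_eq_zero _).1 hr)
      exact ⟨Submodule.Quotient.mk w, congrArg Submodule.Quotient.mk (mul_comm x w)⟩
    · rintro ⟨z, rfl⟩
      obtain ⟨z, rfl⟩ := Submodule.Quotient.mk_surjective _ z
      exact (Submodule.Quotient.mk_eq_zero _).2 (Ideal.mul_mem_right _ _ (Ideal.mem_span_singleton_self x))
  have h1 := Module.length_eq_add_of_exact a b hai (Submodule.factor_surjective _) hab
  have h2 := Module.length_eq_add_of_exact c d hci (Submodule.factor_surjective _) hcd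
  rw [h2, add_comm (Module.length R (Q x J))] at h1
  exact (WithTop.add_left_cancel hfin h1).ge

theorem length_line {R : Type u} [CommRing R] [IsDomain R] [IsNoetherianRing R] [Ring.KrullDimLE 1 R] (x : R) (hx : x ≠ 0)
    {K : Type u} [Field K] [Algebra R K] [IsFractionRing R K] (M : Submodule R K) :
    Module.length R (Q x M) ≤ Module.length R (R ⧸ Ideal.span {x}) := by
  classical
  refine length_le_of_fg _ fun P hP => ?_
  obtain ⟨s, hs⟩ := hP
  choose g hg using fun q : Q x M => Submodule.Quotient.mk_surjective _ q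
  obtain ⟨d, hd⟩ := IsLocalization.exist_integer_multiples_of_finset (nonZeroDivisors R) (s.image fun q => (g q : K))
  let N : Submodule R M := Submodule.span R (g '' (s : Set (Q x M)))
  let θ : Q x N →ₗ[R] P := LinearMap.codRestrict P (qmap x N.subtype) fun z => by
    obtain ⟨z, rfl⟩ := Submodule.Quotient.mk_surjective _ z
    change Submodule.Quotient.mk (z : M) ∈ P
    have hN : Submodule.map (Submodule.mkQ _) N ≤ P := by
      rw [Submodule.map_span, Submodule.span_le]
      rintro _ ⟨_, ⟨q, hq, rfl⟩, rfl⟩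
      rw [Submodule.mkQ_apply, hg, ← hs]
      exact Submodule.subset_span hq
    exact hN ⟨z, z.2, rfl⟩
  have hθ : Function.Surjective θ := by
    rintro ⟨q, hq⟩
    have hle : P ≤ Submodule.map (Submodule.mkQ _) N := by
      rw [← hs, Submodule.span_le]
      intro q hq
      exact ⟨g q, Submodule.subset_span ⟨q, hq, rfl⟩, hg q⟩
    obtain ⟨n, hn, rfl⟩ := hle hq
    exact ⟨Submodule.Quotient.mk ⟨n, hn⟩, rfl⟩
  refine (Module.length_le_of_surjective θ hθ).trans ?_
  let μ : N →ₗ[R] K := (d : R) • (M.subtype.comp N.subtype)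
  have hμ : ∀ n, μ n ∈ LinearMap.range (Algebra.linearMap R K) := by
    rintro ⟨n, hn⟩
    induction hn using Submodule.span_induction with
    | mem n hn =>
      obtain ⟨q, hq, rfl⟩ := hn
      exact hd _ (Finset.mem_image.2 ⟨q, hq, rfl⟩)
    | zero => exact ⟨0, by simp [μ]⟩
    | add a b ha hb iha ihb =>
      obtain ⟨u, hu⟩ := iha
      obtain ⟨w, hw⟩ := ihb
      exact ⟨u + w, by rw [map_add, hu, hw]; simp [μ, smul_add]⟩
    | smul r a ha iha =>
      obtain ⟨u, hu⟩ := iha
      exact ⟨r • u, by rw [map_smul, hu]; simp [μ, smul_comm r]⟩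
  let e := LinearEquiv.ofInjective (Algebra.linearMap R K) (IsFractionRing.injective R K)
  let j : N →ₗ[R] R := e.symm.toLinearMap.comp (μ.codRestrict _ hμ)
  have hj : Function.Injective j := by
    refine e.symm.injective.comp fun a b hab => ?_
    have hab' : (d : R) • ((a : M) : K) = (d : R) • ((b : M) : K) := congrArg Subtype.val hab
    rw [Algebra.smul_def, Algebra.smul_def] at hab'
    refine Subtype.ext (Subtype.ext (mul_left_cancel₀ ?_ hab'))
    exact IsFractionRing.to_map_ne_zero_of_mem_nonZeroDivisors d.2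
  let ej : N ≃ₗ[R] LinearMap.range j := LinearEquiv.ofInjective j hj
  refine (Module.length_le_of_surjective (qmap x ej.symm.toLinearMap) (qmap_surjective x _ ej.symm.surjective)).trans ?_
  exact length_ideal x hx _

theorem length_pi {R : Type u} [CommRing R] [IsDomain R] [IsNoetherianRing R] [Ring.KrullDimLE 1 R] (x : R) (hx : x ≠ 0)
    (K : Type u) [Field K] [Algebra R K] [IsFractionRing R K] : ∀ (r : ℕ) (M : Submodule R (Fin r → K)),
    Module.length R (Q x M) ≤ r • Module.length R (R ⧸ Ideal.span {x})
  | 0, M => by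
    rw [zero_smul, nonpos_iff_eq_zero, Module.length_eq_zero_iff]
    exact ⟨fun a b => by
      obtain ⟨a, rfl⟩ := Submodule.Quotient.mk_surjective _ a
      obtain ⟨b, rfl⟩ := Submodule.Quotient.mk_surjective _ b
      rw [show a = b from Subtype.ext (Subsingleton.elim _ _)]⟩
  | r + 1, M => by
    let π : (Fin (r + 1) → K) →ₗ[R] K := LinearMap.proj 0
    let τ : (Fin (r + 1) → K) →ₗ[R] (Fin r → K) := LinearMap.pi fun i => LinearMap.proj i.succ
    let g : M →ₗ[R] Submodule.map π M := π.restrict fun m hm => ⟨m, hm, rfl⟩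
    have hg : Function.Surjective g := by
      rintro ⟨_, m, hm, rfl⟩
      exact ⟨⟨m, hm⟩, rfl⟩
    let M' : Submodule R (Fin r → K) := Submodule.map τ (M ⊓ LinearMap.ker π)
    have hτ : Function.Injective (τ.domRestrict (M ⊓ LinearMap.ker π)) := by
      intro a b h
      refine Subtype.ext (funext fun i => ?_)
      refine Fin.cases ?_ (fun i => congrFun h i) i
      exact (a.2.2 : (a : Fin (r + 1) → K) 0 = 0).trans (b.2.2 : (b : Fin (r + 1) → K) 0 = 0).symm
    let τ' : ↥(M ⊓ LinearMap.ker π) →ₗ[R] M' := τ.restrict fun m hm => ⟨m, hm, rfl⟩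
    have hτ' : Function.Bijective τ' := ⟨fun a b h => hτ (congrArg Subtype.val h), by
      rintro ⟨_, m, hm, rfl⟩
      exact ⟨⟨m, hm⟩, rfl⟩⟩
    let f : M' →ₗ[R] M :=
      (Submodule.inclusion (inf_le_left : M ⊓ LinearMap.ker π ≤ M)).comp (LinearEquiv.ofBijective τ' hτ').symm.toLinearMap
    have hex : LinearMap.ker (qmap x g) ≤ LinearMap.range (qmap x f) := by
      intro z hz
      obtain ⟨m, rfl⟩ := Submodule.Quotient.mk_surjective _ z
      have hmem : g m ∈ Ideal.span ({x} : Set R) • (⊤ : Submodule R _) := (Submodule.Quotient.mk_eq_zero _).1 hz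
      obtain ⟨w, hw, hwm⟩ : ∃ w ∈ Ideal.span ({x} : Set R) • (⊤ : Submodule R M), g w = g m := by
        rw [← LinearMap.range_eq_top.2 hg, ← Submodule.map_top, ← Submodule.map_smul''] at hmem
        exact hmem
      have hker : ((m - w : M) : Fin (r + 1) → K) ∈ M ⊓ LinearMap.ker π := by
        refine ⟨(m - w).2, ?_⟩
        have : (g (m - w) : K) = 0 := by rw [map_sub, hwm, sub_self]; rfl
        exact this
      refine ⟨Submodule.Quotient.mk ((LinearEquiv.ofBijective τ' hτ') ⟨_, hker⟩), ?_⟩
      refine (Submodule.Quotient.eq _).2 ?_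
      have : f ((LinearEquiv.ofBijective τ' hτ') ⟨_, hker⟩) = m - w := by
        simp only [f, LinearMap.comp_apply, LinearEquiv.coe_coe, LinearEquiv.symm_apply_apply]
        rfl
      rw [this, sub_sub_cancel_left]
      exact Submodule.neg_mem _ hw
    have h1 := Module.length_eq_add_of_exact (LinearMap.ker (qmap x g)).subtype (qmap x g)
      Subtype.val_injective (qmap_surjective x g hg) (LinearMap.exact_subtype_ker_map _)
    rw [h1, succ_nsmul]
    refine add_le_add ?_ (length_line x hx _)
    refine (Module.length_le_of_injective (Submodule.inclusion hex) (Submodule.inclusion_injective hex)).trans ?_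
    exact (Module.length_le_of_surjective (qmap x f).rangeRestrict (LinearMap.surjective_rangeRestrict _)).trans
      (length_pi x hx K r M')

/-- Let R be a Noetherian domain of dimension one with fraction field K, M an R-submodule of K^r, and x
a nonzero element of R. Then M/xM has finite length over R. -/
theorem result (R : Type u) [CommRing R] [IsDomain R]
    [IsNoetherianRing R] (hdim : ringKrullDim R = 1) (K : Type u) [Field K] [Algebra R K]
    [IsFractionRing R K] (r : ℕ) (M : Submodule R (Fin r → K)) (x : R) (hx : x ≠ 0) :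
    Module.length R (M ⧸ (Ideal.span ({x} : Set R) • (⊤ : Submodule R M))) ≠ ⊤ := by
  haveI : Ring.KrullDimLE 1 R := (Order.krullDimLE_iff _ _).2 hdim.le
  refine ne_top_of_le_ne_top ?_ (length_pi x hx K r M)
  have h : Module.length R (R ⧸ Ideal.span {x}) ≠ ⊤ :=
    Module.length_ne_top_iff.2 (isFiniteLength_quotient_span_singleton R (mem_nonZeroDivisors_of_ne_zero hx))
  lift Module.length R (R ⧸ Ideal.span {x}) to ℕ using h with n hn
  rw [nsmul_eq_mul, ← Nat.cast_mul]
  exact ENat.natCast_ne_top _

end Groth.Agent.S9134
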