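import Groth.Statements.S9135
import Mathlib

set_option autoImplicit false
universe u
open CAlg

namespace Groth.Agent.S9135

open TensorProduct in
theorem exists_relation {R S : Type*} [CommRing R] [CommRing S]
    [Algebra R S] [Algebra.FiniteType R S] (p : Ideal R) [p.IsPrime] (hp : p ∈ minimalPrimes R)
    (hfin : (p.primesOver S).Finite) (x : S) :
    ∃ Q : Polynomial R, Q.leadingCoeff ∉ p ∧ Polynomial.aeval x Q = 0 := by
  classical
  let F := p.Fiber S
  have hF : Finite (PrimeSpectrum F) :=
    have := hfin.to_subtype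
    Finite.of_equiv _ (PrimeSpectrum.primesOverOrderIsoFiber R S p).toEquiv
  have : IsNoetherianRing F := Algebra.FiniteType.isNoetherianRing p.ResidueField F
  have : IsJacobsonRing F := isJacobsonRing_of_finiteType (A := p.ResidueField)
  have hmax : ∀ P : Ideal F, P.IsPrime → P.IsMaximal := fun P hP => by
    have hs : {J : Ideal F | P ≤ J ∧ J.IsMaximal}.Finite :=
      ((Set.finite_univ (α := PrimeSpectrum F)).image PrimeSpectrum.asIdeal).subset fun J hJ =>
        ⟨⟨J, hJ.2.isPrime⟩, trivial, rfl⟩
    have h1 : P.jacobson = P := IsJacobsonRing.out inferInstance hP.isRadical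
    have h2 : hs.toFinset.inf id ≤ P := by
      intro z hz
      rw [← h1, Ideal.jacobson, Ideal.mem_sInf]
      exact fun {J} hJ => Finset.inf_le (f := id) (hs.mem_toFinset.2 hJ) hz
    obtain ⟨J, hJ, hJP⟩ := hP.inf_le'.1 h2
    obtain ⟨hPJ, hJm⟩ := hs.mem_toFinset.1 hJ
    exact le_antisymm hPJ hJP ▸ hJm
  have : Ring.KrullDimLE 0 F := Ring.krullDimLE_zero_iff.2 hmax
  have : Module.Finite p.ResidueField F := (Module.finite_iff_krullDimLE_zero _ _).2 ‹_›
  obtain ⟨P, hPm, hP⟩ := Algebra.IsIntegral.isIntegral (R := p.ResidueField) ((1 : p.ResidueField) ⊗ₜ[R] x : F)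
  obtain ⟨b, hb, hQ0⟩ := IsLocalization.integerNormalization_spec (nonZeroDivisors (R ⧸ p)) P
  set Q0 := IsLocalization.integerNormalization (nonZeroDivisors (R ⧸ p)) P
  obtain ⟨Q, hQ, hQdeg⟩ := Polynomial.exists_degree_eq_of_mem_lifts
    ((Polynomial.lifts_iff_coeff_lifts (f := Ideal.Quotient.mk p) Q0).2 fun n => Ideal.Quotient.mk_surjective _)
  have hb0 : algebraMap (R ⧸ p) p.ResidueField b ≠ 0 :=
    (map_ne_zero_iff _ (IsFractionRing.injective (R ⧸ p) p.ResidueField)).2 (nonZeroDivisors.ne_zero hb)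
  have hQ00 : Q0 ≠ 0 := fun h => by
    rw [h, Polynomial.map_zero, eq_comm, ← IsScalarTower.algebraMap_smul p.ResidueField, smul_eq_zero] at hQ0
    exact hQ0.elim hb0 hPm.ne_zero
  have hlc : Ideal.Quotient.mk p Q.leadingCoeff = Q0.leadingCoeff := by
    rw [Polynomial.leadingCoeff, Polynomial.leadingCoeff, ← Polynomial.natDegree_eq_of_degree_eq hQdeg, ← hQ,
      Polynomial.coeff_map]
  have hQp : Q.leadingCoeff ∉ p := fun h => by
    rw [← Ideal.Quotient.eq_zero_iff_mem, hlc, Polynomial.leadingCoeff_eq_zero] at h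
    exact hQ00 h
  have hzero : ((1 : p.ResidueField) ⊗ₜ[R] (Polynomial.aeval x Q) : F) = 0 := by
    have h1 : Polynomial.aeval ((1 : p.ResidueField) ⊗ₜ[R] x : F) Q = 0 := by
      rw [← Polynomial.aeval_map_algebraMap p.ResidueField,
        IsScalarTower.algebraMap_eq R (R ⧸ p) p.ResidueField, ← Polynomial.map_map,
        show Q.map (algebraMap R (R ⧸ p)) = Q0 from hQ, hQ0, ← IsScalarTower.algebraMap_smul p.ResidueField, map_smul,
        show Polynomial.aeval ((1 : p.ResidueField) ⊗ₜ[R] x : F) P = 0 from hP, smul_zero]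
    rw [show ((1 : p.ResidueField) ⊗ₜ[R] x : F) = Algebra.TensorProduct.includeRight x from rfl,
      Polynomial.aeval_algHom_apply] at h1
    exact h1
  set y := Polynomial.aeval x Q
  have hall : ∀ q : Ideal S, q.IsPrime → q.comap (algebraMap R S) ≤ p → y ∈ q := fun q hq hle => by
    have he : q.comap (algebraMap R S) = p :=
      le_antisymm hle (hp.2 ⟨Ideal.IsPrime.comap _, bot_le⟩ hle)
    let Q' := PrimeSpectrum.primesOverOrderIsoFiber R S p ⟨q, hq, ⟨he.symm⟩⟩
    have hQ' := PrimeSpectrum.coe_primesOverOrderIsoFiber_symm_apply (R := R) (S := S) (p := p) Q'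
    rw [OrderIso.symm_apply_apply] at hQ'
    change y ∈ (q : Ideal S)
    rw [show q = Q'.asIdeal.comap Algebra.TensorProduct.includeRight from hQ', Ideal.mem_comap]
    exact (show Algebra.TensorProduct.includeRight y = 0 from hzero) ▸ zero_mem _
  have key : (0 : S) ∈ p.primeCompl.map (algebraMap R S) ⊔ Submonoid.powers y := by
    by_contra h0
    obtain ⟨q, hq, -, hd⟩ := Ideal.exists_le_prime_disjoint (I := ⊥)
      (p.primeCompl.map (algebraMap R S) ⊔ Submonoid.powers y) (by
        rw [Set.disjoint_left]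
        rintro z hz hz'
        rw [SetLike.mem_coe, Ideal.mem_bot] at hz
        exact h0 (hz ▸ hz'))
    refine Set.disjoint_left.1 hd (hall q hq fun r hr => by_contra fun hrp => ?_)
      (Submonoid.mem_sup_right (Submonoid.mem_powers y))
    exact Set.disjoint_left.1 hd hr (Submonoid.mem_sup_left ⟨r, hrp, rfl⟩)
  obtain ⟨_, ⟨t, ht, rfl⟩, _, ⟨N, rfl⟩, hty⟩ := Submonoid.mem_sup.1 key
  have htN : t * Q.leadingCoeff ^ (N + 1) ∉ p := fun h =>
    ((Ideal.IsPrime.mem_or_mem ‹_› h).elim ht fun h' => hQp (Ideal.IsPrime.mem_of_pow_mem ‹_› _ h'))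
  have hne : Q.leadingCoeff ^ (N + 1) ≠ 0 := fun h => htN (by rw [h, mul_zero]; exact zero_mem _)
  refine ⟨Polynomial.C t * Q ^ (N + 1), ?_, ?_⟩
  · rwa [Polynomial.leadingCoeff_mul', Polynomial.leadingCoeff_C, Polynomial.leadingCoeff_pow' hne]
    rw [Polynomial.leadingCoeff_C, Polynomial.leadingCoeff_pow' hne]
    exact fun h => htN (by rw [h]; exact zero_mem _)
  · rw [map_mul, map_pow, Polynomial.aeval_C, pow_succ, ← mul_assoc, hty, zero_mul]

theorem awayMap_isIntegral {R S : Type*} [CommRing R] [CommRing S] [Algebra R S] (g : R) {s : Set S}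
    (hs : Algebra.adjoin R s = ⊤)
    (h : ∀ x ∈ s, (Localization.awayMap (algebraMap R S) g).IsIntegralElem
      (algebraMap S (Localization.Away (algebraMap R S g)) x)) :
    (Localization.awayMap (algebraMap R S) g).IsIntegral := by
  let φ := Localization.awayMap (algebraMap R S) g
  have hφ : ∀ r, φ (algebraMap R _ r) = algebraMap S _ (algebraMap R S r) := fun r =>
    IsLocalization.map_eq _ r
  have hall : ∀ x : S, φ.IsIntegralElem (algebraMap S (Localization.Away (algebraMap R S g)) x) := by
    intro x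
    induction (hs ▸ Algebra.mem_top : x ∈ Algebra.adjoin R s) using Algebra.adjoin_induction with
    | mem y hy => exact h y hy
    | algebraMap r => rw [← hφ]; exact φ.isIntegralElem_map
    | add a b _ _ ha hb => rw [map_add]; exact RingHom.IsIntegralElem.add φ ha hb
    | mul a b _ _ ha hb => rw [map_mul]; exact RingHom.IsIntegralElem.mul φ ha hb
  intro z
  obtain ⟨a, ⟨_, n, rfl⟩, rfl⟩ := IsLocalization.exists_mk'_eq (Submonoid.powers (algebraMap R S g)) z
  let u : Localization.Away g := IsLocalization.mk' _ 1 (⟨g ^ n, n, rfl⟩ : Submonoid.powers g)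
  have hu : algebraMap S (Localization.Away (algebraMap R S g)) a * φ u =
      IsLocalization.mk' _ a (⟨_, n, rfl⟩ : Submonoid.powers (algebraMap R S g)) := by
    rw [IsLocalization.eq_mk'_iff_mul_eq]
    change _ * _ * algebraMap S _ (algebraMap R S g ^ n) = _
    rw [← map_pow (algebraMap R S), ← hφ, mul_assoc, ← map_mul, IsLocalization.mk'_spec, map_one, map_one, mul_one]
  rw [← hu]
  exact RingHom.IsIntegralElem.mul φ (hall a) φ.isIntegralElem_map


/-- Let R → S be of finite type and p a minimal prime of R over which only finitely many primes of S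
lie. Then for some g ∈ R outside p the localized map R_g → S_g is finite. -/
theorem result (R S : Type u) [CommRing R] [CommRing S]
    [Algebra R S] [Algebra.FiniteType R S] (p : Ideal R) (hp : p ∈ minimalPrimes R)
    (hfin : (p.primesOver S).Finite) :
    ∃ g : R, g ∉ p ∧ (Localization.awayMap (algebraMap R S) g).Finite := by
  classical
  have := hp.1.1
  obtain ⟨s, hs⟩ := (inferInstance : Algebra.FiniteType R S).out
  choose Q hQp hQx using fun x => exists_relation p hp hfin x
  let g := ∏ x ∈ s, (Q x).leadingCoeff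
  have hg : g ∉ p := by
    intro h
    obtain ⟨x, -, hx⟩ := Ideal.IsPrime.prod_mem_iff.1 h
    exact hQp x hx
  refine ⟨g, hg, RingHom.IsIntegral.to_finite (awayMap_isIntegral g hs fun x hx => ?_) ?_⟩
  · obtain ⟨d, hd⟩ := Finset.dvd_prod_of_mem (fun x => (Q x).leadingCoeff) (Finset.mem_coe.1 hx)
    change g = _ at hd
    have hne : g ≠ 0 := fun h => hg (h ▸ zero_mem _)
    have hlc : (Polynomial.C d * Q x).leadingCoeff = g := by
      rw [Polynomial.leadingCoeff_mul' (by rw [Polynomial.leadingCoeff_C, mul_comm, ← hd]; exact hne),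
        Polynomial.leadingCoeff_C, mul_comm, ← hd]
    have : IsLocalization ((Submonoid.powers g).map (algebraMap R S)) (Localization.Away (algebraMap R S g)) := by
      rw [Submonoid.map_powers]; infer_instance
    exact (algebraMap R S).isIntegralElem_localization_at_leadingCoeff x (Polynomial.C d * Q x)
      (by rw [← Polynomial.aeval_def, map_mul, hQx, mul_zero]) (Submonoid.powers g) (hlc ▸ Submonoid.mem_powers g)
  · have h1 : (algebraMap R S).FiniteType := RingHom.finiteType_algebraMap.2 inferInstance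
    exact RingHom.localization_away_map_finiteType R S _ _ (algebraMap R S) g h1

end Groth.Agent.S9135
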