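import Groth.Statements.S9136
import Groth.Agent.KALen.Basic
import Groth.Agent.RegLoc.KAExt
import Groth.Agent.LenLib.Semilocal
import Mathlib

set_option autoImplicit false
universe u
open CAlg

namespace Groth.Agent.S9136

/-- Let A ⊆ B be a finite type extension of domains, A Noetherian local of dimension one, with
compatible fraction fields K ⊆ L and L finite over K. Then B has finitely many maximal ideals, and
for a nonzero x in the maximal ideal of A the sum over the maximal ideals m of B of (length of B/m
over A, i.e. the residue degree) times (length of B_m / x B_m over B_m) is at most the degree of L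
over K times the length of A/xA; equality holds exactly when B is a finite A-module. -/
theorem result (A B K L : Type u)
    [CommRing A] [IsDomain A] [IsNoetherianRing A] [IsLocalRing A] (hdim : ringKrullDim A = 1)
    [CommRing B] [IsDomain B] [Algebra A B] [FaithfulSMul A B] [Algebra.FiniteType A B]
    [Field K] [Field L] [Algebra A K] [IsFractionRing A K] [Algebra B L] [IsFractionRing B L]
    [Algebra K L] [Algebra A L] [IsScalarTower A K L] [IsScalarTower A B L] [FiniteDimensional K L]
    (x : A) (hx : x ∈ IsLocalRing.maximalIdeal A) (hx0 : x ≠ 0) :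
    Finite (MaximalSpectrum B) ∧
      (∑ᶠ m : MaximalSpectrum B,
          Module.length A (B ⧸ m.asIdeal) *
            Module.length (Localization.AtPrime m.asIdeal)
              (Localization.AtPrime m.asIdeal ⧸
                Ideal.span ({algebraMap A (Localization.AtPrime m.asIdeal) x} : Set _)) ≤
        (Module.finrank K L : ℕ∞) * Module.length A (A ⧸ Ideal.span ({x} : Set A))) ∧
      ((∑ᶠ m : MaximalSpectrum B,
          Module.length A (B ⧸ m.asIdeal) *
            Module.length (Localization.AtPrime m.asIdeal)
              (Localization.AtPrime m.asIdeal ⧸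
                Ideal.span ({algebraMap A (Localization.AtPrime m.asIdeal) x} : Set _)) =
        (Module.finrank K L : ℕ∞) * Module.length A (A ⧸ Ideal.span ({x} : Set A))) ↔ Module.Finite A B) := by
  classical
  have : Ring.KrullDimLE 1 A := by
    rw [Ring.krullDimLE_iff, hdim]
    exact le_of_eq Nat.cast_one.symm
  set r := Module.finrank K L
  have hAL : Function.Injective (algebraMap A L) := by
    rw [IsScalarTower.algebraMap_eq A K L]
    exact (algebraMap K L).injective.comp (IsFractionRing.injective A K)
  have hAB : Function.Injective (algebraMap A B) := FaithfulSMul.algebraMap_injective A B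
  have hBL : Function.Injective (algebraMap B L) := IsFractionRing.injective B L
  have : Algebra.IsAlgebraic A L := (IsFractionRing.comap_isAlgebraic_iff (A := A) (K := K) (C := L)).mpr inferInstance
  have halgB : Algebra.IsAlgebraic A B := ⟨fun b =>
    (isAlgebraic_algHom_iff (IsScalarTower.toAlgHom A B L) hBL).mp (Algebra.IsAlgebraic.isAlgebraic _)⟩
  have hmult : ∀ b : B, b ≠ 0 → ∃ (c : A) (e : B), c ≠ 0 ∧ algebraMap A B c = b * e := fun b hb => by
    obtain ⟨c, hc0, hc⟩ := (Algebra.IsAlgebraic.isAlgebraic (R := A) b).exists_nonzero_dvd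
      (mem_nonZeroDivisors_of_ne_zero hb)
    obtain ⟨e, he⟩ := hc
    exact ⟨c, e, hc0, he⟩
  -- a free module of full rank inside `B`
  have hbas : ∀ i : Fin r, ∃ (c : A) (v : B), c ≠ 0 ∧ algebraMap B L v = c • (Module.finBasis K L) i := fun i => by
    obtain ⟨p, q, hq, hpq⟩ := IsFractionRing.div_surjective B ((Module.finBasis K L) i)
    obtain ⟨c, e, hc0, he⟩ := hmult q (nonZeroDivisors.ne_zero hq)
    refine ⟨c, p * e, hc0, ?_⟩
    rw [← hpq, Algebra.smul_def, IsScalarTower.algebraMap_apply A B L, he, map_mul, map_mul]
    field_simp [(map_ne_zero_iff _ hBL).2 (nonZeroDivisors.ne_zero hq)]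
  choose c v hc0 hv using hbas
  have hli : LinearIndependent A v := by
    refine LinearIndependent.of_comp (IsScalarTower.toAlgHom A B L).toLinearMap ?_
    rw [Fintype.linearIndependent_iff]
    intro g hg i
    have h1 : ∑ j, algebraMap A K (g j * c j) • (Module.finBasis K L) j = 0 := by
      rw [← hg]
      exact Finset.sum_congr rfl fun j _ => by
        rw [IsScalarTower.algebraMap_smul, mul_smul, Function.comp_apply, AlgHom.toLinearMap_apply,
          IsScalarTower.toAlgHom_apply, hv]
    have h2 := (Fintype.linearIndependent_iff.1 (Module.finBasis K L).linearIndependent) _ h1 i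
    rw [map_eq_zero_iff _ (IsFractionRing.injective A K), mul_eq_zero] at h2
    exact h2.resolve_right (hc0 i)
  let φ : (Fin r → A) →ₗ[A] B := Fintype.linearCombination A v
  have hφ : Function.Injective φ := LinearMap.ker_eq_bot.1 (LinearMap.ker_eq_bot'.2 fun g hg =>
    funext (Fintype.linearIndependent_iff.1 hli g (by simpa [φ, Fintype.linearCombination_apply] using hg)))
  have htor : ∀ b : B, ∃ d : A, d ≠ 0 ∧ d • b ∈ LinearMap.range φ := fun b => by
    obtain ⟨⟨d, hd⟩, hint⟩ := IsLocalization.exist_integer_multiples (nonZeroDivisors A) (Finset.univ : Finset (Fin r))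
      fun i => (Module.finBasis K L).repr (algebraMap B L b) i
    choose g hg using fun i => hint i (Finset.mem_univ i)
    refine ⟨d * ∏ i, c i, mul_ne_zero (nonZeroDivisors.ne_zero hd) (Finset.prod_ne_zero_iff.2 fun i _ => hc0 i),
      fun i => g i * ∏ j ∈ Finset.univ.erase i, c j, hBL ?_⟩
    rw [show φ _ = _ from Fintype.linearCombination_apply A v _, map_sum]
    refine Eq.trans (Finset.sum_congr rfl fun i _ => (?_ : _ =
      (∏ j, c j) • ((d • (Module.finBasis K L).repr (algebraMap B L b) i) • (Module.finBasis K L) i))) ?_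
    · rw [← hg i, IsScalarTower.algebraMap_smul, ← IsScalarTower.toAlgHom_apply A B L, map_smul,
        IsScalarTower.toAlgHom_apply, hv, ← mul_smul, ← mul_smul]
      congr 1
      rw [← Finset.mul_prod_erase _ c (Finset.mem_univ i)]
      ring
    · simp_rw [smul_assoc]
      rw [← Finset.smul_sum, ← Finset.smul_sum, (Module.finBasis K L).sum_repr,
        ← IsScalarTower.toAlgHom_apply A B L ((d * ∏ i, c i) • b), map_smul, IsScalarTower.toAlgHom_apply,
        ← mul_smul, mul_comm d]
  -- the quotient by `x`
  have hreg : IsSMulRegular B x := smul_right_injective B hx0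
  set J := Ideal.span {algebraMap A B x}
  have hJ : LinearMap.range (LinearMap.lsmul A B x) = J.restrictScalars A := by
    ext b
    constructor
    · rintro ⟨e, rfl⟩
      change x • e ∈ J
      rw [Algebra.smul_def]
      exact Ideal.mul_mem_right _ _ (Ideal.mem_span_singleton_self _)
    · intro hb
      obtain ⟨e, rfl⟩ := Ideal.mem_span_singleton'.1 hb
      exact ⟨e, by rw [LinearMap.lsmul_apply, Algebra.smul_def, mul_comm]⟩
  have hlenJ : Module.length A (B ⧸ J) = Module.length A (B ⧸ LinearMap.range (LinearMap.lsmul A B x)) :=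
    ((Submodule.quotEquivOfEq _ _ hJ).trans (Submodule.Quotient.restrictScalarsEquiv A J)).length_eq.symm
  have hre : (r : ℕ∞) * Module.length A (A ⧸ Ideal.span {x}) ≠ ⊤ :=
    WithTop.mul_ne_top (ENat.natCast_ne_top r) (Module.length_ne_top_iff.mpr
      (isFiniteLength_quotient_span_singleton A (mem_nonZeroDivisors_of_ne_zero hx0)))
  have hle : Module.length A (B ⧸ J) ≤ (r : ℕ∞) * Module.length A (A ⧸ Ideal.span {x}) := by
    let e : L ≃ₗ[A] (Fin r → K) := (Module.finBasis K L).equivFun.restrictScalars A
    let ι : B →ₗ[A] (Fin r → K) := e.toLinearMap ∘ₗ (IsScalarTower.toAlgHom A B L).toLinearMap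
    let eB : B ≃ₗ[A] LinearMap.range ι := LinearEquiv.ofInjective ι (e.injective.comp hBL)
    have hmap : (LinearMap.range (LinearMap.lsmul A B x)).map eB.toLinearMap =
        LinearMap.range (LinearMap.lsmul A (LinearMap.range ι) x) := by
      ext y
      constructor
      · rintro ⟨_, ⟨z, rfl⟩, rfl⟩
        exact ⟨eB z, (map_smul eB x z).symm⟩
      · rintro ⟨z, rfl⟩
        obtain ⟨z, rfl⟩ := eB.surjective z
        exact ⟨x • z, ⟨z, rfl⟩, map_smul eB x z⟩
    rw [hlenJ, (Submodule.Quotient.equiv _ _ eB hmap).length_eq]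
    exact RegLoc.length_submodule_pi_quotient_le hx0 r _
  have hflA : IsFiniteLength A (B ⧸ J) := Module.length_ne_top_iff.mp (ne_top_of_le_ne_top hre hle)
  have : IsArtinianRing (B ⧸ J) := isArtinian_of_tower A (isFiniteLength_iff_isNoetherian_isArtinian.1 hflA).2
  have hflB : IsFiniteLength B (B ⧸ J) := by
    rw [← Module.length_ne_top_iff]
    refine ne_top_of_le_ne_top (Module.length_ne_top_iff.mpr hflA) ?_
    have h3 := Submodule.length_le_length_restrictScalars A (⊤ : Submodule B (B ⧸ J))
    rwa [Submodule.restrictScalars_top, Module.length_top, Module.length_top] at h3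
  -- finitely many maximal ideals
  have hfinP : {q : Ideal B | q.IsPrime}.Finite := by
    refine (((IsArtinianRing.setOfPred_isPrime_finite (B ⧸ J)).image
      (Ideal.comap (Ideal.Quotient.mk J))).insert ⊥).subset fun q hq => ?_
    have hq' : q.IsPrime := hq
    by_cases hxq : algebraMap A B x ∈ q
    · have hJq : J ≤ q := (Ideal.span_singleton_le_iff_mem _).2 hxq
      refine Or.inr ⟨q.map (Ideal.Quotient.mk J), Ideal.map_isPrime_of_surjective Ideal.Quotient.mk_surjective
        (by rwa [Ideal.mk_ker]), ?_⟩
      rw [Ideal.comap_map_of_surjective _ Ideal.Quotient.mk_surjective, ← RingHom.ker_eq_comap_bot,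
        Ideal.mk_ker, sup_eq_left.2 hJq]
    · refine Or.inl (le_bot_iff.1 fun b hb => by_contra fun hb0 => hxq ?_)
      obtain ⟨a, e, ha0, he⟩ := hmult b hb0
      have hP : (q.comap (algebraMap A B)).IsPrime := Ideal.IsPrime.comap _
      have ha : a ∈ q.comap (algebraMap A B) := by
        rw [Ideal.mem_comap, he]; exact Ideal.mul_mem_right _ _ hb
      have hne : q.comap (algebraMap A B) ≠ ⊥ := fun h => ha0 (by rwa [h, Ideal.mem_bot] at ha)
      have hxc : x ∈ q.comap (algebraMap A B) := by
        rw [IsLocalRing.eq_maximalIdeal (hP.isMaximal_of_ne_bot hne)]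
        exact hx
      exact hxc
  have hMfin : Finite (MaximalSpectrum B) := by
    have := hfinP.to_subtype
    exact Finite.of_injective (fun m : MaximalSpectrum B => (⟨m.asIdeal, m.isMaximal.isPrime⟩ : {q : Ideal B | q.IsPrime}))
      fun m m' h => MaximalSpectrum.ext (congrArg Subtype.val h)
  have := Fintype.ofFinite (MaximalSpectrum B)
  have hsum : (∑ᶠ m : MaximalSpectrum B,
      Module.length A (B ⧸ m.asIdeal) *
        Module.length (Localization.AtPrime m.asIdeal)
          (Localization.AtPrime m.asIdeal ⧸
            Ideal.span ({algebraMap A (Localization.AtPrime m.asIdeal) x} : Set _))) = Module.length A (B ⧸ J) := by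
    rw [finsum_eq_sum_of_fintype, LenLib.length_restrict_decomp (R := A) (fun p : MaximalSpectrum B => p.asIdeal)
      (fun _ _ h => MaximalSpectrum.ext h) (fun p hp => ⟨⟨p, hp⟩, rfl⟩) _ hflB]
    refine Finset.sum_congr rfl fun m _ => ?_
    congr 1
    rw [LenLib.length_localized_quotient, Ideal.map_span, Set.image_singleton, ← IsScalarTower.algebraMap_apply]
  refine ⟨hMfin, hsum ▸ hle, ?_⟩
  rw [hsum, hlenJ]
  refine ⟨fun h => KALen.finite_of_length_eq φ hφ htor hreg hx (h ▸ hre) h, fun h => ?_⟩
  have h1 := KALen.length_quotient_of_free_le φ hφ (⊤ : Submodule A B) h.fg_top le_top htor hreg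
  rw [← h1]
  have e : LinearMap.range (LinearMap.lsmul A (⊤ : Submodule A B) x) =
      (LinearMap.range (LinearMap.lsmul A B x)).map (Submodule.topEquiv.symm : B ≃ₗ[A] (⊤ : Submodule A B)).toLinearMap := by
    ext y
    constructor
    · rintro ⟨z, rfl⟩
      exact ⟨x • (z : B), ⟨z, rfl⟩, rfl⟩
    · rintro ⟨_, ⟨z, rfl⟩, rfl⟩
      exact ⟨⟨z, trivial⟩, rfl⟩
  exact (Submodule.Quotient.equiv _ _ (Submodule.topEquiv.symm : B ≃ₗ[A] (⊤ : Submodule A B)) e.symm).length_eq

end Groth.Agent.S9136
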