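import Groth.Statements.S9137
import Mathlib.RingTheory.ZariskisMainTheorem
import Mathlib.RingTheory.EssentialFiniteness
import Mathlib.RingTheory.Artinian.Ring
import Mathlib.RingTheory.KrullDimension.Basic
import Mathlib.RingTheory.LocalRing.ResidueField.Basic
import Mathlib.Tactic.Ring


set_option autoImplicit false
set_option linter.style.haveILetI false
set_option linter.style.haveILetI false
universe u
open CAlg

namespace Groth.Agent.S9137

lemma exists_pow_mul_mem {R B : Type u} [CommRing R] [CommRing B] [Algebra R B]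
    (S' : Subalgebra R B) (r : S')
    (h : Function.Surjective (Localization.awayMap S'.val.toRingHom r)) (b : B) :
    ∃ k : ℕ, (r : B) ^ k * b ∈ S' := by
  obtain ⟨y, hy⟩ := h (algebraMap B _ b)
  obtain ⟨⟨a, ⟨_, n, rfl⟩⟩, ha⟩ := IsLocalization.surj (Submonoid.powers r) y
  have hmap : ∀ c : S', Localization.awayMap S'.val.toRingHom r (algebraMap S' _ c) =
      algebraMap B (Localization.Away (S'.val.toRingHom r)) (S'.val.toRingHom c) :=
    fun c => IsLocalization.map_eq _ c
  have ha' := congrArg (Localization.awayMap S'.val.toRingHom r) ha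
  rw [map_mul, hy, hmap, hmap, ← map_mul] at ha'
  obtain ⟨⟨_, j, rfl⟩, hj⟩ :=
    IsLocalization.exists_of_eq (M := Submonoid.powers (S'.val.toRingHom r)) ha'
  refine ⟨j + n, ?_⟩
  have : (r : B) ^ j * (a : B) ∈ S' := mul_mem (pow_mem r.2 j) a.2
  convert this using 1
  have hj' : (r : B) ^ j * (b * (r : B) ^ n) = (r : B) ^ j * (a : B) := hj
  rw [← hj']
  ring

lemma finite_quot (R S : Type u) [CommRing R] [CommRing S] [IsLocalRing R] [IsLocalRing S]
    [Algebra R S] [IsLocalHom (algebraMap R S)] [Algebra.EssFiniteType R S]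
    (hres : Module.Finite (IsLocalRing.ResidueField R) (IsLocalRing.ResidueField S))
    (hdim : ringKrullDim (S ⧸ (IsLocalRing.maximalIdeal R).map (algebraMap R S)) = 0) :
    Module.Finite R (S ⧸ (IsLocalRing.maximalIdeal R).map (algebraMap R S)) := by
  set J := (IsLocalRing.maximalIdeal R).map (algebraMap R S) with hJ
  have hJm : J ≤ IsLocalRing.maximalIdeal S := by
    rw [hJ, Ideal.map_le_iff_le_comap, IsLocalRing.maximalIdeal_comap]
  letI : Algebra (R ⧸ IsLocalRing.maximalIdeal R) (S ⧸ J) :=
    Ideal.Quotient.algebraQuotientOfLEComap Ideal.le_comap_map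
  haveI : IsScalarTower R (R ⧸ IsLocalRing.maximalIdeal R) (S ⧸ J) :=
    IsScalarTower.of_algebraMap_eq fun _ => rfl
  haveI : Algebra.EssFiniteType R (S ⧸ J) := Algebra.EssFiniteType.comp R S (S ⧸ J)
  haveI : Algebra.EssFiniteType (R ⧸ IsLocalRing.maximalIdeal R) (S ⧸ J) :=
    Algebra.EssFiniteType.of_comp R _ _
  haveI : IsNoetherianRing (R ⧸ IsLocalRing.maximalIdeal R) :=
    inferInstanceAs (IsNoetherianRing (IsLocalRing.ResidueField R))
  haveI : IsNoetherianRing (S ⧸ J) := Algebra.EssFiniteType.isNoetherianRing (R ⧸ IsLocalRing.maximalIdeal R) _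
  haveI : Module.Finite R (IsLocalRing.ResidueField S) := by
    haveI : Module.Finite R (IsLocalRing.ResidueField R) :=
      Module.Finite.of_surjective (Algebra.linearMap R _) IsLocalRing.residue_surjective
    exact Module.Finite.trans (IsLocalRing.ResidueField R) _
  let g : (S ⧸ J) →ₐ[R] IsLocalRing.ResidueField S :=
    Ideal.Quotient.liftₐ J (IsScalarTower.toAlgHom R S _) (fun a ha => by
      show IsLocalRing.residue S a = 0
      exact (IsLocalRing.residue_eq_zero_iff a).2 (hJm ha))
  have hg : Function.Surjective g := fun y => by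
    obtain ⟨x, rfl⟩ := IsLocalRing.residue_surjective y
    exact ⟨Ideal.Quotient.mk J x, rfl⟩
  haveI : Nontrivial (S ⧸ J) := Ideal.Quotient.nontrivial_iff.2 (fun h => (IsLocalRing.maximalIdeal.isMaximal S).ne_top (top_le_iff.1 (h ▸ hJm)))
  haveI : IsLocalRing (S ⧸ J) := IsLocalRing.of_surjective' _ Ideal.Quotient.mk_surjective
  haveI : Ring.KrullDimLE 0 (S ⧸ J) := Ring.krullDimLE_iff.2 (le_of_eq hdim)
  refine Module.finite_of_surjective_of_ker_le_nilradical g hg ?_ (IsNoetherian.noetherian _)
  rw [Ring.KrullDimLE.nilradical_eq_maximalIdeal]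
  exact IsLocalRing.le_maximalIdeal (RingHom.ker_ne_top _)

/-- Let R → S be a local ring homomorphism between local rings, essentially of finite type, such that
the residue field of S is finite over that of R and S/m_R S has dimension zero. Then S is, as an
R-algebra, the localization of a finite R-algebra at a prime. -/
theorem result (R S : Type u) [CommRing R] [CommRing S]
    [IsLocalRing R] [IsLocalRing S] [Algebra R S] [IsLocalHom (algebraMap R S)]
    [Algebra.EssFiniteType R S]
    (hres : Module.Finite (IsLocalRing.ResidueField R) (IsLocalRing.ResidueField S))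
    (hdim : ringKrullDim (S ⧸ (IsLocalRing.maximalIdeal R).map (algebraMap R S)) = 0) :
    ∃ (S' : Type u) (_ : CommRing S') (_ : Algebra R S') (_ : Algebra S' S) (_ : IsScalarTower R S' S)
      (q : Ideal S') (_ : q.IsPrime), Module.Finite R S' ∧ IsLocalization.AtPrime S q := by
  set m := IsLocalRing.maximalIdeal R with hm
  let B := Algebra.EssFiniteType.subalgebra R S
  let q : Ideal B := (IsLocalRing.maximalIdeal S).comap (algebraMap B S)
  have hsub : Algebra.EssFiniteType.submonoid R S = q.primeCompl := by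
    ext x
    show IsUnit (algebraMap B S x) ↔ ¬ algebraMap B S x ∈ IsLocalRing.maximalIdeal S
    simp [IsLocalRing.mem_maximalIdeal, mem_nonunits_iff]
  haveI hloc : IsLocalization.AtPrime S q := by
    show IsLocalization q.primeCompl S
    rw [← hsub]; infer_instance
  have hqu : q.under R = m := by
    show (q.comap (algebraMap R B)) = m
    rw [show q = (IsLocalRing.maximalIdeal S).comap (algebraMap B S) from rfl, Ideal.comap_comap,
      ← IsScalarTower.algebraMap_eq]
    exact IsLocalRing.maximalIdeal_comap _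
  haveI hfin : Module.Finite R (S ⧸ m.map (algebraMap R S)) := finite_quot R S hres hdim
  haveI : Algebra.WeaklyQuasiFiniteAt R q := by
    rw [Algebra.weaklyQuasiFiniteAt_iff, hqu]
    let e : Localization.AtPrime q ≃ₐ[R] S :=
      (IsLocalization.algEquiv q.primeCompl (Localization.AtPrime q) S).restrictScalars R
    have he : m.map (algebraMap R S) = (m.map (algebraMap R (Localization.AtPrime q))).map (e : Localization.AtPrime q →+* S) := by
      rw [Ideal.map_map]; congr 1; exact (e.toAlgHom.comp_algebraMap).symm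
    haveI : Module.Finite R (Localization.AtPrime q ⧸ m.map (algebraMap R (Localization.AtPrime q))) :=
      Module.Finite.equiv (Ideal.quotientEquivAlg _ _ e he).symm.toLinearEquiv
    exact ⟨fun P _ => Module.Finite.base_change R P.ResidueField _⟩
  obtain ⟨S', hS', r, hr, hbij⟩ := Algebra.QuasiFiniteAt.exists_fg_and_exists_notMem_and_awayMap_bijective (R := R) q
  have hkey : ∀ b : B, ∃ k : ℕ, (r : B) ^ k * b ∈ S' := exists_pow_mul_mem S' r hbij.2
  let q' : Ideal S' := q.comap S'.val.toRingHom
  letI algS : Algebra S' S := ((algebraMap B S).comp S'.val.toRingHom).toAlgebra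
  refine ⟨S', inferInstance, inferInstance, algS, IsScalarTower.of_algebraMap_eq fun x => ?_,
    q', Ideal.comap_isPrime _ q, ⟨(Submodule.fg_top _).mpr hS'⟩, ?_⟩
  · exact IsScalarTower.algebraMap_apply R B S x
  refine (isLocalization_iff _ _).2 ⟨fun s => ?_, fun x => ?_, fun {a a'} h => ?_⟩
  · exact IsLocalization.map_units S (⟨S'.val (s : S'), s.2⟩ : q.primeCompl)
  · obtain ⟨⟨b, t⟩, hbt⟩ := IsLocalization.surj q.primeCompl x
    obtain ⟨j, hj⟩ := hkey b
    obtain ⟨i, hi⟩ := hkey t
    have hc : (⟨(r : B) ^ (i + j) * t, by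
        rw [add_comm, pow_add, mul_assoc]; exact mul_mem (pow_mem r.2 j) hi⟩ : S') ∈ q'.primeCompl :=
      q.primeCompl.mul_mem (q.primeCompl.pow_mem hr _) t.2
    refine ⟨⟨⟨(r : B) ^ (i + j) * b, by
        rw [pow_add, mul_assoc]; exact mul_mem (pow_mem r.2 i) hj⟩, ⟨_, hc⟩⟩, ?_⟩
    show x * algebraMap B S ((r : B) ^ (i + j) * t) = algebraMap B S ((r : B) ^ (i + j) * b)
    rw [map_mul, map_mul, ← hbt]; ring
  · obtain ⟨t, ht⟩ := IsLocalization.exists_of_eq (M := q.primeCompl) (x := (a : B)) (y := (a' : B)) h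
    obtain ⟨i, hi⟩ := hkey t
    have hc : (⟨_, hi⟩ : S') ∈ q'.primeCompl :=
      q.primeCompl.mul_mem (q.primeCompl.pow_mem hr _) t.2
    refine ⟨⟨_, hc⟩, Subtype.ext ?_⟩
    show (r : B) ^ i * t * a = (r : B) ^ i * t * a'
    rw [mul_assoc, ht, ← mul_assoc]

end Groth.Agent.S9137
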