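import Groth.Statements.S9138
import Mathlib
import Groth.Agent.Adic.StalkRing
-- import your own Groth.Agent.* helpers here

set_option autoImplicit false
universe u
open CAlg

namespace Groth.Agent.S9138

section Aux

variable {R S : Type u} [CommRing R] [CommRing S]

/-- Completions for two ideals with cofinal powers agree. -/
theorem bijective_complMap_of_cofinal (J K : Ideal S) (h : J.map (RingHom.id S) ≤ K) (N : ℕ)
    (hN : K ^ N ≤ J) : Function.Bijective (FSch.complMap J K (RingHom.id S) h) := by
  have hle : J ≤ K := by rwa [Ideal.map_id] at h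
  have hpow : ∀ n, K ^ (n * N) ≤ J ^ n := fun n => by
    rw [mul_comm, pow_mul]; exact Ideal.pow_right_mono hN n
  have hpow' : ∀ n, K ^ (n * (N + 1)) ≤ J ^ n := fun n =>
    le_trans (Ideal.pow_le_pow_right (by nlinarith)) (hpow n)
  have hev : ∀ (x : AdicCompletion.AdicCauchySequence J S) (n : ℕ),
      AdicCompletion.evalₐ K n (FSch.complMap J K (RingHom.id S) h (AdicCompletion.mk J S x)) =
        Ideal.Quotient.mk (K ^ n) (x.1 n) := by
    intro x n
    rw [Groth.Agent.Adic.StalkRing.evalₐ_complMap, AdicCompletion.evalₐ_mk, Ideal.quotientMap_mk]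
    rfl
  constructor
  · rw [injective_iff_map_eq_zero]
    intro x hx
    obtain ⟨x, rfl⟩ := AdicCompletion.mk_surjective J S x
    refine AdicCompletion.ext_evalₐ fun n => ?_
    rw [map_zero, AdicCompletion.evalₐ_mk, Ideal.Quotient.eq_zero_iff_mem]
    have h1 := hev x (n * (N + 1))
    rw [hx, map_zero, eq_comm, Ideal.Quotient.eq_zero_iff_mem] at h1
    have h2 := x.2 (show n ≤ n * (N + 1) by nlinarith)
    rw [SModEq.sub_mem, smul_eq_mul, Ideal.mul_top] at h2
    have := (J ^ n).add_mem h2 (hpow' n h1)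
    simpa using this
  · intro y
    obtain ⟨y, rfl⟩ := AdicCompletion.mk_surjective K S y
    have hc : AdicCompletion.IsAdicCauchy J S (fun n => (y.val : ℕ → S) (n * (N + 1))) := by
      intro m n hmn
      have h2 := y.2 (show m * (N + 1) ≤ n * (N + 1) by nlinarith)
      rw [SModEq.sub_mem, smul_eq_mul, Ideal.mul_top] at h2 ⊢
      exact hpow' m h2
    refine ⟨AdicCompletion.mk J S ⟨_, hc⟩, AdicCompletion.ext_evalₐ fun n => ?_⟩
    rw [hev, AdicCompletion.evalₐ_mk, Ideal.Quotient.eq]
    have h2 := y.2 (show n ≤ n * (N + 1) by nlinarith)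
    rw [SModEq.sub_mem, smul_eq_mul, Ideal.mul_top] at h2
    rw [← neg_sub]
    exact (K ^ n).neg_mem h2

/-- Complete Nakayama: module generators modulo `I` generate the completion. -/
theorem finite_complMap_map (f : R →+* S) (I : Ideal R) {d : ℕ} (s : Fin d → S)
    (hs : ∀ w : S, ∃ c : Fin d → R, w - ∑ j, f (c j) * s j ∈ I.map f)
    (h : I.map f ≤ I.map f) : (FSch.complMap I (I.map f) f h).Finite := by
  set J := I.map f with hJ
  have step : ∀ (n : ℕ) (z : S), z ∈ J ^ n →
      ∃ δ : Fin d → R, (∀ j, δ j ∈ I ^ n) ∧ z - ∑ j, f (δ j) * s j ∈ J ^ (n + 1) := by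
    intro n z hz
    rw [hJ, ← Ideal.map_pow] at hz
    induction hz using Submodule.span_induction with
    | mem x hx =>
      obtain ⟨a, ha, rfl⟩ := hx
      obtain ⟨c, hc⟩ := hs 1
      refine ⟨fun j => a * c j, fun j => Ideal.mul_mem_right _ _ ha, ?_⟩
      have : f a - ∑ j, f (a * c j) * s j = f a * (1 - ∑ j, f (c j) * s j) := by
        rw [mul_sub, mul_one, Finset.mul_sum]
        simp [map_mul, mul_assoc]
      rw [this, pow_succ, hJ, ← Ideal.map_pow]
      exact Ideal.mul_mem_mul (Ideal.mem_map_of_mem f ha) hc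
    | zero => exact ⟨0, fun j => Submodule.zero_mem _, by simp⟩
    | add x y _ _ hx hy =>
      obtain ⟨δ, hδ, hδ'⟩ := hx
      obtain ⟨ε, hε, hε'⟩ := hy
      refine ⟨δ + ε, fun j => Ideal.add_mem _ (hδ j) (hε j), ?_⟩
      have := Ideal.add_mem _ hδ' hε'
      convert this using 1
      simp [map_add, add_mul, Finset.sum_add_distrib]
      ring
    | smul a x _ hx =>
      obtain ⟨δ, hδ, hδ'⟩ := hx
      choose c hc using fun j => hs (a * s j)
      refine ⟨fun l => ∑ j, δ j * c j l, fun l => Ideal.sum_mem _ fun j _ => Ideal.mul_mem_right _ _ (hδ j), ?_⟩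
      have h1 : ∑ j, f (δ j) * (a * s j - ∑ l, f (c j l) * s l) ∈ J ^ (n + 1) := by
        refine Ideal.sum_mem _ fun j _ => ?_
        rw [pow_succ, hJ, ← Ideal.map_pow]
        exact Ideal.mul_mem_mul (Ideal.mem_map_of_mem f (hδ j)) (hc j)
      have := Ideal.add_mem _ (Ideal.mul_mem_left _ a hδ') h1
      convert this using 1
      simp only [smul_eq_mul, mul_sub, Finset.sum_sub_distrib, Finset.mul_sum, map_sum, map_mul, Finset.sum_mul]
      rw [Finset.sum_comm]
      simp only [mul_assoc, mul_left_comm a]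
      ring
  letI := (FSch.complMap I J f h).toAlgebra
  change Module.Finite (AdicCompletion I R) (AdicCompletion J S)
  let Φ : (Fin d → AdicCompletion I R) →ₗ[AdicCompletion I R] AdicCompletion J S :=
    Fintype.linearCombination (AdicCompletion I R) (fun j => AdicCompletion.of J S (s j))
  refine Module.Finite.of_surjective Φ ?_
  intro x
  obtain ⟨y, rfl⟩ := AdicCompletion.mk_surjective J S x
  have step' : ∀ (n : ℕ) (r : Fin d → R), (y.val : ℕ → S) n - ∑ j, f (r j) * s j ∈ J ^ n →
      ∃ r' : Fin d → R, (∀ j, r j - r' j ∈ I ^ n) ∧ (y.val : ℕ → S) (n + 1) - ∑ j, f (r' j) * s j ∈ J ^ (n + 1) := by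
    intro n r hr
    have h2 := y.2 (Nat.le_succ n)
    rw [SModEq.sub_mem, smul_eq_mul, Ideal.mul_top] at h2
    obtain ⟨δ, hδ, hδ'⟩ := step n ((y.val : ℕ → S) (n + 1) - ∑ j, f (r j) * s j) (by
      have := (J ^ n).sub_mem hr h2
      simpa using this)
    refine ⟨r + δ, fun j => by simpa using (I ^ n).neg_mem (hδ j), ?_⟩
    convert hδ' using 1
    simp [map_add, add_mul, Finset.sum_add_distrib, sub_sub]
  choose g hg1 hg2 using step'
  let seq : (n : ℕ) → {r : Fin d → R // (y.val : ℕ → S) n - ∑ j, f (r j) * s j ∈ J ^ n} := fun n =>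
    Nat.rec ⟨0, by simp⟩ (fun n r => ⟨g n r.1 r.2, hg2 n r.1 r.2⟩) n
  have hc : ∀ j, AdicCompletion.IsAdicCauchy I R (fun n => (seq n).1 j) := by
    intro j
    rw [AdicCompletion.isAdicCauchy_iff]
    intro n
    rw [SModEq.sub_mem, smul_eq_mul, Ideal.mul_top]
    exact hg1 n (seq n).1 (seq n).2 j
  refine ⟨fun j => AdicCompletion.mk I R ⟨_, hc j⟩, AdicCompletion.ext_evalₐ fun n => ?_⟩
  simp only [Φ, Fintype.linearCombination_apply, map_sum, Algebra.smul_def, map_mul,
    RingHom.algebraMap_toAlgebra, Groth.Agent.Adic.StalkRing.evalₐ_complMap, AdicCompletion.evalₐ_mk,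
    AdicCompletion.evalₐ_of, Ideal.quotientMap_mk]
  rw [eq_comm, ← sub_eq_zero]
  simp only [← map_mul, ← map_sum, ← map_sub, Ideal.Quotient.eq_zero_iff_mem]
  exact (seq n).2

end Aux

/-- Let R → S be a local ring homomorphism between local rings with finitely generated maximal ideals m
and n, such that S/mS is a finite-dimensional κ(m)-vector space. Then (1) the canonical ring map
from the mS-adic completion of S to the n-adic completion of S is bijective, and (2) the induced
ring map from the m-adic completion of R to the n-adic completion of S is finite. (The hypotheses h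
and h' record the inclusion mS ⊆ n, which holds for any local homomorphism; they are the arguments
the completion maps take.) -/
theorem result (R S : Type u) [CommRing R] [CommRing S]
    [IsLocalRing R] [IsLocalRing S] [Algebra R S] [IsLocalHom (algebraMap R S)]
    (hm : (IsLocalRing.maximalIdeal R).FG) (hn : (IsLocalRing.maximalIdeal S).FG)
    (hfib : Module.Finite (IsLocalRing.maximalIdeal R).ResidueField ((IsLocalRing.maximalIdeal R).Fiber S))
    (h : (IsLocalRing.maximalIdeal R).map (algebraMap R S) ≤ IsLocalRing.maximalIdeal S)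
    (h' : ((IsLocalRing.maximalIdeal R).map (algebraMap R S)).map (RingHom.id S) ≤ IsLocalRing.maximalIdeal S) :
    Function.Bijective (FSch.complMap ((IsLocalRing.maximalIdeal R).map (algebraMap R S))
        (IsLocalRing.maximalIdeal S) (RingHom.id S) h') ∧
      (FSch.complMap (IsLocalRing.maximalIdeal R) (IsLocalRing.maximalIdeal S) (algebraMap R S) h).Finite := by
  have hsurj : Function.Surjective (algebraMap R (IsLocalRing.maximalIdeal R).ResidueField) :=
    fun x => by
      obtain ⟨q, rfl⟩ := (Ideal.bijective_algebraMap_quotient_residueField (IsLocalRing.maximalIdeal R)).2 x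
      obtain ⟨r, rfl⟩ := Ideal.Quotient.mk_surjective q
      exact ⟨r, (IsScalarTower.algebraMap_apply R (R ⧸ IsLocalRing.maximalIdeal R) _ r)⟩
  let J : Ideal S := (IsLocalRing.maximalIdeal R).map (algebraMap R S)
  haveI h1 : Module.Finite R ((IsLocalRing.maximalIdeal R).ResidueField) :=
    Module.Finite.of_surjective (Algebra.linearMap R _) hsurj
  haveI h2 : Module.Finite R ((IsLocalRing.maximalIdeal R).Fiber S) :=
    Module.Finite.trans (IsLocalRing.maximalIdeal R).ResidueField _
  let e : (IsLocalRing.maximalIdeal R).Fiber S →ₗ[R] S ⧸ J :=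
    TensorProduct.lift (LinearMap.mk₂ R
      (fun (x : (IsLocalRing.maximalIdeal R).ResidueField) (w : S) =>
        (Ideal.Quotient.mk J (algebraMap R S (hsurj x).choose * w)))
      (fun x x' w => by
        rw [← map_add, Ideal.Quotient.eq, ← add_mul, ← sub_mul]
        refine Ideal.mul_mem_right _ _ ?_
        rw [← map_add, ← map_sub]
        refine Ideal.mem_map_of_mem _ (Ideal.algebraMap_residueField_eq_zero.1 ?_)
        rw [map_sub, map_add, (hsurj _).choose_spec, (hsurj _).choose_spec, (hsurj _).choose_spec, sub_self])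
      (fun a x w => by
        rw [Algebra.smul_def a (Ideal.Quotient.mk J _), ← Ideal.Quotient.mk_algebraMap, ← map_mul,
          Ideal.Quotient.eq, ← mul_assoc, ← sub_mul]
        refine Ideal.mul_mem_right _ _ ?_
        rw [← map_mul, ← map_sub]
        refine Ideal.mem_map_of_mem _ (Ideal.algebraMap_residueField_eq_zero.1 ?_)
        rw [map_sub, map_mul, (hsurj _).choose_spec, (hsurj _).choose_spec, Algebra.smul_def, sub_self])
      (fun x w w' => by rw [← map_add, mul_add])
      (fun a x w => by
        rw [Algebra.smul_def a (Ideal.Quotient.mk J _), ← Ideal.Quotient.mk_algebraMap, ← map_mul,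
          Algebra.smul_def, mul_left_comm]))
  have he : Function.Surjective e := by
    intro z
    obtain ⟨w, rfl⟩ := Ideal.Quotient.mk_surjective z
    refine ⟨1 ⊗ₜ w, ?_⟩
    simp only [e, TensorProduct.lift.tmul, LinearMap.mk₂_apply]
    rw [Ideal.Quotient.eq]
    have : algebraMap R S (hsurj 1).choose - 1 ∈ J := by
      rw [← map_one (algebraMap R S), ← map_sub]
      refine Ideal.mem_map_of_mem _ (Ideal.algebraMap_residueField_eq_zero.1 ?_)
      rw [map_sub, (hsurj _).choose_spec, map_one, sub_self]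
    have := J.mul_mem_right w this
    rwa [sub_mul, one_mul] at this
  haveI h3 : Module.Finite R (S ⧸ J) := Module.Finite.of_surjective e he
  haveI : Module.Finite (R ⧸ IsLocalRing.maximalIdeal R) (S ⧸ J) :=
    Module.Finite.of_restrictScalars_finite R _ _
  letI := Ideal.Quotient.field (IsLocalRing.maximalIdeal R)
  haveI : IsArtinianRing (S ⧸ J) := IsArtinianRing.of_finite (R ⧸ IsLocalRing.maximalIdeal R) _
  obtain ⟨N, hN⟩ : ∃ N : ℕ, IsLocalRing.maximalIdeal S ^ N ≤ J := by
    haveI : Nontrivial (S ⧸ J) := Ideal.Quotient.nontrivial_iff.2 (ne_top_of_le_ne_top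
      (IsLocalRing.maximalIdeal.isMaximal S).ne_top h)
    haveI : IsLocalRing (S ⧸ J) :=
      IsLocalRing.of_surjective' (Ideal.Quotient.mk J) Ideal.Quotient.mk_surjective
    obtain ⟨N, hN⟩ := IsArtinianRing.isNilpotent_jacobson_bot (R := S ⧸ J)
    refine ⟨N, ?_⟩
    have h4 : (IsLocalRing.maximalIdeal S).map (Ideal.Quotient.mk J) ≤ Ideal.jacobson (⊥ : Ideal (S ⧸ J)) := by
      rw [IsLocalRing.jacobson_eq_maximalIdeal _ bot_ne_top]
      exact IsLocalRing.le_maximalIdeal (fun ht => (IsLocalRing.maximalIdeal.isMaximal S).ne_top (by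
        have := congrArg (Ideal.comap (Ideal.Quotient.mk J)) ht
        rwa [Ideal.comap_map_of_surjective _ Ideal.Quotient.mk_surjective, Ideal.comap_top,
          ← RingHom.ker_eq_comap_bot, Ideal.mk_ker, sup_eq_left.2 h] at this))
    have h5 := Ideal.pow_right_mono h4 N
    rw [hN, Ideal.zero_eq_bot, ← Ideal.map_pow, le_bot_iff, Ideal.map_eq_bot_iff_le_ker, Ideal.mk_ker] at h5
    exact h5
  obtain ⟨d, s, hs⟩ := Module.Finite.exists_fin (R := R) (M := S ⧸ J)
  choose s' hs' using fun j => Ideal.Quotient.mk_surjective (s j)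
  have hgen : ∀ w : S, ∃ c : Fin d → R, w - ∑ j, algebraMap R S (c j) * s' j ∈ J := by
    intro w
    have : Ideal.Quotient.mk J w ∈ Submodule.span R (Set.range s) := hs ▸ Submodule.mem_top
    obtain ⟨c, hc⟩ := (Submodule.mem_span_range_iff_exists_fun R).1 this
    refine ⟨c, Ideal.Quotient.eq.1 ?_⟩
    rw [← hc, map_sum]
    refine Finset.sum_congr rfl fun j _ => ?_
    rw [map_mul, hs', Algebra.smul_def, Ideal.Quotient.mk_algebraMap]
  have hb := bijective_complMap_of_cofinal J (IsLocalRing.maximalIdeal S) h' N hN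
  refine ⟨hb, ?_⟩
  have hc : (FSch.complMap J (IsLocalRing.maximalIdeal S) (RingHom.id S) h').comp
      (FSch.complMap (IsLocalRing.maximalIdeal R) J (algebraMap R S) le_rfl) =
      FSch.complMap (IsLocalRing.maximalIdeal R) (IsLocalRing.maximalIdeal S) (algebraMap R S) h :=
    RingHom.ext fun x => Groth.Agent.Adic.StalkRing.complMap_comp (IsLocalRing.maximalIdeal R) J (algebraMap R S) le_rfl (IsLocalRing.maximalIdeal S) (RingHom.id S) h' (algebraMap R S) h (RingHom.id_comp _) x
  rw [← hc]
  exact RingHom.Finite.comp (RingHom.Finite.of_surjective _ hb.2)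
    (finite_complMap_map (algebraMap R S) _ s' hgen le_rfl)

end Groth.Agent.S9138
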