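import Groth.Statements.S9139
import Mathlib.RingTheory.Noetherian.Nilpotent
import Mathlib.RingTheory.Finiteness.Ideal


set_option autoImplicit false
universe u
open CAlg

namespace Groth.Agent.S9139

/-- Let I be a locally nilpotent ideal of a ring R (every element of I is nilpotent) and S → S' a map of
R-algebras with S' of finite type over R. If S → S'/IS' is surjective then so is S → S'. -/
theorem result (R S S' : Type u) [CommRing R] [CommRing S]
    [CommRing S'] [Algebra R S] [Algebra R S'] [Algebra.FiniteType R S'] (I : Ideal R)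
    (hI : ∀ x ∈ I, IsNilpotent x) (f : S →ₐ[R] S')
    (hf : Function.Surjective ((Ideal.Quotient.mk (I.map (algebraMap R S'))).comp f.toRingHom)) :
    Function.Surjective f := by
  classical
  obtain ⟨G, hG⟩ := Algebra.FiniteType.out (R := R) (A := S')
  have hmem : ∀ y : S', ∃ (s : S) (J : Ideal R), J.FG ∧ J ≤ I ∧ y - f s ∈ J.map (algebraMap R S') := by
    intro y
    obtain ⟨s, hs⟩ := hf (Ideal.Quotient.mk _ y)
    have hy : y - f s ∈ I.map (algebraMap R S') := Ideal.Quotient.eq.mp hs.symm
    rw [Ideal.map, Ideal.span] at hy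
    obtain ⟨T, hT, hyT⟩ := Submodule.mem_span_finite_of_mem_span hy
    choose g hg hg' using fun z : T => hT z.2
    refine ⟨s, Ideal.span (Set.range g), Submodule.fg_span (Set.finite_range g), ?_, ?_⟩
    · exact Ideal.span_le.mpr (Set.range_subset_iff.mpr hg)
    · refine Submodule.span_le.mpr (fun z hz => ?_) hyT
      have h1 := Ideal.mem_map_of_mem (algebraMap R S')
        (Ideal.subset_span (Set.mem_range_self (f := g) (⟨z, hz⟩ : T)))
      rw [hg'] at h1
      exact h1
  choose s J hJfg hJI hJ using hmem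
  let J₀ : Ideal R := G.sup J
  obtain ⟨m, hm⟩ : IsNilpotent J₀ := by
    refine (Ideal.FG.isNilpotent_iff_le_nilradical ?_).mpr fun x hx => hI x ?_
    · exact Submodule.fg_finset_sup G J fun y _ => hJfg y
    · exact (Finset.sup_le fun y _ => hJI y) hx
  let J' : Ideal S' := J₀.map (algebraMap R S')
  let T : Subalgebra R S' :=
    (f.range.map (Ideal.Quotient.mkₐ R J')).comap (Ideal.Quotient.mkₐ R J')
  have hT : T = ⊤ := by
    refine top_le_iff.mp (hG ▸ Algebra.adjoin_le fun y hy => ⟨f (s y), ⟨s y, rfl⟩, ?_⟩)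
    exact (Ideal.Quotient.eq.mpr (Ideal.map_mono (Finset.le_sup hy) (hJ y))).symm
  have hsplit : ∀ y : S', ∃ x, y - f x ∈ J' := fun y => by
    obtain ⟨_, ⟨x, rfl⟩, hx⟩ : y ∈ T := hT ▸ trivial
    exact ⟨x, Ideal.Quotient.eq.mp hx.symm⟩
  have hk : ∀ k : ℕ, ∀ y : S', ∃ x, y - f x ∈ (J₀ ^ k).map (algebraMap R S') := by
    intro k
    induction k with
    | zero => intro y; exact ⟨0, by simp [Ideal.map_top]⟩
    | succ k ih =>
      intro y
      obtain ⟨x, hx⟩ := ih y
      suffices h : ∀ z ∈ (J₀ ^ k).map (algebraMap R S'), ∃ x', z - f x' ∈ (J₀ ^ (k + 1)).map (algebraMap R S') by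
        obtain ⟨x', hx'⟩ := h _ hx
        exact ⟨x + x', by rwa [map_add, ← sub_sub]⟩
      intro z hz
      rw [Ideal.map, Ideal.span] at hz
      induction hz using Submodule.span_induction generalizing y with
      | mem z hz =>
        obtain ⟨r, hr, rfl⟩ := hz
        exact ⟨algebraMap R S r, by simp⟩
      | zero => exact ⟨0, by simp⟩
      | add a b _ _ ha hb =>
        obtain ⟨x1, h1⟩ := ha y hx
        obtain ⟨x2, h2⟩ := hb y hx
        exact ⟨x1 + x2, by rw [map_add, add_sub_add_comm]; exact add_mem h1 h2⟩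
      | smul c a ha' ha =>
        obtain ⟨x1, h1⟩ := ha y hx
        obtain ⟨x2, h2⟩ := hsplit c
        refine ⟨x2 * x1, ?_⟩
        rw [map_mul, smul_eq_mul, show c * a - f x2 * f x1 = (c - f x2) * a + f x2 * (a - f x1) by ring]
        refine add_mem ?_ (Ideal.mul_mem_left _ _ h1)
        rw [pow_succ', Ideal.map_mul]
        exact Ideal.mul_mem_mul h2 ha'
  intro y
  obtain ⟨x, hx⟩ := hk m y
  rw [hm, Ideal.zero_eq_bot, Ideal.map_bot, Ideal.mem_bot, sub_eq_zero] at hx
  exact ⟨x, hx.symm⟩

end Groth.Agent.S9139
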