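import Groth.Statements.S9140
import Mathlib

set_option autoImplicit false
universe u
open CAlg

namespace Groth.Agent.S9140

theorem mem_top_smul {R : Type*} [CommRing R] {A : Type*} [CommRing A] [Algebra R A] {J : Ideal R} {x : A}
    (hx : x ∈ J.map (algebraMap R A)) : ∃ (s : Finset A) (a : A → R), (∀ i, a i ∈ J) ∧ ∑ i ∈ s, a i • i = x := by
  have h1 : x ∈ J • Submodule.span R (Set.range (id : A → A)) := by
    rw [Set.range_id, Submodule.span_univ, Ideal.smul_top_eq_map]; exact hx
  obtain ⟨a, ha, rfl⟩ := (Submodule.mem_ideal_smul_span_iff_exists_sum _ _ _).1 h1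
  exact ⟨a.support, a, ha, rfl⟩

theorem surj_aux {R S S' : Type*} [CommRing R] [CommRing S] [CommRing S'] [Algebra R S] [Algebra R S']
    [hft : Algebra.FiniteType R S'] (I : Ideal R) (hI : ∀ x ∈ I, IsNilpotent x) (f : S →ₐ[R] S')
    (hsurj : Function.Surjective ((Ideal.Quotient.mk (I.map (algebraMap R S'))).comp f.toRingHom)) :
    Function.Surjective f := by
  classical
  obtain ⟨G, hG⟩ := hft.out
  have hy : ∀ y : S', ∃ (J : Ideal R), J.FG ∧ J ≤ I ∧ ∃ s, y - f s ∈ J.map (algebraMap R S') := by
    intro y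
    obtain ⟨s, hs⟩ := hsurj (Ideal.Quotient.mk _ y)
    obtain ⟨t, a, ha, hsum⟩ := mem_top_smul ((Ideal.Quotient.eq).1 hs.symm)
    refine ⟨Ideal.span ↑(t.image a), ⟨_, rfl⟩, Ideal.span_le.2 ?_, s, ?_⟩
    · rintro _ hb
      obtain ⟨b, -, rfl⟩ := Finset.mem_image.1 hb
      exact ha b
    · change y - f.toRingHom s ∈ _
      rw [← hsum]
      refine sum_mem fun i hi => ?_
      rw [Algebra.smul_def]
      exact Ideal.mul_mem_right _ _ (Ideal.mem_map_of_mem _ (Ideal.subset_span (Finset.mem_image_of_mem a hi)))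
  choose J hJfg hJI s hs using hy
  let I₀ : Ideal R := G.sup J
  have hI₀I : I₀ ≤ I := Finset.sup_le fun y _ => hJI y
  have hI₀fg : I₀.FG := Submodule.fg_finset_sup G J fun y _ => hJfg y
  obtain ⟨n, hn⟩ := hI₀fg.isNilpotent_iff_le_nilradical.2 fun x hx => hI x (hI₀I hx)
  let π := Ideal.Quotient.mkₐ R (I₀.map (algebraMap R S'))
  have hπ : Function.Surjective (π.comp f) := by
    refine AlgHom.range_eq_top _ |>.1 (top_le_iff.1 ?_)
    have h2 : (⊤ : Subalgebra R (S' ⧸ I₀.map (algebraMap R S'))) = (Algebra.adjoin R (G : Set S')).map π := by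
      rw [hG, Algebra.map_top, (AlgHom.range_eq_top π).2 (Ideal.Quotient.mkₐ_surjective R _)]
    rw [h2, AlgHom.map_adjoin, Algebra.adjoin_le_iff]
    rintro _ ⟨y, hy, rfl⟩
    refine ⟨s y, (Ideal.Quotient.eq.2 ?_).symm⟩
    exact Ideal.map_mono (Finset.le_sup (f := J) hy) (hs y)
  have hstep : (⊤ : Submodule R S') ≤ LinearMap.range f.toLinearMap ⊔ I₀ • ⊤ := by
    intro y _
    obtain ⟨x, hx⟩ := hπ (π y)
    rw [Ideal.smul_top_eq_map]
    exact Submodule.mem_sup.2 ⟨f x, ⟨x, rfl⟩, y - f x, Ideal.Quotient.eq.1 hx.symm, by abel⟩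
  have hk : ∀ k : ℕ, (⊤ : Submodule R S') ≤ LinearMap.range f.toLinearMap ⊔ I₀ ^ k • ⊤ := by
    intro k
    induction k with
    | zero => rw [pow_zero, Ideal.one_eq_top, Submodule.top_smul]; exact le_sup_right
    | succ k ih =>
      refine ih.trans (sup_le le_sup_left ?_)
      refine (Submodule.smul_mono le_rfl hstep).trans ?_
      rw [Submodule.smul_sup, ← Submodule.smul_assoc, smul_eq_mul, ← pow_succ]
      exact sup_le (le_trans Submodule.smul_le_right le_sup_left) le_sup_right
  intro y
  have h2 := hk n (Submodule.mem_top (x := y))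
  rw [hn, Ideal.zero_eq_bot, Submodule.bot_smul, sup_bot_eq] at h2
  exact h2


/-- Let I be a locally nilpotent ideal of a ring R and S → S' a map of R-algebras with S of finite type
over R and S' of finite presentation and flat over R. If the induced map S/IS → S'/IS' is bijective
(stated as: S → S'/IS' is surjective with kernel IS), then S → S' is bijective. -/
theorem result (R S S' : Type u)
    [CommRing R] [CommRing S] [CommRing S'] [Algebra R S] [Algebra R S'] [Algebra.FiniteType R S]
    [Algebra.FinitePresentation R S'] [Module.Flat R S'] (I : Ideal R) (hI : ∀ x ∈ I, IsNilpotent x)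
    (f : S →ₐ[R] S')
    (hsurj : Function.Surjective ((Ideal.Quotient.mk (I.map (algebraMap R S'))).comp f.toRingHom))
    (hker : ∀ s : S, f s ∈ I.map (algebraMap R S') → s ∈ I.map (algebraMap R S)) :
    Function.Bijective f := by
  classical
  have hf : Function.Surjective f := surj_aux I hI f hsurj
  refine ⟨(injective_iff_map_eq_zero f).2 fun s hs => ?_, hf⟩
  have hle : RingHom.ker f.toRingHom ≤ I.map (algebraMap R S) * RingHom.ker f.toRingHom := by
    intro s hs
    have hs0 : f s = 0 := hs
    obtain ⟨t, a, ha, hsum⟩ := mem_top_smul (hker s (by rw [hs0]; exact zero_mem _))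
    have hrel : ∑ i : t, a i • f i = 0 := by
      rw [t.sum_coe_sort (fun i => a i • f i), ← hs0, ← hsum, map_sum]
      exact Finset.sum_congr rfl fun i _ => (map_smul f _ _).symm
    obtain ⟨k, b, y, hy, hb⟩ := Module.Flat.isTrivialRelation_of_sum_smul_eq_zero
      (R := R) (M := S') (f := fun i : t => a i) (x := fun i : t => f i) (by convert hrel using 1)
    choose u hu using fun j => hf (y j)
    have heq : s = ∑ i : t, a i • ((i : S) - ∑ j, b i j • u j) := by
      simp only [smul_sub, Finset.smul_sum, smul_smul, Finset.sum_sub_distrib]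
      rw [Finset.sum_comm, t.sum_coe_sort (fun i => a i • i), hsum]
      simp_rw [← Finset.sum_smul, show ∀ j, ∑ i : t, a i * b i j = 0 from hb, zero_smul, Finset.sum_const_zero, sub_zero]
    rw [heq]
    refine sum_mem fun i _ => ?_
    rw [Algebra.smul_def]
    refine Ideal.mul_mem_mul (Ideal.mem_map_of_mem _ (ha i)) ?_
    change f ((i : S) - ∑ j, b i j • u j) = 0
    rw [map_sub, map_sum, show f (i : S) = ∑ j, b i j • y j from hy i]
    simp_rw [map_smul, hu, sub_self]
  have hfg : (RingHom.ker f.toRingHom).FG := by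
    obtain ⟨n, g, hg⟩ := Algebra.FiniteType.iff_quotient_mvPolynomial''.1 (inferInstance : Algebra.FiniteType R S)
    convert (Algebra.FinitePresentation.ker_fg_of_mvPolynomial (f.comp g) (hf.comp hg)).map g.toRingHom using 1
    simp_rw [RingHom.ker_eq_comap_bot, AlgHom.toRingHom_eq_coe, AlgHom.comp_toRingHom]
    rw [← Ideal.comap_comap, Ideal.map_comap_of_surjective (g : MvPolynomial (Fin n) R →+* S) hg]
  have hbot : RingHom.ker f.toRingHom = ⊥ := by
    refine Submodule.eq_bot_of_le_smul_of_le_jacobson_bot (I.map (algebraMap R S)) _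
      hfg hle (le_trans ?_ Ideal.radical_le_jacobson)
    rw [Ideal.map_le_iff_le_comap]
    intro x hx
    exact (hI x hx).map (algebraMap R S)
  exact hbot.le (show s ∈ RingHom.ker f.toRingHom from hs)

end Groth.Agent.S9140
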