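import Groth.Statements.S9143
import Groth.Agent.Synt44.CIEquiv
import Groth.Agent.RelDim.CMFibre

set_option autoImplicit false
universe u
open Synt

namespace Groth.Agent.S9143

/-- For a local k-algebra S which is essentially of finite type over a field k, being a complete
intersection over k is equivalent to each of: (2) whenever a regular local ring R, essentially of
finite type over k, maps onto S by a surjective k-algebra map, the kernel is generated by a regular
sequence; (3) some regular local ring R, essentially of finite type over k, maps onto S by a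
surjective k-algebra map whose kernel is generated by a list of dim R − dim S elements (stated as
dim R = dim S + the length of the list); (4) S is isomorphic over k to a localization at a prime of
a global complete intersection over k; (5) the same with a local complete intersection over k. -/
theorem result (k S : Type u) [Field k] [CommRing S]
    [IsLocalRing S] [Algebra k S] [Algebra.EssFiniteType k S] :
    (Synt.IsCIOver k S ↔
        ∀ (R : Type u) [CommRing R] [IsRegularLocalRing R] [Algebra k R], Algebra.EssFiniteType k R →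
          ∀ π : R →ₐ[k] S, Function.Surjective π →
            ∃ rs : List R, RingTheory.Sequence.IsRegular R rs ∧ RingHom.ker π.toRingHom = Ideal.ofList rs) ∧
      (Synt.IsCIOver k S ↔
        ∃ (R : Type u) (_ : CommRing R) (_ : IsRegularLocalRing R) (_ : Algebra k R),
          Algebra.EssFiniteType k R ∧ ∃ π : R →ₐ[k] S, Function.Surjective π ∧
            ∃ rs : List R, RingHom.ker π.toRingHom = Ideal.ofList rs ∧
              ringKrullDim R = ringKrullDim S + (rs.length : WithBot ℕ∞)) ∧
      (Synt.IsCIOver k S ↔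
        ∃ (A : Type u) (_ : CommRing A) (_ : Algebra k A) (a : Ideal A) (_ : a.IsPrime),
          Algebra.FiniteType k A ∧ Synt.IsGlobalCI k A ∧ Nonempty (S ≃ₐ[k] Localization.AtPrime a)) ∧
      (Synt.IsCIOver k S ↔
        ∃ (A : Type u) (_ : CommRing A) (_ : Algebra k A) (a : Ideal A) (_ : a.IsPrime),
          Synt.IsLCIOver k A ∧ Nonempty (S ≃ₐ[k] Localization.AtPrime a)) := by
  open Groth.Agent.Synt44 in
  refine ⟨⟨fun h R _ _ _ hR π hπ => ?_, fun h => ?_⟩, ⟨fun h => ?_, ?_⟩, ⟨fun h => ?_, ?_⟩, ⟨fun h => ?_, ?_⟩⟩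
  · obtain ⟨rs, hrs, he⟩ := isRegularIdeal_ker_of_isCIOver h π hπ
    exact ⟨rs, hrs, he.symm⟩
  · obtain ⟨R, _, _, _, π, hR, hπ⟩ := Groth.Agent.Synt44.exists_regular_cover k S
    obtain ⟨rs, hrs, he⟩ := h R hR π hπ
    exact Groth.Agent.Synt44.isCIOver_of_isRegularIdeal_ker π hπ ⟨rs, hrs, he.symm⟩
  · obtain ⟨R, i1, i2, i3, π, hR, hπ, rs, hrs, he⟩ := Groth.Agent.Synt44.exists_surjective_of_isCIOver h
    refine ⟨R, i1, i2, i3, hR, π, hπ, rs, he.symm, ?_⟩
    rw [← ringKrullDim_add_length_eq_ringKrullDim_of_isRegular rs hrs]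
    exact congrArg (· + _) (ringKrullDim_eq_of_ringEquiv
      ((Ideal.quotEquivOfEq he).trans (RingHom.quotientKerEquivOfSurjective (f := π.toRingHom) hπ)))
  · rintro ⟨R, _, _, _, hR, π, hπ, rs, he, hdim⟩
    haveI := Groth.Agent.Depth.isCohenMacaulayLocalRing_of_isRegularLocalRing (R := R)
    refine Groth.Agent.Synt44.isCIOver_of_isRegularIdeal_ker π hπ ⟨rs, ?_, he.symm⟩
    refine (Groth.Agent.RelDim.isRegular_iff_ringKrullDim_le rs
      (he ▸ Groth.Agent.Synt44.ker_le_maximalIdeal π.toRingHom)).2 (le_of_eq ?_)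
    rw [hdim]
    exact congrArg (· + _) (ringKrullDim_eq_of_ringEquiv
      ((Ideal.quotEquivOfEq he.symm).trans (RingHom.quotientKerEquivOfSurjective (f := π.toRingHom) hπ)))
  · obtain ⟨A, _, _, a, _, hA, ⟨e⟩⟩ := Groth.Agent.Synt44.exists_finiteType_atPrime k S
    have h' := Groth.Agent.Synt44.isCIOver_of_equiv e h
    obtain ⟨g, hg, hci⟩ := Groth.Agent.Synt44.exists_isLCIOver_away a h'
    obtain ⟨g', hg', hgci⟩ := Groth.Agent.Synt44.exists_isGlobalCI_away a g hg hci
    obtain ⟨Q, hQ, -, ⟨e'⟩⟩ := Groth.Agent.Synt44.exists_prime_away (k := k) a g' hg'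
    exact ⟨_, inferInstance, inferInstance, Q, hQ, Algebra.FiniteType.trans hA inferInstance, hgci,
      ⟨e.trans e'.symm⟩⟩
  · rintro ⟨A, _, _, a, _, -, hci, ⟨e⟩⟩
    exact Groth.Agent.Synt44.isCIOver_of_equiv e.symm
      (Groth.Agent.Synt44.isCIOver_atPrime (Groth.Agent.Synt44.isLCIOver_of_isGlobalCI hci) a)
  · obtain ⟨A, _, _, a, _, hA, ⟨e⟩⟩ := Groth.Agent.Synt44.exists_finiteType_atPrime k S
    have h' := Groth.Agent.Synt44.isCIOver_of_equiv e h
    obtain ⟨g, hg, hci⟩ := Groth.Agent.Synt44.exists_isLCIOver_away a h'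
    obtain ⟨Q, hQ, -, ⟨e'⟩⟩ := Groth.Agent.Synt44.exists_prime_away (k := k) a g hg
    exact ⟨_, inferInstance, inferInstance, Q, hQ, hci, ⟨e.trans e'.symm⟩⟩
  · rintro ⟨A, _, _, a, _, hci, ⟨e⟩⟩
    exact Groth.Agent.Synt44.isCIOver_of_equiv e.symm (Groth.Agent.Synt44.isCIOver_atPrime hci a)

end Groth.Agent.S9143
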