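import Groth.Statements.S9736
import Groth.Agent.RelGCI.Main
import Groth.Agent.Synt44.RelGCINhd
import Groth.Agent.VarDim.Algebra
import Groth.Agent.S12231
import Mathlib.Algebra.Category.Ring.Constructions
import Mathlib.RingTheory.FiniteType

set_option autoImplicit false
universe u
open FlatMor

namespace Groth.Agent.S9736

open MvPolynomial TensorProduct

variable {A B : Type u} [CommRing A] [CommRing B] [Algebra A B] {n c : ℕ}

theorem exists_baseChangeEquiv (F : Fin c → MvPolynomial (Fin n) A) :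
    ∃ e : B ⊗[A] Synt.RelGCIRing A n c F ≃ₐ[B]
        Synt.RelGCIRing B n c (fun i => MvPolynomial.map (algebraMap A B) (F i)),
      ∀ G : MvPolynomial (Fin n) A, e ((1 : B) ⊗ₜ[A] Ideal.Quotient.mk _ G) =
        Ideal.Quotient.mk _ (MvPolynomial.map (algebraMap A B) G) := by
  let J := Ideal.span (Set.range fun i => MvPolynomial.map (algebraMap A B) (F i))
  let D := Synt.RelGCIRing A n c F
  let mkD := Ideal.Quotient.mkₐ A (Ideal.span (Set.range F))
  let π : MvPolynomial (Fin n) A →ₐ[A] MvPolynomial (Fin n) B :=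
    { toRingHom := MvPolynomial.map (algebraMap A B)
      commutes' := fun a => by
        show MvPolynomial.map (algebraMap A B) (C a) = _
        rw [map_C]; rfl }
  let toQ : D →ₐ[A] MvPolynomial (Fin n) B ⧸ J :=
    Ideal.Quotient.liftₐ _ ((Ideal.Quotient.mkₐ A J).comp π) fun x hx => by
      have := Ideal.mem_map_of_mem (MvPolynomial.map (algebraMap A B)) hx
      rw [Ideal.map_span, ← Set.range_comp] at this
      exact Ideal.Quotient.eq_zero_iff_mem.2 this
  let Φ : B ⊗[A] D →ₐ[B] MvPolynomial (Fin n) B ⧸ J :=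
    Algebra.TensorProduct.lift (Algebra.ofId B _) toQ fun _ _ => Commute.all _ _
  let Ψ₀ : MvPolynomial (Fin n) B →ₐ[B] B ⊗[A] D :=
    aeval fun i => (1 : B) ⊗ₜ[A] mkD (X i)
  have hΨ : ∀ x : MvPolynomial (Fin n) A, Ψ₀ (π x) = (1 : B) ⊗ₜ[A] mkD x := by
    intro x
    have : (Ψ₀.restrictScalars A).comp π =
        (Algebra.TensorProduct.includeRight (R := A) (A := B)).comp mkD := by
      refine MvPolynomial.algHom_ext fun i => ?_
      show Ψ₀ (MvPolynomial.map (algebraMap A B) (X i)) = _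
      rw [map_X]
      simp [Ψ₀]
    exact AlgHom.congr_fun this x
  let Ψ : MvPolynomial (Fin n) B ⧸ J →ₐ[B] B ⊗[A] D :=
    Ideal.Quotient.liftₐ J Ψ₀ fun x hx => by
      have h : J ≤ RingHom.ker Ψ₀ := by
        refine Ideal.span_le.2 ?_
        rintro _ ⟨i, rfl⟩
        show Ψ₀ (π (F i)) = 0
        rw [hΨ, show mkD (F i) = 0 from
          Ideal.Quotient.eq_zero_iff_mem.2 (Ideal.subset_span (Set.mem_range_self i)),
          TensorProduct.tmul_zero]
      exact h hx
  have hΦ : ∀ x, Φ (1 ⊗ₜ mkD x) = Ideal.Quotient.mk J (π x) := fun x =>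
    (Algebra.TensorProduct.lift_tmul ..).trans (by rw [map_one, one_mul]; rfl)
  refine ⟨AlgEquiv.ofAlgHom Φ Ψ ?_ ?_, hΦ⟩
  · refine Ideal.Quotient.algHom_ext B (MvPolynomial.algHom_ext fun i => ?_)
    show Φ (Ψ₀ (X i)) = Ideal.Quotient.mk J (X i)
    rw [show Ψ₀ (X i) = (1 : B) ⊗ₜ[A] mkD (X i) by simp [Ψ₀], hΦ]
    exact congrArg (Ideal.Quotient.mk J) (map_X _ i)
  · refine Algebra.TensorProduct.ext (Subsingleton.elim _ _) ?_
    refine AlgHom.ext fun y => ?_
    obtain ⟨x, rfl⟩ := Ideal.Quotient.mk_surjective y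
    show Ψ (Φ (1 ⊗ₜ mkD x)) = (1 : B) ⊗ₜ[A] mkD x
    rw [hΦ]
    exact hΨ x

abbrev TT (p : Ideal A) [p.IsPrime] (q : Ideal B) [q.IsPrime] [Algebra p.ResidueField q.ResidueField]
    (D : Type u) [CommRing D] [Algebra A D] : Type u :=
  q.ResidueField ⊗[p.ResidueField] (p.ResidueField ⊗[A] D)

theorem ringKrullDim_le_of_span {T : Type u} [CommRing T] {ι : Type} (t : ι → T) (m : ℕ)
    (h : Ideal.span (Set.range t) = ⊤) (hd : ∀ i, ringKrullDim (Localization.Away (t i)) ≤ (m : WithBot ℕ∞)) :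
    ringKrullDim T ≤ (m : WithBot ℕ∞) := by
  refine iSup_le fun l => ?_
  obtain ⟨i, hi⟩ : ∃ i, t i ∉ l.last.asIdeal := by
    by_contra! hc
    exact l.last.2.ne_top (top_le_iff.mp (h ▸ Ideal.span_le.mpr (by rintro _ ⟨i, rfl⟩; exact hc i)))
  have hmem : ∀ j, Disjoint (Submonoid.powers (t i) : Set T) (l j).asIdeal := fun j => by
    rw [Set.disjoint_left]
    rintro _ ⟨k, rfl⟩ hk
    exact hi (l.monotone (Fin.le_last j) ((l j).2.mem_of_pow_mem k hk))
  let o := IsLocalization.primeSpectrumOrderIso (Submonoid.powers (t i)) (Localization.Away (t i))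
  let L' : LTSeries (PrimeSpectrum (Localization.Away (t i))) :=
    LTSeries.mk l.length (fun j => o.symm ⟨l j, hmem j⟩)
      (fun a b hab => o.symm.strictMono (l.strictMono hab))
  exact (le_iSup (fun s : LTSeries (PrimeSpectrum (Localization.Away (t i))) => (s.length : WithBot ℕ∞)) L').trans (hd i)

theorem ringKrullDim_away_baseChange {k K S : Type u} [Field k] [Field K] [Algebra k K] [CommRing S]
    [Algebra k S] [Algebra.FiniteType k S] (g : S) :
    ringKrullDim (Localization.Away ((1 : K) ⊗ₜ[k] g)) = ringKrullDim (Localization.Away g) := by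
  haveI : Algebra.FiniteType S (Localization.Away g) := inferInstance
  haveI : Algebra.FiniteType k (Localization.Away g) := Algebra.FiniteType.trans (S := S) inferInstance inferInstance
  rw [← ringKrullDim_eq_of_ringEquiv (IsLocalization.Away.tensorProductEquivTMulRight
    k K g (Localization.Away g)).toRingEquiv]
  exact S12231.ringKrullDim_baseChange _ _ _

theorem exists_fiber_equiv (F : Fin c → MvPolynomial (Fin n) A) (p : Ideal A) [p.IsPrime] (q : Ideal B)
    [q.IsPrime] [Algebra p.ResidueField q.ResidueField] [IsScalarTower A p.ResidueField q.ResidueField] :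
    ∃ e : TT p q (Synt.RelGCIRing A n c F) ≃+*
        (q.ResidueField ⊗[B] Synt.RelGCIRing B n c (fun i => MvPolynomial.map (algebraMap A B) (F i))),
      ∀ G : MvPolynomial (Fin n) A,
        e ((1 : q.ResidueField) ⊗ₜ[p.ResidueField] ((1 : p.ResidueField) ⊗ₜ[A] Ideal.Quotient.mk _ G)) =
          (1 : q.ResidueField) ⊗ₜ[B] Ideal.Quotient.mk _ (MvPolynomial.map (algebraMap A B) G) := by
  obtain ⟨e₁, he₁⟩ := exists_baseChangeEquiv (B := q.ResidueField) F
  obtain ⟨e₂, he₂⟩ := exists_baseChangeEquiv (A := B) (B := q.ResidueField)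
    (fun i => MvPolynomial.map (algebraMap A B) (F i))
  have hI : Ideal.span (Set.range fun i => MvPolynomial.map (algebraMap A q.ResidueField) (F i)) =
      Ideal.span (Set.range fun i => MvPolynomial.map (algebraMap B q.ResidueField)
        (MvPolynomial.map (algebraMap A B) (F i))) := by
    simp only [MvPolynomial.map_map, ← IsScalarTower.algebraMap_eq]
  refine ⟨((Algebra.TensorProduct.cancelBaseChange A p.ResidueField p.ResidueField q.ResidueField
      (Synt.RelGCIRing A n c F)).toRingEquiv.trans e₁.toRingEquiv).trans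
      ((Ideal.quotEquivOfEq hI).trans e₂.symm.toRingEquiv), fun G => ?_⟩
  simp only [RingEquiv.trans_apply, AlgEquiv.coe_ringEquiv]
  rw [Algebra.TensorProduct.cancelBaseChange_tmul, one_smul, he₁, Ideal.quotEquivOfEq_mk,
    AlgEquiv.symm_apply_eq, he₂, MvPolynomial.map_map, ← IsScalarTower.algebraMap_eq]

theorem isScalarTower_resField (q : Ideal B) [q.IsPrime] :
    letI := (Ideal.ResidueField.map (q.comap (algebraMap A B)) q (algebraMap A B) rfl).toAlgebra
    IsScalarTower A (q.comap (algebraMap A B)).ResidueField q.ResidueField := by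
  letI := (Ideal.ResidueField.map (q.comap (algebraMap A B)) q (algebraMap A B) rfl).toAlgebra
  exact IsScalarTower.of_algebraMap_eq fun a => by
      rw [RingHom.algebraMap_toAlgebra, IsScalarTower.algebraMap_apply A B q.ResidueField]
      exact (Ideal.ResidueField.map_algebraMap _ _ _ _ _).symm

theorem ringKrullDim_fiber_eq (F : Fin c → MvPolynomial (Fin n) A) (q : Ideal B) [q.IsPrime] :
    ringKrullDim (q.Fiber (Synt.RelGCIRing B n c (fun i => MvPolynomial.map (algebraMap A B) (F i)))) =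
      ringKrullDim ((q.comap (algebraMap A B)).Fiber (Synt.RelGCIRing A n c F)) := by
  letI := (Ideal.ResidueField.map (q.comap (algebraMap A B)) q (algebraMap A B) rfl).toAlgebra
  haveI := isScalarTower_resField (A := A) q
  obtain ⟨e, -⟩ := exists_fiber_equiv F (q.comap (algebraMap A B)) q
  rw [← ringKrullDim_eq_of_ringEquiv e]
  exact S12231.ringKrullDim_baseChange _ _ _

theorem fiber_dim_le (F : Fin c → MvPolynomial (Fin n) A) {ι : Type} [Finite ι]
    (G : ι → MvPolynomial (Fin n) A) (m : ℕ)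
    (hG : ∀ i, (PrimeSpectrum.basicOpen (Ideal.Quotient.mk (Ideal.span (Set.range F)) (G i)) :
        Set (PrimeSpectrum (Synt.RelGCIRing A n c F))) ⊆ RelDim.dimLeSet A _ m)
    (hspan : Ideal.span (Set.range fun i => MvPolynomial.map (algebraMap A B) (G i)) ⊔
      Ideal.span (Set.range fun i => MvPolynomial.map (algebraMap A B) (F i)) = ⊤)
    (q : Ideal B) [q.IsPrime]
    (hq : Nontrivial (q.Fiber (Synt.RelGCIRing B n c (fun i => MvPolynomial.map (algebraMap A B) (F i))))) :
    Nonempty ι ∧ ringKrullDim (q.Fiber (Synt.RelGCIRing B n c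
      (fun i => MvPolynomial.map (algebraMap A B) (F i)))) ≤ (m : WithBot ℕ∞) := by
  let p := q.comap (algebraMap A B)
  letI : Algebra p.ResidueField q.ResidueField := (Ideal.ResidueField.map p q (algebraMap A B) rfl).toAlgebra
  haveI : IsScalarTower A p.ResidueField q.ResidueField :=
    IsScalarTower.of_algebraMap_eq fun a => by
      rw [RingHom.algebraMap_toAlgebra, IsScalarTower.algebraMap_apply A B q.ResidueField]
      exact (Ideal.ResidueField.map_algebraMap _ _ _ _ _).symm
  obtain ⟨e, he⟩ := exists_fiber_equiv F p q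
  let J := Ideal.span (Set.range fun i => MvPolynomial.map (algebraMap A B) (F i))
  let D := Synt.RelGCIRing B n c (fun i => MvPolynomial.map (algebraMap A B) (F i))
  let g : ι → p.Fiber (Synt.RelGCIRing A n c F) := fun i => 1 ⊗ₜ Ideal.Quotient.mk _ (G i)
  have htop : Ideal.span (Set.range fun i => e (1 ⊗ₜ g i)) = ⊤ := by
    have h1 := congrArg (Ideal.map
      ((Algebra.TensorProduct.includeRight : D →ₐ[B] q.Fiber D).toRingHom.comp (Ideal.Quotient.mk J))) hspan
    rw [Ideal.map_sup, Ideal.map_top, Ideal.map_span] at h1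
    have h2 : J.map ((Algebra.TensorProduct.includeRight : D →ₐ[B] q.Fiber D).toRingHom.comp
        (Ideal.Quotient.mk J)) = ⊥ := by
      rw [← Ideal.map_map, Ideal.map_quotient_self, Ideal.map_bot]
    rw [h2, sup_bot_eq, ← Set.range_comp] at h1
    rw [← h1]
    refine congrArg (fun s => Ideal.span s) (congrArg Set.range (funext fun i => ?_))
    exact he (G i)
  have htop' : Ideal.span (Set.range fun i => ((1 : q.ResidueField) ⊗ₜ[p.ResidueField] g i :
      TT p q (Synt.RelGCIRing A n c F))) = ⊤ := by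
    have := congrArg (Ideal.map e.symm.toRingHom) htop
    rw [Ideal.map_top, Ideal.map_span, ← Set.range_comp] at this
    rw [← this]
    exact congrArg (fun s => Ideal.span s) (congrArg Set.range (funext fun i => (e.symm_apply_apply _).symm))
  refine ⟨?_, ?_⟩
  · by_contra hne
    rw [not_nonempty_iff] at hne
    exact bot_ne_top ((Ideal.span_eq_bot.mpr (by rintro _ ⟨i, rfl⟩; exact isEmptyElim i)).symm.trans htop)
  rw [← ringKrullDim_eq_of_ringEquiv e]
  refine ringKrullDim_le_of_span _ m htop' fun i => ?_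
  refine (ringKrullDim_away_baseChange (k := p.ResidueField) (K := q.ResidueField) (g i)).le.trans ?_
  exact Synt44.ringKrullDim_fibre_away_le_of_subset _ (hG i) p

theorem exists_good_cover [IsNoetherianRing A] (F : Fin c → MvPolynomial (Fin n) A)
    (h : Synt.IsRelGCI B n c (fun i => MvPolynomial.map (algebraMap A B) (F i))) :
    ∃ (k : ℕ) (G : Fin k → MvPolynomial (Fin n) A) (a : Fin k → MvPolynomial (Fin n) B)
      (b : Fin c → MvPolynomial (Fin n) B),
      (∀ i, (PrimeSpectrum.basicOpen (Ideal.Quotient.mk (Ideal.span (Set.range F)) (G i)) :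
        Set (PrimeSpectrum (Synt.RelGCIRing A n c F))) ⊆ RelDim.dimLeSet A _ (n - c)) ∧
      (∑ i, a i * MvPolynomial.map (algebraMap A B) (G i) +
        ∑ i, b i * MvPolynomial.map (algebraMap A B) (F i) = 1) ∧ (0 < k → c ≤ n) := by
  let F' := fun i => MvPolynomial.map (algebraMap A B) (F i)
  let D := Synt.RelGCIRing B n c F'
  rcases subsingleton_or_nontrivial D with hD | hD
  · have h1 : (1 : MvPolynomial (Fin n) B) ∈ Ideal.span (Set.range F') :=
      Ideal.Quotient.eq_zero_iff_mem.mp (Subsingleton.elim (α := D) _ _)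
    obtain ⟨b, hb⟩ := Ideal.mem_span_range_iff_exists_fun.mp h1
    exact ⟨0, Fin.elim0, Fin.elim0, b, fun i => i.elim0, by simpa using hb, by omega⟩
  haveI : Algebra.FiniteType A (Synt.RelGCIRing A n c F) := inferInstance
  have hU := RelDim.isOpen_dimLeSet (R := A) (S := Synt.RelGCIRing A n c F) (n - c)
  obtain ⟨J, hJ⟩ := (PrimeSpectrum.isClosed_iff_zeroLocus_ideal _).1 hU.isClosed_compl
  obtain ⟨k, g, hg⟩ := Submodule.fg_iff_exists_fin_generating_family.mp (IsNoetherian.noetherian J)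
  choose G hG using fun i => Ideal.Quotient.mk_surjective (g i)
  let I := Ideal.span (Set.range fun i => MvPolynomial.map (algebraMap A B) (G i)) ⊔
    Ideal.span (Set.range F')
  have hI : I = ⊤ := by
    by_contra hne
    obtain ⟨M, hM, hle⟩ := Ideal.exists_le_maximal _ hne
    have hF' : Ideal.span (Set.range F') ≤ M := le_sup_right.trans hle
    let φ : Synt.RelGCIRing A n c F →+* D := Ideal.quotientMap _ (MvPolynomial.map (algebraMap A B))
      (Ideal.span_le.mpr (by rintro _ ⟨i, rfl⟩; exact Ideal.subset_span ⟨i, rfl⟩))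
    let MD : Ideal D := M.map (Ideal.Quotient.mk _)
    haveI : MD.IsPrime := Ideal.map_isPrime_of_surjective Ideal.Quotient.mk_surjective
      (by rw [Ideal.mk_ker]; exact hF')
    let q₀ : PrimeSpectrum (Synt.RelGCIRing A n c F) := ⟨MD.comap φ, inferInstance⟩
    have hnot : q₀ ∉ RelDim.dimLeSet A _ (n - c) := by
      have hmem : q₀ ∈ PrimeSpectrum.zeroLocus (J : Set _) := by
        rw [PrimeSpectrum.mem_zeroLocus, ← hg]
        refine Ideal.span_le.mpr ?_
        rintro _ ⟨i, rfl⟩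
        show φ (g i) ∈ MD
        rw [← hG i]
        exact Ideal.mem_map_of_mem _ (hle (Ideal.mem_sup_left (Ideal.subset_span ⟨i, rfl⟩)))
      rw [← hJ] at hmem
      exact hmem
    apply hnot
    intro Q hQ
    refine (Synt44.localDim_le_ringKrullDim (F := (q₀.asIdeal.under A).Fiber (Synt.RelGCIRing A n c F)) Q).trans ?_
    let P : Ideal B := MD.comap (algebraMap B D)
    have hp : q₀.asIdeal.under A = P.comap (algebraMap A B) := by
      ext a
      show φ (Ideal.Quotient.mk _ (C a)) ∈ MD ↔ Ideal.Quotient.mk _ (C (algebraMap A B a)) ∈ MD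
      rw [Ideal.quotientMap_mk, map_C]
    have e := ringKrullDim_fiber_eq (B := B) F P
    haveI := RelGCI.nontrivial_fiber (F := F') MD
    have hd := (h ⟨P, inferInstance⟩ ‹_›).2
    have hfin : ringKrullDim ((P.comap (algebraMap A B)).Fiber (Synt.RelGCIRing A n c F)) ≤
        ((n - c : ℕ) : WithBot ℕ∞) := by rw [← e]; exact hd.le
    have key : ∀ (p₁ p₂ : Ideal A) [p₁.IsPrime] [p₂.IsPrime], p₁ = p₂ →
        ringKrullDim (p₂.Fiber (Synt.RelGCIRing A n c F)) ≤ ((n - c : ℕ) : WithBot ℕ∞) →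
        ringKrullDim (p₁.Fiber (Synt.RelGCIRing A n c F)) ≤ ((n - c : ℕ) : WithBot ℕ∞) := by
      intro p₁ p₂ _ _ h12 h2; subst h12; exact h2
    exact key _ _ hp hfin
  have h1 : (1 : MvPolynomial (Fin n) B) ∈ I := hI ▸ Submodule.mem_top
  obtain ⟨x, hx, y, hy, hxy⟩ := Submodule.mem_sup.mp h1
  obtain ⟨a, ha⟩ := Ideal.mem_span_range_iff_exists_fun.mp hx
  obtain ⟨b, hb⟩ := Ideal.mem_span_range_iff_exists_fun.mp hy
  refine ⟨k, G, a, b, fun i q hq => ?_, ?_, fun _ => ?_⟩
  · by_contra hqU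
    have h2 : q ∈ (RelDim.dimLeSet A (Synt.RelGCIRing A n c F) (n - c))ᶜ := hqU
    rw [hJ] at h2
    exact hq (by rw [hG i]; exact h2 (hg ▸ Submodule.subset_span ⟨i, rfl⟩))
  · rw [ha, hb]; exact hxy
  · obtain ⟨M, hM⟩ := Ideal.exists_maximal D
    exact RelGCI.le_of_prime h M

theorem isRelGCI_of_cover {C : Type u} [CommRing C] [Algebra A C] (F : Fin c → MvPolynomial (Fin n) A)
    {k : ℕ} (G : Fin k → MvPolynomial (Fin n) A) (hcn : 0 < k → c ≤ n)
    (hG : ∀ i, (PrimeSpectrum.basicOpen (Ideal.Quotient.mk (Ideal.span (Set.range F)) (G i)) :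
        Set (PrimeSpectrum (Synt.RelGCIRing A n c F))) ⊆ RelDim.dimLeSet A _ (n - c))
    (a : Fin k → MvPolynomial (Fin n) C) (b : Fin c → MvPolynomial (Fin n) C)
    (hab : ∑ i, a i * MvPolynomial.map (algebraMap A C) (G i) +
        ∑ i, b i * MvPolynomial.map (algebraMap A C) (F i) = 1) :
    Synt.IsRelGCI C n c (fun i => MvPolynomial.map (algebraMap A C) (F i)) := by
  intro p hp
  have hspan : Ideal.span (Set.range fun i => MvPolynomial.map (algebraMap A C) (G i)) ⊔
      Ideal.span (Set.range fun i => MvPolynomial.map (algebraMap A C) (F i)) = ⊤ := by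
    rw [Ideal.eq_top_iff_one, ← hab]
    exact add_mem (Ideal.mem_sup_left (Ideal.sum_mem _ fun i _ => Ideal.mul_mem_left _ _ (Ideal.subset_span ⟨i, rfl⟩)))
      (Ideal.mem_sup_right (Ideal.sum_mem _ fun i _ => Ideal.mul_mem_left _ _ (Ideal.subset_span ⟨i, rfl⟩)))
  obtain ⟨⟨i⟩, hle⟩ := fiber_dim_le F G (n - c) hG hspan p.asIdeal hp
  refine ⟨hcn i.pos, le_antisymm hle ?_⟩
  obtain ⟨e⟩ := RelGCI.nonempty_fiberEquiv (fun i => MvPolynomial.map (algebraMap A C) (F i)) p.asIdeal
  rw [ringKrullDim_eq_of_ringEquiv e.toRingEquiv]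
  exact Synt44.le_ringKrullDim_quotient _ (Ideal.Quotient.nontrivial_iff.1 e.toEquiv.symm.nontrivial)

theorem exists_model (R : Type u) [CommRing R] (F : Fin c → MvPolynomial (Fin n) R)
    (h : Synt.IsRelGCI R n c F) :
    ∃ (R₁ : Type u) (_ : CommRing R₁) (_ : Algebra R₁ R) (F₁ : Fin c → MvPolynomial (Fin n) R₁),
      Algebra.FiniteType ℤ R₁ ∧ Synt.IsRelGCI R₁ n c F₁ ∧
        ∀ i, MvPolynomial.map (algebraMap R₁ R) (F₁ i) = F i := by
  classical
  let s : Finset R := Finset.univ.biUnion fun i => (F i).coeffs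
  let R₀ := Algebra.adjoin ℤ (s : Set R)
  haveI h0 : Algebra.FiniteType ℤ R₀ := (Subalgebra.fg_iff_finiteType R₀).mp (Subalgebra.fg_adjoin_finset s)
  haveI : IsNoetherianRing R₀ := Algebra.FiniteType.isNoetherianRing ℤ R₀
  have hr : ∀ i, F i ∈ Set.range (MvPolynomial.map (σ := Fin n) (algebraMap R₀ R)) := fun i => by
    rw [MvPolynomial.mem_range_map_iff_coeffs_subset]
    exact fun x hx => ⟨⟨x, Algebra.subset_adjoin (Finset.mem_biUnion.mpr ⟨i, Finset.mem_univ _, hx⟩)⟩, rfl⟩
  choose F₀ hF₀ using hr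
  have h' : Synt.IsRelGCI R n c (fun i => MvPolynomial.map (algebraMap R₀ R) (F₀ i)) := by
    rw [funext hF₀]; exact h
  obtain ⟨k, G, a, b, hG, hab, hcn⟩ := exists_good_cover F₀ h' 
  let s' : Finset R := (Finset.univ.biUnion fun i => (a i).coeffs) ∪ Finset.univ.biUnion fun i => (b i).coeffs
  let R₁ := Algebra.adjoin R₀ (s' : Set R)
  haveI : Algebra.FiniteType R₀ R₁ := (Subalgebra.fg_iff_finiteType R₁).mp (Subalgebra.fg_adjoin_finset s')
  have ha : ∀ i, a i ∈ Set.range (MvPolynomial.map (σ := Fin n) (algebraMap R₁ R)) := fun i => by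
    rw [MvPolynomial.mem_range_map_iff_coeffs_subset]
    exact fun x hx => ⟨⟨x, Algebra.subset_adjoin
      (Finset.mem_union_left _ (Finset.mem_biUnion.mpr ⟨i, Finset.mem_univ _, hx⟩))⟩, rfl⟩
  have hb : ∀ i, b i ∈ Set.range (MvPolynomial.map (σ := Fin n) (algebraMap R₁ R)) := fun i => by
    rw [MvPolynomial.mem_range_map_iff_coeffs_subset]
    exact fun x hx => ⟨⟨x, Algebra.subset_adjoin
      (Finset.mem_union_right _ (Finset.mem_biUnion.mpr ⟨i, Finset.mem_univ _, hx⟩))⟩, rfl⟩
  choose a₁ ha₁ using ha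
  choose b₁ hb₁ using hb
  have hcomp : ∀ P : MvPolynomial (Fin n) R₀, MvPolynomial.map (algebraMap R₁ R)
      (MvPolynomial.map (algebraMap R₀ R₁) P) = MvPolynomial.map (algebraMap R₀ R) P := fun P => by
    rw [MvPolynomial.map_map, ← IsScalarTower.algebraMap_eq]
  refine ⟨R₁, inferInstance, inferInstance, fun i => MvPolynomial.map (algebraMap R₀ R₁) (F₀ i),
    Algebra.FiniteType.trans (S := R₀) inferInstance inferInstance, ?_, fun i => (hcomp _).trans (hF₀ i)⟩
  refine isRelGCI_of_cover F₀ G hcn hG a₁ b₁ (MvPolynomial.map_injective (algebraMap R₁ R) Subtype.val_injective ?_)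
  simp only [map_add, map_sum, map_mul, map_one, hcomp, ha₁, hb₁]
  exact hab

open AlgebraicGeometry CategoryTheory in
theorem isPullback_spec {R₁ R D₁ D : Type u} [CommRing R₁] [CommRing R] [CommRing D₁] [CommRing D]
    [Algebra R₁ R] [Algebra R₁ D₁] [Algebra R D] (φ : D₁ →+* D) (e : R ⊗[R₁] D₁ ≃ₐ[R] D)
    (he : ∀ x, e ((1 : R) ⊗ₜ[R₁] x) = φ x) :
    ∃ g' : Spec (CommRingCat.of D) ⟶ Spec (CommRingCat.of D₁),
      IsPullback g' (Spec.map (CommRingCat.ofHom (algebraMap R D)))
        (Spec.map (CommRingCat.ofHom (algebraMap R₁ D₁))) (Spec.map (CommRingCat.ofHom (algebraMap R₁ R))) := by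
  letI : Algebra D₁ D := φ.toAlgebra
  letI : Algebra R₁ D := ((algebraMap R D).comp (algebraMap R₁ R)).toAlgebra
  haveI : IsScalarTower R₁ R D := IsScalarTower.of_algebraMap_eq' rfl
  haveI : IsScalarTower R₁ D₁ D := IsScalarTower.of_algebraMap_eq fun r => by
    rw [RingHom.algebraMap_toAlgebra φ, ← he,
      show ((1 : R) ⊗ₜ[R₁] algebraMap R₁ D₁ r) = algebraMap R (R ⊗[R₁] D₁) (algebraMap R₁ R r) by
        rw [Algebra.algebraMap_eq_smul_one (A := D₁), TensorProduct.tmul_smul, TensorProduct.smul_tmul',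
          Algebra.smul_def, mul_one]; rfl, AlgEquiv.commutes]
    rfl
  letI : Algebra D₁ (R ⊗[R₁] D₁) := Algebra.TensorProduct.rightAlgebra
  haveI : Algebra.IsPushout R₁ R D₁ (R ⊗[R₁] D₁) := TensorProduct.isPushout
  haveI : Algebra.IsPushout R₁ R D₁ D := Algebra.IsPushout.of_equiv e (RingHom.ext fun x => he x)
  exact ⟨_, (isPullback_SpecMap_of_isPushout _ _ _ _ (CommRingCat.isPushout_of_isPushout R₁ R D₁ D)).flip⟩

open AlgebraicGeometry CategoryTheory in
theorem exists_square (R₁ R : Type u) [CommRing R₁] [CommRing R] [Algebra R₁ R]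
    (F₁ : Fin c → MvPolynomial (Fin n) R₁) (F : Fin c → MvPolynomial (Fin n) R)
    (hF : ∀ i, MvPolynomial.map (algebraMap R₁ R) (F₁ i) = F i) :
    ∃ g' : Spec (CommRingCat.of (Synt.RelGCIRing R n c F)) ⟶ Spec (CommRingCat.of (Synt.RelGCIRing R₁ n c F₁)),
      IsPullback g' (Spec.map (CommRingCat.ofHom (algebraMap R (Synt.RelGCIRing R n c F))))
        (Spec.map (CommRingCat.ofHom (algebraMap R₁ (Synt.RelGCIRing R₁ n c F₁))))
        (Spec.map (CommRingCat.ofHom (algebraMap R₁ R))) := by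
  obtain rfl : (fun i => MvPolynomial.map (algebraMap R₁ R) (F₁ i)) = F := funext hF
  let D := Synt.RelGCIRing R n c (fun i => MvPolynomial.map (algebraMap R₁ R) (F₁ i))
  let D₁ := Synt.RelGCIRing R₁ n c F₁
  let φ : D₁ →+* D := Ideal.quotientMap _ (MvPolynomial.map (algebraMap R₁ R))
      (Ideal.span_le.mpr (by rintro _ ⟨i, rfl⟩; exact Ideal.subset_span ⟨i, rfl⟩))
  obtain ⟨e, he⟩ := exists_baseChangeEquiv (B := R) F₁
  exact isPullback_spec (R₁ := R₁) (R := R) (D₁ := D₁) (D := D) φ e fun x => by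
    obtain ⟨G, rfl⟩ := Ideal.Quotient.mk_surjective x
    exact (he G).trans (Ideal.quotientMap_mk ..).symm



open AlgebraicGeometry CategoryTheory Limits in
/-- Let f : X ⟶ S be a standard syntomic morphism of affine schemes. Then f is the base change of a
morphism of finite type f₀ : X₀ ⟶ S₀ between affine schemes with S₀ of finite type over ℤ and f₀
standard syntomic. -/
theorem result {X S : Scheme.{u}} (f : X ⟶ S) [IsAffine X] [IsAffine S] (hf : Synt.IsStandardSyntomic f) :
    ∃ (X₀ S₀ : Scheme.{u}) (f₀ : X₀ ⟶ S₀) (g : S ⟶ S₀) (g' : X ⟶ X₀), IsAffine X₀ ∧ IsAffine S₀ ∧ IsPullback g' f f₀ g ∧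
      Algebra.FiniteType ℤ Γ(S₀, ⊤) ∧ LocallyOfFiniteType f₀ ∧ Synt.IsStandardSyntomic f₀ := by
  obtain ⟨R, iR, n, c, F, hF, e₁, e₂, he⟩ := hf
  obtain ⟨R₁, iR₁, iAlg, F₁, hft, hgci, hF₁⟩ := exists_model R F hF
  obtain ⟨g', sq⟩ := exists_square R₁ R F₁ F hF₁
  refine ⟨Spec (CommRingCat.of (Synt.RelGCIRing R₁ n c F₁)), Spec (CommRingCat.of R₁),
    Spec.map (CommRingCat.ofHom (algebraMap R₁ _)), e₂.hom ≫ Spec.map (CommRingCat.ofHom (algebraMap R₁ R)),
    e₁.hom ≫ g', inferInstance, inferInstance, ?_, ?_, ?_, ?_⟩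
  · exact sq.of_iso e₁.symm (Iso.refl _) e₂.symm (Iso.refl _) (by simp) (by
      simp only [Iso.symm_hom]
      rw [Iso.eq_inv_comp, ← Category.assoc, he, Category.assoc, Iso.hom_inv_id, Category.comp_id]) (by simp) (by simp)
  · exact hft.equiv (Scheme.ΓSpecIso (CommRingCat.of R₁)).commRingCatIsoToRingEquiv.symm.toIntAlgEquiv
  · rw [HasRingHomProperty.Spec_iff (P := @LocallyOfFiniteType)]
    exact RingHom.finiteType_algebraMap.mpr inferInstance
  · exact ⟨R₁, iR₁, n, c, F₁, hgci, Iso.refl _, Iso.refl _, by simp⟩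

end Groth.Agent.S9736
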