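import Groth.Statements.S9148
import Groth.Agent.S9736

set_option autoImplicit false
universe u
open Synt

namespace Groth.Agent.S9148

/-- A relative global complete intersection over a ring R descends to a relative global complete
intersection over a finite type ℤ-subalgebra of R containing the coefficients. -/
theorem result (R : Type u) [CommRing R] (n c : ℕ)
    (F : Fin c → MvPolynomial (Fin n) R) (h : Synt.IsRelGCI R n c F) :
    ∃ (R₀ : Subalgebra ℤ R) (F₀ : Fin c → MvPolynomial (Fin n) R₀), Algebra.FiniteType ℤ R₀ ∧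
      (∀ i, MvPolynomial.map (algebraMap R₀ R) (F₀ i) = F i) ∧ Synt.IsRelGCI R₀ n c F₀ := by
  classical
  let s : Finset R := Finset.univ.biUnion fun i => (F i).coeffs
  let R₀ := Algebra.adjoin ℤ (s : Set R)
  haveI h0 : Algebra.FiniteType ℤ R₀ := (Subalgebra.fg_iff_finiteType R₀).mp (Subalgebra.fg_adjoin_finset s)
  haveI : IsNoetherianRing R₀ := Algebra.FiniteType.isNoetherianRing ℤ R₀
  have hr : ∀ i, F i ∈ Set.range (MvPolynomial.map (σ := Fin n) (algebraMap R₀ R)) := fun i => by
    rw [MvPolynomial.mem_range_map_iff_coeffs_subset]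
    exact fun x hx => ⟨⟨x, Algebra.subset_adjoin (Finset.mem_biUnion.mpr ⟨i, Finset.mem_univ _, hx⟩)⟩, rfl⟩
  choose F₀ hF₀ using hr
  have h' : Synt.IsRelGCI R n c (fun i => MvPolynomial.map (algebraMap R₀ R) (F₀ i)) := by
    rw [funext hF₀]; exact h
  obtain ⟨k, G, a, b, hG, hab, hcn⟩ := S9736.exists_good_cover F₀ h'
  let s' : Finset R := (Finset.univ.biUnion fun i => (a i).coeffs) ∪ Finset.univ.biUnion fun i => (b i).coeffs
  let R₁ := Algebra.adjoin R₀ (s' : Set R)
  haveI : Algebra.FiniteType R₀ R₁ := (Subalgebra.fg_iff_finiteType R₁).mp (Subalgebra.fg_adjoin_finset s')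
  have ha : ∀ i, a i ∈ Set.range (MvPolynomial.map (σ := Fin n) (algebraMap R₁ R)) := fun i => by
    rw [MvPolynomial.mem_range_map_iff_coeffs_subset]
    exact fun x hx => ⟨⟨x, Algebra.subset_adjoin
      (Finset.mem_union_left _ (Finset.mem_biUnion.mpr ⟨i, Finset.mem_univ _, hx⟩))⟩, rfl⟩
  have hb : ∀ i, b i ∈ Set.range (MvPolynomial.map (σ := Fin n) (algebraMap R₁ R)) := fun i => by
    rw [MvPolynomial.mem_range_map_iff_coeffs_subset]
    exact fun x hx => ⟨⟨x, Algebra.subset_adjoin
      (Finset.mem_union_right _ (Finset.mem_biUnion.mpr ⟨i, Finset.mem_univ _, hx⟩))⟩, rfl⟩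
  choose a₁ ha₁ using ha
  choose b₁ hb₁ using hb
  have hcomp : ∀ P : MvPolynomial (Fin n) R₀, MvPolynomial.map (algebraMap R₁ R)
      (MvPolynomial.map (algebraMap R₀ R₁) P) = MvPolynomial.map (algebraMap R₀ R) P := fun P => by
    rw [MvPolynomial.map_map, ← IsScalarTower.algebraMap_eq]
  have hrel : Synt.IsRelGCI R₁ n c fun i => MvPolynomial.map (algebraMap R₀ R₁) (F₀ i) := by
    refine S9736.isRelGCI_of_cover F₀ G hcn hG a₁ b₁
      (MvPolynomial.map_injective (algebraMap R₁ R) Subtype.val_injective ?_)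
    simp only [map_add, map_sum, map_mul, map_one, hcomp, ha₁, hb₁]
    exact hab
  exact ⟨R₁.restrictScalars ℤ, fun i => MvPolynomial.map (algebraMap R₀ R₁) (F₀ i),
    (Algebra.FiniteType.trans (S := R₀) inferInstance inferInstance : Algebra.FiniteType ℤ R₁),
    fun i => (hcomp _).trans (hF₀ i), hrel⟩

end Groth.Agent.S9148
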