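import Groth.Statements.S9150
import Groth.Agent.Synt44.QuotientLift

set_option autoImplicit false
universe u
open Synt

namespace Groth.Agent.S9150

/-- Let I be an ideal of a ring R and S̄ an R-algebra killed by I which is syntomic over R/I. Then S̄ is
covered by finitely many basic opens S̄_g each isomorphic, as an R-algebra, to S/IS for some
relative global complete intersection S over R. -/
theorem result (R : Type u) [CommRing R] (I : Ideal R) (Sb : Type u) [CommRing Sb]
    [Algebra R Sb] [Algebra (R ⧸ I) Sb] [IsScalarTower R (R ⧸ I) Sb] (h : Synt.IsSyntomic (R ⧸ I) Sb) :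
    ∃ s : Finset Sb, Ideal.span (s : Set Sb) = ⊤ ∧ ∀ g ∈ s,
      ∃ (n c : ℕ) (F : Fin c → MvPolynomial (Fin n) R), Synt.IsRelGCI R n c F ∧
        Nonempty (Localization.Away g ≃ₐ[R]
          (Synt.RelGCIRing R n c F ⧸ I.map (algebraMap R (Synt.RelGCIRing R n c F)))) := by
  classical
  let G : Set Sb := {g | ∃ (n c : ℕ) (F : Fin c → MvPolynomial (Fin n) R), Synt.IsRelGCI R n c F ∧
        Nonempty (Localization.Away g ≃ₐ[R]
          (Synt.RelGCIRing R n c F ⧸ I.map (algebraMap R (Synt.RelGCIRing R n c F))))}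
  have htop : Ideal.span G = ⊤ := by
    by_contra hne
    obtain ⟨M, hM, hle⟩ := Ideal.exists_le_maximal _ hne
    obtain ⟨g, hg, hgG⟩ := Groth.Agent.Synt44.exists_lift_syntomic I Sb h M
    exact hg (hle (Ideal.subset_span hgG))
  obtain ⟨s, hs, hs1⟩ := Submodule.mem_span_finite_of_mem_span ((Ideal.eq_top_iff_one _).1 htop)
  exact ⟨s, (Ideal.eq_top_iff_one _).2 hs1, fun g hg => hs hg⟩


end Groth.Agent.S9150
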