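import Groth.Statements.S9152
import Groth.Agent.S5165
import Groth.Agent.ABReg.Basic
import Groth.Agent.Depth.CM
import Groth.Agent.VarDim.Algebra
import Mathlib.RingTheory.RegularLocalRing.Polynomial

set_option autoImplicit false
set_option linter.style.haveILetI false
universe u
open CAlg

namespace Groth.Agent.S9152

open CategoryTheory IsLocalRing

variable {k : Type u} [Field k] {n : ℕ} {S : Type u} [CommRing S]
  [Algebra (MvPolynomial (Fin n) k) S]

local notation "𝔸" => MvPolynomial (Fin n) k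

/-- The height of a prime in a quotient. -/
lemma height_le_height_comap_add (hπ : Function.Surjective (algebraMap 𝔸 S)) (q : Ideal S) [q.IsPrime]
    (h : ℕ∞) (hh : ∀ Q ∈ (RingHom.ker (algebraMap 𝔸 S)).minimalPrimes,
      Q ≤ q.comap (algebraMap 𝔸 S) → h ≤ Q.height) :
    q.height + h ≤ (q.comap (algebraMap 𝔸 S)).height := by
  obtain ⟨l, hl, hlen⟩ : ∃ l : LTSeries (PrimeSpectrum S), l.last = ⟨q, ‹_›⟩ ∧ (l.length : ℕ∞) = q.height := by
    haveI : IsNoetherianRing S := isNoetherianRing_of_surjective _ _ (algebraMap 𝔸 S) hπ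
    have hne : Order.height (⟨q, ‹_›⟩ : PrimeSpectrum S) ≠ ⊤ := by
      rw [← PrimeSpectrum.height_eq_orderHeight]; exact Ideal.height_ne_top_of_isPrime
    obtain ⟨n, hn⟩ := ENat.ne_top_iff_exists.1 hne
    obtain ⟨l, hl, hlen⟩ := Order.exists_series_of_height_eq_coe _ hn.symm
    refine ⟨l, hl, ?_⟩
    rw [(⟨q, ‹_›⟩ : PrimeSpectrum S).height_eq_orderHeight, ← hn, hlen]
  have key : ∀ (i : Fin (l.length + 1)),
      ((i : ℕ) : ℕ∞) + h ≤ ((l i).asIdeal.comap (algebraMap 𝔸 S)).height := by
    intro i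
    induction i using Fin.induction with
    | zero =>
      haveI := (l 0).2
      obtain ⟨Q, hQ, hQle⟩ := Ideal.exists_minimalPrimes_le
        (Ideal.comap_mono (f := algebraMap 𝔸 S) (bot_le : (⊥ : Ideal S) ≤ (l 0).asIdeal))
      rw [Fin.val_zero, Nat.cast_zero, zero_add]
      refine (hh Q hQ (hQle.trans (Ideal.comap_mono ?_))).trans (Ideal.height_mono hQle)
      exact (l.monotone (Fin.le_last 0)).trans (le_of_eq hl)
    | succ i ih =>
      haveI := (l i.castSucc).2
      haveI := (l i.succ).2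
      rw [Fin.val_succ, Nat.cast_add, Nat.cast_one, add_right_comm]
      refine le_trans (add_le_add ih le_rfl) (Ideal.height_add_one_le_of_lt_of_isPrime ?_)
      exact lt_of_le_of_ne (Ideal.comap_mono (le_of_lt (l.strictMono Fin.castSucc_lt_succ)))
        fun heq => (l.strictMono Fin.castSucc_lt_succ).ne
          (PrimeSpectrum.ext (Ideal.comap_injective_of_surjective _ hπ heq))
  have h1 := key (Fin.last _)
  rw [Fin.val_last, hlen, show l (Fin.last _) = l.last from rfl, hl] at h1
  exact h1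

/-- The reverse bound. -/
lemma height_comap_le (hπ : Function.Surjective (algebraMap 𝔸 S)) (q : Ideal S) [q.IsPrime]
    (Q : Ideal 𝔸) [Q.IsPrime] (hQ : RingHom.ker (algebraMap 𝔸 S) ≤ Q)
    (hQq : Q ≤ q.comap (algebraMap 𝔸 S)) :
    (q.comap (algebraMap 𝔸 S)).height ≤ q.height + Q.height := by
  haveI : Algebra.FiniteType k (𝔸 ⧸ Q) :=
    Algebra.FiniteType.of_surjective (Ideal.Quotient.mkₐ k Q) Ideal.Quotient.mk_surjective
  haveI hP : ((q.comap (algebraMap 𝔸 S)).map (Ideal.Quotient.mk Q)).IsPrime :=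
    Ideal.map_isPrime_of_surjective Ideal.Quotient.mk_surjective (by rwa [Ideal.mk_ker])
  set P' := (q.comap (algebraMap 𝔸 S)).map (Ideal.Quotient.mk Q) with hP'
  let φ : S →+* 𝔸 ⧸ Q :=
    (Ideal.Quotient.factor hQ).comp (RingHom.quotientKerEquivOfSurjective hπ).symm.toRingHom
  have hφ : Function.Surjective φ :=
    (Ideal.Quotient.factor_surjective hQ).comp (RingHom.quotientKerEquivOfSurjective hπ).symm.surjective
  have hφc : ∀ a, φ (algebraMap 𝔸 S a) = Ideal.Quotient.mk Q a := fun a => by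
    have : (RingHom.quotientKerEquivOfSurjective hπ).symm (algebraMap 𝔸 S a) = Ideal.Quotient.mk _ a := by
      rw [RingEquiv.symm_apply_eq]; rfl
    simp only [φ, RingHom.comp_apply, RingEquiv.toRingHom_eq_coe, RingHom.coe_coe]
    rw [this]; rfl
  have h1 : P'.height ≤ (P'.comap φ).height := by
    rw [(⟨P', hP⟩ : PrimeSpectrum (𝔸 ⧸ Q)).height_eq_orderHeight,
      (⟨P'.comap φ, inferInstance⟩ : PrimeSpectrum S).height_eq_orderHeight]
    refine Order.height_le_height_apply_of_strictMono (PrimeSpectrum.comap φ) ?_ ⟨P', hP⟩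
    intro a b hab
    exact lt_of_le_of_ne (Ideal.comap_mono hab.le) fun h => hab.ne
      (PrimeSpectrum.ext (Ideal.comap_injective_of_surjective φ hφ (congrArg PrimeSpectrum.asIdeal h)))
  have h2 : P'.comap φ = q := by
    apply Ideal.comap_injective_of_surjective _ hπ
    rw [Ideal.comap_comap, show φ.comp (algebraMap 𝔸 S) = Ideal.Quotient.mk Q from RingHom.ext hφc,
      hP', Ideal.comap_map_of_surjective' _ Ideal.Quotient.mk_surjective, Ideal.mk_ker,
      sup_eq_left.2 hQq]
  rw [h2] at h1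
  -- dimension formula
  have e1 := VarDim.ringKrullDim_quotient_add_height k (𝔸 ⧸ Q) P'
  have e2 := VarDim.ringKrullDim_quotient_add_height k 𝔸 (q.comap (algebraMap 𝔸 S))
  have e3 := VarDim.ringKrullDim_quotient_add_height k 𝔸 Q
  have e4 : ringKrullDim ((𝔸 ⧸ Q) ⧸ P') = ringKrullDim (𝔸 ⧸ q.comap (algebraMap 𝔸 S)) :=
    ringKrullDim_eq_of_ringEquiv (DoubleQuot.quotQuotEquivQuotOfLE hQq)
  obtain ⟨t, ht, -⟩ := VarDim.exists_ringKrullDim_eq_trdeg k (𝔸 ⧸ Q)
  haveI : Algebra.FiniteType k (𝔸 ⧸ q.comap (algebraMap 𝔸 S)) :=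
    Algebra.FiniteType.of_surjective (Ideal.Quotient.mkₐ k _) Ideal.Quotient.mk_surjective
  obtain ⟨w, hw, -⟩ := VarDim.exists_ringKrullDim_eq_trdeg k (𝔸 ⧸ q.comap (algebraMap 𝔸 S))
  obtain ⟨N, hN, -⟩ := VarDim.exists_ringKrullDim_eq_trdeg k 𝔸
  haveI : IsNoetherianRing (𝔸 ⧸ Q) := inferInstance
  obtain ⟨a, ha⟩ := ENat.ne_top_iff_exists.1 (Ideal.height_ne_top_of_isPrime (I := P'))
  obtain ⟨b, hb⟩ := ENat.ne_top_iff_exists.1 (Ideal.height_ne_top_of_isPrime (I := q.comap (algebraMap 𝔸 S)))
  obtain ⟨c, hc⟩ := ENat.ne_top_iff_exists.1 (Ideal.height_ne_top_of_isPrime (I := Q))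
  rw [e4, hw, ht, ← ha] at e1
  rw [hw, hN, ← hb] at e2
  rw [ht, hN, ← hc] at e3
  rw [← hb, ← hc]
  refine le_trans ?_ (add_le_add h1 le_rfl)
  rw [← ha]
  have e1' : w + a = t := by exact_mod_cast e1
  have e2' : w + b = N := by exact_mod_cast e2
  have e3' : t + c = N := by exact_mod_cast e3
  exact_mod_cast (show b ≤ a + c by omega)

/-- Depth of `S_q` in terms of projective dimension over `A_P`. -/
lemma le_depth_iff (hπ : Function.Surjective (algebraMap 𝔸 S)) (q : Ideal S) [q.IsPrime] (N : ℕ)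
    (hN : (q.comap (algebraMap 𝔸 S)).height = N) (d : ℕ) :
    haveI : IsNoetherianRing S := isNoetherianRing_of_surjective _ _ (algebraMap 𝔸 S) hπ
    (((N - d : ℕ) : ℕ∞) ≤ LocCoh.depth (Localization.AtPrime q) (Localization.AtPrime q) ↔
      HasProjectiveDimensionLE (ModuleCat.of (Localization.AtPrime (q.comap (algebraMap 𝔸 S)))
        (LocalizedModule (q.comap (algebraMap 𝔸 S)).primeCompl S)) d) := by
  haveI : IsNoetherianRing S := isNoetherianRing_of_surjective _ _ (algebraMap 𝔸 S) hπ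
  haveI : Module.Finite 𝔸 S := Module.Finite.of_surjective (Algebra.linearMap 𝔸 S) hπ
  set P := q.comap (algebraMap 𝔸 S) with hP
  haveI : IsRegularLocalRing (Localization.AtPrime P) := IsRegularRing.isRegularLocalRing_localization P
  have hn : ringKrullDim (Localization.AtPrime P) = (N : ℕ) := by
    rw [IsLocalization.AtPrime.ringKrullDim_eq_height P (Localization.AtPrime P), hN]; rfl
  letI : Algebra (Localization.AtPrime P) (Localization.AtPrime q) :=
    (Localization.localRingHom P q (algebraMap 𝔸 S) rfl).toAlgebra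
  haveI : IsScalarTower 𝔸 (Localization.AtPrime P) (Localization.AtPrime q) :=
    IsScalarTower.of_algebraMap_eq fun a => by
      rw [IsScalarTower.algebraMap_apply 𝔸 S (Localization.AtPrime q)]
      exact (Localization.localRingHom_to_map P q (algebraMap 𝔸 S) rfl a).symm
  have hsub : Algebra.algebraMapSubmonoid S P.primeCompl = q.primeCompl := by
    ext s
    constructor
    · rintro ⟨a, ha, rfl⟩
      exact ha
    · intro hs
      obtain ⟨a, rfl⟩ := hπ s
      exact ⟨a, hs, rfl⟩
  haveI : IsLocalization (Algebra.algebraMapSubmonoid S P.primeCompl) (Localization.AtPrime q) := by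
    rw [hsub]; infer_instance
  haveI hloc : IsLocalizedModule P.primeCompl
      (IsScalarTower.toAlgHom 𝔸 S (Localization.AtPrime q)).toLinearMap :=
    isLocalizedModule_iff_isLocalization.2 inferInstance
  let e : LocalizedModule P.primeCompl S ≃ₗ[Localization.AtPrime P] Localization.AtPrime q :=
    (IsLocalizedModule.iso P.primeCompl
      (IsScalarTower.toAlgHom 𝔸 S (Localization.AtPrime q)).toLinearMap).extendScalarsOfIsLocalization
      P.primeCompl (Localization.AtPrime P)
  have hsurj : Function.Surjective (algebraMap (Localization.AtPrime P) (Localization.AtPrime q)) := by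
    intro z
    obtain ⟨⟨s, t, ht⟩, rfl⟩ : ∃ x : S × q.primeCompl, IsLocalization.mk' _ x.1 x.2 = z :=
      ⟨(IsLocalization.sec q.primeCompl z), IsLocalization.mk'_sec _ z⟩
    obtain ⟨a, rfl⟩ := hπ s
    obtain ⟨b, rfl⟩ := hπ t
    refine ⟨IsLocalization.mk' _ a (⟨b, ht⟩ : P.primeCompl), ?_⟩
    exact Localization.localRingHom_mk' P q (algebraMap 𝔸 S) rfl a _
  rw [← ABReg.le_depth_iff hn d (LocalizedModule P.primeCompl S)]
  have hd : LocCoh.depth (Localization.AtPrime q) (Localization.AtPrime q) =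
      LocCoh.depth (Localization.AtPrime P) (LocalizedModule P.primeCompl S) := by
    rw [Depth.depth_eq_idealDepth, Depth.depth_eq_idealDepth, Depth.idealDepth_congr e,
      ← IsLocalRing.map_maximalIdeal_of_surjective (algebraMap (Localization.AtPrime P)
        (Localization.AtPrime q)) hsurj, Depth.idealDepth_map_of_surjective hsurj]
  rw [hd]


/-- The Cohen–Macaulay locus of a finite type algebra over a field is open. -/
theorem result (k S : Type u) [Field k] [CommRing S] [Algebra k S]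
    [Algebra.FiniteType k S] :
    IsOpen {q : PrimeSpectrum S | LocCoh.IsCohenMacaulayLocalRing (Localization.AtPrime q.asIdeal)} := by
  classical
  obtain ⟨n, π, hπ⟩ := Algebra.FiniteType.iff_quotient_mvPolynomial''.1 ‹Algebra.FiniteType k S›
  letI := π.toRingHom.toAlgebra
  haveI : IsNoetherianRing S := isNoetherianRing_of_surjective _ _ π.toRingHom hπ
  haveI : Module.Finite (MvPolynomial (Fin n) k) S :=
    Module.Finite.of_surjective (Algebra.linearMap (MvPolynomial (Fin n) k) S) hπ
  rw [isOpen_iff_forall_mem_open]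
  intro q hq
  set P := q.asIdeal.comap (algebraMap (MvPolynomial (Fin n) k) S) with hP
  obtain ⟨N, hN⟩ := ENat.ne_top_iff_exists.1 (Ideal.height_ne_top_of_isPrime (I := P))
  obtain ⟨c, hc⟩ := ENat.ne_top_iff_exists.1 (Ideal.height_ne_top_of_isPrime (I := q.asIdeal))
  -- the open set `pd ≤ N - c`
  obtain ⟨K, _, _, _, hK⟩ := S5165.exists_freeLocus_eq (A := MvPolynomial (Fin n) k) (N - c) S
  have hUopen : IsOpen (Module.freeLocus (MvPolynomial (Fin n) k) K) := by
    have := Module.finitePresentation_of_finite (MvPolynomial (Fin n) k) K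
    exact Module.isOpen_freeLocus
  let I := RingHom.ker (algebraMap (MvPolynomial (Fin n) k) S)
  have hfin : {Q ∈ I.minimalPrimes | ¬ Q ≤ P}.Finite :=
    (I.finite_minimalPrimes_of_isNoetherianRing _).subset fun Q h => h.1
  let V : Set (PrimeSpectrum (MvPolynomial (Fin n) k)) :=
    ⋂ Q ∈ {Q ∈ I.minimalPrimes | ¬ Q ≤ P}, (PrimeSpectrum.zeroLocus (Q : Set (MvPolynomial (Fin n) k)))ᶜ
  have hV : IsOpen V := hfin.isOpen_biInter fun Q _ => (PrimeSpectrum.isClosed_zeroLocus _).isOpen_compl
  refine ⟨PrimeSpectrum.comap (algebraMap (MvPolynomial (Fin n) k) S) ⁻¹'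
    (Module.freeLocus (MvPolynomial (Fin n) k) K ∩ V), ?_, (hUopen.inter hV).preimage
      (PrimeSpectrum.continuous_comap _), ?_⟩
  · rintro q' ⟨hq'U, hq'V⟩
    set P' := q'.asIdeal.comap (algebraMap (MvPolynomial (Fin n) k) S) with hP'
    obtain ⟨N', hN'⟩ := ENat.ne_top_iff_exists.1 (Ideal.height_ne_top_of_isPrime (I := P'))
    obtain ⟨c', hc'⟩ := ENat.ne_top_iff_exists.1 (Ideal.height_ne_top_of_isPrime (I := q'.asIdeal))
    have h1 := (le_depth_iff hπ q'.asIdeal N' hN'.symm (N - c)).2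
      ((hK ⟨P', inferInstance⟩).2 hq'U)
    have h2 : q'.asIdeal.height + ((N - c : ℕ) : ℕ∞) ≤ P'.height := by
      refine height_le_height_comap_add hπ q'.asIdeal _ fun Q hQ hQP' => ?_
      have hQP : Q ≤ P := by
        by_contra hne
        exact Set.mem_iInter₂.1 hq'V Q ⟨hQ, hne⟩ hQP'
      haveI := hQ.1.1
      have h3 := height_comap_le hπ q.asIdeal Q hQ.1.2 hQP
      obtain ⟨m, hm⟩ := ENat.ne_top_iff_exists.1 (Ideal.height_ne_top_of_isPrime (I := Q))
      rw [← hP, ← hN, ← hc, ← hm] at h3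
      have h3' : N ≤ c + m := by exact_mod_cast h3
      rw [← hm]
      exact_mod_cast (show N - c ≤ m by omega)
    rw [← hc', ← hN'] at h2
    have h2' : c' + (N - c) ≤ N' := by exact_mod_cast h2
    refine Depth.isCohenMacaulayLocalRing_iff.2 (le_antisymm ?_ Depth.depth_le_supportDim)
    rw [Module.supportDim_self_eq_ringKrullDim,
      IsLocalization.AtPrime.ringKrullDim_eq_height q'.asIdeal (Localization.AtPrime q'.asIdeal), ← hc']
    refine WithBot.coe_le_coe.2 (le_trans ?_ h1)
    exact_mod_cast (show c' ≤ N' - (N - c) by omega)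
  · refine ⟨(hK ⟨P, inferInstance⟩).1 ((le_depth_iff hπ q.asIdeal N hN.symm (N - c)).1 ?_),
      Set.mem_iInter₂.2 fun Q hQ => hQ.2⟩
    have hdep := (Depth.isCohenMacaulayLocalRing_iff.1 hq :
      LocCoh.IsCohenMacaulayModule (Localization.AtPrime q.asIdeal) (Localization.AtPrime q.asIdeal))
    unfold LocCoh.IsCohenMacaulayModule at hdep
    rw [Module.supportDim_self_eq_ringKrullDim,
      IsLocalization.AtPrime.ringKrullDim_eq_height q.asIdeal (Localization.AtPrime q.asIdeal), ← hc] at hdep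
    have hcd : (c : ℕ∞) = LocCoh.depth (Localization.AtPrime q.asIdeal) (Localization.AtPrime q.asIdeal) :=
      WithBot.coe_eq_coe.1 hdep
    rw [← hcd]
    exact_mod_cast (show N - (N - c) ≤ c by omega)

end Groth.Agent.S9152
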