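import Groth.Statements.S9153
import Groth.Agent.VarDim.Algebra

set_option autoImplicit false
universe u
open CAlg

namespace Groth.Agent.S9153

open Groth.Agent.VarDim

/-- In a polynomial ring in finitely many variables over a field, every saturated chain of primes
between two primes p ⊆ q has length equal to the difference of their heights (stated additively:
length + height p = height q). -/
theorem result (k : Type u) [Field k] (n : ℕ)
    (s : LTSeries (PrimeSpectrum (MvPolynomial (Fin n) k)))
    (hsat : ∀ i : Fin s.length, s (Fin.castSucc i) ⋖ s (Fin.succ i)) :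
    (s.length : ℕ∞) + s.head.asIdeal.height = s.last.asIdeal.height := by
  have step : ∀ Q P : PrimeSpectrum (MvPolynomial (Fin n) k), Q ⋖ P → P.asIdeal.height = Q.asIdeal.height + 1 := by
    intro Q P h
    haveI := Q.isPrime; haveI := P.isPrime
    obtain ⟨a, ha, ha'⟩ := trdeg_quotient_add_height k (MvPolynomial (Fin n) k) Q.asIdeal
    obtain ⟨b, hb, hb'⟩ := trdeg_quotient_add_height k (MvPolynomial (Fin n) k) P.asIdeal
    haveI := finiteType_quotient k (MvPolynomial (Fin n) k) Q.asIdeal
    haveI := finiteType_quotient k (MvPolynomial (Fin n) k) P.asIdeal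
    obtain ⟨d, -, hd, -⟩ := exists_ringKrullDim_eq_trdeg k (MvPolynomial (Fin n) k ⧸ Q.asIdeal)
    obtain ⟨e, -, he, -⟩ := exists_ringKrullDim_eq_trdeg k (MvPolynomial (Fin n) k ⧸ P.asIdeal)
    have h1 := trdeg_quotient_of_covBy k (MvPolynomial (Fin n) k) h
    rw [hd, he] at h1
    rw [hd, ← hb', he] at ha'
    norm_cast at h1 ha'
    rw [ha, hb]
    norm_cast
    omega
  have key : ∀ (i : ℕ) (hi : i < s.length + 1), (s ⟨i, hi⟩).asIdeal.height = (i : ℕ∞) + s.head.asIdeal.height := by
    intro i
    induction i with
    | zero => intro hi; simp [RelSeries.head]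
    | succ i ih =>
      intro hi
      have h := step _ _ (hsat ⟨i, by omega⟩)
      rw [show (Fin.castSucc (⟨i, by omega⟩ : Fin s.length)) = ⟨i, by omega⟩ from rfl,
        show (Fin.succ (⟨i, by omega⟩ : Fin s.length)) = ⟨i + 1, hi⟩ from rfl, ih (by omega)] at h
      rw [h]; push_cast; ring
  exact (key s.length (by omega)).symm

end Groth.Agent.S9153
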