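import Groth.Statements.S9154
import Mathlib
import Groth.Agent.VarDim.Algebra
import Groth.Agent.EGA4Lib.MiracleModule
import Groth.Agent.Depth.CM
-- import your own Groth.Agent.* helpers here

set_option autoImplicit false
universe u
open CAlg

namespace Groth.Agent.S9154

open IsLocalRing in
lemma key (k S : Type u) [Field k] [CommRing S] [Algebra k S]
    [Algebra.FiniteType k S] [LocCoh.IsCohenMacaulayRing S] (d : ℕ)
    (heq : ∀ p ∈ minimalPrimes S, ringKrullDim (S ⧸ p) = d) (f : List S) (hi : f.length ≤ d)
    (hle : ringKrullDim (S ⧸ Ideal.ofList f) ≤ ((d - f.length : ℕ) : WithBot ℕ∞))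
    (m : Ideal S) [m.IsMaximal] (hm : Ideal.ofList f ≤ m) :
    ((d : ℕ) : WithBot ℕ∞) ≤ ringKrullDim (S ⧸ Ideal.ofList f) + (f.length : ℕ∞) ∧
      RingTheory.Sequence.IsWeaklyRegular (Localization.AtPrime m)
        (f.map (algebraMap S (Localization.AtPrime m))) := by
  haveI : IsNoetherianRing S := Algebra.FiniteType.isNoetherianRing k S
  let Sm := Localization.AtPrime m
  haveI hCM : LocCoh.IsCohenMacaulayLocalRing Sm :=
    LocCoh.IsCohenMacaulayRing.isCohenMacaulayLocalRing_localization m
  haveI : IsNoetherianRing Sm := IsLocalization.isNoetherianRing m.primeCompl _ inferInstance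
  -- height m ≥ d
  obtain ⟨p, hp, hpm⟩ := Ideal.exists_minimalPrimes_le (J := m) (bot_le : (⊥ : Ideal S) ≤ m)
  haveI : p.IsPrime := hp.1.1
  have hdimm : ((d : ℕ) : WithBot ℕ∞) ≤ ringKrullDim Sm := by
    haveI := Groth.Agent.VarDim.finiteType_quotient k S p
    let m' : Ideal (S ⧸ p) := m.map (Ideal.Quotient.mk p)
    have hker : RingHom.ker (Ideal.Quotient.mk p) ≤ m := by rwa [Ideal.mk_ker]
    haveI : m'.IsMaximal := Ideal.IsMaximal.map_of_surjective_of_ker_le Ideal.Quotient.mk_surjective hker
    have h1 := Groth.Agent.VarDim.height_eq_ringKrullDim_of_isMaximal k (S ⧸ p) m'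
    rw [heq p hp] at h1
    have h2 : (m'.height : WithBot ℕ∞) ≤ (m.height : WithBot ℕ∞) := by
      rw [WithBot.coe_le_coe]
      have hcm : m'.comap (Ideal.Quotient.mk p) = m := by
        simp [m', Ideal.comap_map_of_surjective _ Ideal.Quotient.mk_surjective,
          sup_eq_left.2 (show p ≤ m from hpm), ← RingHom.ker_eq_comap_bot]
      have hmono : Monotone (PrimeSpectrum.comap (Ideal.Quotient.mk p)) :=
        fun a b hab => Ideal.comap_mono hab
      have := Order.height_le_height_apply_of_strictMono
        (PrimeSpectrum.comap (Ideal.Quotient.mk p))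
        (hmono.strictMono_of_injective
          (PrimeSpectrum.comap_injective_of_surjective _ Ideal.Quotient.mk_surjective))
        ⟨m', inferInstance⟩
      rw [← PrimeSpectrum.height_eq_orderHeight, ← PrimeSpectrum.height_eq_orderHeight] at this
      exact this.trans_eq (congrArg Ideal.height hcm)
    rw [IsLocalization.AtPrime.ringKrullDim_eq_height m Sm]
    exact h1 ▸ h2
  let ys : List Sm := f.map (algebraMap S Sm)
  have hys : ∀ y ∈ ys, y ∈ maximalIdeal Sm := by
    intro y hy
    obtain ⟨s, hs, rfl⟩ := List.mem_map.1 hy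
    exact (IsLocalization.AtPrime.to_map_mem_maximal_iff Sm m s).2
      (hm (Ideal.subset_span hs))
  have hJ : Ideal.ofList ys = (Ideal.ofList f).map (algebraMap S Sm) := (Ideal.map_ofList _ f).symm
  have hsd : Module.supportDim Sm (Sm ⧸ (Ideal.ofList ys • ⊤ : Submodule Sm Sm)) ≤
      ringKrullDim (S ⧸ Ideal.ofList f) := by
    rw [show (Ideal.ofList ys • ⊤ : Submodule Sm Sm) = Ideal.ofList ys by simp,
      Module.supportDim_quotient_eq_ringKrullDim]
    let ψ : S ⧸ Ideal.ofList f →+* Sm ⧸ Ideal.ofList ys :=
      Ideal.quotientMap _ (algebraMap S Sm) (by rw [hJ]; exact Ideal.le_comap_map)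
    refine Order.krullDim_le_of_strictMono (PrimeSpectrum.comap ψ)
      ((show Monotone (PrimeSpectrum.comap ψ) from fun a b hab => Ideal.comap_mono hab).strictMono_of_injective ?_)
    intro a b hab
    apply PrimeSpectrum.comap_injective_of_surjective _ (Ideal.Quotient.mk_surjective (I := Ideal.ofList ys))
    apply PrimeSpectrum.localization_comap_injective Sm m.primeCompl
    have := congrArg (PrimeSpectrum.comap (Ideal.Quotient.mk (Ideal.ofList f))) hab
    exact this
  have hlen : ys.length = f.length := List.length_map ..
  have hmod := Groth.Agent.Depth.isCohenMacaulayModule_self Sm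
  constructor
  · have h1 := Groth.Agent.EGA4Lib.MiracleModule.supportDim_le_add_length ys Sm hys
    rw [Module.supportDim_self_eq_ringKrullDim, hlen] at h1
    exact hdimm.trans (h1.trans (add_le_add hsd le_rfl))
  · refine Groth.Agent.EGA4Lib.MiracleModule.isWeaklyRegular_of_dim_drop ys Sm hmod hys ?_
    rw [Module.supportDim_self_eq_ringKrullDim, hlen]
    refine le_trans (add_le_add (hsd.trans hle) le_rfl) (le_trans (le_of_eq ?_) hdimm)
    simp [← Nat.cast_add, Nat.sub_add_cancel hi]

/-- Let S be a Cohen–Macaulay finite type algebra over a field k, equidimensional of dimension d, and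
f_1, …, f_i elements (i ≤ d) generating a proper ideal whose zero locus has dimension at most d − i.
Then that dimension equals d − i and the f_j form a regular sequence in S_q for every prime q
containing them. (The published statement also allows the f_j to generate the unit ideal, where the
zero locus is empty and the equality fails, e.g. f_1 = 1 in k[x]; this row assumes the ideal is
proper.) -/
theorem result (k S : Type u) [Field k] [CommRing S] [Algebra k S]
    [Algebra.FiniteType k S] [LocCoh.IsCohenMacaulayRing S] (d : ℕ)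
    (heq : ∀ p ∈ minimalPrimes S, ringKrullDim (S ⧸ p) = d) (f : List S) (hi : f.length ≤ d)
    (hne : Ideal.ofList f ≠ ⊤)
    (hle : ringKrullDim (S ⧸ Ideal.ofList f) ≤ ((d - f.length : ℕ) : WithBot ℕ∞)) :
    ringKrullDim (S ⧸ Ideal.ofList f) = ((d - f.length : ℕ) : WithBot ℕ∞) ∧
      ∀ (q : Ideal S) [q.IsPrime], Ideal.ofList f ≤ q →
        RingTheory.Sequence.IsRegular (Localization.AtPrime q)
          (f.map (algebraMap S (Localization.AtPrime q))) := by
  haveI : IsNoetherianRing S := Algebra.FiniteType.isNoetherianRing k S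
  constructor
  · obtain ⟨m, hm, hfm⟩ := Ideal.exists_le_maximal _ hne
    have h := (key k S d heq f hi hle m hfm).1
    refine le_antisymm hle ?_
    obtain ⟨e, he⟩ : ∃ e : ℕ∞, ringKrullDim (S ⧸ Ideal.ofList f) = (e : WithBot ℕ∞) := by
      haveI : Nontrivial (S ⧸ Ideal.ofList f) := Ideal.Quotient.nontrivial_iff.2 hne
      have h0 : (0 : WithBot ℕ∞) ≤ ringKrullDim (S ⧸ Ideal.ofList f) := ringKrullDim_nonneg_of_nontrivial
      have h1 : ringKrullDim (S ⧸ Ideal.ofList f) ≠ ⊥ := fun hb => by simp [hb] at h0
      obtain ⟨e, he⟩ := WithBot.ne_bot_iff_exists.1 h1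
      exact ⟨e, he.symm⟩
    rw [he] at h ⊢
    cases e with
    | top => exact le_top.trans (le_of_eq rfl)
    | coe e =>
      have h' : d ≤ e + f.length := by exact_mod_cast h
      have h'' : d - f.length ≤ e := by omega
      rw [WithBot.coe_natCast]
      exact_mod_cast h''
  · intro q _ hq
    obtain ⟨m, hm, hqm⟩ := Ideal.exists_le_maximal q (Ideal.IsPrime.ne_top inferInstance)
    have h := (key k S d heq f hi hle m (hq.trans hqm)).2
    have hdisj : m.primeCompl ≤ q.primeCompl := fun x hx hxq => hx (hqm hxq)
    let g : Localization.AtPrime m →+* Localization.AtPrime q :=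
      IsLocalization.map (M := m.primeCompl) (T := q.primeCompl) (Localization.AtPrime q) (RingHom.id S) hdisj
    letI : Algebra (Localization.AtPrime m) (Localization.AtPrime q) := g.toAlgebra
    haveI : IsScalarTower S (Localization.AtPrime m) (Localization.AtPrime q) :=
      IsScalarTower.of_algebraMap_eq fun x => (IsLocalization.map_eq (M := m.primeCompl) (T := q.primeCompl) (g := RingHom.id S) hdisj x).symm
    haveI : Module.Flat (Localization.AtPrime m) (Localization.AtPrime q) := by
      haveI := IsLocalization.isLocalization_of_submonoid_le (Localization.AtPrime m) (Localization.AtPrime q)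
        m.primeCompl q.primeCompl hdisj
      exact IsLocalization.flat (Localization.AtPrime q)
        (q.primeCompl.map (algebraMap S (Localization.AtPrime m)))
    have h' := h.of_flat (S := Localization.AtPrime q)
    rw [List.map_map] at h'
    have hcomp : (algebraMap (Localization.AtPrime m) (Localization.AtPrime q) :
        Localization.AtPrime m → Localization.AtPrime q) ∘ algebraMap S (Localization.AtPrime m) =
        algebraMap S (Localization.AtPrime q) :=
      funext fun x => (IsScalarTower.algebraMap_apply S _ _ x).symm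
    rw [hcomp] at h'
    refine (IsLocalRing.isRegular_iff_isWeaklyRegular_of_subset_maximalIdeal ?_).2 h'
    intro r hr
    obtain ⟨s, hs, rfl⟩ := List.mem_map.1 hr
    exact (IsLocalization.AtPrime.to_map_mem_maximal_iff _ q s).2 (hq (Ideal.subset_span hs))

end Groth.Agent.S9154
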