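import Groth.Statements.S9155
import Groth.Agent.PP16.Universal

set_option autoImplicit false
universe u
open Diff16

open scoped TensorProduct

namespace Groth.Agent.S9155

/-- A differential operator of order at most k between modules over B (relative to A → B) has exactly
one extension to the localized modules over S⁻¹B that is again a differential operator of order at
most k (relative to A → S⁻¹B), compatible with the localization maps. -/
theorem result (A B : Type u) [CommRing A] [CommRing B] [Algebra A B]
    (S : Submonoid B) (M N : Type u) [AddCommGroup M] [Module B M] [Module A M] [IsScalarTower A B M]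
    [AddCommGroup N] [Module B N] [Module A N] [IsScalarTower A B N] (k : ℕ) (D : M →ₗ[A] N)
    (hD : Diff16.IsDiffOpLE A B M N k D) :
    ∃! E : LocalizedModule S M →ₗ[A] LocalizedModule S N,
      Diff16.IsDiffOpLE A (Localization S) (LocalizedModule S M) (LocalizedModule S N) k E ∧
        E ∘ₗ (LocalizedModule.mkLinearMap S M).restrictScalars A =
          (LocalizedModule.mkLinearMap S N).restrictScalars A ∘ₗ D := by
  have : Algebra.FormallyEtale B (Localization S) := Algebra.FormallyEtale.of_isLocalization S
  obtain ⟨D', h1, h2⟩ := Groth.Agent.PP16.exists_extension (S' := Localization S) k D hD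
  let eM := LocalizedModule.equivTensorProduct S M
  let eN := LocalizedModule.equivTensorProduct S N
  let E : LocalizedModule S M →ₗ[A] LocalizedModule S N :=
    (eN.symm.toLinearMap.restrictScalars A) ∘ₗ D' ∘ₗ (eM.toLinearMap.restrictScalars A)
  have eM1 : ∀ m, eM (LocalizedModule.mkLinearMap S M m) = (1 : Localization S) ⊗ₜ[B] m := fun m => by
    rw [LocalizedModule.mkLinearMap_apply, LocalizedModule.equivTensorProduct_apply_mk]
    congr 1
    exact Localization.mk_one
  refine ⟨E, ⟨?_, ?_⟩, ?_⟩
  · refine Groth.Agent.Diff16.IsDiffOpLE.comp_le k (n := k) (n' := 0) (Nat.add_zero k) ?_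
      (fun b x => map_smul eN.symm b x)
    exact Groth.Agent.Diff16.IsDiffOpLE.comp_le k (n := 0) (n' := k) (Nat.zero_add k)
      (fun b x => map_smul eM b x) h1
  · refine LinearMap.ext fun m => ?_
    change eN.symm (D' (eM (LocalizedModule.mkLinearMap S M m))) = LocalizedModule.mkLinearMap S N (D m)
    rw [eM1, h2, LinearEquiv.symm_apply_eq]
    rw [LocalizedModule.mkLinearMap_apply, LocalizedModule.equivTensorProduct_apply_mk]
    congr 1
    exact Localization.mk_one.symm
  · rintro F ⟨hF, hF2⟩
    let F' : Localization S ⊗[B] M →ₗ[A] Localization S ⊗[B] N :=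
      (eN.toLinearMap.restrictScalars A) ∘ₗ F ∘ₗ (eM.symm.toLinearMap.restrictScalars A)
    have hF' : F' = D' := by
      refine Groth.Agent.PP16.eq_of_extension k F' D' ?_ h1 fun m => ?_
      · refine Groth.Agent.Diff16.IsDiffOpLE.comp_le k (n := k) (n' := 0) (Nat.add_zero k) ?_
          (fun b x => map_smul eN b x)
        exact Groth.Agent.Diff16.IsDiffOpLE.comp_le k (n := 0) (n' := k) (Nat.zero_add k)
          (fun b x => map_smul eM.symm b x) hF
      · change eN (F (eM.symm _)) = _
        rw [h2, ← eM1, LinearEquiv.symm_apply_apply]
        have h3 : F (LocalizedModule.mkLinearMap S M m) = LocalizedModule.mkLinearMap S N (D m) :=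
          LinearMap.congr_fun hF2 m
        rw [h3, LocalizedModule.mkLinearMap_apply, LocalizedModule.equivTensorProduct_apply_mk]
        congr 1
        exact Localization.mk_one
    refine LinearMap.ext fun x => ?_
    change F x = eN.symm (D' (eM x))
    rw [← hF']
    change F x = eN.symm (eN (F (eM.symm (eM x))))
    rw [LinearEquiv.symm_apply_apply, LinearEquiv.symm_apply_apply]
end Groth.Agent.S9155
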