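import Groth.Statements.S9156
import Groth.Agent.RelDim.PiDecomp

set_option autoImplicit false
set_option linter.style.haveILetI false
universe u
open CAlg

namespace Groth.Agent.S9156

/-- A Cohen–Macaulay finite type algebra S over a field k decomposes as a finite product of k-algebras
S_0 × ⋯ × S_N in which every maximal ideal of the factor S_d has height d (so Spec S is a finite
disjoint union of equidimensional open and closed pieces). -/
theorem result (k S : Type u) [Field k] [CommRing S]
    [Algebra k S] [Algebra.FiniteType k S] [LocCoh.IsCohenMacaulayRing S] :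
    ∃ (N : ℕ) (T : Fin (N + 1) → Type u) (_ : ∀ d, CommRing (T d)) (_ : ∀ d, Algebra k (T d)),
      Nonempty (S ≃ₐ[k] ((d : Fin (N + 1)) → T d)) ∧
        ∀ (d : Fin (N + 1)) (m : Ideal (T d)), m.IsMaximal → m.height = (d : ℕ) := by
  haveI : Algebra.FinitePresentation k S := Algebra.FinitePresentation.of_finiteType.1 inferInstance
  have hpt : ∀ q, RelDim.IsCMPoint k S q := by
    intro q
    refine ⟨inferInstance, ?_⟩
    haveI := LocCoh.IsCohenMacaulayRing.isCohenMacaulayLocalRing_localization (R := S) q.asIdeal
    refine RelDim.isCohenMacaulayLocalRing_ringEquiv (A := Localization.AtPrime q.asIdeal)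
      ((RingEquiv.quotientBot _).symm.trans (Ideal.quotEquivOfEq ?_))
    haveI : (q.asIdeal.comap (algebraMap k S)).IsPrime := Ideal.comap_isPrime _ _
    rw [Ideal.eq_bot_of_prime (q.asIdeal.comap (algebraMap k S)), Ideal.map_bot]
  obtain ⟨N, e, he, h⟩ := RelDim.exists_decomposition (R := k) (S := S) hpt
  refine ⟨N, fun d => S ⧸ Ideal.span {1 - e d}, fun d => inferInstance, fun d => inferInstance,
    ⟨AlgEquiv.ofBijective (AlgHom.pi fun d => Ideal.Quotient.mkₐ k (Ideal.span {1 - e d}))
      he.bijective_pi⟩, fun d m hm => ?_⟩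
  obtain ⟨hloc, hpts⟩ := h d
  let T := S ⧸ Ideal.span {1 - e d}
  haveI := hm.isPrime
  haveI : Algebra.FiniteType k T := VarDim.finiteType_quotient k S _
  let p : Ideal k := m.under k
  letI : Algebra p.ResidueField m.ResidueField :=
    (Ideal.ResidueField.mapₐ p m (Algebra.ofId k T) (m.over_def p)).toRingHom.toAlgebra
  haveI : IsScalarTower k p.ResidueField m.ResidueField := IsScalarTower.of_algebraMap_eq fun x =>
    ((Ideal.ResidueField.mapₐ p m (Algebra.ofId k T) (m.over_def p)).commutes x).symm
  letI := Ideal.Quotient.field m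
  haveI : Algebra.FiniteType k (T ⧸ m) := VarDim.finiteType_quotient k T m
  haveI : Module.Finite k (T ⧸ m) := finite_of_finite_type_of_isJacobsonRing k (T ⧸ m)
  haveI : Module.Finite k m.ResidueField :=
    Module.Finite.of_surjective (IsScalarTower.toAlgHom k (T ⧸ m) m.ResidueField).toLinearMap
      m.bijective_algebraMap_quotient_residueField.surjective
  haveI : Module.Finite p.ResidueField m.ResidueField := Module.Finite.of_restrictScalars_finite k _ _
  obtain ⟨Q, hQ⟩ := RelDim.exists_over' p m
  have hd := (hpts ⟨m, hm.isPrime⟩).2.localDim_eq p Q hQ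
  rw [RelDim.localDim_eq_fibLocRing p m Q hQ 0 (by rw [trdeg_eq_zero]; rfl),
    Nat.cast_zero, add_zero,
    ringKrullDim_eq_of_ringEquiv ((Ideal.quotEquivOfEq (show _ = (⊥ : Ideal _) by
      haveI : (m.comap (algebraMap k T)).IsPrime := Ideal.comap_isPrime _ _
      rw [Ideal.eq_bot_of_prime (m.comap (algebraMap k T)), Ideal.map_bot])).trans
      (RingEquiv.quotientBot (Localization.AtPrime m))),
    IsLocalization.AtPrime.ringKrullDim_eq_height m (Localization.AtPrime m)] at hd
  exact_mod_cast hd

end Groth.Agent.S9156
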