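import Groth.Statements.S9157
import Mathlib.RingTheory.Localization.Finiteness
import Mathlib.Algebra.Module.FinitePresentation


set_option autoImplicit false
universe u
open CAlg

namespace Groth.Agent.S9157

/-- If the localization S⁻¹M of an R-module M is finitely presented over S⁻¹R, then some finitely
presented R-module M' maps to M inducing an isomorphism S⁻¹M' → S⁻¹M. -/
theorem result (R : Type u) [CommRing R] (S : Submonoid R)
    (M : Type u) [AddCommGroup M] [Module R M]
    [Module.FinitePresentation (Localization S) (LocalizedModule S M)] :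
    ∃ (M' : Type u) (_ : AddCommGroup M') (_ : Module R M') (φ : M' →ₗ[R] M),
      Module.FinitePresentation R M' ∧ Function.Bijective (LocalizedModule.map S φ) := by
  classical
  obtain ⟨G, hG⟩ := (inferInstance : Module.Finite (Localization S) (LocalizedModule S M)).fg_top
  choose mg hmg using fun g : LocalizedModule S M => IsLocalizedModule.surj S (LocalizedModule.mkLinearMap S M) g
  let π : (G →₀ R) →ₗ[R] M := Finsupp.linearCombination R fun g => (mg g).1
  let L := LocalizedModule.map S π
  have hL : Function.Surjective L := by
    rw [← LinearMap.range_eq_top, ← top_le_iff, ← hG, Submodule.span_le]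
    intro g hg
    have h1 : L (LocalizedModule.mk (Finsupp.single ⟨g, hg⟩ 1) 1) = (mg g).2 • g := by
      simp [L, π, LocalizedModule.map_mk, hmg]
    refine ⟨Localization.mk 1 (mg g).2 • LocalizedModule.mk (Finsupp.single ⟨g, hg⟩ 1) 1, ?_⟩
    rw [map_smul, h1, Submonoid.smul_def, ← IsScalarTower.algebraMap_smul (Localization S) ((mg g).2 : R) g,
      smul_smul, ← Localization.mk_one_eq_algebraMap, Localization.mk_mul]
    simp [Localization.mk_self]
  have : Module.Finite (Localization S) (LocalizedModule S (G →₀ R)) := inferInstance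
  obtain ⟨K, hK⟩ := @Module.FinitePresentation.fg_ker (Localization S) (LocalizedModule S (G →₀ R))
    (LocalizedModule S M) _ _ _ _ _ this _ L hL
  choose mk hmk using fun g : LocalizedModule S (G →₀ R) =>
    IsLocalizedModule.surj S (LocalizedModule.mkLinearMap S (G →₀ R)) g
  have hker : ∀ g ∈ K, ∃ t : S, π (t • (mk g).1) = 0 := by
    intro g hg
    have h0 : L g = 0 := LinearMap.mem_ker.mp (hK ▸ Submodule.subset_span hg)
    have h1 : LocalizedModule.mk (π (mk g).1) 1 = (0 : LocalizedModule S M) := by
      have := congrArg L (hmk g)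
      rw [LinearMap.map_smul_of_tower, h0, smul_zero] at this
      simpa [L, LocalizedModule.map_mk] using this.symm
    obtain ⟨t, ht⟩ := LocalizedModule.mk_eq.mp (h1.trans (LocalizedModule.zero_mk 1).symm)
    exact ⟨t, by simpa using ht⟩
  choose t ht using hker
  let N : Submodule R (G →₀ R) :=
    Submodule.span R ((K.attach.image fun g => t g.1 g.2 • (mk g.1).1 : Finset _) : Set _)
  have hN : N ≤ LinearMap.ker π := by
    refine Submodule.span_le.mpr fun x hx => ?_
    obtain ⟨g, -, rfl⟩ := Finset.mem_image.mp hx
    exact ht _ _
  have : Module.FinitePresentation R ((G →₀ R) ⧸ N) :=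
    Module.finitePresentation_of_surjective N.mkQ (Submodule.mkQ_surjective _)
      (by rw [Submodule.ker_mkQ]; exact ⟨_, rfl⟩)
  refine ⟨_, inferInstance, inferInstance, N.liftQ π hN, this, ?_⟩
  let q := LocalizedModule.map S N.mkQ
  have hq : Function.Surjective q := LocalizedModule.map_surjective S _ (Submodule.mkQ_surjective _)
  have hcomp : ∀ y, LocalizedModule.map S (N.liftQ π hN) (q y) = L y := by
    intro y
    induction y using LocalizedModule.induction_on with
    | h a s => simp [q, L, LocalizedModule.map_mk]
  refine ⟨?_, fun z => ?_⟩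
  · rw [← LinearMap.ker_eq_bot, LinearMap.ker_eq_bot']
    intro z hz
    obtain ⟨y, rfl⟩ := hq z
    rw [hcomp] at hz
    have hy : y ∈ Submodule.span (Localization S) (K : Set _) := hK ▸ hz
    suffices h : Submodule.span (Localization S) (K : Set _) ≤ LinearMap.ker q from h hy
    refine Submodule.span_le.mpr fun g hg => ?_
    have e1 : q ((t g hg * (mk g).2 : S) • g) = 0 := by
      rw [mul_smul, hmk g, Submonoid.smul_def, ← map_smul, LocalizedModule.mkLinearMap_apply]
      simp only [q, LocalizedModule.map_mk]
      rw [show N.mkQ ((t g hg : R) • (mk g).1) = 0 from (Submodule.Quotient.mk_eq_zero N).mpr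
        (Submodule.subset_span (Finset.mem_image.mpr ⟨⟨g, hg⟩, Finset.mem_attach _ _, rfl⟩))]
      simp
    rw [LinearMap.map_smul_of_tower] at e1
    exact IsLocalizedModule.smul_injective (LocalizedModule.mkLinearMap S _) (t g hg * (mk g).2)
      (e1.trans (smul_zero _).symm)
  · obtain ⟨y, rfl⟩ := hL z
    exact ⟨q y, hcomp y⟩

end Groth.Agent.S9157
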