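import Groth.Statements.S9158
import Groth.Agent.FlatOpen.GenericFlat

set_option autoImplicit false
universe u
open CAlg

namespace Groth.Agent.S9158

/-- Generic freeness over a reduced ring: let R → S be of finite type with R reduced and M a finite
S-module. There is a dense open subset U of Spec R such that each point of U lies in a basic open
D(f) ⊆ U with M_f and S_f free over R_f, S_f of finite presentation over R_f, and M_f of finite
presentation over S_f. -/
theorem result (R S : Type u) [CommRing R] [IsReduced R] [CommRing S]
    [Algebra R S] [Algebra.FiniteType R S] (M : Type u) [AddCommGroup M] [Module S M] [Module R M]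
    [IsScalarTower R S M] [Module.Finite S M] :
    ∃ U : Set (PrimeSpectrum R), IsOpen U ∧ Dense U ∧ ∀ u ∈ U, ∃ f : R, f ∉ u.asIdeal ∧
      (PrimeSpectrum.basicOpen f : Set (PrimeSpectrum R)) ⊆ U ∧
      Module.Free (Localization.Away f) (LocalizedModule (Submonoid.powers f) M) ∧
      Module.Free (Localization.Away f) (LocalizedModule (Submonoid.powers f) S) ∧
      (Localization.awayMap (algebraMap R S) f).FinitePresentation ∧
      Module.FinitePresentation (Localization.Away (algebraMap R S f))
        (LocalizedModule (Submonoid.powers (algebraMap R S f)) M) := by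
  classical
  let P : R → Prop := fun f =>
    Module.Free (Localization.Away f) (LocalizedModule (Submonoid.powers f) M) ∧
      Module.Free (Localization.Away f) (LocalizedModule (Submonoid.powers f) S) ∧
      (Localization.awayMap (algebraMap R S) f).FinitePresentation ∧
      Module.FinitePresentation (Localization.Away (algebraMap R S f))
        (LocalizedModule (Submonoid.powers (algebraMap R S f)) M)
  refine ⟨⋃ f : {f : R // P f}, (PrimeSpectrum.basicOpen f.1 : Set (PrimeSpectrum R)),
    isOpen_iUnion fun f => (PrimeSpectrum.basicOpen f.1).isOpen, ?_, ?_⟩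
  · rw [dense_iff_inter_open]
    intro W hW hne
    obtain ⟨u, hu⟩ := hne
    obtain ⟨-, ⟨a, rfl⟩, hua, haW⟩ :=
      PrimeSpectrum.isTopologicalBasis_basic_opens.exists_subset_of_mem_open hu hW
    have ha : a ≠ 0 := fun h => hua (by rw [h]; exact zero_mem _)
    obtain ⟨f₁, haf, hf₁, h₁⟩ := FlatMisc.GenericFree.genFree (R := R) S M a ha
    obtain ⟨f₂, h12, hf₂, h₂⟩ := FlatMisc.GenericFree.genFree (R := R) S S f₁ hf₁
    obtain ⟨f₃, h23, hf₃, h₃⟩ := FlatMisc.GenericFree.exists_finitePresentation (S := S) M hf₂
    obtain ⟨f₄, h34, hf₄, h₄⟩ :=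
      FlatMisc.GenericFree.exists_algebra_finitePresentation (R := R) (S := S) hf₃
    have hP : P f₄ := by
      refine ⟨(h₁.of_dvd (h12.trans (h23.trans h34))).free_of_isLocalizedModule
          (LocalizedModule.mkLinearMap _ M),
        (h₂.of_dvd (h23.trans h34)).free_of_isLocalizedModule
          (LocalizedModule.mkLinearMap _ S), ?_, h₃ f₄ h34⟩
      let A := Localization.Away f₄
      let B := Localization.Away (algebraMap R S f₄)
      letI : Algebra A B := (Localization.awayMap (algebraMap R S) f₄).toAlgebra
      haveI : IsScalarTower R A B := IsScalarTower.of_algebraMap_eq fun x => by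
        show _ = Localization.awayMap (algebraMap R S) f₄ (algebraMap R A x)
        rw [Localization.awayMap, IsLocalization.Away.map, IsLocalization.map_eq,
          IsScalarTower.algebraMap_apply R S B]
      haveI : IsLocalization (Algebra.algebraMapSubmonoid S (Submonoid.powers f₄)) B := by
        rw [Algebra.algebraMapSubmonoid_powers]
        infer_instance
      haveI : Algebra.IsPushout R A S B :=
        (Algebra.isPushout_of_isLocalization (R := R) (Submonoid.powers f₄) A S B).symm
      haveI := h₄ f₄ dvd_rfl
      exact Algebra.FinitePresentation.equiv (Algebra.IsPushout.equiv R A S B)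
    obtain ⟨v, hv⟩ : ∃ v : PrimeSpectrum R, v ∈ PrimeSpectrum.basicOpen f₄ := by
      by_contra hne
      push_neg at hne
      exact hf₄ (IsReduced.eq_zero _ ((nilpotent_iff_mem_prime).2 fun J hJ => by
        by_contra hJf
        exact hne ⟨J, hJ⟩ hJf))
    refine ⟨v, haW ?_, Set.mem_iUnion.2 ⟨⟨f₄, hP⟩, hv⟩⟩
    intro hva
    exact hv (Ideal.mem_of_dvd _ (haf.trans (h12.trans (h23.trans h34))) hva)
  · intro u hu
    obtain ⟨⟨f, hf⟩, huf⟩ := Set.mem_iUnion.1 hu
    exact ⟨f, huf, Set.subset_iUnion (fun f : {f : R // P f} =>
      (PrimeSpectrum.basicOpen f.1 : Set (PrimeSpectrum R))) ⟨f, hf⟩, hf⟩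

end Groth.Agent.S9158
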