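import Groth.Statements.S9161
import Mathlib.Tactic.LinearCombination
import Mathlib.Tactic.Module
import Mathlib.Tactic.Abel


set_option autoImplicit false
universe u
open CAlg

namespace Groth.Agent.S9161

/-- If two two-term complexes of R-modules A₁ → A₀ and B₁ → B₀ are homotopy equivalent (maps of
complexes both ways whose composites are homotopic to the identity maps), then A₁ ⊕ B₀ and B₁ ⊕ A₀
are isomorphic R-modules. -/
theorem result (R : Type u) [CommRing R]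
    (A₁ A₀ B₁ B₀ : Type u) [AddCommGroup A₁] [Module R A₁] [AddCommGroup A₀] [Module R A₀]
    [AddCommGroup B₁] [Module R B₁] [AddCommGroup B₀] [Module R B₀]
    (dA : A₁ →ₗ[R] A₀) (dB : B₁ →ₗ[R] B₀) (φ₁ : A₁ →ₗ[R] B₁) (φ₀ : A₀ →ₗ[R] B₀)
    (ψ₁ : B₁ →ₗ[R] A₁) (ψ₀ : B₀ →ₗ[R] A₀) (hφ : dB ∘ₗ φ₁ = φ₀ ∘ₗ dA) (hψ : dA ∘ₗ ψ₁ = ψ₀ ∘ₗ dB)
    (h : A₀ →ₗ[R] A₁) (hh₁ : LinearMap.id - ψ₁ ∘ₗ φ₁ = h ∘ₗ dA) (hh₀ : LinearMap.id - ψ₀ ∘ₗ φ₀ = dA ∘ₗ h)
    (h' : B₀ →ₗ[R] B₁) (hh'₁ : LinearMap.id - φ₁ ∘ₗ ψ₁ = h' ∘ₗ dB)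
    (hh'₀ : LinearMap.id - φ₀ ∘ₗ ψ₀ = dB ∘ₗ h') :
    Nonempty ((A₁ × B₀) ≃ₗ[R] (B₁ × A₀)) := by
  let F : A₁ × B₀ →ₗ[R] B₁ × A₀ := (φ₁.coprod h').prod ((-dA).coprod ψ₀)
  let G : B₁ × A₀ →ₗ[R] A₁ × B₀ := (ψ₁.coprod (-h)).prod (dB.coprod φ₀)
  refine ⟨LinearEquiv.ofBijective F ⟨?_, ?_⟩⟩
  · rw [← LinearMap.ker_eq_bot, LinearMap.ker_eq_bot']
    rintro ⟨a, b⟩ hab
    simp only [F, LinearMap.prod_apply, Function.prod_apply, LinearMap.coprod_apply, Prod.mk_eq_zero, LinearMap.neg_apply] at hab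
    obtain ⟨e1, e2⟩ := hab
    have k0 := LinearMap.congr_fun hh'₀ b
    have k1 := LinearMap.congr_fun hh₁ a
    have hφa := LinearMap.congr_fun hφ a
    simp only [LinearMap.sub_apply, LinearMap.comp_apply, LinearMap.id_apply] at k0 k1 hφa
    have hb : b = 0 := by
      have t1 := congrArg dB e1
      have t2 := congrArg φ₀ e2
      simp only [map_add, map_neg, map_zero] at t1 t2
      rw [hφa, ← k0] at t1
      linear_combination (norm := module) t1 + t2
    subst hb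
    simp only [map_zero, add_zero, neg_eq_zero] at e1 e2
    rw [e1, e2, map_zero, map_zero, sub_zero] at k1
    simp [k1]
  · intro z
    have key : ∀ w : B₁ × A₀, ∃ z : B₁, F (G w) = (w.1 + z, w.2) ∧ (w.2 = 0 → z = 0) := by
      rintro ⟨b, a⟩
      refine ⟨h' (φ₀ a) - φ₁ (h a), Prod.ext ?_ ?_, fun ha => by simp [show a = 0 from ha]⟩
      · have k1 := LinearMap.congr_fun hh'₁ b
        simp only [LinearMap.sub_apply, LinearMap.comp_apply, LinearMap.id_apply] at k1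
        simp only [F, G, LinearMap.prod_apply, Function.prod_apply, LinearMap.coprod_apply, LinearMap.neg_apply, map_add, map_neg]
        linear_combination (norm := module) -k1
      · have k0 := LinearMap.congr_fun hh₀ a
        have hψb := LinearMap.congr_fun hψ b
        simp only [LinearMap.sub_apply, LinearMap.comp_apply, LinearMap.id_apply] at k0 hψb
        simp only [F, G, LinearMap.prod_apply, Function.prod_apply, LinearMap.coprod_apply, LinearMap.neg_apply, map_add, map_neg]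
        linear_combination (norm := module) -k0 - hψb
    obtain ⟨w, hw, -⟩ := key z
    obtain ⟨v, hv, hv0⟩ := key (w, 0)
    rw [hv0 rfl, add_zero] at hv
    exact ⟨G z - G (w, 0), by rw [map_sub, hw, hv]; simp⟩

end Groth.Agent.S9161
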