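import Groth.Statements.S9163
import Mathlib.Algebra.Polynomial.Lifts
import Mathlib.RingTheory.IntegralClosure.IsIntegralClosure.Basic
import Mathlib.RingTheory.FiniteType


set_option autoImplicit false
universe u
open CAlg

namespace Groth.Agent.S9163

/-- If S is integral over R, then any finitely many elements of R and of S lie in a pair R₀ ⊆ R, S₀ ⊆ S
with R₀ a finite type ℤ-subalgebra, S₀ an R₀-subalgebra of S, and S₀ finite as an R₀-module; so R →
S is the directed colimit of finite maps between finite type ℤ-algebras. -/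
theorem result (R S : Type u) [CommRing R] [CommRing S] [Algebra R S]
    [Algebra.IsIntegral R S] (E : Finset R) (F : Finset S) :
    ∃ (R₀ : Subalgebra ℤ R) (S₀ : Subalgebra R₀ S), Algebra.FiniteType ℤ R₀ ∧ (E : Set R) ⊆ R₀ ∧
      (F : Set S) ⊆ S₀ ∧ Module.Finite R₀ S₀ := by
  classical
  choose P hP hP' using fun x : S => Algebra.IsIntegral.isIntegral (R := R) x
  let E' : Finset R := E ∪ F.biUnion fun x => (P x).coeffs
  let R₀ : Subalgebra ℤ R := Algebra.adjoin ℤ (E' : Set R)
  refine ⟨R₀, Algebra.adjoin R₀ (F : Set S), (Subalgebra.fg_iff_finiteType R₀).mp ⟨E', rfl⟩,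
    fun x hx => Algebra.subset_adjoin (Finset.mem_coe.mpr (Finset.mem_union_left _ hx)),
    Algebra.subset_adjoin, Module.Finite.iff_fg.mpr (fg_adjoin_of_finite F.finite_toSet fun x hx => ?_)⟩
  have hmem : P x ∈ Polynomial.lifts (algebraMap R₀ R) := by
    rw [Polynomial.lifts_iff_coeff_lifts]
    intro n
    by_cases hn : (P x).coeff n = 0
    · exact ⟨0, by simp [hn]⟩
    · exact ⟨⟨(P x).coeff n, Algebra.subset_adjoin (Finset.mem_coe.mpr (Finset.mem_union_right _
        (Finset.mem_biUnion.mpr ⟨x, hx, Polynomial.coeff_mem_coeffs hn⟩)))⟩, rfl⟩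
  rcases subsingleton_or_nontrivial R with hR | hR
  · have : Subsingleton S := Module.subsingleton R S
    exact ⟨1, Polynomial.monic_one, Subsingleton.elim _ _⟩
  obtain ⟨q, hq, -, hqm⟩ := Polynomial.lifts_and_degree_eq_and_monic hmem (hP x)
  refine ⟨q, hqm, ?_⟩
  rw [IsScalarTower.algebraMap_eq R₀ R S, ← Polynomial.eval₂_map, hq]
  exact hP' x

end Groth.Agent.S9163
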