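import Groth.Statements.S9164
import Mathlib

set_option autoImplicit false
universe u
open CAlg

namespace Groth.Agent.S9164

/-- A finitely generated module over a one dimensional Noetherian local domain has finite length iff
a nonzero element kills it. -/
theorem length_ne_top_iff_exists_smul (R Q : Type u) [CommRing R] [IsDomain R] [IsNoetherianRing R]
    (hdim : ringKrullDim R = 1) [AddCommGroup Q] [Module R Q] [Module.Finite R Q] :
    Module.length R Q ≠ ⊤ ↔ ∃ a : R, a ≠ 0 ∧ ∀ q : Q, a • q = 0 := by
  classical
  obtain ⟨g, v, hv⟩ := Module.Finite.exists_fin (R := R) (M := Q)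
  rw [Module.length_ne_top_iff, isFiniteLength_iff_isNoetherian_isArtinian]
  constructor
  · rintro ⟨-, hart⟩
    by_contra! hno
    let φ : R →ₗ[R] (Fin g → Q) := LinearMap.pi fun i => LinearMap.toSpanSingleton R Q (v i)
    have hinj : Function.Injective φ := by
      rw [injective_iff_map_eq_zero]
      intro a ha
      by_contra hne
      obtain ⟨q, hq⟩ := hno a hne
      apply hq
      have hle : Submodule.span R (Set.range v) ≤ LinearMap.ker (a • (LinearMap.id : Q →ₗ[R] Q)) := by
        rw [Submodule.span_le]
        rintro _ ⟨i, rfl⟩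
        simpa [φ] using congrFun ha i
      simpa using hle (hv ▸ (Submodule.mem_top : q ∈ ⊤))
    have hR : IsArtinian R R := isArtinian_of_injective φ hinj
    have : IsArtinianRing R := hR
    rw [ringKrullDim_eq_zero_of_isField (IsArtinianRing.isField_of_isDomain R)] at hdim
    exact zero_ne_one hdim
  · rintro ⟨a, ha, hkill⟩
    refine ⟨inferInstance, ?_⟩
    have hd : Ring.KrullDimLE 0 (R ⧸ Ideal.span ({a} : Set R)) := by
      rw [Ring.krullDimLE_iff]
      have h := ringKrullDim_quotient_succ_le_of_nonZeroDivisor (mem_nonZeroDivisors_of_ne_zero ha)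
      rw [hdim] at h
      revert h
      generalize ringKrullDim (R ⧸ Ideal.span ({a} : Set R)) = x
      induction x with
      | bot => simp
      | coe y =>
        induction y with
        | top =>
          intro h
          exact absurd (show (⊤ : ℕ∞) + 1 ≤ 1 by exact_mod_cast h) (by simp)
        | coe m =>
          norm_cast
          omega
    have : IsArtinianRing (R ⧸ Ideal.span ({a} : Set R)) :=
      isArtinianRing_iff_isNoetherianRing_krullDimLE_zero.2 ⟨inferInstance, hd⟩
    have : IsArtinian R (R ⧸ Ideal.span ({a} : Set R)) :=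
      isArtinian_of_surjective_algebraMap (S := R) (R := R ⧸ Ideal.span ({a} : Set R))
        (M := R ⧸ Ideal.span ({a} : Set R)) Ideal.Quotient.mk_surjective
    let ψ : (Fin g → R ⧸ Ideal.span ({a} : Set R)) →ₗ[R] Q :=
      ∑ i, (Submodule.liftQ (Ideal.span ({a} : Set R)) (LinearMap.toSpanSingleton R Q (v i))
        (by
          rw [Ideal.span, Submodule.span_le, Set.singleton_subset_iff]
          exact hkill (v i))).comp (LinearMap.proj i)
    refine isArtinian_of_surjective _ ψ ?_
    rw [← LinearMap.range_eq_top, eq_top_iff, ← hv, Submodule.span_le]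
    rintro _ ⟨i, rfl⟩
    refine ⟨Pi.single i (Submodule.Quotient.mk 1), ?_⟩
    simp [ψ, Pi.single_apply, apply_ite]
    exact (Submodule.liftQ_apply _ _ (1 : R)).trans (one_smul R (v i))

/-- Clearing denominators for elements of the `K`-span. -/
theorem exists_smul_mem {R K V : Type u} [CommRing R] [IsDomain R] [Field K] [Algebra R K]
    [IsFractionRing R K] [AddCommGroup V] [Module K V] [Module R V] [IsScalarTower R K V]
    (M : Submodule R V) (hM : Submodule.span K (M : Set V) = ⊤) (x : V) :
    ∃ a : R, a ≠ 0 ∧ a • x ∈ M := by
  have hx : x ∈ Submodule.span K (M : Set V) := hM ▸ Submodule.mem_top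
  induction hx using Submodule.span_induction with
  | mem y hy => exact ⟨1, one_ne_zero, by rw [one_smul]; exact hy⟩
  | zero => exact ⟨1, one_ne_zero, by simp⟩
  | add y z _ _ hy hz =>
    obtain ⟨a, ha, hay⟩ := hy
    obtain ⟨b, hb, hbz⟩ := hz
    refine ⟨a * b, mul_ne_zero ha hb, ?_⟩
    rw [smul_add]
    refine M.add_mem ?_ ?_
    · rw [mul_comm, mul_smul]; exact M.smul_mem _ hay
    · rw [mul_smul]; exact M.smul_mem _ hbz
  | smul c y _ hy =>
    obtain ⟨a, ha, hay⟩ := hy
    obtain ⟨⟨r, s⟩, hrs⟩ := IsLocalization.surj (nonZeroDivisors R) c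
    refine ⟨(s : R) * a, mul_ne_zero (nonZeroDivisors.ne_zero s.2) ha, ?_⟩
    have : ((s : R) * a) • c • y = r • a • y := by
      simp only [← algebraMap_smul K (_ : R) (_ : V), smul_smul, map_mul]
      rw [← hrs]
      ring_nf
    rw [this]
    exact M.smul_mem _ hay

theorem exists_common_smul_mem {R K V : Type u} [CommRing R] [IsDomain R] [Field K] [Algebra R K]
    [IsFractionRing R K] [AddCommGroup V] [Module K V] [Module R V] [IsScalarTower R K V]
    (M : Submodule R V) (hM : Submodule.span K (M : Set V) = ⊤) {N : Submodule R V} (hN : N.FG) :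
    ∃ a : R, a ≠ 0 ∧ ∀ x ∈ N, a • x ∈ M := by
  classical
  obtain ⟨S, rfl⟩ := hN
  choose a ha hax using exists_smul_mem M hM
  refine ⟨∏ x ∈ S, a x, Finset.prod_ne_zero_iff.2 fun x _ => ha x, fun x hx => ?_⟩
  have : Submodule.span R (S : Set V) ≤ M.comap ((∏ x ∈ S, a x) • LinearMap.id) := by
    rw [Submodule.span_le]
    intro y hy
    rw [SetLike.mem_coe, Submodule.mem_comap, LinearMap.smul_apply, LinearMap.id_apply,
      ← Finset.prod_erase_mul S a hy, mul_smul]
    exact M.smul_mem _ (hax y)
  simpa using this hx

/-- Let R be a one-dimensional Noetherian local domain with fraction field K and V a finite-dimensional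
K-vector space; a lattice is a finitely generated R-submodule of V spanning V over K. (1) For a
lattice M and an R-submodule M' ⊇ M: M' is a lattice iff M'/M has finite length over R iff M' is
finitely generated. (2) For a lattice M and M' ⊆ M: M' is a lattice iff M/M' has finite length. (3)
The intersection of two lattices is a lattice. (The published statement also asserts that the sum M
+ M' of two lattices is a lattice and two identities between lengths of quotients of nested
lattices; this row states (1), (2) and the intersection half of (3).) -/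
theorem result (R K V : Type u) [CommRing R] [IsDomain R]
    [IsNoetherianRing R] [IsLocalRing R] (hdim : ringKrullDim R = 1) [Field K] [Algebra R K]
    [IsFractionRing R K] [AddCommGroup V] [Module K V] [Module R V] [IsScalarTower R K V]
    [FiniteDimensional K V] (M : Submodule R V) [Submodule.IsLattice K M] :
    (∀ M' : Submodule R V, M ≤ M' →
        (Submodule.IsLattice K M' ↔ Module.length R (M' ⧸ Submodule.comap M'.subtype M) ≠ ⊤) ∧
          (Submodule.IsLattice K M' ↔ M'.FG)) ∧
      (∀ M' : Submodule R V, M' ≤ M →
        (Submodule.IsLattice K M' ↔ Module.length R (M ⧸ Submodule.comap M.subtype M') ≠ ⊤)) ∧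
      ∀ M' : Submodule R V, Submodule.IsLattice K M' → Submodule.IsLattice K (M ⊓ M') := by
  classical
  have hMfg : M.FG := Submodule.IsLattice.fg (A := K)
  have hMspan : Submodule.span K (M : Set V) = ⊤ := Submodule.IsLattice.span_eq_top
  refine ⟨fun M' hle => ?_, fun M' hle => ?_, fun M' hM' => ?_⟩
  · have hspan : Submodule.span K (M' : Set V) = ⊤ :=
      eq_top_iff.2 (hMspan ▸ Submodule.span_mono hle)
    have hiff : Submodule.IsLattice K M' ↔ M'.FG :=
      ⟨fun h => h.fg, fun h => ⟨h, hspan⟩⟩
    refine ⟨?_, hiff⟩
    rw [hiff]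
    constructor
    · intro hfg
      have : Module.Finite R M' := Module.Finite.iff_fg.2 hfg
      rw [length_ne_top_iff_exists_smul R _ hdim]
      obtain ⟨a, ha, h⟩ := exists_common_smul_mem M hMspan hfg
      refine ⟨a, ha, fun q => ?_⟩
      induction q using Submodule.Quotient.induction_on with
      | H q =>
        rw [← Submodule.Quotient.mk_smul, Submodule.Quotient.mk_eq_zero]
        exact h q q.2
    · intro hlen
      have hN := (isFiniteLength_iff_isNoetherian_isArtinian.1 (Module.length_ne_top_iff.1 hlen)).1
      have : Module.Finite R M := Module.Finite.iff_fg.2 hMfg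
      have : Module.Finite R ↥(Submodule.comap M'.subtype M) :=
        Module.Finite.equiv (Submodule.comapSubtypeEquivOfLe hle).symm
      exact Module.Finite.iff_fg.1 (Module.Finite.of_submodule_quotient (Submodule.comap M'.subtype M))
  · have hfg : M'.FG := by
      have : IsNoetherian R M := isNoetherian_of_fg_of_noetherian M hMfg
      exact isNoetherian_submodule.1 this M' hle
    have : Module.Finite R M := Module.Finite.iff_fg.2 hMfg
    rw [length_ne_top_iff_exists_smul R _ hdim]
    constructor
    · intro h
      obtain ⟨a, ha, h'⟩ := exists_common_smul_mem M' h.span_eq_top hMfg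
      refine ⟨a, ha, fun q => ?_⟩
      induction q using Submodule.Quotient.induction_on with
      | H q =>
        rw [← Submodule.Quotient.mk_smul, Submodule.Quotient.mk_eq_zero]
        exact h' q q.2
    · rintro ⟨a, ha, h⟩
      refine ⟨hfg, ?_⟩
      rw [eq_top_iff, ← hMspan, Submodule.span_le]
      intro x hx
      have h' := h (Submodule.Quotient.mk ⟨x, hx⟩)
      rw [← Submodule.Quotient.mk_smul, Submodule.Quotient.mk_eq_zero] at h'
      have hax : a • x ∈ Submodule.span K (M' : Set V) := Submodule.subset_span h'
      rw [← algebraMap_smul K a x] at hax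
      exact (Submodule.smul_mem_iff _ ((map_ne_zero_iff _ (IsFractionRing.injective R K)).2 ha)).1 hax
  · refine ⟨?_, ?_⟩
    · have : IsNoetherian R M := isNoetherian_of_fg_of_noetherian M hMfg
      exact isNoetherian_submodule.1 this _ inf_le_left
    · rw [eq_top_iff, ← hMspan, Submodule.span_le]
      intro x hx
      obtain ⟨a, ha, hax⟩ := exists_smul_mem M' hM'.span_eq_top x
      have hmem : a • x ∈ Submodule.span K ((M ⊓ M' : Submodule R V) : Set V) :=
        Submodule.subset_span ⟨M.smul_mem a hx, hax⟩
      rw [← algebraMap_smul K a x] at hmem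
      exact (Submodule.smul_mem_iff _ ((map_ne_zero_iff _ (IsFractionRing.injective R K)).2 ha)).1 hmem

end Groth.Agent.S9164
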