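import Groth.Statements.S9165
import Groth.Agent.RelDim.PiDecomp

set_option autoImplicit false
set_option linter.style.haveILetI false
universe u
open CAlg

namespace Groth.Agent.S9165

/-- A flat, finitely presented ring map R → S whose fibre rings κ(p) ⊗ S are Cohen–Macaulay decomposes S
as a finite product of R-algebras S_d (d = 0, …, N), each again flat, finitely presented with
Cohen–Macaulay fibres, and with every irreducible component of every fibre of S_d of dimension d. -/
theorem result (R S : Type u) [CommRing R]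
    [CommRing S] [Algebra R S] [Module.Flat R S] [Algebra.FinitePresentation R S]
    (hCM : ∀ p : PrimeSpectrum R, LocCoh.IsCohenMacaulayRing (p.asIdeal.Fiber S)) :
    ∃ (N : ℕ) (T : Fin (N + 1) → Type u) (_ : ∀ d, CommRing (T d)) (_ : ∀ d, Algebra R (T d)),
      Nonempty (S ≃ₐ[R] ((d : Fin (N + 1)) → T d)) ∧
        ∀ d : Fin (N + 1), Module.Flat R (T d) ∧ Algebra.FinitePresentation R (T d) ∧
          (∀ p : PrimeSpectrum R, LocCoh.IsCohenMacaulayRing (p.asIdeal.Fiber (T d))) ∧
          ∀ (p : PrimeSpectrum R), ∀ P ∈ minimalPrimes (p.asIdeal.Fiber (T d)),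
            ringKrullDim (p.asIdeal.Fiber (T d) ⧸ P) = ((d : ℕ) : WithBot ℕ∞) := by
  obtain ⟨N, e, he, h⟩ := RelDim.exists_decomposition (R := R) (S := S)
    (fun q => RelDim.isCMPoint_of_fibres hCM q)
  refine ⟨N, fun d => S ⧸ Ideal.span {1 - e d}, fun d => inferInstance, fun d => inferInstance,
    ⟨AlgEquiv.ofBijective (AlgHom.pi fun d => Ideal.Quotient.mkₐ R (Ideal.span {1 - e d}))
      he.bijective_pi⟩, fun d => ?_⟩
  obtain ⟨hloc, hpts⟩ := h d
  haveI := hloc
  haveI : Module.Flat S (S ⧸ Ideal.span {1 - e d}) :=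
    IsLocalization.flat _ (Submonoid.powers (e d))
  haveI : Algebra.FinitePresentation S (S ⧸ Ideal.span {1 - e d}) :=
    IsLocalization.Away.finitePresentation (e d)
  haveI : Algebra.FinitePresentation R (S ⧸ Ideal.span {1 - e d}) :=
    Algebra.FinitePresentation.trans R S _
  refine ⟨Module.Flat.trans R S _, inferInstance,
    fun p => RelDim.isCohenMacaulayRing_fibre (fun q => (hpts q).1) p.asIdeal, fun p P hP => ?_⟩
  haveI := hP.1.1
  let T := S ⧸ Ideal.span {1 - e d}
  let q : PrimeSpectrum T :=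
    PrimeSpectrum.comap Algebra.TensorProduct.includeRight.toRingHom ⟨P, hP.1.1⟩
  haveI : q.asIdeal.LiesOver p.asIdeal := ⟨(congrArg PrimeSpectrum.asIdeal
    ((PrimeSpectrum.preimageEquivFiber R T p).symm ⟨P, hP.1.1⟩).2).symm⟩
  have hd := (hpts q).2.localDim_eq p.asIdeal ⟨P, hP.1.1⟩ rfl
  rw [CAlgLib.LocalDimSpec.localDim_eq p.asIdeal.ResidueField P] at hd
  rw [← hd]
  refine le_antisymm (le_iSup_of_le (⟨P, hP, le_rfl⟩ : CAlgLib.LocalDimSpec.Mins P) le_rfl)
    (iSup_le fun P' => ?_)
  have : P'.1 = P := le_antisymm P'.2.2 (hP.2 P'.2.1.1 P'.2.2)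
  rw [this]

end Groth.Agent.S9165
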