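import Groth.Statements.S9166
import Mathlib

set_option autoImplicit false
universe u
open CAlg

namespace Groth.Agent.S9166

theorem mem_top_smul {R : Type*} [CommRing R] {A : Type*} [CommRing A] [Algebra R A] {J : Ideal R} {x : A}
    (hx : x ∈ J.map (algebraMap R A)) : ∃ (s : Finset A) (a : A → R), (∀ i, a i ∈ J) ∧ ∑ i ∈ s, a i • i = x := by
  have h1 : x ∈ J • Submodule.span R (Set.range (id : A → A)) := by
    rw [Set.range_id, Submodule.span_univ, Ideal.smul_top_eq_map]; exact hx
  obtain ⟨a, ha, rfl⟩ := (Submodule.mem_ideal_smul_span_iff_exists_sum _ _ _).1 h1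
  exact ⟨a.support, a, ha, rfl⟩

/-- a submodule inside `I L` with flat quotient is inside `I` times itself -/
theorem ker_le_smul {R L M : Type*} [CommRing R] [CommRing L] [Algebra R L] [AddCommGroup M] [Module R M]
    [Module L M] [IsScalarTower R L M] [Module.Flat R M] (I : Ideal R) (Φ : L →ₗ[L] M)
    (hΦ : Function.Surjective Φ) (h : LinearMap.ker Φ ≤ I.map (algebraMap R L)) :
    LinearMap.ker Φ ≤ I.map (algebraMap R L) * LinearMap.ker Φ := by
  intro s hs
  obtain ⟨t, a, ha, hsum⟩ := mem_top_smul (h hs)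
  have hrel : ∑ i : t, a i • Φ i = 0 := by
    rw [t.sum_coe_sort (fun i => a i • Φ i), ← LinearMap.mem_ker.1 hs, ← hsum, map_sum]
    exact Finset.sum_congr rfl fun i _ => (LinearMap.map_smul_of_tower Φ _ _).symm
  obtain ⟨k, b, y, hy, hb⟩ := Module.Flat.isTrivialRelation_of_sum_smul_eq_zero hrel
  choose u hu using fun j => hΦ (y j)
  have heq : s = ∑ i : t, a i • ((i : L) - ∑ j, b i j • u j) := by
    simp only [smul_sub, Finset.smul_sum, smul_smul, Finset.sum_sub_distrib]
    rw [Finset.sum_comm, t.sum_coe_sort (fun i => a i • i), hsum]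
    simp_rw [← Finset.sum_smul, show ∀ j, ∑ i : t, a i * b i j = 0 from hb, zero_smul, Finset.sum_const_zero, sub_zero]
  rw [heq]
  refine sum_mem fun i _ => ?_
  rw [Algebra.smul_def]
  refine Ideal.mul_mem_mul (Ideal.mem_map_of_mem _ (ha i)) ?_
  rw [LinearMap.mem_ker, map_sub, map_sum, show Φ (i : L) = ∑ j, b i j • y j from hy i, sub_eq_zero]
  exact Finset.sum_congr rfl fun j _ => by rw [LinearMap.map_smul_of_tower, hu]

theorem awayMap_bijective {S S' : Type*} [CommRing S] [CommRing S'] (φ : S →+* S')
    (hf : Function.Surjective φ) (g : S) (hg : ∀ j ∈ RingHom.ker φ, g * j = 0) :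
    Function.Bijective (Localization.awayMap φ g) := by
  refine ⟨(injective_iff_map_eq_zero _).2 fun x hx => ?_, fun y => ?_⟩
  · obtain ⟨a, s, rfl⟩ := IsLocalization.exists_mk'_eq (Submonoid.powers g) x
    rw [Localization.awayMap, IsLocalization.Away.map, IsLocalization.map_mk', IsLocalization.mk'_eq_zero_iff] at hx
    obtain ⟨⟨_, m, rfl⟩, hm⟩ := hx
    rw [IsLocalization.mk'_eq_zero_iff]
    refine ⟨⟨g ^ (m + 1), m + 1, rfl⟩, ?_⟩
    change g ^ (m + 1) * a = 0
    rw [pow_succ', mul_assoc]
    refine hg _ ?_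
    rw [RingHom.mem_ker, map_mul, map_pow]
    exact hm
  · obtain ⟨a, s, rfl⟩ := IsLocalization.exists_mk'_eq (Submonoid.powers (φ g)) y
    obtain ⟨_, m, rfl⟩ := s
    obtain ⟨a, rfl⟩ := hf a
    refine ⟨IsLocalization.mk' _ a (⟨g ^ m, m, rfl⟩ : Submonoid.powers g), ?_⟩
    rw [Localization.awayMap, IsLocalization.Away.map, IsLocalization.map_mk']
    congr 1
    exact Subtype.ext (map_pow φ g m)


/-- Let I be an ideal of a ring R, S → S' a surjective homomorphism of R-algebras with S of finite type
and S' of finite presentation over R, and q a prime of S containing IS. Assume S'_q is flat over R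
and that S_q/IS_q → S'_q/IS'_q is an isomorphism, which for a surjection says: every element of the
kernel of S → S' maps into I·S_q. Then for some g ∉ q the localized map S_g → S'_g is bijective. -/
theorem result (R S S' : Type u) [CommRing R] [CommRing S]
    [CommRing S'] [Algebra R S] [Algebra R S'] [Algebra.FiniteType R S] [Algebra.FinitePresentation R S']
    (I : Ideal R) (f : S →ₐ[R] S') (hf : Function.Surjective f) (q : Ideal S) [q.IsPrime]
    (hq : I.map (algebraMap R S) ≤ q)
    (hker : ∀ j : S, f j = 0 →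
      algebraMap S (Localization.AtPrime q) j ∈ I.map (algebraMap R (Localization.AtPrime q)))
    (hflat : letI : Module S S' := f.toRingHom.toModule
      Module.Flat R (LocalizedModule q.primeCompl S')) :
    ∃ g : S, g ∉ q ∧ Function.Bijective (Localization.awayMap f.toRingHom g) := by
  classical
  let : Algebra S S' := f.toRingHom.toAlgebra
  have htow : IsScalarTower R S S' := IsScalarTower.of_algebraMap_eq fun r => (f.commutes r).symm
  let L := Localization.AtPrime q
  let M := LocalizedModule q.primeCompl S'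
  have hflat' : Module.Flat R M := hflat
  have : IsScalarTower R L M := ⟨fun r x m => by
    rw [← algebraMap_smul S r x, ← algebraMap_smul S r (x • m), smul_assoc]⟩
  let Φ : L →ₗ[L] M := LinearMap.toSpanSingleton L M (LocalizedModule.mk (1 : S') 1)
  have hΦmk : ∀ (s : S) (t : q.primeCompl),
      Φ (IsLocalization.mk' L s t) = LocalizedModule.mk (f s) t := fun s t => by
    rw [LinearMap.toSpanSingleton_apply, ← Localization.mk_eq_mk', LocalizedModule.mk_smul_mk, mul_one,
      Algebra.smul_def, mul_one]
    rfl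
  have hΦ : Function.Surjective Φ := fun y => by
    induction y using LocalizedModule.induction_on with
    | _ m t =>
      obtain ⟨s, rfl⟩ := hf m
      exact ⟨_, hΦmk s t⟩
  have hJ : LinearMap.ker Φ = (RingHom.ker f.toRingHom).map (algebraMap S L) := by
    refine le_antisymm (fun x hx => ?_) ?_
    · obtain ⟨s, t, rfl⟩ := IsLocalization.exists_mk'_eq q.primeCompl x
      rw [LinearMap.mem_ker, hΦmk, ← LocalizedModule.zero_mk t, LocalizedModule.mk_eq] at hx
      obtain ⟨u, hu⟩ := hx
      refine (IsLocalization.mk'_mem_map_algebraMap_iff q.primeCompl _ _ _ _).2 ⟨u * t, (u * t).2, ?_⟩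
      simp only [smul_zero, Submonoid.smul_def, Algebra.smul_def, ← mul_assoc, ← map_mul] at hu
      change f _ = 0
      rw [map_mul, map_mul]
      simpa [RingHom.algebraMap_toAlgebra] using hu
    · rw [Ideal.map_le_iff_le_comap]
      intro j hj
      rw [Ideal.mem_comap, LinearMap.mem_ker, ← IsLocalization.mk'_one (M := q.primeCompl) (S := L) j, hΦmk,
        show f j = 0 from hj]
      exact LocalizedModule.zero_mk _
  have hle : LinearMap.ker Φ ≤ I.map (algebraMap R L) := by
    rw [hJ, Ideal.map_le_iff_le_comap]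
    exact fun j hj => hker j hj
  have hfgJ : (RingHom.ker f.toRingHom).FG := by
    obtain ⟨n, π, hπ⟩ := Algebra.FiniteType.iff_quotient_mvPolynomial''.1 (inferInstance : Algebra.FiniteType R S)
    convert (Algebra.FinitePresentation.ker_fg_of_mvPolynomial (f.comp π) (hf.comp hπ)).map π.toRingHom using 1
    simp_rw [RingHom.ker_eq_comap_bot, AlgHom.toRingHom_eq_coe, AlgHom.comp_toRingHom]
    rw [← Ideal.comap_comap, Ideal.map_comap_of_surjective (π : MvPolynomial (Fin n) R →+* S) hπ]
  have hIq : I.map (algebraMap R L) ≤ (⊥ : Ideal L).jacobson := by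
    rw [IsLocalRing.jacobson_eq_maximalIdeal ⊥ bot_ne_top, IsScalarTower.algebraMap_eq R S L, ← Ideal.map_map,
      ← Localization.AtPrime.map_eq_maximalIdeal]
    exact Ideal.map_mono hq
  have hbot : (RingHom.ker f.toRingHom).map (algebraMap S L) = ⊥ :=
    Submodule.eq_bot_of_le_smul_of_le_jacobson_bot (I.map (algebraMap R L)) _ (hfgJ.map _)
      (hJ ▸ ker_le_smul I Φ hΦ hle) hIq
  obtain ⟨G, hG⟩ := hfgJ
  have hc : ∀ j ∈ G, ∃ c : q.primeCompl, (c : S) * j = 0 := fun j hj =>
    (IsLocalization.map_eq_zero_iff q.primeCompl L j).1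
      (hbot.le (Ideal.mem_map_of_mem _ (hG.le (Ideal.subset_span hj))))
  choose! c hc using hc
  refine ⟨((∏ j ∈ G, c j : q.primeCompl) : S), (∏ j ∈ G, c j).2, awayMap_bijective _ hf _ fun j hj => ?_⟩
  rw [← hG] at hj
  refine Submodule.span_induction (fun x hx => ?_) (mul_zero _) (fun x y _ _ hx hy => by rw [mul_add, hx, hy, add_zero])
    (fun a x _ hx => by rw [smul_eq_mul, mul_left_comm, hx, mul_zero]) hj
  obtain ⟨d, hd⟩ := Finset.dvd_prod_of_mem c hx
  rw [hd, Submonoid.coe_mul, mul_right_comm, hc x hx, zero_mul]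

end Groth.Agent.S9166
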