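import Groth.Statements.S9167
import Groth.Agent.S9157
import Mathlib.Algebra.Module.FinitePresentation


set_option autoImplicit false
universe u
open CAlg

namespace Groth.Agent.S9167

/-- With R' = S⁻¹(R/I), every finitely presented R'-module is of the form S⁻¹(M/IM) for some finitely
presented R-module M. -/
theorem result (R : Type u) [CommRing R] (I : Ideal R)
    (S : Submonoid R) (M' : Type u) [AddCommGroup M']
    [Module (Localization (S.map (Ideal.Quotient.mk I))) M']
    [Module.FinitePresentation (Localization (S.map (Ideal.Quotient.mk I))) M'] :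
    ∃ (M : Type u) (_ : AddCommGroup M) (_ : Module R M), Module.FinitePresentation R M ∧
      Nonempty (LocalizedModule (S.map (Ideal.Quotient.mk I)) (M ⧸ (I • ⊤ : Submodule R M))
        ≃ₗ[Localization (S.map (Ideal.Quotient.mk I))] M') := by
  classical
  let T := R ⧸ I
  let S' := S.map (Ideal.Quotient.mk I)
  letI : Module T M' := Module.compHom M' (algebraMap T (Localization S'))
  have : IsScalarTower T (Localization S') M' := IsScalarTower.of_algebraMap_smul fun _ _ => rfl
  have hloc : IsLocalizedModule S' (LinearMap.id : M' →ₗ[T] M') :=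
    { map_units := fun s => by
        rw [Module.End.isUnit_iff]
        refine ⟨fun a b hab => ?_, fun b => ⟨Localization.mk 1 s • b, ?_⟩⟩
        · have hab' : algebraMap T (Localization S') (s : T) • a = algebraMap T (Localization S') (s : T) • b := hab
          exact ((IsLocalization.map_units (Localization S') s).smul_left_cancel).mp hab'
        · change algebraMap T (Localization S') (s : T) • Localization.mk 1 s • b = b
          rw [smul_smul, ← Localization.mk_one_eq_algebraMap, Localization.mk_mul, mul_one, one_mul,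
            Localization.mk_self, one_smul]
      surj := fun y => ⟨(y, 1), by simp⟩
      exists_of_eq := fun h => ⟨1, by simpa using h⟩ }
  let eL : LocalizedModule S' M' ≃ₗ[Localization S'] M' :=
    (IsLocalizedModule.iso S' (LinearMap.id : M' →ₗ[T] M')).extendScalarsOfIsLocalization S' (Localization S')
  have : Module.FinitePresentation (Localization S') (LocalizedModule S' M') :=
    Module.FinitePresentation.of_equiv eL.symm
  obtain ⟨N, _, _, φ, hN, hφ⟩ := S9157.result T S' M'
  obtain ⟨n, K, eK, hKfg⟩ := Module.FinitePresentation.exists_fin T N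
  obtain ⟨m, g, hg⟩ := Submodule.fg_iff_exists_fin_generating_family.mp hKfg
  let μ : (Fin n → R) →ₗ[R] (Fin n → T) := LinearMap.pi fun i => (Algebra.linearMap R T).comp (LinearMap.proj i)
  have hμ : Function.Surjective μ := fun y => by
    choose x hx using fun i => Ideal.Quotient.mk_surjective (I := I) (y i)
    exact ⟨x, funext hx⟩
  choose g' hg' using fun i => hμ (g i)
  let K' := Submodule.span R (Set.range g')
  let M := (Fin n → R) ⧸ K'
  have : Module.FinitePresentation R M := Module.finitePresentation_of_surjective K'.mkQ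
    (Submodule.mkQ_surjective _) (by rw [Submodule.ker_mkQ]; exact Submodule.fg_span (Set.finite_range g'))
  let f₀ : (Fin n → R) →ₗ[R] ((Fin n → T) ⧸ K) := (K.mkQ.restrictScalars R).comp μ
  let f₁ : M →ₗ[R] ((Fin n → T) ⧸ K) := K'.liftQ f₀ (Submodule.span_le.mpr (by
    rintro _ ⟨i, rfl⟩
    refine (Submodule.Quotient.mk_eq_zero K).mpr ?_
    rw [hg', ← hg]
    exact Submodule.subset_span ⟨i, rfl⟩))
  have hle : (I • ⊤ : Submodule R M) ≤ LinearMap.ker f₁ := Submodule.smul_le.mpr fun a ha x _ => by
    rw [LinearMap.mem_ker, map_smul, ← IsScalarTower.algebraMap_smul T a, Ideal.Quotient.algebraMap_eq,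
      Ideal.Quotient.eq_zero_iff_mem.mpr ha, zero_smul]
  let f₂ : (M ⧸ (I • ⊤ : Submodule R M)) →ₗ[R] ((Fin n → T) ⧸ K) := Submodule.liftQ _ f₁ hle
  have hf₂ : Function.Bijective f₂ := by
    refine ⟨(injective_iff_map_eq_zero _).mpr fun z hz => ?_, fun z => ?_⟩
    · obtain ⟨z, rfl⟩ := Submodule.Quotient.mk_surjective _ z
      obtain ⟨x, rfl⟩ := Submodule.Quotient.mk_surjective _ z
      have hzK : μ x ∈ K := (Submodule.Quotient.mk_eq_zero K).mp hz
      rw [← hg, Submodule.mem_span_range_iff_exists_fun] at hzK
      obtain ⟨c, hc⟩ := hzK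
      choose c' hc' using fun i => Ideal.Quotient.mk_surjective (I := I) (c i)
      refine (Submodule.Quotient.mk_eq_zero _).mpr ?_
      have hx : ∀ i, (x - ∑ j, c' j • g' j) i ∈ I := fun i => by
        rw [← Ideal.Quotient.eq_zero_iff_mem]
        have : μ (x - ∑ j, c' j • g' j) = 0 := by
          rw [map_sub, map_sum, sub_eq_zero, ← hc]
          exact Finset.sum_congr rfl fun j _ => by
            rw [map_smul, hg', ← IsScalarTower.algebraMap_smul T (c' j), Ideal.Quotient.algebraMap_eq, hc']
        exact congrFun this i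
      have hxe : (Submodule.Quotient.mk x : M) = ∑ i, (x - ∑ j, c' j • g' j) i •
          (Submodule.Quotient.mk (Pi.single i 1) : M) := by
        rw [← Submodule.mkQ_apply]
        simp only [← Submodule.mkQ_apply, ← map_smul, ← map_sum]
        refine (Submodule.Quotient.eq K').mpr ?_
        rw [← pi_eq_sum_univ' (x - ∑ j, c' j • g' j), sub_sub_cancel]
        exact Submodule.sum_mem _ fun j _ => K'.smul_mem _ (Submodule.subset_span ⟨j, rfl⟩)
      rw [hxe]
      exact Submodule.sum_mem _ fun i _ => Submodule.smul_mem_smul (hx i) trivial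
    · obtain ⟨z, rfl⟩ := Submodule.Quotient.mk_surjective K z
      obtain ⟨x, rfl⟩ := hμ z
      exact ⟨Submodule.Quotient.mk (Submodule.Quotient.mk x), rfl⟩
  let e₂ : (M ⧸ (I • ⊤ : Submodule R M)) ≃ₗ[T] N :=
    (LinearEquiv.ofBijective f₂ hf₂).extendScalarsOfSurjective Ideal.Quotient.mk_surjective ≪≫ₗ eK.symm
  exact ⟨M, inferInstance, inferInstance, inferInstance, ⟨IsLocalizedModule.mapEquiv S'
    (LocalizedModule.mkLinearMap S' _) (LocalizedModule.mkLinearMap S' _) (Localization S') e₂ ≪≫ₗ
    LinearEquiv.ofBijective (LocalizedModule.map S' φ) hφ ≪≫ₗ eL⟩⟩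

end Groth.Agent.S9167
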