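import Groth.Statements.S9168
import Mathlib.RingTheory.EssentialFiniteness
import Mathlib.RingTheory.Localization.AtPrime.Basic


set_option autoImplicit false
universe u
open CAlg

namespace Groth.Agent.S9168

/-- A local subring, essentially of finite type over the image of a ring, containing given elements. -/
theorem exists_local_subring {A S : Type*} [CommRing A] [CommRing S] [IsLocalRing S] (φ : A →+* S)
    (F : Finset S) :
    ∃ S₀ : Subring S, (F : Set S) ⊆ S₀ ∧ ∃ (_ : IsLocalRing S₀), IsLocalHom S₀.subtype ∧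
      ∃ h : ∀ a, φ a ∈ S₀, (φ.codRestrict S₀ h).EssFiniteType := by
  classical
  letI := φ.toAlgebra
  let T : Subalgebra A S := Algebra.adjoin A (F : Set S)
  have : Algebra.FiniteType A T := (Subalgebra.fg_iff_finiteType T).mp ⟨F, rfl⟩
  let P : Ideal T := (IsLocalRing.maximalIdeal S).comap T.val.toRingHom
  let L := Localization.AtPrime P
  have hP : ∀ y : P.primeCompl, IsUnit (T.val (y : T)) := fun y => not_not.mp fun hn => y.2 hn
  let ψ : L →ₐ[A] S := IsLocalization.liftAlgHom (M := P.primeCompl) (f := T.val) hP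
  have hψ : ∀ t : T, ψ (algebraMap T L t) = (t : S) := fun t => by
    rw [IsLocalization.liftAlgHom_apply, IsLocalization.lift_eq]; rfl
  have : Algebra.EssFiniteType T L := Algebra.EssFiniteType.of_isLocalization L P.primeCompl
  have hA : Algebra.EssFiniteType A L := Algebra.EssFiniteType.comp A T L
  let S₀ : Subalgebra A S := ψ.range
  have hrange : Function.Surjective ψ.rangeRestrict := ψ.rangeRestrict_surjective
  have hloc : IsLocalRing S₀ :=
    IsLocalRing.of_surjective' ψ.rangeRestrict.toRingHom hrange
  refine ⟨S₀.toSubring, fun x hx => ⟨algebraMap T L ⟨x, Algebra.subset_adjoin hx⟩, hψ _⟩,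
    hloc, ⟨fun x hx => ?_⟩, fun a => S₀.algebraMap_mem a, ?_⟩
  · obtain ⟨z, hz⟩ := hrange x
    obtain ⟨⟨t, d⟩, rfl⟩ := IsLocalization.mk'_surjective P.primeCompl z
    have hval : (x : S) * (d : T) = ((t : T) : S) := by
      have := congrArg ψ (IsLocalization.mk'_spec L t d)
      rw [map_mul, hψ, hψ] at this
      rw [← hz]
      exact this
    have ht : t ∈ P.primeCompl := by
      intro htP
      have hu : IsUnit ((t : T) : S) := hval ▸ (hx : IsUnit (x : S)).mul (hP d)
      exact htP hu
    rw [← hz]
    exact (IsLocalization.map_units L ⟨t, ht⟩ |> fun h => isUnit_of_mul_isUnit_left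
      ((IsLocalization.mk'_spec L t d).symm ▸ h)).map ψ.rangeRestrict
  · have h1 : Algebra.EssFiniteType A S₀ := Algebra.EssFiniteType.of_surjective ψ.rangeRestrict hrange
    refine RingHom.essFiniteType_algebraMap.mpr h1 |> fun h2 => ?_
    exact h2

/-- For a local homomorphism of local rings R → S and finite subsets E ⊆ R, F ⊆ S there are local
subrings R₀ ⊆ R and S₀ ⊆ S containing E and F, with R → S mapping R₀ into S₀, such that the
inclusions and the induced map R₀ → S₀ are local homomorphisms, R₀ is essentially of finite type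
over ℤ and S₀ is essentially of finite type over R₀. (So R → S is the directed colimit of such R₀ →
S₀.) -/
theorem result (R S : Type u) [CommRing R] [CommRing S] [IsLocalRing R]
    [IsLocalRing S] [Algebra R S] [IsLocalHom (algebraMap R S)] (E : Finset R) (F : Finset S) :
    ∃ (R₀ : Subring R) (S₀ : Subring S) (h : ∀ x ∈ R₀, algebraMap R S x ∈ S₀),
      (E : Set R) ⊆ R₀ ∧ (F : Set S) ⊆ S₀ ∧ ∃ (_ : IsLocalRing R₀) (_ : IsLocalRing S₀),
        IsLocalHom R₀.subtype ∧ IsLocalHom S₀.subtype ∧
          IsLocalHom ((algebraMap R S).restrict R₀ S₀ h) ∧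
          (algebraMap ℤ R₀).EssFiniteType ∧ ((algebraMap R S).restrict R₀ S₀ h).EssFiniteType := by
  classical
  obtain ⟨R₀, hE, hl, hh, hfin⟩ := exists_local_subring (φ := Int.castRingHom R) E
  obtain ⟨S₀, hF, hl', hh', hfin'⟩ := exists_local_subring (φ := (algebraMap R S).comp R₀.subtype) F
  have h : ∀ x ∈ R₀, algebraMap R S x ∈ S₀ := fun x hx => hfin'.choose ⟨x, hx⟩
  refine ⟨R₀, S₀, h, hE, hF, hl, hl', hh, hh', ⟨fun x hx => ?_⟩, ?_, hfin'.choose_spec⟩
  · have hu : IsUnit (algebraMap R S (x : R)) := hx.map S₀.subtype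
    exact isUnit_of_map_unit R₀.subtype x (isUnit_of_map_unit (algebraMap R S) _ hu)
  · have := hfin.choose_spec
    convert this using 1
    exact RingHom.ext_int _ _

end Groth.Agent.S9168
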