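import Groth.Statements.S9171
import Groth.Agent.S9144
import Groth.Agent.S9143

set_option autoImplicit false
universe u
open Synt

namespace Groth.Agent.S9171

/-- Let S = k[x_1, …, x_n]/I over a field k, q a prime of S, q' the corresponding prime of the
polynomial ring and c the integer with c + ht(q) = ht(q'). Equivalent: (1) S_g is a global complete
intersection over k for some g ∉ q; (2) the extension of I to the local ring k[x]_{q'} is generated
by c elements; (5) that extension is generated by a regular sequence. Stated as (1) ↔ (2) and (1) ↔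
(5). -/
theorem result (k : Type u) [Field k] (n : ℕ)
    (I : Ideal (MvPolynomial (Fin n) k)) (q : Ideal (MvPolynomial (Fin n) k ⧸ I)) [q.IsPrime] (c : ℕ)
    (hc : (c : ℕ∞) + q.height = (q.comap (Ideal.Quotient.mk I)).height) :
    ((∃ g : MvPolynomial (Fin n) k ⧸ I, g ∉ q ∧ Synt.IsGlobalCI k (Localization.Away g)) ↔
        ∃ s : Finset (Localization.AtPrime (q.comap (Ideal.Quotient.mk I))), s.card = c ∧
          Ideal.span (s : Set _) =
            I.map (algebraMap _ (Localization.AtPrime (q.comap (Ideal.Quotient.mk I))))) ∧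
      ((∃ g : MvPolynomial (Fin n) k ⧸ I, g ∉ q ∧ Synt.IsGlobalCI k (Localization.Away g)) ↔
        ∃ rs : List (Localization.AtPrime (q.comap (Ideal.Quotient.mk I))),
          RingTheory.Sequence.IsRegular (Localization.AtPrime (q.comap (Ideal.Quotient.mk I))) rs ∧
          Ideal.ofList rs =
            I.map (algebraMap _ (Localization.AtPrime (q.comap (Ideal.Quotient.mk I))))) := by
  classical
  let q' := q.comap (Ideal.Quotient.mk I)
  let W := Localization.AtPrime q'
  let S₀ := MvPolynomial (Fin n) k ⧸ I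
  let L := Localization.AtPrime q
  haveI : IsRegularLocalRing W := Groth.Agent.Synt44.isRegularLocalRing_atPrime q'
  haveI : Algebra.FiniteType k S₀ := Algebra.FiniteType.of_surjective (Ideal.Quotient.mkₐ k I) Ideal.Quotient.mk_surjective
  haveI : IsNoetherianRing S₀ := Algebra.FiniteType.isNoetherianRing k S₀
  haveI : Algebra.EssFiniteType k L := Algebra.EssFiniteType.comp k S₀ L
  haveI : Algebra.EssFiniteType k W := Algebra.EssFiniteType.comp k (MvPolynomial (Fin n) k) W
  obtain ⟨π, hπ, hker⟩ := Groth.Agent.Synt44.exists_presentation_atPrime (Ideal.Quotient.mkₐ k I) Ideal.Quotient.mk_surjective q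
  have hker' : RingHom.ker π.toRingHom = I.map (algebraMap _ W) := by
    refine hker.trans ?_
    exact congrArg (Ideal.map (algebraMap _ W)) Ideal.mk_ker
  have h1 := (Groth.Agent.S9144.result k S₀ q).2
  have h3 := Groth.Agent.S9143.result k L
  have hlen : ∀ m : ℕ, ringKrullDim W = ringKrullDim L + (m : WithBot ℕ∞) ↔ m = c := fun m => by
    rw [IsLocalization.AtPrime.ringKrullDim_eq_height q' W, IsLocalization.AtPrime.ringKrullDim_eq_height q L,
      show q'.height = (c : ℕ∞) + q.height from hc.symm]
    have hfin : q.height ≠ ⊤ := Ideal.height_ne_top (Ideal.IsPrime.ne_top ‹_›)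
    obtain ⟨a, ha⟩ := ENat.ne_top_iff_exists.1 hfin
    rw [← ha]
    constructor
    · intro h
      have h' : ((c : ℕ∞) + a : ℕ∞) = ((a : ℕ∞) + m : ℕ∞) := WithBot.coe_eq_coe.1 (h.trans (by push_cast; rfl))
      have : c + a = a + m := by exact_mod_cast h'
      omega
    · rintro rfl
      push_cast
      exact add_comm _ _
  have hdimq : ∀ J : Ideal W, J = RingHom.ker π.toRingHom → ringKrullDim (W ⧸ J) = ringKrullDim L := fun J hJ =>
    ringKrullDim_eq_of_ringEquiv
      ((Ideal.quotEquivOfEq hJ).trans (RingHom.quotientKerEquivOfSurjective (f := π.toRingHom) hπ))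
  refine ⟨h1.symm.trans ⟨fun hci => ?_, ?_⟩, h1.symm.trans ⟨fun hci => ?_, ?_⟩⟩
  · obtain ⟨rs, hrs, he⟩ := h3.1.1 hci W inferInstance π hπ
    have hd := ringKrullDim_add_length_eq_ringKrullDim_of_isRegular rs hrs
    rw [hdimq _ he.symm] at hd
    have hc' : rs.length = c := (hlen _).1 hd.symm
    refine ⟨rs.toFinset, le_antisymm ((List.toFinset_card_le rs).trans hc'.le) ?_, ?_⟩
    · have hspan : Ideal.span ((rs.toFinset : Finset W) : Set W) = Ideal.ofList rs := by
        simp [Ideal.ofList]
      have hj : ((rs.toFinset : Finset W) : Set W) ⊆ Ring.jacobson W := by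
        rw [IsLocalRing.ringJacobson_eq_maximalIdeal]
        refine fun x hx => (IsLocalRing.le_maximalIdeal (RingHom.ker_ne_top π.toRingHom)) ?_
        have : x ∈ Ideal.ofList rs := hspan ▸ Ideal.subset_span hx
        exact he.symm.le this
      have hk := ringKrullDim_le_ringKrullDim_quotient_add_card rs.toFinset hj
      rw [hdimq _ (hspan.trans he.symm), ← hd, hc'] at hk
      have hfin : q.height ≠ ⊤ := Ideal.height_ne_top (Ideal.IsPrime.ne_top ‹_›)
      obtain ⟨a, ha⟩ := ENat.ne_top_iff_exists.1 hfin
      rw [IsLocalization.AtPrime.ringKrullDim_eq_height q L, ← ha] at hk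
      have hk' : ((a : ℕ∞) + c : ℕ∞) ≤ ((a : ℕ∞) + rs.toFinset.card : ℕ∞) :=
        WithBot.coe_le_coe.1 (by push_cast; exact hk)
      have : a + c ≤ a + rs.toFinset.card := by exact_mod_cast hk'
      omega
    · refine Eq.trans ?_ (he.symm.trans hker')
      simp [Ideal.ofList]
      rfl
  · rintro ⟨s, hs, hspan⟩
    refine h3.2.1.2 ⟨W, inferInstance, inferInstance, inferInstance, inferInstance, π, hπ, s.toList, ?_, ?_⟩
    · refine hker'.trans (hspan.symm.trans ?_)
      simp [Ideal.ofList]
      rfl
    · exact (hlen _).2 (by simpa using hs)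
  · obtain ⟨rs, hrs, he⟩ := h3.1.1 hci W inferInstance π hπ
    exact ⟨rs, hrs, he.symm.trans hker'⟩
  · rintro ⟨rs, hrs, he⟩
    exact Groth.Agent.Synt44.isCIOver_of_isRegularIdeal_ker π hπ ⟨rs, hrs, he.trans hker'.symm⟩


end Groth.Agent.S9171
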