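import Groth.Statements.S9174
import Groth.Agent.RelDim.CMFibre

set_option autoImplicit false
set_option linter.style.haveILetI false
universe u
open CAlg

namespace Groth.Agent.S9174

section Aux

open TensorProduct

variable {R S : Type u} [CommRing R] [CommRing S] [Algebra R S]

/-- The local ring of the fibre, as a quotient by `(p S) S_q`. -/
lemma fibLocRing_eq (q : Ideal S) [q.IsPrime] :
    (q.comap (algebraMap R S)).map (algebraMap R (Localization.AtPrime q)) =
      ((q.comap (algebraMap R S)).map (algebraMap R S)).map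
        (algebraMap S (Localization.AtPrime q)) := by
  rw [Ideal.map_map, ← IsScalarTower.algebraMap_eq]

/-- In an equidimensional fibre the local dimension is the dimension of the fibre. -/
lemma localDim_eq_of_equidim [Algebra.FiniteType R S] (d : ℕ) (p : Ideal R) [p.IsPrime]
    (heq : ∀ P ∈ minimalPrimes (p.Fiber S),
      ringKrullDim (p.Fiber S ⧸ P) = (d : WithBot ℕ∞)) (Q : PrimeSpectrum (p.Fiber S)) :
    FlatMor.localDim (PrimeSpectrum (p.Fiber S)) Q = (d : WithBot ℕ∞) := by
  rw [CAlgLib.LocalDimSpec.localDim_eq p.ResidueField Q.asIdeal]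
  obtain ⟨P⟩ := CAlgLib.LocalDimSpec.nonempty_mins Q.asIdeal
  exact le_antisymm (iSup_le fun P => (heq P.1 P.2.1).le) (le_iSup_of_le P (heq P.1 P.2.1).ge)

/-- The local dimension of the fibre at a point is `dim (S_q / p S_q) + trdeg`. -/
lemma localDim_eq_fib [Algebra.FiniteType R S] (p : Ideal R) [p.IsPrime] (q : Ideal S) [q.IsPrime]
    [q.LiesOver p] [Algebra p.ResidueField q.ResidueField]
    [IsScalarTower R p.ResidueField q.ResidueField] (Q : PrimeSpectrum (p.Fiber S))
    (hQ : Q.asIdeal.comap Algebra.TensorProduct.includeRight.toRingHom = q) (r : ℕ)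
    (hr : Algebra.trdeg p.ResidueField q.ResidueField = r) :
    FlatMor.localDim (PrimeSpectrum (p.Fiber S)) Q =
      ringKrullDim (EGA4.FibLocRing R S q) + (r : WithBot ℕ∞) := by
  obtain ⟨eL⟩ := RelDim.exists_localizationEquiv p q Q.asIdeal hQ
  obtain ⟨eK, heK⟩ := RelDim.exists_residueFieldEquiv p q Q.asIdeal hQ.symm
  have h := RelDim.localDim_eq_of_equiv Q.asIdeal eK heK r hr
  rw [ringKrullDim_eq_of_ringEquiv eL] at h
  refine h.trans (congrArg (· + (r : WithBot ℕ∞)) (ringKrullDim_eq_of_ringEquiv (Ideal.quotEquivOfEq ?_)))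
  rw [fibLocRing_eq, show q.comap (algebraMap R S) = p from (q.over_def p).symm]

lemma aux_fwd (a b : WithBot ℕ∞) (d i r : ℕ) (hi : i ≤ d)
    (h : a + (r : WithBot ℕ∞) ≤ ((d - i : ℕ) : WithBot ℕ∞)) (hL : (d : WithBot ℕ∞) = b + r) :
    a + (i : WithBot ℕ∞) ≤ b := by
  induction a with
  | bot => simp
  | coe a =>
    induction b with
    | bot => simp at hL
    | coe b =>
      have h' : a + (r : ℕ∞) ≤ ((d - i : ℕ) : ℕ∞) := by
        rw [← WithBot.coe_natCast, ← WithBot.coe_natCast, ← WithBot.coe_add, WithBot.coe_le_coe] at h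
        exact h
      have hL' : (d : ℕ∞) = b + r := by exact_mod_cast hL
      show ((a + i : ℕ∞) : WithBot ℕ∞) ≤ b
      refine WithBot.coe_le_coe.2 ?_
      induction a with
      | top => simp at h'
      | coe a =>
        induction b with
        | top => simp
        | coe b =>
          norm_cast at h' hL' ⊢
          omega

lemma aux_bwd (a b : WithBot ℕ∞) (d i r : ℕ) (ha : 0 ≤ a)
    (h : a + (i : WithBot ℕ∞) ≤ b) (hL : (d : WithBot ℕ∞) = b + r) :
    i ≤ d ∧ a + (r : WithBot ℕ∞) ≤ ((d - i : ℕ) : WithBot ℕ∞) := by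
  induction a with
  | bot => simp at ha
  | coe a =>
    induction b with
    | bot => simp at hL
    | coe b =>
      have hL' : (d : ℕ∞) = b + r := by exact_mod_cast hL
      have h' : a + (i : ℕ∞) ≤ b := by exact_mod_cast h
      induction b with
      | top => simp at hL'
      | coe b =>
        induction a with
        | top => simp at h'
        | coe a =>
          norm_cast at h' hL'
          refine ⟨by omega, ?_⟩
          rw [← WithBot.coe_natCast, ← WithBot.coe_natCast, ← WithBot.coe_add, WithBot.coe_le_coe]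
          exact Nat.cast_le.2 (show a + r ≤ d - i by omega)

end Aux

/-- Let R → S be of finite type with every fibre ring κ(p) ⊗ S Cohen–Macaulay and equidimensional of
dimension d, and let f_1, …, f_i ∈ S. The primes q ⊇ (f_1, …, f_i) at which the f_j form a regular
sequence in the fibre local ring S_q/pS_q (p = q ∩ R) form an open subset of V(f_1, …, f_i): there
is an open U of Spec S whose trace on V(f_1, …, f_i) is exactly this set. -/
theorem result (R S : Type u) [CommRing R] [CommRing S]
    [Algebra R S] [Algebra.FiniteType R S] (d : ℕ)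
    (hCM : ∀ p : PrimeSpectrum R, LocCoh.IsCohenMacaulayRing (p.asIdeal.Fiber S))
    (heq : ∀ p : PrimeSpectrum R, ∀ P ∈ minimalPrimes (p.asIdeal.Fiber S),
      ringKrullDim (p.asIdeal.Fiber S ⧸ P) = (d : WithBot ℕ∞))
    (f : List S) :
    ∃ U : Set (PrimeSpectrum S), IsOpen U ∧ ∀ q : PrimeSpectrum S, Ideal.ofList f ≤ q.asIdeal →
      (q ∈ U ↔ RingTheory.Sequence.IsRegular (EGA4.FibLocRing R S q.asIdeal)
        (f.map (algebraMap S (EGA4.FibLocRing R S q.asIdeal)))) := by
  classical
  let F : Ideal S := Ideal.ofList f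
  let i := f.length
  let W : Set (PrimeSpectrum (S ⧸ F)) := {q' | i ≤ d ∧ q' ∈ RelDim.dimLeSet R (S ⧸ F) (d - i)}
  have hW : IsOpen W := by
    by_cases hi : i ≤ d
    · simp only [W, hi, true_and, Set.setOf_mem_eq]
      exact RelDim.isOpen_dimLeSet R (S ⧸ F) (d - i)
    · simp [W, hi]
  obtain ⟨U, hU, hUW⟩ := (PrimeSpectrum.isClosedEmbedding_comap_of_surjective (S ⧸ F)
    (Ideal.Quotient.mk F) Ideal.Quotient.mk_surjective).isInducing.isOpen_iff.1 hW
  refine ⟨U, hU, fun q hfq => ?_⟩
  haveI hq'p : (q.asIdeal.map (Ideal.Quotient.mk F)).IsPrime :=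
    Ideal.map_isPrime_of_surjective Ideal.Quotient.mk_surjective (by rwa [Ideal.mk_ker])
  let q' : PrimeSpectrum (S ⧸ F) := ⟨q.asIdeal.map (Ideal.Quotient.mk F), hq'p⟩
  have hcq : q'.asIdeal.comap (Ideal.Quotient.mk F) = q.asIdeal := by
    show (q.asIdeal.map _).comap _ = _
    rw [Ideal.comap_map_of_surjective' _ Ideal.Quotient.mk_surjective, Ideal.mk_ker, sup_eq_left.2 hfq]
  have hqU : q ∈ U ↔ q' ∈ W := by
    rw [← hUW, Set.mem_preimage]
    rw [show PrimeSpectrum.comap (Ideal.Quotient.mk F) q' = q from PrimeSpectrum.ext hcq]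
  rw [hqU]
  have hunder : q'.asIdeal.under R = q.asIdeal.under R := by
    show q'.asIdeal.comap (algebraMap R (S ⧸ F)) = _
    rw [IsScalarTower.algebraMap_eq R S (S ⧸ F), ← Ideal.comap_comap]
    exact congrArg _ hcq
  obtain ⟨p, hp, hpp⟩ : ∃ (p : Ideal R) (_ : p.IsPrime), q.asIdeal.under R = p :=
    ⟨_, inferInstance, rfl⟩
  haveI : q.asIdeal.LiesOver p := ⟨hpp.symm⟩
  haveI : q'.asIdeal.LiesOver p := ⟨(hunder.trans hpp).symm⟩
  haveI : q'.asIdeal.LiesOver q.asIdeal := ⟨hcq.symm⟩
  -- the residue fields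
  letI : Algebra p.ResidueField q.asIdeal.ResidueField :=
    (Ideal.ResidueField.mapₐ p q.asIdeal (Algebra.ofId R S) (q.asIdeal.over_def p)).toRingHom.toAlgebra
  haveI : IsScalarTower R p.ResidueField q.asIdeal.ResidueField :=
    IsScalarTower.of_algebraMap_eq fun x => ((Ideal.ResidueField.mapₐ p q.asIdeal (Algebra.ofId R S)
      (q.asIdeal.over_def p)).commutes x).symm
  letI : Algebra p.ResidueField q'.asIdeal.ResidueField :=
    (Ideal.ResidueField.mapₐ p q'.asIdeal (Algebra.ofId R (S ⧸ F))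
      (q'.asIdeal.over_def p)).toRingHom.toAlgebra
  haveI : IsScalarTower R p.ResidueField q'.asIdeal.ResidueField :=
    IsScalarTower.of_algebraMap_eq fun x => ((Ideal.ResidueField.mapₐ p q'.asIdeal
      (Algebra.ofId R (S ⧸ F)) (q'.asIdeal.over_def p)).commutes x).symm
  obtain ⟨r, hr⟩ := RelDim.exists_trdeg_eq p q.asIdeal
  have hr' : Algebra.trdeg p.ResidueField q'.asIdeal.ResidueField = r := by
    rw [← hr]
    let m := Ideal.ResidueField.map q.asIdeal q'.asIdeal (Ideal.Quotient.mk F) hcq.symm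
    have hm : m.comp (algebraMap p.ResidueField q.asIdeal.ResidueField) =
        algebraMap p.ResidueField q'.asIdeal.ResidueField := by
      refine Ideal.ResidueField.ringHom_ext (RingHom.ext fun c => ?_)
      show m (algebraMap p.ResidueField q.asIdeal.ResidueField (algebraMap R p.ResidueField c)) =
        algebraMap p.ResidueField q'.asIdeal.ResidueField (algebraMap R p.ResidueField c)
      rw [← IsScalarTower.algebraMap_apply R p.ResidueField q.asIdeal.ResidueField,
        ← IsScalarTower.algebraMap_apply R p.ResidueField q'.asIdeal.ResidueField,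
        IsScalarTower.algebraMap_apply R S q.asIdeal.ResidueField, Ideal.ResidueField.map_algebraMap,
        IsScalarTower.algebraMap_apply R (S ⧸ F) q'.asIdeal.ResidueField]
      rfl
    exact (AlgEquiv.ofRingEquiv (f := RingEquiv.ofBijective m
      ((RingHom.surjectiveOnStalks_of_surjective Ideal.Quotient.mk_surjective).residueFieldMap_bijective
        q.asIdeal q'.asIdeal hcq.symm)) fun c => DFunLike.congr_fun hm c).trdeg_eq.symm
  -- the dimension of the fibre of `S`
  obtain ⟨Q, hQ⟩ : ∃ Q : PrimeSpectrum (p.Fiber S),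
      Q.asIdeal.comap Algebra.TensorProduct.includeRight.toRingHom = q.asIdeal :=
    ⟨_, congr($((PrimeSpectrum.preimageEquivFiber R S ⟨p, hp⟩).symm_apply_apply
      ⟨q, PrimeSpectrum.ext hpp⟩).1.asIdeal)⟩
  have hL := localDim_eq_fib p q.asIdeal Q hQ r hr
  rw [localDim_eq_of_equidim d p (heq ⟨p, hp⟩) Q] at hL
  -- the local ring of the fibre is Cohen–Macaulay
  haveI := hCM ⟨p, hp⟩
  haveI := LocCoh.IsCohenMacaulayRing.isCohenMacaulayLocalRing_localization (R := p.Fiber S) Q.asIdeal
  obtain ⟨eL⟩ := RelDim.exists_localizationEquiv p q.asIdeal Q.asIdeal hQ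
  haveI : LocCoh.IsCohenMacaulayLocalRing (EGA4.FibLocRing R S q.asIdeal) :=
    RelDim.isCohenMacaulayLocalRing_ringEquiv (A := Localization.AtPrime Q.asIdeal) (eL.trans (Ideal.quotEquivOfEq
      (show (p.map (algebraMap R S)).map (algebraMap S (Localization.AtPrime q.asIdeal)) =
          (q.asIdeal.comap (algebraMap R S)).map (algebraMap R (Localization.AtPrime q.asIdeal)) by
        rw [fibLocRing_eq, show q.asIdeal.comap (algebraMap R S) = p from hpp])))
  -- the quotient by `f`
  let J : Ideal S := p.map (algebraMap R S)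
  let fL := f.map (algebraMap S (EGA4.FibLocRing R S q.asIdeal))
  have hmax : Ideal.ofList fL ≤ IsLocalRing.maximalIdeal (EGA4.FibLocRing R S q.asIdeal) := by
    rw [← Ideal.map_ofList]
    refine Ideal.map_le_iff_le_comap.2 fun x hx => ?_
    have hx1 : algebraMap S (Localization.AtPrime q.asIdeal) x ∈
        IsLocalRing.maximalIdeal (Localization.AtPrime q.asIdeal) :=
      (IsLocalization.AtPrime.to_map_mem_maximal_iff _ q.asIdeal x).2 (hfq hx)
    rw [Ideal.mem_comap, ← IsLocalRing.map_maximalIdeal_of_surjective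
      (Ideal.Quotient.mk ((q.asIdeal.comap (algebraMap R S)).map
        (algebraMap R (Localization.AtPrime q.asIdeal)))) Ideal.Quotient.mk_surjective]
    exact Ideal.mem_map_of_mem _ hx1
  have hJq : J ≤ q.asIdeal := Ideal.map_le_iff_le_comap.2 (le_of_eq hpp.symm)
  have hdimeq : ringKrullDim (EGA4.FibLocRing R (S ⧸ F) q'.asIdeal) =
      ringKrullDim (EGA4.FibLocRing R S q.asIdeal ⧸ Ideal.ofList fL) := by
    rw [S9180.ringKrullDim_fibLocRing p q'.asIdeal]
    have h1 : ringKrullDim (EGA4.FibLocRing R S q.asIdeal ⧸ Ideal.ofList fL) =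
        ringKrullDim (Localization.AtPrime q.asIdeal ⧸
          (J ⊔ F).map (algebraMap S (Localization.AtPrime q.asIdeal))) := by
      refine ringKrullDim_eq_of_ringEquiv ((Ideal.quotEquivOfEq ?_).trans
        ((DoubleQuot.quotQuotEquivQuotSup _ (F.map (algebraMap S (Localization.AtPrime q.asIdeal)))).trans
          (Ideal.quotEquivOfEq ?_)))
      · rw [← Ideal.map_ofList, Ideal.map_map]
        rfl
      · rw [Ideal.map_sup, fibLocRing_eq, show q.asIdeal.comap (algebraMap R S) = p from hpp]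
    rw [h1, S9180.ringKrullDim_loc_quot q.asIdeal (J ⊔ F) (sup_le hJq hfq)]
    congr 1
    have hK : p.map (algebraMap R (S ⧸ F)) = J.map (Ideal.Quotient.mk F) := by
      rw [Ideal.map_map]
      rfl
    let Φ : (S ⧸ F) ⧸ p.map (algebraMap R (S ⧸ F)) ≃+* S ⧸ (J ⊔ F) :=
      (Ideal.quotEquivOfEq hK).trans
        ((DoubleQuot.quotQuotEquivQuotSup F J).trans (Ideal.quotEquivOfEq (sup_comm F J)))
    have hΦ : Φ.toRingHom.comp ((Ideal.Quotient.mk (p.map (algebraMap R (S ⧸ F)))).comp
        (Ideal.Quotient.mk F)) = Ideal.Quotient.mk (J ⊔ F) := RingHom.ext fun x => rfl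
    rw [← hΦ, ← Ideal.map_map, ← Ideal.map_map]
    exact (RingEquiv.height_map Φ _).symm
  -- the dimension of the fibre of `S/(f)`
  have hset : q' ∈ RelDim.dimLeSet R (S ⧸ F) (d - i) ↔
      ringKrullDim (EGA4.FibLocRing R (S ⧸ F) q'.asIdeal) + (r : WithBot ℕ∞) ≤
        ((d - i : ℕ) : WithBot ℕ∞) := by
    have hp'' : q'.asIdeal.under R = p := hunder.trans hpp
    simp only [RelDim.dimLeSet, Set.mem_setOf_eq]
    subst hp''
    constructor
    · intro h
      obtain ⟨Q', hQ'⟩ := RelDim.exists_over R (S ⧸ F) q'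
      rw [← localDim_eq_fib (q'.asIdeal.under R) q'.asIdeal Q' hQ' r hr']
      exact h Q' hQ'
    · intro h Q' hQ'
      rw [localDim_eq_fib (q'.asIdeal.under R) q'.asIdeal Q' hQ' r hr']
      exact h
  rw [RelDim.isRegular_iff_ringKrullDim_le fL hmax, ← hdimeq, List.length_map]
  show (i ≤ d ∧ _) ↔ _
  rw [hset]
  haveI : Nontrivial (EGA4.FibLocRing R (S ⧸ F) q'.asIdeal) :=
    Ideal.Quotient.nontrivial_iff.2 fun ht =>
      (IsLocalRing.maximalIdeal.isMaximal (Localization.AtPrime q'.asIdeal)).ne_top (top_le_iff.1 (ht ▸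
        Ideal.map_le_iff_le_comap.2 fun x hx => (by
          rw [Ideal.mem_comap, IsScalarTower.algebraMap_apply R (S ⧸ F)]
          exact (IsLocalization.AtPrime.to_map_mem_maximal_iff _ q'.asIdeal _).2 hx)))
  constructor
  · rintro ⟨hi, h⟩
    generalize ringKrullDim (EGA4.FibLocRing R (S ⧸ F) q'.asIdeal) = a at h ⊢
    generalize ringKrullDim (EGA4.FibLocRing R S q.asIdeal) = b at hL ⊢
    exact aux_fwd a b d i r hi h hL
  · intro h
    have ha := ringKrullDim_nonneg_of_nontrivial (R := EGA4.FibLocRing R (S ⧸ F) q'.asIdeal)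
    generalize ringKrullDim (EGA4.FibLocRing R (S ⧸ F) q'.asIdeal) = a at h ha ⊢
    generalize ringKrullDim (EGA4.FibLocRing R S q.asIdeal) = b at hL h
    exact aux_bwd a b d i r ha h hL

end Groth.Agent.S9174
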