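import Groth.Statements.S9177
import Groth.Agent.CAlg48.ColimApps

set_option autoImplicit false
universe u
open CAlg

namespace Groth.Agent.S9177

open TensorProduct in
theorem map_nat {A P Q B C : Type u} [CommRing A] [CommRing P] [CommRing Q] [CommRing B] [CommRing C]
    [Algebra A P] [Algebra A Q] [Algebra A B] [Algebra A C] (φ : P →ₐ[A] Q) (u : B →ₐ[A] C) (z : P ⊗[A] B) :
    φ.toLinearMap.rTensor C (Algebra.TensorProduct.map (AlgHom.id A P) u z) =
      Algebra.TensorProduct.map (AlgHom.id A Q) u (φ.toLinearMap.rTensor B z) := by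
  induction z using TensorProduct.induction_on with
  | zero => simp
  | tmul p b => simp
  | add a b ha hb => simp only [map_add, ha, hb]


open TensorProduct in
/-- Let R = colim R_i be a directed colimit of A-algebras (compatible transition maps), B and C
A-algebras. (1) If B is of finite type over A, two A-algebra maps B → C whose base changes to R
coincide already have equal base changes to some R_i. (2) If C is of finite type over A and u : B →
C has surjective base change to R, then its base change to some R_i is surjective. (The A-algebra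
structure on R is through any stage R_l; it does not depend on l.) -/
theorem result {ι : Type u} [Preorder ι]
    [Nonempty ι] [IsDirectedOrder ι] (G : ι → Type u) [∀ i, CommRing (G i)]
    (f : ∀ i j, i ≤ j → G i →+* G j) [DirectedSystem G (fun i j h => f i j h)]
    (A : Type u) [CommRing A] [∀ i, Algebra A (G i)]
    (hf : ∀ i j (h : i ≤ j), (f i j h).comp (algebraMap A (G i)) = algebraMap A (G j)) (l : ι)
    (B C : Type u) [CommRing B] [CommRing C] [Algebra A B] [Algebra A C] :
    letI : Algebra A (Ring.DirectLimit G (fun i j h => f i j h)) :=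
      ((Ring.DirectLimit.of G (fun i j h => f i j h) l).comp (algebraMap A (G l))).toAlgebra
    (Algebra.FiniteType A B → ∀ u u' : B →ₐ[A] C,
        Algebra.TensorProduct.map (AlgHom.id A (Ring.DirectLimit G (fun i j h => f i j h))) u =
            Algebra.TensorProduct.map (AlgHom.id A (Ring.DirectLimit G (fun i j h => f i j h))) u' →
          ∃ i : ι, Algebra.TensorProduct.map (AlgHom.id A (G i)) u =
            Algebra.TensorProduct.map (AlgHom.id A (G i)) u') ∧
      (Algebra.FiniteType A C → ∀ u : B →ₐ[A] C,
        Function.Surjective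
            (Algebra.TensorProduct.map (AlgHom.id A (Ring.DirectLimit G (fun i j h => f i j h))) u) →
          ∃ i : ι, Function.Surjective (Algebra.TensorProduct.map (AlgHom.id A (G i)) u)) := by
  let R := Ring.DirectLimit G (fun i j h => f i j h)
  let : Algebra A R := ((Ring.DirectLimit.of G (fun i j h => f i j h) l).comp (algebraMap A (G l))).toAlgebra
  have hcomm : ∀ i (a : A), Ring.DirectLimit.of G (fun i j h => f i j h) i (algebraMap A (G i) a) =
      algebraMap A R a := fun i a => by
    obtain ⟨k, hik, hlk⟩ := exists_ge_ge i l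
    rw [← Ring.DirectLimit.of_f (f := fun i j h => f i j h) hik, RingHom.algebraMap_toAlgebra, RingHom.comp_apply,
      ← Ring.DirectLimit.of_f (f := fun i j h => f i j h) hlk,
      show f i k hik (algebraMap A (G i) a) = algebraMap A (G k) a from RingHom.congr_fun (hf i k hik) a,
      show f l k hlk (algebraMap A (G l) a) = algebraMap A (G k) a from RingHom.congr_fun (hf l k hlk) a]
  let g : ∀ i, G i →ₐ[A] R := fun i => { Ring.DirectLimit.of G (fun i j h => f i j h) i with commutes' := hcomm i }
  let F : ∀ i j, i ≤ j → (G i →ₐ[A] G j) := fun i j h =>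
    { f i j h with commutes' := fun a => RingHom.congr_fun (hf i j h) a }
  have hc : CAlg48.ColimBC.IsColim g := CAlg48.ColimBC.IsColim.of_directed F g
    (fun i j h => AlgHom.ext fun x => Ring.DirectLimit.of_f (f := fun i j h => f i j h) h x)
    (fun a => Ring.DirectLimit.exists_of a)
    (fun i x hx => by
      obtain ⟨j, hij, h⟩ := Ring.DirectLimit.of.zero_exact (f' := f) hx
      exact ⟨j, hij, h⟩)
  refine ⟨fun hft u u' hu => ?_, fun hft u hu => ?_⟩
  · obtain ⟨s, hs⟩ := hft.out
    obtain ⟨i₀⟩ := hc.nonempty
    obtain ⟨j, φ, hφ, hj⟩ := hc.kill_rTensor_family C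
      (fun b : s => (1 : G i₀) ⊗ₜ[A] u (b : B) - (1 : G i₀) ⊗ₜ[A] u' (b : B)) (by
      intro b
      simp only [map_sub, LinearMap.rTensor_tmul, AlgHom.toLinearMap_apply, map_one]
      have h := AlgHom.congr_fun hu ((1 : R) ⊗ₜ[A] (b : B))
      rw [Algebra.TensorProduct.map_tmul, Algebra.TensorProduct.map_tmul] at h
      exact sub_eq_zero.2 h)
    refine ⟨j, Algebra.TensorProduct.ext (AlgHom.ext fun x => by simp) (AlgHom.ext_of_adjoin_eq_top hs fun b hb => ?_)⟩
    have h0 := hj ⟨b, hb⟩
    simp only [map_sub, LinearMap.rTensor_tmul, AlgHom.toLinearMap_apply, map_one, sub_eq_zero] at h0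
    simpa using h0
  · obtain ⟨s, hs⟩ := hft.out
    choose a ha using fun c : s => hu (1 ⊗ₜ[A] (c : C))
    obtain ⟨i₀⟩ := hc.nonempty
    obtain ⟨i, φ₀, x, -, hx⟩ := hc.exists_lift_rTensor_family B i₀ a
    obtain ⟨j, φ, hφ, hj⟩ := hc.kill_rTensor_family C
      (fun c : s => Algebra.TensorProduct.map (AlgHom.id A (G i)) u (x c) - (1 : G i) ⊗ₜ[A] (c : C)) (by
      intro c
      rw [map_sub, LinearMap.rTensor_tmul, AlgHom.toLinearMap_apply, map_one, map_nat, hx c]
      exact sub_eq_zero.2 (ha c))
    refine ⟨j, fun y => ?_⟩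
    let U : G j ⊗[A] B →ₐ[G j] G j ⊗[A] C := Algebra.TensorProduct.map (AlgHom.id (G j) (G j)) u
    have := CAlg48.ColimBC.range_eq_top_of_mem (P := G j) hs U.range fun c hc => ⟨φ.toLinearMap.rTensor B (x ⟨c, hc⟩), by
      have h0 := hj ⟨c, hc⟩
      rw [map_sub, LinearMap.rTensor_tmul, AlgHom.toLinearMap_apply, map_one, map_nat, sub_eq_zero] at h0
      exact h0⟩
    obtain ⟨z, hz⟩ : y ∈ U.range := this ▸ Algebra.mem_top
    exact ⟨z, hz⟩

end Groth.Agent.S9177
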