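import Groth.Statements.S9178
import Mathlib.Tactic.Ring


set_option autoImplicit false
universe u
open CAlg

namespace Groth.Agent.S9178

theorem smul_congr_Q {A B C : Type u} [CommRing A] [CommRing B] [CommRing C] [Algebra A B] [Algebra B C]
    [Algebra A C] [IsScalarTower A B C] {J : Ideal B} (N : Submodule B J.Cotangent)
    (hact : ∀ (b : B) (r : A) (z : J.Cotangent), algebraMap B C b = algebraMap A C r → b • z = r • z)
    (b b' : B) (q : J.Cotangent ⧸ N) (hb : algebraMap B C b = algebraMap B C b')
    [Fact (Function.Surjective (algebraMap A C))] : b • q = b' • q := by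
  obtain ⟨q, rfl⟩ := Submodule.Quotient.mk_surjective N q
  obtain ⟨r, hr⟩ := (Fact.out : Function.Surjective (algebraMap A C)) (algebraMap B C b)
  rw [← Submodule.Quotient.mk_smul, ← Submodule.Quotient.mk_smul, hact b r q hr.symm,
    hact b' r q (hb ▸ hr.symm)]

/-- For ring maps A → B → C with A → C surjective, writing I = ker(A → C) and J = ker(B → C), the
sequence I/I² → J/J² → C ⊗_B Ω_{B/A} → 0 is exact. Stated: the image of I/I² in J/J² is exactly the
kernel of J/J² → C ⊗_B Ω_{B/A} (surjectivity of the latter map is the standard conormal sequence for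
the surjection B → C). -/
theorem result (A B C : Type u) [CommRing A] [CommRing B]
    [CommRing C] [Algebra A B] [Algebra B C] [Algebra A C] [IsScalarTower A B C]
    (hAC : Function.Surjective (algebraMap A C))
    (h : RingHom.ker (algebraMap A C) ≤ (RingHom.ker (algebraMap B C)).comap (Algebra.ofId A B)) :
    Function.Exact
      (Ideal.mapCotangent (RingHom.ker (algebraMap A C)) (RingHom.ker (algebraMap B C)) (Algebra.ofId A B) h)
      (KaehlerDifferential.kerCotangentToTensor A B C) := by
  classical
  have : Fact (Function.Surjective (algebraMap A C)) := ⟨hAC⟩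
  let I := RingHom.ker (algebraMap A C)
  let J := RingHom.ker (algebraMap B C)
  let mc := Ideal.mapCotangent I J (Algebra.ofId A B) h
  let k := KaehlerDifferential.kerCotangentToTensor A B C
  have hact : ∀ (b : B) (r : A) (z : J.Cotangent), algebraMap B C b = algebraMap A C r → b • z = r • z := by
    intro b r z hbr
    rw [← IsScalarTower.algebraMap_smul B r z, ← sub_eq_zero, ← sub_smul]
    refine Ideal.Cotangent.smul_eq_zero_of_mem ?_ z
    rw [RingHom.mem_ker, map_sub, ← IsScalarTower.algebraMap_apply, hbr, sub_self]
  intro y
  constructor
  · intro hy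
    choose s hs using fun b : B => hAC (algebraMap B C b)
    let N : Submodule B J.Cotangent :=
      { carrier := LinearMap.range mc
        add_mem' := fun {a b} ha hb => (LinearMap.range mc).add_mem ha hb
        zero_mem' := (LinearMap.range mc).zero_mem
        smul_mem' := fun b z hz => by
          rw [hact b (s b) z (hs b).symm]
          exact (LinearMap.range mc).smul_mem _ hz }
    let Q := J.Cotangent ⧸ N
    have hres : ∀ (b : B) (r : A), algebraMap A C r = algebraMap B C b → b - algebraMap A B r ∈ J := by
      intro b r hbr
      rw [RingHom.mem_ker, map_sub, ← IsScalarTower.algebraMap_apply, hbr, sub_self]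
    let δ : B → Q := fun b => N.mkQ (J.toCotangent ⟨b - algebraMap A B (s b), hres b _ (hs b)⟩)
    have hδ : ∀ (b : B) (r : A) (hr : algebraMap A C r = algebraMap B C b),
        δ b = N.mkQ (J.toCotangent ⟨b - algebraMap A B r, hres b r hr⟩) := by
      intro b r hr
      refine (Submodule.Quotient.eq N).mpr ?_
      have hmem : r - s b ∈ I := by rw [RingHom.mem_ker, map_sub, hr, hs, sub_self]
      refine ⟨I.toCotangent ⟨r - s b, hmem⟩, ?_⟩
      rw [Ideal.mapCotangent_toCotangent, ← map_sub]
      congr 1
      ext
      simp
    let D₀ : B →ₗ[A] Q :=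
      { toFun := δ
        map_add' := fun a b => by
          rw [hδ (a + b) (s a + s b) (by simp [hs])]
          simp only [δ, ← map_add]
          congr 2
          ext
          simp; ring
        map_smul' := fun r b => by
          rw [RingHom.id_apply, hδ (r • b) (r * s b) (by simp [hs, Algebra.smul_def, ← IsScalarTower.algebraMap_apply])]
          simp only [δ]
          rw [← IsScalarTower.algebraMap_smul B r (N.mkQ _), ← map_smul, ← map_smul]
          congr 2
          ext
          simp [Algebra.smul_def]; ring }
    let D : Derivation A B Q := Derivation.mk' D₀ fun a b => by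
      change δ (a * b) = a • δ b + b • δ a
      rw [hδ (a * b) (s a * s b) (by simp [hs])]
      have hb' : algebraMap B C b = algebraMap A C (s b) := (hs b).symm
      have e : b • δ a = algebraMap A B (s b) • δ a := by
        simp only [δ, ← map_smul]
        congr 1
        rw [map_smul, map_smul, hact b (s b) _ hb', ← IsScalarTower.algebraMap_smul B (s b)]
      rw [e]
      simp only [δ, ← map_smul, ← map_add]
      congr 2
      ext
      simp [Algebra.smul_def]; ring
    let sA : C → A := fun c => (hAC c).choose
    have hsA : ∀ c, algebraMap A C (sA c) = c := fun c => (hAC c).choose_spec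
    let Ψ : TensorProduct B C (Ω[B⁄A]) →ₗ[B] Q := TensorProduct.lift
      (LinearMap.mk₂ B (fun c w => algebraMap A B (sA c) • D.liftKaehlerDifferential w)
        (fun c₁ c₂ w => by
          rw [← add_smul, ← map_add]
          exact smul_congr_Q N hact _ _ _ (by simp [← IsScalarTower.algebraMap_apply, hsA]))
        (fun b c w => by
          rw [smul_smul]
          exact smul_congr_Q N hact _ _ _ (by simp [← IsScalarTower.algebraMap_apply, hsA, Algebra.smul_def]))
        (fun c w₁ w₂ => by rw [map_add, smul_add])
        (fun b c w => by rw [map_smul, smul_comm]))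
    obtain ⟨x, rfl⟩ := J.toCotangent_surjective y
    rw [KaehlerDifferential.kerCotangentToTensor_toCotangent] at hy
    have h1 := congrArg Ψ hy
    rw [TensorProduct.lift.tmul, LinearMap.mk₂_apply, map_zero, Derivation.liftKaehlerDifferential_comp_D] at h1
    have h2 : D (x : B) = N.mkQ (J.toCotangent x) := by
      change δ (x : B) = _
      rw [hδ (x : B) 0 (by rw [map_zero]; exact x.2.symm)]
      congr 2
      ext
      simp
    rw [h2, smul_congr_Q N hact (algebraMap A B (sA 1)) 1 _ (by simp [← IsScalarTower.algebraMap_apply, hsA]),
      one_smul] at h1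
    exact (Submodule.Quotient.mk_eq_zero N).mp h1
  · rintro ⟨z, rfl⟩
    obtain ⟨i, rfl⟩ := I.toCotangent_surjective z
    rw [Ideal.mapCotangent_toCotangent, KaehlerDifferential.kerCotangentToTensor_toCotangent]
    simp

end Groth.Agent.S9178
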