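import Groth.Statements.S9179
import Mathlib.RingTheory.RingHom.FinitePresentation
import Mathlib.CategoryTheory.Filtered.Basic
import Mathlib.Algebra.Category.Ring.Constructions

set_option autoImplicit false
universe u
open CategoryTheory CategoryTheory.Limits
open CAlg

namespace Groth.Agent.S9179

variable {R A : Type u} [CommRing R] [CommRing A] [Algebra R A] {n : ℕ} (π : MvPolynomial (Fin n) R →ₐ[R] A)

noncomputable abbrev J (s : Finset (RingHom.ker π)) : Ideal (MvPolynomial (Fin n) R) :=
  Ideal.span (s.map ⟨Subtype.val, Subtype.val_injective⟩ : Finset (MvPolynomial (Fin n) R))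

lemma J_le (s : Finset (RingHom.ker π)) : J π s ≤ RingHom.ker π :=
  Ideal.span_le.2 fun x hx => by
    obtain ⟨y, -, rfl⟩ := Finset.mem_map.1 (Finset.mem_coe.1 hx)
    exact y.2

lemma J_mono {s t : Finset (RingHom.ker π)} (h : s ≤ t) : J π s ≤ J π t :=
  Ideal.span_mono (Finset.coe_subset.2 (Finset.map_subset_map.2 h))

noncomputable def diag : Finset (RingHom.ker π) ⥤ Under (CommRingCat.of R) where
  obj s := Under.mk (CommRingCat.ofHom (algebraMap R (MvPolynomial (Fin n) R ⧸ J π s)))
  map {s t} φ := Under.homMk (CommRingCat.ofHom (Ideal.Quotient.factor (J_mono π φ.le))) (by rfl)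
  map_id s := by
    refine Under.UnderMorphism.ext (CommRingCat.hom_ext (Ideal.Quotient.ringHom_ext ?_))
    exact RingHom.ext fun x => rfl
  map_comp φ ψ := by
    refine Under.UnderMorphism.ext (CommRingCat.hom_ext (Ideal.Quotient.ringHom_ext ?_))
    exact RingHom.ext fun x => rfl

noncomputable def cocone : Cocone (diag π) where
  pt := Under.mk (CommRingCat.ofHom (algebraMap R A))
  ι :=
    { app := fun s => Under.homMk (CommRingCat.ofHom (Ideal.Quotient.lift (J π s) π.toRingHom (fun x hx => J_le π s hx)))
        (CommRingCat.hom_ext (RingHom.ext fun r => π.commutes r))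
      naturality := fun s t φ => by
        refine Under.UnderMorphism.ext (CommRingCat.hom_ext (Ideal.Quotient.ringHom_ext ?_))
        exact RingHom.ext fun x => rfl }

lemma leg_mk (c : Cocone (diag π)) {s t : Finset (RingHom.ker π)} (h : s ≤ t) (x : MvPolynomial (Fin n) R) :
    (c.ι.app s).right.hom (Ideal.Quotient.mk _ x) = (c.ι.app t).right.hom (Ideal.Quotient.mk _ x) := by
  rw [← c.w (homOfLE h)]
  rfl

noncomputable def poly (c : Cocone (diag π)) : MvPolynomial (Fin n) R →+* c.pt.right :=
  (c.ι.app ∅).right.hom.comp (Ideal.Quotient.mk _)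

lemma poly_ker (c : Cocone (diag π)) {x : MvPolynomial (Fin n) R} (hx : x ∈ RingHom.ker π) : poly π c x = 0 := by
  refine (leg_mk π c (Finset.empty_subset {(⟨x, hx⟩ : RingHom.ker π)}) x).trans ?_
  exact (congrArg _ (Ideal.Quotient.eq_zero_iff_mem.2 (Ideal.subset_span (by simp)))).trans (map_zero _)

noncomputable def descHom (hπ : Function.Surjective π) (c : Cocone (diag π)) : A →+* c.pt.right :=
  RingHom.liftOfSurjective π.toRingHom hπ ⟨poly π c, fun _ hx => poly_ker π c hx⟩

lemma descHom_π (hπ : Function.Surjective π) (c : Cocone (diag π)) (x : MvPolynomial (Fin n) R) :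
    descHom π hπ c (π x) = poly π c x :=
  RingHom.liftOfRightInverse_comp_apply _ _ _ _ x

noncomputable def isColimit (hπ : Function.Surjective π) : IsColimit (cocone π) where
  desc c := Under.homMk (CommRingCat.ofHom (descHom π hπ c)) (by
    refine CommRingCat.hom_ext (RingHom.ext fun r => ?_)
    have h := RingHom.congr_fun (congrArg CommRingCat.Hom.hom (Under.w (c.ι.app ∅))) r
    refine Eq.trans ?_ h
    change descHom π hπ c (algebraMap R A r) = _
    rw [← π.commutes]
    exact descHom_π π hπ c _)
  fac c s := by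
    refine Under.UnderMorphism.ext (CommRingCat.hom_ext (Ideal.Quotient.ringHom_ext (RingHom.ext fun x => ?_)))
    change descHom π hπ c (π x) = _
    exact (descHom_π π hπ c x).trans (leg_mk π c (Finset.empty_subset s) x)
  uniq c m hm := by
    refine Under.UnderMorphism.ext (CommRingCat.hom_ext (RingHom.ext fun a => ?_))
    obtain ⟨x, rfl⟩ := hπ a
    refine Eq.trans ?_ (descHom_π π hπ c x).symm
    change _ = (c.ι.app ∅).right.hom (Ideal.Quotient.mk _ x)
    rw [← hm ∅]
    rfl


/-- An R-algebra of finite type is the colimit of a filtered system of finitely presented R-algebras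
whose transition maps are all surjective. -/
theorem result (R A : Type u) [CommRing R] [CommRing A]
    [Algebra R A] [Algebra.FiniteType R A] :
    ∃ (I : Type u) (_ : SmallCategory I) (_ : IsFiltered I) (D : I ⥤ Under (CommRingCat.of R))
      (c : Cocone D) (_ : IsColimit c),
      (∀ i, (D.obj i).hom.hom.FinitePresentation) ∧
      (∀ (i j : I) (φ : i ⟶ j), Function.Surjective (D.map φ).right.hom) ∧
      Nonempty (c.pt ≅ Under.mk (CommRingCat.ofHom (algebraMap R A))) := by
  obtain ⟨n, π, hπ⟩ := Algebra.FiniteType.iff_quotient_mvPolynomial''.1 (inferInstance : Algebra.FiniteType R A)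
  refine ⟨Finset (RingHom.ker π), inferInstance, inferInstance, diag π, cocone π, isColimit π hπ, fun i => ?_,
    fun i j φ => ?_, ⟨Iso.refl _⟩⟩
  · exact RingHom.finitePresentation_algebraMap.2 (Algebra.FinitePresentation.quotient ⟨i.map ⟨Subtype.val, Subtype.val_injective⟩, rfl⟩)
  · intro y
    obtain ⟨y, rfl⟩ := Ideal.Quotient.mk_surjective y
    exact ⟨Ideal.Quotient.mk _ y, rfl⟩

end Groth.Agent.S9179
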