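import Groth.Statements.S9183
import Mathlib.RingTheory.RingHom.FinitePresentation
import Mathlib.CategoryTheory.Filtered.Basic
import Mathlib.Algebra.Category.Ring.Constructions

set_option autoImplicit false
universe u
open CategoryTheory CategoryTheory.Limits
open CAlg

namespace Groth.Agent.S9183

variable (R A : Type u) [CommRing R] [CommRing A] [Algebra R A]

/-- the polynomial ring on a finite set of elements -/
abbrev Pol {A : Type u} (R : Type u) [CommRing R] (s : Finset A) : Type u := MvPolynomial {a // a ∈ s} R

variable {A} in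
noncomputable abbrev ev (s : Finset A) : Pol R s →ₐ[R] A := MvPolynomial.aeval Subtype.val

/-- finitely many elements with finitely many relations -/
structure Idx where
  s : Finset A
  rel : Ideal (Pol R s)
  fg : rel.FG
  le : rel ≤ RingHom.ker (ev R s)

variable {A} in
noncomputable def inc {s t : Finset A} (h : s ⊆ t) : Pol R s →ₐ[R] Pol R t :=
  MvPolynomial.rename fun a => ⟨a.1, h a.2⟩

variable {A} in
lemma ev_inc {s t : Finset A} (h : s ⊆ t) (x : Pol R s) : ev R t (inc R h x) = ev R s x := by
  rw [← AlgHom.comp_apply]
  congr 1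
  exact MvPolynomial.algHom_ext fun a => by simp [inc]

variable {A} in
lemma inc_inc {s t w : Finset A} (h : s ⊆ t) (h' : t ⊆ w) (x : Pol R s) : inc R h' (inc R h x) = inc R (h.trans h') x := by
  rw [inc, inc, MvPolynomial.rename_rename]; rfl

instance : Preorder (Idx R A) where
  le i j := ∃ h : i.s ⊆ j.s, i.rel.map (inc R h) ≤ j.rel
  le_refl i := ⟨le_rfl, Ideal.map_le_iff_le_comap.2 fun x hx => by
    rw [Ideal.mem_comap]
    convert hx
    exact MvPolynomial.rename_id_apply x⟩
  le_trans i j l hij hjl := by
    obtain ⟨h, hh⟩ := hij; obtain ⟨h', hh'⟩ := hjl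
    refine ⟨h.trans h', Ideal.map_le_iff_le_comap.2 fun x hx => ?_⟩
    rw [Ideal.mem_comap, ← inc_inc R h h']
    exact hh' (Ideal.mem_map_of_mem _ (hh (Ideal.mem_map_of_mem _ hx)))

instance : Nonempty (Idx R A) := ⟨⟨∅, ⊥, Submodule.fg_bot, bot_le⟩⟩

instance : IsDirectedOrder (Idx R A) := ⟨fun i j => by
  classical
  refine ⟨⟨i.s ∪ j.s, i.rel.map (inc R Finset.subset_union_left) ⊔ j.rel.map (inc R Finset.subset_union_right),
    Submodule.FG.sup (i.fg.map _) (j.fg.map _), sup_le ?_ ?_⟩, ⟨Finset.subset_union_left, le_sup_left⟩,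
    ⟨Finset.subset_union_right, le_sup_right⟩⟩
  all_goals
    refine Ideal.map_le_iff_le_comap.2 fun x hx => ?_
    rw [Ideal.mem_comap, RingHom.mem_ker, ev_inc]
  exacts [i.le hx, j.le hx]⟩

variable {R A} in
noncomputable def mor {i j : Idx R A} (h : i ≤ j) : Pol R i.s ⧸ i.rel →+* Pol R j.s ⧸ j.rel :=
  Ideal.quotientMap j.rel (inc R h.1).toRingHom fun _ hx => h.2 (Ideal.mem_map_of_mem _ hx)

noncomputable def diag : Idx R A ⥤ Under (CommRingCat.of R) where
  obj i := Under.mk (CommRingCat.ofHom (algebraMap R (Pol R i.s ⧸ i.rel)))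
  map {i j} φ := Under.homMk (CommRingCat.ofHom (mor φ.le)) (CommRingCat.hom_ext (RingHom.ext fun r =>
    congrArg (Ideal.Quotient.mk j.rel) ((inc R φ.le.1).commutes r)))
  map_id i := by
    refine Under.UnderMorphism.ext (CommRingCat.hom_ext (Ideal.Quotient.ringHom_ext (RingHom.ext fun x => ?_)))
    exact congrArg (Ideal.Quotient.mk i.rel) (MvPolynomial.rename_id_apply x)
  map_comp {i j l} φ ψ := by
    refine Under.UnderMorphism.ext (CommRingCat.hom_ext (Ideal.Quotient.ringHom_ext (RingHom.ext fun x => ?_)))
    exact congrArg (Ideal.Quotient.mk l.rel) (inc_inc R φ.le.1 ψ.le.1 x).symm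

noncomputable def cocone : Cocone (diag R A) where
  pt := Under.mk (CommRingCat.ofHom (algebraMap R A))
  ι :=
    { app := fun i => Under.homMk (CommRingCat.ofHom (Ideal.Quotient.lift i.rel (ev R i.s).toRingHom (fun x hx => i.le hx)))
        (CommRingCat.hom_ext (RingHom.ext fun r => (ev R i.s).commutes r))
      naturality := fun i j φ => by
        refine Under.UnderMorphism.ext (CommRingCat.hom_ext (Ideal.Quotient.ringHom_ext (RingHom.ext fun x => ?_)))
        exact ev_inc R φ.le.1 x }

variable {R A}

noncomputable def free (s : Finset A) : Idx R A := ⟨s, ⊥, Submodule.fg_bot, bot_le⟩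

noncomputable def leg (c : Cocone (diag R A)) (s : Finset A) : Pol R s →+* c.pt.right :=
  (c.ι.app (free s)).right.hom.comp (Ideal.Quotient.mk _)

lemma leg_eq (c : Cocone (diag R A)) {i : Idx R A} {s : Finset A} (h : s ⊆ i.s) (x : Pol R s) :
    leg c s x = (c.ι.app i).right.hom (Ideal.Quotient.mk _ (inc R h x)) := by
  have hle : free s ≤ i := ⟨h, by
    show Ideal.map _ (⊥ : Ideal (Pol R s)) ≤ _
    rw [Ideal.map_bot]; exact bot_le⟩
  unfold leg
  rw [← c.w (homOfLE hle)]
  rfl

lemma leg_inc (c : Cocone (diag R A)) {s t : Finset A} (h : s ⊆ t) (x : Pol R s) :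
    leg c t (inc R h x) = leg c s x := (leg_eq c (i := free t) h x).symm

lemma leg_congr (c : Cocone (diag R A)) {s t : Finset A} (x : Pol R s) (y : Pol R t) (h : ev R s x = ev R t y) :
    leg c s x = leg c t y := by
  classical
  let x' := inc R (Finset.subset_union_left (s₂ := t)) x
  let y' := inc R (Finset.subset_union_right (s₁ := s)) y
  let i : Idx R A := ⟨s ∪ t, Ideal.span {x' - y'}, Submodule.fg_span_singleton _, by
    rw [Ideal.span_le, Set.singleton_subset_iff, SetLike.mem_coe, RingHom.mem_ker, map_sub, ev_inc, ev_inc, h, sub_self]⟩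
  rw [leg_eq c (i := i) Finset.subset_union_left, leg_eq c (i := i) Finset.subset_union_right]
  exact congrArg _ (Ideal.Quotient.eq.2 (Ideal.subset_span rfl))

noncomputable def var (a : A) : Pol R ({a} : Finset A) := MvPolynomial.X ⟨a, Finset.mem_singleton_self a⟩

lemma ev_var (a : A) : ev R {a} (var a) = a := by simp [var]

noncomputable def descHom (c : Cocone (diag R A)) : A →+* c.pt.right where
  toFun a := leg c {a} (var a)
  map_one' := (leg_congr c (var 1) (1 : Pol R {(1 : A)}) (by rw [ev_var, map_one])).trans (map_one _)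
  map_zero' := (leg_congr c (var 0) (0 : Pol R {(0 : A)}) (by rw [ev_var, map_zero])).trans (map_zero _)
  map_mul' a b := by
    classical
    refine (leg_congr c (var (a * b)) (inc R Finset.subset_union_left (var a) * inc R Finset.subset_union_right (var b))
      (by rw [ev_var, map_mul, ev_inc, ev_inc, ev_var, ev_var])).trans ?_
    rw [map_mul, leg_inc, leg_inc]
  map_add' a b := by
    classical
    refine (leg_congr c (var (a + b)) (inc R Finset.subset_union_left (var a) + inc R Finset.subset_union_right (var b))
      (by rw [ev_var, map_add, ev_inc, ev_inc, ev_var, ev_var])).trans ?_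
    rw [map_add, leg_inc, leg_inc]

lemma descHom_ev (c : Cocone (diag R A)) (s : Finset A) (x : Pol R s) : descHom c (ev R s x) = leg c s x :=
  leg_congr c (var (ev R s x)) x (ev_var _)

variable (R A)

noncomputable def isColimit : IsColimit (cocone R A) where
  desc c := Under.homMk (CommRingCat.ofHom (descHom c)) (by
    refine CommRingCat.hom_ext (RingHom.ext fun r => ?_)
    have h := RingHom.congr_fun (congrArg CommRingCat.Hom.hom (Under.w (c.ι.app (free (∅ : Finset A))))) r
    refine Eq.trans ?_ h
    change descHom c (algebraMap R A r) = _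
    rw [← (ev R (∅ : Finset A)).commutes r]
    exact descHom_ev c ∅ _)
  fac c i := by
    refine Under.UnderMorphism.ext (CommRingCat.hom_ext (Ideal.Quotient.ringHom_ext (RingHom.ext fun x => ?_)))
    change descHom c (ev R i.s x) = _
    refine (descHom_ev c i.s x).trans ((leg_eq c (i := i) le_rfl x).trans ?_)
    exact congrArg (fun t => (c.ι.app i).right.hom (Ideal.Quotient.mk _ t)) (MvPolynomial.rename_id_apply x)
  uniq c m hm := by
    refine Under.UnderMorphism.ext (CommRingCat.hom_ext (RingHom.ext fun (a : A) => ?_))
    change m.right.hom a = leg c {a} (var (A := A) a)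
    unfold leg
    rw [← hm (free {a})]
    have e : ev R ({a} : Finset A) (var (A := A) a) = (a : A) := ev_var (R := R) (A := A) a
    exact congrArg (fun t => m.right.hom t) e.symm


/-- Every R-algebra A, with no finiteness assumption, is the colimit of a filtered system of finitely
presented R-algebras. (The published statement asserts that the category of all finitely presented
R-algebras with a map to A is filtered with colimit A; this row states that some small filtered
system of finitely presented R-algebras has colimit A.) -/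
theorem result (R A : Type u) [CommRing R] [CommRing A] [Algebra R A] :
    ∃ (I : Type u) (_ : SmallCategory I) (_ : IsFiltered I) (D : I ⥤ Under (CommRingCat.of R))
      (c : Cocone D) (_ : IsColimit c),
      (∀ i, (D.obj i).hom.hom.FinitePresentation) ∧
      Nonempty (c.pt ≅ Under.mk (CommRingCat.ofHom (algebraMap R A))) := by
  refine ⟨Idx R A, inferInstance, inferInstance, diag R A, cocone R A, isColimit R A, fun i => ?_, ⟨Iso.refl _⟩⟩
  exact RingHom.finitePresentation_algebraMap.2 (Algebra.FinitePresentation.quotient i.fg)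

end Groth.Agent.S9183
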