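import Groth.Statements.S9184
import Groth.Agent.FlatOpen.MapOpen

set_option autoImplicit false
set_option linter.style.haveILetI false
universe u
open CAlg

namespace Groth.Agent.S9184

section Aux

variable {R S : Type u} [CommRing R] [CommRing S] [Algebra R S]

lemma mem_smul_top_pi {ι : Type} [Fintype ι] (J : Ideal S) (m : ι → S) :
    m ∈ J • (⊤ : Submodule S (ι → S)) ↔ ∀ k, m k ∈ J := by
  classical
  constructor
  · intro h k
    refine Submodule.smul_induction_on (p := fun y => y k ∈ J) h (fun c hc y _ => ?_)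
      (fun x y hx hy => J.add_mem hx hy)
    exact J.mul_mem_right _ hc
  · intro h
    have : m = ∑ k, (m k) • (Pi.single k 1 : ι → S) := by
      ext k
      simp [Finset.sum_apply, Pi.single_apply]
    rw [this]
    exact Submodule.sum_mem _ fun k _ => Submodule.smul_mem_smul (h k) trivial

/-- Zero in the local ring of the fibre. -/
lemma fib_eq_zero_iff (q : PrimeSpectrum S) (x : S) :
    algebraMap S (EGA4.FibLocRing R S q.asIdeal) x = 0 ↔
      ∃ s ∉ q.asIdeal, s * x ∈ (q.asIdeal.comap (algebraMap R S)).map (algebraMap R S) := by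
  rw [IsScalarTower.algebraMap_apply S (Localization.AtPrime q.asIdeal) (EGA4.FibLocRing R S q.asIdeal),
    Ideal.Quotient.algebraMap_eq, Ideal.Quotient.eq_zero_iff_mem,
    IsScalarTower.algebraMap_eq R S (Localization.AtPrime q.asIdeal), ← Ideal.map_map,
    IsLocalization.algebraMap_mem_map_algebraMap_iff q.asIdeal.primeCompl]
  rfl

lemma vec_eq_zero_iff (q : PrimeSpectrum S) {ι : Type} [Fintype ι] (m : ι → S) :
    (algebraMap S (EGA4.FibLocRing R S q.asIdeal) ∘ m) = 0 ↔
      ∃ s ∉ q.asIdeal, s • m ∈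
        (q.asIdeal.comap (algebraMap R S)).map (algebraMap R S) • (⊤ : Submodule S (ι → S)) := by
  classical
  simp only [mem_smul_top_pi, Pi.smul_apply, smul_eq_mul, funext_iff, Function.comp_apply,
    Pi.zero_apply, fib_eq_zero_iff]
  refine ⟨fun h => ?_, fun ⟨s, hs, h⟩ k => ⟨s, hs, h k⟩⟩
  choose s hs hm using h
  refine ⟨∏ k, s k, fun h => ?_, fun k => ?_⟩
  · obtain ⟨k, -, hk⟩ := (q.2.prod_mem_iff).1 h
    exact hs k hk
  · rw [← Finset.prod_erase_mul _ _ (Finset.mem_univ k), mul_assoc]
    exact Ideal.mul_mem_left _ _ (hm k)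

lemma exists_smul_eq (q : PrimeSpectrum S) {ι : Type} [Fintype ι]
    (v : ι → EGA4.FibLocRing R S q.asIdeal) :
    ∃ s ∉ q.asIdeal, ∃ m : ι → S, algebraMap S (EGA4.FibLocRing R S q.asIdeal) s • v =
      algebraMap S (EGA4.FibLocRing R S q.asIdeal) ∘ m := by
  classical
  choose w hw using fun k => Ideal.Quotient.mk_surjective (v k)
  obtain ⟨b, hb⟩ := IsLocalization.exist_integer_multiples_of_finite q.asIdeal.primeCompl w
  choose m hm using hb
  refine ⟨b.1, b.2, m, funext fun k => ?_⟩
  rw [Pi.smul_apply, smul_eq_mul, Function.comp_apply, ← hw k,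
    IsScalarTower.algebraMap_apply S (Localization.AtPrime q.asIdeal) (EGA4.FibLocRing R S q.asIdeal),
    IsScalarTower.algebraMap_apply S (Localization.AtPrime q.asIdeal) (EGA4.FibLocRing R S q.asIdeal),
    hm k, Ideal.Quotient.algebraMap_eq, ← map_mul, Algebra.smul_def]

lemma isUnit_fib (q : PrimeSpectrum S) {s : S} (hs : s ∉ q.asIdeal) :
    IsUnit (algebraMap S (EGA4.FibLocRing R S q.asIdeal) s) := by
  rw [IsScalarTower.algebraMap_apply S (Localization.AtPrime q.asIdeal) (EGA4.FibLocRing R S q.asIdeal)]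
  exact (IsLocalization.map_units (Localization.AtPrime q.asIdeal)
    (⟨s, hs⟩ : q.asIdeal.primeCompl)).map _

/-- Fibrewise exactness of `S^a → S^b → S^c` at `q`. -/
lemma exact_iff (q : PrimeSpectrum S) {a b c : ℕ} (A : Matrix (Fin b) (Fin a) S)
    (B : Matrix (Fin c) (Fin b) S) (hBA : B * A = 0) :
    LinearMap.ker (Matrix.mulVecLin (B.map (algebraMap S (EGA4.FibLocRing R S q.asIdeal)))) =
        LinearMap.range (Matrix.mulVecLin (A.map (algebraMap S (EGA4.FibLocRing R S q.asIdeal)))) ↔
      ∀ m : Fin b → S, B.mulVec m ∈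
          (q.asIdeal.comap (algebraMap R S)).map (algebraMap R S) • (⊤ : Submodule S (Fin c → S)) →
        ∃ s ∉ q.asIdeal, s • m ∈ LinearMap.range A.mulVecLin ⊔
          (q.asIdeal.comap (algebraMap R S)).map (algebraMap R S) • (⊤ : Submodule S (Fin b → S)) := by
  set f := algebraMap S (EGA4.FibLocRing R S q.asIdeal)
  have hmap : ∀ {k l : ℕ} (M : Matrix (Fin k) (Fin l) S) (v : Fin l → S),
      (M.map f).mulVec (f ∘ v) = f ∘ M.mulVec v :=
    fun M v => funext fun i => (RingHom.map_mulVec f M v i).symm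
  have hsmul : ∀ {k : ℕ} (x : S) (v : Fin k → S), f ∘ (x • v) = f x • (f ∘ v) :=
    fun x v => funext fun i => by simp
  constructor
  · intro h m hm
    have h0 : f ∘ B.mulVec m = 0 :=
      (vec_eq_zero_iff q _).2 ⟨1, fun h1 => q.2.ne_top (q.asIdeal.eq_top_iff_one.2 h1), by rwa [one_smul]⟩
    obtain ⟨w, hw⟩ : f ∘ m ∈ LinearMap.range (Matrix.mulVecLin (A.map f)) := by
      rw [← h, LinearMap.mem_ker, Matrix.mulVecLin_apply, hmap, h0]
    rw [Matrix.mulVecLin_apply] at hw
    obtain ⟨d, hd, y, hy⟩ := exists_smul_eq q w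
    have h1 : f ∘ (d • m - A.mulVec y) = 0 := by
      have : f ∘ A.mulVec y = f d • (f ∘ m) := by rw [← hmap, ← hy, Matrix.mulVec_smul, hw]
      funext i
      have hi := congrFun this i
      simp only [Function.comp_apply, Pi.smul_apply, smul_eq_mul] at hi
      simp [hi]
    obtain ⟨t, ht, htm⟩ := (vec_eq_zero_iff q _).1 h1
    refine ⟨t * d, Ideal.IsPrime.mul_notMem q.2 ht hd, ?_⟩
    rw [Submodule.mem_sup]
    exact ⟨A.mulVec (t • y), ⟨t • y, rfl⟩, _, htm, by
      rw [Matrix.mulVec_smul, smul_sub, smul_smul, add_sub_cancel]⟩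
  · intro h
    refine le_antisymm (fun v hv => ?_) ?_
    · rw [LinearMap.mem_ker, Matrix.mulVecLin_apply] at hv
      obtain ⟨d, hd, m, hm⟩ := exists_smul_eq q v
      have h0 : f ∘ B.mulVec m = 0 := by rw [← hmap, ← hm, Matrix.mulVec_smul, hv, smul_zero]
      obtain ⟨t, ht, htm⟩ := (vec_eq_zero_iff q _).1 h0
      obtain ⟨t', ht', hmem⟩ := h (t • m) (by rwa [Matrix.mulVec_smul])
      obtain ⟨_, ⟨y, rfl⟩, j, hj, hsum⟩ := Submodule.mem_sup.1 hmem
      have hj0 : f ∘ j = 0 :=
        (vec_eq_zero_iff q _).2 ⟨1, fun h1 => q.2.ne_top (q.asIdeal.eq_top_iff_one.2 h1), by rwa [one_smul]⟩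
      have hA : (A.map f).mulVec (f ∘ y) = (f t' * f t * f d) • v := by
        have h2 : f ∘ (t' • t • m) = f ∘ A.mulVec y := by
          funext i
          have h3 := congrFun hsum i
          have h4 := congrFun hj0 i
          simp only [Function.comp_apply, Pi.zero_apply] at h4
          simp only [Function.comp_apply, ← h3, Pi.add_apply, map_add, h4, add_zero,
            Matrix.mulVecLin_apply]
        rw [hmap, ← h2, hsmul, hsmul, ← hm, smul_smul, smul_smul, mul_assoc]
      obtain ⟨c, hc⟩ := ((isUnit_fib q ht').mul (isUnit_fib q ht)).mul (isUnit_fib (R := R) q hd)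
      refine ⟨(↑c⁻¹ : EGA4.FibLocRing R S q.asIdeal) • (f ∘ y), ?_⟩
      rw [Matrix.mulVecLin_apply, Matrix.mulVec_smul, hA, ← hc, smul_smul, Units.inv_mul, one_smul]
    · rintro _ ⟨w, rfl⟩
      rw [LinearMap.mem_ker, Matrix.mulVecLin_apply, Matrix.mulVecLin_apply, Matrix.mulVec_mulVec,
        ← Matrix.map_mul, hBA, Matrix.map_zero _ (map_zero f), Matrix.zero_mulVec]

end Aux

/-- Let R be Noetherian, R → S flat of finite type whose fibre rings are Cohen–Macaulay and
equidimensional of dimension d, and let 0 → S^{n_e} → ⋯ → S^{n_1} → S^{n_0} be a complex of finite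
free S-modules, the map S^{n_{i+1}} → S^{n_i} being given by the matrix φ_i. Then the set of primes
q of S such that the complex is exact (exact at each S^{n_i} with 0 < i < e and injective at
S^{n_e}) after base change to the fibre local ring S_q/pS_q, p = q ∩ R, is open in Spec S. (The
published statement asks only that the fibres be Cohen–Macaulay of dimension d; this row assumes
them equidimensional of dimension d, the hypothesis the printed argument uses.) -/
theorem result (R S : Type u) [CommRing R] [IsNoetherianRing R] [CommRing S]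
    [Algebra R S] [Algebra.FiniteType R S] [Module.Flat R S] (d : ℕ)
    (hCM : ∀ p : PrimeSpectrum R, LocCoh.IsCohenMacaulayRing (p.asIdeal.Fiber S))
    (heq : ∀ p : PrimeSpectrum R, ∀ P ∈ minimalPrimes (p.asIdeal.Fiber S),
      ringKrullDim (p.asIdeal.Fiber S ⧸ P) = (d : WithBot ℕ∞))
    (e : ℕ) (n : ℕ → ℕ) (φ : (i : ℕ) → Matrix (Fin (n i)) (Fin (n (i + 1))) S)
    (hφ : ∀ i, i + 2 ≤ e → φ i * φ (i + 1) = 0) :
    IsOpen {q : PrimeSpectrum S |
      (∀ i, i + 2 ≤ e →
        LinearMap.ker (Matrix.mulVecLin ((φ i).map (algebraMap S (EGA4.FibLocRing R S q.asIdeal)))) =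
          LinearMap.range (Matrix.mulVecLin ((φ (i + 1)).map (algebraMap S (EGA4.FibLocRing R S q.asIdeal))))) ∧
      (1 ≤ e → Function.Injective
        (Matrix.mulVecLin ((φ (e - 1)).map (algebraMap S (EGA4.FibLocRing R S q.asIdeal)))))} := by
  classical
  haveI : Algebra.FinitePresentation R S := Algebra.FinitePresentation.of_finiteType.1 inferInstance
  haveI : IsNoetherianRing S := Algebra.FiniteType.isNoetherianRing R S
  let K : (i : ℕ) → Submodule S (Fin (n (i + 1)) → S) :=
    fun i => if i + 2 ≤ e then LinearMap.range (φ (i + 1)).mulVecLin else ⊥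
  have hK : ∀ i, K i ≤ LinearMap.ker (φ i).mulVecLin := by
    intro i
    simp only [K]
    split_ifs with hi
    · rintro _ ⟨w, rfl⟩
      rw [LinearMap.mem_ker, Matrix.mulVecLin_apply, Matrix.mulVecLin_apply, Matrix.mulVec_mulVec,
        hφ i hi, Matrix.zero_mulVec]
    · exact bot_le
  let u := fun i => (K i).liftQ (φ i).mulVecLin (hK i)
  haveI : ∀ i, Module.FinitePresentation S ((Fin (n (i + 1)) → S) ⧸ K i) :=
    fun i => Module.finitePresentation_of_finite S _
  let O := fun i => {q : PrimeSpectrum S |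
    FlatCA.FlatAt R q.asIdeal ((Fin (n i) → S) ⧸ LinearMap.range (u i)) ∧
      ∀ m, u i m = 0 → ∃ s ∉ q.asIdeal, s • m = 0}
  -- each condition is injectivity in the fibre
  have hO : ∀ i q, q ∈ O i ↔ ∀ m : Fin (n (i + 1)) → S, (φ i).mulVec m ∈
      ((PrimeSpectrum.asIdeal q).comap (algebraMap R S)).map (algebraMap R S) •
        (⊤ : Submodule S (Fin (n i) → S)) →
      ∃ s ∉ q.asIdeal, s • m ∈ K i ⊔ (q.asIdeal.comap (algebraMap R S)).map (algebraMap R S) •
        (⊤ : Submodule S (Fin (n (i + 1)) → S)) := by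
    intro i q
    have hflat : FlatCA.FlatAt R q.asIdeal (Fin (n i) → S) := by
      haveI : Module.Flat S (LocalizedModule q.asIdeal.primeCompl (Fin (n i) → S)) :=
        haveI : Module.Flat S (Localization q.asIdeal.primeCompl) :=
          IsLocalization.flat _ q.asIdeal.primeCompl
        Module.Flat.of_linearEquiv
          ((LocalizedModule.equivTensorProduct q.asIdeal.primeCompl (Fin (n i) → S)).restrictScalars S)
      exact Module.Flat.trans R S _
    have hsup : ∀ (J : Ideal S) (m : Fin (n (i + 1)) → S),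
        (Submodule.Quotient.mk m : (Fin (n (i + 1)) → S) ⧸ K i) ∈
          J • (⊤ : Submodule S ((Fin (n (i + 1)) → S) ⧸ K i)) ↔ m ∈ K i ⊔ J • ⊤ := fun J m => by
      rw [show (⊤ : Submodule S ((Fin (n (i + 1)) → S) ⧸ K i)) =
          (⊤ : Submodule S (Fin (n (i + 1)) → S)).map (K i).mkQ from by
        rw [Submodule.map_top, Submodule.range_mkQ], ← Submodule.map_smul'', ← (K i).mkQ_apply,
        ← Submodule.mem_comap, Submodule.comap_map_eq, Submodule.ker_mkQ, sup_comm]
    constructor
    · rintro ⟨hC, hinj⟩ m hm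
      obtain ⟨s, hs, hsm⟩ := FlatOpen.fibEq_of_injective_coker_flat R S (u i) q.asIdeal hC hinj
        (q.asIdeal.comap (algebraMap R S)) (Submodule.Quotient.mk m) hm
      rw [← Submodule.Quotient.mk_smul, hsup] at hsm
      exact ⟨s, hs, hsm⟩
    · intro h
      refine FlatOpen.injective_coker_flat_of_fibEq R S (u i) q.asIdeal hflat fun m hm => ?_
      obtain ⟨m, rfl⟩ := Submodule.Quotient.mk_surjective _ m
      obtain ⟨s, hs, hsm⟩ := h m hm
      exact ⟨s, hs, by rw [← Submodule.Quotient.mk_smul, hsup]; exact hsm⟩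
  suffices hset : ∀ q : PrimeSpectrum S,
      ((∀ i, i + 2 ≤ e →
        LinearMap.ker (Matrix.mulVecLin ((φ i).map (algebraMap S (EGA4.FibLocRing R S q.asIdeal)))) =
          LinearMap.range (Matrix.mulVecLin
            ((φ (i + 1)).map (algebraMap S (EGA4.FibLocRing R S q.asIdeal))))) ∧
      (1 ≤ e → Function.Injective
        (Matrix.mulVecLin ((φ (e - 1)).map (algebraMap S (EGA4.FibLocRing R S q.asIdeal)))))) ↔
      q ∈ ⋂ i : Fin e, O i by
    rw [show {q : PrimeSpectrum S | _} = ⋂ i : Fin e, O i from Set.ext hset]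
    exact isOpen_iInter_of_finite fun i => FlatOpen.isOpen_injective_coker_flat R S (u i)
  intro q
  have htop : ∀ i, ¬ i + 2 ≤ e →
      (Function.Injective (Matrix.mulVecLin ((φ i).map (algebraMap S (EGA4.FibLocRing R S q.asIdeal)))) ↔
        q ∈ O i) := by
    intro i hi
    rw [hO]
    simp only [K, if_neg hi]
    have hz : LinearMap.range (Matrix.mulVecLin
        (0 : Matrix (Fin (n (i + 1))) (Fin 0) (EGA4.FibLocRing R S q.asIdeal))) = ⊥ := by
      rw [Matrix.mulVecLin_zero, LinearMap.range_zero]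
    have hzS : LinearMap.range (Matrix.mulVecLin (0 : Matrix (Fin (n (i + 1))) (Fin 0) S)) = ⊥ := by
      rw [Matrix.mulVecLin_zero, LinearMap.range_zero]
    rw [← LinearMap.ker_eq_bot, ← hzS, ← exact_iff q 0 (φ i) (Matrix.mul_zero _),
      Matrix.map_zero _ (map_zero _), hz]
  rw [Set.mem_iInter]
  constructor
  · rintro ⟨h1, h2⟩ ⟨i, hi⟩
    by_cases hi2 : i + 2 ≤ e
    · rw [hO]
      simp only [K, if_pos hi2]
      exact (exact_iff q (φ (i + 1)) (φ i) (hφ i hi2)).1 (h1 i hi2)
    · obtain rfl : i = e - 1 := by omega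
      exact (htop _ hi2).1 (h2 (by omega))
  · intro h
    refine ⟨fun i hi => (exact_iff q (φ (i + 1)) (φ i) (hφ i hi)).2 ?_, fun he =>
      (htop (e - 1) (by omega)).2 (h ⟨e - 1, by omega⟩)⟩
    have := h ⟨i, by omega⟩
    rw [hO] at this
    simp only [K, if_pos hi] at this
    exact this

end Groth.Agent.S9184
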