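import Groth.Statements.S9195
import Groth.Agent.FlatMisc.FibreDimScheme
import Groth.Agent.AlgSpD.FibreDimBC
import Groth.Agent.LimLib.Basic
import Mathlib.AlgebraicGeometry.AffineTransitionLimit

set_option autoImplicit false
universe u
open CategoryTheory AlgebraicGeometry
open Lim

namespace Groth.Agent.S9195

/-- Let S = lim S_i be a cofiltered limit of schemes with affine transition morphisms, S_{i₀} a
quasi-compact quasi-separated stage, f₀ : X₀ → Y₀ a morphism of quasi-compact quasi-separated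
schemes over S_{i₀}, and f : X → Y its base change along S → S_{i₀} (base changes expressed by
pullback squares). Let d be a natural number. If f₀ is locally of finite type and f has relative
dimension at most d (every fibre of f has local dimension at most d at each of its points), then for
some index i over i₀ the base change f_i : X_i → Y_i of f₀ along S_i → S_{i₀} has relative dimension
at most d. -/
theorem result {I : Type u} [SmallCategory I] [IsCofiltered I]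
    (D : I ⥤ Scheme.{u}) (c : Limits.Cone D) (hc : Limits.IsLimit c)
    [∀ (i j : I) (f : i ⟶ j), IsAffineHom (D.map f)] (i₀ : I) [CompactSpace (D.obj i₀)]
    [QuasiSeparatedSpace (D.obj i₀)] {X₀ Y₀ : Scheme.{u}} (f₀ : X₀ ⟶ Y₀) (g₀ : Y₀ ⟶ D.obj i₀)
    [CompactSpace X₀] [QuasiSeparatedSpace X₀] [CompactSpace Y₀] [QuasiSeparatedSpace Y₀]
    [LocallyOfFiniteType f₀] (d : ℕ)
    {X Y : Scheme.{u}} (f : X ⟶ Y) (g : Y ⟶ c.pt) (qY : Y ⟶ Y₀) (qX : X ⟶ X₀)
    (hY : IsPullback qY g g₀ (c.π.app i₀)) (hX : IsPullback qX f f₀ qY) (hd : ∀ x : X, FlatMor.fibreDimAt f x ≤ d) :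
    ∃ (i : I) (φ : i ⟶ i₀) (Xi Yi : Scheme.{u}) (fi : Xi ⟶ Yi) (gi : Yi ⟶ D.obj i) (pY : Yi ⟶ Y₀)
      (pX : Xi ⟶ X₀), IsPullback pY gi g₀ (D.map φ) ∧ IsPullback pX fi f₀ pY ∧ ∀ x : Xi, FlatMor.fibreDimAt fi x ≤ d := by
  let U : X₀.Opens :=
    ⟨{x | FlatMor.fibreDimAt f₀ x ≤ d}, Groth.Agent.FlatMisc.FibreDimScheme.isOpen_fibreDimAt_le f₀ d⟩
  have hXY : IsPullback qX (f ≫ g) (f₀ ≫ g₀) (c.π.app i₀) := hX.paste_vert hY
  let p₀ : (Groth.Agent.LimLib.bcDiag D i₀ (f₀ ≫ g₀)).obj (Over.mk (𝟙 i₀)) ⟶ X₀ :=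
    Limits.pullback.fst (f₀ ≫ g₀) (D.map (𝟙 i₀))
  have hqX : (Groth.Agent.LimLib.bcCone hXY).π.app (Over.mk (𝟙 i₀)) ≫ p₀ = qX :=
    Limits.pullback.lift_fst _ _ _
  obtain ⟨k, a, hk⟩ := exists_map_eq_top _ _ (Groth.Agent.LimLib.isLimitBcCone hc hXY)
    (i := Over.mk (𝟙 i₀)) (p₀ ⁻¹ᵁ U) (by
      refine top_le_iff.1 fun x _ => ?_
      show p₀ ((Groth.Agent.LimLib.bcCone hXY).π.app (Over.mk (𝟙 i₀)) x) ∈ U
      rw [← Scheme.Hom.comp_apply, hqX]
      show FlatMor.fibreDimAt f₀ (qX x) ≤ d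
      rw [← Groth.Agent.AlgSpD.fibreDimAt_of_isPullback f₀ hX x]
      exact hd x)
  let pY := Limits.pullback.fst g₀ (D.map k.hom)
  let pX := Limits.pullback.fst f₀ pY
  let fi := Limits.pullback.snd f₀ pY
  refine ⟨k.left, k.hom, _, _, fi, Limits.pullback.snd g₀ (D.map k.hom), pY, pX,
    IsPullback.of_hasPullback _ _, IsPullback.of_hasPullback _ _, fun x => ?_⟩
  rw [Groth.Agent.AlgSpD.fibreDimAt_of_isPullback f₀ (IsPullback.of_hasPullback f₀ pY) x]
  let r : Limits.pullback f₀ pY ⟶ (Groth.Agent.LimLib.bcDiag D i₀ (f₀ ≫ g₀)).obj k :=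
    Limits.pullback.lift pX (fi ≫ Limits.pullback.snd g₀ (D.map k.hom)) (by
      simp [pX, fi, pY, Limits.pullback.condition_assoc, Limits.pullback.condition])
  have hr : (Groth.Agent.LimLib.bcDiag D i₀ (f₀ ≫ g₀)).map a ≫ p₀ =
      Limits.pullback.fst (f₀ ≫ g₀) (D.map k.hom) := Limits.pullback.lift_fst _ _ _
  have := hk.ge (TopologicalSpace.Opens.mem_top (r x))
  show pX x ∈ U
  have e : r ≫ (Groth.Agent.LimLib.bcDiag D i₀ (f₀ ≫ g₀)).map a ≫ p₀ = pX := by
    rw [hr]; exact Limits.pullback.lift_fst _ _ _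
  rw [← e]
  exact this

end Groth.Agent.S9195
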