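import Groth.Statements.S9196
import Groth.Agent.LimLib.Props
import Groth.Agent.LimTop.Cons
import Groth.Agent.LimTop.Basic
import Groth.Agent.FlatOpen.EquiDim
import Groth.Agent.AlgSpD.FibreDimBC
import Groth.Agent.S0402
import Groth.Agent.S9355

set_option autoImplicit false
universe u
open CategoryTheory AlgebraicGeometry
open Lim

namespace Groth.Agent.S9196

theorem hasRelDim_iff {X Y : Scheme.{u}} (f : X ⟶ Y) [LocallyOfFiniteType f] (d : ℕ) :
    Cyc.HasRelDim f d ↔ ∀ x : X, FlatMor.fibreDimAt f x = d :=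
  ⟨fun h x => FlatOpen.EquiDim.fibreDimAt_eq_of_hasRelDim f h x,
    fun h => (FlatOpen.EquiDim.hasRelDim_iff_trdeg f d).2 fun x hx =>
      FlatOpen.EquiDim.fibreDimAt_eq_trdeg f hx (h x)⟩

theorem zero_le_fibreDimAt {X Y : Scheme.{u}} (f : X ⟶ Y) (x : X) : 0 ≤ FlatMor.fibreDimAt f x := by
  refine le_iInf fun U => ?_
  haveI : Nonempty ↥(U.1 : Set ↥(f.fiber (f.base x))) := ⟨⟨_, U.2⟩⟩
  let z : ↥(U.1 : Set ↥(f.fiber (f.base x))) := ⟨_, U.2⟩
  haveI : Nonempty (TopologicalSpace.IrreducibleCloseds ↥(U.1 : Set ↥(f.fiber (f.base x)))) :=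
    ⟨⟨closure {z}, isIrreducible_singleton.closure, isClosed_closure⟩⟩
  exact Order.krullDim_nonneg

theorem isConstructible_bad {X Y : Scheme.{u}} (f : X ⟶ Y) [LocallyOfFinitePresentation f]
    [CompactSpace X] [QuasiSeparatedSpace X] (d : ℕ) :
    Topology.IsConstructible {x : X | FlatMor.fibreDimAt f x ≠ d} := by
  have hc : ∀ n : ℕ, Topology.IsConstructible {x : X | FlatMor.fibreDimAt f x ≤ n} := fun n =>
    (S9355.result f n).isConstructible (S0402.result f n)
  cases d with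
  | zero =>
    convert (hc 0).compl using 1
    ext x
    exact not_congr ⟨fun h => h.le, fun h => le_antisymm h (zero_le_fibreDimAt f x)⟩
  | succ d =>
    convert ((hc (d + 1)).compl.union (hc d)) using 1
    ext x
    have hlt : ((d : ℕ) : WithBot ℕ∞) < ((d + 1 : ℕ) : WithBot ℕ∞) := by exact_mod_cast Nat.lt_succ_self d
    show FlatMor.fibreDimAt f x ≠ ((d + 1 : ℕ) : WithBot ℕ∞) ↔
      ¬ FlatMor.fibreDimAt f x ≤ ((d + 1 : ℕ) : WithBot ℕ∞) ∨ FlatMor.fibreDimAt f x ≤ ((d : ℕ) : WithBot ℕ∞)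
    refine ⟨fun h => ?_, fun h he => ?_⟩
    · by_contra hcon
      push Not at hcon
      obtain ⟨h1, h2⟩ := hcon
      refine h (le_antisymm h1 ?_)
      generalize FlatMor.fibreDimAt f x = v at h2
      induction v using WithBot.recBotCoe with
      | bot => simp at h2
      | coe v =>
        have h2' : (d : ℕ∞) < v := WithBot.coe_lt_coe.mp h2
        exact WithBot.coe_le_coe.mpr (show ((d + 1 : ℕ) : ℕ∞) ≤ v from Order.add_one_le_of_lt h2')
    · rcases h with h | h
      · exact h he.le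
      · exact hlt.not_ge (he ▸ h)

/-- The property being descended. -/
def P (d : ℕ) : MorphismProperty Scheme.{u} := fun _ _ f => LocallyOfFiniteType f ∧ Cyc.HasRelDim f d

theorem descends_hasRelDim (d : ℕ) : LimLib.Descends.{u} (P d) @LocallyOfFinitePresentation := by
  intro I _ _ D c hc hD hqc hqs i X₀ f₀ _ _ hQ X q f hf hP
  obtain ⟨hlft, hd⟩ := hP
  haveI : LocallyOfFinitePresentation f₀ := hQ
  haveI := hqc i
  haveI := hqs i
  let C : Set (D.obj i) := (f₀ '' {x | FlatMor.fibreDimAt f₀ x ≠ d})ᶜ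
  have hC : Topology.IsLocallyConstructible C :=
    LimTop.isLocallyConstructible_compl
      (f₀.isLocallyConstructible_image (isConstructible_bad f₀ d).isLocallyConstructible)
  obtain ⟨k, ψ, hsub⟩ := LimTop.exists_subset hc (i₀ := i) (fun _ _ ↦ Set.univ)
    (fun l χ ↦ D.map χ ⁻¹' C) (fun _ _ ↦ LimTop.isProConstructible_of_isLocallyConstructible .univ)
    (fun l χ ↦ LimTop.isIndConstructible_of_isLocallyConstructible
      (LimTop.isLocallyConstructible_preimage _ hC))
    (fun _ _ _ _ ↦ Set.subset_univ _)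
    (fun l m χ' χ x hx ↦ by
      show D.map (χ' ≫ χ) x ∈ C
      rw [D.map_comp, Scheme.Hom.comp_apply]
      exact hx)
    (fun s _ ↦ ⟨i, 𝟙 i, by
      show D.map (𝟙 i) (c.π.app i s) ∈ C
      rw [D.map_id]
      rintro ⟨x, hx, hxs⟩
      obtain ⟨x', hx', -⟩ := Scheme.exists_preimage_of_isPullback hf x s hxs
      refine hx ?_
      rw [← hx', ← AlgSpD.fibreDimAt_of_isPullback f₀ hf x']
      exact (hasRelDim_iff f d).1 hd x'⟩)
  refine ⟨k, ψ, inferInstance, (hasRelDim_iff _ d).2 fun x => ?_⟩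
  rw [AlgSpD.fibreDimAt_of_isPullback f₀ (IsPullback.of_hasPullback f₀ (D.map ψ)) x]
  by_contra hne
  exact hsub (Set.mem_univ (Limits.pullback.snd f₀ (D.map ψ) x))
    ⟨_, hne, by rw [← Scheme.Hom.comp_apply, Limits.pullback.condition, Scheme.Hom.comp_apply]⟩


/-- Let S = lim S_i be a cofiltered limit of schemes with affine transition morphisms, S_{i₀} a
quasi-compact quasi-separated stage, f₀ : X₀ → Y₀ a morphism of quasi-compact quasi-separated
schemes over S_{i₀}, and f : X → Y its base change along S → S_{i₀} (base changes expressed by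
pullback squares). Let d be a natural number. If f₀ is locally of finite presentation and f has
relative dimension d (every irreducible component of every fibre of f has dimension d), then for
some index i over i₀ the base change f_i : X_i → Y_i of f₀ along S_i → S_{i₀} has relative dimension
d. -/
theorem result {I : Type u} [SmallCategory I] [IsCofiltered I]
    (D : I ⥤ Scheme.{u}) (c : Limits.Cone D) (hc : Limits.IsLimit c)
    [∀ (i j : I) (f : i ⟶ j), IsAffineHom (D.map f)] (i₀ : I) [CompactSpace (D.obj i₀)]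
    [QuasiSeparatedSpace (D.obj i₀)] {X₀ Y₀ : Scheme.{u}} (f₀ : X₀ ⟶ Y₀) (g₀ : Y₀ ⟶ D.obj i₀)
    [CompactSpace X₀] [QuasiSeparatedSpace X₀] [CompactSpace Y₀] [QuasiSeparatedSpace Y₀]
    [LocallyOfFinitePresentation f₀] (d : ℕ)
    {X Y : Scheme.{u}} (f : X ⟶ Y) (g : Y ⟶ c.pt) (qY : Y ⟶ Y₀) (qX : X ⟶ X₀)
    (hY : IsPullback qY g g₀ (c.π.app i₀)) (hX : IsPullback qX f f₀ qY) (hd : Cyc.HasRelDim f d) :
    ∃ (i : I) (φ : i ⟶ i₀) (Xi Yi : Scheme.{u}) (fi : Xi ⟶ Yi) (gi : Yi ⟶ D.obj i) (pY : Yi ⟶ Y₀)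
      (pX : Xi ⟶ X₀), IsPullback pY gi g₀ (D.map φ) ∧ IsPullback pX fi f₀ pY ∧ Cyc.HasRelDim fi d := by
  haveI : (P d).RespectsIso := by
    refine MorphismProperty.RespectsIso.mk _ (fun {A B C} e h hh ↦ ?_) (fun {A B C} e h hh ↦ ?_)
    · obtain ⟨h1, h2⟩ := hh
      refine ⟨inferInstance, (hasRelDim_iff _ d).2 fun x => ?_⟩
      rw [AlgSpD.fibreDimAt_of_isPullback h (IsPullback.of_horiz_isIso ⟨by simp⟩ : IsPullback e.hom (e.hom ≫ h) h (𝟙 C)) x]
      exact (hasRelDim_iff h d).1 h2 _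
    · obtain ⟨h1, h2⟩ := hh
      refine ⟨inferInstance, (hasRelDim_iff _ d).2 fun x => ?_⟩
      rw [AlgSpD.fibreDimAt_of_isPullback h (IsPullback.of_horiz_isIso ⟨by simp⟩ : IsPullback (𝟙 A) (h ≫ e.hom) h e.inv) x]
      exact (hasRelDim_iff h d).1 h2 _
  haveI : LocallyOfFiniteType f := MorphismProperty.of_isPullback hX (inferInstanceAs (LocallyOfFiniteType f₀))
  obtain ⟨i, φ, Xi, Yi, fi, gi, pY, pX, h1, h2, -, h3⟩ := LimLib.Descends.exists_stage (P := P d) hc f₀ hY hX
    (descends_hasRelDim d) inferInstance ⟨inferInstance, hd⟩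
  exact ⟨i, φ, Xi, Yi, fi, gi, pY, pX, h1, h2, h3⟩

end Groth.Agent.S9196
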