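import Groth.Statements.S9197
import Groth.Agent.LimLib.Props
import Groth.Agent.FlatDescends.Basic
import Groth.Agent.LimTop.Basic
import Groth.Agent.LimTop.Cons

set_option autoImplicit false
universe u
open CategoryTheory AlgebraicGeometry
open Lim

namespace Groth.Agent.S9197

/-- The property being descended. -/
def P (d : ℕ) : MorphismProperty Scheme.{u} := fun _ _ f => Mor2.IsFinLocFreeOfDeg d f

theorem descends_finLocFreeOfDeg (d : ℕ) :
    LimLib.Descends.{u} (P d)
      @LocallyOfFinitePresentation := by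
  intro I _ _ D c hc hD hqc hqs i X₀ f₀ _ _ hQ X q f hf hP
  obtain ⟨⟨hfin, hfl, -⟩, hd⟩ := hP
  haveI : LocallyOfFinitePresentation f₀ := hQ
  obtain ⟨j₁, φ₁, h₁⟩ := LimLib.descends_isFinite D c hc hD hqc hqs i X₀ f₀ inferInstance inferInstance
    (inferInstanceAs (LocallyOfFiniteType f₀)) X q f hf hfin
  obtain ⟨j₂, φ₂, h₂⟩ := FlatDescends.descends_flat D c hc hD hqc hqs i X₀ f₀ inferInstance inferInstance
    hQ X q f hf hfl
  obtain ⟨j, a, b, hab⟩ := IsCofiltered.cospan φ₁ φ₂
  let φ : j ⟶ i := a ≫ φ₁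
  haveI : IsFinite (Limits.pullback.snd f₀ (D.map φ)) :=
    LimLib.property_of_factor (P := @IsFinite) (IsPullback.of_hasPullback f₀ (D.map φ₁))
      (IsPullback.of_hasPullback f₀ (D.map φ)) (D.map a) (D.map_comp a φ₁).symm h₁
  haveI : Flat (Limits.pullback.snd f₀ (D.map φ)) :=
    LimLib.property_of_factor (P := @Flat) (IsPullback.of_hasPullback f₀ (D.map φ₂))
      (IsPullback.of_hasPullback f₀ (D.map φ)) (D.map b)
      ((D.map_comp b φ₂).symm.trans (congrArg D.map hab.symm)) h₂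
  let fj := Limits.pullback.snd f₀ (D.map φ)
  let C : Set (D.obj j) := {y | fj.finrank y = d}
  have hC : Topology.IsLocallyConstructible C := by
    have h := (Scheme.Hom.isLocallyConstant_finrank fj).isClopen_fiber d
    haveI := hqc j
    haveI := hqs j
    refine Topology.IsConstructible.isLocallyConstructible ?_
    exact (h.1.isCompact).isConstructible h.2
  have hw : IsPullback (Limits.pullback.lift q (f ≫ c.π.app j) (by rw [hf.w, Category.assoc, c.w]))
      f fj (c.π.app j) := by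
    refine IsPullback.of_right (h₁₂ := Limits.pullback.fst f₀ (D.map φ)) ?_ (Limits.pullback.lift_snd _ _ _)
      (IsPullback.of_hasPullback f₀ (D.map φ))
    rw [Limits.pullback.lift_fst]
    simpa [← D.map_comp] using (show IsPullback q f f₀ (c.π.app j ≫ D.map φ) by rw [c.w]; exact hf)
  obtain ⟨k, ψ, hsub⟩ := LimTop.exists_subset hc (i₀ := j) (fun _ _ ↦ Set.univ)
    (fun l χ ↦ D.map χ ⁻¹' C) (fun _ _ ↦ LimTop.isProConstructible_of_isLocallyConstructible .univ)
    (fun l χ ↦ LimTop.isIndConstructible_of_isLocallyConstructible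
      (LimTop.isLocallyConstructible_preimage _ hC))
    (fun _ _ _ _ ↦ Set.subset_univ _)
    (fun l m χ' χ x hx ↦ by
      show D.map (χ' ≫ χ) x ∈ C
      rw [D.map_comp, Scheme.Hom.comp_apply]
      exact hx)
    (fun s _ ↦ ⟨j, 𝟙 j, by
      show D.map (𝟙 j) (c.π.app j s) ∈ C
      rw [D.map_id]
      exact (Scheme.Hom.finrank_of_isPullback _ _ _ _ hw s).symm.trans (hd s)⟩)
  refine ⟨k, ψ ≫ φ, ?_⟩
  have hk : IsPullback (Limits.pullback.lift (Limits.pullback.fst f₀ (D.map (ψ ≫ φ)))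
      (Limits.pullback.snd f₀ (D.map (ψ ≫ φ)) ≫ D.map ψ)
      (by rw [Limits.pullback.condition, Category.assoc, D.map_comp])) (Limits.pullback.snd f₀ (D.map (ψ ≫ φ)))
      fj (D.map ψ) := by
    refine IsPullback.of_right (h₁₂ := Limits.pullback.fst f₀ (D.map φ)) ?_ (Limits.pullback.lift_snd _ _ _)
      (IsPullback.of_hasPullback f₀ (D.map φ))
    rw [Limits.pullback.lift_fst, ← D.map_comp]
    exact IsPullback.of_hasPullback f₀ (D.map (ψ ≫ φ))
  exact ⟨⟨MorphismProperty.of_isPullback hk ‹IsFinite fj›,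
    MorphismProperty.of_isPullback hk ‹Flat fj›, inferInstance⟩,
    fun y ↦ (Scheme.Hom.finrank_of_isPullback _ _ _ _ hk y).trans (hsub (Set.mem_univ y))⟩


/-- Let S = lim S_i be a cofiltered limit of schemes with affine transition morphisms, S_{i₀} a
quasi-compact quasi-separated stage, f₀ : X₀ → Y₀ a morphism of quasi-compact quasi-separated
schemes over S_{i₀}, and f : X → Y its base change along S → S_{i₀} (base changes expressed by
pullback squares). Let d be a natural number. If f₀ is locally of finite presentation and f is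
finite locally free of degree d (finite, flat, locally of finite presentation, with rank function
constant equal to d), then for some index i over i₀ the base change f_i : X_i → Y_i of f₀ along S_i
→ S_{i₀} is finite locally free of degree d. -/
theorem result {I : Type u} [SmallCategory I] [IsCofiltered I]
    (D : I ⥤ Scheme.{u}) (c : Limits.Cone D) (hc : Limits.IsLimit c)
    [∀ (i j : I) (f : i ⟶ j), IsAffineHom (D.map f)] (i₀ : I) [CompactSpace (D.obj i₀)]
    [QuasiSeparatedSpace (D.obj i₀)] {X₀ Y₀ : Scheme.{u}} (f₀ : X₀ ⟶ Y₀) (g₀ : Y₀ ⟶ D.obj i₀)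
    [CompactSpace X₀] [QuasiSeparatedSpace X₀] [CompactSpace Y₀] [QuasiSeparatedSpace Y₀]
    [LocallyOfFinitePresentation f₀] (d : ℕ)
    {X Y : Scheme.{u}} (f : X ⟶ Y) (g : Y ⟶ c.pt) (qY : Y ⟶ Y₀) (qX : X ⟶ X₀)
    (hY : IsPullback qY g g₀ (c.π.app i₀)) (hX : IsPullback qX f f₀ qY) (hf : Mor2.IsFinLocFreeOfDeg d f) :
    ∃ (i : I) (φ : i ⟶ i₀) (Xi Yi : Scheme.{u}) (fi : Xi ⟶ Yi) (gi : Yi ⟶ D.obj i) (pY : Yi ⟶ Y₀)
      (pX : Xi ⟶ X₀), IsPullback pY gi g₀ (D.map φ) ∧ IsPullback pX fi f₀ pY ∧ Mor2.IsFinLocFreeOfDeg d fi := by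
  haveI : (P d).RespectsIso := by
    refine MorphismProperty.RespectsIso.mk _ (fun {A B C} e h hh ↦ ?_) (fun {A B C} e h hh ↦ ?_)
    · obtain ⟨⟨h1, h2, h3⟩, h4⟩ := hh
      exact ⟨⟨inferInstance, inferInstance, inferInstance⟩, by rw [Scheme.Hom.finrank_comp_left_of_isIso]; exact h4⟩
    · obtain ⟨⟨h1, h2, h3⟩, h4⟩ := hh
      refine ⟨⟨inferInstance, inferInstance, inferInstance⟩, fun y ↦ ?_⟩
      rw [Scheme.Hom.finrank_of_isPullback (𝟙 A) (h ≫ e.hom) h e.inv (IsPullback.of_horiz_isIso ⟨by simp⟩) y]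
      exact h4 _
  exact LimLib.Descends.exists_stage (P := P d) hc f₀ hY hX (descends_finLocFreeOfDeg d) inferInstance hf

end Groth.Agent.S9197
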