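import Groth.Statements.S9198
import Groth.Agent.LimLib.Props
import Groth.Agent.FlatDescends.Basic
import Groth.Agent.LimTop.Basic
import Groth.Agent.LimTop.Cons
import Groth.Agent.CIntCI.Syntomic
import Groth.Agent.Synt44.Descent
import Groth.Agent.Synt44.CILocal
import Groth.Agent.S9699

set_option autoImplicit false
universe u
open CategoryTheory AlgebraicGeometry
open Lim

namespace Groth.Agent.S9198

open Limits in
theorem isPullback_comp_mono {P A B C C' : Scheme.{u}} {fst : P ⟶ A} {snd : P ⟶ B} {a : A ⟶ C} {b : B ⟶ C}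
    (h : IsPullback fst snd a b) (m : C ⟶ C') [Mono m] : IsPullback fst snd (a ≫ m) (b ≫ m) := by
  refine IsPullback.of_isLimit' ⟨by rw [reassoc_of% h.w]⟩ (PullbackCone.IsLimit.mk _
    (fun s => h.lift s.fst s.snd ((cancel_mono m).1 (by simpa using s.condition)))
    (fun s => h.lift_fst _ _ _) (fun s => h.lift_snd _ _ _) fun s l h1 h2 => ?_)
  exact h.hom_ext (h1.trans (h.lift_fst _ _ _).symm) (h2.trans (h.lift_snd _ _ _).symm)

/-- A morphism of affine schemes is syntomic after a base change to a point iff the ring map is. -/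
theorem isSyntomic_tensor {A B : Type u} [CommRing A] [CommRing B] [Algebra A B] (K : Type u) [Field K]
    [Algebra A K] {P : Scheme.{u}} (fst : P ⟶ Spec (CommRingCat.of B)) (snd : P ⟶ Spec (CommRingCat.of K))
    (h : IsPullback fst snd (Spec.map (CommRingCat.ofHom (algebraMap A B)))
      (Spec.map (CommRingCat.ofHom (algebraMap A K)))) (hs : Synt44.syntomicMor snd) :
    Synt.IsLCIOver K (TensorProduct A K B) := by
  have hpo := isPullback_SpecMap_of_isPushout _ _ _ _
    (CommRingCat.isPushout_tensorProduct A K B)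
  have e := hpo.flip.isoIsPullback _ _ h
  have hsyn : Synt44.syntomicMor
      (Spec.map (CommRingCat.ofHom (Algebra.TensorProduct.includeLeftRingHom : K →+* TensorProduct A K B))) := by
    have he := IsPullback.isoIsPullback_hom_snd _ _ hpo.flip h
    rw [← he]
    exact (MorphismProperty.cancel_left_of_respectsIso _ _ _).2 hs
  have h1 : Synt.IsSyntomic K (TensorProduct A K B) :=
    Synt44.syntomicHom_algebraMap.1 ((HasRingHomProperty.Spec_iff (P := Synt44.syntomicMor)).1 hsyn)
  exact Synt44.isLCIOver_of_equiv (Algebra.TensorProduct.lid K (TensorProduct A K B))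
    (Synt44.isLCIOver_tensor K h1)

/-- The syntomic condition at a point may be tested on one field valued point under it. -/
theorem isSyntomicAt_of_point {X S : Scheme.{u}} (f : X ⟶ S) [LocallyOfFinitePresentation f] [Flat f] (x : X)
    {K : Type u} [Field K] (t : Spec (CommRingCat.of K) ⟶ S) (ht : ∀ z, t z = f x)
    (hs : Synt44.syntomicMor (Limits.pullback.snd f t)) : Synt.IsSyntomicAt f x := by
  obtain ⟨U, hU, V, hV, e, hx⟩ := EtStruct.exists_chart f x
  letI := (f.appLE U V e).hom.toAlgebra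
  haveI : IsOpenImmersion hU.fromSpec := inferInstance
  have hrange : Set.range t ⊆ Set.range hU.fromSpec := by
    rintro _ ⟨z, rfl⟩
    rw [hU.range_fromSpec, ht z]
    exact e hx
  obtain ⟨φ, hφ⟩ := Spec.map_surjective (IsOpenImmersion.lift hU.fromSpec t hrange)
  have htf : Spec.map φ ≫ hU.fromSpec = t := by rw [hφ, IsOpenImmersion.lift_fac]
  letI : Algebra Γ(S, U) K := φ.hom.toAlgebra
  let g : Spec (CommRingCat.of Γ(X, V)) ⟶ S := hV.fromSpec ≫ f
  have hg : g = Spec.map (CommRingCat.ofHom (algebraMap Γ(S, U) Γ(X, V))) ≫ hU.fromSpec :=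
    (hU.SpecMap_appLE_fromSpec f hV e).symm
  let P := Limits.pullback (Spec.map (CommRingCat.ofHom (algebraMap Γ(S, U) Γ(X, V)))) (Spec.map φ)
  have hP : IsPullback (Limits.pullback.fst _ _ : P ⟶ _) (Limits.pullback.snd _ _) g t := by
    rw [hg, ← htf]
    exact isPullback_comp_mono (IsPullback.of_hasPullback _ _) hU.fromSpec
  have hsnd : Synt44.syntomicMor (Limits.pullback.snd
      (Spec.map (CommRingCat.ofHom (algebraMap Γ(S, U) Γ(X, V)))) (Spec.map φ)) := by
    let r : P ⟶ Limits.pullback f t := Limits.pullback.lift (Limits.pullback.fst _ _ ≫ hV.fromSpec)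
      (Limits.pullback.snd _ _) (by rw [Category.assoc]; exact hP.w)
    have hr : IsPullback (Limits.pullback.fst _ _) r hV.fromSpec (Limits.pullback.fst f t) :=
      IsPullback.of_bot (h₁₁ := Limits.pullback.fst _ _) (v₁₁ := r)
        (by rw [Limits.pullback.lift_snd]; exact hP) (Limits.pullback.lift_fst _ _ _).symm
        (IsPullback.of_hasPullback f t)
    haveI : IsOpenImmersion r := MorphismProperty.of_isPullback hr (inferInstanceAs (IsOpenImmersion hV.fromSpec))
    have := IsZariskiLocalAtSource.comp (P := Synt44.syntomicMor) hs r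
    rwa [Limits.pullback.lift_snd] at this
  have hK := isSyntomic_tensor K _ _ (IsPullback.of_hasPullback
    (Spec.map (CommRingCat.ofHom (algebraMap Γ(S, U) Γ(X, V)))) (Spec.map φ)) hsnd
  let q := (hV.primeIdealOf ⟨x, hx⟩).asIdeal
  let p := q.under Γ(S, U)
  haveI : q.LiesOver p := ⟨rfl⟩
  obtain ⟨Q, hQ⟩ := RelDim.exists_over' p q
  have hp : Spec.map (CommRingCat.ofHom (algebraMap Γ(S, U) Γ(X, V))) (hV.primeIdealOf ⟨x, hx⟩)
      = Spec.map φ (IsLocalRing.closedPoint K) := by
    refine hU.fromSpec.isOpenEmbedding.injective ?_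
    rw [← Scheme.Hom.comp_apply, ← Scheme.Hom.comp_apply, htf, ← hg, Scheme.Hom.comp_apply,
      hV.fromSpec_primeIdealOf]
    exact (ht _).symm
  have hker : p = RingHom.ker (algebraMap Γ(S, U) K) := by
    have := congrArg PrimeSpectrum.asIdeal hp
    refine this.trans ?_
    show Ideal.comap φ.hom (IsLocalRing.maximalIdeal K) = RingHom.ker φ.hom
    rw [IsLocalRing.maximalIdeal_eq_bot, RingHom.ker_eq_comap_bot]
  let ι : p.ResidueField →ₐ[Γ(S, U)] K := Ideal.ResidueField.liftₐ p (Algebra.ofId Γ(S, U) K) hker.le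
    fun y hy => isUnit_iff_ne_zero.2 fun h0 => hy (hker ▸ h0)
  letI : Algebra p.ResidueField K := ι.toRingHom.toAlgebra
  haveI : IsScalarTower Γ(S, U) p.ResidueField K :=
    IsScalarTower.of_algebraMap_eq fun y => (ι.commutes y).symm
  haveI : Algebra.FiniteType Γ(S, U) Γ(X, V) := f.finiteType_appLE hU hV e
  have hfib : Synt.IsLCIOver p.ResidueField (p.Fiber Γ(X, V)) :=
    Synt44.isLCIOver_fiber_of_tensor (⟨p, inferInstance⟩ : PrimeSpectrum Γ(S, U)) K hK
  exact (CIntCI.isSyntomicAt_iff f x).2 ⟨Flat.stalkMap f x,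
    (CIntCI.isCI_fiberStalk_iff_chart f hU hV e hx p Q.asIdeal hQ).2
      (Synt44.isCIOver_atPrime hfib Q.asIdeal)⟩

theorem syntomicMor_chart {X S : Scheme.{u}} (f : X ⟶ S) {x : X} (h : Synt.IsSyntomicAt f x) :
    ∃ O : X.Opens, x ∈ O ∧ Synt44.syntomicMor (O.ι ≫ f) := by
  obtain ⟨⟨V, hV⟩, ⟨U, hU⟩, e, hx, hs⟩ := h
  refine ⟨V, hx, ?_⟩
  rw [← hV.isoSpec_hom_fromSpec, Category.assoc, ← hU.SpecMap_appLE_fromSpec f hV e,
    MorphismProperty.cancel_left_of_respectsIso Synt44.syntomicMor]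
  exact CIntCI.isSyntomicMor_comp _ _ ((HasRingHomProperty.Spec_iff (P := Synt44.syntomicMor)).2 hs)
    (S9699.result _)

theorem descends_syntomic : LimLib.Descends.{u} Synt44.syntomicMor @LocallyOfFinitePresentation := by
  intro I _ _ D c hc hD hqc hqs i X₀ f₀ _ _ hQ X q f hf hP
  haveI : LocallyOfFinitePresentation f₀ := hQ
  haveI hfl : Flat f := (CIntCI.flat_lfp_of_isSyntomicMor hP).1
  obtain ⟨j, φ, hj⟩ := FlatDescends.descends_flat D c hc hD hqc hqs i X₀ f₀ inferInstance inferInstance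
    hQ X q f hf hfl
  let fj := Limits.pullback.snd f₀ (D.map φ)
  haveI : Flat fj := hj
  haveI := hqc j
  haveI := hqs j
  haveI : CompactSpace ↥(Limits.pullback f₀ (D.map φ)) :=
    QuasiCompact.compactSpace_of_compactSpace (Limits.pullback.fst f₀ (D.map φ))
  haveI : QuasiSeparatedSpace ↥(Limits.pullback f₀ (D.map φ)) :=
    quasiSeparatedSpace_of_quasiSeparated (Limits.pullback.fst f₀ (D.map φ))
  haveI : CompactSpace c.pt := by
    haveI : IsAffineHom (c.π.app j) := isAffineHom_π_app _ _ hc j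
    exact QuasiCompact.compactSpace_of_compactSpace (c.π.app j)
  haveI : CompactSpace X := by
    haveI : IsAffineHom (c.π.app i) := isAffineHom_π_app _ _ hc i
    haveI : IsAffineHom q := MorphismProperty.of_isPullback hf.flip inferInstance
    exact QuasiCompact.compactSpace_of_compactSpace q
  have hw : IsPullback (Limits.pullback.lift q (f ≫ c.π.app j) (by rw [hf.w, Category.assoc, c.w]))
      f fj (c.π.app j) := by
    refine IsPullback.of_right (h₁₂ := Limits.pullback.fst f₀ (D.map φ)) ?_ (Limits.pullback.lift_snd _ _ _)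
      (IsPullback.of_hasPullback f₀ (D.map φ))
    rw [Limits.pullback.lift_fst]
    simpa [← D.map_comp] using (show IsPullback q f f₀ (c.π.app j ≫ D.map φ) by rw [c.w]; exact hf)
  let h : X ⟶ Limits.pullback f₀ (D.map φ) :=
    Limits.pullback.lift q (f ≫ c.π.app j) (by rw [hf.w, Category.assoc, c.w])
  have hpt : ∀ x : X, Synt.IsSyntomicAt fj (h x) := by
    intro x
    let t₀ : Spec (CommRingCat.of (c.pt.residueField (f x))) ⟶ c.pt := c.pt.fromSpecResidueField (f x)
    refine isSyntomicAt_of_point fj (h x) (t₀ ≫ c.π.app j) (fun z => ?_) ?_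
    · rw [Scheme.Hom.comp_apply, Scheme.fromSpecResidueField_apply, ← Scheme.Hom.comp_apply,
        ← Scheme.Hom.comp_apply, hw.w]
    · have h1 := (IsPullback.of_hasPullback f t₀).paste_horiz hw
      rw [← h1.isoPullback_inv_snd]
      exact (MorphismProperty.cancel_left_of_respectsIso _ _ _).2
        (MorphismProperty.pullback_snd _ _ hP)
  choose O hO hOs using fun x => syntomicMor_chart fj (hpt x)
  choose W hWa hWm hWO using fun x => exists_isAffineOpen_mem_and_subset (U := O x) (hO x)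
  have hW : ∀ x, h x ∈ W x ∧ W x ≤ O x ∧ IsCompact (W x : Set ↥(Limits.pullback f₀ (D.map φ))) :=
    fun x => ⟨hWm x, hWO x, (hWa x).isCompact⟩
  obtain ⟨T, hT⟩ := isCompact_univ.elim_finite_subcover (fun x => (h ⁻¹ᵁ W x : Set X))
    (fun x => (h ⁻¹ᵁ W x).2) fun x _ => Set.mem_iUnion.2 ⟨x, (hW x).1⟩
  let W' : Set ↥(Limits.pullback f₀ (D.map φ)) := ⋃ x ∈ T, (W x : Set ↥(Limits.pullback f₀ (D.map φ)))
  have hW' : Topology.IsConstructible W' :=
    (T.finite_toSet.isCompact_biUnion fun x _ => (hW x).2.2).isConstructible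
      (isOpen_biUnion fun x _ => (W x).2)
  let C : Set (D.obj j) := (fj '' W'ᶜ)ᶜ
  have hC : Topology.IsLocallyConstructible C := LimTop.isLocallyConstructible_compl
    (fj.isLocallyConstructible_image hW'.compl.isLocallyConstructible)
  obtain ⟨k, ψ, hsub⟩ := LimTop.exists_subset hc (i₀ := j) (fun _ _ ↦ Set.univ)
    (fun l χ ↦ D.map χ ⁻¹' C) (fun _ _ ↦ LimTop.isProConstructible_of_isLocallyConstructible .univ)
    (fun l χ ↦ LimTop.isIndConstructible_of_isLocallyConstructible
      (LimTop.isLocallyConstructible_preimage _ hC))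
    (fun _ _ _ _ ↦ Set.subset_univ _)
    (fun l m χ' χ x hx ↦ by
      show D.map (χ' ≫ χ) x ∈ C
      rw [D.map_comp, Scheme.Hom.comp_apply]
      exact hx)
    (fun s _ ↦ ⟨j, 𝟙 j, by
      show D.map (𝟙 j) (c.π.app j s) ∈ C
      rw [D.map_id]
      rintro ⟨y, hy, hys⟩
      obtain ⟨x', hx', -⟩ := Scheme.exists_preimage_of_isPullback hw y s hys
      obtain ⟨x, hxT, hxW⟩ := Set.mem_iUnion₂.1 (hT (Set.mem_univ x'))
      exact hy (Set.mem_iUnion₂.2 ⟨x, hxT, hx' ▸ hxW⟩)⟩)
  refine ⟨k, ψ ≫ φ, ?_⟩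
  let hk : Limits.pullback f₀ (D.map (ψ ≫ φ)) ⟶ Limits.pullback f₀ (D.map φ) :=
    Limits.pullback.lift (Limits.pullback.fst f₀ (D.map (ψ ≫ φ)))
      (Limits.pullback.snd f₀ (D.map (ψ ≫ φ)) ≫ D.map ψ)
      (by rw [Limits.pullback.condition, Category.assoc, D.map_comp])
  have hk' : IsPullback hk (Limits.pullback.snd f₀ (D.map (ψ ≫ φ))) fj (D.map ψ) := by
    refine IsPullback.of_right (h₁₂ := Limits.pullback.fst f₀ (D.map φ)) ?_ (Limits.pullback.lift_snd _ _ _)
      (IsPullback.of_hasPullback f₀ (D.map φ))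
    rw [Limits.pullback.lift_fst, ← D.map_comp]
    exact IsPullback.of_hasPullback f₀ (D.map (ψ ≫ φ))
  have hmem : ∀ x, hk x ∈ W' := fun x => by
    by_contra hne
    exact hsub (Set.mem_univ (Limits.pullback.snd f₀ (D.map (ψ ≫ φ)) x))
      ⟨_, hne, by rw [← Scheme.Hom.comp_apply, hk'.w, Scheme.Hom.comp_apply]⟩
  refine (IsZariskiLocalAtSource.iff_of_openCover (P := Synt44.syntomicMor)
    (Scheme.openCoverOfIsOpenCover _ (fun z : T => hk ⁻¹ᵁ O z) (TopologicalSpace.IsOpenCover.mk
      (eq_top_iff.2 fun x _ => ?_)))).2 fun z => ?_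
  · obtain ⟨z, hzT, hz⟩ := Set.mem_iUnion₂.1 (hmem x)
    exact TopologicalSpace.Opens.mem_iSup.2 ⟨⟨z, hzT⟩, (hW z).2.1 hz⟩
  · show Synt44.syntomicMor ((hk ⁻¹ᵁ O z.1).ι ≫ Limits.pullback.snd f₀ (D.map (ψ ≫ φ)))
    exact MorphismProperty.of_isPullback
      ((isPullback_morphismRestrict hk (O z.1)).paste_vert hk') (hOs z.1)


/-- Let S = lim S_i be a cofiltered limit of schemes with affine transition morphisms, S_{i₀} a
quasi-compact quasi-separated stage, f₀ : X₀ → Y₀ a morphism of quasi-compact quasi-separated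
schemes over S_{i₀}, and f : X → Y its base change along S → S_{i₀} (base changes expressed by
pullback squares). If f₀ is locally of finite presentation and f is syntomic (flat, locally of
finite presentation, with local complete intersection fibres, tested on affine opens around each
point), then for some index i over i₀ the base change f_i : X_i → Y_i of f₀ along S_i → S_{i₀} is
syntomic. -/
theorem result {I : Type u} [SmallCategory I] [IsCofiltered I]
    (D : I ⥤ Scheme.{u}) (c : Limits.Cone D) (hc : Limits.IsLimit c)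
    [∀ (i j : I) (f : i ⟶ j), IsAffineHom (D.map f)] (i₀ : I) [CompactSpace (D.obj i₀)]
    [QuasiSeparatedSpace (D.obj i₀)] {X₀ Y₀ : Scheme.{u}} (f₀ : X₀ ⟶ Y₀) (g₀ : Y₀ ⟶ D.obj i₀)
    [CompactSpace X₀] [QuasiSeparatedSpace X₀] [CompactSpace Y₀] [QuasiSeparatedSpace Y₀]
    [LocallyOfFinitePresentation f₀]
    {X Y : Scheme.{u}} (f : X ⟶ Y) (g : Y ⟶ c.pt) (qY : Y ⟶ Y₀) (qX : X ⟶ X₀)
    (hY : IsPullback qY g g₀ (c.π.app i₀)) (hX : IsPullback qX f f₀ qY) (hf : Synt.IsSyntomicMor f) :
    ∃ (i : I) (φ : i ⟶ i₀) (Xi Yi : Scheme.{u}) (fi : Xi ⟶ Yi) (gi : Yi ⟶ D.obj i) (pY : Yi ⟶ Y₀)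
      (pX : Xi ⟶ X₀), IsPullback pY gi g₀ (D.map φ) ∧ IsPullback pX fi f₀ pY ∧ Synt.IsSyntomicMor fi := by
  exact LimLib.Descends.exists_stage (P := Synt44.syntomicMor) hc f₀ hY hX
    descends_syntomic inferInstance hf

end Groth.Agent.S9198
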