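import Groth.Statements.S9203
import Groth.Agent.AffThick.Cover
-- import your own Groth.Agent.* helpers here

set_option autoImplicit false
universe u v
open CategoryTheory AlgebraicGeometry
open Lim

namespace Groth.Agent.S9203

/-- Suppose a scheme X is covered, as a topological space, by finitely many closed subschemes each of
which is affine: there are closed immersions Z_k → X, indexed by a finite type, with each Z_k affine
and whose images cover X. Then X is affine. -/
theorem result (X : Scheme.{u}) {κ : Type v} [Finite κ]
    (Z : κ → Scheme.{u}) (ι : ∀ k, Z k ⟶ X) [∀ k, IsClosedImmersion (ι k)] [∀ k, IsAffine (Z k)]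
    (hcov : ∀ x : X, ∃ k, x ∈ Set.range (ι k).base) : IsAffine X := by
  exact Groth.Agent.AffThick.isAffine_of_finite_cover Z ι hcov

end Groth.Agent.S9203
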