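import Groth.Statements.S9214
import Groth.Agent.LimLib.Immersion
import Groth.Agent.LimLib.Model
-- import your own Groth.Agent.* helpers here

set_option autoImplicit false
universe u
open CategoryTheory CategoryTheory.Limits AlgebraicGeometry
open Lim

namespace Groth.Agent.S9214

/-- Let S = lim S_i be a cofiltered limit of Noetherian schemes with affine transition morphisms, and
suppose X → S is of finite type and quasi-separated. One can then find an index i, a finite type
morphism W → S_i and a morphism X → W over S_i (compatible with X → S → S_i) for which the resulting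
map X → S ×_{S_i} W into the fibre product is a closed immersion. -/
theorem result {I : Type u} [SmallCategory I] [IsCofiltered I]
    (D : I ⥤ Scheme.{u}) (c : Limits.Cone D) (hc : Limits.IsLimit c)
    [∀ (i j : I) (f : i ⟶ j), IsAffineHom (D.map f)] [∀ i, IsNoetherian (D.obj i)]
    {X : Scheme.{u}} (a : X ⟶ c.pt) [QuasiSeparated a] [QuasiCompact a] [LocallyOfFiniteType a] :
    ∃ (i : I) (W : Scheme.{u}) (w : W ⟶ D.obj i) (b : X ⟶ W) (hb : a ≫ c.π.app i = b ≫ w),
      LocallyOfFiniteType w ∧ QuasiCompact w ∧ IsClosedImmersion (pullback.lift a b hb) := by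
  obtain ⟨i₀⟩ := IsCofiltered.nonempty (C := I)
  have : IsAffineHom (c.π.app i₀) := isAffineHom_π_app D c hc i₀
  have : CompactSpace c.pt := QuasiCompact.compactSpace_of_compactSpace (c.π.app i₀)
  have : QuasiSeparatedSpace c.pt := quasiSeparatedSpace_of_quasiSeparated (c.π.app i₀)
  have : CompactSpace X := QuasiCompact.compactSpace_of_compactSpace a
  have : QuasiSeparatedSpace X := quasiSeparatedSpace_of_quasiSeparated a
  obtain ⟨X', f', j, _, _, _, _, _, _, hj⟩ := LimLib.exists_closedImmersion_fp a
  subst hj
  obtain ⟨i, W, w, g, _, _, _, sq⟩ := LimLib.hasModel hc f'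
  have : QuasiCompact w := quasiCompact_of_compactSpace _
  refine ⟨i, W, w, j ≫ g, by simp [sq.w],
    inferInstance, inferInstance, ?_⟩
  have hlift : Limits.pullback.lift (f := c.π.app i) (g := w) (j ≫ f') (j ≫ g)
      (by simp [sq.w]) = j ≫ sq.flip.isoPullback.hom := by
    apply Limits.pullback.hom_ext
    · erw [Limits.pullback.lift_fst]
      simp
    · erw [Limits.pullback.lift_snd]
      simp
  rw [hlift]
  infer_instance

end Groth.Agent.S9214
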