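import Groth.Statements.S9216
import Groth.Agent.FibStage.Stage
import Groth.Agent.LimLib.ClosedApprox

set_option autoImplicit false
universe u
open CategoryTheory CategoryTheory.Limits AlgebraicGeometry
open Lim AlgebraicGeometry CategoryTheory CategoryTheory.Limits Opposite

namespace Groth.Agent.S9216

/-- Let S be a quasi-compact quasi-separated scheme, f : X → S a morphism of finite presentation and d a
natural number. Let Z be a closed subscheme of X such that every fibre of Z → S has dimension at
most d. Then there is a closed subscheme Z' of X containing Z such that Z' → X is of finite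
presentation and every fibre of Z' → S has dimension at most d. -/
theorem result {X S Z : Scheme.{u}} [CompactSpace S]
    [QuasiSeparatedSpace S] (f : X ⟶ S) [LocallyOfFinitePresentation f] [QuasiCompact f] [QuasiSeparated f]
    (d : ℕ) (ι : Z ⟶ X) [IsClosedImmersion ι] (hZ : ∀ s : S, topologicalKrullDim ↥((ι ≫ f).fiber s) ≤ d) :
    ∃ (Z' : Scheme.{u}) (ι' : Z' ⟶ X) (k : Z ⟶ Z'), IsClosedImmersion ι' ∧ LocallyOfFinitePresentation ι' ∧
      k ≫ ι' = ι ∧ ∀ s : S, topologicalKrullDim ↥((ι' ≫ f).fiber s) ≤ d := by
  haveI : CompactSpace X := QuasiCompact.compactSpace_of_compactSpace f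
  haveI : QuasiSeparatedSpace X := quasiSeparatedSpace_of_quasiSeparated f
  obtain ⟨J, _, _, _, F, hfg, hF⟩ := Groth.Agent.LimLib.exists_iSup_fg_eq ι.ker
  haveI : IsConnected Jᵒᵖ := IsCofiltered.isConnected _
  let DX : Jᵒᵖ ⥤ Scheme.{u} := Groth.Agent.LimLib.idealDiagram F ⋙ Over.forget X
  let DS : Jᵒᵖ ⥤ Scheme.{u} := (Functor.const _).obj S
  let φ : DX ⟶ DS :=
    { app := fun j => (F j.unop).subschemeι ≫ f
      naturality := fun a b h => by
        exact ((Category.assoc _ _ _).symm.trans (congrArg (· ≫ f)
          (Scheme.IdealSheafData.inclusion_subschemeι (F.mono h.unop.le)))).trans (Category.comp_id _).symm }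
  let cX : Cone DX := (Over.forget X).mapCone (Groth.Agent.LimLib.idealCone F ι hF)
  have hX : IsLimit cX := isLimitOfPreserves (Over.forget X) (Groth.Agent.LimLib.isLimitIdealCone F ι hF)
  let cS : Cone DS := { pt := S, π := { app := fun _ => 𝟙 S } }
  have hS : IsLimit cS :=
    { lift := fun c => c.π.app (Classical.arbitrary Jᵒᵖ)
      fac := fun c j => (Category.comp_id _).trans (by
        let π' : Jᵒᵖ → (c.pt ⟶ S) := fun k => c.π.app k
        refine constant_of_preserves_morphisms π' (fun k l h => ?_) _ _
        have h' : π' k ≫ 𝟙 S = π' l := c.w h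
        exact (Category.comp_id _).symm.trans h')
      uniq := fun c m hm => (Category.comp_id m).symm.trans (hm _) }
  haveI : ∀ (i j : Jᵒᵖ) (a : i ⟶ j), IsAffineHom (DS.map a) :=
    fun i j a => inferInstanceAs (IsAffineHom (𝟙 S))
  haveI : ∀ i, CompactSpace (DS.obj i) := fun _ => inferInstanceAs (CompactSpace S)
  haveI : ∀ i, QuasiSeparatedSpace (DS.obj i) := fun _ => inferInstanceAs (QuasiSeparatedSpace S)
  haveI : ∀ i, LocallyOfFiniteType (φ.app i) := fun i =>
    inferInstanceAs (LocallyOfFiniteType ((F i.unop).subschemeι ≫ f))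
  haveI : ∀ i, QuasiCompact (φ.app i) := fun i =>
    inferInstanceAs (QuasiCompact ((F i.unop).subschemeι ≫ f))
  obtain ⟨i, hi⟩ := Groth.Agent.FibStage.exists_stage DX DS φ cX cS hX hS (fun i j a => by
      have e : pullback.lift (DX.map a) (φ.app i) (φ.naturality a) ≫ pullback.fst _ _ = DX.map a :=
        pullback.lift_fst _ _ _
      haveI : IsClosedImmersion (DX.map a) :=
        inferInstanceAs (IsClosedImmersion ((Groth.Agent.LimLib.idealDiagram F).map a).left)
      haveI : IsAffineHom (pullback.fst (φ.app j) (DS.map a)) :=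
        MorphismProperty.pullback_fst _ _ inferInstance
      haveI : IsClosedImmersion (pullback.lift (DX.map a) (φ.app i) (φ.naturality a) ≫
          pullback.fst (φ.app j) (DS.map a)) := by rw [e]; infer_instance
      exact IsClosedImmersion.of_comp _ (pullback.fst (φ.app j) (DS.map a)))
    (ι ≫ f) (fun i => by
      refine (Category.comp_id (ι ≫ f)).trans ?_
      exact (congrArg (· ≫ f) (Over.w ((Groth.Agent.LimLib.idealCone F ι hF).π.app i)).symm).trans
        (Category.assoc _ _ _)) d hZ
  refine ⟨(F i.unop).subscheme, (F i.unop).subschemeι, (cX.π.app i), inferInstance,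
    (Groth.Agent.LimLib.lfp_subschemeι_iff _).mpr (hfg _), IsClosedImmersion.lift_fac _ _ _, hi⟩

end Groth.Agent.S9216
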