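import Groth.Statements.S9217
import Groth.Agent.LimLib.StalkSystem
import Groth.Agent.LimLib.OpensLimit

set_option backward.isDefEq.respectTransparency false
set_option backward.defeqAttrib.useBackward true

set_option autoImplicit false
universe u
open CategoryTheory AlgebraicGeometry
open Lim

namespace Groth.Agent.S9217

/-- Morphisms agreeing on all local rings are equal. -/
lemma hom_ext_of_fromSpecStalk {X Y : Scheme.{u}} {g₁ g₂ : X ⟶ Y}
    (h : ∀ x, X.fromSpecStalk x ≫ g₁ = X.fromSpecStalk x ≫ g₂) : g₁ = g₂ := by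
  have hb (x : X) : g₁ x = g₂ x := by
    have := congrArg (fun φ => φ (IsLocalRing.closedPoint (X.presheaf.stalk x))) (h x)
    simpa [Scheme.fromSpecStalk_closedPoint] using this
  have hloc : ∀ x : X, ∃ (W : Y.Opens) (V : X.Opens), IsAffineOpen W ∧ IsAffineOpen V ∧ x ∈ V ∧
      V ≤ g₁ ⁻¹ᵁ W ⊓ g₂ ⁻¹ᵁ W := by
    intro x
    obtain ⟨_, ⟨W, hW, rfl⟩, hxW, -⟩ :=
      Y.isBasis_affineOpens.exists_subset_of_mem_open (Set.mem_univ (g₁ x)) isOpen_univ
    obtain ⟨_, ⟨V, hV, rfl⟩, hxV, hVW⟩ :=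
      X.isBasis_affineOpens.exists_subset_of_mem_open
        (show x ∈ g₁ ⁻¹ᵁ W ⊓ g₂ ⁻¹ᵁ W from ⟨hxW, by show g₂ x ∈ W; rw [← hb]; exact hxW⟩)
        (g₁ ⁻¹ᵁ W ⊓ g₂ ⁻¹ᵁ W).2
    exact ⟨W, V, hW, hV, hxV, hVW⟩
  choose W V hW hV hxV hle using hloc
  refine Scheme.Cover.hom_ext (X.openCoverOfIsOpenCover V
    (TopologicalSpace.IsOpenCover.mk (top_le_iff.mp fun x _ => TopologicalSpace.Opens.mem_iSup.mpr ⟨x, hxV x⟩))) _ _
    fun x => ?_
  show (V x).ι ≫ g₁ = (V x).ι ≫ g₂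
  rw [← (hV x).isoSpec_hom_fromSpec, Category.assoc, Category.assoc,
    ← (hW x).SpecMap_appLE_fromSpec g₁ (hV x) ((hle x).trans inf_le_left),
    ← (hW x).SpecMap_appLE_fromSpec g₂ (hV x) ((hle x).trans inf_le_right)]
  refine congrArg ((hV x).isoSpec.hom ≫ Spec.map · ≫ (hW x).fromSpec) ?_
  refine CommRingCat.hom_ext (RingHom.ext fun r => ?_)
  refine TopCat.Presheaf.section_ext X.sheaf (V x) _ _ fun y hy => ?_
  have key := h y
  rw [← IsAffineOpen.fromSpecStalk_eq_fromSpecStalk (hV x) hy] at key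
  simp only [IsAffineOpen.fromSpecStalk, Category.assoc] at key
  rw [← (hW x).SpecMap_appLE_fromSpec g₁ (hV x) ((hle x).trans inf_le_left),
    ← (hW x).SpecMap_appLE_fromSpec g₂ (hV x) ((hle x).trans inf_le_right), ← Category.assoc,
    ← Category.assoc, cancel_mono, ← Spec.map_comp, ← Spec.map_comp] at key
  exact RingHom.congr_fun (congrArg CommRingCat.Hom.hom (Spec.map_injective key)) r

/-- Let S be a scheme, X and Y schemes over S with Y locally of finite presentation over S, and x a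
closed point of X such that the inclusion of U = X - {x} in X is quasi-compact; let V be the
complement of the closed point in Spec O_{X,x}, i.e. the preimage of U under the canonical morphism
Spec O_{X,x} → X. Then restriction is a bijection from the S-morphisms X → Y to the pairs (a, b) of
S-morphisms a : U → Y, b : Spec O_{X,x} → Y which agree on V: two morphisms X → Y with the same
restrictions to U and to Spec O_{X,x} are equal, and every such compatible pair of S-morphisms is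
the pair of restrictions of an S-morphism X → Y. -/
theorem result {X Y S : Scheme.{u}} (p : X ⟶ S) (q : Y ⟶ S) [LocallyOfFinitePresentation q]
    (x : X) (U : X.Opens) (hU : (U : Set X) = {x}ᶜ) [QuasiCompact U.ι] :
    (∀ g₁ g₂ : X ⟶ Y, U.ι ≫ g₁ = U.ι ≫ g₂ → X.fromSpecStalk x ≫ g₁ = X.fromSpecStalk x ≫ g₂ → g₁ = g₂) ∧
    (∀ (a : (U : Scheme.{u}) ⟶ Y) (b : Spec (X.presheaf.stalk x) ⟶ Y), a ≫ q = U.ι ≫ p →
      b ≫ q = X.fromSpecStalk x ≫ p → ((X.fromSpecStalk x) ⁻¹ᵁ U).ι ≫ b = ((X.fromSpecStalk x) ∣_ U) ≫ a →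
        ∃ g : X ⟶ Y, g ≫ q = p ∧ U.ι ≫ g = a ∧ X.fromSpecStalk x ≫ g = b) := by
  obtain ⟨P⟩ := LimLib.nonempty_stalkSystem X x
  let c : Limits.Cone P.D := Limits.Cone.mk (Spec (X.presheaf.stalk x)) P.π
  obtain ⟨hc⟩ := P.isLimit
  have (i : P.Jᵒᵖ) : IsAffine (P.D.obj i) := P.isAffine i
  have (i : P.Jᵒᵖ) : CompactSpace (P.D.obj i) := inferInstance
  have (i : P.Jᵒᵖ) : QuasiSeparatedSpace (P.D.obj i) := inferInstance
  have (i j : P.Jᵒᵖ) (e : i ⟶ j) : IsAffineHom (P.D.map e) := inferInstance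
  let m (i : P.Jᵒᵖ) : P.D.obj i ⟶ X := P.ι.app i
  have hm (i : P.Jᵒᵖ) : IsOpenImmersion (m i) := P.isOpenImmersion i
  have hmap {i j : P.Jᵒᵖ} (e : i ⟶ j) : P.D.map e ≫ m j = m i :=
    (P.ι.naturality e).trans (Category.comp_id _)
  have hfac (i : P.Jᵒᵖ) : c.π.app i ≫ m i = X.fromSpecStalk x := P.fac i
  -- the covers
  have hcov (i : P.Jᵒᵖ) : U.ι.opensRange ⊔ (m i).opensRange = ⊤ := by
    rw [Scheme.Opens.opensRange_ι]
    refine top_le_iff.mp fun y _ => ?_
    by_cases hy : y = x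
    · subst hy; exact Or.inr (P.mem i)
    · exact Or.inl (show y ∈ (U : Set X) by rw [hU]; exact hy)
  let t : P.D ⟶ (Functor.const P.Jᵒᵖ).obj S :=
    { app := fun i => m i ≫ p
      naturality := fun i j e => by simp [reassoc_of% hmap e] }
  refine ⟨fun g₁ g₂ hUg hxg => hom_ext_of_fromSpecStalk fun y => ?_, fun a b ha hb hab => ?_⟩
  · by_cases hy : y = x
    · subst hy; exact hxg
    · have hyU : y ∈ U := show y ∈ (U : Set X) by rw [hU]; exact hy
      rw [← Scheme.Opens.fromSpecStalkOfMem_ι U y hyU, Category.assoc, Category.assoc, hUg]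
  · obtain ⟨i, b₁, hb₁, hb₂⟩ := Scheme.exists_π_app_comp_eq_of_locallyOfFinitePresentation P.D t q c hc
      b (by ext j; simp [t, hb, reassoc_of% hfac])
    -- the punctured neighbourhoods
    let U₀ : (P.D.obj i).Opens := m i ⁻¹ᵁ U
    have hle (j : Over i) : ∀ z : ↥(P.D.map j.hom ⁻¹ᵁ U₀), (m j.left) z.1 ∈ U := fun z => by
      rw [← hmap j.hom]
      exact z.2
    have hcU : IsCompact (U₀ : Set (P.D.obj i)) := by
      have : QuasiCompact (Limits.pullback.fst (m i) U.ι) := MorphismProperty.pullback_fst _ _ ‹_›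
      have := QuasiCompact.compactSpace_of_compactSpace (Limits.pullback.fst (m i) U.ι)
      have h1 := isCompact_range (Limits.pullback.fst (m i) U.ι).continuous
      rwa [Scheme.Pullback.range_fst, Scheme.Opens.range_ι] at h1
    have (j : Over i) : CompactSpace ((opensDiagram P.D i U₀).obj j) :=
      isCompact_iff_compactSpace.mp ((P.D.map j.hom).isCompact_preimage hcU)
    have (j : Over i) : QuasiSeparatedSpace ((opensDiagram P.D i U₀).obj j) :=
      quasiSeparatedSpace_of_quasiSeparated (Scheme.Opens.ι (P.D.map j.hom ⁻¹ᵁ U₀))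
    let r (j : Over i) : (opensDiagram P.D i U₀).obj j ⟶ (U : Scheme.{u}) :=
      IsOpenImmersion.lift U.ι (Scheme.Opens.ι (P.D.map j.hom ⁻¹ᵁ U₀) ≫ m j.left) (by
        rintro _ ⟨z, rfl⟩
        rw [Scheme.Opens.range_ι]
        exact hle j z)
    have hr (j : Over i) : r j ≫ U.ι = Scheme.Opens.ι (P.D.map j.hom ⁻¹ᵁ U₀) ≫ m j.left :=
      IsOpenImmersion.lift_fac _ _ _
    let j₀ : Over i := Over.mk (𝟙 i)
    let t' : opensDiagram P.D i U₀ ⟶ (Functor.const (Over i)).obj S :=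
      { app := fun j => Scheme.Opens.ι (P.D.map j.hom ⁻¹ᵁ U₀) ≫ t.app j.left
        naturality := fun j k e => by simp [t, Scheme.Hom.resLE, reassoc_of% hmap] }
    obtain ⟨k, u, v, huv⟩ := Scheme.exists_hom_hom_comp_eq_comp_of_locallyOfFiniteType
      (opensDiagram P.D i U₀) t' q _ (isLimitOpensCone P.D c hc i U₀) (i := j₀)
      (Scheme.Opens.ι _ ≫ P.D.map j₀.hom ≫ b₁)
      (by show _ ≫ t.app i = _; rw [Category.assoc, Category.assoc, hb₂, t.naturality]; simp [j₀])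
      (j := j₀) (r j₀ ≫ a)
      (by show _ ≫ m i ≫ p = _; rw [Category.assoc, ha, reassoc_of% hr]; simp [j₀])
      (by
        have e1 : X.fromSpecStalk x ⁻¹ᵁ U = c.π.app i ⁻¹ᵁ U₀ := by
          show _ = c.π.app i ⁻¹ᵁ (m i ⁻¹ᵁ U)
          rw [← Scheme.Hom.comp_preimage, hfac]
        have h1 : (opensCone P.D c i U₀).π.app j₀ ≫ Scheme.Opens.ι _ ≫ P.D.map j₀.hom =
            (c.π.app i ⁻¹ᵁ U₀).ι ≫ c.π.app i := by simp [j₀]
        rw [reassoc_of% h1, hb₁, ← cancel_epi (Scheme.isoOfEq _ e1).hom]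
        have h2 : (Scheme.isoOfEq _ e1).hom ≫ (c.π.app i ⁻¹ᵁ U₀).ι =
            (X.fromSpecStalk x ⁻¹ᵁ U).ι := Scheme.isoOfEq_hom_ι _ e1
        rw [reassoc_of% h2, hab, ← Category.assoc, ← Category.assoc]
        congr 1
        rw [← cancel_mono U.ι, morphismRestrict_ι, Category.assoc, Category.assoc, hr]
        have h3 : (opensCone P.D c i U₀).π.app j₀ ≫ Scheme.Opens.ι _ ≫ m i =
            (c.π.app i ⁻¹ᵁ U₀).ι ≫ c.π.app i ≫ m i := by simp [j₀]
        refine Eq.trans ?_ (congrArg ((Scheme.isoOfEq _ e1).hom ≫ ·) h3).symm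
        rw [reassoc_of% h2, hfac])
    have hpb : IsPullback (r k) (Scheme.Opens.ι (P.D.map k.hom ⁻¹ᵁ U₀)) U.ι (m k.left) := by
      refine IsOpenImmersion.isPullback _ _ _ _ (hr k).symm ?_
      simp only [Scheme.Opens.opensRange_ι]
      rw [← Scheme.Hom.comp_preimage, hmap]
    have hag : r k ≫ a = Scheme.Opens.ι (P.D.map k.hom ⁻¹ᵁ U₀) ≫ P.D.map k.hom ≫ b₁ := by
      have h1 : ∀ w : k ⟶ j₀, (opensDiagram P.D i U₀).map w ≫ r j₀ = r k := fun w => by
        rw [← cancel_mono U.ι, Category.assoc, hr, hr]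
        simp [Scheme.Hom.resLE, reassoc_of% hmap, hmap]
      have h2 : (opensDiagram P.D i U₀).map u ≫ Scheme.Opens.ι _ ≫ P.D.map j₀.hom =
          Scheme.Opens.ι (P.D.map k.hom ⁻¹ᵁ U₀) ≫ P.D.map k.hom := by
        have := Over.w u
        simp [j₀] at this
        simp [j₀, this]
      rw [← h1 v, Category.assoc, ← huv, reassoc_of% h2]
    obtain ⟨g, hgU, hgk⟩ := LimLib.exists_glueTwo (hcov k.left) hpb a
      (P.D.map k.hom ≫ b₁) hag
    refine ⟨g, ?_, hgU, ?_⟩
    · refine LimLib.hom_ext_two (hcov k.left) (by rw [reassoc_of% hgU, ha]) ?_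
      rw [reassoc_of% hgk, hb₂, t.naturality]
      simp [t]
    · rw [← hfac k.left, Category.assoc, hgk, ← Category.assoc, c.w, hb₁]

end Groth.Agent.S9217
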