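import Groth.Statements.S9221
import Groth.Agent.LimLib.Proper
import Groth.Agent.EtShriekLib.Proper
import Groth.Agent.CycLib.ModStalk
import Groth.Agent.S4357

set_option backward.isDefEq.respectTransparency false
set_option backward.defeqAttrib.useBackward true

set_option autoImplicit false
universe u
open CategoryTheory AlgebraicGeometry
open Lim

namespace Groth.Agent.S9221

/-- Let S = lim S_i be a cofiltered limit of schemes with affine transition morphisms, S_{i₀} a
quasi-compact quasi-separated stage, f₀ : X₀ → Y₀ a morphism of quasi-compact quasi-separated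
schemes over S_{i₀}, and f : X → Y its base change along S → S_{i₀} (base changes expressed by
pullback squares). Let F₀ be a quasi-coherent O_{X₀}-module of finite type, with pullbacks F to X
and F_i to X_i, and assume f₀ is locally of finite type. If the support of F (a closed subset of X,
taken with its reduced structure; equivalently the scheme-theoretic support of F) is proper over Y,
then for some index i over i₀, with f_i : X_i → Y_i the base change of f₀ along S_i → S_{i₀}, the
support of F_i is proper over Y_i. -/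
theorem result {I : Type u} [SmallCategory I] [IsCofiltered I]
    (D : I ⥤ Scheme.{u}) (c : Limits.Cone D) (hc : Limits.IsLimit c)
    [∀ (i j : I) (f : i ⟶ j), IsAffineHom (D.map f)] (i₀ : I) [CompactSpace (D.obj i₀)]
    [QuasiSeparatedSpace (D.obj i₀)] {X₀ Y₀ : Scheme.{u}} (f₀ : X₀ ⟶ Y₀) (g₀ : Y₀ ⟶ D.obj i₀)
    [CompactSpace X₀] [QuasiSeparatedSpace X₀] [CompactSpace Y₀] [QuasiSeparatedSpace Y₀]
    [LocallyOfFiniteType f₀] (F₀ : X₀.Modules) [Coh.IsQCoh F₀] (hF₀ : CohB1.IsFT F₀)
    {X Y : Scheme.{u}} (f : X ⟶ Y) (g : Y ⟶ c.pt) (qY : Y ⟶ Y₀) (qX : X ⟶ X₀)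
    (hY : IsPullback qY g g₀ (c.π.app i₀)) (hX : IsPullback qX f f₀ qY) (hF : ClSub.IsProperOver f (CohB1.support ((Scheme.Modules.pullback qX).obj F₀))) :
    ∃ (i : I) (φ : i ⟶ i₀) (Xi Yi : Scheme.{u}) (fi : Xi ⟶ Yi) (gi : Yi ⟶ D.obj i) (pY : Yi ⟶ Y₀)
      (pX : Xi ⟶ X₀), IsPullback pY gi g₀ (D.map φ) ∧ IsPullback pX fi f₀ pY ∧ ClSub.IsProperOver fi (CohB1.support ((Scheme.Modules.pullback pX).obj F₀)) := by
  let Z₀ := CohB1.support F₀
  have hZ₀ : IsClosed Z₀ := by
    show IsClosed {x | ¬ Subsingleton (F₀.presheaf.stalk x)}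
    simpa only [not_subsingleton_iff_nontrivial] using
      Groth.Agent.CycLib.isClosed_support F₀ ⟨inferInstance, hF₀⟩
  have hsupp {W : Scheme.{u}} (q : W ⟶ X₀) :
      CohB1.support ((Scheme.Modules.pullback q).obj F₀) = q.base ⁻¹' Z₀ :=
    Groth.Agent.S4357.result q F₀ hF₀
  let z₀ := EtShriekLib.redι hZ₀
  have hr₀ : Set.range z₀ = Z₀ := EtShriekLib.range_redι hZ₀
  have : CompactSpace (Scheme.IdealSheafData.vanishingIdeal ⟨Z₀, hZ₀⟩).subscheme :=
    QuasiCompact.compactSpace_of_compactSpace z₀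
  have : QuasiSeparatedSpace (Scheme.IdealSheafData.vanishingIdeal ⟨Z₀, hZ₀⟩).subscheme :=
    quasiSeparatedSpace_of_quasiSeparated z₀
  -- the thickened support upstairs
  obtain ⟨hcl, hred⟩ := hF
  have hrP : Set.range (Limits.pullback.snd z₀ qX) = qX.base ⁻¹' Z₀ := by
    rw [Scheme.Pullback.range_snd, hr₀]
  have hZ : CohB1.support ((Scheme.Modules.pullback qX).obj F₀) = qX.base ⁻¹' Z₀ := hsupp qX
  obtain ⟨a, ha⟩ := RedSub.exists_lift_closed (Limits.pullback.snd z₀ qX) (EtShriekLib.redι hcl)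
    (by rw [EtShriekLib.range_redι, hrP, hZ])
  have : Surjective a := ⟨fun x => by
    have hx : Limits.pullback.snd z₀ qX x ∈ Set.range (EtShriekLib.redι hcl) := by
      rw [EtShriekLib.range_redι, hZ, ← hrP]
      exact ⟨x, rfl⟩
    obtain ⟨y, hy⟩ := hx
    refine ⟨y, (Limits.pullback.snd z₀ qX).isClosedEmbedding.injective ?_⟩
    rw [← Scheme.Hom.comp_apply, ha]
    exact hy⟩
  have : IsClosedImmersion (a ≫ Limits.pullback.snd z₀ qX) := by rw [ha]; infer_instance
  have : IsClosedImmersion a := IsClosedImmersion.of_comp a (Limits.pullback.snd z₀ qX)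
  have : LocallyOfFiniteType f := MorphismProperty.of_isPullback hX inferInstance
  have : IsProper (a ≫ Limits.pullback.snd z₀ qX ≫ f) := by
    rw [← Category.assoc, ha]; exact hred
  have : IsProper (Limits.pullback.snd z₀ qX ≫ f) :=
    EtShriekLib.isProper_of_comp_surjective a _
  obtain ⟨i, φ, Wi, Yi, fi, gi, pY, pW, hYi, hWi, hpi⟩ := LimLib.Descends.exists_stage hc (z₀ ≫ f₀) hY
    ((IsPullback.of_hasPullback z₀ qX).paste_vert hX) LimLib.descends_isProper inferInstance
    ‹IsProper (Limits.pullback.snd z₀ qX ≫ f)›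
  refine ⟨i, φ, Limits.pullback f₀ pY, Yi, Limits.pullback.snd _ _, gi, pY, Limits.pullback.fst _ _,
    hYi, IsPullback.of_hasPullback _ _, ?_⟩
  let l : Wi ⟶ Limits.pullback f₀ pY :=
    Limits.pullback.lift (pW ≫ z₀) fi (by rw [Category.assoc]; exact hWi.w)
  have hl : IsPullback pW l z₀ (Limits.pullback.fst f₀ pY) :=
    IsPullback.of_bot (by simpa [l] using hWi) (by simp [l]) (IsPullback.of_hasPullback f₀ pY)
  have : IsClosedImmersion l := MorphismProperty.of_isPullback hl inferInstance
  have : IsProper (l ≫ Limits.pullback.snd f₀ pY) := by simpa [l] using hpi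
  have hrl : Set.range l = (Limits.pullback.fst f₀ pY).base ⁻¹' Z₀ := by
    rw [← hl.isoPullback_hom_snd, Scheme.Hom.comp_base, TopCat.coe_comp, Set.range_comp,
      hl.isoPullback.hom.surjective.range_eq, Set.image_univ, Scheme.Pullback.range_snd, hr₀]
  refine EtShriekLib.ipo_of_immersion _ l ?_ (by rw [hsupp, hrl])
  rw [hsupp]
  exact hZ₀.preimage (Limits.pullback.fst f₀ pY).continuous

end Groth.Agent.S9221
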