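import Groth.Statements.S9222
import Groth.Agent.AmpleInt.Merge
import Groth.Agent.Props.AmpleBase

set_option autoImplicit false
universe u
open CategoryTheory AlgebraicGeometry
open Lim

namespace Groth.Agent.S9222

/-- Let X be a scheme and L an ample invertible O_X-module. Let k be a field, A a k-algebra every
element of which is integral over k (an integral extension of k, not necessarily a domain), W an
open subset of X and g : Spec A → X a morphism whose image lies in W. Then there are an integer n ≥
1 and a global section s of the n-th tensor power of L such that the open X_s (where s generates) is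
affine, is contained in W, and contains the image of g, so that g factors through X_s. -/
theorem result {X : Scheme.{u}} (L : X.Modules) (hL : CohB1.IsAmple L)
    (k A : Type u) [Field k] [CommRing A] [Algebra k A] [Algebra.IsIntegral k A]
    (W : X.Opens) (g : Spec (CommRingCat.of A) ⟶ X) (hg : Set.range g.base ⊆ (W : Set X)) :
    ∃ (n : ℕ) (s : Coh.structureModule X ⟶ CohB1.tensorPow L (n + 1)),
      IsAffineOpen (CohB1.genLocus _ s) ∧ CohB1.genLocus _ s ≤ W ∧
        Set.range g.base ⊆ (CohB1.genLocus _ s : Set X) := by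
  classical
  haveI : X.IsSeparated := Props.AmpleBase.isSeparated_of_isAmple hL
  haveI : IsAffineHom g :=
    MorphismProperty.of_postcomp (W := @IsAffineHom) (W' := @IsSeparated) g (Limits.terminal.from X)
      inferInstance (isAffineHom_of_isAffine _)
  choose n s hxs hsW haff using fun z : Spec (CommRingCat.of A) =>
    Props.AmpleBase.exists_affine_genLocus_le hL (O := W) (x := g z) (hg ⟨z, rfl⟩)
  obtain ⟨T, hT⟩ := (isCompact_univ (X := Spec (CommRingCat.of A))).elim_finite_subcover
    (fun z => (g ⁻¹ᵁ CohB1.genLocus _ (s z) : Set (Spec (CommRingCat.of A))))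
    (fun z => (g ⁻¹ᵁ CohB1.genLocus _ (s z)).2) fun z _ => Set.mem_iUnion.2 ⟨z, hxs z⟩
  have key : ∀ T : Finset (Spec (CommRingCat.of A)), ∃ R : X.Opens, AmpleInt.Good L W R ∧
      ∀ w, ∀ z ∈ T, g w ∈ CohB1.genLocus _ (s z) → g w ∈ R := by
    intro T
    induction T using Finset.induction with
    | empty => exact ⟨⊥, ⟨bot_le, isAffineOpen_bot X, 1, 0, one_pos, AmpleInt.locus_zero hL.1 1⟩,
        fun _ _ h => absurd h (Finset.notMem_empty _)⟩
    | insert a T ha ih =>
      obtain ⟨R, hR, hRT⟩ := ih
      obtain ⟨R', hR', hR''⟩ := AmpleInt.exists_good_of_pair hL.1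
        (U := CohB1.genLocus _ (s a)) ⟨hsW a, haff a, n a + 1, _, Nat.succ_pos _,
          (AmpleLib.genLocus_eq_locus (s a)).symm⟩ hR k A g
      refine ⟨R', hR', fun w z hz hw => hR'' w ?_⟩
      rcases Finset.mem_insert.1 hz with rfl | hz
      · exact Or.inl hw
      · exact Or.inr (hRT w z hz hw)
  obtain ⟨R, ⟨hRW, hRa, K, σ, hK, hσ⟩, hRT⟩ := key T
  obtain ⟨m, rfl⟩ : ∃ m, K = m + 1 := ⟨K - 1, by omega⟩
  refine ⟨m, Props.GenLocus.homOfSec σ, ?_⟩
  rw [AmpleLib.genLocus_homOfSec, hσ]
  refine ⟨hRa, hRW, ?_⟩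
  rintro _ ⟨w, rfl⟩
  obtain ⟨z, hz, hwz⟩ := Set.mem_iUnion₂.1 (hT (Set.mem_univ w))
  exact hRT w z hz hwz

end Groth.Agent.S9222
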