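import Groth.Statements.S9223
import Groth.Agent.RelGenStage.Basic
import Groth.Agent.Props.AmpleBase

set_option autoImplicit false
universe u
open CategoryTheory AlgebraicGeometry
open Lim

namespace Groth.Agent.S9223

open Groth.Agent.QCoh Groth.Agent.Props.GenLocus in
/-- A section of a power of the limit comes from a stage, with the same locus. -/
theorem exists_stage_locus {I : Type u} [SmallCategory I] [IsCofiltered I]
    {D : I ⥤ Scheme.{u}} {c : Limits.Cone D} (hc : Limits.IsLimit c)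
    [∀ (i j : I) (f : i ⟶ j), IsAffineHom (D.map f)] {i₀ : I} [CompactSpace (D.obj i₀)]
    [QuasiSeparatedSpace (D.obj i₀)] {L₀ : (D.obj i₀).Modules} (hL₀ : PicF.IsInvertible L₀) (k : ℕ)
    (s : Coh.structureModule c.pt ⟶ CohB1.tensorPow ((Scheme.Modules.pullback (c.π.app i₀)).obj L₀) k) :
    ∃ (j : Over i₀) (t : Coh.structureModule (D.obj j.left) ⟶
        CohB1.tensorPow ((Scheme.Modules.pullback (D.map j.hom)).obj L₀) k),
      c.π.app j.left ⁻¹ᵁ CohB1.genLocus _ t = CohB1.genLocus _ s := by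
  have hG := AmpleLib.isInvertible_tensorPow hL₀ k
  haveI : (CohB1.tensorPow L₀ k).IsQuasicoherent := ProjTwist.isQCoh_of_isInvertible hG
  obtain ⟨e⟩ := AmpleLib.exists_iso_pullback_tensorPow (c.π.app i₀) hL₀ k
  obtain ⟨K, σ, hσ⟩ := RelGenStage.exists_lift_qc (LimTop.sysColim_pullSys (i₀ := i₀) hc (CohB1.tensorPow L₀ k))
    (V := ⊤) isCompact_univ
    (show Γ((LimTop.pullCocone (i₀ := i₀) c hc (CohB1.tensorPow L₀ k)).pt, ⊤) from
      e.inv.app ⊤ (sec s ⊤))
  obtain ⟨e₂⟩ := AmpleLib.exists_iso_pullback_tensorPow (D.map K.unop.hom) hL₀ k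
  obtain ⟨σ', hσ'⟩ : ∃ σ' : Γ((Scheme.Modules.pullback (D.map K.unop.hom)).obj (CohB1.tensorPow L₀ k),
      D.map K.unop.hom ⁻¹ᵁ ⊤), LimTop.transSec (c.π.app K.unop.left) (D.map K.unop.hom) (c.w K.unop.hom)
        (CohB1.tensorPow L₀ k) (LimTop.preimage_le _ _ (c.w K.unop.hom)) σ' = e.inv.app ⊤ (sec s ⊤) :=
    ⟨σ, hσ⟩
  refine ⟨K.unop, homOfSec (e₂.hom.app ⊤ σ'), ?_⟩
  have h := congrArg AmpleLib.locus hσ'
  rw [LimTop.transSec_apply, AmpleLib.locus_app_iso,
    RelGenStage.locus_unitSec _ (PicCl.isInvertible_pullback _ hG)] at h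
  rw [AmpleLib.genLocus_homOfSec, AmpleLib.genLocus_eq_locus, ← AmpleLib.locus_app_iso e.symm]
  refine Eq.trans ?_ h
  refine Eq.trans ?_ (inf_eq_left.mpr fun _ _ => trivial).symm
  exact congrArg (fun U => c.π.app K.unop.left ⁻¹ᵁ U) (AmpleLib.locus_app_iso e₂ σ')

open Limits in
/-- A compact open of a stage with affine preimage in the limit becomes affine at a finer stage. -/
theorem exists_stage_affine {I : Type u} [SmallCategory I] [IsCofiltered I]
    {D : I ⥤ Scheme.{u}} {c : Cone D} (hc : IsLimit c)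
    [∀ (i j : I) (f : i ⟶ j), IsAffineHom (D.map f)] [∀ i, QuasiSeparatedSpace (D.obj i)]
    (j : I) (U : (D.obj j).Opens) (hU : IsCompact (U : Set (D.obj j)))
    (h : IsAffineOpen (c.π.app j ⁻¹ᵁ U)) :
    ∃ (k : I) (ψ : k ⟶ j), IsAffineOpen (D.map ψ ⁻¹ᵁ U) := by
  have (l : Over j) : CompactSpace ((opensDiagram D j U).obj l) :=
    isCompact_iff_compactSpace.mp (QuasiCompact.isCompact_preimage _ U.2 hU)
  have (l : Over j) : QuasiSeparatedSpace ((opensDiagram D j U).obj l) :=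
    (isQuasiSeparated_iff_quasiSeparatedSpace _ (D.map _ ⁻¹ᵁ _).2).mp (.of_quasiSeparatedSpace _)
  have : IsAffine (opensCone D c j U).pt := h
  obtain ⟨l, hl⟩ := Scheme.exists_isAffine_of_isLimit _ _ (isLimitOpensCone D c hc j U)
  exact ⟨l.left, l.hom, hl⟩


/-- Let S = lim S_i be a cofiltered limit of quasi-compact quasi-separated schemes with affine
transition morphisms and let L₀ be an invertible O-module on a stage S_{i₀}. If the pullback L of L₀
to S is ample, then for some index i over i₀ the pullback L_i of L₀ to S_i is ample. -/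
theorem result {I : Type u} [SmallCategory I] [IsCofiltered I]
    (D : I ⥤ Scheme.{u}) (c : Limits.Cone D) (hc : Limits.IsLimit c)
    [∀ (i j : I) (f : i ⟶ j), IsAffineHom (D.map f)] [∀ i, CompactSpace (D.obj i)]
    [∀ i, QuasiSeparatedSpace (D.obj i)] (i₀ : I) (L₀ : (D.obj i₀).Modules) (hL₀ : PicF.IsInvertible L₀)
    (h : CohB1.IsAmple ((Scheme.Modules.pullback (c.π.app i₀)).obj L₀)) :
    ∃ (i : I) (φ : i ⟶ i₀), CohB1.IsAmple ((Scheme.Modules.pullback (D.map φ)).obj L₀) := by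
  classical
  haveI : CompactSpace c.pt := h.2.1
  choose n s hxs haff using h.2.2
  obtain ⟨T, hT⟩ := (isCompact_univ (X := c.pt)).elim_finite_subcover
    (fun x => ((CohB1.genLocus _ (s x) : c.pt.Opens) : Set c.pt)) (fun x => (CohB1.genLocus _ (s x)).2)
    fun x _ => Set.mem_iUnion.2 ⟨x, hxs x⟩
  have hst : ∀ x, ∃ (j : Over i₀) (t : Coh.structureModule (D.obj j.left) ⟶
        CohB1.tensorPow ((Scheme.Modules.pullback (D.map j.hom)).obj L₀) (n x + 1)),
      c.π.app j.left ⁻¹ᵁ CohB1.genLocus _ t = CohB1.genLocus _ (s x) ∧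
      IsAffineOpen (CohB1.genLocus _ t) := by
    intro x
    obtain ⟨j, t, ht⟩ := exists_stage_locus hc hL₀ (n x + 1) (s x)
    have hI : PicF.IsInvertible ((Scheme.Modules.pullback (D.map j.hom)).obj L₀) :=
      PicCl.isInvertible_pullback _ hL₀
    obtain ⟨k, ψ, hk⟩ := exists_stage_affine hc j.left (CohB1.genLocus _ t)
      (Props.AmpleBase.isCompact_genLocus hI t) (by rw [ht]; exact haff x)
    obtain ⟨t', ht', -⟩ := Props.GenPull.exists_pull (D.map ψ) hI t
    let e := AmpleLib.tensorPowIso ((Scheme.Modules.pullbackComp (D.map ψ) (D.map j.hom) ≪≫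
      Scheme.Modules.pullbackCongr (D.map_comp ψ j.hom).symm).app L₀) (n x + 1)
    refine ⟨Over.mk (ψ ≫ j.hom), t' ≫ e.hom, ?_, ?_⟩
    · show c.π.app k ⁻¹ᵁ CohB1.genLocus _ (t' ≫ e.hom) = _
      rw [AmpleLib.genLocus_comp_iso, ht', ← ht, ← Scheme.Hom.comp_preimage, c.w]
    · show IsAffineOpen (CohB1.genLocus _ (t' ≫ e.hom))
      rw [AmpleLib.genLocus_comp_iso, ht']
      exact hk
  choose j t ht hta using hst
  obtain ⟨K, hK⟩ := IsCofiltered.inf_objs_exists (T.image j)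
  let a : ∀ x : ↥T, K ⟶ j x.1 := fun x => (hK (Finset.mem_image_of_mem j x.2)).some
  obtain ⟨l, ψ, hl⟩ := exists_map_preimage_le_map_preimage D c hc (U := (⊤ : (D.obj K.left).Opens))
    (V := ⨆ x : ↥T, D.map (a x).left ⁻¹ᵁ CohB1.genLocus _ (t x.1)) isCompact_univ (by
      intro z _
      obtain ⟨x, hxT, hzx⟩ := Set.mem_iUnion₂.1 (hT (Set.mem_univ z))
      refine TopologicalSpace.Opens.mem_iSup.2 ⟨⟨x, hxT⟩, ?_⟩
      show D.map (a ⟨x, hxT⟩).left (c.π.app K.left z) ∈ CohB1.genLocus _ (t x)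
      rw [← Scheme.Hom.comp_apply, c.w]
      exact (ht x).ge hzx)
  refine ⟨l, ψ ≫ K.hom, PicCl.isInvertible_pullback _ hL₀, inferInstance, fun z => ?_⟩
  obtain ⟨x, hx⟩ := TopologicalSpace.Opens.mem_iSup.1 (hl (show z ∈ D.map ψ ⁻¹ᵁ ⊤ from trivial))
  obtain ⟨t', ht', -⟩ := Props.GenPull.exists_pull (D.map (ψ ≫ (a x).left))
    (PicCl.isInvertible_pullback (D.map (j x.1).hom) hL₀) (t x.1)
  let e := AmpleLib.tensorPowIso ((Scheme.Modules.pullbackComp (D.map (ψ ≫ (a x).left)) (D.map (j x.1).hom) ≪≫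
    Scheme.Modules.pullbackCongr (show D.map (ψ ≫ (a x).left) ≫ D.map (j x.1).hom = D.map (ψ ≫ K.hom) by
      rw [← D.map_comp, Category.assoc, Over.w (a x)])).app L₀) (n x.1 + 1)
  refine ⟨n x.1, t' ≫ e.hom, ?_, ?_⟩
  · rw [AmpleLib.genLocus_comp_iso, ht']
    rw [D.map_comp, Scheme.Hom.comp_preimage]
    exact hx
  · rw [AmpleLib.genLocus_comp_iso, ht']
    exact (hta x.1).preimage _

end Groth.Agent.S9223
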