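import Groth.Statements.S9224
import Groth.Agent.LimLib.ClosedAvoid

set_option backward.isDefEq.respectTransparency false
set_option backward.defeqAttrib.useBackward true

set_option autoImplicit false
universe u
open CategoryTheory CategoryTheory.Limits AlgebraicGeometry
open Lim

namespace Groth.Agent.S9224

lemma lfp_poly {S : Scheme.{u}} {U : S.Opens} (hU : IsAffineOpen U) (n : ℕ) :
    LocallyOfFinitePresentation
      (Spec.map (CommRingCat.ofHom
          (MvPolynomial.C : Γ(S, U) →+* MvPolynomial (ULift.{u} (Fin n)) Γ(S, U))) ≫ hU.fromSpec :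
        Spec (CommRingCat.of (MvPolynomial (ULift.{u} (Fin n)) Γ(S, U))) ⟶ S) := by
  have : LocallyOfFinitePresentation (Spec.map (CommRingCat.ofHom
      (MvPolynomial.C : Γ(S, U) →+* MvPolynomial (ULift.{u} (Fin n)) Γ(S, U)))) :=
    (LocallyOfFinitePresentation.SpecMap_iff _).mpr (RingHom.finitePresentation_algebraMap
      (A := Γ(S, U)) (B := MvPolynomial (ULift.{u} (Fin n)) Γ(S, U)) |>.mpr inferInstance)
  infer_instance

/-- Let f : X → S be a quasi-compact morphism, g : T → S a morphism, t a point of T and Z a closed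
subset of X_T = X ×_S T which does not meet the fibre of X_T → T over t. Then there exist an affine
open neighbourhood V of t in T, an affine scheme T' with a morphism b : T' → S locally of finite
presentation, a morphism a : V → T' whose composite with b is the restriction of g, and a closed
subset Z' of X_{T'} = X ×_S T' which does not meet the fibre over t' = a(t), such that the induced
morphism X_V → X_{T'} maps every point of X_V lying over Z (under X_V → X_T) into Z'. The morphisms
X_V → X_T and X_V → X_{T'} are the canonical ones, characterised by their projections. -/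
theorem result {X S T : Scheme.{u}} (f : X ⟶ S) [QuasiCompact f] (g : T ⟶ S) (t : T)
    (Z : Set ↥(pullback f g)) (hZ : IsClosed Z) (hZt : ∀ z ∈ Z, (pullback.snd f g).base z ≠ t) :
    ∃ (V : T.Opens) (ht : t ∈ V) (T' : Scheme.{u}) (b : T' ⟶ S) (a : (V : Scheme.{u}) ⟶ T')
      (n : pullback f (V.ι ≫ g) ⟶ pullback f g) (m : pullback f (V.ι ≫ g) ⟶ pullback f b)
      (Z' : Set ↥(pullback f b)),
      IsAffineOpen V ∧ IsAffine T' ∧ LocallyOfFinitePresentation b ∧ a ≫ b = V.ι ≫ g ∧
      n ≫ pullback.fst f g = pullback.fst f (V.ι ≫ g) ∧ n ≫ pullback.snd f g = pullback.snd f (V.ι ≫ g) ≫ V.ι ∧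
      m ≫ pullback.fst f b = pullback.fst f (V.ι ≫ g) ∧ m ≫ pullback.snd f b = pullback.snd f (V.ι ≫ g) ≫ a ∧
      IsClosed Z' ∧ (∀ z' ∈ Z', (pullback.snd f b).base z' ≠ a.base ⟨t, ht⟩) ∧
      ∀ z : ↥(pullback f (V.ι ≫ g)), n.base z ∈ Z → m.base z ∈ Z' := by
  obtain ⟨U, hU, V, htV, n, a, nV, m, Z', hV, hab, hn₁, hn₂, hm₁, hm₂, hZ', hne, hmem⟩ :=
    LimLib.exists_polynomial_nhd f g t Z hZ hZt
  exact ⟨V, htV, _, _, a, nV, m, Z', hV, inferInstance, lfp_poly hU n, hab, hn₁, hn₂, hm₁, hm₂,
    hZ', hne, hmem⟩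

end Groth.Agent.S9224
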