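import Groth.Statements.S9227
import Groth.Agent.DerReg.Basic
-- import your own Groth.Agent.* helpers here

set_option autoImplicit false
universe u
open CAlg

namespace Groth.Agent.S9227

/-- Let R be a regular ring, f an element of R and D a derivation of R with D(f) a unit of R. Then for
every polynomial p with integer coefficients the ring R[z]/(p(z) - f) is regular; in particular
R[z]/(z^n - f) is regular for every n ≥ 1. -/
theorem result (R : Type u) [CommRing R]
    [IsRegularRing R] (f : R) (D : Derivation ℤ R R) (hD : IsUnit (D f)) (p : Polynomial ℤ) :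
    IsRegularRing (Polynomial R ⧸
      Ideal.span ({Polynomial.map (Int.castRingHom R) p - Polynomial.C f} : Set (Polynomial R))) := by
  refine Groth.Agent.DerReg.isRegularRing_quotient_span_singleton _ (Groth.Agent.EGA4Lib.DerKernel.polyDer D 0) ?_
  rw [map_sub, Groth.Agent.EGA4Lib.DerKernel.polyDer_C]
  have hp : Groth.Agent.EGA4Lib.DerKernel.polyDer D 0 (p.map (Int.castRingHom R)) = 0 := by
    induction p using Polynomial.induction_on with
    | C b => simp [Groth.Agent.EGA4Lib.DerKernel.polyDer_C]
    | add P Q hP hQ => rw [Polynomial.map_add, map_add, hP, hQ, add_zero]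
    | monomial n b _ => simp [Derivation.leibniz, Derivation.leibniz_pow, Groth.Agent.EGA4Lib.DerKernel.polyDer_X, Groth.Agent.EGA4Lib.DerKernel.polyDer_C]
  rw [hp, zero_sub, map_neg]
  exact ((hD.map Polynomial.C).map _).neg

end Groth.Agent.S9227
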