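import Groth.Statements.S9229
import Groth.Agent.HenGeomInt.Branch
import Groth.Agent.Hens.BranchUnibranch
-- import your own Groth.Agent.* helpers here

set_option autoImplicit false
universe u
open EGA4

namespace Groth.Agent.S9229

/-- A Noetherian local ring A whose formal fibres are geometrically normal and which is unibranch (a
normal local ring, say) is universally catenary. -/
theorem result (A : Type u) [CommRing A]
    [IsLocalRing A] [IsNoetherianRing A] (hA : EGA4.HasGeomNormalFormalFibres A)
    (hu : CAlg2.IsUnibranch A) : CAlg.IsUniversallyCatenary A := by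
  refine Groth.Agent.HenGeomInt.isUniversallyCatenary_of_card_minimalPrimes ?_
  let C := AdicCompletion (IsLocalRing.maximalIdeal A) A
  haveI : IsNoetherianRing C := Groth.Agent.RegLoc.Completion.isNoetherianRing_adicCompletion' _
  haveI : Hensel.IsHenselization C C := Groth.Agent.Hens.isHenselization_self C
  rw [Groth.Agent.S9237.result C C, (Groth.Agent.S9244.result A hA).1, (Groth.Agent.Hens.numBranches_eq_one_iff A).2 hu]
  haveI : Nonempty (minimalPrimes A) := Ideal.nonempty_minimalPrimes (I := (⊥ : Ideal A)) bot_ne_top
  exact Order.one_le_iff_pos.2 (pos_iff_ne_zero.2 ((ENat.card_eq_zero_iff_empty _).not.2 (not_isEmpty_of_nonempty _)))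

end Groth.Agent.S9229
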