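import Groth.Statements.S9230
import Groth.Agent.HenGeomInt.Branch
import Groth.Agent.Hensel.EtLike
import Groth.Agent.Hensel.Completion
import Groth.Agent.S2772
-- import your own Groth.Agent.* helpers here

set_option autoImplicit false
universe u
open EGA4

namespace Groth.Agent.S9230

/-- For a Noetherian local ring A whose formal fibres are geometrically normal, every henselization S of
A is universally catenary. -/
theorem result (A S : Type u) [CommRing A]
    [IsLocalRing A] [IsNoetherianRing A] [CommRing S] [IsLocalRing S] [Algebra A S]
    [IsLocalHom (algebraMap A S)] [Hensel.IsHenselization A S]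
    (hA : EGA4.HasGeomNormalFormalFibres A) : CAlg.IsUniversallyCatenary S := by
  have h := Groth.Agent.Hensel.isEtLike_of_isHenselization A S
  haveI := h.isNoetherianRing_of_base
  refine Groth.Agent.HenGeomInt.isUniversallyCatenary_of_card_minimalPrimes (S := S) ?_
  obtain ⟨e⟩ := Groth.Agent.Hensel.nonempty_completion_equiv_of_residue h Groth.Agent.Hensel.exists_residue_of_isHenselization
  let C := AdicCompletion (IsLocalRing.maximalIdeal A) A
  haveI : IsNoetherianRing C := Groth.Agent.RegLoc.Completion.isNoetherianRing_adicCompletion' _
  haveI : Hensel.IsHenselization C C := Groth.Agent.Hens.isHenselization_self C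
  rw [Groth.Agent.S9237.result A S, ← (Groth.Agent.S9244.result A hA).1, ← Groth.Agent.S9237.result C C]
  obtain ⟨e', -⟩ := Groth.Agent.Hens.exists_minimalPrimes_surjective_equiv e.symm.toRingEquiv.toRingHom e.symm.surjective (by
    intro x hx
    have : x = 0 := e.symm.injective (by rw [map_zero]; exact hx)
    rw [this]
    exact zero_mem _)
  exact (ENat.card_congr e').ge

end Groth.Agent.S9230
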