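import Groth.Statements.S9231
import Groth.Agent.EGA4Lib.CplFlat
import Groth.Agent.Adic.Rig.Hom
import Groth.Agent.FDesc.Algebra

set_option autoImplicit false
universe u
open CAlg

namespace Groth.Agent.S9231

open IsLocalRing in
theorem faithfullyFlat_cpl (B : Type u) [CommRing B] [IsLocalRing B] [IsNoetherianRing B] :
    Module.FaithfullyFlat B (AdicCompletion (maximalIdeal B) B) := by
  have : Module.Flat B (AdicCompletion (maximalIdeal B) B) := AdicCompletion.flat_of_isNoetherian _
  have : IsLocalHom (algebraMap B (AdicCompletion (maximalIdeal B) B)) := by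
    refine ((local_hom_TFAE _).out 0 2 rfl rfl).mpr ?_
    rw [← AdicCompletion.maximalIdeal_eq_map (R := B)]
  exact Module.FaithfullyFlat.of_flat_of_isLocalHom


/-- For a local ring map A → B between Noetherian local rings, let ψ be the induced map from the
completion of A at its maximal ideal to that of B (here: a ring map of the completions whose
composite with A → A^ is the composite A → B → B^; since A is Noetherian such a map is unique, hence
is the canonical one). Then ψ is flat exactly when A → B is flat. -/
theorem result (A B : Type u) [CommRing A] [CommRing B] [IsLocalRing A]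
    [IsLocalRing B] [IsNoetherianRing A] [IsNoetherianRing B] [Algebra A B]
    [IsLocalHom (algebraMap A B)]
    (ψ : AdicCompletion (IsLocalRing.maximalIdeal A) A →+* AdicCompletion (IsLocalRing.maximalIdeal B) B)
    (hψ : ψ.comp (algebraMap A (AdicCompletion (IsLocalRing.maximalIdeal A) A)) =
      (algebraMap B (AdicCompletion (IsLocalRing.maximalIdeal B) B)).comp (algebraMap A B)) :
    ψ.Flat ↔ (algebraMap A B).Flat := by
  obtain ⟨alg, htow, hloc⟩ := EGA4Lib.exists_algebra_cpl A B
  let K : Ideal (AdicCompletion (IsLocalRing.maximalIdeal B) B) := IsLocalRing.maximalIdeal _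
  have : IsHausdorff K (AdicCompletion (IsLocalRing.maximalIdeal B) B) := by
    have : IsAdicComplete K (AdicCompletion (IsLocalRing.maximalIdeal B) B) := inferInstance
    infer_instance
  have hψeq : ψ = algebraMap (AdicCompletion (IsLocalRing.maximalIdeal A) A) (AdicCompletion (IsLocalRing.maximalIdeal B) B) := by
    refine Adic.Rig.hom_ext (IsNoetherian.noetherian _) K _ _ ?_ ?_
    · rw [hψ, ← IsScalarTower.algebraMap_eq A B]
      exact EGA4Lib.map_maximalIdeal_cpl_le A B
    · rw [hψ, ← IsScalarTower.algebraMap_eq A B,
        ← IsScalarTower.algebraMap_eq A (AdicCompletion (IsLocalRing.maximalIdeal A) A)]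
  rw [hψeq, RingHom.flat_algebraMap_iff, RingHom.flat_algebraMap_iff]
  refine ⟨fun h => ?_, fun h => EGA4Lib.flat_cpl A B⟩
  have := faithfullyFlat_cpl B
  have : Module.Flat A (AdicCompletion (IsLocalRing.maximalIdeal A) A) := AdicCompletion.flat_of_isNoetherian _
  have : Module.Flat A (AdicCompletion (IsLocalRing.maximalIdeal B) B) :=
    Module.Flat.trans A (AdicCompletion (IsLocalRing.maximalIdeal A) A) _
  exact FDesc.Algebra.flat_of_comp_faithfullyFlat (C := AdicCompletion (IsLocalRing.maximalIdeal B) B)

end Groth.Agent.S9231
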