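import Groth.Statements.S9239
import Groth.Agent.Hens.CompletionBranch
import Groth.Agent.S9237
import Groth.Agent.S9238

set_option linter.style.haveILetI false

set_option autoImplicit false
universe u
open Brnch

namespace Groth.Agent.S9239

/-- For a Noetherian local ring A with completion A^ at its maximal ideal, A^ has at least as many
branches as A, and at least as many geometric branches as A. -/
theorem result (A : Type u) [CommRing A] [IsLocalRing A] [IsNoetherianRing A] :
    Brnch.numBranches A ≤ Brnch.numBranches (AdicCompletion (IsLocalRing.maximalIdeal A) A) ∧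
      Brnch.numGeomBranches A ≤
        Brnch.numGeomBranches (AdicCompletion (IsLocalRing.maximalIdeal A) A) := by
  let C := AdicCompletion (IsLocalRing.maximalIdeal A) A
  haveI : Hensel.IsHenselization C C := Groth.Agent.Hens.isHenselization_self C
  constructor
  · let S := Groth.Agent.Hens.Henselization A
    have hS := Groth.Agent.Hensel.isEtLike_of_isHenselization A S
    obtain ⟨ψ, hψ, -⟩ := (inferInstance : Hensel.IsHenselization A S).universal C (algebraMap A C) inferInstance
    letI : Algebra S C := ψ.toAlgebra
    haveI : IsScalarTower A S C := .of_algebraMap_eq fun a => (RingHom.congr_fun hψ a).symm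
    haveI : IsLocalHom (algebraMap S C) := Groth.Agent.Hens.isLocalHom_of_isEtLike hS
    haveI : Module.Flat S C := Groth.Agent.S1235.flat_of_isEtLike hS C
    rw [← Groth.Agent.S9237.result A S, ← Groth.Agent.S9237.result C C]
    exact Groth.Agent.Hens.card_minimalPrimes_le
  · let S := Groth.Agent.Hens.StrictHenselization A
    let T := Groth.Agent.Hens.StrictHenselization C
    have hS := Groth.Agent.Hensel.isEtLike_of_isStrictHenselization A S
    have hT := Groth.Agent.Hensel.isEtLike_of_isStrictHenselization C T
    letI : Algebra A T := ((algebraMap C T).comp (algebraMap A C)).toAlgebra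
    haveI : IsScalarTower A C T := .of_algebraMap_eq' rfl
    haveI : IsLocalHom (algebraMap A T) := RingHom.isLocalHom_comp _ _
    haveI : Module.Flat C T := hT.flat
    haveI : Module.Flat A T := Module.Flat.trans A C T
    haveI : IsSepClosure (IsLocalRing.ResidueField C) (IsLocalRing.ResidueField T) :=
      Hensel.IsStrictHenselization.isSepClosure
    haveI : IsSepClosure (IsLocalRing.ResidueField A) (IsLocalRing.ResidueField T) :=
      Groth.Agent.Hens.isSepClosure_residue_of_bijective (C := C) (AdicCompletion.residueField_map_bijective A)
    haveI : IsSepClosure (IsLocalRing.ResidueField A) (IsLocalRing.ResidueField S) :=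
      Hensel.IsStrictHenselization.isSepClosure
    haveI : HenselianLocalRing T := Hensel.IsStrictHenselization.henselian (R := C)
    let τ := IsSepClosure.equiv (IsLocalRing.ResidueField A) (IsLocalRing.ResidueField S) (IsLocalRing.ResidueField T)
    obtain ⟨ψ, ⟨hψ, -⟩, -⟩ := (inferInstance : Hensel.IsStrictHenselization A S).universal T (algebraMap A T)
      τ.toAlgHom.toRingHom (RingHom.ext fun z => by
        obtain ⟨a, rfl⟩ := IsLocalRing.residue_surjective z
        exact τ.commutes (IsLocalRing.residue A a))
    letI : Algebra S T := ψ.toAlgebra
    haveI : IsScalarTower A S T := .of_algebraMap_eq fun a => (RingHom.congr_fun hψ a).symm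
    haveI : IsLocalHom (algebraMap S T) := Groth.Agent.Hens.isLocalHom_of_isEtLike hS
    haveI : Module.Flat S T := Groth.Agent.S1235.flat_of_isEtLike hS T
    rw [← Groth.Agent.S9238.result A S, ← Groth.Agent.S9238.result C T]
    exact Groth.Agent.Hens.card_minimalPrimes_le

end Groth.Agent.S9239
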