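import Groth.Statements.S9242
import Groth.Agent.HenGeomInt.DimOneBranch
import Groth.Agent.S1235
import Groth.Agent.RegLoc.AdicNoeth
-- import your own Groth.Agent.* helpers here

set_option autoImplicit false
universe u
open Brnch

namespace Groth.Agent.S9242

/-- Let A be a Noetherian local ring with henselization S and completion A^, let ψ : S → A^ be the ring
map compatible with the structure maps from A, and let q be a minimal prime of A^ with dim(A^/q) =
1. Then q is the radical of the extension along ψ of some minimal prime of S. -/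
theorem result (A S : Type u) [CommRing A]
    [IsLocalRing A] [IsNoetherianRing A] [CommRing S] [IsLocalRing S] [Algebra A S]
    [IsLocalHom (algebraMap A S)] [Hensel.IsHenselization A S]
    (ψ : S →+* AdicCompletion (IsLocalRing.maximalIdeal A) A)
    (hψ : ψ.comp (algebraMap A S) = algebraMap A (AdicCompletion (IsLocalRing.maximalIdeal A) A))
    (q : Ideal (AdicCompletion (IsLocalRing.maximalIdeal A) A))
    (hq : q ∈ minimalPrimes (AdicCompletion (IsLocalRing.maximalIdeal A) A))
    (hdim : ringKrullDim (AdicCompletion (IsLocalRing.maximalIdeal A) A ⧸ q) = 1) :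
    ∃ q' ∈ minimalPrimes S, (Ideal.map ψ q').radical = q := by
  let C := AdicCompletion (IsLocalRing.maximalIdeal A) A
  letI : Algebra S C := ψ.toAlgebra
  haveI : IsScalarTower A S C := .of_algebraMap_eq fun a => (RingHom.congr_fun hψ a).symm
  have hS := Groth.Agent.Hensel.isEtLike_of_isHenselization A S
  haveI : IsLocalHom (algebraMap S C) := Groth.Agent.Hens.isLocalHom_of_isEtLike hS
  haveI : Module.Flat S C := Groth.Agent.S1235.flat_of_isEtLike hS _
  haveI : HenselianLocalRing S := Hensel.IsHenselization.henselian (R := A)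
  haveI : IsNoetherianRing S := hS.isNoetherianRing_of_base
  haveI : IsNoetherianRing C :=
    Groth.Agent.RegLoc.AdicNoeth.isNoetherianRing_adicCompletion _ (IsNoetherian.noetherian _)
  have hmapC : (IsLocalRing.maximalIdeal S).map (algebraMap S C) =
      (IsLocalRing.maximalIdeal A).map (algebraMap A C) := by
    rw [← hS.map_max, Ideal.map_map, ← IsScalarTower.algebraMap_eq]
  have hdense : ∀ (N : ℕ) (z : C), ∃ d : S, z - algebraMap S C d ∈
      (IsLocalRing.maximalIdeal S).map (algebraMap S C) ^ N := fun N z => by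
    obtain ⟨a, ha⟩ := Groth.Agent.HenGeomInt.exists_sub_mem_of_completion A N z
    exact ⟨algebraMap A S a, by rw [hmapC, ← IsScalarTower.algebraMap_apply]; exact ha⟩
  haveI := hq.1.1
  haveI : IsLocalRing (C ⧸ q) := IsLocalRing.of_surjective' _ Ideal.Quotient.mk_surjective
  have hqdim : ∀ R : Ideal C, R.IsPrime → q < R → R = IsLocalRing.maximalIdeal C := fun R hR hlt => by
    haveI := hR
    haveI : (R.map (Ideal.Quotient.mk q)).IsPrime :=
      Ideal.map_isPrime_of_surjective Ideal.Quotient.mk_surjective (by rw [Ideal.mk_ker]; exact hlt.le)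
    have hlt' : (⊥ : Ideal (C ⧸ q)) < R.map (Ideal.Quotient.mk q) := by
      refine bot_lt_iff_ne_bot.2 fun h => hlt.ne (le_antisymm hlt.le ?_)
      rw [Ideal.map_eq_bot_iff_le_ker, Ideal.mk_ker] at h
      exact h
    have h := congrArg (Ideal.comap (Ideal.Quotient.mk q))
      (Groth.Agent.HenGeomInt.eq_maximalIdeal_of_lt_of_ringKrullDim_le_one hdim.le inferInstance hlt')
    rw [Ideal.comap_map_mk hlt.le] at h
    rw [h, ← IsLocalRing.map_maximalIdeal_of_surjective _ Ideal.Quotient.mk_surjective,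
      Ideal.comap_map_mk (IsLocalRing.le_maximalIdeal hq.1.1.ne_top)]
  refine ⟨q.comap ψ, Groth.Agent.Hens.comap_mem_minimalPrimes_of_flat hq, ?_⟩
  have hq' : (q.comap ψ) ∈ minimalPrimes S := Groth.Agent.Hens.comap_mem_minimalPrimes_of_flat hq
  have hset : ((q.comap ψ).map ψ).minimalPrimes = {q} := by
    refine Set.eq_singleton_iff_unique_mem.2 ⟨⟨⟨hq.1.1, Ideal.map_comap_le⟩,
      fun R hR hle => hq.2 ⟨hR.1, bot_le⟩ hle⟩, fun R hR => ?_⟩
    haveI := hR.1.1
    obtain ⟨R₀, hR₀, hle⟩ := Ideal.exists_minimalPrimes_le (bot_le : (⊥ : Ideal C) ≤ R)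
    have h1 := Groth.Agent.Hens.comap_mem_minimalPrimes_of_flat (R := S) hR₀
    have h2 : (q.comap ψ) ≤ R.comap ψ := Ideal.map_le_iff_le_comap.1 hR.1.2
    haveI : R.LiesOver (R.comap ψ) := ⟨rfl⟩
    haveI := hq'.1.1
    obtain ⟨R', hle', hR'p, hR'⟩ := Ideal.exists_ideal_le_liesOver_of_le R h2
    have hRR' : R = R' := le_antisymm (hR.2 ⟨hR'p, Ideal.map_le_iff_le_comap.2 hR'.over.le⟩ hle') hle'
    have hc : R.comap ψ = q.comap ψ := by rw [hRR']; exact hR'.over.symm
    have hc0 : R₀.comap ψ = q.comap ψ := by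
      have hle0 : R₀.comap ψ ≤ q.comap ψ := (Ideal.comap_mono hle).trans hc.le
      exact le_antisymm hle0 (hq'.2 h1.1 hle0)
    have hR₀q := Groth.Agent.HenGeomInt.eq_of_comap_eq hdense
      (hmapC.trans AdicCompletion.maximalIdeal_eq_map.symm) hq hR₀ hqdim hc0
    exact le_antisymm (hR.2 ⟨hq.1.1, Ideal.map_comap_le⟩ (hR₀q ▸ hle)) (hR₀q ▸ hle)
  rw [← Ideal.sInf_minimalPrimes, hset, sInf_singleton]

end Groth.Agent.S9242
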