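import Groth.Statements.S9243
import Groth.Agent.Hens.CompletionBranch
import Groth.Agent.S9237
import Groth.Agent.RegLoc.AdicNoeth

set_option linter.style.haveILetI false

set_option autoImplicit false
universe u
open Brnch

namespace Groth.Agent.S9243

/-- Let A be a Noetherian local ring with henselization S and completion A^, and ψ : S → A^ the ring map
compatible with the structure maps from A. Then A and A^ have the same number of branches if and
only if, for every minimal prime q of S, the radical of the extension of q along ψ is a prime ideal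
of A^. -/
theorem result (A S : Type u) [CommRing A] [IsLocalRing A]
    [IsNoetherianRing A] [CommRing S] [IsLocalRing S] [Algebra A S] [IsLocalHom (algebraMap A S)]
    [Hensel.IsHenselization A S] (ψ : S →+* AdicCompletion (IsLocalRing.maximalIdeal A) A)
    (hψ : ψ.comp (algebraMap A S) = algebraMap A (AdicCompletion (IsLocalRing.maximalIdeal A) A)) :
    Brnch.numBranches A = Brnch.numBranches (AdicCompletion (IsLocalRing.maximalIdeal A) A) ↔
      ∀ q ∈ minimalPrimes S, (Ideal.map ψ q).radical.IsPrime := by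
  letI : Algebra S (AdicCompletion (IsLocalRing.maximalIdeal A) A) := ψ.toAlgebra
  haveI : IsScalarTower A S (AdicCompletion (IsLocalRing.maximalIdeal A) A) :=
    .of_algebraMap_eq fun a => (RingHom.congr_fun hψ a).symm
  have hS := Groth.Agent.Hensel.isEtLike_of_isHenselization A S
  haveI : IsLocalHom (algebraMap S (AdicCompletion (IsLocalRing.maximalIdeal A) A)) :=
    Groth.Agent.Hens.isLocalHom_of_isEtLike hS
  haveI : Module.Flat S (AdicCompletion (IsLocalRing.maximalIdeal A) A) :=
    Groth.Agent.S1235.flat_of_isEtLike hS _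
  let C := AdicCompletion (IsLocalRing.maximalIdeal A) A
  haveI : Hensel.IsHenselization C C := Groth.Agent.Hens.isHenselization_self C
  haveI : IsNoetherianRing C :=
    Groth.Agent.RegLoc.AdicNoeth.isNoetherianRing_adicCompletion _ (IsNoetherian.noetherian _)
  rw [← Groth.Agent.S9237.result A S, ← Groth.Agent.S9237.result C C]
  let f : minimalPrimes C → minimalPrimes S := fun Q =>
    ⟨_, Groth.Agent.Hens.comap_mem_minimalPrimes_of_flat Q.2⟩
  have hsurj : Function.Surjective f := fun P => by
    obtain ⟨Q, hQ, hQP⟩ := Groth.Agent.Hens.exists_minimalPrime_comap_eq (T := C) P.2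
    exact ⟨⟨Q, hQ⟩, Subtype.ext hQP⟩
  haveI : Finite (minimalPrimes C) := (minimalPrimes.finite_of_isNoetherianRing C).to_subtype
  haveI : Finite (minimalPrimes S) := Finite.of_surjective f hsurj
  have hcard : ENat.card (minimalPrimes S) = ENat.card (minimalPrimes C) ↔ Function.Injective f := by
    rw [ENat.card_eq_coe_natCard, ENat.card_eq_coe_natCard, Nat.cast_inj]
    exact ⟨fun h => (hsurj.bijective_of_nat_card_le h.ge).1,
      fun h => (Nat.card_congr (Equiv.ofBijective f ⟨h, hsurj⟩)).symm⟩
  rw [hcard]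
  -- minimal primes over `qC` are the minimal primes contracting to `q`
  have hover : ∀ q : minimalPrimes S, ∀ R ∈ (q.1.map ψ).minimalPrimes,
      R ∈ minimalPrimes C ∧ R.comap ψ = q.1 := by
    intro q R hR
    haveI := q.2.1.1
    haveI := hR.1.1
    have hqR : q.1 ≤ R.comap ψ := Ideal.map_le_iff_le_comap.1 hR.1.2
    haveI : R.LiesOver (R.comap ψ) := ⟨rfl⟩
    obtain ⟨R', hle, hR'p, hR'⟩ := Ideal.exists_ideal_le_liesOver_of_le R hqR
    have hc : R.comap ψ = q.1 := le_antisymm ((Ideal.comap_mono (hR.2 ⟨hR'p,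
      Ideal.map_le_iff_le_comap.2 hR'.over.le⟩ hle)).trans hR'.over.ge) hqR
    refine ⟨⟨⟨inferInstance, bot_le⟩, fun R₀ hR₀ hle₀ => ?_⟩, hc⟩
    haveI := hR₀.1
    have h1 : R₀.comap ψ ≤ q.1 := (Ideal.comap_mono hle₀).trans hc.le
    exact hR.2 ⟨hR₀.1, Ideal.map_le_iff_le_comap.2 (q.2.2 ⟨inferInstance, bot_le⟩ h1)⟩ hle₀
  constructor
  · intro hi q hq
    haveI := hq.1.1
    obtain ⟨Q, hQ, hQP⟩ := Groth.Agent.Hens.exists_minimalPrime_comap_eq (T := C) hq
    haveI := hQ.1.1
    have hQmem : Q ∈ (q.map ψ).minimalPrimes :=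
      ⟨⟨inferInstance, Ideal.map_le_iff_le_comap.2 hQP.ge⟩, fun R hR hle => hQ.2 ⟨hR.1, bot_le⟩ hle⟩
    have hset : (q.map ψ).minimalPrimes = {Q} := Set.eq_singleton_iff_unique_mem.2 ⟨hQmem, fun R hR => by
      have h := hover ⟨q, hq⟩ R hR
      exact congrArg Subtype.val (@hi ⟨R, h.1⟩ ⟨Q, hQ⟩ (Subtype.ext (h.2.trans hQP.symm)))⟩
    rw [← Ideal.sInf_minimalPrimes, hset, sInf_singleton]
    exact hQ.1.1
  · intro hprime Q Q' hQQ
    have hq : Q.1.comap ψ = Q'.1.comap ψ := congrArg Subtype.val hQQ
    have hp := hprime _ (f Q).2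
    have hmin : ∀ R : minimalPrimes C, R.1.comap ψ = Q.1.comap ψ →
        R.1 = ((Q.1.comap ψ).map ψ).radical := fun R hR => by
      haveI := R.2.1.1
      haveI : ((Q.1.comap ψ).map ψ).radical.IsPrime := hp
      have hle : ((Q.1.comap ψ).map ψ).radical ≤ R.1 := by
        rw [← (inferInstance : R.1.IsPrime).radical]
        exact Ideal.radical_mono (Ideal.map_le_iff_le_comap.2 hR.ge)
      exact le_antisymm (R.2.2 ⟨inferInstance, bot_le⟩ hle) hle
    exact Subtype.ext ((hmin Q rfl).trans (hmin Q' hq.symm).symm)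

end Groth.Agent.S9243
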