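import Groth.Statements.S9247
import Groth.Agent.S0563
import Groth.Agent.RegLoc.PD
import Mathlib.Algebra.Module.StablyFree.FreeOfInvertible
import Mathlib.RingTheory.PicardGroup
import Mathlib.Algebra.Module.LocalizedModule.Exact
import Mathlib.RingTheory.Flat.Localization

set_option autoImplicit false
set_option linter.style.haveILetI false
universe u
open CAlg

namespace Groth.Agent.S9247

open CategoryTheory in
/-- A projective localisation of a module with finite projective dimension over a local ring is
stably free. -/
theorem isStablyFree_localized {R : Type u} [CommRing R] [IsNoetherianRing R] [IsLocalRing R]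
    (T : Submonoid R) : ∀ (d : ℕ) (N : Type u) [AddCommGroup N] [Module R N] [Module.Finite R N],
      HasProjectiveDimensionLE (ModuleCat.of R N) d →
      Module.Projective (Localization T) (LocalizedModule T N) →
      Module.IsStablyFree (Localization T) (LocalizedModule T N) := by
  intro d
  induction d with
  | zero =>
    intro N _ _ _ hd _
    haveI : Module.Projective R N := (Groth.Agent.RegLoc.PD.pd_zero_iff N).1 hd
    haveI : Module.Free R N := Module.free_of_flat_of_isLocalRing
    haveI : Module.Free (Localization T) (LocalizedModule T N) :=
      Module.free_of_isLocalizedModule T (LocalizedModule.mkLinearMap T N)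
    infer_instance
  | succ d ih =>
    intro N _ _ _ hd _
    obtain ⟨n, f, hf⟩ := Module.Finite.exists_fin' R N
    let K := LinearMap.ker f
    have hK := (Groth.Agent.RegLoc.PD.pd_shift f hf d).1 hd
    let a := LocalizedModule.map T K.subtype
    let b := LocalizedModule.map T f
    have hex : Function.Exact a b :=
      LocalizedModule.map_exact T K.subtype f (LinearMap.exact_subtype_ker_map f)
    have ha : Function.Injective a := LocalizedModule.map_injective T _ K.injective_subtype
    obtain ⟨s, hs⟩ := Module.projective_lifting_property b LinearMap.id (LocalizedModule.map_surjective T f hf)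
    obtain ⟨e, -⟩ := Function.Exact.splitSurjectiveEquiv (R := Localization T) (M := LocalizedModule T K) (N := LocalizedModule T (Fin n → R)) (P := LocalizedModule T N) (f := a) (g := b) hex ha ⟨s, hs⟩
    haveI : Module.Free (Localization T) (LocalizedModule T (Fin n → R)) :=
      Module.free_of_isLocalizedModule T (LocalizedModule.mkLinearMap T (Fin n → R))
    haveI : Module.Projective (Localization T) (LocalizedModule T K) :=
      Module.Projective.of_split (e.symm.toLinearMap ∘ₗ LinearMap.inl _ _ _)
        (LinearMap.fst _ _ _ ∘ₗ e.toLinearMap) (LinearMap.ext fun x => by simp)
    haveI := ih K hK inferInstance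
    obtain ⟨G, _, _, _, _, _⟩ := Module.IsStablyFree.exist_free_prod (Localization T) (LocalizedModule T K)
    haveI : Module.Finite (Localization T) (LocalizedModule T K) :=
      Module.Finite.of_isLocalizedModule T (LocalizedModule.mkLinearMap T K)
    haveI : Module.Free (Localization T) (LocalizedModule T N × (LocalizedModule T K × G)) :=
      Module.Free.of_equiv (M := LocalizedModule T (Fin n → R) × G)
        (((e.prodCongr (LinearEquiv.refl _ G)).trans
          ((LinearEquiv.prodComm _ _ _).prodCongr (LinearEquiv.refl _ G))).trans
          (LinearEquiv.prodAssoc _ _ _ _))
    exact Module.IsStablyFree.of_free_prod _ _ (LocalizedModule T K × G)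


/-- For a regular local ring R and an element f of R, the Picard group of R_f is trivial. -/
theorem result (R : Type u) [CommRing R]
    [IsRegularLocalRing R] (f : R) : Subsingleton (CommRing.Pic (Localization.Away f)) := by
  rw [CommRing.Pic.subsingleton_iff]
  intro M _ _ hM
  obtain ⟨d, hd⟩ : ∃ d : ℕ, ringKrullDim R = d :=
    ⟨_, (IsRegularLocalRing.spanFinrank_maximalIdeal (R := R)).symm⟩
  letI : Module R M := Module.compHom M (algebraMap R (Localization.Away f))
  haveI : IsScalarTower R (Localization.Away f) M := IsScalarTower.of_algebraMap_smul fun _ _ => rfl
  obtain ⟨s, hs⟩ := (Module.Finite.fg_top : (⊤ : Submodule (Localization.Away f) M).FG)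
  let N : Submodule R M := Submodule.span R s
  haveI : Module.Finite R N := Module.Finite.span_of_finite R s.finite_toSet
  haveI hloc : IsLocalizedModule (Submonoid.powers f) N.subtype :=
    { map_units := fun x => by
        rw [Module.End.isUnit_iff]
        have hu : IsUnit (algebraMap R (Localization.Away f) x) :=
          IsLocalization.map_units _ x
        have : ⇑(algebraMap R (Module.End R M) x) = fun m =>
            (algebraMap R (Localization.Away f) x) • m :=
          funext fun m => (algebraMap_smul (Localization.Away f) (x : R) m).symm
        rw [this]
        exact hu.smul_bijective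
      surj := fun m => by
        have hm : m ∈ Submodule.span (Localization.Away f) (s : Set M) := hs ▸ trivial
        obtain ⟨t, ht⟩ := multiple_mem_span_of_mem_localization_span (Submonoid.powers f) (Localization.Away f) (s : Set M) m hm
        exact ⟨⟨⟨_, ht⟩, t⟩, rfl⟩
      exists_of_eq := fun h => ⟨1, by rw [Subtype.ext h]⟩ }
  let e : LocalizedModule (Submonoid.powers f) N ≃ₗ[Localization.Away f] M :=
    (IsLocalizedModule.iso (Submonoid.powers f) N.subtype).extendScalarsOfIsLocalization
      (Submonoid.powers f) (Localization.Away f)
  haveI : Module.Projective (Localization.Away f) (LocalizedModule (Submonoid.powers f) N) :=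
    Module.Projective.of_equiv e.symm
  haveI := isStablyFree_localized (Submonoid.powers f) d N (Groth.Agent.S0563.result R d hd N) inferInstance
  haveI : Module.IsStablyFree (Localization.Away f) M := Module.IsStablyFree.equiv e
  exact Module.free_of_isStablyFree_of_invertible (Localization.Away f) M

end Groth.Agent.S9247
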