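import Groth.Statements.S9248
import Groth.Agent.CAlgA.ValuationPD
import Mathlib

set_option autoImplicit false
set_option linter.style.haveILetI false
universe u
open CAlg

namespace Groth.Agent.S9248


open CategoryTheory in
/-- A projective localisation of a finitely presented module over `A`, flat over `V`, of finite
projective dimension is stably free. -/
theorem isStablyFree_localized {V A : Type u} [CommRing V] [CommRing A] [Algebra V A] [IsLocalRing A]
    [Algebra.EssFiniteType V A] [IsDomain V] [ValuationRing V] [Module.Flat V A]
    (T : Submonoid A) : ∀ (d : ℕ) (N : Type u) [AddCommGroup N] [Module A N] [Module.FinitePresentation A N],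
      HasProjectiveDimensionLE (ModuleCat.of A N) d →
      Module.Projective (Localization T) (LocalizedModule T N) →
      Module.IsStablyFree (Localization T) (LocalizedModule T N) := by
  intro d
  induction d with
  | zero =>
    intro N _ _ _ hd _
    haveI : Module.Projective A N := (Groth.Agent.RegLoc.PD.pd_zero_iff N).1 hd
    haveI : Module.Free A N := Module.free_of_flat_of_isLocalRing
    haveI : Module.Free (Localization T) (LocalizedModule T N) :=
      Module.free_of_isLocalizedModule T (LocalizedModule.mkLinearMap T N)
    infer_instance
  | succ d ih =>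
    intro N _ _ _ hd _
    obtain ⟨n, f, hf⟩ := Module.Finite.exists_fin' A N
    let K := LinearMap.ker f
    obtain ⟨-, hfp⟩ := Groth.Agent.CAlgA.ValuationPD.ker_flat_and_fp (V := V) f hf
    have hK := (Groth.Agent.RegLoc.PD.pd_shift f hf d).1 hd
    let a := LocalizedModule.map T K.subtype
    let b := LocalizedModule.map T f
    have hex : Function.Exact a b :=
      LocalizedModule.map_exact T K.subtype f (LinearMap.exact_subtype_ker_map f)
    have ha : Function.Injective a := LocalizedModule.map_injective T _ K.injective_subtype
    obtain ⟨s, hs⟩ := Module.projective_lifting_property b LinearMap.id (LocalizedModule.map_surjective T f hf)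
    obtain ⟨e, -⟩ := Function.Exact.splitSurjectiveEquiv (R := Localization T) (M := LocalizedModule T K) (N := LocalizedModule T (Fin n → A)) (P := LocalizedModule T N) (f := a) (g := b) hex ha ⟨s, hs⟩
    haveI : Module.Free (Localization T) (LocalizedModule T (Fin n → A)) :=
      Module.free_of_isLocalizedModule T (LocalizedModule.mkLinearMap T (Fin n → A))
    haveI : Module.Projective (Localization T) (LocalizedModule T K) :=
      Module.Projective.of_split (e.symm.toLinearMap ∘ₗ LinearMap.inl _ _ _)
        (LinearMap.fst _ _ _ ∘ₗ e.toLinearMap) (LinearMap.ext fun x => by simp)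
    haveI := ih K hK inferInstance
    obtain ⟨G, _, _, _, _, _⟩ := Module.IsStablyFree.exist_free_prod (Localization T) (LocalizedModule T K)
    haveI : Module.Finite (Localization T) (LocalizedModule T K) :=
      Module.Finite.of_isLocalizedModule T (LocalizedModule.mkLinearMap T K)
    haveI : Module.Free (Localization T) (LocalizedModule T N × (LocalizedModule T K × G)) :=
      Module.Free.of_equiv (M := LocalizedModule T (Fin n → A) × G)
        (((e.prodCongr (LinearEquiv.refl _ G)).trans
          ((LinearEquiv.prodComm _ _ _).prodCongr (LinearEquiv.refl _ G))).trans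
          (LinearEquiv.prodAssoc _ _ _ _))
    exact Module.IsStablyFree.of_free_prod _ _ (LocalizedModule T K × G)

/-- The closed fibre is a regular local ring. -/
theorem fibre_regular (R A : Type u) [CommRing R] [IsLocalRing R] [CommRing A] [IsLocalRing A] [Algebra R A]
    [IsLocalHom (algebraMap R A)]
    (hreg : IsRegularRing (TensorProduct R (IsLocalRing.ResidueField R) A)) :
    IsRegularLocalRing (A ⧸ (IsLocalRing.maximalIdeal R).map (algebraMap R A)) := by
  let p := IsLocalRing.maximalIdeal R
  have hp : p.map (algebraMap R A) ≠ ⊤ := fun h =>
    (IsLocalRing.maximalIdeal.isMaximal A).ne_top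
      (top_le_iff.1 (h ▸ Ideal.map_le_iff_le_comap.2 fun x hx hu => hx (isUnit_of_map_unit (algebraMap R A) x hu)))
  haveI : Nontrivial (A ⧸ p.map (algebraMap R A)) := Ideal.Quotient.nontrivial_iff.2 hp
  haveI : IsLocalRing (A ⧸ p.map (algebraMap R A)) :=
    IsLocalRing.of_surjective' (Ideal.Quotient.mk _) Ideal.Quotient.mk_surjective
  haveI := hreg
  let e : TensorProduct R (IsLocalRing.ResidueField R) A ≃+* A ⧸ p.map (algebraMap R A) :=
    (Algebra.TensorProduct.comm R (R ⧸ p) A).toRingEquiv.trans
      (Algebra.TensorProduct.quotIdealMapEquivTensorQuot A p).symm.toRingEquiv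
  haveI : IsRegularRing (A ⧸ p.map (algebraMap R A)) := IsRegularRing.of_ringEquiv e
  exact IsRegularLocalRing.of_isRegularRing_of_isLocalRing _

/-- The Picard group of `A` inverted at the nonzero elements of the base is trivial. -/
theorem subsingleton_pic_localization (V A : Type u) [CommRing V] [IsDomain V] [ValuationRing V] [CommRing A]
    [IsLocalRing A] [Algebra V A] [IsLocalHom (algebraMap V A)] [Module.Flat V A] [Algebra.EssFiniteType V A]
    (hreg : IsRegularRing (TensorProduct V (IsLocalRing.ResidueField V) A)) (T : Submonoid A) :
    Subsingleton (CommRing.Pic (Localization T)) := by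
  rw [CommRing.Pic.subsingleton_iff]
  intro M _ _ hM
  haveI hreg' := fibre_regular V A hreg
  obtain ⟨d, hd⟩ : ∃ d : ℕ, ringKrullDim (A ⧸ (IsLocalRing.maximalIdeal V).map (algebraMap V A)) = d :=
    ⟨_, (IsRegularLocalRing.spanFinrank_maximalIdeal (R := A ⧸ (IsLocalRing.maximalIdeal V).map (algebraMap V A))).symm⟩
  letI : Module A M := Module.compHom M (algebraMap A (Localization T))
  haveI : IsScalarTower A (Localization T) M := IsScalarTower.of_algebraMap_smul fun _ _ => rfl
  letI : Module V M := Module.compHom M (algebraMap V (Localization T))
  haveI : IsScalarTower V (Localization T) M := IsScalarTower.of_algebraMap_smul fun _ _ => rfl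
  haveI : IsScalarTower V A M := IsScalarTower.of_algebraMap_smul fun r m => by
    show algebraMap A (Localization T) (algebraMap V A r) • m = algebraMap V (Localization T) r • m
    rw [← IsScalarTower.algebraMap_apply V A (Localization T)]
  haveI : Module.Flat A (Localization T) := IsLocalization.flat _ T
  haveI : Module.Flat V (Localization T) := Module.Flat.trans V A (Localization T)
  haveI : Module.Flat V M := Module.Flat.trans V (Localization T) M
  obtain ⟨s, hs⟩ := (Module.Finite.fg_top : (⊤ : Submodule (Localization T) M).FG)
  let N : Submodule A M := Submodule.span A s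
  haveI : Module.Finite A N := Module.Finite.span_of_finite A s.finite_toSet
  haveI : Module.Flat V N :=
    Groth.Agent.CAlgA.ValuationPD.flat_of_injective (N.subtype.restrictScalars V) N.subtype_injective
  haveI : Module.FinitePresentation A N := Groth.Agent.CAlgA.ValuationPD.finitePresentation (V := V) N
  haveI hloc : IsLocalizedModule T N.subtype :=
    { map_units := fun x => by
        rw [Module.End.isUnit_iff]
        have hu : IsUnit (algebraMap A (Localization T) x) := IsLocalization.map_units _ x
        have : ⇑(algebraMap A (Module.End A M) x) = fun m => (algebraMap A (Localization T) x) • m :=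
          funext fun m => (algebraMap_smul (Localization T) (x : A) m).symm
        rw [this]
        exact hu.smul_bijective
      surj := fun m => by
        have hm : m ∈ Submodule.span (Localization T) (s : Set M) := hs ▸ trivial
        obtain ⟨t, ht⟩ := multiple_mem_span_of_mem_localization_span T (Localization T) (s : Set M) m hm
        exact ⟨⟨⟨_, ht⟩, t⟩, rfl⟩
      exists_of_eq := fun h => ⟨1, by rw [Subtype.ext h]⟩ }
  let e : LocalizedModule T N ≃ₗ[Localization T] M :=
    (IsLocalizedModule.iso T N.subtype).extendScalarsOfIsLocalization T (Localization T)
  haveI : Module.Projective (Localization T) (LocalizedModule T N) := Module.Projective.of_equiv e.symm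
  haveI := isStablyFree_localized (V := V) T d N
    (Groth.Agent.CAlgA.ValuationPD.pd_le_fibreDim d hreg' hd N) inferInstance
  haveI : Module.IsStablyFree (Localization T) M := Module.IsStablyFree.equiv e
  exact Module.free_of_isStablyFree_of_invertible (Localization T) M

theorem pic_subsingleton_of_ringEquiv {S S' : Type u} [CommRing S] [CommRing S'] (e : S ≃+* S')
    [Subsingleton (CommRing.Pic S)] : Subsingleton (CommRing.Pic S') := by
  refine subsingleton_of_forall_eq 1 fun M => ?_
  rw [← CommRing.Pic.mapRingHom_id_apply (M := M), ← e.comp_symm, ← CommRing.Pic.mapRingHom_mapRingHom,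
    Subsingleton.elim (CommRing.Pic.mapRingHom (e.symm : S' →+* S) M) 1, map_one]

attribute [local instance] Algebra.TensorProduct.rightAlgebra


/-- Let R be a valuation ring, K its field of fractions and κ its residue field, and let A be a local
ring with a flat, local homomorphism R → A essentially of finite type such that κ ⊗_R A is a regular
ring. Then K ⊗_R A has trivial Picard group. -/
theorem result (R A : Type u) [CommRing R] [IsDomain R]
    [ValuationRing R] [CommRing A] [IsLocalRing A] [Algebra R A] [IsLocalHom (algebraMap R A)]
    [Module.Flat R A] [Algebra.EssFiniteType R A]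
    (hreg : IsRegularRing (TensorProduct R (IsLocalRing.ResidueField R) A)) :
    Subsingleton (CommRing.Pic (TensorProduct R (FractionRing R) A)) := by
  let T : Submonoid A := Algebra.algebraMapSubmonoid A (nonZeroDivisors R)
  haveI : IsLocalization T (TensorProduct R (FractionRing R) A) :=
    IsLocalization.tensorRight (A := FractionRing R) (S := A) (nonZeroDivisors R)
  haveI := subsingleton_pic_localization R A hreg T
  exact pic_subsingleton_of_ringEquiv (IsLocalization.algEquiv T (Localization T) (TensorProduct R (FractionRing R) A)).toRingEquiv

end Groth.Agent.S9248
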