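import Groth.Statements.S9249
import Groth.Agent.Hensel.UnramifiedFlat
import Groth.Agent.RegLoc.Completion
import Mathlib.RingTheory.AdicCompletion.AsTensorProduct
import Mathlib.RingTheory.AdicCompletion.LocalRing
-- import your own Groth.Agent.* helpers here

set_option autoImplicit false
universe u
open CAlg

namespace Groth.Agent.S9249

/-- A Noetherian local ring is Cohen-Macaulay if and only if its completion is. -/
theorem result (A : Type u) [CommRing A] [IsLocalRing A]
    [IsNoetherianRing A] :
    LocCoh.IsCohenMacaulayLocalRing A ↔
      LocCoh.IsCohenMacaulayLocalRing (AdicCompletion (IsLocalRing.maximalIdeal A) A) := by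
  classical
  haveI := Groth.Agent.RegLoc.Completion.isNoetherianRing_adicCompletion' (IsLocalRing.maximalIdeal A)
  haveI : IsLocalHom (algebraMap A (AdicCompletion (IsLocalRing.maximalIdeal A) A)) :=
    ((IsLocalRing.local_hom_TFAE (algebraMap A (AdicCompletion (IsLocalRing.maximalIdeal A) A))).out 0 2).mpr AdicCompletion.maximalIdeal_eq_map.symm.le
  exact (Groth.Agent.Hensel.UnramifiedFlat.isCohenMacaulay_iff A _ AdicCompletion.maximalIdeal_eq_map.symm).symm

end Groth.Agent.S9249
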