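import Groth.Statements.S9250
import Groth.Agent.EGA4Lib.LocusCpl
-- import your own Groth.Agent.* helpers here

set_option autoImplicit false
universe u
open CAlg

namespace Groth.Agent.S9250

/-- Let R → S be a regular ring map with S Noetherian and R regular. Then S is regular. -/
theorem result (R S : Type u) [CommRing R] [CommRing S] [Algebra R S]
    [IsRegularRing R] [IsNoetherianRing S] (h : CAlg.IsRegularHom R S) : IsRegularRing S := by
  haveI := h.1
  refine isRegularRing_iff.2 fun q _ => ?_
  exact (Groth.Agent.EGA4Lib.isRegularLocalRing_iff_of_regularFibres (fun p _ => (h.2 p).2) q).2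
    (IsRegularRing.isRegularLocalRing_localization _)

end Groth.Agent.S9250
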