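import Groth.Statements.S9255
import Groth.Agent.FlatOpen.GenFree
import Groth.Agent.RegLoc.Homological

set_option autoImplicit false
universe u
open EGA4
open scoped TensorProduct
set_option linter.style.haveILetI false

namespace Groth.Agent.S9255

/-- Let R be a Noetherian domain and R → S an injective ring map of finite type with S a domain. If the
regular locus of Spec S contains a nonempty open subset, then the regular locus of Spec R contains a
nonempty open subset. -/
theorem result (R S : Type u) [CommRing R]
    [IsDomain R] [IsNoetherianRing R] [CommRing S] [IsDomain S] [Algebra R S] [Algebra.FiniteType R S]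
    (hinj : Function.Injective (algebraMap R S))
    (hS : ∃ U : Set (PrimeSpectrum S), IsOpen U ∧ U.Nonempty ∧ U ⊆ EGA4.regLocus S) :
    ∃ U : Set (PrimeSpectrum R), IsOpen U ∧ U.Nonempty ∧ U ⊆ EGA4.regLocus R := by
  classical
  obtain ⟨U, hUo, ⟨u, hu⟩, hUreg⟩ := hS
  obtain ⟨f, hf0, hfree⟩ := FlatOpen.isGenFree_of_finiteType R S S
  have hg0 : algebraMap R S f ≠ 0 := fun h => hf0 (hinj (by rw [h, map_zero]))
  let B := Localization.Away (algebraMap R S f)
  haveI : IsDomain B := IsLocalization.isDomain_localization
    (Submonoid.powers_le.2 (mem_nonZeroDivisors_of_ne_zero hg0))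
  haveI : Module.Flat R B := by
    haveI : Module.Flat R (Localization.Away f ⊗[R] S) := Module.Flat.trans R (Localization.Away f) _
    haveI : IsLocalization (Algebra.algebraMapSubmonoid S (Submonoid.powers f)) B := by
      rw [Algebra.algebraMapSubmonoid, Submonoid.map_powers]; exact Localization.isLocalization
    have hm : IsLocalizedModule (Submonoid.powers f) (IsScalarTower.toAlgHom R S B).toLinearMap :=
      isLocalizedModule_iff_isLocalization.2 inferInstance
    have hm' : IsLocalizedModule (Submonoid.powers f) (TensorProduct.mk R (Localization.Away f) S 1) :=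
      (isLocalizedModule_iff_isBaseChange (Submonoid.powers f) (Localization.Away f) _).2
        (TensorProduct.isBaseChange R S (Localization.Away f))
    exact Module.Flat.of_linearEquiv
      (IsLocalizedModule.linearEquiv (Submonoid.powers f) (IsScalarTower.toAlgHom R S B).toLinearMap
        (TensorProduct.mk R (Localization.Away f) S 1))
  haveI : Algebra.FinitePresentation R S := Algebra.FinitePresentation.of_finiteType.1 inferInstance
  haveI : Algebra.FinitePresentation S B := IsLocalization.Away.finitePresentation (algebraMap R S f)
  haveI : Algebra.FinitePresentation R B := Algebra.FinitePresentation.trans R S B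
  have hopen : IsOpenMap (PrimeSpectrum.comap (algebraMap R B)) :=
    PrimeSpectrum.isOpenMap_comap_of_hasGoingDown_of_finitePresentation
  let U' : Set (PrimeSpectrum B) := PrimeSpectrum.comap (algebraMap S B) ⁻¹' U
  refine ⟨PrimeSpectrum.comap (algebraMap R B) '' U', hopen _ (hUo.preimage (PrimeSpectrum.continuous_comap _)),
    ⟨_, Set.mem_image_of_mem _ (show (⊥ : PrimeSpectrum B) ∈ U' from ?_)⟩, ?_⟩
  · have hbot : PrimeSpectrum.comap (algebraMap S B) ⊥ ⤳ u := by
      rw [← PrimeSpectrum.le_iff_specializes]
      refine le_trans (le_of_eq ?_) (bot_le (a := u))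
      apply PrimeSpectrum.ext
      exact Ideal.comap_bot_of_injective _ (IsLocalization.injective B
        (Submonoid.powers_le.2 (mem_nonZeroDivisors_of_ne_zero hg0)))
    exact hbot.mem_open hUo hu
  · rintro _ ⟨q, hq, rfl⟩
    let Bq := Localization.AtPrime q.asIdeal
    haveI : IsRegularLocalRing (Localization.AtPrime (q.asIdeal.comap (algebraMap S B))) := hUreg hq
    haveI : IsRegularLocalRing Bq := IsRegularLocalRing.of_ringEquiv
      (IsLocalization.localizationLocalizationAtPrimeIsoLocalization
        (Submonoid.powers (algebraMap R S f)) q.asIdeal).toRingEquiv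
    let p := q.asIdeal.comap (algebraMap R B)
    letI := Localization.AtPrime.algebraOfLiesOver p q.asIdeal
    exact RegLoc.Homological.isRegularLocalRing_of_flat (R := Localization.AtPrime p) Bq

end Groth.Agent.S9255
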