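import Groth.Statements.S9256
import Groth.Agent.GeomFieldLib.Corollaries
import Groth.Agent.CycCover.Regular
import Mathlib.RingTheory.Nilpotent.GeometricallyReduced
import Mathlib.RingTheory.TensorProduct.Maps

set_option autoImplicit false
set_option linter.style.haveILetI false
universe u
open CAlg

namespace Groth.Agent.S9256

/-- For a field extension K of k, the ring map k → K is regular exactly when K is separable over k, that
is, geometrically reduced over k. -/
theorem result (k K : Type u) [Field k] [Field K]
    [Algebra k K] : CAlg.IsRegularHom k K ↔ Algebra.IsGeometricallyReduced k K := by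
  constructor
  · intro h
    rw [Algebra.isGeometricallyReduced_field_iff]
    have hC : IsReduced (TensorProduct k K (AlgebraicClosure k)) := by
      refine IsReduced.tensorProduct_of_flat_of_forall_fg fun B hB => ?_
      haveI : Algebra.IsIntegral k B :=
        ⟨fun x => (isIntegral_algHom_iff B.val Subtype.val_injective).1 (Algebra.IsIntegral.isIntegral x.1)⟩
      haveI : Algebra.FiniteType k B := B.fg_iff_finiteType.1 hB
      haveI : Module.Finite k B := Algebra.IsIntegral.finite
      letI : Field B := (isField_of_isIntegral_of_isField' (R := k) (S := B) (Field.toIsField k)).toField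
      let e := (⊥ : Ideal k).algEquivResidueFieldOfField
      letI : Algebra (⊥ : Ideal k).ResidueField B :=
        ((algebraMap k B).comp e.symm.toRingEquiv.toRingHom).toAlgebra
      haveI : IsScalarTower k (⊥ : Ideal k).ResidueField B := IsScalarTower.of_algebraMap_eq fun x => by
        show algebraMap k B x = algebraMap k B (e.symm (algebraMap k _ x))
        rw [AlgEquiv.commutes]
        rfl
      haveI : Module.Finite (⊥ : Ideal k).ResidueField B :=
        Module.Finite.of_restrictScalars_finite k _ _
      have hreg := (h.2 ⊥).2 B inferInstance
      haveI : IsRegularRing (TensorProduct k B K) := IsRegularRing.of_ringEquiv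
        (R := TensorProduct (⊥ : Ideal k).ResidueField B ((⊥ : Ideal k).Fiber K))
        (Algebra.TensorProduct.cancelBaseChange k (⊥ : Ideal k).ResidueField B B K).toRingEquiv
      haveI : IsReduced (TensorProduct k B K) := Groth.Agent.CycCover.isReduced_of_isRegularRing
      exact isReduced_of_injective (Algebra.TensorProduct.comm k K B)
        (Algebra.TensorProduct.comm k K B).injective
    exact isReduced_of_injective (Algebra.TensorProduct.comm k (AlgebraicClosure k) K)
      (Algebra.TensorProduct.comm k (AlgebraicClosure k) K).injective
  · intro h
    refine ⟨inferInstance, fun p _ => ?_⟩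
    haveI : Module.Finite k p.ResidueField :=
      Module.Finite.equiv p.algEquivResidueFieldOfField.toLinearEquiv
    refine ⟨isNoetherianRing_of_ringEquiv K
      ((Algebra.TensorProduct.congr p.algEquivResidueFieldOfField.symm (AlgEquiv.refl (R := k) (A₁ := K))).trans
        (Algebra.TensorProduct.lid k K)).symm.toRingEquiv, fun k' _ _ hk' => ?_⟩
    letI : Algebra k k' := ((algebraMap p.ResidueField k').comp (algebraMap k p.ResidueField)).toAlgebra
    haveI : IsScalarTower k p.ResidueField k' := IsScalarTower.of_algebraMap_eq fun _ => rfl
    haveI := hk'
    haveI : Module.Finite k k' := Module.Finite.trans p.ResidueField k'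
    haveI : IsRegularRing (TensorProduct k k' K) :=
      GeomFieldLib.isGeometricallyRegular_of_geometricallyReduced k K k' inferInstance
    exact IsRegularRing.of_ringEquiv (R := TensorProduct k k' K)
      (Algebra.TensorProduct.cancelBaseChange k p.ResidueField k' k' K).symm.toRingEquiv

end Groth.Agent.S9256
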