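import Groth.Statements.S9257
import Groth.Agent.EGA4Lib.FibreBC
import Groth.Agent.Hens.GRingFinite
import Groth.Agent.RegLoc.Completion

set_option autoImplicit false
universe u
open CAlg

namespace Groth.Agent.S9257

open TensorProduct in
theorem geomReg_of_baseChange (k K S : Type u) [Field k] [Field K] [Algebra k K] [CommRing S] [Algebra k S]
    (hs : Function.Surjective (algebraMap k K)) (h : CAlg.IsGeometricallyRegular K (K ⊗[k] S)) :
    CAlg.IsGeometricallyRegular k S := by
  intro k' _ _ hfin
  let e : k ≃+* K := RingEquiv.ofBijective (algebraMap k K) ⟨(algebraMap k K).injective, hs⟩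
  let : Algebra K k' := ((algebraMap k k').comp e.symm.toRingHom).toAlgebra
  have : IsScalarTower k K k' := IsScalarTower.of_algebraMap_eq fun x => by
    rw [RingHom.algebraMap_toAlgebra]
    exact congrArg (algebraMap k k') (e.symm_apply_apply x).symm
  have : IsRegularRing (k' ⊗[K] (K ⊗[k] S)) := h k' (Module.Finite.of_restrictScalars_finite k K k')
  exact IsRegularRing.of_ringEquiv (Algebra.TensorProduct.cancelBaseChange k K K k' S).toRingEquiv

theorem geomReg_congr_ideal {A B : Type u} [CommRing A] [CommRing B] [Algebra A B] {I J : Ideal A} [I.IsPrime]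
    [J.IsPrime] (e : I = J) (h : CAlg.IsGeometricallyRegular I.ResidueField (I.Fiber B)) :
    CAlg.IsGeometricallyRegular J.ResidueField (J.Fiber B) := by
  subst e
  exact h

open TensorProduct in
theorem fiber_regular_descend {A A' : Type u} [CommRing A] [CommRing A'] [Algebra A A'] {B B' : Type u}
    [CommRing B] [CommRing B'] [Algebra A B] [Algebra A' B'] (h : EGA4Lib.IsQuotLike A A')
    (e : B' ≃ₐ[A'] A' ⊗[A] B) (p' : Ideal A') [p'.IsPrime]
    (hg : CAlg.IsGeometricallyRegular p'.ResidueField (p'.Fiber B')) :
    CAlg.IsGeometricallyRegular (p'.comap (algebraMap A A')).ResidueField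
      ((p'.comap (algebraMap A A')).Fiber B) := by
  let := EGA4Lib.residueAlgebra (A := A) p'
  obtain ⟨f⟩ := EGA4Lib.nonempty_fiber_baseChange e p'
  exact geomReg_of_baseChange _ p'.ResidueField _ (EGA4Lib.residue_surjective h p')
    (EGA4Lib.isGeometricallyRegular_congr p'.ResidueField _ f hg)


/-- A Noetherian ring R is a G-ring exactly when, for all primes q ⊆ p of R, the completion of the local
domain (R/q)_p tensored with its fraction field κ(q) is geometrically regular over κ(q). Here the
pairs q ⊆ p are enumerated as primes P of R/q. -/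
theorem result (R : Type u) [CommRing R] [IsNoetherianRing R] :
    CAlg.IsGRing R ↔
      ∀ (q : Ideal R) [q.IsPrime] (P : Ideal (R ⧸ q)) [P.IsPrime],
        CAlg.IsGeometricallyRegular (⊥ : Ideal (Localization.AtPrime P)).ResidueField
          (EGA4.formalFibre (Localization.AtPrime P) (⊥ : Ideal (Localization.AtPrime P))) := by
  constructor
  · intro hR q _ P _
    exact ((Hens.isGRing_of_finite (A := R) (B := R ⧸ q) hR).2 P).2 ⊥ |>.2
  · intro h
    refine ⟨inferInstance, fun p _ => ?_⟩
    have hN : IsNoetherianRing (AdicCompletion (IsLocalRing.maximalIdeal (Localization.AtPrime p)) (Localization.AtPrime p)) :=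
      RegLoc.Completion.isNoetherianRing_adicCompletion' _
    refine ⟨AdicCompletion.flat_of_isNoetherian _, fun q' hq' => ?_⟩
    suffices hreg : CAlg.IsGeometricallyRegular q'.ResidueField (q'.Fiber
        (AdicCompletion (IsLocalRing.maximalIdeal (Localization.AtPrime p)) (Localization.AtPrime p))) by
      refine ⟨?_, hreg⟩
      have h1 := hreg q'.ResidueField (Module.Finite.self _)
      exact @isNoetherianRing_of_ringEquiv _ _ _ _ (Algebra.TensorProduct.lid q'.ResidueField
        (q'.Fiber (AdicCompletion (IsLocalRing.maximalIdeal (Localization.AtPrime p)) (Localization.AtPrime p)))).toRingEquiv h1.toIsNoetherian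
    let q := q'.comap (algebraMap R (Localization.AtPrime p))
    have hqp : q ≤ p := by
      refine le_trans (Ideal.comap_mono (IsLocalRing.le_maximalIdeal (Ideal.IsPrime.ne_top ‹_›))) (le_of_eq ?_)
      exact IsLocalization.AtPrime.comap_maximalIdeal _ p
    let P := p.map (Ideal.Quotient.mk q)
    have hP : P.IsPrime := Ideal.map_isPrime_of_surjective Ideal.Quotient.mk_surjective (by rwa [Ideal.mk_ker])
    have hPc : p = P.comap (Ideal.Quotient.mk q) := by
      rw [Ideal.comap_map_of_surjective _ Ideal.Quotient.mk_surjective, ← RingHom.ker_eq_comap_bot,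
        Ideal.mk_ker, sup_eq_left.2 hqp]
    let φ := Localization.localRingHom p P (Ideal.Quotient.mk q) hPc
    let : Algebra (Localization.AtPrime p) (Localization.AtPrime P) := φ.toAlgebra
    have hsurj : Function.Surjective (algebraMap (Localization.AtPrime p) (Localization.AtPrime P)) := by
      intro y
      obtain ⟨a, s, rfl⟩ := IsLocalization.exists_mk'_eq P.primeCompl y
      obtain ⟨a, rfl⟩ := Ideal.Quotient.mk_surjective a
      obtain ⟨t, ht⟩ := Ideal.Quotient.mk_surjective (s : R ⧸ q)
      have htp : t ∈ p.primeCompl := by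
        intro htp
        exact s.2 (by rw [← ht]; exact Ideal.mem_map_of_mem _ htp)
      refine ⟨IsLocalization.mk' _ a ⟨t, htp⟩, ?_⟩
      rw [RingHom.algebraMap_toAlgebra, Localization.localRingHom_mk']
      congr 1
      exact Subtype.ext ht
    obtain ⟨e⟩ := EGA4Lib.nonempty_adicCompletion_quotient (IsLocalRing.maximalIdeal (Localization.AtPrime p))
      (Localization.AtPrime P) hsurj (IsLocalRing.maximalIdeal (Localization.AtPrime P))
      (IsLocalRing.map_maximalIdeal_of_surjective _ hsurj).symm
    have hb : (⊥ : Ideal (Localization.AtPrime P)).comap (algebraMap (Localization.AtPrime p) (Localization.AtPrime P)) = q' := by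
      refine le_antisymm (fun x hx => ?_) ?_
      · obtain ⟨a, s, rfl⟩ := IsLocalization.exists_mk'_eq p.primeCompl x
        rw [IsLocalization.mk'_mem_iff]
        rw [Ideal.mem_comap, Ideal.mem_bot, RingHom.algebraMap_toAlgebra, Localization.localRingHom_mk',
          IsLocalization.mk'_eq_zero_iff] at hx
        obtain ⟨m, hm⟩ := hx
        obtain ⟨t, ht⟩ := Ideal.Quotient.mk_surjective (m : R ⧸ q)
        rw [← ht, ← map_mul, Ideal.Quotient.eq_zero_iff_mem] at hm
        have hm' : algebraMap R (Localization.AtPrime p) t * algebraMap R (Localization.AtPrime p) a ∈ q' := by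
          rw [← map_mul]; exact hm
        refine (Ideal.IsPrime.mem_or_mem ‹_› hm').resolve_left fun htq => ?_
        exact m.2 (by rw [← ht]; exact Ideal.mem_map_of_mem _ (hqp htq))
      · intro x hx
        obtain ⟨a, s, rfl⟩ := IsLocalization.exists_mk'_eq p.primeCompl x
        rw [IsLocalization.mk'_mem_iff] at hx
        rw [Ideal.mem_comap, Ideal.mem_bot, RingHom.algebraMap_toAlgebra, Localization.localRingHom_mk',
          IsLocalization.mk'_eq_zero_iff]
        exact ⟨1, by rw [Submonoid.coe_one, one_mul, Ideal.Quotient.eq_zero_iff_mem]; exact hx⟩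
    have hg := fiber_regular_descend (EGA4Lib.isQuotLike_of_surjective hsurj) e ⊥ (h q P)
    exact geomReg_congr_ideal hb hg

end Groth.Agent.S9257
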