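import Groth.Statements.S9260
import Groth.Agent.CAlg48.InvPol
-- import your own Groth.Agent.* helpers here

set_option autoImplicit false
universe u
open CAlg

namespace Groth.Agent.S9260

/-- Suppose a finite group G with n elements acts on a ring R by ring automorphisms, A → R is a ring map
compatible with the action whose image contains the invariants (so that A maps onto R^G), J is an
ideal of A, and x lies in JR. Then ∏_σ (T - σ(x)) is the image of a monic polynomial over A of
degree at most n whose coefficients below degree n all lie in J. (The published statement takes A =
R^G and a polynomial of degree n; this row allows any such A mapping onto R^G and asks degree at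
most n, which is the same when A is nonzero.) -/
theorem result (A R G : Type u) [CommRing A]
    [CommRing R] [Algebra A R] [Group G] [Fintype G] [MulSemiringAction G R] [SMulCommClass G A R]
    [Algebra.IsInvariant A R G] (J : Ideal A) (x : R) (hx : x ∈ Ideal.map (algebraMap A R) J) :
    ∃ P : Polynomial A, P.Monic ∧ P.natDegree ≤ Fintype.card G ∧
      (∀ i : ℕ, i < Fintype.card G → P.coeff i ∈ J) ∧
      Polynomial.map (algebraMap A R) P = ∏ σ : G, (Polynomial.X - Polynomial.C (σ • x)) := by
  exact CAlg48.InvPol.exists_monic_lift_mem (G := G) (algebraMap A R) (fun σ => MulSemiringAction.toRingHom G R σ)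
    (fun σ τ y => (mul_smul σ τ y).symm) (fun σ a => smul_algebraMap σ a)
    (fun y hy => Algebra.IsInvariant.isInvariant (A := A) y hy) J x hx

end Groth.Agent.S9260
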