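import Groth.Statements.S9262
import Groth.Agent.Hensel.EtLikeLocal
import Groth.Agent.Hensel.EtLikeNormal

set_option autoImplicit false
universe u
open Hensel

namespace Groth.Agent.S9262

/-- Let R be a Noetherian local ring with henselization S and strict henselization T. Then R is a
discrete valuation ring exactly when S is one, and exactly when T is one. -/
theorem result (R S T : Type u)
    [CommRing R] [IsLocalRing R] [IsNoetherianRing R] [CommRing S] [IsLocalRing S] [Algebra R S]
    [IsLocalHom (algebraMap R S)] [Hensel.IsHenselization R S] [CommRing T] [IsLocalRing T]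
    [Algebra R T] [IsLocalHom (algebraMap R T)] [Hensel.IsStrictHenselization R T] :
    ((∃ _ : IsDomain R, IsDiscreteValuationRing R) ↔ (∃ _ : IsDomain S, IsDiscreteValuationRing S)) ∧
      ((∃ _ : IsDomain R, IsDiscreteValuationRing R) ↔
        (∃ _ : IsDomain T, IsDiscreteValuationRing T)) := by
  have hS := Hensel.isEtLike_of_isHenselization R S
  have hT := Hensel.isEtLike_of_isStrictHenselization R T
  haveI := hS.isNoetherianRing_of_base
  haveI := hT.isNoetherianRing_of_base
  rw [Hensel.IsEtLike.dvr_iff R, Hensel.IsEtLike.dvr_iff S, Hensel.IsEtLike.dvr_iff T,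
    ← hS.isRegularLocalRing_iff, ← hT.isRegularLocalRing_iff, hS.ringKrullDim_eq, hT.ringKrullDim_eq]
  exact ⟨Iff.rfl, Iff.rfl⟩

end Groth.Agent.S9262
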