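import Groth.Prelude.Def_DerCA
import Groth.Prelude.Def_LCI2
import Mathlib.Algebra.Homology.Homotopy
import Mathlib.RingTheory.Ideal.Span
import Groth.Agent.DRing.ExtCech
-- import your own Groth.Agent.* helpers here

set_option autoImplicit false
universe u
attribute [local instance] HasDerivedCategory.standard
open CategoryTheory
open DerCA

namespace Groth.Agent.S9263

/-- Let R be a ring, f_1, ..., f_r elements of R such that some f_i is a unit, and M an R-module. Then
the extended alternating Cech complex of M with respect to f_1, ..., f_r is homotopy equivalent to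
zero: its identity map is null-homotopic. -/
theorem result (R : Type u) [CommRing R] (fs : List R)
    (hf : ∃ f ∈ fs, IsUnit f) (M : ModuleCat.{u} R) :
    Nonempty (Homotopy (𝟙 (DerCA.extCech M fs)) 0) := by
  obtain ⟨f, hf, hu⟩ := hf
  have h := Agent.DRing.ExtCech.contr_extCech M fs hf (𝟭 (ModuleCat.{u} R)) (Agent.DRing.ExtCech.inverts_id hu)
  have h' : Agent.DRing.Completion.Contr (DerCA.extCech M fs) :=
    Agent.DRing.Completion.contr_of_iso (HomologicalComplex.Hom.isoOfComponents (fun i => Iso.refl _)
      (fun i j _ => by simp)) h
  exact ⟨HomotopyCategory.homotopyOfEq _ _ (h'.eq_of_src _ _)⟩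

end Groth.Agent.S9263
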