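import Groth.Prelude.Def_DerCA
import Groth.Prelude.Def_LCI2
import Mathlib.Algebra.Homology.Homotopy
import Mathlib.RingTheory.Ideal.Span
import Groth.Agent.KoszulMul.CechRegular
-- import your own Groth.Agent.* helpers here

set_option autoImplicit false
universe u
attribute [local instance] HasDerivedCategory.standard
open CategoryTheory
open DerCA

namespace Groth.Agent.S9267

/-- For a Koszul-regular sequence f_1, ..., f_r in a ring R, the extended alternating Cech complex R → ⊕
R_{f_i} → ... → R_{f_1 ... f_r} has cohomology only in degree r. -/
theorem result (R : Type u) [CommRing R] (fs : List R)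
    (hfs : LCI.IsKoszulRegularSeq R fs) (q : ℤ) (hq : q ≠ (fs.length : ℤ)) :
    Limits.IsZero (DerCA.extCechH fs (ModuleCat.of R R) q) := by
  exact Agent.KoszulMul.CechRegular.isZero_extCechH_of_koszulRegular fs hfs q hq

end Groth.Agent.S9267
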