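import Groth.Statements.S9268
import Groth.Agent.AdicFS.Conormal
import Mathlib

set_option autoImplicit false
universe u
open CAlg

namespace Groth.Agent.S9268

/-- Suppose A is a Noetherian ring and B is a finitely generated A-algebra, and consider a prime q of B
lying over p in A. Then A → B is smooth at q (meaning some g not in q makes A → B_g smooth) exactly
when the induced map A_p → B_q is formally smooth with respect to the adic topology defined by the
maximal ideal of B_q. -/
theorem result (A B : Type u) [CommRing A] [IsNoetherianRing A]
    [CommRing B] [Algebra A B] [Algebra.FiniteType A B] (q : Ideal B) [q.IsPrime] :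
    (∃ g : B, g ∉ q ∧ Algebra.Smooth A (Localization.Away g)) ↔
      letI := (Localization.localRingHom (Ideal.comap (algebraMap A B) q) q (algebraMap A B) rfl).toAlgebra
      CAlgX.IsAdicFormallySmooth (Localization.AtPrime (Ideal.comap (algebraMap A B) q))
        (Localization.AtPrime q) (IsLocalRing.maximalIdeal (Localization.AtPrime q)) := by
  let p := Ideal.comap (algebraMap A B) q
  let Ap := Localization.AtPrime p
  let Bq := Localization.AtPrime q
  letI : Algebra Ap Bq := (Localization.localRingHom p q (algebraMap A B) rfl).toAlgebra
  haveI : IsScalarTower A Ap Bq := IsScalarTower.of_algebraMap_eq fun x => by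
    rw [RingHom.algebraMap_toAlgebra, Localization.localRingHom_to_map]
    exact IsScalarTower.algebraMap_apply A B Bq x
  haveI : Algebra.FormallyEtale A Ap := Algebra.FormallyEtale.of_isLocalization p.primeCompl
  haveI : Algebra.FinitePresentation A B := Algebra.FinitePresentation.of_finiteType.mp inferInstance
  constructor
  · rintro ⟨g, hg, hsm⟩
    haveI := hsm
    let Bg := Localization.Away g
    have hu : ∀ y : Submonoid.powers g, IsUnit (algebraMap B Bq y) := fun ⟨y, n, hn⟩ => by
      subst hn
      simp only [map_pow]
      exact (IsLocalization.map_units Bq (⟨g, hg⟩ : q.primeCompl)).pow n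
    letI : Algebra Bg Bq := (IsLocalization.lift hu).toAlgebra
    haveI : IsScalarTower B Bg Bq := IsScalarTower.of_algebraMap_eq fun x => (IsLocalization.lift_eq hu x).symm
    haveI : IsScalarTower A Bg Bq := IsScalarTower.to₁₃₄ A B Bg Bq
    haveI : IsLocalization (q.primeCompl.map (algebraMap B Bg)) Bq :=
      IsLocalization.isLocalization_of_submonoid_le Bg Bq (Submonoid.powers g) q.primeCompl
        (Submonoid.powers_le.mpr hg)
    haveI : Algebra.FormallyEtale Bg Bq :=
      Algebra.FormallyEtale.of_isLocalization (q.primeCompl.map (algebraMap B Bg))
    haveI : Algebra.FormallySmooth A Bq := Algebra.FormallySmooth.comp A Bg Bq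
    haveI : Algebra.FormallySmooth Ap Bq := Algebra.FormallySmooth.localization_base p.primeCompl
    exact AdicFS.Basic.of_formallySmooth _
  · intro h
    haveI : Algebra.EssFiniteType B Bq := Algebra.EssFiniteType.of_isLocalization _ q.primeCompl
    haveI : Algebra.EssFiniteType A Bq := Algebra.EssFiniteType.comp A B Bq
    haveI : Algebra.EssFiniteType Ap Bq := Algebra.EssFiniteType.of_comp A Ap Bq
    haveI : Algebra.FormallySmooth Ap Bq := AdicFS.Conormal.formallySmooth_of_adic h
    haveI : Algebra.IsSmoothAt A q := Algebra.FormallySmooth.comp A Ap Bq
    exact Algebra.IsSmoothAt.exists_notMem_smooth (R := A) (A := B) q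

end Groth.Agent.S9268
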