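import Groth.Statements.S9270
import Groth.Agent.CAlg48.QRSlice
import Groth.Agent.FlatOpen.Descend
-- import your own Groth.Agent.* helpers here

set_option autoImplicit false
set_option linter.style.haveILetI false
universe u
open CAlg

namespace Groth.Agent.S9270

open TensorProduct in
/-- Quasi-regularity passes to the reduction modulo a bigger ideal when the quotient is flat. -/
theorem quasiRegular_quotient {A' B' : Type u} [CommRing A'] [CommRing B'] [Algebra A' B']
    (I p : Ideal A') (hIp : I ≤ p) {r : ℕ} (f' : Fin r → B')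
    (hq : CAlgX.IsQuasiRegular
      (fun i => Ideal.Quotient.mk (Ideal.map (algebraMap A' B') I) (f' i)))
    (hflat : Module.Flat (A' ⧸ I)
      ((B' ⧸ Ideal.map (algebraMap A' B') I) ⧸
        Ideal.span (Set.range (fun i => Ideal.Quotient.mk (Ideal.map (algebraMap A' B') I) (f' i))))) :
    CAlgX.IsQuasiRegular fun i => Ideal.Quotient.mk (p.map (algebraMap A' B')) (f' i) := by
  let A := A' ⧸ I
  let K := I.map (algebraMap A' B')
  let N := p.map (algebraMap A' B')
  let B := B' ⧸ K
  letI : Algebra A (A' ⧸ p) := (Ideal.Quotient.factor hIp).toAlgebra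
  haveI : IsScalarTower A' A (A' ⧸ p) := IsScalarTower.of_algebraMap_eq fun _ => rfl
  haveI : IsScalarTower A' A B :=
    IsScalarTower.of_algebraMap_eq (R := A') (S := A) (A := B) fun _ => rfl
  haveI := hflat
  have h := CAlg48.QRBase.isQuasiRegular_baseChange
    (fun i => Ideal.Quotient.mk K (f' i)) A (A' ⧸ p) hq
  letI : Algebra A (B' ⧸ N) :=
    ((algebraMap (A' ⧸ p) (B' ⧸ N)).comp (algebraMap A (A' ⧸ p))).toAlgebra
  haveI : IsScalarTower A (A' ⧸ p) (B' ⧸ N) := IsScalarTower.of_algebraMap_eq fun _ => rfl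
  let β : B →ₐ[A] B' ⧸ N :=
    { Ideal.Quotient.factor (Ideal.map_mono hIp) with
      commutes' := fun a => by
        obtain ⟨a, rfl⟩ := Ideal.Quotient.mk_surjective a
        rfl }
  let Θ : (A' ⧸ p) ⊗[A] B →ₐ[A' ⧸ p] B' ⧸ N :=
    Algebra.TensorProduct.lift (Algebra.ofId _ _) β fun _ _ => Commute.all _ _
  let γ : B' →+* (A' ⧸ p) ⊗[A] B :=
    (Algebra.TensorProduct.includeRight : B →ₐ[A] (A' ⧸ p) ⊗[A] B).toRingHom.comp
      (Ideal.Quotient.mk K)
  have hγ : ∀ a : A', γ (algebraMap A' B' a) =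
      (Ideal.Quotient.mk p a) ⊗ₜ[A] (1 : B) := fun a => by
    show (1 : A' ⧸ p) ⊗ₜ[A] (algebraMap A B (Ideal.Quotient.mk I a)) = _
    rw [Algebra.algebraMap_eq_smul_one, ← TensorProduct.smul_tmul, ← Algebra.algebraMap_eq_smul_one]
    rfl
  have hN : N ≤ RingHom.ker γ := Ideal.map_le_iff_le_comap.2 fun a ha => by
    show γ (algebraMap A' B' a) = 0
    rw [hγ, Ideal.Quotient.eq_zero_iff_mem.2 ha, zero_tmul]
  let Γ : B' ⧸ N →+* (A' ⧸ p) ⊗[A] B := Ideal.Quotient.lift N γ fun x hx => hN hx
  have hΘ : ∀ b : B', Θ ((1 : A' ⧸ p) ⊗ₜ[A] Ideal.Quotient.mk K b) = Ideal.Quotient.mk N b := fun b => by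
    rw [Algebra.TensorProduct.lift_tmul, map_one, one_mul]
    rfl
  have h1 : ∀ x, Θ (Γ x) = x := fun x => by
    obtain ⟨b, rfl⟩ := Ideal.Quotient.mk_surjective x
    exact hΘ b
  have h2 : ∀ z, Γ (Θ z) = z := fun z => by
    induction z with
    | zero => simp
    | tmul a b =>
      obtain ⟨a, rfl⟩ := Ideal.Quotient.mk_surjective a
      obtain ⟨b, rfl⟩ := Ideal.Quotient.mk_surjective b
      rw [Algebra.TensorProduct.lift_tmul]
      show Γ (Ideal.Quotient.mk N (algebraMap A' B' a) * Ideal.Quotient.mk N b) = _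
      rw [map_mul]
      show γ (algebraMap A' B' a) * γ b = _
      rw [hγ]
      show _ * ((1 : A' ⧸ p) ⊗ₜ[A] Ideal.Quotient.mk K b) = _
      rw [Algebra.TensorProduct.tmul_mul_tmul, mul_one, one_mul]
    | add x y hx hy => simp [hx, hy]
  let e : (A' ⧸ p) ⊗[A] B ≃+* B' ⧸ N :=
    { toFun := Θ
      invFun := Γ
      left_inv := h2
      right_inv := h1
      map_mul' := map_mul Θ
      map_add' := map_add Θ }
  have h' := CAlg48.QRBase.isQuasiRegular_of_ringEquiv e h
  convert h' using 2 with i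
  exact (hΘ (f' i)).symm

/-- Let A' → B' be a flat ring map of finite presentation, I a locally nilpotent ideal of A', A = A'/I
and B = B'/IB'. Let f'_1, ..., f'_r be elements of B' whose images f_1, ..., f_r in B form a
quasi-regular sequence with B/(f_1, ..., f_r) flat over A. Then B'/(f'_1, ..., f'_r) is flat over
A'. -/
theorem result (A' B' : Type u) [CommRing A']
    [CommRing B'] [Algebra A' B'] [Module.Flat A' B'] [Algebra.FinitePresentation A' B']
    (I : Ideal A') (hI : ∀ x ∈ I, IsNilpotent x) (r : ℕ) (f' : Fin r → B')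
    (hq : CAlgX.IsQuasiRegular
      (fun i => Ideal.Quotient.mk (Ideal.map (algebraMap A' B') I) (f' i)))
    (hflat : Module.Flat (A' ⧸ I)
      ((B' ⧸ Ideal.map (algebraMap A' B') I) ⧸
        Ideal.span (Set.range (fun i => Ideal.Quotient.mk (Ideal.map (algebraMap A' B') I) (f' i))))) :
    Module.Flat A' (B' ⧸ Ideal.span (Set.range f')) := by
  refine FlatOpen.flat_of_forall_flatAt (S := B' ⧸ Ideal.span (Set.range f')) fun Q _ => ?_
  refine CAlg48.QRSlice.flatAt_quotient f' Q (fun P _ => ?_) fun p hp _ => ?_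
  · exact FlatMor.FlatAtBC.flat_localizedModule A' P.primeCompl B'
  · refine quasiRegular_quotient I p (fun x hx => ?_) f' hq hflat
    obtain ⟨n, hn⟩ := hI x hx
    exact hp.mem_of_pow_mem n (by rw [hn]; exact p.zero_mem)

end Groth.Agent.S9270
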