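import Groth.Statements.S9271
import Groth.Agent.S9270
-- import your own Groth.Agent.* helpers here

set_option autoImplicit false
set_option linter.style.haveILetI false
universe u
open CAlg

namespace Groth.Agent.S9271

open TensorProduct in
/-- Formal smoothness is visible on fibres after a surjective change of the base. -/
theorem formallySmooth_fiber {A' A C Cb k : Type u} [CommRing A'] [CommRing A] [CommRing C]
    [CommRing Cb] [CommRing k] [Algebra A' A] [Algebra A' C] [Algebra A Cb] [Algebra A' Cb]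
    [IsScalarTower A' A Cb] [Algebra A' k] [Algebra A k] [IsScalarTower A' A k]
    [Algebra.FormallySmooth A Cb] (hA : Function.Surjective (algebraMap A' A))
    (ψ : C →ₐ[A'] Cb) (hψ : Function.Surjective ψ)
    (hker : RingHom.ker ψ.toRingHom ≤ (RingHom.ker (algebraMap A' A)).map (algebraMap A' C)) :
    Algebra.FormallySmooth k (k ⊗[A'] C) := by
  let F : k ⊗[A'] C →ₐ[k] k ⊗[A] Cb :=
    Algebra.TensorProduct.lift (Algebra.ofId k _)
      (((Algebra.TensorProduct.includeRight : Cb →ₐ[A] k ⊗[A] Cb).restrictScalars A').comp ψ)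
      fun _ _ => Commute.all _ _
  let γ : C →ₐ[A'] k ⊗[A'] C := Algebra.TensorProduct.includeRight
  have hγker : ∀ x, ψ x = 0 → γ x = 0 := fun x hx => by
    have hle : (RingHom.ker (algebraMap A' A)).map (algebraMap A' C) ≤ RingHom.ker γ.toRingHom :=
      Ideal.map_le_iff_le_comap.2 fun a ha => by
        show γ (algebraMap A' C a) = 0
        rw [γ.commutes, Algebra.TensorProduct.algebraMap_apply,
          IsScalarTower.algebraMap_apply A' A k, show algebraMap A' A a = 0 from ha, map_zero,
          zero_tmul]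
    exact hle (hker hx)
  let γ' : Cb →ₐ[A'] k ⊗[A'] C := AlgHom.liftOfSurjective ψ hψ γ fun x hx => hγker x hx
  have hγ' : ∀ c, γ' (ψ c) = γ c := fun c => AlgHom.liftOfSurjective_apply _ _ _ _ _
  let γ₃ : Cb →ₐ[A] k ⊗[A'] C :=
    { γ'.toRingHom with
      commutes' := fun a => by
        obtain ⟨a, rfl⟩ := hA a
        show γ' (algebraMap A Cb (algebraMap A' A a)) = _
        rw [← IsScalarTower.algebraMap_apply, γ'.commutes, Algebra.TensorProduct.algebraMap_apply,
          Algebra.TensorProduct.algebraMap_apply, IsScalarTower.algebraMap_apply A' A k] }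
  let G : k ⊗[A] Cb →ₐ[k] k ⊗[A'] C :=
    Algebra.TensorProduct.lift (Algebra.ofId k _) γ₃ fun _ _ => Commute.all _ _
  have h1 : G.comp F = AlgHom.id k _ := by
    refine Algebra.TensorProduct.ext (Subsingleton.elim _ _) (AlgHom.ext fun c => ?_)
    show G (F ((1 : k) ⊗ₜ[A'] c)) = (1 : k) ⊗ₜ[A'] c
    rw [Algebra.TensorProduct.lift_tmul, map_one, one_mul]
    show G ((1 : k) ⊗ₜ[A] ψ c) = _
    rw [Algebra.TensorProduct.lift_tmul, map_one, one_mul]
    exact hγ' c
  have h2 : F.comp G = AlgHom.id k _ := by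
    refine Algebra.TensorProduct.ext (Subsingleton.elim _ _) (AlgHom.ext fun c => ?_)
    obtain ⟨b, rfl⟩ := hψ c
    show F (G ((1 : k) ⊗ₜ[A] ψ b)) = (1 : k) ⊗ₜ[A] ψ b
    rw [Algebra.TensorProduct.lift_tmul, map_one, one_mul]
    show F (γ' (ψ b)) = _
    rw [hγ']
    show F ((1 : k) ⊗ₜ[A'] b) = _
    rw [Algebra.TensorProduct.lift_tmul, map_one, one_mul]
    rfl
  exact Algebra.FormallySmooth.of_equiv (AlgEquiv.ofAlgHom G F h1 h2)

/-- The two-step quotient as a quotient of `B'/(f')`. -/
theorem exists_quotientHom {A' B' : Type u} [CommRing A'] [CommRing B'] [Algebra A' B']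
    (I : Ideal A') {r : ℕ} (f' : Fin r → B') :
    ∃ ψ : (B' ⧸ Ideal.span (Set.range f')) →ₐ[A'] (B' ⧸ Ideal.map (algebraMap A' B') I) ⧸
        Ideal.span (Set.range (fun i => Ideal.Quotient.mk (Ideal.map (algebraMap A' B') I) (f' i))),
      Function.Surjective ψ ∧ RingHom.ker ψ.toRingHom ≤
        I.map (algebraMap A' (B' ⧸ Ideal.span (Set.range f'))) := by
  let K := Ideal.map (algebraMap A' B') I
  let Jb := Ideal.span (Set.range (fun i => Ideal.Quotient.mk K (f' i)))
  let π := (Ideal.Quotient.mkₐ A' Jb).comp (Ideal.Quotient.mkₐ A' K)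
  have hle : Ideal.span (Set.range f') ≤ RingHom.ker π.toRingHom := by
    rw [Ideal.span_le]
    rintro _ ⟨i, rfl⟩
    exact Ideal.Quotient.eq_zero_iff_mem.2 (Ideal.subset_span ⟨i, rfl⟩)
  refine ⟨Ideal.Quotient.liftₐ _ π fun a ha => hle ha, fun c => ?_, fun x hx => ?_⟩
  · obtain ⟨b, rfl⟩ := Ideal.Quotient.mk_surjective c
    obtain ⟨b, rfl⟩ := Ideal.Quotient.mk_surjective b
    exact ⟨Ideal.Quotient.mk _ b, rfl⟩
  · obtain ⟨b, rfl⟩ := Ideal.Quotient.mk_surjective x
    have h0 : Ideal.Quotient.mk K b ∈ Jb := Ideal.Quotient.eq_zero_iff_mem.1 hx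
    have hJb : Jb = (Ideal.span (Set.range f')).map (Ideal.Quotient.mk K) := by
      rw [Ideal.map_span, ← Set.range_comp]
      rfl
    rw [hJb, ← Ideal.mem_comap, Ideal.comap_map_of_surjective' _ Ideal.Quotient.mk_surjective,
      Ideal.mk_ker] at h0
    obtain ⟨y, hy, z, hz, rfl⟩ := Submodule.mem_sup.1 h0
    rw [map_add, Ideal.Quotient.eq_zero_iff_mem.2 hy, zero_add]
    have := Ideal.mem_map_of_mem (Ideal.Quotient.mk (Ideal.span (Set.range f'))) hz
    rwa [Ideal.map_map] at this

/-- Suppose A' → B' is a flat ring map of finite presentation (smooth maps being one example), and let I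
be a locally nilpotent ideal of A', with A = A'/I and B = B'/IB'. Let f'_1, ..., f'_r be elements of
B' whose images f_1, ..., f_r in B form a quasi-regular sequence with B/(f_1, ..., f_r) smooth over
A. Then B'/(f'_1, ..., f'_r) is smooth over A'. -/
theorem result (A' B' : Type u) [CommRing A']
    [CommRing B'] [Algebra A' B'] [Module.Flat A' B'] [Algebra.FinitePresentation A' B']
    (I : Ideal A') (hI : ∀ x ∈ I, IsNilpotent x) (r : ℕ) (f' : Fin r → B')
    (hq : CAlgX.IsQuasiRegular
      (fun i => Ideal.Quotient.mk (Ideal.map (algebraMap A' B') I) (f' i)))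
    (hsm : Algebra.Smooth (A' ⧸ I)
      ((B' ⧸ Ideal.map (algebraMap A' B') I) ⧸
        Ideal.span (Set.range (fun i => Ideal.Quotient.mk (Ideal.map (algebraMap A' B') I) (f' i))))) :
    Algebra.Smooth A' (B' ⧸ Ideal.span (Set.range f')) := by
  haveI : Algebra.Smooth _ _ := hsm
  haveI : Module.Flat A' (B' ⧸ Ideal.span (Set.range f')) :=
    S9270.result A' B' I hI r f' hq inferInstance
  haveI : Algebra.FinitePresentation A' (B' ⧸ Ideal.span (Set.range f')) :=
    Algebra.FinitePresentation.quotient (Submodule.fg_span (Set.finite_range f'))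
  refine Algebra.Smooth.of_formallySmooth_fiber fun p _ => ?_
  have hk : ∀ x ∈ I, algebraMap A' p.ResidueField x = 0 := fun x hx => by
    rw [Ideal.algebraMap_residueField_eq_zero]
    obtain ⟨n, hn⟩ := hI x hx
    exact (inferInstance : p.IsPrime).mem_of_pow_mem n (by rw [hn]; exact p.zero_mem)
  letI : Algebra (A' ⧸ I) p.ResidueField :=
    (Ideal.Quotient.lift I (algebraMap A' p.ResidueField) hk).toAlgebra
  haveI : IsScalarTower A' (A' ⧸ I) p.ResidueField := IsScalarTower.of_algebraMap_eq fun _ => rfl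
  obtain ⟨ψ, hψ, hker⟩ := exists_quotientHom I f'
  haveI : Algebra.FormallySmooth (A' ⧸ I) ((B' ⧸ Ideal.map (algebraMap A' B') I) ⧸
      Ideal.span (Set.range (fun i => Ideal.Quotient.mk (Ideal.map (algebraMap A' B') I) (f' i)))) :=
    hsm.formallySmooth
  haveI : IsScalarTower A' (A' ⧸ I) ((B' ⧸ Ideal.map (algebraMap A' B') I) ⧸
      Ideal.span (Set.range (fun i => Ideal.Quotient.mk (Ideal.map (algebraMap A' B') I) (f' i)))) :=
    IsScalarTower.of_algebraMap_eq (R := A') (S := A' ⧸ I)
      (A := (B' ⧸ Ideal.map (algebraMap A' B') I) ⧸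
        Ideal.span (Set.range (fun i => Ideal.Quotient.mk (Ideal.map (algebraMap A' B') I) (f' i))))
      fun _ => rfl
  refine formallySmooth_fiber (A := A' ⧸ I) Ideal.Quotient.mk_surjective ψ hψ (hker.trans ?_)
  exact Ideal.map_mono (Ideal.mk_ker (I := I)).ge

end Groth.Agent.S9271
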