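import Groth.Statements.S9274
import Groth.Agent.FormalFree48.Basic
import Groth.Agent.Hens.GRingFinite

set_option autoImplicit false
set_option synthInstance.maxHeartbeats 100000
set_option maxHeartbeats 1000000
universe u
open CAlg

namespace Groth.Agent.S9274

/-- For a Noetherian ring R, being a G-ring is equivalent to the following: whenever S is an R-algebra
that is finite and free as an R-module, every formal fibre of every local ring of S is a regular
ring. -/
theorem result (R : Type u) [CommRing R] [IsNoetherianRing R] :
    CAlg.IsGRing R ↔
      ∀ (S : Type u) [CommRing S] [Algebra R S] [Module.Finite R S] [Module.Free R S]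
        (q : Ideal S) [q.IsPrime] (p : Ideal (Localization.AtPrime q)) [p.IsPrime],
        IsRegularRing (EGA4.formalFibre (Localization.AtPrime q) p) := by
  refine ⟨fun hG S _ _ _ _ q _ p _ => ?_, fun H => ⟨inferInstance, fun m _ => ?_⟩⟩
  · have hS : CAlg.IsGRing S := Groth.Agent.Hens.isGRing_of_finite hG
    obtain ⟨-, hfib⟩ := hS.2 q
    have hr : IsRegularRing (TensorProduct p.ResidueField p.ResidueField
        (EGA4.formalFibre (Localization.AtPrime q) p)) := (hfib p).2 p.ResidueField inferInstance
    exact IsRegularRing.of_ringEquiv
      (R := TensorProduct p.ResidueField p.ResidueField (EGA4.formalFibre (Localization.AtPrime q) p))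
      (Algebra.TensorProduct.lid p.ResidueField (EGA4.formalFibre (Localization.AtPrime q) p)).toRingEquiv
  · have : IsNoetherianRing (Localization.AtPrime m) :=
      IsLocalization.isNoetherianRing m.primeCompl _ inferInstance
    let W := AdicCompletion (IsLocalRing.maximalIdeal (Localization.AtPrime m)) (Localization.AtPrime m)
    refine ⟨inferInstanceAs (Module.Flat (Localization.AtPrime m) W), fun q _ => ?_⟩
    have hF : IsRegularRing (q.Fiber W) := H R m q
    refine ⟨inferInstance, fun K _ _ hK => ?_⟩
    let p : Ideal R := q.comap (algebraMap R (Localization.AtPrime m))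
    have : p.IsPrime := Ideal.IsPrime.comap _
    let θ : p.ResidueField →+* q.ResidueField :=
      Ideal.ResidueField.map p q (algebraMap R (Localization.AtPrime m)) rfl
    have hθ : Function.Bijective θ :=
      (RingHom.surjectiveOnStalks_of_isLocalization m.primeCompl
        (Localization.AtPrime m)).residueFieldMap_bijective p q rfl
    let := θ.toAlgebra
    let : Algebra p.ResidueField K := ((algebraMap q.ResidueField K).comp θ).toAlgebra
    have : IsScalarTower p.ResidueField q.ResidueField K := IsScalarTower.of_algebraMap_eq fun _ => rfl
    have : Module.Finite p.ResidueField q.ResidueField :=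
      Module.Finite.of_surjective (Algebra.linearMap p.ResidueField q.ResidueField) hθ.2
    have : Module.Finite p.ResidueField K := Module.Finite.trans q.ResidueField K
    let : Algebra (Localization.AtPrime m) K :=
      ((algebraMap q.ResidueField K).comp (algebraMap _ q.ResidueField)).toAlgebra
    have : IsScalarTower (Localization.AtPrime m) q.ResidueField K :=
      IsScalarTower.of_algebraMap_eq fun _ => rfl
    let : Algebra R K := ((algebraMap (Localization.AtPrime m) K).comp (algebraMap R _)).toAlgebra
    have : IsScalarTower R (Localization.AtPrime m) K := IsScalarTower.of_algebraMap_eq fun _ => rfl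
    have : IsScalarTower R p.ResidueField K := IsScalarTower.of_algebraMap_eq fun r => by
      show algebraMap q.ResidueField K (algebraMap (Localization.AtPrime m) q.ResidueField (algebraMap R _ r)) =
        algebraMap q.ResidueField K (θ (algebraMap R p.ResidueField r))
      exact congrArg _ (Ideal.ResidueField.map_algebraMap _ _ _ _ r).symm
    have := IsLocalization.tensorProduct_compatibleSMul m.primeCompl (Localization.AtPrime m) K W
    let e₁ : TensorProduct q.ResidueField K (q.Fiber W) ≃+* TensorProduct (Localization.AtPrime m) K W :=
      (Algebra.TensorProduct.cancelBaseChange (Localization.AtPrime m) q.ResidueField K K W).toRingEquiv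
    let e₂ : TensorProduct R K W ≃+* TensorProduct (Localization.AtPrime m) K W :=
      (Algebra.TensorProduct.equivOfCompatibleSMul (Localization.AtPrime m) R K K W).toRingEquiv
    have : IsNoetherianRing (q.Fiber W) := inferInstance
    have : Module.Finite q.ResidueField K := hK
    have hN' : IsNoetherianRing (TensorProduct q.ResidueField (q.Fiber W) K) :=
      IsNoetherianRing.of_finite (q.Fiber W) (TensorProduct q.ResidueField (q.Fiber W) K)
    have hN : IsNoetherianRing (TensorProduct R K W) :=
      isNoetherianRing_of_ringEquiv _
        ((Algebra.TensorProduct.comm q.ResidueField (q.Fiber W) K).toRingEquiv.trans (e₁.trans e₂.symm))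
    have := Groth.Agent.FormalFree48.isRegularRing_tensor H m p K hN
    exact IsRegularRing.of_ringEquiv (e₂.trans e₁.symm)

end Groth.Agent.S9274
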