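import Groth.Statements.S9275
import Mathlib

set_option autoImplicit false
universe u
open EtAlg

namespace Groth.Agent.S9275

/-- `(B_g)_h` is of finite presentation over `A` when `B_h` is. -/
lemma fp_away_away (A B : Type u) [CommRing A] [CommRing B] [Algebra A B] (g h : B)
    [Algebra.FinitePresentation A (Localization.Away h)] :
    Algebra.FinitePresentation A (Localization.Away (algebraMap B (Localization.Away g) h)) := by
  let Bh := Localization.Away h
  let C := Localization.Away (algebraMap B Bh g)
  let D := Localization.Away (algebraMap B (Localization.Away g) h)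
  haveI : IsLocalization.Away (h * g) C := IsLocalization.Away.mul' Bh C h g
  haveI : IsLocalization.Away (h * g) D := IsLocalization.Away.mul (Localization.Away g) D g h
  haveI : Algebra.FinitePresentation Bh C := IsLocalization.Away.finitePresentation (algebraMap B Bh g)
  haveI : Algebra.FinitePresentation A C := Algebra.FinitePresentation.trans A Bh C
  exact Algebra.FinitePresentation.equiv ((IsLocalization.algEquiv (Submonoid.powers (h * g)) C D).restrictScalars A)

/-- Let A → B be a ring map and J an ideal of B such that A → B is étale at every prime of V(J), in the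
sense that every prime q ⊇ J has some h ∉ q with A → B_h étale. Then there is g ∈ B mapping to a
unit of B/J such that A → B_g is étale. -/
theorem result (A B : Type u) [CommRing A] [CommRing B]
    [Algebra A B] (J : Ideal B)
    (h : ∀ (q : Ideal B) [q.IsPrime], J ≤ q → ∃ h : B, h ∉ q ∧ Algebra.Etale A (Localization.Away h)) :
    ∃ g : B, IsUnit (Ideal.Quotient.mk J g) ∧ Algebra.Etale A (Localization.Away g) := by
  classical
  choose hh hnot het using fun q : {q : PrimeSpectrum B // J ≤ q.asIdeal} ↦ h q.1.asIdeal q.2
  have htop : J ⊔ Ideal.span (Set.range hh) = ⊤ := by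
    by_contra hne
    obtain ⟨m, hm, hle⟩ := Ideal.exists_le_maximal _ hne
    exact hnot ⟨⟨m, hm.isPrime⟩, le_sup_left.trans hle⟩
      ((le_sup_right.trans hle) (Ideal.subset_span ⟨_, rfl⟩))
  have h1 : (1 : B) ∈ J ⊔ Ideal.span (Set.range hh) := htop ▸ Submodule.mem_top
  obtain ⟨j, hj, g, hg, hjg⟩ := Submodule.mem_sup.1 h1
  obtain ⟨s, hs, hgs⟩ := Submodule.mem_span_finite_of_mem_span hg
  refine ⟨g, ?_, ?_⟩
  · rw [show Ideal.Quotient.mk J g = 1 by
      rw [← map_one (Ideal.Quotient.mk J), Ideal.Quotient.eq, ← hjg]; simpa using J.neg_mem hj]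
    exact isUnit_one
  have hetale : ∀ x ∈ s, Algebra.Etale A (Localization.Away x) := fun x hx ↦ by
    obtain ⟨q, rfl⟩ := hs hx
    exact het q
  haveI : Algebra.FormallyEtale A (Localization.Away g) := by
    rw [← Algebra.basicOpen_subset_etaleLocus_iff]
    intro q hq
    obtain ⟨x, hx, hxq⟩ : ∃ x ∈ s, x ∉ q.asIdeal := by
      by_contra hall
      push Not at hall
      exact hq (Ideal.span_le.2 hall hgs)
    haveI := hetale x hx
    exact Algebra.basicOpen_subset_etaleLocus_iff.2 inferInstance hxq
  haveI : Algebra.FinitePresentation A (Localization.Away g) := by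
    refine Algebra.FinitePresentation.of_span_eq_top_target
      (Finset.image (algebraMap B (Localization.Away g)) s : Set (Localization.Away g)) ?_ ?_
    · refine Ideal.eq_top_of_isUnit_mem _ ?_ (IsLocalization.Away.algebraMap_isUnit g)
      rw [Finset.coe_image, ← Ideal.map_span]
      exact Ideal.mem_map_of_mem _ hgs
    · intro r hr
      obtain ⟨x, hx, rfl⟩ := Finset.mem_image.1 hr
      haveI := hetale x hx
      exact fp_away_away A B g x
  exact ⟨inferInstance, inferInstance⟩

end Groth.Agent.S9275
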