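import Groth.Statements.S9276
import Groth.Agent.HenGeomInt.PairGRing
import Groth.Agent.S0599
-- import your own Groth.Agent.* helpers here

set_option autoImplicit false
universe u
open CAlg

namespace Groth.Agent.S9276

/-- Let A be a G-ring, I an ideal of A and B the henselization of the pair (A, I). Then B is a G-ring. -/
theorem result (A : Type u) [CommRing A] (hA : CAlg.IsGRing A) (I : Ideal A)
    (B : Type u) [CommRing B] [Algebra A B] (hB : Hens2.IsPairHenselization A I B) :
    CAlg.IsGRing B := by
  haveI : IsNoetherianRing A := hA.1
  haveI := Groth.Agent.HenGeomInt.isNoetherianRing_pairHenselization I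
  have h : CAlg.IsGRing (Groth.Agent.Hens.PairHenselization A I) :=
    Groth.Agent.S2047.result.2 fun M _ => Groth.Agent.HenGeomInt.isRegularHom_completion_pairHenselization hA I M
  obtain ⟨e⟩ := Groth.Agent.Hens.nonempty_pairHenselization_algEquiv hB
  letI : Algebra (Groth.Agent.Hens.PairHenselization A I) B := e.toRingEquiv.toRingHom.toAlgebra
  haveI : Algebra.FiniteType (Groth.Agent.Hens.PairHenselization A I) B :=
    RingHom.FiniteType.of_surjective e.toRingEquiv.toRingHom e.surjective
  exact Groth.Agent.S0599.result _ h B

end Groth.Agent.S9276
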