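import Groth.Statements.S9278
import Groth.Agent.CAlgMisc.McCoy
import Mathlib.RingTheory.Ideal.AssociatedPrime.Finiteness

set_option autoImplicit false
universe u
open CAlgX

namespace Groth.Agent.S9278

/-- Let R be a Noetherian local ring and φ : R^m → R^n a map of finite free modules with matrix M. Then
φ is injective if and only if the rank of M is m and the determinantal ideal I(M) is the unit ideal
or contains a nonzerodivisor. -/
theorem result (R : Type u) [CommRing R]
    [IsLocalRing R] [IsNoetherianRing R] (m n : ℕ) (M : Matrix (Fin n) (Fin m) R) :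
    Function.Injective (Matrix.mulVecLin M) ↔
      CAlgX.matrixRank M = m ∧ (CAlgX.detIdeal M = ⊤ ∨ ∃ a ∈ CAlgX.detIdeal M, IsRegular a) := by
  rw [Groth.Agent.CAlgMisc.injective_iff_rank M]
  refine and_congr_right fun _ => ⟨fun h => ?_, fun h => ?_⟩
  · refine Or.inr ?_
    by_contra hcon
    push Not at hcon
    refine (Ideal.bot_lt_annihilator_of_disjoint_nonZeroDivisors
      (I := CAlgX.detIdeal M) (Set.disjoint_left.2 fun a ha hreg => hcon a ha ?_)).ne' h
    exact isRegular_iff_mem_nonZeroDivisors.2 hreg
  · rw [eq_bot_iff]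
    intro a ha
    rw [Submodule.mem_annihilator] at ha
    rw [Submodule.mem_bot]
    rcases h with h | ⟨b, hb, hreg⟩
    · simpa using ha 1 (h ▸ trivial)
    · exact hreg.2 (show a * b = 0 * b by rw [zero_mul]; exact ha b hb)

end Groth.Agent.S9278
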