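import Groth.Statements.S9279
import Groth.Agent.HenGeomInt.DimOneBranch
import Groth.Agent.S1235
import Groth.Agent.RegLoc.AdicNoeth
-- import your own Groth.Agent.* helpers here

set_option autoImplicit false
universe u
open Brnch

namespace Groth.Agent.S9279

/-- For a Noetherian local ring A with henselization S and completion A^ at its maximal ideal, the
spectrum of A^ with its closed point removed is preconnected exactly when the spectrum of S with its
closed point removed is (the two sets are empty together, namely when A has dimension zero). Stated
as: the complement of the closed point in Spec A^ is preconnected iff the complement of the closed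
point in Spec S is. -/
theorem result (A S : Type u) [CommRing A]
    [IsLocalRing A] [IsNoetherianRing A] [CommRing S] [IsLocalRing S] [Algebra A S]
    [IsLocalHom (algebraMap A S)] [Hensel.IsHenselization A S] :
    IsPreconnected
        ({IsLocalRing.closedPoint (AdicCompletion (IsLocalRing.maximalIdeal A) A)}ᶜ :
          Set (PrimeSpectrum (AdicCompletion (IsLocalRing.maximalIdeal A) A))) ↔
      IsPreconnected ({IsLocalRing.closedPoint S}ᶜ : Set (PrimeSpectrum S)) := by
  let C := AdicCompletion (IsLocalRing.maximalIdeal A) A
  haveI : IsNoetherianRing C :=
    Groth.Agent.RegLoc.AdicNoeth.isNoetherianRing_adicCompletion _ (IsNoetherian.noetherian _)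
  obtain ⟨ψ, hψ, -⟩ := (inferInstance : Hensel.IsHenselization A S).universal C (algebraMap A C) inferInstance
  letI : Algebra S C := ψ.toAlgebra
  haveI : IsScalarTower A S C := .of_algebraMap_eq fun a => (RingHom.congr_fun hψ a).symm
  have hS := Groth.Agent.Hensel.isEtLike_of_isHenselization A S
  haveI : IsLocalHom (algebraMap S C) := Groth.Agent.Hens.isLocalHom_of_isEtLike hS
  haveI : Module.Flat S C := Groth.Agent.S1235.flat_of_isEtLike hS C
  haveI : HenselianLocalRing S := Hensel.IsHenselization.henselian (R := A)
  haveI : IsNoetherianRing S := hS.isNoetherianRing_of_base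
  have hmapC : (IsLocalRing.maximalIdeal S).map (algebraMap S C) =
      (IsLocalRing.maximalIdeal A).map (algebraMap A C) := by
    rw [← hS.map_max, Ideal.map_map, ← IsScalarTower.algebraMap_eq]
  refine Groth.Agent.HenGeomInt.isPreconnected_punctured_iff (fun N z => ?_)
    (hmapC.trans AdicCompletion.maximalIdeal_eq_map.symm)
  obtain ⟨a, ha⟩ := Groth.Agent.HenGeomInt.exists_sub_mem_of_completion A N z
  exact ⟨algebraMap A S a, by rw [hmapC, ← IsScalarTower.algebraMap_apply]; exact ha⟩

end Groth.Agent.S9279
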