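import Groth.Statements.S9280
import Groth.Agent.EGA4Lib.J2

set_option autoImplicit false
set_option linter.style.haveILetI false
universe u
open EGA4

namespace Groth.Agent.S9280

/-- A Nagata ring of dimension 1 is J-2, that is, every finite type algebra over it has open regular
locus. -/
theorem result (R : Type u) [CommRing R] (hR : CAlg.IsNagata R)
    (hdim : ringKrullDim R = 1) : EGA4.IsJ2 R := by
  haveI := hR.1
  rw [EGA4Lib.isJ2_iff]
  intro A' _ _ _ hfin
  rw [EGA4Lib.exists_open_regLocus_iff]
  let p : Ideal R := RingHom.ker (algebraMap R A')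
  haveI : p.IsPrime := RingHom.ker_isPrime _
  letI : Algebra (R ⧸ p) A' := (RingHom.kerLift (algebraMap R A')).toAlgebra
  haveI : IsScalarTower R (R ⧸ p) A' := IsScalarTower.of_algebraMap_eq fun _ => rfl
  haveI : Module.Finite (R ⧸ p) A' := Module.Finite.of_restrictScalars_finite R _ _
  haveI : IsNoetherianRing A' := IsNoetherianRing.of_finite R A'
  let L := FractionRing A'
  haveI : FaithfulSMul (R ⧸ p) A' :=
    (faithfulSMul_iff_algebraMap_injective _ _).2 (RingHom.kerLift_injective _)
  haveI : FaithfulSMul (R ⧸ p) L := (faithfulSMul_iff_algebraMap_injective _ _).2 (by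
    rw [IsScalarTower.algebraMap_eq (R ⧸ p) A' L]
    exact (IsFractionRing.injective A' L).comp (RingHom.kerLift_injective _))
  letI : Algebra (FractionRing (R ⧸ p)) L := FractionRing.liftAlgebra _ _
  haveI : IsScalarTower (R ⧸ p) (FractionRing (R ⧸ p)) L :=
    FractionRing.isScalarTower_liftAlgebra _ _
  haveI : Algebra.IsIntegral (R ⧸ p) A' := Algebra.IsIntegral.of_finite _ A'
  haveI : FiniteDimensional (FractionRing (R ⧸ p)) L :=
    Module.Finite.of_isLocalization (R ⧸ p) A' (nonZeroDivisors (R ⧸ p))
  haveI : Module.Finite (R ⧸ p) (integralClosure (R ⧸ p) L) := hR.2 p L inferInstance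
  let B := integralClosure A' L
  haveI : Module.Finite (R ⧸ p) B := by
    let e : integralClosure (R ⧸ p) L ≃ₗ[R ⧸ p] B :=
      { toFun := fun x => ⟨x.1, x.2.tower_top⟩
        invFun := fun x => ⟨x.1, isIntegral_trans x.1 x.2⟩
        map_add' := fun _ _ => rfl
        map_smul' := fun _ _ => rfl
        left_inv := fun _ => rfl
        right_inv := fun _ => rfl }
    exact Module.Finite.equiv e
  haveI : Module.Finite A' B := Module.Finite.of_restrictScalars_finite (R ⧸ p) A' B
  haveI : IsNoetherianRing B := IsNoetherianRing.of_finite A' B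
  haveI : IsIntegrallyClosed B := integralClosure.isIntegrallyClosedOfFiniteExtension (FractionRing A')
  haveI : Ring.KrullDimLE 1 (R ⧸ p) := (Ring.krullDimLE_iff).2
    ((ringKrullDim_quotient_le p).trans hdim.le)
  haveI : Ring.DimensionLEOne (R ⧸ p) :=
    ⟨fun hP hPp => Ideal.IsPrime.isMaximal_of_ne_bot hPp hP⟩
  haveI : Ring.DimensionLEOne B := Ring.DimensionLEOne.of_isIntegral (R := R ⧸ p) B
  haveI : IsDedekindDomain B := { }
  refine EGA4Lib.exists_forall_mem_regLocus_of_finite (B := B) ?_
    ⟨1, one_ne_zero, fun q _ => EGA4Lib.mem_regLocus_of_isDedekindDomain B q⟩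
  exact fun x y h => IsFractionRing.injective A' L (congr_arg Subtype.val h)

end Groth.Agent.S9280
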