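import Groth.Statements.S9282
import Mathlib.RingTheory.Extension.Cotangent.Basic
import Mathlib.RingTheory.LocalRing.ResidueField.Basic
-- import your own Groth.Agent.* helpers here

set_option autoImplicit false
universe u
open CAlg

namespace Groth.Agent.S9282

open MvPolynomial in
/-- A kernel element with differential vanishing on the residue field which maps into `m²` lies in
the square of the kernel. -/
theorem mem_sq_of_pderiv_mem {A B : Type u} [CommRing A] [CommRing B] [IsLocalRing B] [Algebra A B]
    (hfs : CAlgX.IsAdicFormallySmooth A B (IsLocalRing.maximalIdeal B))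
    (π : MvPolynomial B A →ₐ[A] B) (hπ : Function.Surjective π) (x : MvPolynomial B A)
    (hd : ∀ b, π (pderiv b x) ∈ IsLocalRing.maximalIdeal B)
    (hx : π x ∈ IsLocalRing.maximalIdeal B ^ 2) :
    x ∈ Ideal.comap π.toRingHom (IsLocalRing.maximalIdeal B) ^ 2 := by
  classical
  set J := Ideal.comap π.toRingHom (IsLocalRing.maximalIdeal B) with hJ
  let J' := (RingHom.ker π.toRingHom).map (Ideal.Quotient.mk (J ^ 2))
  have hIJ : RingHom.ker π.toRingHom ≤ J := Ideal.ker_le_comap _
  have hJ'2 : J' ^ 2 = ⊥ := by
    rw [eq_bot_iff, ← Ideal.map_pow, ← Ideal.map_quotient_self (J ^ 2)]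
    exact Ideal.map_mono (Ideal.pow_right_mono hIJ 2)
  let e : (MvPolynomial B A ⧸ RingHom.ker π.toRingHom) ≃ₐ[A] B :=
    Ideal.quotientKerAlgEquivOfSurjective hπ
  let f : MvPolynomial B A →ₐ[A] (MvPolynomial B A ⧸ J ^ 2) ⧸ J' :=
    (Ideal.Quotient.mkₐ A J').comp (Ideal.Quotient.mkₐ A (J ^ 2))
  have hf : ∀ y ∈ RingHom.ker π.toRingHom, f y = 0 := fun y hy =>
    Ideal.Quotient.eq_zero_iff_mem.2 (Ideal.mem_map_of_mem _ hy)
  let L : (MvPolynomial B A ⧸ RingHom.ker π.toRingHom) →ₐ[A] (MvPolynomial B A ⧸ J ^ 2) ⧸ J' :=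
    Ideal.Quotient.liftₐ _ f hf
  let ψ : B →ₐ[A] (MvPolynomial B A ⧸ J ^ 2) ⧸ J' := L.comp e.symm.toAlgHom
  have hψ : ∀ y, ψ (π y) = f y := fun y => by
    show L (e.symm (π y)) = f y
    rw [show π y = e (Ideal.Quotient.mk _ y) from rfl, e.symm_apply_apply]
    rfl
  have hmap : J.map π.toRingHom = IsLocalRing.maximalIdeal B :=
    Ideal.map_comap_of_surjective _ hπ _
  have hcont : ∀ z ∈ IsLocalRing.maximalIdeal B ^ 2, ψ z = 0 := by
    intro z hz
    rw [← hmap, ← Ideal.map_pow] at hz
    obtain ⟨y, hy, rfl⟩ := (Ideal.mem_map_iff_of_surjective π.toRingHom hπ).1 hz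
    refine (hψ y).trans (Ideal.Quotient.eq_zero_iff_mem.2 ?_)
    show Ideal.Quotient.mk (J ^ 2) y ∈ J'
    rw [Ideal.Quotient.eq_zero_iff_mem.2 hy]; exact zero_mem _
  obtain ⟨χ, hχ⟩ := hfs _ J' hJ'2 ψ ⟨2, hcont⟩
  have hmem : ∀ y, Ideal.Quotient.mk (J ^ 2) y - χ (π y) ∈ J' := fun y => by
    rw [← Ideal.Quotient.eq]
    exact ((DFunLike.congr_fun hχ (π y)).trans (hψ y)).symm
  -- the difference of the two liftings is a derivation killed by `J`
  have hJJ' : ∀ r ∈ J, ∀ z ∈ J', Ideal.Quotient.mk (J ^ 2) r * z = 0 := by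
    intro r hr z hz
    obtain ⟨w, hw, rfl⟩ := (Ideal.mem_map_iff_of_surjective _ Ideal.Quotient.mk_surjective).1 hz
    rw [← map_mul, Ideal.Quotient.eq_zero_iff_mem, sq]
    exact Ideal.mul_mem_mul hr (hIJ hw)
  let δ : Derivation A (MvPolynomial B A) (MvPolynomial B A ⧸ J ^ 2) :=
  { toFun := fun y => Ideal.Quotient.mk (J ^ 2) y - χ (π y)
    map_add' := fun b c => by simp only [map_add]; abel
    map_smul' := fun r b => by
      rw [RingHom.id_apply, map_smul π, map_smul χ, smul_sub]
      rfl
    map_one_eq_zero' := by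
      show Ideal.Quotient.mk (J ^ 2) 1 - χ (π 1) = 0
      rw [map_one, map_one, map_one, sub_self]
    leibniz' := fun b c => by
      have h0 : (Ideal.Quotient.mk (J ^ 2) b - χ (π b)) * (Ideal.Quotient.mk (J ^ 2) c - χ (π c)) = 0 := by
        rw [← Ideal.mem_bot, ← hJ'2, pow_two J']
        exact Ideal.mul_mem_mul (hmem b) (hmem c)
      show Ideal.Quotient.mk (J ^ 2) (b * c) - χ (π (b * c)) = _
      simp only [map_mul, Algebra.smul_def, Ideal.Quotient.algebraMap_eq, LinearMap.coe_mk,
        AddHom.coe_mk]
      linear_combination -h0 }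
  have hδ : δ x = 0 := by
    rw [← δ.liftKaehlerDifferential_comp_D,
      ← (KaehlerDifferential.mvPolynomialBasis A B).linearCombination_repr
        (KaehlerDifferential.D A (MvPolynomial B A) x),
      Finsupp.linearCombination_apply, Finsupp.sum, map_sum]
    refine Finset.sum_eq_zero fun b _ => ?_
    rw [LinearMap.map_smul, KaehlerDifferential.mvPolynomialBasis_repr_apply,
      KaehlerDifferential.mvPolynomialBasis_apply, Derivation.liftKaehlerDifferential_comp_D,
      Algebra.smul_def]
    exact hJJ' _ (hd b) _ (hmem _)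
  have hχ0 : χ (π x) = 0 := by
    rw [sq] at hx
    refine Submodule.mul_induction_on hx (fun u hu v hv => ?_) (fun u v h1 h2 => by
      rw [map_add, h1, h2, add_zero])
    obtain ⟨u, rfl⟩ := hπ u
    obtain ⟨v, rfl⟩ := hπ v
    have key : ∀ y, π y ∈ IsLocalRing.maximalIdeal B → χ (π y) ∈ J.map (Ideal.Quotient.mk (J ^ 2)) :=
      fun y hy => by
        rw [show χ (π y) = Ideal.Quotient.mk (J ^ 2) y - (Ideal.Quotient.mk (J ^ 2) y - χ (π y)) by
          ring]
        exact sub_mem (Ideal.mem_map_of_mem _ hy) (Ideal.map_mono hIJ (hmem y))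
    have h := Ideal.mul_mem_mul (key u hu) (key v hv)
    rw [← Ideal.map_mul, ← sq, Ideal.map_quotient_self] at h
    rw [map_mul]
    exact h
  rw [← Ideal.Quotient.eq_zero_iff_mem]
  have : Ideal.Quotient.mk (J ^ 2) x - χ (π x) = 0 := hδ
  rwa [hχ0, sub_zero] at this

/-- Let A → B be a local ring map between Noetherian local rings that is formally smooth for the adic
topology of the maximal ideal of B, and write K for the residue field of B. In the Jacobi–Zariski
sequence attached to A → B → K, the map from H_1(NL_{K/A}) to H_1(NL_{K/B}), which is m_B/m_B^2, is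
injective; the remaining terms are exact in general, so that sequence starts with a zero. -/
theorem result (A B : Type u) [CommRing A]
    [CommRing B] [IsLocalRing A] [IsLocalRing B] [IsNoetherianRing A] [IsNoetherianRing B]
    [Algebra A B] [IsLocalHom (algebraMap A B)]
    (hfs : CAlgX.IsAdicFormallySmooth A B (IsLocalRing.maximalIdeal B)) :
    Function.Injective
      (Algebra.H1Cotangent.map A B (IsLocalRing.ResidueField B) (IsLocalRing.ResidueField B)) := by
  classical
  let K := IsLocalRing.ResidueField B
  have hres : Function.Surjective (algebraMap B K) := IsLocalRing.residue_surjective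
  let π : MvPolynomial B A →ₐ[A] B := MvPolynomial.aeval id
  have hπ : Function.Surjective π := fun b => ⟨MvPolynomial.X b, MvPolynomial.aeval_X _ b⟩
  have hπK : ∀ y, MvPolynomial.aeval (fun b : B => algebraMap B K b) y = algebraMap B K (π y) := by
    intro y
    exact MvPolynomial.aeval_algebraMap_apply K id y
  let G : Algebra.Generators A K B := Algebra.Generators.ofSurjective (fun b => algebraMap B K b)
    (fun s => by
      obtain ⟨b, rfl⟩ := hres s
      exact ⟨MvPolynomial.X b, MvPolynomial.aeval_X _ b⟩)
  let G' : Algebra.Generators B K PEmpty.{u + 1} := Algebra.Generators.ofSurjectiveAlgebraMap hres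
  let f : G.Hom G' := ⟨fun b => MvPolynomial.C b, fun b => MvPolynomial.aeval_C G'.val b⟩
  let e1 : G.toExtension.Hom (Algebra.Generators.self A K).toExtension :=
    (Algebra.Generators.defaultHom G (Algebra.Generators.self A K)).toExtensionHom
  let e1' : (Algebra.Generators.self A K).toExtension.Hom G.toExtension :=
    (Algebra.Generators.defaultHom (Algebra.Generators.self A K) G).toExtensionHom
  let e3 : (Algebra.Generators.self B K).toExtension.Hom G'.toExtension :=
    (Algebra.Generators.defaultHom (Algebra.Generators.self B K) G').toExtensionHom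
  -- the map between the small presentations is injective
  have hinj : Function.Injective (Algebra.Extension.H1Cotangent.map f.toExtensionHom) := by
    rw [injective_iff_map_eq_zero]
    rintro ⟨y, hy⟩ hfy
    obtain ⟨⟨x, hxker⟩, rfl⟩ := Algebra.Extension.Cotangent.mk_surjective y
    refine Subtype.ext ((Algebra.Extension.Cotangent.mk_eq_zero_iff _).2 ?_)
    have hker : G.toExtension.ker = Ideal.comap π.toRingHom (IsLocalRing.maximalIdeal B) := by
      ext z
      show algebraMap G.Ring K z = 0 ↔ π z ∈ IsLocalRing.maximalIdeal B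
      rw [← IsLocalRing.residue_eq_zero_iff]
      exact Eq.congr_left (hπK z)
    show x ∈ G.toExtension.ker ^ 2
    rw [hker]
    refine mem_sq_of_pderiv_mem hfs π hπ x (fun b => ?_) ?_
    · have h1 := congrArg (fun w => G.cotangentSpaceBasis.repr w b)
        ((Algebra.Extension.cotangentComplex_mk (P := G.toExtension) ⟨x, hxker⟩).symm.trans hy)
      simp only [map_zero, Finsupp.coe_zero, Pi.zero_apply] at h1
      rw [← IsLocalRing.residue_eq_zero_iff]
      refine (hπK _).symm.trans ?_
      refine Eq.trans ?_ h1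
      exact (G.cotangentSpaceBasis_repr_one_tmul x b).symm
    · have h2 : (Algebra.Extension.Cotangent.map f.toExtensionHom)
          (Algebra.Extension.Cotangent.mk ⟨x, hxker⟩) = 0 := congrArg Subtype.val hfy
      rw [Algebra.Extension.Cotangent.map_mk, Algebra.Extension.Cotangent.mk_eq_zero_iff] at h2
      let ev : G'.Ring →ₐ[B] B := MvPolynomial.aeval PEmpty.elim
      have hev : ∀ z, ev (f.toAlgHom z) = π z := fun z => by
        show ((ev.restrictScalars A).comp f.toAlgHom) z = π z
        congr 1
        refine MvPolynomial.algHom_ext fun b => ?_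
        show ev (f.toAlgHom (MvPolynomial.X b)) = π (MvPolynomial.X b)
        rw [Algebra.Generators.Hom.toAlgHom_X]
        exact (MvPolynomial.aeval_C _ b).trans (MvPolynomial.aeval_X id b).symm
      let evR : G'.toExtension.Ring →+* B := ev.toRingHom
      have h3 := Ideal.mem_map_of_mem evR h2
      rw [Ideal.map_pow] at h3
      have h4 : Ideal.map evR G'.toExtension.ker ≤ IsLocalRing.maximalIdeal B := by
        refine Ideal.map_le_iff_le_comap.2 fun z hz => ?_
        rw [Ideal.mem_comap, ← IsLocalRing.residue_eq_zero_iff]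
        refine Eq.trans ?_ hz
        show algebraMap B K (ev z) = MvPolynomial.aeval G'.val z
        rw [show G'.val = fun i => algebraMap B K (PEmpty.elim i) from funext fun i => i.elim]
        exact (MvPolynomial.aeval_algebraMap_apply K _ z).symm
      exact Eq.subst (motive := fun w => w ∈ IsLocalRing.maximalIdeal B ^ 2) (hev x)
        (Ideal.pow_right_mono h4 2 h3)
  rw [injective_iff_map_eq_zero]
  intro x hx
  obtain ⟨y, rfl⟩ : ∃ y, Algebra.Extension.H1Cotangent.map e1 y = x :=
    ⟨Algebra.Extension.H1Cotangent.map e1' x,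
      (Algebra.Extension.H1Cotangent.equiv e1 e1').apply_symm_apply x⟩
  have h5 : Algebra.Extension.H1Cotangent.map f.toExtensionHom y = 0 := by
    have h6 := congrArg (Algebra.Extension.H1Cotangent.map e3) hx
    rw [map_zero, Algebra.H1Cotangent.map] at h6
    rw [← h6, ← Algebra.Extension.H1Cotangent.map_comp_apply,
      ← Algebra.Extension.H1Cotangent.map_comp_apply]
    exact DFunLike.congr_fun (Algebra.Extension.H1Cotangent.map_eq _ _) y
  rw [hinj (h5.trans (map_zero _).symm), map_zero]

end Groth.Agent.S9282
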