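import Groth.Statements.S9283
import Mathlib.RingTheory.Finiteness.Ideal
-- import your own Groth.Agent.* helpers here

set_option autoImplicit false
universe u
open CAlg

namespace Groth.Agent.S9283

/-- Let R be an auto-associated ring, that is, a local ring whose maximal ideal is weakly associated to
R: some nonzero x ∈ R is killed by a power of every element of the maximal ideal. Then every proper
finitely generated ideal of R has a nonzero annihilator. -/
theorem result (R : Type u) [CommRing R] [IsLocalRing R]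
    (h : ∃ x : R, x ≠ 0 ∧ ∀ f ∈ IsLocalRing.maximalIdeal R, ∃ n : ℕ, f ^ n * x = 0)
    (I : Ideal R) (hI : I.FG) (hI' : I ≠ ⊤) : I.annihilator ≠ ⊥ := by
  obtain ⟨x, hx0, hx⟩ := h
  have hIm : I ≤ IsLocalRing.maximalIdeal R := IsLocalRing.le_maximalIdeal hI'
  have hle : I ≤ ((Ideal.span {x}).annihilator).radical := fun f hf => by
    obtain ⟨n, hn⟩ := hx f (hIm hf)
    refine ⟨n, (Submodule.mem_annihilator_span_singleton _ _).mpr ?_⟩
    simpa using hn
  obtain ⟨N, hN⟩ := Ideal.exists_pow_le_of_le_radical_of_fg hle hI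
  classical
  have hex : ∃ N, ∀ y ∈ I ^ N, y * x = 0 :=
    ⟨N, fun y hy => by simpa using (Submodule.mem_annihilator_span_singleton _ _).mp (hN hy)⟩
  have h0 : Nat.find hex ≠ 0 := fun h => hx0 (by
    have := Nat.find_spec hex
    rw [h] at this
    simpa using this 1 (by simp))
  obtain ⟨y, hy, hyx⟩ : ∃ y ∈ I ^ (Nat.find hex - 1), y * x ≠ 0 := by
    simpa using Nat.find_min hex (Nat.sub_lt (Nat.pos_of_ne_zero h0) one_pos)
  intro hbot
  refine hyx (show y * x ∈ (⊥ : Ideal R) from hbot ▸ Submodule.mem_annihilator.mpr fun z hz => ?_)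
  have : y * z ∈ I ^ Nat.find hex := by
    rw [← Nat.sub_one_add_one h0, pow_succ]
    exact Ideal.mul_mem_mul hy hz
  change y * x * z = 0
  rw [mul_right_comm]
  exact Nat.find_spec hex _ this

end Groth.Agent.S9283
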