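import Groth.Statements.S9286
import Mathlib.RingTheory.Finiteness.Projective
import Mathlib.RingTheory.Finiteness.Prod
import Mathlib.RingTheory.Finiteness.Basic
import Mathlib.Algebra.Module.Projective
-- import your own Groth.Agent.* helpers here

set_option autoImplicit false
universe u
open CAlg

namespace Groth.Agent.S9286

lemma split_of_propertyP {R : Type u} [CommRing R]
    (hP : ∀ I : Ideal R, I.FG → I ≠ ⊤ → I.annihilator ≠ ⊥) {ι : Type*} [Fintype ι]
    (v : ι → R) (hv : ∀ a : R, (∀ i, a * v i = 0) → a = 0) :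
    ∃ φ : (ι → R) →ₗ[R] R, φ v = 1 := by
  classical
  have htop : Ideal.span (Set.range v) = ⊤ := by
    by_contra h
    refine hP _ ⟨Finset.univ.image v, by simp⟩ h (eq_bot_iff.mpr fun a ha => hv a fun i => ?_)
    simpa using Submodule.mem_annihilator.mp ha (v i) (Ideal.subset_span (Set.mem_range_self i))
  have h1 : (1 : R) ∈ Submodule.span R (Set.range v) := (Ideal.eq_top_iff_one _).mp htop
  obtain ⟨c, hc⟩ := (Submodule.mem_span_range_iff_exists_fun R).mp h1
  exact ⟨∑ i, c i • LinearMap.proj i, by simpa using hc⟩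

lemma exists_retraction {R : Type u} [CommRing R]
    (hP : ∀ I : Ideal R, I.FG → I ≠ ⊤ → I.annihilator ≠ ⊥) (n : ℕ) :
    ∀ (M : Type u) [AddCommGroup M] [Module R M] [Module.Finite R M] [Module.Projective R M]
      (u : (Fin n → R) →ₗ[R] M), Function.Injective u →
      ∃ r : M →ₗ[R] (Fin n → R), r.comp u = LinearMap.id := by
  induction n with
  | zero => exact fun M _ _ _ _ u _ => ⟨0, LinearMap.ext fun x => Subsingleton.elim _ _⟩
  | succ n ih =>
    intro M _ _ _ _ u hu
    obtain ⟨m, p, i, hp, hi, hpi⟩ := Module.Finite.exists_comp_eq_id_of_projective R M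
    have hv : ∀ a : R, (∀ j, a * i (u (Pi.single 0 1)) j = 0) → a = 0 := by
      intro a ha
      have h0 : i (u (a • Pi.single 0 1)) = i (u 0) := by
        rw [map_smul, map_smul, map_zero, map_zero]
        exact funext ha
      simpa using congrFun (hu (hi h0)) 0
    obtain ⟨φ, hφ⟩ := split_of_propertyP hP _ hv
    let ψ : M →ₗ[R] R := φ.comp i
    let x := u (Pi.single 0 1)
    have hψ : ψ x = 1 := hφ
    let q : M →ₗ[R] M := LinearMap.id - ψ.smulRight x
    let e : (Fin n → R) →ₗ[R] (Fin (n + 1) → R) :=
      LinearMap.pi (Fin.cases (motive := fun _ => (Fin n → R) →ₗ[R] R) 0 LinearMap.proj)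
    have hinj : Function.Injective (q.comp (u.comp e)) := by
      rw [← LinearMap.ker_eq_bot, LinearMap.ker_eq_bot']
      intro y hy
      have : u (e y) = u (ψ (u (e y)) • Pi.single 0 1) := by
        rw [map_smul]; exact sub_eq_zero.mp hy
      ext j
      simpa [e] using congrFun (hu this) j.succ
    obtain ⟨r', hr'⟩ := ih M (q.comp (u.comp e)) hinj
    let t : M →ₗ[R] (Fin n → R) := r'.comp q
    refine ⟨(ψ - (ψ.comp (u.comp e)).comp t).smulRight (Pi.single 0 1) + e.comp t, ?_⟩
    refine LinearMap.ext fun y => ?_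
    have hy : y = y 0 • Pi.single 0 1 + e (fun j => y j.succ) := by
      ext j; refine Fin.cases ?_ ?_ j <;> simp [e]
    have hqx : q x = 0 := by simp [q, hψ]
    have ht1 : t (u y) = fun j => y j.succ := by
      conv_lhs => rw [hy, map_add, map_smul]
      have h1 : t x = 0 := by simp [t, hqx]
      have h2 : t (u (e fun j => y j.succ)) = fun j => y j.succ :=
        LinearMap.congr_fun hr' _
      rw [map_add, map_smul, h2, show t (u (Pi.single 0 1)) = 0 from h1]
      simp
    have hψy : ψ (u y) = y 0 + ψ (u (e fun j => y j.succ)) := by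
      conv_lhs => rw [hy, map_add, map_smul, map_add, map_smul]
      rw [show ψ (u (Pi.single 0 1)) = 1 from hψ]; simp
    simp only [LinearMap.comp_apply, LinearMap.add_apply, LinearMap.smulRight_apply,
      LinearMap.sub_apply, LinearMap.id_apply, ht1, hψy, add_sub_cancel_right]
    exact hy.symm

/-- Let R be a ring in which every proper finitely generated ideal has a nonzero annihilator. Given an
injective R-linear map u : N → M, where both N and M are finite and projective over R, the quotient
Coker(u) = M/u(N) is again projective as an R-module. -/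
theorem result (R : Type u) [CommRing R]
    (hP : (∀ I : Ideal R, I.FG → I ≠ ⊤ → I.annihilator ≠ ⊥))
    (N M : Type u) [AddCommGroup N] [Module R N] [Module.Finite R N] [Module.Projective R N]
    [AddCommGroup M] [Module R M] [Module.Finite R M] [Module.Projective R M]
    (u : N →ₗ[R] M) (hu : Function.Injective u) :
    Module.Projective R (M ⧸ LinearMap.range u) := by
  classical
  obtain ⟨n, p, i, hp, -, hpi⟩ := Module.Finite.exists_comp_eq_id_of_projective R N
  let P := LinearMap.ker p
  let u' : (Fin n → R) →ₗ[R] M × (Fin n → R) :=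
    LinearMap.prod (u.comp p) (LinearMap.id - i.comp p)
  have hu' : Function.Injective u' := by
    rw [← LinearMap.ker_eq_bot, LinearMap.ker_eq_bot']
    intro x hx
    obtain ⟨h1, h2⟩ := Prod.mk.injEq _ _ _ _ ▸ (hx : (u (p x), x - i (p x)) = (0, 0))
    have hpx : p x = 0 := hu (h1.trans (map_zero u).symm)
    simpa [hpx] using h2
  have : Module.Finite R (M × (Fin n → R)) := inferInstance
  obtain ⟨r, hr⟩ := exists_retraction hP n _ u' hu'
  let ρ : M →ₗ[R] N := p.comp (r.comp (LinearMap.inl R M (Fin n → R)))
  have hρ : ∀ x, ρ (u x) = x := by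
    intro x
    have hpix : p (i x) = x := LinearMap.congr_fun hpi x
    have : u' (i x) = (u x, 0) := by simp [u', hpix]
    have h2 : r (u x, 0) = i x := this ▸ LinearMap.congr_fun hr (i x)
    simp [ρ, h2, hpix]
  refine Module.Projective.of_split
    ((LinearMap.range u).liftQ (LinearMap.id - u.comp ρ) ?_) (LinearMap.range u).mkQ ?_
  · rintro _ ⟨x, rfl⟩; simp [hρ]
  · ext m
    simp

end Groth.Agent.S9286
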