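import Groth.Statements.S9285
import Groth.Agent.S9286
-- import your own Groth.Agent.* helpers here

set_option autoImplicit false
universe u
open CAlg

namespace Groth.Agent.S9285

/-- A ring R has the property that every proper finitely generated ideal has a nonzero annihilator if
and only if every injective linear map R → R^n admits a retraction. -/
theorem result (R : Type u) [CommRing R] :
    (∀ I : Ideal R, I.FG → I ≠ ⊤ → I.annihilator ≠ ⊥) ↔
      ∀ (n : ℕ) (u : R →ₗ[R] (Fin n → R)), Function.Injective u →
        ∃ v : (Fin n → R) →ₗ[R] R, v.comp u = LinearMap.id := by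
  classical
  constructor
  · intro hP n u hu
    obtain ⟨φ, hφ⟩ := Groth.Agent.S9286.split_of_propertyP hP (u 1) (fun a ha => by
      refine hu ?_
      rw [map_zero, ← mul_one a, ← smul_eq_mul, map_smul]
      exact funext ha)
    exact ⟨φ, LinearMap.ext_ring (by simpa using hφ)⟩
  · intro h I hI hI' hann
    obtain ⟨n, g, hg⟩ := Submodule.fg_iff_exists_fin_generating_family.mp hI
    obtain ⟨v, hv⟩ := h n (LinearMap.pi fun i => LinearMap.toSpanSingleton R R (g i)) (by
      rw [← LinearMap.ker_eq_bot, eq_bot_iff]
      intro a ha
      rw [← hann, ← hg, Submodule.mem_annihilator_span]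
      rintro ⟨_, i, rfl⟩
      simpa using congrFun ha i)
    refine hI' ((Ideal.eq_top_iff_one _).mpr ?_)
    have h1 := LinearMap.congr_fun hv 1
    rw [LinearMap.comp_apply, LinearMap.id_apply, pi_eq_sum_univ
      ((LinearMap.pi fun i => LinearMap.toSpanSingleton R R (g i)) 1), map_sum] at h1
    rw [← h1]
    refine sum_mem fun i _ => ?_
    rw [map_smul, smul_eq_mul]
    refine Ideal.mul_mem_right _ _ ?_
    simpa using hg.le (Submodule.subset_span (Set.mem_range_self i))

end Groth.Agent.S9285
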