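import Groth.Statements.S9288
import Groth.Agent.FormalFibre48.DiffBasis

set_option autoImplicit false
universe u
open IsLocalRing
open CAlg

namespace Groth.Agent.S9288

/-- Let k be a field of positive characteristic p and (A, m, K) a Noetherian local k-algebra which is
geometrically regular over k. Let F ⊆ K be a subfield containing k, finitely generated over k, and φ
: k[y_1, ..., y_m] → A a k-algebra map such that each y_i maps into F (modulo m) and such that the
differentials of the images of y_1, ..., y_m form a basis of Ω_{F/k}. Let 𝔭 be the inverse image of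
m in k[y_1, ..., y_m]. Then A is flat over k[y_1, ..., y_m] (equivalently over its localization at
𝔭, since A is local) and A/𝔭A is a regular local ring. -/
theorem result (p : ℕ)
    [Fact p.Prime] (k : Type u) [Field k] [CharP k p] (A : Type u) [CommRing A] [IsLocalRing A]
    [IsNoetherianRing A] [Algebra k A] (hA : CAlg.IsGeometricallyRegular k A)
    (F : IntermediateField k (IsLocalRing.ResidueField A)) (hF : F.FG) (m : ℕ)
    (φ : MvPolynomial (Fin m) k →ₐ[k] A)
    (hφ : ∀ i : Fin m, IsLocalRing.residue A (φ (MvPolynomial.X i)) ∈ F)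
    (hb : LinearIndependent F
        (fun i : Fin m => KaehlerDifferential.D k F ⟨IsLocalRing.residue A (φ (MvPolynomial.X i)), hφ i⟩) ∧
      Submodule.span F (Set.range
        (fun i : Fin m => KaehlerDifferential.D k F ⟨IsLocalRing.residue A (φ (MvPolynomial.X i)), hφ i⟩)) = ⊤) :
    letI := φ.toRingHom.toAlgebra
    Module.Flat (MvPolynomial (Fin m) k) A ∧
      IsRegularLocalRing (A ⧸ Ideal.map φ.toRingHom
        (Ideal.comap φ.toRingHom (IsLocalRing.maximalIdeal A))) := by
  classical
  letI := φ.toRingHom.toAlgebra
  let B := MvPolynomial (Fin m) k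
  let K := ResidueField A
  let P : Ideal B := Ideal.comap φ.toRingHom (maximalIdeal A)
  haveI hA0 : IsRegularRing A :=
    have : IsRegularRing (TensorProduct k k A) := hA k inferInstance
    IsRegularRing.of_ringEquiv (R := TensorProduct k k A) (Algebra.TensorProduct.lid k A).toRingEquiv
  haveI : IsRegularLocalRing A := by
    haveI := IsRegularRing.isRegularLocalRing_localization (R := A) (maximalIdeal A)
    exact IsRegularLocalRing.of_ringEquiv (IsLocalization.atUnits A (maximalIdeal A).primeCompl
      (S := Localization.AtPrime (maximalIdeal A)) (fun x hx => show IsUnit x by simpa using hx)).symm.toRingEquiv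
  haveI : P.IsPrime := Ideal.comap_isPrime _ _
  let L := Localization.AtPrime P
  haveI : IsRegularRing k := inferInstance
  haveI : IsRegularRing B := inferInstance
  haveI : IsRegularLocalRing L := IsRegularRing.isRegularLocalRing_localization (R := B) P
  haveI : CharP B p := inferInstance
  haveI : CharP L p := by
    haveI : Nontrivial L := inferInstance
    exact (CharP.charP_iff_prime_eq_zero Fact.out).mpr
      (by rw [← map_natCast (algebraMap B L), CharP.cast_eq_zero, map_zero])
  let f : L →+* A := IsLocalization.lift (M := P.primeCompl) (g := φ.toRingHom) fun y => by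
    have := y.2
    exact not_not.mp fun h => this ((mem_maximalIdeal _).mpr h)
  have hf : ∀ b, f (algebraMap B L b) = φ b := fun b => IsLocalization.lift_eq _ b
  letI : Algebra L A := f.toAlgebra
  haveI : IsScalarTower B L A := IsScalarTower.of_algebraMap_eq fun b => (hf b).symm
  haveI : IsLocalHom (algebraMap L A) := by
    refine ⟨fun x hx => ?_⟩
    obtain ⟨⟨b, s⟩, hbs⟩ := IsLocalization.surj P.primeCompl x
    have hb : b ∉ P := fun hb => by
      have h2 : IsUnit (φ b) := by
        rw [← hf b, ← hbs, map_mul]
        exact hx.mul ((IsLocalization.map_units L s).map f)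
      exact ((mem_maximalIdeal _).mp hb) h2
    have := IsLocalization.map_units L (⟨b, hb⟩ : P.primeCompl)
    rw [← hbs] at this
    exact isUnit_of_mul_isUnit_left this
  obtain ⟨c, hc, -⟩ := Groth.Agent.RegLoc.exists_natCast_eq_ringKrullDim L
  have hfr : Module.finrank (ResidueField L) (CotangentSpace L) = c := by
    have h := (IsRegularLocalRing.iff_finrank_cotangentSpace L).mp ‹_›
    rw [hc] at h
    exact_mod_cast h
  let bc₀ := Module.finBasisOfFinrankEq (ResidueField L) (CotangentSpace L) hfr
  let bc := bc₀.reindex Equiv.ulift.{u}.symm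
  choose t ht using fun i => (maximalIdeal L).toCotangent_surjective (bc i)
  let tv : Fin c → L := fun i => (t ⟨i⟩ : L)
  have hspan : Ideal.span (Set.range tv) = maximalIdeal L := by
    refine Groth.Agent.RegLoc.eq_maximalIdeal_of_le_sup_sq (Ideal.span_le.mpr ?_) fun a ha => ?_
    · rintro _ ⟨i, rfl⟩; exact (t ⟨i⟩).2
    · choose g hg using fun i => residue_surjective (bc.repr ((maximalIdeal L).toCotangent ⟨a, ha⟩) i)
      have h1 : (maximalIdeal L).toCotangent ⟨a, ha⟩ = (maximalIdeal L).toCotangent (∑ i, g i • t i) := by
        rw [map_sum]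
        conv_lhs => rw [← bc.sum_repr ((maximalIdeal L).toCotangent ⟨a, ha⟩)]
        refine Finset.sum_congr rfl fun i _ => ?_
        rw [map_smul, ht, ← hg i]
        exact IsScalarTower.algebraMap_smul (ResidueField L) (g i) (bc i)
      have h2 := (Ideal.toCotangent_eq _).mp h1
      rw [show a = ((∑ i, g i • t i : maximalIdeal L) : L) + (a - ((∑ i, g i • t i : maximalIdeal L) : L)) by ring]
      refine Ideal.add_mem _ (Ideal.mem_sup_left ?_) (Ideal.mem_sup_right h2)
      rw [Submodule.coe_sum]
      refine Ideal.sum_mem _ fun i _ => ?_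
      exact Ideal.mul_mem_left _ _ (Ideal.subset_span ⟨i.down, rfl⟩)
  -- derivations separate the images
  have hfs := Groth.Agent.JacAdic16.GeomReg.adic_of_geomRegular hA
  let g := ResidueField.map f
  have hg : ∀ x, g (residue L x) = residue A (f x) := fun x => rfl
  have hres : ∀ a : k, residue A (algebraMap k A a) = algebraMap k K a := fun a => rfl
  have hπmem : ∀ b : B, residue A (φ b) ∈ F := fun b => by
    induction b using MvPolynomial.induction_on with
    | C a => rw [MvPolynomial.algHom_C, hres]; exact F.algebraMap_mem a
    | add a b ha hb => rw [map_add, map_add]; exact add_mem ha hb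
    | mul_X a i ha => rw [map_mul, map_mul]; exact mul_mem ha (hφ i)
  let π : B →ₐ[k] F :=
    { toFun := fun b => ⟨residue A (φ b), hπmem b⟩
      map_one' := Subtype.ext (by simp)
      map_mul' := fun a b => Subtype.ext (by simp)
      map_zero' := Subtype.ext (by simp)
      map_add' := fun a b => Subtype.ext (by simp)
      commutes' := fun a => Subtype.ext ((congrArg (residue A) (φ.commutes a)).trans (hres a)) }
  let bF : Module.Basis (Fin m) F (KaehlerDifferential k F) := Module.Basis.mk hb.1 hb.2.ge
  have key : ∀ j, ∃ D : A →+ K, (∀ x y, D (x * y) = residue A x * D y + residue A y * D x) ∧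
      D (f (tv j)) = 1 ∧ ∀ i, i ≠ j → D (f (tv i)) = 0 := by
    intro j
    obtain ⟨E, hE, hEj, hEi⟩ := Groth.Agent.FormalFibre48.exists_dual_derivations p L bc t ht ⟨j⟩
    let δ : k →+ K := AddMonoidHom.mk' (fun a => g (E (algebraMap B L (MvPolynomial.C a)))) fun a b => by
      simp only [map_add]
    have hδ : ∀ x y, δ (x * y) = algebraMap k K x * δ y + algebraMap k K y * δ x := fun x y => by
      have h : ∀ z, g (residue L (algebraMap B L (MvPolynomial.C z))) = algebraMap k K z := fun z => by
        rw [hg, hf, MvPolynomial.algHom_C]; rfl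
      show g (E _) = _
      rw [map_mul, map_mul, hE, map_add, map_mul, map_mul, h, h]
      rfl
    obtain ⟨D, hD, hDk⟩ := Groth.Agent.FormalFibre48.exists_extend hfs δ hδ
    let E' : B → K := fun b => g (E (algebraMap B L b)) - D (φ b)
    have hE' : ∀ a b, E' (a * b) = residue A (φ a) * E' b + residue A (φ b) * E' a := fun a b => by
      simp only [E', map_mul, hE, hD, map_add, hg, hf]
      ring
    have hE'C : ∀ a, E' (MvPolynomial.C a) = 0 := fun a => by
      simp only [E', MvPolynomial.algHom_C, hDk]
      exact sub_self _
    let G : KaehlerDifferential k F →ₗ[F] K := bF.constr F fun i => E' (MvPolynomial.X i)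
    have hG : ∀ b, E' b = G (KaehlerDifferential.D k F (π b)) := fun b => by
      induction b using MvPolynomial.induction_on with
      | C a =>
        rw [hE'C, ← MvPolynomial.algebraMap_eq, AlgHom.commutes, Derivation.map_algebraMap, map_zero]
      | add a b ha hb =>
        rw [map_add, map_add, map_add, ← ha, ← hb]
        simp only [E', map_add]
        ring
      | mul_X a i ha =>
        have hX : G (KaehlerDifferential.D k F (π (MvPolynomial.X i))) = E' (MvPolynomial.X i) := by
          rw [show KaehlerDifferential.D k F (π (MvPolynomial.X i)) = bF i from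
            (Module.Basis.mk_apply hb.1 hb.2.ge i).symm]
          exact bF.constr_basis F _ i
        rw [map_mul, Derivation.leibniz, map_add, map_smul, map_smul, ← ha, hX, hE',
          IntermediateField.smul_def, IntermediateField.smul_def, smul_eq_mul, smul_eq_mul]
        rfl
    have hP : ∀ b ∈ P, g (E (algebraMap B L b)) = D (φ b) := fun b hb' => by
      have h0 : π b = 0 := Subtype.ext ((residue_eq_zero_iff _).mpr hb')
      have h1 := hG b
      rw [h0, map_zero, map_zero] at h1
      exact sub_eq_zero.mp h1
    have hmax : ∀ l ∈ maximalIdeal L, g (E l) = D (f l) := fun l hl => by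
      rw [← Localization.AtPrime.map_eq_maximalIdeal, Ideal.map, Submodule.mem_span_set'] at hl
      obtain ⟨n, r, v, rfl⟩ := hl
      simp only [map_sum, smul_eq_mul]
      refine Finset.sum_congr rfl fun i _ => ?_
      obtain ⟨b, hb', hbv⟩ := (v i).2
      rw [← hbv, map_mul f, hf, hE, hD, map_add, map_mul g, map_mul g, hg, hg, hf, hP b hb',
        show residue A (φ b) = 0 from (residue_eq_zero_iff _).mpr hb']
      ring
    refine ⟨D, hD, ?_, fun i hi => ?_⟩
    · rw [← hmax _ (t ⟨j⟩).2, hEj, map_one]
    · rw [← hmax _ (t ⟨i⟩).2, hEi ⟨i⟩ (fun h => hi (congrArg ULift.down h)), map_zero]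
  let x : Fin c → maximalIdeal A := fun i =>
    ⟨f (tv i), ((local_hom_TFAE (algebraMap L A)).out 0 2 rfl rfl).mp ‹_› (Ideal.mem_map_of_mem _ (t ⟨i⟩).2)⟩
  have hind : LinearIndependent K fun i => (maximalIdeal A).toCotangent (x i) := by
    rw [Fintype.linearIndependent_iff]
    intro q hq j
    choose r hr using fun i => residue_surjective (q i)
    have h0 : (maximalIdeal A).toCotangent (∑ i, r i • x i) = 0 := by
      rw [map_sum, ← hq]
      refine Finset.sum_congr rfl fun i _ => ?_
      rw [map_smul, ← hr i]
      exact (IsScalarTower.algebraMap_smul K (r i) _).symm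
    rw [Ideal.toCotangent_eq_zero] at h0
    obtain ⟨D, hD, hDj, hDi⟩ := key j
    have hsq : ∀ a ∈ maximalIdeal A ^ 2, D a = 0 := fun a ha => by
      rw [pow_two] at ha
      induction ha using Submodule.mul_induction_on' with
      | mem_mul_mem u hu v hv => rw [hD, (residue_eq_zero_iff u).mpr hu, (residue_eq_zero_iff v).mpr hv]; ring
      | add u _ v _ hu hv => rw [map_add, hu, hv, add_zero]
    have h1 := hsq _ h0
    rw [Submodule.coe_sum, map_sum, Finset.sum_eq_single j] at h1
    · rw [Submodule.coe_smul, smul_eq_mul, hD, hDj, hr, (residue_eq_zero_iff _).mpr (x j).2, mul_one,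
        zero_mul, add_zero] at h1
      exact h1
    · intro i _ hi
      rw [Submodule.coe_smul, smul_eq_mul, hD, hDi i hi, (residue_eq_zero_iff _).mpr (x i).2]
      ring
    · simp
  obtain ⟨hflat, hreg⟩ := Groth.Agent.FormalFibre48.flat_of_cotangent_indep hc tv hspan x (fun i => rfl) hind
  haveI := hflat
  refine ⟨Module.Flat.trans B L A, ?_⟩
  haveI := hreg
  refine IsRegularLocalRing.of_ringEquiv (R := A ⧸ (maximalIdeal L).map (algebraMap L A)) (Ideal.quotEquivOfEq ?_)
  rw [← Localization.AtPrime.map_eq_maximalIdeal, Ideal.map_map, ← IsScalarTower.algebraMap_eq]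
  rfl

end Groth.Agent.S9288
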