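import Groth.Statements.S9289
import Groth.Agent.S0599
import Groth.Agent.Hensel.ExcellentHens
import Groth.Agent.EGA4Lib.ExcellentLoc
-- import your own Groth.Agent.* helpers here

set_option autoImplicit false
universe u
open CAlg

namespace Groth.Agent.S9289

/-- Let R and R' be Noetherian rings with R' of finite type over R and quasi-finite at the prime p' of
R', lying over p. If R_p has geometrically regular formal fibres, so does R'_{p'}; stated as: if the
completion map of R_p is regular, so is that of R'_{p'}. -/
theorem result (R R' : Type u) [CommRing R]
    [CommRing R'] [IsNoetherianRing R] [IsNoetherianRing R'] [Algebra R R'] [Algebra.FiniteType R R']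
    (p' : Ideal R') [p'.IsPrime] [Algebra.QuasiFiniteAt R p']
    (h : CAlg.IsRegularHom (Localization.AtPrime (Ideal.comap (algebraMap R R') p'))
      (AdicCompletion (IsLocalRing.maximalIdeal (Localization.AtPrime (Ideal.comap (algebraMap R R') p')))
        (Localization.AtPrime (Ideal.comap (algebraMap R R') p')))) :
    CAlg.IsRegularHom (Localization.AtPrime p')
      (AdicCompletion (IsLocalRing.maximalIdeal (Localization.AtPrime p')) (Localization.AtPrime p')) := by
  let p := Ideal.comap (algebraMap R R') p'
  let A := Localization.AtPrime p
  let M := Algebra.algebraMapSubmonoid R' p.primeCompl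
  let S := Localization M
  letI : Algebra A S := localizationAlgebra p.primeCompl R'
  haveI : IsNoetherianRing A := IsLocalization.isNoetherianRing p.primeCompl _ inferInstance
  haveI : Algebra.FiniteType A S := by
    haveI : IsLocalization (p.primeCompl.map (algebraMap R R')) S := (inferInstance : IsLocalization M S)
    rw [← RingHom.finiteType_algebraMap]
    exact RingHom.finiteType_localizationPreserves (algebraMap R R') p.primeCompl A S
      (RingHom.finiteType_algebraMap.2 inferInstance)
  have hS : CAlg.IsGRing S :=
    Groth.Agent.S0599.result A ((Groth.Agent.Hensel.isGRing_iff_isRegularHom_cpl A).2 h) S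
  have hle : M ≤ p'.primeCompl := by
    rintro _ ⟨a, ha, rfl⟩
    exact ha
  let L := Localization.AtPrime p'
  haveI : IsNoetherianRing L := IsLocalization.isNoetherianRing p'.primeCompl _ inferInstance
  letI : Algebra S L := IsLocalization.localizationAlgebraOfSubmonoidLe S L M p'.primeCompl hle
  haveI : IsScalarTower R' S L := IsLocalization.localization_isScalarTower_of_submonoid_le S L M p'.primeCompl hle
  haveI := IsLocalization.isLocalization_of_submonoid_le S L M p'.primeCompl hle
  exact (Groth.Agent.Hensel.isGRing_iff_isRegularHom_cpl L).1
    (Groth.Agent.EGA4Lib.isGRing_of_isLocalization (p'.primeCompl.map (algebraMap R' S)) L hS)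

end Groth.Agent.S9289
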