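import Groth.Statements.S9290
import Groth.Agent.FormalFibre48.Global

set_option autoImplicit false
universe u
open CAlg

namespace Groth.Agent.S9290

/-- Let R' be a Noetherian algebra of finite type over the Noetherian ring R, quasi-finite at the prime
p' over p, and let Q' ⊆ R'_{p'} and Q ⊆ R_p be primes with the same contraction to R (that is, a
prime q' ⊆ p' of R' lying over the prime q ⊆ p of R). If the formal fibre of R_p at Q is
geometrically regular over κ(Q), then the formal fibre of R'_{p'} at Q' is geometrically regular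
over κ(Q'). -/
theorem result (R R' : Type u) [CommRing R] [CommRing R']
    [IsNoetherianRing R] [IsNoetherianRing R'] [Algebra R R'] [Algebra.FiniteType R R']
    (p' : Ideal R') [p'.IsPrime] [Algebra.QuasiFiniteAt R p']
    (Q' : Ideal (Localization.AtPrime p')) [Q'.IsPrime]
    (Q : Ideal (Localization.AtPrime (Ideal.comap (algebraMap R R') p'))) [Q.IsPrime]
    (hQ : Ideal.comap (algebraMap R (Localization.AtPrime (Ideal.comap (algebraMap R R') p'))) Q =
      Ideal.comap (algebraMap R (Localization.AtPrime p')) Q')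
    (h : CAlg.IsGeometricallyRegular Q.ResidueField
      (EGA4.formalFibre (Localization.AtPrime (Ideal.comap (algebraMap R R') p')) Q)) :
    CAlg.IsGeometricallyRegular Q'.ResidueField (EGA4.formalFibre (Localization.AtPrime p') Q') := by
  obtain ⟨S', hS', r, hr, hbij⟩ :=
    Algebra.QuasiFiniteAt.exists_fg_and_exists_notMem_and_awayMap_bijective (R := R) p'
  haveI : Module.Finite R S' := ⟨(Submodule.fg_top _).mpr hS'⟩
  have hsurj : ∀ a : R', ∃ (b : S') (m : ℕ), (b : R') = (r : R') ^ m * a :=
    Localization.awayMap_surjective_iff.1 hbij.2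
  haveI : (p'.comap S'.val.toRingHom).IsPrime := Ideal.comap_isPrime _ _
  haveI : IsScalarTower R S' (Localization.AtPrime p') := IsScalarTower.of_algebraMap_eq fun _ => rfl
  haveI : IsLocalization.AtPrime (Localization.AtPrime p') (p'.comap S'.val.toRingHom) := by
    refine ⟨⟨?_, ?_, ?_⟩⟩
    · rintro ⟨y, hy⟩
      exact IsLocalization.map_units (M := p'.primeCompl) _ ⟨(y : R'), hy⟩
    · intro z
      obtain ⟨⟨a, s, hs⟩, hz⟩ := IsLocalization.surj p'.primeCompl z
      obtain ⟨b, k, hb⟩ := hsurj a
      obtain ⟨t, l, ht⟩ := hsurj s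
      refine ⟨⟨b * r ^ l, t * r ^ k, ?_⟩, ?_⟩
      · show ((t * r ^ k : S') : R') ∉ p'
        push_cast
        rw [ht]
        exact ‹p'.IsPrime›.mul_notMem (‹p'.IsPrime›.mul_notMem (fun hh => hr (‹p'.IsPrime›.mem_of_pow_mem _ hh)) hs)
          fun hh => hr (‹p'.IsPrime›.mem_of_pow_mem _ hh)
      · show z * algebraMap R' (Localization.AtPrime p') ((t * r ^ k : S') : R') =
          algebraMap R' (Localization.AtPrime p') ((b * r ^ l : S') : R')
        rw [Subalgebra.coe_mul, Subalgebra.coe_mul, SubmonoidClass.coe_pow, SubmonoidClass.coe_pow, ht, hb, map_mul, map_mul, map_mul, map_mul, ← hz]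
        ring
    · intro a b hab
      obtain ⟨⟨c, hc⟩, hc'⟩ := (IsLocalization.eq_iff_exists p'.primeCompl (Localization.AtPrime p')).1
        (show algebraMap R' (Localization.AtPrime p') (a : R') = algebraMap R' (Localization.AtPrime p') (b : R') from hab)
      obtain ⟨t, m, ht⟩ := hsurj c
      refine ⟨⟨t, ?_⟩, Subtype.ext ?_⟩
      · show (t : R') ∉ p'
        rw [ht]
        exact ‹p'.IsPrime›.mul_notMem (fun hh => hr (‹p'.IsPrime›.mem_of_pow_mem _ hh)) hc
      · show (t : R') * a = (t : R') * b
        rw [ht, mul_assoc, mul_assoc]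
        exact congrArg _ hc'
  exact Groth.Agent.FormalFibre48.geomRegular_formalFibre (p'.comap S'.val.toRingHom)
    (Ideal.comap (algebraMap R R') p') rfl (Localization.AtPrime p') Q' Q hQ h

end Groth.Agent.S9290
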