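import Groth.Statements.S9291
-- import your own Groth.Agent.* helpers here

set_option autoImplicit false
universe u
open EtAlg

namespace Groth.Agent.S9291

/-- Let A be a ring, I an ideal and u a unit of A/I. Then there is an étale ring map A → A' such that
A/I → A'/IA' is an isomorphism, together with a unit of A' mapping to the image of u. -/
theorem result (A : Type u) [CommRing A] (I : Ideal A) (u : (A ⧸ I)ˣ) :
    ∃ (A' : Type u) (_ : CommRing A') (_ : Algebra A A'), Algebra.Etale A A' ∧
      Function.Bijective (Ideal.quotientMap (Ideal.map (algebraMap A A') I) (algebraMap A A')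
        Ideal.le_comap_map) ∧
      ∃ u' : A'ˣ, Ideal.Quotient.mk (Ideal.map (algebraMap A A') I) (u' : A') =
        Ideal.quotientMap (Ideal.map (algebraMap A A') I) (algebraMap A A') Ideal.le_comap_map
          (u : A ⧸ I) := by
  obtain ⟨a, ha⟩ := Ideal.Quotient.mk_surjective (u : A ⧸ I)
  obtain ⟨b, hb⟩ := Ideal.Quotient.mk_surjective ((u⁻¹ : (A ⧸ I)ˣ) : A ⧸ I)
  let A' := Localization.Away a
  have hu : IsUnit (algebraMap A A' a) := IsLocalization.Away.algebraMap_isUnit a
  refine ⟨A', inferInstance, inferInstance, inferInstance, ?_, hu.unit, ?_⟩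
  · set q := Ideal.quotientMap (Ideal.map (algebraMap A A') I) (algebraMap A A') Ideal.le_comap_map
    have hua : IsUnit (Ideal.Quotient.mk I a) := ha ▸ u.isUnit
    let back : A' ⧸ I.map (algebraMap A A') →+* A ⧸ I :=
      Ideal.Quotient.lift _ (IsLocalization.Away.lift a hua) (by
        intro x hx
        refine RingHom.mem_ker.mp (?_ : x ∈ RingHom.ker (IsLocalization.Away.lift (S := A') a hua))
        refine Ideal.map_le_iff_le_comap.mpr (fun y hy => ?_) hx
        rw [Ideal.mem_comap, RingHom.mem_ker, IsLocalization.Away.lift_eq]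
        exact Ideal.Quotient.eq_zero_iff_mem.mpr hy)
    have h1 : back.comp q = RingHom.id _ := by
      apply Ideal.Quotient.ringHom_ext
      ext x
      show back (Ideal.Quotient.mk _ (algebraMap A A' x)) = Ideal.Quotient.mk I x
      exact IsLocalization.Away.lift_eq a hua x
    have h2 : q.comp back = RingHom.id _ := by
      apply Ideal.Quotient.ringHom_ext
      apply IsLocalization.ringHom_ext (Submonoid.powers a)
      ext x
      show q (IsLocalization.Away.lift a hua (algebraMap A A' x)) = Ideal.Quotient.mk _ (algebraMap A A' x)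
      rw [IsLocalization.Away.lift_eq]
      rfl
    exact Function.bijective_iff_has_inverse.mpr ⟨back, RingHom.congr_fun h1, RingHom.congr_fun h2⟩
  · rw [IsUnit.unit_spec, ← ha, Ideal.quotientMap_mk]

end Groth.Agent.S9291
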