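import Groth.Statements.S9292
import Mathlib

set_option autoImplicit false
universe u
open EtAlg

namespace Groth.Agent.S9292

/-- Let A be a ring, I an ideal, and e_1, ..., e_n a complete system of orthogonal idempotents of A/I
(equivalently a finite disjoint open covering of Spec(A/I)). Then one can find an A-algebra A' that
is étale over A, such that the induced map A/I → A'/IA' is bijective, together with a complete
system of orthogonal idempotents of A' lifting the e_j. -/
theorem result (A : Type u) [CommRing A] (I : Ideal A)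
    (n : ℕ) (e : Fin n → A ⧸ I) (he : CompleteOrthogonalIdempotents e) :
    ∃ (A' : Type u) (_ : CommRing A') (_ : Algebra A A'), Algebra.Etale A A' ∧
      Function.Bijective (Ideal.quotientMap (Ideal.map (algebraMap A A') I) (algebraMap A A')
        Ideal.le_comap_map) ∧
      ∃ e' : Fin n → A', CompleteOrthogonalIdempotents e' ∧
        ∀ j, Ideal.Quotient.mk (Ideal.map (algebraMap A A') I) (e' j) =
          Ideal.quotientMap (Ideal.map (algebraMap A A') I) (algebraMap A A') Ideal.le_comap_map
            (e j) := by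
  classical
  choose g hg using fun j ↦ Ideal.Quotient.mk_surjective (e j)
  let P := Fin n → A
  let A' := Localization.Away (g : P)
  haveI : Algebra.Etale P A' := Algebra.Etale.of_isLocalizationAway (g : P)
  haveI : Algebra.Etale A A' := Algebra.Etale.comp A P A'
  have hmem : ∀ x : P, (∀ j, x j ∈ I) → algebraMap P A' x ∈ I.map (algebraMap A A') := by
    intro x hx
    have hx' : x ∈ I.map (algebraMap A P) := by
      have : x = ∑ j, Pi.single j (1 : A) * algebraMap A P (x j) := by
        funext i
        simp [Finset.sum_apply, Pi.single_apply, Algebra.algebraMap_eq_smul_one, P]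
      rw [this]
      exact Ideal.sum_mem _ fun j _ ↦ Ideal.mul_mem_left _ _ (Ideal.mem_map_of_mem _ (hx j))
    have := Ideal.mem_map_of_mem (algebraMap P A') hx'
    rwa [Ideal.map_map, ← IsScalarTower.algebraMap_eq] at this
  have hmk : ∀ (m : ℕ) (j : Fin n), Ideal.Quotient.mk I (g j ^ (m + 1)) = e j := fun m j ↦ by
    rw [map_pow, hg, (he.idem j).pow_succ_eq]
  have heq : ∀ x y : P, (∀ j, e j * Ideal.Quotient.mk I (x j) = e j * Ideal.Quotient.mk I (y j)) →
      Ideal.Quotient.mk (I.map (algebraMap A A')) (algebraMap P A' x) =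
        Ideal.Quotient.mk (I.map (algebraMap A A')) (algebraMap P A' y) := by
    intro x y h
    rw [Ideal.Quotient.eq, ← map_sub]
    have h1 : algebraMap P A' (g * (x - y)) ∈ I.map (algebraMap A A') := hmem _ fun j ↦ by
      rw [← Ideal.Quotient.eq_zero_iff_mem, Pi.mul_apply, Pi.sub_apply, map_mul, map_sub, hg, mul_sub, h, sub_self]
    rw [map_mul] at h1
    exact (Ideal.unit_mul_mem_iff_mem _ (IsLocalization.Away.algebraMap_isUnit (g : P))).1 h1
  have hA : ∀ a : A, algebraMap A A' a = algebraMap P A' (fun _ ↦ a) := fun a ↦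
    IsScalarTower.algebraMap_apply A P A' a
  refine ⟨A', inferInstance, inferInstance, inferInstance, ⟨?_, ?_⟩,
    fun j ↦ algebraMap P A' (Pi.single j 1),
    (CompleteOrthogonalIdempotents.single (fun _ : Fin n ↦ A)).map (algebraMap P A'), ?_⟩
  · rw [injective_iff_map_eq_zero]
    intro a ha
    obtain ⟨a, rfl⟩ := Ideal.Quotient.mk_surjective a
    rw [Ideal.quotientMap_mk, Ideal.Quotient.eq_zero_iff_mem, IsScalarTower.algebraMap_eq A P A', ← Ideal.map_map,
      RingHom.comp_apply, IsLocalization.algebraMap_mem_map_algebraMap_iff (Submonoid.powers (g : P)) A'] at ha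
    obtain ⟨_, ⟨m, rfl⟩, hm⟩ := ha
    have hcomp : ∀ j, (Pi.evalRingHom (fun _ : Fin n ↦ A) j) (g ^ m * algebraMap A P a) ∈ I := fun j ↦ by
      have := Ideal.mem_map_of_mem (Pi.evalRingHom (fun _ : Fin n ↦ A) j) hm
      rw [Ideal.map_map] at this
      rwa [show (Pi.evalRingHom (fun _ : Fin n ↦ A) j).comp (algebraMap A P) = RingHom.id A from rfl,
        Ideal.map_id] at this
    rw [← one_mul (Ideal.Quotient.mk I a), ← he.complete, Finset.sum_mul]
    refine Finset.sum_eq_zero fun j _ ↦ ?_
    have := Ideal.Quotient.eq_zero_iff_mem.2 (hcomp j)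
    rw [map_mul, map_mul, map_pow, map_pow] at this
    change Ideal.Quotient.mk I (g j) ^ m * Ideal.Quotient.mk I a = 0 at this
    rw [hg] at this
    calc e j * Ideal.Quotient.mk I a = e j ^ (m + 1) * Ideal.Quotient.mk I a := by rw [(he.idem j).pow_succ_eq]
      _ = 0 := by
          rw [pow_succ', mul_assoc]
          exact mul_eq_zero_of_right _ this
  · intro y
    obtain ⟨y, rfl⟩ := Ideal.Quotient.mk_surjective y
    obtain ⟨x, ⟨_, m, rfl⟩, rfl⟩ := IsLocalization.exists_mk'_eq (Submonoid.powers (g : P)) y
    refine ⟨Ideal.Quotient.mk I (∑ i, g i * x i), ?_⟩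
    rw [Ideal.quotientMap_mk]
    refine ((IsLocalization.map_units A' (⟨g ^ m, m, rfl⟩ : Submonoid.powers (g : P))).map
      (Ideal.Quotient.mk (I.map (algebraMap A A')))).mul_left_injective ?_
    simp only
    rw [← map_mul, ← map_mul, IsLocalization.mk'_spec, hA, ← map_mul]
    refine heq _ _ fun j ↦ ?_
    rw [Pi.mul_apply, Pi.pow_apply, map_mul, map_sum, map_pow, hg, Finset.sum_mul, Finset.mul_sum,
      Finset.sum_eq_single j]
    · rw [map_mul, hg]
      calc e j * (e j * Ideal.Quotient.mk I (x j) * e j ^ m)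
          = e j * e j ^ (m + 1) * Ideal.Quotient.mk I (x j) := by rw [pow_succ]; ring
        _ = e j * Ideal.Quotient.mk I (x j) := by rw [(he.idem j).pow_succ_eq, (he.idem j).eq]
    · intro i _ hi
      rw [map_mul, hg, ← mul_assoc, ← mul_assoc, he.ortho (Ne.symm hi), zero_mul, zero_mul]
    · simp
  · intro j
    rw [← hg j, Ideal.quotientMap_mk, hA]
    refine heq _ _ fun i ↦ ?_
    rcases eq_or_ne i j with rfl | hij
    · rw [Pi.single_eq_same, map_one, hg, mul_one, (he.idem i).eq]
    · rw [Pi.single_eq_of_ne hij, map_zero, mul_zero, hg, he.ortho hij]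

end Groth.Agent.S9292
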