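import Groth.Statements.S9293
import Groth.Agent.GeomFieldLib.HomBC
-- import your own Groth.Agent.* helpers here

set_option autoImplicit false
universe u
open CAlg

namespace Groth.Agent.S9293
open TensorProduct

/-- If R → Λ is a regular ring map and R' is an R-algebra of finite type, then R' → R' ⊗_R Λ is again
regular. -/
theorem result (R Λ R' : Type u) [CommRing R] [CommRing Λ] [CommRing R']
    [Algebra R Λ] [Algebra R R'] [Algebra.FiniteType R R'] (h : CAlg.IsRegularHom R Λ) :
    CAlg.IsRegularHom R' (TensorProduct R R' Λ) := by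
  haveI := h.1
  refine ⟨inferInstance, fun p' _ => ?_⟩
  letI := EGA4Lib.residueAlgebra (A := R) p'
  haveI := EGA4Lib.residueAlgebra_isScalarTower (A := R) p'
  obtain ⟨f⟩ := EGA4Lib.nonempty_fiber_baseChange (A := R) (B := Λ) (AlgEquiv.refl (R := R') (A₁ := TensorProduct R R' Λ)) p'
  haveI := (h.2 (p'.comap (algebraMap R R'))).1
  haveI : Algebra.EssFiniteType R p'.ResidueField := Algebra.EssFiniteType.comp R R' p'.ResidueField
  haveI : Algebra.EssFiniteType (p'.comap (algebraMap R R')).ResidueField p'.ResidueField :=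
    Algebra.EssFiniteType.of_comp R _ _
  haveI : IsNoetherianRing (((p'.comap (algebraMap R R')).Fiber Λ) ⊗[(p'.comap (algebraMap R R')).ResidueField] p'.ResidueField) :=
    Algebra.EssFiniteType.isNoetherianRing ((p'.comap (algebraMap R R')).Fiber Λ)
      (((p'.comap (algebraMap R R')).Fiber Λ) ⊗[(p'.comap (algebraMap R R')).ResidueField] p'.ResidueField)
  haveI : IsNoetherianRing (p'.ResidueField ⊗[(p'.comap (algebraMap R R')).ResidueField]
      ((p'.comap (algebraMap R R')).Fiber Λ)) :=
    isNoetherianRing_of_ringEquiv _ (Algebra.TensorProduct.comm (p'.comap (algebraMap R R')).ResidueField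
      ((p'.comap (algebraMap R R')).Fiber Λ) p'.ResidueField).toRingEquiv
  exact ⟨isNoetherianRing_of_ringEquiv _ f.symm.toRingEquiv, EGA4Lib.isGeometricallyRegular_congr p'.ResidueField _ f.symm
    (GeomFieldLib.isGeometricallyRegular_extend (p'.comap (algebraMap R R')).ResidueField p'.ResidueField _ (h.2 _).2)⟩

end Groth.Agent.S9293
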