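import Groth.Statements.S9298
import Groth.Agent.CAlg48.CompletionDescent
import Groth.Agent.Hensel.Completion
-- import your own Groth.Agent.* helpers here

set_option autoImplicit false
universe u
open CAlg

namespace Groth.Agent.S9298

/-- Let A be a Noetherian ring, I an ideal, B a finite type A-algebra and B^ its I-adic completion. Let
π be a surjective ring map from B^ to C, with kernel J, and suppose some power I^c (c ≥ 0) kills the
conormal module J/J^2. Then, compatibly with the maps from A, C is isomorphic to the I-adic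
completion of some finite type A-algebra. -/
theorem result (A : Type u) [CommRing A]
    [IsNoetherianRing A] (I : Ideal A) (B : Type u) [CommRing B] [Algebra A B] [Algebra.FiniteType A B]
    (C : Type u) [CommRing C]
    (π : AdicCompletion (Ideal.map (algebraMap A B) I) B →+* C) (hπ : Function.Surjective π) (c : ℕ)
    (hJ : Ideal.map ((algebraMap B (AdicCompletion (Ideal.map (algebraMap A B) I) B)).comp
        (algebraMap A B)) I ^ c * RingHom.ker π ≤ RingHom.ker π ^ 2) :
    ∃ (D : Type u) (_ : CommRing D) (_ : Algebra A D), Algebra.FiniteType A D ∧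
      ∃ e : C ≃+* AdicCompletion (Ideal.map (algebraMap A D) I) D,
        ∀ a : A, e (π (algebraMap B _ (algebraMap A B a))) =
          algebraMap D _ (algebraMap A D a) := by
  haveI : IsNoetherianRing B := Algebra.FiniteType.isNoetherianRing A B
  let 𝔟 := I.map (algebraMap A B)
  let R := AdicCompletion 𝔟 B
  have hfg : 𝔟.FG := IsNoetherian.noetherian _
  haveI : IsNoetherianRing R :=
    RegLoc.AdicNoeth.isNoetherianRing_adicCompletion 𝔟 hfg
  haveI hcompl : IsAdicComplete (𝔟.map (algebraMap B R)) R := AdicCompletion.isAdicComplete_self _ hfg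
  have hker : ∀ (k : ℕ) (x : R), x ∈ (𝔟 ^ k).map (algebraMap B R) ↔
      AdicCompletion.eval 𝔟 B k x = 0 := fun k x => by
    rw [← Submodule.restrictScalars_mem B, ← Ideal.smul_top_eq_map,
      AdicCompletion.pow_smul_top_eq_ker_eval hfg, LinearMap.mem_ker]
  have hsurj : ∀ (k : ℕ) (r : R), ∃ b, r - algebraMap B R b ∈ (𝔟 ^ k).map (algebraMap B R) := by
    intro k r
    obtain ⟨b, hb⟩ := Submodule.mkQ_surjective _ (r.val k)
    refine ⟨b, ?_⟩
    rw [hker, map_sub, sub_eq_zero]
    exact hb.symm
  have hinj : ∀ (k : ℕ) (b : B),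
      algebraMap B R b ∈ (𝔟 ^ k).map (algebraMap B R) → b ∈ 𝔟 ^ k := by
    intro k b hb
    rw [hker] at hb
    have hb' : (Submodule.mkQ (𝔟 ^ k • ⊤ : Submodule B B)) b = 0 := hb
    rw [Submodule.mkQ_apply, Submodule.Quotient.mk_eq_zero, smul_eq_mul, Ideal.mul_top] at hb'
    exact hb'
  let J := RingHom.ker π
  let G := Submodule.annihilator J
  have hP : ((algebraMap B R).comp (algebraMap A B)) = algebraMap A R :=
    (IsScalarTower.algebraMap_eq A B R).symm
  have hJ' : (𝔟 ^ c).map (algebraMap B R) * J ≤ J ^ 2 := by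
    rw [Ideal.map_pow, Ideal.map_map]
    exact hJ
  obtain ⟨M, hM⟩ := CAlg48.CompletionDescent.pow_le_sup_annihilator J _
    (IsNoetherian.noetherian J) (IsNoetherian.noetherian ((𝔟 ^ c).map (algebraMap B R))) hJ'
  rw [← Ideal.map_pow, ← pow_mul] at hM
  have hK : ∀ x ∈ J ⊓ G, ∀ a ∈ 𝔟 ^ (c * M), algebraMap B R a * x = 0 := by
    intro x hx a ha
    obtain ⟨j, hj, g, hg, hjg⟩ := Submodule.mem_sup.1 (hM (Ideal.mem_map_of_mem _ ha))
    rw [← hjg, add_mul]
    have h1 : x * j = 0 := Submodule.mem_annihilator.1 hx.2 j hj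
    have h2 : g * x = 0 := Submodule.mem_annihilator.1 hg x hx.1
    rw [mul_comm j x, h1, h2, add_zero]
  obtain ⟨D, _, _, hD, ψ, h1, h2⟩ := CAlg48.CompletionDescent.exists_descent 𝔟 hsurj hinj hfg
    (IsAdicComplete.le_jacobson_bot _) J G (c * M) hM hK
  letI : Algebra A D := ((algebraMap B D).comp (algebraMap A B)).toAlgebra
  haveI : IsScalarTower A B D := .of_algebraMap_eq fun _ => rfl
  refine ⟨D, inferInstance, inferInstance, Algebra.FiniteType.trans ‹Algebra.FiniteType A B› hD, ?_⟩
  letI : Algebra D (R ⧸ J) := ψ.toRingHom.toAlgebra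
  haveI : IsScalarTower B D (R ⧸ J) := .of_algebraMap_eq fun b => (ψ.commutes b).symm
  have hm : ∀ n : ℕ, ((I.map (algebraMap A D)) ^ n).map (algebraMap D (R ⧸ J)) =
      (𝔟 ^ n).map (algebraMap B (R ⧸ J)) := fun n => by
    rw [IsScalarTower.algebraMap_eq A B D, ← Ideal.map_map, ← Ideal.map_pow, Ideal.map_map,
      ← IsScalarTower.algebraMap_eq]
  haveI : IsAdicComplete ((I.map (algebraMap A D)).map (algebraMap D (R ⧸ J))) (R ⧸ J) := by
    have h := hm 1
    rw [pow_one, pow_one] at h
    rw [h, IsScalarTower.algebraMap_eq B R (R ⧸ J), ← Ideal.map_map]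
    exact (IsAdicComplete.map_algebraMap_iff _ _).2 (Adic.isAdicComplete_of_finite _)
  obtain ⟨e₀⟩ := Hensel.nonempty_completion_equiv (I.map (algebraMap A D)) (R ⧸ J)
    (fun n x => by rw [hm]; exact h1 n x)
    (fun n d hd => by
      rw [IsScalarTower.algebraMap_eq A B D, ← Ideal.map_map, ← Ideal.map_pow]
      rw [Ideal.mem_comap, hm] at hd
      exact h2 n d hd)
  let η := RingHom.quotientKerEquivOfSurjective hπ
  refine ⟨η.symm.trans e₀.symm.toRingEquiv, fun a => ?_⟩
  have h3 : η.symm (π (algebraMap B R (algebraMap A B a))) =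
      algebraMap D (R ⧸ J) (algebraMap A D a) := by
    rw [RingEquiv.symm_apply_eq]
    show _ = η (ψ (algebraMap B D (algebraMap A B a)))
    rw [ψ.commutes]
    rfl
  rw [RingEquiv.trans_apply, h3]
  exact e₀.symm.commutes _

end Groth.Agent.S9298
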