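import Groth.Statements.S9300
-- import your own Groth.Agent.* helpers here

set_option autoImplicit false
universe u
open CAlg

namespace Groth.Agent.S9300

/-- Let A and B be domains and A → B a ring map for which the generic point of Spec(A) has a unique
preimage in Spec(B). Then every nonzero ideal of B has nonzero preimage in A. -/
theorem result (A B : Type u) [CommRing A] [IsDomain A]
    [CommRing B] [IsDomain B] (φ : A →+* B)
    (h : ∃! q : PrimeSpectrum B, Ideal.comap φ q.asIdeal = ⊥) (J : Ideal B) (hJ : J ≠ ⊥) :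
    Ideal.comap φ J ≠ ⊥ := by
  obtain ⟨q, hq, huniq⟩ := h
  have hker : ∀ a : A, φ a = 0 → a = 0 := fun a ha => by
    have : a ∈ Ideal.comap φ q.asIdeal := by simp [ha]
    simpa [hq] using this
  have hbot : q = ⟨⊥, Ideal.isPrime_bot⟩ := (huniq _ (by
    ext a; simpa using ⟨hker a, fun h => by simp [h]⟩)).symm
  intro hcomap
  obtain ⟨P, hP, hJP, hd⟩ := Ideal.exists_le_prime_disjoint J
    ((nonZeroDivisors A).map φ) (Set.disjoint_left.mpr fun x hx ⟨a, ha, hax⟩ => by
      have : a ∈ Ideal.comap φ J := by simpa [hax] using hx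
      rw [hcomap] at this
      exact nonZeroDivisors.ne_zero ha (by simpa using this))
  have hPc : Ideal.comap φ P = ⊥ := by
    rw [eq_bot_iff]
    intro a ha
    by_contra h0
    exact Set.disjoint_left.mp hd (show φ a ∈ P from ha)
      ⟨a, mem_nonZeroDivisors_of_ne_zero (by simpa using h0), rfl⟩
  have hP0 : P = ⊥ := congrArg PrimeSpectrum.asIdeal ((huniq ⟨P, hP⟩ hPc).trans hbot)
  exact hJ (eq_bot_iff.mpr (hP0 ▸ hJP))

end Groth.Agent.S9300
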