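import Groth.Statements.S9301
-- import your own Groth.Agent.* helpers here

set_option autoImplicit false
universe u
open CAlg

namespace Groth.Agent.S9301

/-- Let A and B be domains and A → B a flat ring map which is the localization of a quasi-finite ring
map A → B₀ (of finite type with finite fibres). Then every nonzero ideal of B has nonzero preimage
in A. -/
theorem result (A B₀ B : Type u) [CommRing A] [IsDomain A]
    [CommRing B₀] [CommRing B] [IsDomain B] [Algebra A B₀] [Algebra.FiniteType A B₀]
    [Algebra.QuasiFinite A B₀] (S : Submonoid B₀) [Algebra B₀ B] [IsLocalization S B] [Algebra A B]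
    [IsScalarTower A B₀ B] [Module.Flat A B] (J : Ideal B) (hJ : J ≠ ⊥) :
    Ideal.comap (algebraMap A B) J ≠ ⊥ := by
  have : Algebra.QuasiFinite A B := by
    exact Algebra.QuasiFinite.of_isLocalization S
  have hinj : Function.Injective (algebraMap A B) := by
    rw [injective_iff_map_eq_zero]
    intro a ha
    by_contra h0
    have h := Module.Flat.lTensor_preserves_injective_linearMap (M := B)
      (LinearMap.lsmul A A a) (fun x y hxy => mul_left_cancel₀ h0 hxy)
    have : (1 : B) ⊗ₜ[A] (1 : A) = 0 := h (by
      simp only [LinearMap.lTensor_tmul, LinearMap.lsmul_apply, TensorProduct.tmul_smul,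
        map_zero, TensorProduct.smul_tmul']
      simp [Algebra.smul_def, ha])
    exact one_ne_zero (α := B) (by simpa using congrArg (TensorProduct.rid A B) this)
  intro hcomap
  obtain ⟨P, hP, hJP, hd⟩ := Ideal.exists_le_prime_disjoint J
    ((nonZeroDivisors A).map (algebraMap A B)) (Set.disjoint_left.mpr fun x hx ⟨a, ha, hax⟩ => by
      have : a ∈ Ideal.comap (algebraMap A B) J := by simpa [hax] using hx
      rw [hcomap] at this
      exact nonZeroDivisors.ne_zero ha (by simpa using this))
  have hPc : Ideal.comap (algebraMap A B) P = ⊥ := by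
    rw [eq_bot_iff]
    intro a ha
    by_contra h0
    exact Set.disjoint_left.mp hd (show algebraMap A B a ∈ P from ha)
      ⟨a, mem_nonZeroDivisors_of_ne_zero (by simpa using h0), rfl⟩
  have hP0 : ⊥ = P := Algebra.QuasiFinite.eq_of_le_of_under_eq (R := A) ⊥ P bot_le (by
    rw [Ideal.under_def, Ideal.under_def, hPc, eq_bot_iff]
    intro a ha
    exact hinj (by simpa using ha))
  exact hJ (eq_bot_iff.mpr (hP0 ▸ hJP))

end Groth.Agent.S9301
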