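import Groth.Statements.S9302
import Groth.Agent.EtAlgPair.Basic

set_option autoImplicit false
universe u
open CategoryTheory
open EtAlg

namespace Groth.Agent.S9302

/-- Henselian pairs are preserved under limits: for an inverse system (A_j, I_j) of henselian pairs over
a preordered set J, the limit A = lim A_j with the ideal I = lim I_j (elements all of whose
projections lie in the I_j) is a henselian pair. -/
theorem result (J : Type u) [Preorder J] (F : J ⥤ CommRingCat.{u})
    (I : ∀ j : J, Ideal (F.obj j))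
    (hI : ∀ (i j : J) (φ : i ⟶ j), Ideal.map (F.map φ).hom (I i) ≤ I j)
    (h : ∀ j : J, HenselianRing (F.obj j) (I j)) :
    HenselianRing ((Limits.limit F : CommRingCat.{u}) : Type u)
      (⨅ j : J, Ideal.comap (Limits.limit.π F j).hom (I j)) := by
  obtain ⟨hlim⟩ : Nonempty (Limits.IsLimit ((forget CommRingCat.{u}).mapCone (Limits.limit.cone F))) :=
    ⟨Limits.isLimitOfPreserves _ (Limits.limit.isLimit F)⟩
  have key := (Limits.Types.isLimit_iff _).mp ⟨hlim⟩
  let π : ∀ j, (Limits.limit F : CommRingCat.{u}) →+* F.obj j := fun j => (Limits.limit.π F j).hom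
  have hext : ∀ x y : (Limits.limit F : CommRingCat.{u}), (∀ j, π j x = π j y) → x = y :=
    fun x y h => Limits.Concrete.limit_ext F x y h
  have hw : ∀ {i j : J} (φ : i ⟶ j) (x : (Limits.limit F : CommRingCat.{u})),
      (F.map φ).hom (π i x) = π j x := fun φ x => by
    simp only [π, ← CommRingCat.comp_apply, Limits.limit.w]
  have hex : ∀ s : ∀ j, F.obj j, (∀ {i j : J} (φ : i ⟶ j), (F.map φ).hom (s i) = s j) →
      ∃ x : (Limits.limit F : CommRingCat.{u}), ∀ j, π j x = s j := by
    intro s hs
    obtain ⟨x, hx, -⟩ := key s (fun {i j} φ => hs φ)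
    exact ⟨x, hx⟩
  have hmem : ∀ x : (Limits.limit F : CommRingCat.{u}),
      x ∈ ⨅ j : J, Ideal.comap (Limits.limit.π F j).hom (I j) ↔ ∀ j, π j x ∈ I j := fun x => by
    simp [π]
  constructor
  · refine Groth.Agent.EtAlgPair.le_jacobson_bot_of_forall fun x hx => ?_
    have hu : ∀ j, IsUnit (π j (1 + x)) := fun j => by
      rw [map_add, map_one]
      exact Groth.Agent.EtAlgPair.isUnit_one_add (h j).jac ((hmem x).mp hx j)
    obtain ⟨y, hy⟩ := hex (fun j => ((hu j).unit⁻¹ : (F.obj j)ˣ)) (fun {i j} φ => by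
      have h1 : (F.map φ).hom (((hu i).unit⁻¹ : (F.obj i)ˣ) : F.obj i) * π j (1 + x) = 1 := by
        rw [← hw φ, ← map_mul, IsUnit.val_inv_mul, map_one]
      exact (hu j).mul_right_cancel (h1.trans (hu j).val_inv_mul.symm))
    exact .of_mul_eq_one y (hext _ _ fun j => by rw [map_mul, hy, map_one, IsUnit.mul_val_inv])
  · intro f hf a₀ ha₀ hd
    have hd' : ∀ j, IsUnit (Ideal.Quotient.mk (I j) ((f.map (π j)).derivative.eval (π j a₀))) := by
      intro j
      rw [Polynomial.derivative_map, Polynomial.eval_map_apply]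
      have := hd.map (Ideal.quotientMap (I j) (π j) (iInf_le _ j))
      rwa [Ideal.quotientMap_mk] at this
    have hroot : ∀ j, ∃ a : F.obj j, (f.map (π j)).eval a = 0 ∧ a - π j a₀ ∈ I j := by
      intro j
      refine (h j).is_henselian _ (hf.map _) _ ?_ (hd' j)
      rw [Polynomial.eval_map_apply]
      exact (hmem _).mp ha₀ j
    choose a ha ha' using hroot
    have hdu : ∀ j, IsUnit (Ideal.Quotient.mk (I j) ((f.map (π j)).derivative.eval (a j))) := by
      intro j
      have heq : Ideal.Quotient.mk (I j) ((f.map (π j)).derivative.eval (a j)) =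
          Ideal.Quotient.mk (I j) ((f.map (π j)).derivative.eval (π j a₀)) := by
        rw [Ideal.Quotient.eq]
        exact Ideal.mem_of_dvd _ (Polynomial.sub_dvd_eval_sub _ _ _) (ha' j)
      rw [heq]; exact hd' j
    obtain ⟨x, hx⟩ := hex a (fun {i j} φ => by
      refine (Groth.Agent.EtAlgPair.simpleRoot_unique (h j).jac (f.map (π j)) (ha j) ?_ ?_ (hdu j)).symm
      · have hc : (F.map φ).hom.comp (π i) = π j := RingHom.ext (hw φ)
        rw [← hc, ← Polynomial.map_map, Polynomial.eval_map_apply, ha, map_zero]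
      · have h1 : (F.map φ).hom (a i) - π j a₀ ∈ I j := by
          rw [← hw φ a₀, ← map_sub]
          exact hI i j φ (Ideal.mem_map_of_mem _ (ha' i))
        simpa using sub_mem h1 (ha' j))
    refine ⟨x, hext _ _ fun j => ?_, (hmem _).mpr fun j => ?_⟩
    · rw [map_zero, ← Polynomial.eval_map_apply, hx]; exact ha j
    · rw [map_sub, hx]; exact ha' j

end Groth.Agent.S9302
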