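import Groth.Statements.S9303
import Mathlib.Tactic.LinearCombination
import Mathlib.Tactic.Ring
-- import your own Groth.Agent.* helpers here

set_option autoImplicit false
universe u
open CAlg

namespace Groth.Agent.S9303

lemma key (A : Type u) [CommRing A] (C : Type u) [CommRing C] [Algebra A C] (f : A)
    (e : Localization.Away f) (he : IsIdempotentElem e)
    [IsLocalization.Away e (Localization (Algebra.algebraMapSubmonoid C (Submonoid.powers f)))] :
    ∃ (n₀ : A) (k : ℕ), algebraMap A C n₀ = 0 ∧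
      (∀ n, algebraMap A C n = 0 → ∃ m, f ^ m * (n₀ * n - f ^ k * n) = 0) ∧
      ∀ c : C, ∃ (b : A) (j : ℕ), algebraMap A C b = algebraMap A C (f ^ j) * c := by
  let Af := Localization.Away f
  let Cf := Localization (Algebra.algebraMapSubmonoid C (Submonoid.powers f))
  have hcomm : ∀ a : A, algebraMap Af Cf (algebraMap A Af a) = algebraMap C Cf (algebraMap A C a) :=
    fun a => by rw [← IsScalarTower.algebraMap_apply A Af Cf, IsScalarTower.algebraMap_apply A C Cf]
  have hzero : ∀ c : C, algebraMap C Cf c = 0 → ∃ m, algebraMap A C (f ^ m) * c = 0 := fun c hc => by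
    obtain ⟨⟨_, _, ⟨m, rfl⟩, rfl⟩, hm⟩ :=
      (IsLocalization.map_eq_zero_iff (Algebra.algebraMapSubmonoid C (Submonoid.powers f)) Cf c).mp hc
    exact ⟨m, hm⟩
  have hone : algebraMap Af Cf e = 1 := by
    have h := IsLocalization.Away.algebraMap_isUnit (S := Cf) e
    refine h.mul_left_cancel ?_
    rw [mul_one, ← map_mul, he.eq]
  have hsurj : Function.Surjective (algebraMap Af Cf) := fun y => by
    obtain ⟨j, a, ha⟩ := IsLocalization.Away.surj e y
    refine ⟨a, ?_⟩
    rw [← ha, hone, one_pow, mul_one]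
  have hker : ∀ x, algebraMap Af Cf x = 0 → x = x * (1 - e) := fun x hx => by
    obtain ⟨⟨_, j, rfl⟩, hj⟩ := (IsLocalization.map_eq_zero_iff (Submonoid.powers e) Cf x).mp hx
    change e ^ j * x = 0 at hj
    rcases j with _ | j
    · simp only [pow_zero, one_mul] at hj
      simp [hj]
    · rw [he.pow_succ_eq] at hj
      linear_combination hj
  obtain ⟨k₁, a, ha⟩ := IsLocalization.Away.surj f (1 - e)
  have : algebraMap C Cf (algebraMap A C a) = 0 := by
    rw [← hcomm, ← ha, map_mul, map_sub, map_one, hone, sub_self, zero_mul]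
  obtain ⟨s, hs⟩ := hzero _ this
  refine ⟨f ^ s * a, s + k₁, by rw [map_mul]; exact hs, fun n hn => ?_, fun c => ?_⟩
  · have h1 := hker (algebraMap A Af n) (by rw [hcomm, hn, map_zero])
    have h2 : algebraMap A Af (f ^ s * a * n - f ^ (s + k₁) * n) = 0 := by
      simp only [map_sub, map_mul, map_pow]
      linear_combination (-(algebraMap A Af f) ^ (s + k₁)) * h1 -
        (algebraMap A Af f) ^ s * algebraMap A Af n * ha
    obtain ⟨⟨_, m, rfl⟩, hm⟩ := (IsLocalization.map_eq_zero_iff (Submonoid.powers f) Af _).mp h2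
    exact ⟨m, hm⟩
  · obtain ⟨x, hx⟩ := hsurj (algebraMap C Cf c)
    obtain ⟨j, b, hb⟩ := IsLocalization.Away.surj f x
    have : algebraMap C Cf (algebraMap A C b - algebraMap A C (f ^ j) * c) = 0 := by
      rw [map_sub, map_mul, ← hcomm, ← hb, map_mul, hx, ← map_pow (algebraMap A Af) f j, hcomm]
      ring
    obtain ⟨m, hm⟩ := hzero _ this
    refine ⟨f ^ m * b, m + j, ?_⟩
    rw [pow_add, map_mul, map_mul, mul_assoc]
    exact sub_eq_zero.mp (by rw [← mul_sub]; exact hm)

/-- Let A be a ring, I a finitely generated ideal and A → C a ring map such that for every f ∈ I the map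
A_f → C_f is the localization of A_f at an idempotent. Then there is a surjection A → C' (C' = A/K
for an ideal K) such that A_f → (C × C')_f is an isomorphism for every f ∈ I. -/
theorem result (A : Type u) [CommRing A]
    (I : Ideal A) (hI : I.FG) (C : Type u) [CommRing C] [Algebra A C]
    (h : ∀ f ∈ I, ∃ e : Localization.Away f, IsIdempotentElem e ∧
      IsLocalization.Away e (Localization (Algebra.algebraMapSubmonoid C (Submonoid.powers f)))) :
    ∃ K : Ideal A, ∀ f ∈ I, Function.Bijective
      (algebraMap (Localization.Away f)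
        (Localization (Algebra.algebraMapSubmonoid (C × (A ⧸ K)) (Submonoid.powers f)))) := by
  classical
  obtain ⟨G, hG⟩ := hI
  let K : Ideal A :=
    { carrier := {a | ∀ n, algebraMap A C n = 0 → ∀ g ∈ G, ∃ m, g ^ m * (a * n) = 0}
      zero_mem' := fun n _ g _ => ⟨0, by simp⟩
      add_mem' := fun {a b} ha hb n hn g hg => by
        obtain ⟨m, hm⟩ := ha n hn g hg
        obtain ⟨l, hl⟩ := hb n hn g hg
        exact ⟨m + l, by linear_combination g ^ l * hm + g ^ m * hl⟩
      smul_mem' := fun c a ha n hn g hg => by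
        obtain ⟨m, hm⟩ := ha n hn g hg
        exact ⟨m, by rw [smul_eq_mul]; linear_combination c * hm⟩ }
  refine ⟨K, fun f hf => ?_⟩
  have hK : ∀ a ∈ K, ∀ n, algebraMap A C n = 0 → ∃ m, f ^ m * (a * n) = 0 := fun a ha n hn => by
    choose! m hm using ha n hn
    have hJ : (Submodule.span A (G : Set A)) ≤ (Submodule.span A {a * n}).annihilator.radical :=
      Submodule.span_le.mpr fun g hg => ⟨m g, (Submodule.mem_annihilator_span_singleton _ _).mpr
        (hm g hg)⟩
    obtain ⟨M, hM⟩ := hJ (hG.ge hf)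
    exact ⟨M, (Submodule.mem_annihilator_span_singleton _ _).mp hM⟩
  obtain ⟨e, he, hloc⟩ := h f hf
  obtain ⟨n₀, k, hn₀, hidem, hsurj⟩ := key A C f e he
  have hgen : ∀ g ∈ G, ∃ (n₁ : A) (k₁ t : ℕ), f ^ t * ((f ^ k - n₀) * n₁) = 0 ∧
      ∀ n, algebraMap A C n = 0 → ∃ m, g ^ m * (n₁ * n - g ^ k₁ * n) = 0 := fun g hg => by
    obtain ⟨e', he', hloc'⟩ := h g (hG.le (Ideal.subset_span hg))
    obtain ⟨n₁, k₁, hn₁, hidem', -⟩ := key A C g e' he'
    obtain ⟨m, hm⟩ := hidem n₁ hn₁
    exact ⟨n₁, k₁, m, by linear_combination -hm, hidem'⟩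
  choose! n₁ k₁ t ht hidem' using hgen
  let T := G.sup t
  let u := f ^ T * (f ^ k - n₀)
  have hu : u ∈ K := fun n hn g hg => by
    obtain ⟨m, hm⟩ := hidem' g hg n hn
    refine ⟨m + k₁ g, ?_⟩
    have h0 : f ^ T * ((f ^ k - n₀) * n₁ g) = 0 := by
      obtain ⟨d, hd⟩ := Nat.exists_eq_add_of_le (Finset.le_sup (f := t) hg)
      rw [show T = t g + d from hd, pow_add]
      linear_combination f ^ d * ht g hg
    simp only [u]
    linear_combination (-(f ^ T * (f ^ k - n₀))) * hm + g ^ m * n * h0
  have huC : algebraMap A C u = algebraMap A C (f ^ (T + k)) := by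
    simp [u, hn₀, pow_add]
  let P := C × (A ⧸ K)
  let Pf := Localization (Algebra.algebraMapSubmonoid P (Submonoid.powers f))
  let Af := Localization.Away f
  have hcomm : ∀ a : A, algebraMap Af Pf (algebraMap A Af a) = algebraMap P Pf (algebraMap A P a) :=
    fun a => by rw [← IsScalarTower.algebraMap_apply A Af Pf, IsScalarTower.algebraMap_apply A P Pf]
  refine ⟨(injective_iff_map_eq_zero _).mpr fun x hx => ?_, fun z => ?_⟩
  · obtain ⟨j, b, hb⟩ := IsLocalization.Away.surj f x
    have h0 : algebraMap P Pf (algebraMap A P b) = 0 := by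
      rw [← hcomm, ← hb, map_mul, hx, zero_mul]
    obtain ⟨⟨_, _, ⟨M, rfl⟩, rfl⟩, hM⟩ :=
      (IsLocalization.map_eq_zero_iff (Algebra.algebraMapSubmonoid P (Submonoid.powers f)) Pf _).mp h0
    have hM' : algebraMap A P (f ^ M * b) = 0 := by rw [map_mul]; exact hM
    have hN : algebraMap A C (f ^ M * b) = 0 := congrArg Prod.fst hM'
    have hbK : f ^ M * b ∈ K := Ideal.Quotient.eq_zero_iff_mem.mp (congrArg Prod.snd hM')
    obtain ⟨m, hm⟩ := hK _ hbK n₀ hn₀
    obtain ⟨l, hl⟩ := hidem _ hN
    have hb0 : algebraMap A Af b = 0 :=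
      (IsLocalization.map_eq_zero_iff (Submonoid.powers f) Af b).mpr ⟨⟨f ^ (m + l + k + M), ⟨_, rfl⟩⟩, by
        change f ^ (m + l + k + M) * b = 0
        linear_combination f ^ l * hm - f ^ m * hl⟩
    rw [hb0] at hb
    exact ((IsLocalization.Away.algebraMap_isUnit f).pow j).mul_left_eq_zero.mp hb
  · obtain ⟨⟨⟨c, q⟩, ⟨_, _, ⟨i, rfl⟩, rfl⟩⟩, hw⟩ :=
      IsLocalization.surj (Algebra.algebraMapSubmonoid P (Submonoid.powers f)) z
    obtain ⟨a, rfl⟩ := Ideal.Quotient.mk_surjective q
    obtain ⟨b₁, j, hb₁⟩ := hsurj c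
    let b := u * b₁ + (f ^ (T + k) - u) * (f ^ j * a)
    have hb : algebraMap A P b = algebraMap A P (f ^ (T + k + j)) * (c, Ideal.Quotient.mk K a) := by
      refine Prod.ext ?_ ?_
      · change algebraMap A C b = algebraMap A C _ * c
        simp only [b, map_add, map_mul, map_sub, huC, hb₁, map_pow]
        ring
      · change Ideal.Quotient.mk K b = Ideal.Quotient.mk K _ * Ideal.Quotient.mk K a
        simp only [b, map_add, map_mul, map_sub, map_pow, Ideal.Quotient.eq_zero_iff_mem.mpr hu]
        ring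
    let v : Af := IsLocalization.mk' Af b (⟨f ^ (i + (T + k + j)), pow_mem (Submonoid.mem_powers f) _⟩ : Submonoid.powers f)
    refine ⟨v, ?_⟩
    have hv : v * algebraMap A Af (f ^ (i + (T + k + j))) = algebraMap A Af b :=
      IsLocalization.mk'_spec Af b _
    have hunit : IsUnit (algebraMap Af Pf (algebraMap A Af (f ^ (i + (T + k + j))))) := by
      rw [map_pow]
      exact ((IsLocalization.Away.algebraMap_isUnit f).pow _).map _
    apply hunit.mul_right_cancel
    change algebraMap Af Pf v * _ = z * _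
    rw [← map_mul, hv, hcomm, hb, hcomm, pow_add f i, map_mul (algebraMap A P), map_mul, map_mul,
      ← mul_assoc z]
    rw [show z * algebraMap P Pf (algebraMap A P (f ^ i)) = algebraMap P Pf (c, Ideal.Quotient.mk K a)
      from hw]
    ring

end Groth.Agent.S9303
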