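import Groth.Statements.S9304
import Groth.Agent.Hens.CompletionBranch
-- import your own Groth.Agent.* helpers here

set_option autoImplicit false
universe u
open CAlg

namespace Groth.Agent.S9304

open TensorProduct in
/-- Let A be a local ring with finitely many minimal primes, A' the integral closure of A_red in its
total ring of fractions and A^sh a strict henselization of A. Then contraction along A^sh → A' ⊗_A
A^sh is a bijection from the minimal primes of A' ⊗_A A^sh onto the minimal primes of A^sh. -/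
theorem result {A Ash : Type u} [CommRing A]
    [IsLocalRing A] (hfin : (minimalPrimes A).Finite) [CommRing Ash] [IsLocalRing Ash] [Algebra A Ash]
    [IsLocalHom (algebraMap A Ash)] [Hensel.IsStrictHenselization A Ash] :
    Set.BijOn (fun P : Ideal ((CAlg2.normRed A) ⊗[A] Ash) =>
        P.comap (Algebra.TensorProduct.includeRight.toRingHom :
          Ash →+* (CAlg2.normRed A) ⊗[A] Ash))
      (minimalPrimes ((CAlg2.normRed A) ⊗[A] Ash))
      (minimalPrimes Ash) := by
  haveI := (Groth.Agent.Hensel.isEtLike_of_isStrictHenselization A Ash).flat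
  obtain ⟨e₁, he₁⟩ := Groth.Agent.Hens.exists_minimalPrimes_surjective_equiv
    (Algebra.TensorProduct.includeRight : Ash →ₐ[A] CAlg2.red A ⊗[A] Ash).toRingHom (fun z => by
      induction z with
      | zero => exact ⟨0, map_zero _⟩
      | add x y hx hy =>
        obtain ⟨a, ha⟩ := hx
        obtain ⟨b, hb⟩ := hy
        exact ⟨a + b, by rw [map_add, ha, hb]⟩
      | tmul r t =>
        obtain ⟨a, rfl⟩ := Ideal.Quotient.mk_surjective r
        refine ⟨a • t, ?_⟩
        show (1 : CAlg2.red A) ⊗ₜ[A] (a • t) = _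
        rw [← TensorProduct.smul_tmul]
        congr 1
        exact (Algebra.algebraMap_eq_smul_one a).symm) (fun t ht => by
      let ρ : CAlg2.red A ⊗[A] Ash →ₐ[A] Ash ⧸ nilradical Ash :=
        Algebra.TensorProduct.lift
          (Ideal.Quotient.liftₐ (nilradical A) (Algebra.ofId A (Ash ⧸ nilradical Ash)) fun a ha => by
            show Ideal.Quotient.mk (nilradical Ash) (algebraMap A Ash a) = 0
            exact Ideal.Quotient.eq_zero_iff_mem.2
              (mem_nilradical.2 ((mem_nilradical.1 ha).map (algebraMap A Ash))))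
          (Ideal.Quotient.mkₐ A (nilradical Ash)) fun _ _ => Commute.all _ _
      rw [← Ideal.Quotient.eq_zero_iff_mem]
      have h0 := congrArg ρ (show (1 : CAlg2.red A) ⊗ₜ[A] t = 0 from ht)
      rw [Algebra.TensorProduct.lift_tmul, map_one, one_mul, map_zero] at h0
      exact h0)
  let K := FractionRing (CAlg2.red A)
  obtain ⟨e₂, he₂⟩ := Groth.Agent.Hens.exists_minimalPrimes_tensor_equiv (A := A) (S := Ash) (B := CAlg2.red A) (K := K)
    (nonZeroDivisors (CAlg2.red A)) (IsFractionRing.injective _ _)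
  haveI : IsLocalization ((nonZeroDivisors (CAlg2.red A)).map (algebraMap (CAlg2.red A) (CAlg2.normRed A))) K := by
    refine (isLocalization_iff _ _).mpr ⟨?_, ?_, ?_⟩
    · rintro ⟨_, r, hr, rfl⟩
      rw [← IsScalarTower.algebraMap_apply]
      exact IsLocalization.map_units K (⟨r, hr⟩ : nonZeroDivisors (CAlg2.red A))
    · intro z
      obtain ⟨⟨a, r⟩, har⟩ := IsLocalization.surj (nonZeroDivisors (CAlg2.red A)) z
      refine ⟨(algebraMap _ _ a, ⟨_, Submonoid.mem_map_of_mem _ r.2⟩), ?_⟩
      rw [← IsScalarTower.algebraMap_apply, ← IsScalarTower.algebraMap_apply]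
      exact har
    · intro x y hxy
      exact ⟨1, by rw [Subtype.ext hxy]⟩
  obtain ⟨e₃, he₃⟩ := Groth.Agent.Hens.exists_minimalPrimes_tensor_equiv (A := A) (S := Ash) (B := CAlg2.normRed A) (K := K)
    ((nonZeroDivisors (CAlg2.red A)).map (algebraMap (CAlg2.red A) (CAlg2.normRed A)))
    Subtype.val_injective
  let E : minimalPrimes ((CAlg2.normRed A) ⊗[A] Ash) ≃ minimalPrimes Ash := e₃.symm.trans (e₂.trans e₁)
  have hE : ∀ P : minimalPrimes ((CAlg2.normRed A) ⊗[A] Ash), (E P).1 =
      P.1.comap (Algebra.TensorProduct.includeRight.toRingHom : Ash →+* (CAlg2.normRed A) ⊗[A] Ash) := by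
    intro P
    obtain ⟨R, rfl⟩ := e₃.surjective P
    show (e₁ (e₂ (e₃.symm (e₃ R)))).1 = _
    rw [e₃.symm_apply_apply, he₁, he₂, he₃]
    ext s
    simp [Ideal.mem_comap]
  refine ⟨fun P hP => ?_, fun P hP P' hP' h => ?_, fun Q hQ => ?_⟩
  · have h := (E ⟨P, hP⟩).2
    rw [hE ⟨P, hP⟩] at h
    exact h
  · exact congrArg Subtype.val (E.injective (Subtype.ext ((hE ⟨P, hP⟩).trans (h.trans (hE ⟨P', hP'⟩).symm))))
  · exact ⟨(E.symm ⟨Q, hQ⟩).1, (E.symm ⟨Q, hQ⟩).2, (hE _).symm.trans (by rw [E.apply_symm_apply])⟩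

end Groth.Agent.S9304
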