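import Groth.Statements.S9305
import Groth.Agent.Hens.BranchCore
import Groth.Agent.S9238

set_option autoImplicit false
set_option synthInstance.maxHeartbeats 100000
set_option maxHeartbeats 1000000
universe u
open CAlg

namespace Groth.Agent.S9305

open TensorProduct in
/-- Let A be a local ring with finitely many minimal primes, A' the integral closure of A_red in its
total ring of fractions and A^sh a strict henselization of A. In the ring A' ⊗_A A^sh, each minimal
prime lies in exactly one maximal ideal and each maximal ideal contains exactly one minimal prime. -/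
theorem result {A Ash : Type u} [CommRing A]
    [IsLocalRing A] (hfin : (minimalPrimes A).Finite) [CommRing Ash] [IsLocalRing Ash] [Algebra A Ash]
    [IsLocalHom (algebraMap A Ash)] [Hensel.IsStrictHenselization A Ash] :
    (∀ q ∈ minimalPrimes ((CAlg2.normRed A) ⊗[A] Ash),
        ∃! m : Ideal ((CAlg2.normRed A) ⊗[A] Ash), m.IsMaximal ∧ q ≤ m) ∧
      (∀ m : Ideal ((CAlg2.normRed A) ⊗[A] Ash), m.IsMaximal →
        ∃! q : Ideal ((CAlg2.normRed A) ⊗[A] Ash), q ∈ minimalPrimes ((CAlg2.normRed A) ⊗[A] Ash) ∧ q ≤ m) := by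
  haveI : HenselianLocalRing Ash := Hensel.IsStrictHenselization.henselian (R := A)
  have h := Groth.Agent.Hensel.isEtLike_of_isStrictHenselization A Ash
  haveI := h.flat
  haveI : _root_.IsReduced (CAlg2.red A) :=
    (Ideal.isRadical_iff_quotient_reduced _).1 (Ideal.radical_isRadical _)
  haveI : Finite ↥(minimalPrimes (CAlg2.red A)) := by
    obtain ⟨e, -⟩ := Groth.Agent.Hens.exists_minimalPrimes_surjective_equiv
      (Ideal.Quotient.mk (nilradical A)) Ideal.Quotient.mk_surjective Ideal.mk_ker.le
    haveI := hfin.to_subtype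
    exact Finite.of_equiv _ e.symm
  haveI : Algebra.IsIntegral A (CAlg2.normRed A) := by
    haveI : Algebra.IsIntegral A (CAlg2.red A) := Algebra.IsIntegral.of_finite A _
    exact Algebra.IsIntegral.trans (CAlg2.red A)
  let T := (CAlg2.normRed A) ⊗[A] Ash
  letI : Algebra Ash T := Algebra.TensorProduct.rightAlgebra
  haveI : Algebra.IsIntegral Ash T :=
    Groth.Agent.Hens.isIntegral_rightAlgebra (A := A) (S := Ash) (N := CAlg2.normRed A)
  have hdom : ∀ M : MaximalSpectrum T, IsDomain (Localization.AtPrime M.asIdeal) := fun M => by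
    haveI := M.isMaximal
    haveI := Groth.Agent.Hens.isMaximal_comap_tensor (S := Ash) M.asIdeal
    exact (Groth.Agent.Hens.isDomain_localization_tensor h M.asIdeal
      (Groth.Agent.RedNorm.isDomain_isIntegrallyClosed_localization (CAlg2.red A) _)).1
  obtain ⟨e, he⟩ := Groth.Agent.Hens.exists_minimalPrimes_maximalSpectrum_equiv Ash T hdom
  have key : ∀ (M : MaximalSpectrum T) (P Q : Ideal T), P ∈ minimalPrimes T → Q ∈ minimalPrimes T →
      P ≤ M.asIdeal → Q ≤ M.asIdeal → P = Q := by
    intro M P Q hP hQ hPM hQM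
    haveI := hdom M
    haveI := M.isMaximal
    suffices ∀ P ∈ minimalPrimes T, P ≤ M.asIdeal →
        P = (⊥ : Ideal (Localization.AtPrime M.asIdeal)).comap (algebraMap T _) from
      (this P hP hPM).trans (this Q hQ hQM).symm
    intro P hP hPM
    haveI := hP.1.1
    have hd : Disjoint (M.asIdeal.primeCompl : Set T) (P : Set T) :=
      Set.disjoint_left.2 fun x hx hxQ => hx (hPM hxQ)
    have hle : (⊥ : Ideal (Localization.AtPrime M.asIdeal)).comap (algebraMap T _) ≤ P :=
      (Ideal.comap_mono (bot_le : ⊥ ≤ P.map (algebraMap T (Localization.AtPrime M.asIdeal)))).trans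
        (IsLocalization.comap_map_of_isPrime_disjoint M.asIdeal.primeCompl
          (Localization.AtPrime M.asIdeal) hP.1.1 hd).le
    exact le_antisymm (hP.2 ⟨Ideal.comap_isPrime _ _, bot_le⟩ hle) hle
  refine ⟨fun q hq => ⟨(e ⟨q, hq⟩).asIdeal, ⟨(e ⟨q, hq⟩).isMaximal, he ⟨q, hq⟩⟩, ?_⟩, fun m hm => ?_⟩
  · rintro m ⟨hm, hqm⟩
    let M : MaximalSpectrum T := ⟨m, hm⟩
    have h1 : (e.symm M).1 = q := key M _ _ (e.symm M).2 hq
      (by have := he (e.symm M); rwa [e.apply_symm_apply] at this) hqm
    have h2 : e ⟨q, hq⟩ = M := by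
      rw [show (⟨q, hq⟩ : minimalPrimes T) = e.symm M from Subtype.ext h1.symm, e.apply_symm_apply]
    exact congrArg MaximalSpectrum.asIdeal h2.symm
  · let M : MaximalSpectrum T := ⟨m, hm⟩
    have hle : (e.symm M).1 ≤ m := by have := he (e.symm M); rwa [e.apply_symm_apply] at this
    exact ⟨(e.symm M).1, ⟨(e.symm M).2, hle⟩, fun q hq => key M _ _ hq.1 (e.symm M).2 hq.2 hle⟩

end Groth.Agent.S9305
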