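import Groth.Statements.S9307
import Mathlib
import Groth.Agent.EtRamLib.WildFixField

set_option autoImplicit false
universe u
open EtRam

namespace Groth.Agent.S9307

open TensorProduct in
/-- Let A → B be an injective local homomorphism of discrete valuation rings with fraction fields K ⊆ L,
and let K' be a finite separable extension of K that is tamely ramified relative to A. Then every
field F onto which K' ⊗_K L surjects is, as an extension of L, tamely ramified relative to B. (The
published statement also records that K' ⊗_K L is a finite product of fields, whose factors are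
these F; this row does not state that part.) -/
theorem result (A B K L K' : Type u) [CommRing A] [IsDomain A]
    [IsDiscreteValuationRing A] [CommRing B] [IsDomain B] [IsDiscreteValuationRing B] [Algebra A B]
    [IsLocalHom (algebraMap A B)] (hinj : Function.Injective (algebraMap A B))
    [Field K] [Field L] [Field K'] [Algebra A K] [IsFractionRing A K] [Algebra B L] [IsFractionRing B L]
    [Algebra K L] [Algebra A L] [IsScalarTower A K L] [IsScalarTower A B L]
    [Algebra K K'] [FiniteDimensional K K'] [Algebra.IsSeparable K K']
    (h : EtRam.IsTamelyRamified A ((algebraMap K K').comp (algebraMap A K)))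
    (F : Type u) [Field F] [Algebra (K' ⊗[K] L) F] (hF : Function.Surjective (algebraMap (K' ⊗[K] L) F)) :
    EtRam.IsTamelyRamified B ((algebraMap (K' ⊗[K] L) F).comp
      ((Algebra.TensorProduct.includeRight : L →ₐ[K] K' ⊗[K] L).toRingHom.comp (algebraMap B L))) := by
  classical
  let ρ := algebraMap (K' ⊗[K] L) F
  let jL : L →+* F := ρ.comp (Algebra.TensorProduct.includeRight : L →ₐ[K] K' ⊗[K] L).toRingHom
  let jK : K' →+* F := ρ.comp (Algebra.TensorProduct.includeLeft : K' →ₐ[K] K' ⊗[K] L).toRingHom
  letI : Algebra L F := jL.toAlgebra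
  letI : Algebra K F := (jL.comp (algebraMap K L)).toAlgebra
  letI : Algebra K' F := jK.toAlgebra
  haveI : IsScalarTower K L F := IsScalarTower.of_algebraMap_eq fun _ ↦ rfl
  haveI : IsScalarTower K K' F := IsScalarTower.of_algebraMap_eq fun c ↦ by
    change ρ ((Algebra.TensorProduct.includeRight : L →ₐ[K] K' ⊗[K] L) (algebraMap K L c)) =
      ρ ((Algebra.TensorProduct.includeLeft : K' →ₐ[K] K' ⊗[K] L) (algebraMap K K' c))
    rw [AlgHom.commutes, AlgHom.commutes]
  let φ : L ⊗[K] K' →ₐ[L] F := Algebra.TensorProduct.lift (Algebra.ofId L F) (IsScalarTower.toAlgHom K K' F)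
    (fun _ _ ↦ Commute.all _ _)
  have hφ : Function.Surjective φ := by
    intro y
    obtain ⟨t, rfl⟩ := hF y
    induction t using TensorProduct.induction_on with
    | zero => exact ⟨0, by simp⟩
    | tmul a b =>
      refine ⟨b ⊗ₜ a, ?_⟩
      rw [Algebra.TensorProduct.lift_tmul]
      change ρ ((Algebra.TensorProduct.includeRight : L →ₐ[K] K' ⊗[K] L) b) *
        ρ ((Algebra.TensorProduct.includeLeft : K' →ₐ[K] K' ⊗[K] L) a) = _
      rw [← map_mul, Algebra.TensorProduct.includeRight_apply, Algebra.TensorProduct.includeLeft_apply,
        Algebra.TensorProduct.tmul_mul_tmul, one_mul, mul_one]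
    | add a b ha hb =>
      obtain ⟨a', ha'⟩ := ha
      obtain ⟨b', hb'⟩ := hb
      exact ⟨a' + b', by rw [map_add, ha', hb', map_add]⟩
  haveI : FiniteDimensional L F := Module.Finite.of_surjective φ.toLinearMap hφ
  haveI : Algebra.IsSeparable L F := ⟨fun y ↦ by
    obtain ⟨t, rfl⟩ := hφ y
    refine mem_separableClosure_iff.1 ?_
    induction t using TensorProduct.induction_on with
    | zero => rw [map_zero]; exact zero_mem _
    | tmul a b =>
      rw [Algebra.TensorProduct.lift_tmul]
      refine mul_mem (IntermediateField.algebraMap_mem (separableClosure L F) a) (mem_separableClosure_iff.2 ?_)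
      refine Polynomial.Separable.of_dvd (Polynomial.Separable.map (f := algebraMap K L)
        (Algebra.IsSeparable.isSeparable K b : (minpoly K b).Separable))
        (minpoly.dvd L _ ?_)
      rw [IsScalarTower.toAlgHom_apply, Polynomial.aeval_map_algebraMap, Polynomial.aeval_algebraMap_apply,
        minpoly.aeval, map_zero]
    | add a b ha hb => rw [map_add]; exact add_mem ha hb⟩
  let Ω := SeparableClosure L
  let i : F →ₐ[L] Ω := IsSepClosed.lift
  haveI : FiniteDimensional L i.fieldRange := Module.Finite.equiv (AlgEquiv.ofInjectiveField i).toLinearEquiv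
  let N : IntermediateField L Ω := IntermediateField.normalClosure L i.fieldRange Ω
  haveI : IsGalois L N := { }
  let j : F →ₐ[L] N := AlgHom.codRestrict i N.toSubalgebra fun x ↦ (i.fieldRange).le_normalClosure ⟨x, rfl⟩
  letI : Algebra F N := j.toRingHom.toAlgebra
  haveI : IsScalarTower L F N := IsScalarTower.of_algebraMap_eq fun c ↦ (j.commutes c).symm
  letI : Algebra K N := ((algebraMap L N).comp (algebraMap K L)).toAlgebra
  haveI : IsScalarTower K L N := IsScalarTower.of_algebraMap_eq fun _ ↦ rfl
  letI : Algebra K' N := (j.toRingHom.comp jK).toAlgebra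
  haveI : IsScalarTower K K' N := IsScalarTower.of_algebraMap_eq fun c ↦
    ((j.commutes (algebraMap K L c)).symm.trans (congrArg j (IsScalarTower.algebraMap_apply K K' F c)))
  show EtRam.IsTamelyRamified B ((algebraMap L F).comp (algebraMap B L))
  refine EtRamLib.WildFixField.isTamelyRamified_of_fixed (N := N) F fun W hW σ hσ y ↦ ?_
  haveI : IsDiscreteValuationRing W :=
    EtRamLib.ValTower.isDiscreteValuationRing_of_dominates B L N W hW
  have hg : ∀ a : A, algebraMap K N (algebraMap A K a) = algebraMap L N (algebraMap B L (algebraMap A B a)) := fun a ↦ by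
    rw [← IsScalarTower.algebraMap_apply A B L, IsScalarTower.algebraMap_apply A K L]
    rfl
  have hWA : EtRam.Dominates A ((algebraMap K N).comp (algebraMap A K)) W :=
    ⟨fun a ↦ by rw [RingHom.comp_apply, hg]; exact hW.1 _, fun a ha ↦ by
      rw [RingHom.comp_apply, hg]
      exact hW.2 _ (map_nonunit (algebraMap A B) a ha)⟩
  have key : ∀ b : K', σ (algebraMap K' N b) = algebraMap K' N b :=
    EtRamLib.WildFixField.fix_tame A K K' N h W hWA (σ : N →+* N) (fun c ↦ σ.commutes _) hσ
  obtain ⟨t, rfl⟩ := hφ y
  induction t using TensorProduct.induction_on with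
  | zero => simp
  | tmul a b =>
    rw [Algebra.TensorProduct.lift_tmul, map_mul, map_mul, Algebra.ofId_apply, ← IsScalarTower.algebraMap_apply L F N,
      σ.commutes]
    exact congrArg _ (key b)
  | add a b ha hb => rw [map_add, map_add, map_add, ha, hb]

end Groth.Agent.S9307
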