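import Groth.Statements.S9308
import Groth.Agent.CAlg48.RegColim
import Groth.Agent.EGA4Lib.SmoothRegular
-- import your own Groth.Agent.* helpers here

set_option autoImplicit false
universe u
open CAlg

namespace Groth.Agent.S9308
open TensorProduct

/-- Let R be a ring and (A_i, φ_ii') a directed system of smooth R-algebras with colimit Λ (the index
type is taken in the universe of the rings). Suppose that for every prime p of R the ring Λ ⊗_R κ(p)
is Noetherian. Then R → Λ is a regular ring map. -/
theorem result (R : Type u) [CommRing R] {ι : Type u} [Preorder ι]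
    [IsDirectedOrder ι] [Nonempty ι] (G : ι → Type u) [∀ i, CommRing (G i)] [∀ i, Algebra R (G i)]
    (f : ∀ i j : ι, i ≤ j → (G i →ₐ[R] G j)) [DirectedSystem G (fun i j h => f i j h)]
    (hs : ∀ i, Algebra.Smooth R (G i))
    (hN : ∀ (p : Ideal R) [p.IsPrime], IsNoetherianRing (p.Fiber (DirectLimit G f))) :
    CAlg.IsRegularHom R (DirectLimit G f) := by
  have hc : CAlg48.ColimBC.IsColim (fun i => DirectLimit.Algebra.of G f i) :=
    CAlg48.ColimBC.IsColim.of_directed f _ (fun i j h => AlgHom.ext fun x => DirectLimit.Algebra.of_f h x)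
      (fun a => by
        induction a using DirectLimit.induction with
        | _ i x => exact ⟨i, x, rfl⟩)
      (fun i x hx => DirectLimit.exists_eq_zero ⟨i, x⟩ |>.mp hx)
  refine ⟨CAlg48.RegColim.flat hc (fun i => inferInstance), fun p _ => ⟨hN p, fun k' _ _ hf => ?_⟩⟩
  haveI := hN p
  letI : Algebra R k' := ((algebraMap p.ResidueField k').comp (algebraMap R p.ResidueField)).toAlgebra
  haveI : IsScalarTower R p.ResidueField k' := IsScalarTower.of_algebraMap_eq' rfl
  let e := (Algebra.TensorProduct.cancelBaseChange R p.ResidueField k' k' (DirectLimit G f)).toRingEquiv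
  haveI : IsNoetherianRing (k' ⊗[R] DirectLimit G f) := by
    haveI : IsNoetherianRing ((p.Fiber (DirectLimit G f)) ⊗[p.ResidueField] k') :=
      IsNoetherianRing.of_finite (p.Fiber (DirectLimit G f)) ((p.Fiber (DirectLimit G f)) ⊗[p.ResidueField] k')
    haveI : IsNoetherianRing (k' ⊗[p.ResidueField] p.Fiber (DirectLimit G f)) :=
      isNoetherianRing_of_ringEquiv _ (Algebra.TensorProduct.comm p.ResidueField (p.Fiber (DirectLimit G f)) k').toRingEquiv
    exact isNoetherianRing_of_ringEquiv _ e
  haveI : IsRegularRing (k' ⊗[R] DirectLimit G f) := by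
    refine CAlg48.RegColim.isRegularRing (hc.baseChange k') fun i => ?_
    haveI : IsNoetherianRing (k' ⊗[R] G i) := Algebra.FiniteType.isNoetherianRing k' _
    rw [isRegularRing_iff]
    intro Q _
    exact EGA4Lib.mem_regLocus_of_smooth (R := k') ⟨Q, inferInstance⟩
      (IsRegularRing.isRegularLocalRing_localization (R := k') _)
  exact IsRegularRing.of_ringEquiv e.symm

end Groth.Agent.S9308
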