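import Groth.Statements.S9309
import Groth.Agent.S2650
import Groth.Agent.S2651
import Groth.Agent.S2653
import Groth.Agent.S2045
import Groth.Agent.S0599
import Groth.Agent.Hens.Local
import Groth.Agent.AzInvLib.SH

set_option linter.style.haveILetI false
set_option autoImplicit false
universe u
open CAlg

namespace Groth.Agent.S9309

abbrev Poly {A : Type u} (s : Finset A) : Type u := MvPolynomial {a // a ∈ s} (ULift.{u} ℤ)

section

variable {A : Type u} [CommRing A] [HenselianLocalRing A] (s : Finset A)

noncomputable def ev : Poly s →+* A :=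
  MvPolynomial.eval₂Hom ((Int.castRingHom A).comp (ULift.ringEquiv.toRingHom)) (fun a => a.1)

noncomputable def pr : Ideal (Poly s) := (IsLocalRing.maximalIdeal A).comap (ev s)

instance : (pr s).IsPrime := Ideal.IsPrime.comap _

abbrev Loc : Type u := Localization.AtPrime (pr s)

noncomputable def locMap : Loc s →+* A :=
  IsLocalization.lift (M := (pr s).primeCompl) (g := ev s)
    fun y => not_not.1 fun h => y.2 (show ev s y ∈ IsLocalRing.maximalIdeal A from h)

theorem locMap_algebraMap (x : Poly s) : locMap s (algebraMap _ (Loc s) x) = ev s x :=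
  IsLocalization.lift_eq _ x

instance isLocalHom_locMap : IsLocalHom (locMap s) := ⟨fun z hz => by
  obtain ⟨x, y, rfl⟩ := IsLocalization.exists_mk'_eq (pr s).primeCompl z
  rw [IsLocalization.AtPrime.isUnit_mk'_iff]
  intro hx
  have h1 : IsUnit (ev s x) := by
    rw [← locMap_algebraMap, ← IsLocalization.mk'_spec (Loc s) x y, map_mul]
    exact hz.mul ((IsLocalization.map_units (Loc s) y).map _)
  exact (show ev s x ∈ IsLocalRing.maximalIdeal A from hx) h1⟩

theorem isExcellent_loc : EGA4.IsExcellent (Loc s) := by
  haveI : IsDomain (ULift.{u} ℤ) := (ULift.ringEquiv (R := ℤ)).injective.isDomain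
  haveI : IsPrincipalIdealRing (ULift.{u} ℤ) :=
    IsPrincipalIdealRing.of_surjective (ULift.ringEquiv (R := ℤ)).symm.toRingHom
      (ULift.ringEquiv (R := ℤ)).symm.surjective
  haveI : CharZero (ULift.{u} ℤ) := charZero_of_injective_ringHom
    (f := (ULift.ringEquiv (R := ℤ)).symm.toRingHom) (ULift.ringEquiv (R := ℤ)).symm.injective
  exact Groth.Agent.S2650.result _
    (Groth.Agent.S2651.result _ (Groth.Agent.S2653.result (ULift.{u} ℤ)) (Poly s)) (pr s).primeCompl

theorem exists_psi : ∃ ψ : Hens.Henselization (Loc s) →+* A,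
    ψ.comp (algebraMap (Loc s) _) = locMap s :=
  ((inferInstance : Hensel.IsHenselization (Loc s) (Hens.Henselization (Loc s))).universal A (locMap s)
    inferInstance).exists

noncomputable def psi : Hens.Henselization (Loc s) →+* A := (exists_psi s).choose

theorem psi_comp : (psi s).comp (algebraMap (Loc s) _) = locMap s := (exists_psi s).choose_spec

theorem psi_range_mono {s t : Finset A} (hst : s ⊆ t) : (psi s).range ≤ (psi t).range := by
  let ι : Poly s →+* Poly t := (MvPolynomial.rename fun a => (⟨a.1, hst a.2⟩ : {a // a ∈ t})).toRingHom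
  have hι : (ev t).comp ι = ev s := by
    refine MvPolynomial.ringHom_ext (fun r => ?_) (fun a => ?_)
    · simp [ι, ev]
    · simp [ι, ev]
  have hp : pr s = (pr t).comap ι := by
    show _ = Ideal.comap ι (Ideal.comap (ev t) _)
    rw [Ideal.comap_comap, hι]
    rfl
  let l := Localization.localRingHom (pr s) (pr t) ι hp
  haveI : IsLocalHom l := Localization.isLocalHom_localRingHom _ _ _ hp
  have hl : (locMap t).comp l = locMap s := by
    refine IsLocalization.ringHom_ext (pr s).primeCompl (RingHom.ext fun x => ?_)
    show locMap t (l (algebraMap _ _ x)) = locMap s (algebraMap _ _ x)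
    rw [Localization.localRingHom_to_map, locMap_algebraMap, locMap_algebraMap, ← hι]
    rfl
  haveI : HenselianLocalRing (Hens.Henselization (Loc t)) := inferInstance
  haveI : IsLocalHom ((algebraMap (Loc t) (Hens.Henselization (Loc t))).comp l) :=
    RingHom.isLocalHom_comp _ _
  obtain ⟨g, hg, -⟩ := (inferInstance : Hensel.IsHenselization (Loc s) (Hens.Henselization (Loc s))).universal
    (Hens.Henselization (Loc t)) ((algebraMap _ _).comp l) inferInstance
  have h := ((inferInstance : Hensel.IsHenselization (Loc s) (Hens.Henselization (Loc s))).universal A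
    (locMap s) inferInstance).unique (psi_comp s)
    (show ((psi t).comp g).comp (algebraMap _ _) = locMap s by
      rw [RingHom.comp_assoc, hg, ← RingHom.comp_assoc, psi_comp, hl])
  rintro _ ⟨x, rfl⟩
  exact ⟨g x, by rw [h]; rfl⟩

theorem henselian_and_gRing : HenselianLocalRing (psi s).range ∧ CAlg.IsGRing (psi s).range := by
  refine ⟨Groth.Agent.AzInvLib.henselianLocalRing_of_surjective (psi s).rangeRestrict
    (psi s).rangeRestrict_surjective, ?_⟩
  haveI : IsNoetherianRing (Loc s) := (isExcellent_loc s).1
  have hG : CAlg.IsGRing (Hens.Henselization (Loc s)) :=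
    Groth.Agent.S2045.result (isExcellent_loc s).2.2.1
  letI : Algebra (Hens.Henselization (Loc s)) (psi s).range := (psi s).rangeRestrict.toAlgebra
  haveI : Algebra.FiniteType (Hens.Henselization (Loc s)) (psi s).range :=
    RingHom.FiniteType.of_surjective (psi s).rangeRestrict (psi s).rangeRestrict_surjective
  exact Groth.Agent.S0599.result _ hG _

theorem mem_range {s : Finset A} {a : A} (ha : a ∈ s) : a ∈ (psi s).range := by
  refine ⟨algebraMap (Loc s) _ (algebraMap (Poly s) _ (MvPolynomial.X ⟨a, ha⟩)), ?_⟩
  rw [← RingHom.comp_apply (psi s), psi_comp, locMap_algebraMap]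
  simp [ev]

theorem isUnit_range {x : (psi s).range} (hx : IsUnit (x : A)) : IsUnit x := by
  obtain ⟨y, hy⟩ := x.2
  have hu : IsUnit y := by
    by_contra hn
    have h1 : y ∈ IsLocalRing.maximalIdeal (Hens.Henselization (Loc s)) := hn
    rw [← (Groth.Agent.Hensel.isEtLike_of_isHenselization (Loc s) (Hens.Henselization (Loc s))).map_max] at h1
    have h2 := Ideal.mem_map_of_mem (psi s) h1
    rw [Ideal.map_map, psi_comp, hy] at h2
    exact IsLocalRing.map_maximalIdeal_le (locMap s) h2 hx
  convert hu.map (psi s).rangeRestrict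
  exact Subtype.ext hy.symm

end

/-- Every henselian local ring A is the colimit of a directed system of henselian local G-rings whose
transition maps are local homomorphisms; that is, there is such a system whose direct limit is
isomorphic to A. -/
theorem result (A : Type u) [CommRing A]
    [HenselianLocalRing A] :
    ∃ (ι : Type u) (_ : Preorder ι) (_ : IsDirectedOrder ι) (_ : Nonempty ι) (G : ι → Type u)
      (_ : ∀ i, CommRing (G i)) (f : ∀ i j : ι, i ≤ j → (G i →+* G j))
      (_ : DirectedSystem G (fun i j h => f i j h)),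
      (∀ i, HenselianLocalRing (G i) ∧ CAlg.IsGRing (G i)) ∧
      (∀ (i j : ι) (h : i ≤ j), IsLocalHom (f i j h)) ∧
      Nonempty (A ≃+* DirectLimit G f) := by
  classical
  let G : Finset A → Type u := fun s => (psi s).range
  let f : ∀ i j : Finset A, i ≤ j → (G i →+* G j) := fun i j h => Subring.inclusion (psi_range_mono h)
  haveI hsys : DirectedSystem G (fun i j h => f i j h) :=
    ⟨fun _ _ => rfl, fun _ _ _ _ _ _ => rfl⟩
  refine ⟨Finset A, inferInstance, inferInstance, inferInstance, G, inferInstance, f, hsys,
    fun i => henselian_and_gRing i, fun i j h => ⟨fun x hx => isUnit_range i (hx.map (psi j).range.subtype)⟩, ?_⟩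
  let L : DirectLimit G f →+* A :=
    DirectLimit.Ring.lift G f A (fun i => (psi i).range.subtype) fun _ _ _ _ => rfl
  have hinj : Function.Injective L := by
    intro x y
    induction x, y using DirectLimit.induction₂ with
    | _ i a b => intro h; exact congrArg (fun c => (⟦⟨i, c⟩⟧ : DirectLimit G f)) (Subtype.ext h)
  have hsurj : Function.Surjective L := fun a =>
    ⟨DirectLimit.Ring.of G f {a} ⟨a, mem_range (Finset.mem_singleton_self a)⟩, rfl⟩
  exact ⟨(RingEquiv.ofBijective L ⟨hinj, hsurj⟩).symm⟩

end Groth.Agent.S9309
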