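import Groth.Statements.S9310
import Groth.Agent.CAlg48.InverseFunction
import Mathlib.RingTheory.MvPowerSeries.Inverse
-- import your own Groth.Agent.* helpers here

set_option autoImplicit false
universe u
open CAlg

namespace Groth.Agent.S9310

/-- Let K be a field, A = K[[x_1, ..., x_n]], and y_1, ..., y_n ∈ A a regular system of parameters (n
elements generating the maximal ideal). Then the substitution map K[[y_1, ..., y_n]] → A is an
isomorphism: f ↦ f(y_1, ..., y_n) is a bijection of K[[x_1, ..., x_n]] onto itself. -/
theorem result (K : Type u) [Field K] (n : ℕ)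
    (y : Fin n → MvPowerSeries (Fin n) K)
    (hy : Ideal.span (Set.range y) = IsLocalRing.maximalIdeal (MvPowerSeries (Fin n) K)) :
    Function.Bijective (MvPowerSeries.subst y : MvPowerSeries (Fin n) K → MvPowerSeries (Fin n) K) := by
  classical
  have hmem : ∀ z ∈ IsLocalRing.maximalIdeal (MvPowerSeries (Fin n) K),
      MvPowerSeries.constantCoeff z = 0 := fun z hz => by
    by_contra h
    exact hz (MvPowerSeries.isUnit_iff_constantCoeff.2 (isUnit_iff_ne_zero.2 h))
  have hy0 : ∀ i, MvPowerSeries.constantCoeff (y i) = 0 := fun i =>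
    hmem _ (hy ▸ Ideal.subset_span ⟨i, rfl⟩)
  refine CAlg48.InverseFunction.bijective_subst hy0
    (CAlg48.InverseFunction.isUnit_det_jacobian hy0 0 (zero_mem _) fun j => ?_)
  refine Ideal.span_mono (Set.subset_insert _ _) ?_
  rw [hy, IsLocalRing.mem_maximalIdeal, mem_nonunits_iff, MvPowerSeries.isUnit_iff_constantCoeff,
    MvPowerSeries.constantCoeff_X]
  exact not_isUnit_zero

end Groth.Agent.S9310
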