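import Groth.Statements.S9313
import Mathlib
-- import your own Groth.Agent.* helpers here

set_option autoImplicit false
universe u
open CAlg

namespace Groth.Agent.S9313

/-- Let A be a ring with an ideal I and A → B a ring map of finite type, and suppose B/IB = C_1 × C_2
(given by an idempotent e of B/IB with C_1 = (B/IB)/(1 - e)) where C_1 is finite over A/I. Writing
B' for the integral closure of A in B, some g ∈ B' has idempotent image in B'/IB' lifting e (so
B'/IB' = C_1' × C_2' compatibly with the decomposition of B/IB), and the map B'_g → B_g is an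
isomorphism (whence C_1' = C_1). -/
theorem result (A B : Type u) [CommRing A] [CommRing B]
    [Algebra A B] [Algebra.FiniteType A B] (I : Ideal A) (e : B ⧸ Ideal.map (algebraMap A B) I)
    (he : IsIdempotentElem e)
    (hfin : Module.Finite (A ⧸ I) ((B ⧸ Ideal.map (algebraMap A B) I) ⧸ Ideal.span {1 - e})) :
    ∃ g : integralClosure A B,
      IsIdempotentElem (Ideal.Quotient.mk (Ideal.map (algebraMap A (integralClosure A B)) I) g) ∧
      Ideal.Quotient.mk (Ideal.map (algebraMap A B) I) (g : B) = e ∧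
      Function.Bijective (algebraMap (Localization.Away g)
        (Localization (Algebra.algebraMapSubmonoid B (Submonoid.powers g)))) := by
  classical
  let IS := Ideal.map (algebraMap A B) I
  let C := integralClosure A B
  let IC := Ideal.map (algebraMap A C) I
  let J₁ : Ideal (B ⧸ IS) := Ideal.span {1 - e}
  haveI hC1 : Module.Finite A ((B ⧸ IS) ⧸ J₁) := by
    haveI : Module.Finite (A ⧸ I) ((B ⧸ IS) ⧸ J₁) := hfin
    haveI : IsScalarTower A (A ⧸ I) ((B ⧸ IS) ⧸ J₁) := IsScalarTower.of_algebraMap_smul fun r x => by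
      obtain ⟨x, rfl⟩ := Ideal.Quotient.mk_surjective x
      obtain ⟨x, rfl⟩ := Ideal.Quotient.mk_surjective x
      show Ideal.Quotient.mk J₁ (algebraMap A (A ⧸ I) r • Ideal.Quotient.mk IS x) = Ideal.Quotient.mk J₁ (r • Ideal.Quotient.mk IS x)
      rw [algebraMap_smul]
    exact Module.Finite.trans (A ⧸ I) _
  let π₁ : C →ₐ[A] (B ⧸ IS) ⧸ J₁ :=
    ((Ideal.Quotient.mkₐ A J₁).comp (Ideal.Quotient.mkₐ A IS)).comp C.val
  set K₁ := RingHom.ker π₁.toRingHom with hK₁
  set K := RingHom.ker ((Ideal.Quotient.mk IS).comp C.val.toRingHom) with hKdef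
  let G : Ideal C :=
    { carrier := {g | ∀ x : B, ∃ m, IsIntegral A ((g : B) ^ m * x)}
      add_mem' := fun {a b} ha hb x => by
        obtain ⟨m, hm⟩ := ha x
        obtain ⟨n, hn⟩ := hb x
        refine ⟨m + n, ?_⟩
        rw [AddMemClass.coe_add, add_pow, Finset.sum_mul]
        refine IsIntegral.sum _ fun i hi => ?_
        rcases le_total m i with h | h
        · rw [show (a : B) ^ i * (b : B) ^ (m + n - i) * ((m + n).choose i : B) * x =
            (a : B) ^ (i - m) * (b : B) ^ (m + n - i) * ((m + n).choose i : B) * ((a : B) ^ m * x) by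
              rw [show (a : B) ^ i = (a : B) ^ (i - m) * (a : B) ^ m by rw [← pow_add, Nat.sub_add_cancel h]]; ring]
          exact IsIntegral.mul ((a.2.pow _).mul (b.2.pow _) |>.mul (isIntegral_natCast _)) hm
        · rw [show (a : B) ^ i * (b : B) ^ (m + n - i) * ((m + n).choose i : B) * x =
            (a : B) ^ i * (b : B) ^ (m - i) * ((m + n).choose i : B) * ((b : B) ^ n * x) by
              rw [show (b : B) ^ (m + n - i) = (b : B) ^ (m - i) * (b : B) ^ n by rw [← pow_add]; congr 1; omega]; ring]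
          exact IsIntegral.mul ((a.2.pow _).mul (b.2.pow _) |>.mul (isIntegral_natCast _)) hn
      zero_mem' := fun x => ⟨1, by simp [isIntegral_zero]⟩
      smul_mem' := fun c a ha x => by
        obtain ⟨m, hm⟩ := ha x
        refine ⟨m, ?_⟩
        rw [smul_eq_mul, MulMemClass.coe_mul, mul_pow, mul_assoc]
        exact IsIntegral.mul (c.2.pow m) hm }
  -- Zariski's main theorem on the finite factor
  have hL0 : G ⊔ K₁ = ⊤ := by
    by_contra hne
    obtain ⟨M, hM, hle⟩ := Ideal.exists_le_maximal _ hne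
    letI := π₁.toRingHom.toAlgebra
    haveI : IsScalarTower A C ((B ⧸ IS) ⧸ J₁) := .of_algebraMap_eq fun a => (π₁.commutes a).symm
    haveI : Algebra.IsIntegral C ((B ⧸ IS) ⧸ J₁) := Algebra.IsIntegral.tower_top (R := A)
    obtain ⟨Q₁, hQ₁, hQM⟩ := Ideal.exists_ideal_over_maximal_of_isIntegral (S := (B ⧸ IS) ⧸ J₁) M
      (le_sup_right.trans hle)
    haveI : Q₁.IsPrime := hQ₁.isPrime
    let q₁ : B →ₐ[A] (B ⧸ IS) ⧸ J₁ := (Ideal.Quotient.mkₐ A J₁).comp (Ideal.Quotient.mkₐ A IS)
    have hq₁ : Function.Surjective q₁ := Ideal.Quotient.mk_surjective.comp Ideal.Quotient.mk_surjective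
    let Q : Ideal B := Q₁.comap q₁.toRingHom
    haveI : Q.IsPrime := Ideal.comap_isPrime _ _
    haveI : Algebra.WeaklyQuasiFiniteAt A Q := by
      rw [Algebra.weaklyQuasiFiniteAt_iff]
      let L := Localization.AtPrime Q
      let P := (Q.under A).map (algebraMap A L)
      let toT : B →ₐ[A] L ⧸ P := (Ideal.Quotient.mkₐ A P).comp (IsScalarTower.toAlgHom A B L)
      have hI : ∀ x ∈ IS, toT x = 0 := by
        suffices IS ≤ RingHom.ker toT.toRingHom from fun x hx => this hx
        refine Ideal.map_le_iff_le_comap.mpr fun a ha => ?_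
        show toT (algebraMap A B a) = 0
        rw [AlgHom.commutes, IsScalarTower.algebraMap_apply A L (L ⧸ P), Ideal.Quotient.algebraMap_eq,
          Ideal.Quotient.eq_zero_iff_mem]
        refine Ideal.mem_map_of_mem _ ?_
        show q₁ (algebraMap A B a) ∈ Q₁
        have : Ideal.Quotient.mk IS (algebraMap A B a) = 0 :=
          Ideal.Quotient.eq_zero_iff_mem.mpr (Ideal.mem_map_of_mem _ ha)
        show Ideal.Quotient.mk J₁ (Ideal.Quotient.mk IS (algebraMap A B a)) ∈ Q₁
        rw [this, map_zero]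
        exact Q₁.zero_mem
      let toT₁ : B ⧸ IS →ₐ[A] L ⧸ P := Ideal.Quotient.liftₐ IS toT hI
      have he1 : toT₁ (1 - e) = 0 := by
        obtain ⟨e', he'⟩ := Ideal.Quotient.mk_surjective e
        have hu : IsUnit (toT₁ e) := by
          rw [← he']
          refine IsUnit.map (Ideal.Quotient.mkₐ A P) (IsLocalization.map_units L (⟨e', fun h => ?_⟩ : Q.primeCompl))
          have h1 : Ideal.Quotient.mk J₁ e ∈ Q₁ := he' ▸ h
          have h2 : Ideal.Quotient.mk J₁ e = 1 := by
            rw [← sub_eq_zero, ← map_one (Ideal.Quotient.mk J₁), ← map_sub, Ideal.Quotient.eq_zero_iff_mem,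
              ← neg_sub]
            exact J₁.neg_mem (Ideal.mem_span_singleton_self _)
          rw [h2] at h1
          exact Ideal.IsPrime.one_notMem ‹Q₁.IsPrime› h1
        refine hu.mul_right_cancel ?_
        rw [zero_mul, ← map_mul, sub_mul, one_mul, he.eq, sub_self, map_zero]
      let f : ((B ⧸ IS) ⧸ J₁) →ₐ[A] L ⧸ P := Ideal.Quotient.liftₐ J₁ toT₁ fun x hx => by
        obtain ⟨y, rfl⟩ := Ideal.mem_span_singleton.mp hx
        rw [map_mul, he1, zero_mul]
      refine Algebra.QuasiFinite.of_forall_exists_mul_mem_range f fun x => ?_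
      obtain ⟨x, rfl⟩ := Ideal.Quotient.mk_surjective x
      obtain ⟨x, s, rfl⟩ := IsLocalization.exists_mk'_eq Q.primeCompl x
      refine ⟨q₁ (s : B), IsUnit.map (Ideal.Quotient.mkₐ A P) (IsLocalization.map_units L s), q₁ x, ?_⟩
      show Ideal.Quotient.mk P (algebraMap B L x) =
        Ideal.Quotient.mk P (IsLocalization.mk' L x s) * Ideal.Quotient.mk P (algebraMap B L (s : B))
      rw [← map_mul, IsLocalization.mk'_spec]
    obtain ⟨r, hr, hri, hrx⟩ := Algebra.zariskisMainProperty_iff.1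
      (Algebra.ZariskisMainProperty.of_finiteType_of_weaklyQuasiFiniteAt (R := A) Q)
    refine hr ?_
    have h1 : (⟨r, hri⟩ : C) ∈ M := hle (Ideal.mem_sup_left (show (⟨r, hri⟩ : C) ∈ G from hrx))
    rw [← hQM] at h1
    exact h1
  obtain ⟨u, hu, k, hk, huk⟩ := Submodule.mem_sup.1 ((Ideal.eq_top_iff_one _).1 hL0)
  obtain ⟨b, hb⟩ := Ideal.Quotient.mk_surjective e
  obtain ⟨m, hm⟩ := hu b
  let z : C := ⟨_, hm⟩ * u
  have hzG : z ∈ G := G.mul_mem_left _ hu
  have hz : Ideal.Quotient.mk IS (z : B) = e := by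
    have h1 : Ideal.Quotient.mk J₁ (Ideal.Quotient.mk IS (u : B)) = 1 := by
      have hk' : Ideal.Quotient.mk J₁ (Ideal.Quotient.mk IS (k : B)) = 0 := hk
      have := congrArg (fun c : C => Ideal.Quotient.mk J₁ (Ideal.Quotient.mk IS (c : B))) huk
      simpa [hk'] using this
    rw [← map_one (Ideal.Quotient.mk J₁), Ideal.Quotient.eq] at h1
    obtain ⟨t, ht⟩ := Ideal.mem_span_singleton.mp h1
    have hue : Ideal.Quotient.mk IS (u : B) * e = e := by
      rw [← sub_eq_zero, ← sub_one_mul, ht, mul_right_comm, sub_mul, one_mul, he.eq, sub_self, zero_mul]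
    show Ideal.Quotient.mk IS ((u : B) ^ m * b * (u : B)) = e
    rw [map_mul, map_mul, map_pow, show Ideal.Quotient.mk IS b = e from hb]
    have hpow : ∀ n, Ideal.Quotient.mk IS (u : B) ^ n * e = e := fun n => by
      induction n with
      | zero => simp
      | succ n ih => rw [pow_succ, mul_assoc, hue, ih]
    rw [hpow, mul_comm, hue]
  have hKkill : ∀ x ∈ K, ∀ g ∈ G, ∃ n : ℕ, g ^ n * x ∈ IC := by
    intro x hx g hg
    have hx' : (x : B) ∈ Submodule.span B (algebraMap A B '' (I : Set A)) :=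
      Ideal.Quotient.eq_zero_iff_mem.1 hx
    rw [Submodule.mem_span_set'] at hx'
    obtain ⟨n, a, s, hs⟩ := hx'
    choose m hm using fun i => hg (a i)
    refine ⟨∑ i, m i, ?_⟩
    have hdvd : ∀ i, ∃ c : C, (c : B) = (g : B) ^ (∑ i, m i) * a i := fun i => by
      refine ⟨g ^ (∑ j, m j - m i) * ⟨_, hm i⟩, ?_⟩
      have hle : m i ≤ ∑ j, m j := Finset.single_le_sum (fun _ _ => Nat.zero_le _) (Finset.mem_univ i)
      simp only [MulMemClass.coe_mul, SubmonoidClass.coe_pow]
      rw [← mul_assoc, ← pow_add, Nat.sub_add_cancel hle]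
    choose c hc using hdvd
    choose w hw hws using fun i => (s i).2
    have : g ^ (∑ i, m i) * x = ∑ i, c i * algebraMap A C (w i) := by
      apply Subtype.ext
      push_cast
      rw [← hs, Finset.mul_sum]
      refine Finset.sum_congr rfl fun i _ => ?_
      rw [hc, ← hws, smul_eq_mul]; ring
    rw [this]
    exact Ideal.sum_mem _ fun i _ => Ideal.mul_mem_left _ _ (Ideal.mem_map_of_mem _ (hw i))
  have hzK : z * z - z ∈ K := by
    show Ideal.Quotient.mk IS ((z * z - z : C) : B) = 0
    rw [AddSubgroupClass.coe_sub, MulMemClass.coe_mul, map_sub, map_mul, hz, he.eq, sub_self]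
  obtain ⟨n, hn⟩ := hKkill _ hzK z hzG
  let zb := Ideal.Quotient.mk IC z
  have hstep : zb ^ (n + 1) * zb = zb ^ (n + 1) := by
    rw [← sub_eq_zero, ← Ideal.Quotient.eq_zero_iff_mem.mpr hn, map_mul, map_sub, map_mul, map_pow]
    ring
  have hpow : ∀ t : ℕ, zb ^ (n + 1) * zb ^ t = zb ^ (n + 1) := fun t => by
    induction t with
    | zero => simp
    | succ t ih => rw [pow_succ zb t, ← mul_assoc, ih, hstep]
  let g : C := z ^ (n + 1)
  let Cg := Localization.Away g
  let Bg := Localization (Algebra.algebraMapSubmonoid B (Submonoid.powers g))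
  have hcomp : ∀ c : C, algebraMap Cg Bg (algebraMap C Cg c) = algebraMap B Bg (c : B) := fun c => by
    rw [RingHom.algebraMap_toAlgebra, IsLocalization.map_eq]
    rfl
  refine ⟨g, ?_, ?_, ?_, ?_⟩
  · show Ideal.Quotient.mk IC (z ^ (n + 1)) * Ideal.Quotient.mk IC (z ^ (n + 1)) = _
    rw [map_pow]
    exact hpow (n + 1)
  · show Ideal.Quotient.mk IS ((z : B) ^ (n + 1)) = e
    rw [map_pow, hz, he.pow_succ_eq]
  · rw [injective_iff_map_eq_zero]
    intro y hy
    obtain ⟨c, s, rfl⟩ := IsLocalization.exists_mk'_eq (Submonoid.powers g) y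
    have h1 : algebraMap B Bg (c : B) = 0 := by
      rw [← hcomp, ← IsLocalization.mk'_spec Cg c s, map_mul, hy, zero_mul]
    rw [IsLocalization.map_eq_zero_iff (Algebra.algebraMapSubmonoid B (Submonoid.powers g))] at h1
    obtain ⟨⟨_, s', hs', rfl⟩, hj⟩ := h1
    rw [IsLocalization.mk'_eq_zero_iff]
    exact ⟨⟨s', hs'⟩, Subtype.ext hj⟩
  · intro y
    obtain ⟨x, ⟨_, s, hs, rfl⟩, rfl⟩ :=
      IsLocalization.exists_mk'_eq (Algebra.algebraMapSubmonoid B (Submonoid.powers g)) y
    obtain ⟨m', hm'⟩ := (G.pow_mem_of_mem hzG (n + 1) (Nat.succ_pos n) : g ∈ G) x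
    refine ⟨IsLocalization.mk' Cg (⟨_, hm'⟩ : C)
      (⟨g ^ m' * s, (Submonoid.powers g).mul_mem ⟨m', rfl⟩ hs⟩ : Submonoid.powers g), ?_⟩
    rw [IsLocalization.eq_mk'_iff_mul_eq]
    have hu' : IsUnit (algebraMap B Bg ((g : B) ^ m')) :=
      IsLocalization.map_units Bg (⟨_, g ^ m', ⟨m', rfl⟩, by simp⟩ :
        Algebra.algebraMapSubmonoid B (Submonoid.powers g))
    have h2 := congrArg (algebraMap Cg Bg) (IsLocalization.mk'_spec Cg (⟨_, hm'⟩ : C)
        (⟨g ^ m' * s, (Submonoid.powers g).mul_mem ⟨m', rfl⟩ hs⟩ : Submonoid.powers g))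
    rw [map_mul, hcomp, hcomp] at h2
    simp only [g, MulMemClass.coe_mul, SubmonoidClass.coe_pow, map_mul, map_pow] at h2 hu' ⊢
    refine hu'.mul_left_cancel ?_
    refine Eq.trans ?_ h2
    show _ * (_ * algebraMap B Bg (s : B)) = _
    ring

end Groth.Agent.S9313
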