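import Groth.Statements.S9315
import Groth.Agent.CAlg48.SmallExt

set_option autoImplicit false
universe u
open CAlg

namespace Groth.Agent.S9315

open IsLocalRing in
/-- Let `R → S` be a local homomorphism of local rings (no Noetherian hypothesis). Then `R → S` is
formally smooth for the adic topology of the maximal ideal of `S` if and only if the following
lifting property holds: for every local ring `A` with a local structure map `R → A`, every ideal `J`
of `A` of square zero such that some power of the maximal ideal of `A` is zero, and every local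
`R`-algebra homomorphism `ψ : S → A/J` inducing a bijection on residue fields, there is an
`R`-algebra homomorphism `S → A` lifting `ψ`. -/
theorem result {R S : Type u} [CommRing R] [CommRing S]
    [IsLocalRing R] [IsLocalRing S] [Algebra R S] [IsLocalHom (algebraMap R S)] :
    CAlgX.IsAdicFormallySmooth R S (maximalIdeal S) ↔
      ∀ (A : Type u) [CommRing A] [IsLocalRing A] [Algebra R A] [IsLocalHom (algebraMap R A)]
        (J : Ideal A), J ^ 2 = ⊥ → (∃ n : ℕ, maximalIdeal A ^ n = ⊥) →
        ∀ [IsLocalRing (A ⧸ J)] (ψ : S →ₐ[R] A ⧸ J) [IsLocalHom ψ.toRingHom],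
          Function.Bijective (ResidueField.map ψ.toRingHom) →
          ∃ χ : S →ₐ[R] A, (Ideal.Quotient.mkₐ R J).comp χ = ψ := by
  constructor
  · intro h A _ _ _ _ J hJ ⟨n, hn⟩ _ ψ _ hres
    refine h A J hJ ψ ⟨n, fun x hx => ?_⟩
    have h1 : (maximalIdeal S).map ψ ≤ (maximalIdeal A).map (Ideal.Quotient.mk J) := by
      rw [Ideal.map_le_iff_le_comap]
      intro s hs
      obtain ⟨a, ha⟩ := Ideal.Quotient.mk_surjective (ψ s)
      rw [Ideal.mem_comap, ← ha]
      refine Ideal.mem_map_of_mem _ fun hu => hs ?_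
      exact isUnit_of_map_unit ψ.toRingHom s (show IsUnit (ψ s) from ha ▸ hu.map (Ideal.Quotient.mk J))
    have h2 := Ideal.pow_right_mono h1 n (Ideal.map_pow ψ (maximalIdeal S) n ▸ Ideal.mem_map_of_mem ψ hx)
    rw [← Ideal.map_pow, hn, Ideal.map_bot, Ideal.mem_bot] at h2
    exact h2
  · intro H
    refine CAlg48.SmallExt.isAdicFormallySmooth_of_surjective fun A _ _ K hK hK' ψ hψ ⟨k, hk⟩ => ?_
    obtain ⟨_, hnil, hloc⟩ := CAlg48.SmallExt.of_surjective K ⟨2, hK⟩ hK' ψ hψ hk
    haveI := @hloc _ _
    haveI : Nontrivial (A ⧸ K) := Ideal.Quotient.nontrivial_iff.mpr hK'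
    haveI : IsLocalRing (A ⧸ K) := IsLocalRing.of_surjective' _ Ideal.Quotient.mk_surjective
    haveI : IsLocalHom ψ.toRingHom := Function.Surjective.isLocalHom _ hψ
    refine H A K hK hnil ψ ⟨(ResidueField.map ψ.toRingHom).injective, fun y => ?_⟩
    obtain ⟨y, rfl⟩ := residue_surjective y
    obtain ⟨s, rfl⟩ := hψ y
    exact ⟨residue S s, rfl⟩

end Groth.Agent.S9315
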