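import Groth.Statements.S9319
import Groth.Agent.FieldSep.MacLane
-- import your own Groth.Agent.* helpers here

set_option autoImplicit false
universe u
open CAlg

namespace Groth.Agent.S9319

open TensorProduct

lemma formallySmooth_bot (K L : Type u) [Field K] [Field L] [Algebra (⊥ : Subfield K) L] :
    Algebra.FormallySmooth (⊥ : Subfield K) L := by
  let F := (⊥ : Subfield K)
  have hsub : Subsingleton Ω[F⁄ℤ] := by
    have key : ∀ x : F, KaehlerDifferential.D ℤ F x = 0 := by
      let S : Subfield F :=
        { carrier := {x | KaehlerDifferential.D ℤ F x = 0}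
          mul_mem' := fun {a b} ha hb => by
            simp only [Set.mem_ofPred_eq] at *
            rw [Derivation.leibniz, ha, hb, smul_zero, smul_zero, add_zero]
          one_mem' := Derivation.map_one_eq_zero _
          add_mem' := fun {a b} ha hb => by
            simp only [Set.mem_ofPred_eq] at *
            rw [map_add, ha, hb, add_zero]
          zero_mem' := map_zero _
          neg_mem' := fun {a} ha => by
            simp only [Set.mem_ofPred_eq] at *
            rw [map_neg, ha, neg_zero]
          inv_mem' := fun a ha => by
            simp only [Set.mem_ofPred_eq] at *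
            rw [Derivation.leibniz_inv, ha, smul_zero] }
      intro x
      have hle : (⊥ : Subfield K) ≤ S.map F.subtype := bot_le
      obtain ⟨y, hy, hyx⟩ := hle x.2
      have := Subtype.ext hyx
      exact this ▸ hy
    refine subsingleton_of_forall_eq 0 fun x => ?_
    have hx : x ∈ Submodule.span F (Set.range (KaehlerDifferential.D ℤ F)) := by
      rw [KaehlerDifferential.span_range_derivation]; trivial
    refine Submodule.span_le.mpr (fun y hy => ?_) hx |> (Submodule.mem_bot F).mp
    obtain ⟨a, rfl⟩ := hy
    exact key a
  rw [FieldSep.MacLane.formallySmooth_iff]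
  apply FieldSep.MacLane.isGeometricallyReduced_of_injective
  have : Subsingleton (L ⊗[F] Ω[F⁄ℤ]) := inferInstance
  exact Function.injective_of_subsingleton _

lemma gen_smul {F K T ι : Type u} [CommRing F] [CommRing K] [CommRing T] [Algebra F K] [Algebra K T]
    (Q : Algebra.Generators K T ι) (q : Q.Ring) (t : T ⊗[K] Ω[K⁄F]) :
    q • t = MvPolynomial.aeval Q.val q • t := by
  rw [← IsScalarTower.algebraMap_smul T q t, Algebra.Generators.algebraMap_apply]

lemma δAux_natural {F K L M : Type u} [CommRing F] [CommRing K] [CommRing L] [CommRing M]
    [Algebra F K] [Algebra K L] [Algebra L M] [Algebra K M] [IsScalarTower K L M]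
    [Algebra F L] [Algebra F M] [IsScalarTower F K L] [IsScalarTower F K M]
    (x : (Algebra.Generators.self K L).Ring) :
    Algebra.Generators.H1Cotangent.δAux F (Algebra.Generators.self K M)
        ((Algebra.Generators.defaultHom (Algebra.Generators.self K L)
          (Algebra.Generators.self K M)).toAlgHom x) =
      (IsScalarTower.toAlgHom K L M).toLinearMap.rTensor Ω[K⁄F]
        (Algebra.Generators.H1Cotangent.δAux F (Algebra.Generators.self K L) x) := by
  set f := Algebra.Generators.defaultHom (Algebra.Generators.self K L) (Algebra.Generators.self K M)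
  induction x using MvPolynomial.induction_on with
  | C r =>
    rw [Algebra.Generators.Hom.toAlgHom_C]
    simp [Algebra.Generators.H1Cotangent.δAux_C]
  | add a b ha hb => simp only [map_add, ha, hb]
  | mul_X a i ha =>
    have hX : f.toAlgHom (MvPolynomial.X i) = MvPolynomial.X (algebraMap L M i) := by
      rw [Algebra.Generators.Hom.toAlgHom_X]; rfl
    rw [map_mul, hX, Algebra.Generators.H1Cotangent.δAux_mul,
      Algebra.Generators.H1Cotangent.δAux_mul, Algebra.Generators.H1Cotangent.δAux_X,
      Algebra.Generators.H1Cotangent.δAux_X, smul_zero, smul_zero, zero_add, zero_add, ha]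
    refine (gen_smul (Algebra.Generators.self K M) _ _).trans ?_
    refine Eq.trans ?_ (congrArg _ (gen_smul (Algebra.Generators.self K L) _ _)).symm
    simp only [MvPolynomial.aeval_X]
    generalize Algebra.Generators.H1Cotangent.δAux F (Algebra.Generators.self K L) a = t
    induction t using TensorProduct.induction_on with
    | zero => simp
    | add p q hp hq => simp only [map_add, smul_add, hp, hq]
    | tmul p q => simp [TensorProduct.smul_tmul', Algebra.smul_def]

open TensorProduct in
/-- For a tower of fields `K ⊆ L ⊆ M`, the first map of the Jacobi–Zariski sequence, from `H_1(L_{L/K})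
⊗_L M` to `H_1(L_{M/K})`, is injective; here `H_1(L)` denotes the first homology of the naive
cotangent complex and the map is the `M`-linear extension of the functoriality map. (The rest of the
six-term sequence is exact for any three rings, so for fields it is exact with a zero on the left.) -/
theorem result {K L M : Type u} [Field K] [Field L]
    [Field M] [Algebra K L] [Algebra L M] [Algebra K M] [IsScalarTower K L M] :
    Function.Injective ((Algebra.H1Cotangent.map K K L M).liftBaseChange M) := by
  let F := (⊥ : Subfield K)
  have := formallySmooth_bot K L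
  have hδ : Function.Injective (Algebra.H1Cotangent.δ F K L) := by
    rw [injective_iff_map_eq_zero]
    intro x hx
    obtain ⟨y, rfl⟩ := (Algebra.H1Cotangent.exact_map_δ F K L x).mp hx
    rw [Subsingleton.elim y 0, map_zero]
  let φ : L ⊗[K] Ω[K⁄F] →ₗ[L] M ⊗[K] Ω[K⁄F] :=
    { (IsScalarTower.toAlgHom K L M).toLinearMap.rTensor Ω[K⁄F] with
      map_smul' := fun c t => by
        simp only [RingHom.id_apply, AddHom.toFun_eq_coe, LinearMap.coe_toAddHom]
        induction t using TensorProduct.induction_on with
        | zero => simp
        | add p q hp hq => simp only [map_add, smul_add, hp, hq]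
        | tmul p q => simp [TensorProduct.smul_tmul', Algebra.smul_def] }
  have hcomm : ∀ x : Algebra.H1Cotangent K L,
      Algebra.H1Cotangent.δ F K M (Algebra.H1Cotangent.map K K L M x) =
        φ (Algebra.H1Cotangent.δ F K L x) := by
    rintro ⟨x, hx⟩
    obtain ⟨x, rfl⟩ := Algebra.Extension.Cotangent.mk_surjective x
    change Algebra.Generators.H1Cotangent.δ _ _ ⟨_, _⟩ = φ (Algebra.Generators.H1Cotangent.δ _ _ ⟨_, hx⟩)
    refine Eq.trans ?_ (congrArg φ (Algebra.Generators.H1Cotangent.δ_eq_δAux
      (Algebra.Generators.self K L) (Algebra.Generators.self F K) x hx)).symm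
    refine Eq.trans ?_ (δAux_natural x.1)
    have h := Algebra.Extension.Cotangent.map_mk (Algebra.Generators.defaultHom
      (Algebra.Generators.self K L) (Algebra.Generators.self K M)).toExtensionHom x
    have hm : Algebra.Extension.Cotangent.map (Algebra.Generators.defaultHom
        (Algebra.Generators.self K L) (Algebra.Generators.self K M)).toExtensionHom
        (Algebra.Extension.Cotangent.mk x) ∈
          LinearMap.ker (Algebra.Generators.self K M).toExtension.cotangentComplex := by
      rw [LinearMap.mem_ker, ← Algebra.Extension.CotangentSpace.map_cotangentComplex]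
      exact (congrArg _ hx).trans (map_zero _)
    rw [h] at hm
    exact Eq.trans (congrArg _ (Subtype.ext (a2 := ⟨_, hm⟩) h))
      (Algebra.Generators.H1Cotangent.δ_eq_δAux _ _ _ hm)
  let δ' : M ⊗[L] Algebra.H1Cotangent K L →ₗ[M] M ⊗[K] Ω[K⁄F] :=
    (TensorProduct.AlgebraTensorModule.cancelBaseChange K L M M Ω[K⁄F]).toLinearMap ∘ₗ
      (Algebra.H1Cotangent.δ F K L).baseChange M
  have hinj : Function.Injective δ' :=
    (TensorProduct.AlgebraTensorModule.cancelBaseChange K L M M Ω[K⁄F]).injective.comp
      (Module.Flat.lTensor_preserves_injective_linearMap (M := M) _ hδ)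
  have hfact : δ' = (Algebra.H1Cotangent.δ F K M) ∘ₗ
      (Algebra.H1Cotangent.map K K L M).liftBaseChange M := by
    apply LinearMap.ext
    intro z
    induction z using TensorProduct.induction_on with
    | zero => simp
    | add p q hp hq => simp only [map_add, hp, hq]
    | tmul m x =>
      simp only [δ', LinearMap.comp_apply, LinearMap.baseChange_tmul, LinearEquiv.coe_coe,
        LinearMap.liftBaseChange_tmul, map_smul, hcomm]
      generalize Algebra.H1Cotangent.δ F K L x = t
      induction t using TensorProduct.induction_on with
      | zero => simp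
      | add p q hp hq => simp only [tmul_add, map_add, smul_add, hp, hq]
      | tmul p q =>
        change _ = m • (algebraMap L M p ⊗ₜ[K] q)
        simp [TensorProduct.smul_tmul', Algebra.smul_def, mul_comm]
  rw [hfact] at hinj
  rw [LinearMap.coe_comp] at hinj
  exact Function.Injective.of_comp hinj

end Groth.Agent.S9319
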