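import Groth.Statements.S9320
import Groth.Agent.CAlg48.IndexSES
import Groth.Agent.FieldSep.Cartier
import Mathlib.RingTheory.Kaehler.JacobiZariski
-- import your own Groth.Agent.* helpers here

set_option autoImplicit false
universe u
open CAlg

namespace Groth.Agent.S9320

section

open TensorProduct KaehlerDifferential

variable (R k k' K K' : Type u) [CommRing R] [CommRing k] [CommRing k'] [CommRing K] [CommRing K']
  [Algebra R k] [Algebra R k'] [Algebra k k'] [IsScalarTower R k k'] [Algebra k K] [Algebra k K']
  [Algebra k' K'] [Algebra K K'] [IsScalarTower k k' K'] [IsScalarTower k K K']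
  [Algebra R K] [Algebra R K'] [IsScalarTower R k K] [IsScalarTower R k' K'] [IsScalarTower R k K']

/-- `K' ⊗_k Ω_{k/R} → K' ⊗_{k'} Ω_{k'/R}`. -/
noncomputable def baseMap : K' ⊗[k] Ω[k⁄R] →ₗ[K'] K' ⊗[k'] Ω[k'⁄R] :=
  (((TensorProduct.mk k' K' Ω[k'⁄R] 1).restrictScalars k) ∘ₗ
    (KaehlerDifferential.map R R k k')).liftBaseChange K'

theorem baseMap_tmul (c : K') (r : k) :
    baseMap R k k' K' (c ⊗ₜ D R k r) = c ⊗ₜ D R k' (algebraMap k k' r) := by
  rw [baseMap, LinearMap.liftBaseChange_tmul, LinearMap.comp_apply, KaehlerDifferential.map_D,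
    LinearMap.restrictScalars_apply, TensorProduct.mk_apply, smul_tmul', smul_eq_mul, mul_one]

/-- `K ⊗_k Ω_{k/R} → K' ⊗_k Ω_{k/R}`. -/
noncomputable def incl : K ⊗[k] Ω[k⁄R] →ₗ[K] K' ⊗[k] Ω[k⁄R] :=
  TensorProduct.AlgebraTensorModule.map (Algebra.linearMap K K') LinearMap.id

theorem δAux_natural (x : (Algebra.Generators.self k K).Ring) :
    Algebra.Generators.H1Cotangent.δAux R (Algebra.Generators.self k' K')
        ((Algebra.Generators.defaultHom (Algebra.Generators.self k K)
          (Algebra.Generators.self k' K')).toAlgHom x) =
      baseMap R k k' K' (incl R k K K'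
        (Algebra.Generators.H1Cotangent.δAux R (Algebra.Generators.self k K) x)) := by
  induction x using MvPolynomial.induction_on with
  | C s =>
    rw [Algebra.Generators.Hom.toAlgHom_C, Algebra.Generators.H1Cotangent.δAux_C,
      Algebra.Generators.H1Cotangent.δAux_C, incl, AlgebraTensorModule.map_tmul,
      LinearMap.id_apply, Algebra.linearMap_apply, map_one, baseMap_tmul]
  | add x y hx hy => simp only [map_add, hx, hy]
  | mul_X p n IH =>
    have hval : (Algebra.Generators.defaultHom (Algebra.Generators.self k K)
        (Algebra.Generators.self k' K')).val n = MvPolynomial.X (algebraMap K K' n) := rfl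
    rw [map_mul, Algebra.Generators.Hom.toAlgHom_X, hval,
      Algebra.Generators.H1Cotangent.δAux_mul, Algebra.Generators.H1Cotangent.δAux_mul,
      Algebra.Generators.H1Cotangent.δAux_X, Algebra.Generators.H1Cotangent.δAux_X, smul_zero,
      smul_zero, zero_add, zero_add, IH]
    simp only [← @IsScalarTower.algebraMap_smul (Algebra.Generators.self k' K').Ring K',
      ← @IsScalarTower.algebraMap_smul (Algebra.Generators.self k K).Ring K,
      Algebra.Generators.algebraMap_apply, MvPolynomial.aeval_X, Algebra.Generators.self_val, id]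
    rw [LinearMap.map_smul, ← algebraMap_smul K' n, LinearMap.map_smul]

theorem δ_natural (z : Algebra.H1Cotangent k K) :
    Algebra.H1Cotangent.δ R k' K' (Algebra.H1Cotangent.map k k' K K' z) =
      baseMap R k k' K' (incl R k K K' (Algebra.H1Cotangent.δ R k K z)) := by
  obtain ⟨x, hx⟩ := z
  obtain ⟨x, rfl⟩ := Algebra.Extension.Cotangent.mk_surjective x
  refine Eq.trans ?_ ((δAux_natural R k k' K K' x.1).trans (congrArg (fun w => baseMap R k k' K' (incl R k K K' w))
    (Algebra.Generators.H1Cotangent.δ_eq_δAux (Algebra.Generators.self k K)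
      (Algebra.Generators.self R k) x hx).symm))
  exact Algebra.Generators.H1Cotangent.δ_eq_δAux (Algebra.Generators.self k' K')
    (Algebra.Generators.self R k') _ _

end

open TensorProduct in
/-- Consider a commutative square of fields with maps `k → K`, `k → k'`, `k' → K'` and `K → K'`, where
`k'` is a finitely generated field extension of `k` and `K'` is a finitely generated field extension
of `K`. Let `α : Ω_{K/k} ⊗_K K' → Ω_{K'/k'}` and `β : H_1(L_{K/k}) ⊗_K K' → H_1(L_{K'/k'})` be the
comparison maps (`H_1(L)` the first homology of the naive cotangent complex). Then the kernels and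
cokernels of `α` and `β` are finite-dimensional `K'`-vector spaces, and the difference of
transcendence degrees trdeg_k(k') − trdeg_K(K') equals (dim Ker α + dim Coker β) − (dim Coker α +
dim Ker β). -/
theorem result {k k' K K' : Type u} [Field k] [Field k']
    [Field K] [Field K'] [Algebra k k'] [Algebra k K] [Algebra k K'] [Algebra k' K'] [Algebra K K']
    [IsScalarTower k k' K'] [IsScalarTower k K K']
    [Algebra.EssFiniteType k k'] [Algebra.EssFiniteType K K'] :
    Module.Finite K' (LinearMap.ker ((KaehlerDifferential.map k k' K K').liftBaseChange K')) ∧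
      Module.Finite K' (Ω[K'⁄k'] ⧸ LinearMap.range ((KaehlerDifferential.map k k' K K').liftBaseChange K')) ∧
      Module.Finite K' (LinearMap.ker ((Algebra.H1Cotangent.map k k' K K').liftBaseChange K')) ∧
      Module.Finite K' (Algebra.H1Cotangent k' K' ⧸ LinearMap.range ((Algebra.H1Cotangent.map k k' K K').liftBaseChange K')) ∧
      ((Module.finrank K' (LinearMap.ker ((KaehlerDifferential.map k k' K K').liftBaseChange K')) : ℤ)
          - Module.finrank K' (Ω[K'⁄k'] ⧸ LinearMap.range ((KaehlerDifferential.map k k' K K').liftBaseChange K'))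
          - Module.finrank K' (LinearMap.ker ((Algebra.H1Cotangent.map k k' K K').liftBaseChange K'))
          + Module.finrank K' (Algebra.H1Cotangent k' K' ⧸ LinearMap.range ((Algebra.H1Cotangent.map k k' K K').liftBaseChange K'))
        = (Cardinal.toNat (Algebra.trdeg k k') : ℤ) - Cardinal.toNat (Algebra.trdeg K K')) := by
  classical
  let k₀ := (⊥ : Subfield k)
  haveI := FieldSep.Cartier.perfectField_bot k
  haveI hk₀K : IsScalarTower k₀ k K := inferInstance
  haveI : IsScalarTower k₀ k k' := inferInstance
  haveI : IsScalarTower k₀ k K' := inferInstance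
  haveI : IsScalarTower k₀ k' K' := .of_algebraMap_eq fun c => by
    rw [IsScalarTower.algebraMap_apply k₀ k K', IsScalarTower.algebraMap_apply k₀ k k',
      ← IsScalarTower.algebraMap_apply k k' K']
  haveI : IsScalarTower k₀ K K' := .of_algebraMap_eq fun c => by
    rw [IsScalarTower.algebraMap_apply k₀ k K', IsScalarTower.algebraMap_apply k₀ k K,
      ← IsScalarTower.algebraMap_apply k K K']
  haveI := FieldSep.Cartier.formallySmooth_of_perfectField k₀ K
  haveI := FieldSep.Cartier.formallySmooth_of_perfectField k₀ K'
  obtain ⟨d, hd, hfd⟩ := FieldSep.Cartier.cart_of_perfectField k₀ k k'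
  obtain ⟨e, he, hfe⟩ := FieldSep.Cartier.cart_of_perfectField k₀ K K'
  let cX := TensorProduct.AlgebraTensorModule.cancelBaseChange k k' K' K' Ω[k⁄k₀]
  let cY := TensorProduct.AlgebraTensorModule.cancelBaseChange k K K' K' Ω[k⁄k₀]
  let f := baseMap k₀ k k' K'
  let g := KaehlerDifferential.mapBaseChange k₀ K K'
  let h := baseMap k₀ k K K'
  let h' := KaehlerDifferential.mapBaseChange k₀ k' K'
  have hf : FieldSep.Cartier.Fred f (-(d : ℤ)) := by
    have : f = ((KaehlerDifferential.mapBaseChange k₀ k k').baseChange K') ∘ₗ cX.symm.toLinearMap := by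
      refine LinearMap.ext fun z => ?_
      obtain ⟨z, rfl⟩ := cX.surjective z
      rw [LinearMap.comp_apply, LinearEquiv.coe_coe, LinearEquiv.symm_apply_apply]
      induction z using TensorProduct.induction_on with
      | zero => rw [LinearEquiv.map_zero, LinearMap.map_zero, LinearMap.map_zero]
      | add x y hx hy => rw [LinearEquiv.map_add, LinearMap.map_add, LinearMap.map_add, hx, hy]
      | tmul c w =>
        induction w using TensorProduct.induction_on with
        | zero => rw [tmul_zero, LinearEquiv.map_zero, LinearMap.map_zero, LinearMap.map_zero]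
        | add x y hx hy => rw [tmul_add, LinearEquiv.map_add, LinearMap.map_add, LinearMap.map_add, hx, hy]
        | tmul b ω =>
          rw [TensorProduct.AlgebraTensorModule.cancelBaseChange_tmul, LinearMap.baseChange_tmul,
            KaehlerDifferential.mapBaseChange_tmul]
          simp only [f, baseMap, LinearMap.liftBaseChange_tmul, LinearMap.comp_apply,
            LinearMap.restrictScalars_apply, TensorProduct.mk_apply]
          rw [smul_tmul', smul_eq_mul, mul_one, tmul_smul, smul_tmul']
    rw [this]
    simpa using (FieldSep.Cartier.fred_of_bijective cX.symm.bijective).comp (hfd.baseChange K')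
  have hh : ∀ w, h (cY w) = (KaehlerDifferential.mapBaseChange k₀ k K).baseChange K' w := by
    intro w
    induction w using TensorProduct.induction_on with
    | zero => rw [LinearEquiv.map_zero, LinearMap.map_zero, LinearMap.map_zero]
    | add x y hx hy => rw [LinearEquiv.map_add, LinearMap.map_add, LinearMap.map_add, hx, hy]
    | tmul c w =>
      induction w using TensorProduct.induction_on with
      | zero => rw [tmul_zero, LinearEquiv.map_zero, LinearMap.map_zero, LinearMap.map_zero]
      | add x y hx hy => rw [tmul_add, LinearEquiv.map_add, LinearMap.map_add, LinearMap.map_add, hx, hy]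
      | tmul b ω =>
        rw [TensorProduct.AlgebraTensorModule.cancelBaseChange_tmul, LinearMap.baseChange_tmul,
          KaehlerDifferential.mapBaseChange_tmul]
        simp only [h, baseMap, LinearMap.liftBaseChange_tmul, LinearMap.comp_apply,
          LinearMap.restrictScalars_apply, TensorProduct.mk_apply]
        rw [smul_tmul', smul_eq_mul, mul_one, tmul_smul, smul_tmul']
  let δK := Algebra.H1Cotangent.δ k₀ k K
  have hδK : Function.Injective δK := by
    rw [← LinearMap.ker_eq_bot, (Algebra.H1Cotangent.exact_map_δ k₀ k K).linearMap_ker_eq,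
      LinearMap.range_eq_bot]
    exact LinearMap.ext fun z => by rw [Subsingleton.elim z 0, map_zero, map_zero]
  have hδK' : Function.Injective (Algebra.H1Cotangent.δ k₀ k' K') := by
    rw [← LinearMap.ker_eq_bot, (Algebra.H1Cotangent.exact_map_δ k₀ k' K').linearMap_ker_eq,
      LinearMap.range_eq_bot]
    exact LinearMap.ext fun z => by rw [Subsingleton.elim z 0, map_zero, map_zero]
  let ι := cY.toLinearMap ∘ₗ δK.baseChange K'
  have hι : Function.Injective ι :=
    cY.injective.comp (Module.Flat.lTensor_preserves_injective_linearMap _ hδK)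
  have hex1 : Function.Exact ι h := by
    intro y
    obtain ⟨w, rfl⟩ := cY.surjective y
    rw [hh]
    refine ((Module.Flat.lTensor_exact K' (Algebra.H1Cotangent.exact_δ_mapBaseChange k₀ k K)) w).trans ?_
    constructor
    · rintro ⟨v, hv⟩; exact ⟨v, congrArg cY hv⟩
    · rintro ⟨v, hv⟩; exact ⟨v, cY.injective hv⟩
  let π := (KaehlerDifferential.map k₀ k K K).baseChange K'
  have hπ : Function.Surjective π :=
    LinearMap.lTensor_surjective K' (KaehlerDifferential.map_surjective k₀ k K)
  have hex2 : Function.Exact h π := by
    intro y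
    refine ((lTensor_exact K' (KaehlerDifferential.exact_mapBaseChange_map k₀ k K)
      (KaehlerDifferential.map_surjective k₀ k K)) y).trans ?_
    constructor
    · rintro ⟨v, hv⟩; exact ⟨cY v, (hh v).trans hv⟩
    · rintro ⟨v, hv⟩
      obtain ⟨v, rfl⟩ := cY.surjective v
      exact ⟨v, (hh v).symm.trans hv⟩
  let β := (Algebra.H1Cotangent.map k k' K K').liftBaseChange K'
  let α := (KaehlerDifferential.map k k' K K').liftBaseChange K'
  have c1 : Algebra.H1Cotangent.δ k₀ k' K' ∘ₗ β = f ∘ₗ ι := by
    refine LinearMap.ext fun w => ?_
    induction w using TensorProduct.induction_on with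
    | zero => rw [LinearMap.map_zero, LinearMap.map_zero]
    | add x y hx hy => rw [LinearMap.map_add, LinearMap.map_add, hx, hy]
    | tmul c z =>
      have hι1 : cY ((1 : K') ⊗ₜ[K] δK z) = incl k₀ k K K' (δK z) := by
        generalize δK z = v
        induction v using TensorProduct.induction_on with
        | zero => rw [tmul_zero, LinearEquiv.map_zero, LinearMap.map_zero]
        | add x y hx hy => rw [tmul_add, LinearEquiv.map_add, LinearMap.map_add, hx, hy]
        | tmul b ω =>
          rw [TensorProduct.AlgebraTensorModule.cancelBaseChange_tmul, incl,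
            AlgebraTensorModule.map_tmul, LinearMap.id_apply, Algebra.linearMap_apply,
            Algebra.smul_def, mul_one]
      rw [LinearMap.comp_apply, LinearMap.comp_apply]
      simp only [β, ι, LinearMap.liftBaseChange_tmul, LinearMap.comp_apply, LinearEquiv.coe_coe,
        LinearMap.baseChange_tmul]
      rw [LinearMap.map_smul, δ_natural k₀ k k' K K' z, ← hι1, show c ⊗ₜ[K] δK z = c • ((1 : K') ⊗ₜ[K] δK z) by
        rw [smul_tmul', smul_eq_mul, mul_one], LinearEquiv.map_smul, LinearMap.map_smul]
  have c2 : h' ∘ₗ f = g ∘ₗ h := by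
    refine LinearMap.ext fun w => ?_
    induction w using TensorProduct.induction_on with
    | zero => rw [LinearMap.map_zero, LinearMap.map_zero]
    | add x y hx hy => rw [LinearMap.map_add, LinearMap.map_add, hx, hy]
    | tmul c ω =>
      have hω : ω ∈ Submodule.span k (Set.range (KaehlerDifferential.D k₀ k)) := by
        rw [KaehlerDifferential.span_range_derivation]; trivial
      induction hω using Submodule.span_induction with
      | mem v hv =>
        obtain ⟨r, rfl⟩ := hv
        simp only [LinearMap.comp_apply, f, h, g, h', baseMap_tmul,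
          KaehlerDifferential.mapBaseChange_tmul, KaehlerDifferential.map_D,
          ← IsScalarTower.algebraMap_apply]
      | zero => rw [tmul_zero, LinearMap.map_zero, LinearMap.map_zero]
      | add x y _ _ hx hy => rw [tmul_add, LinearMap.map_add, LinearMap.map_add, hx, hy]
      | smul r x _ hx =>
        rw [tmul_smul, ← algebraMap_smul K' r, LinearMap.map_smul, LinearMap.map_smul, hx]
  have c3 : KaehlerDifferential.map k₀ k' K' K' ∘ₗ g = α ∘ₗ π := by
    refine LinearMap.ext fun w => ?_
    induction w using TensorProduct.induction_on with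
    | zero => rw [LinearMap.map_zero, LinearMap.map_zero]
    | add x y hx hy => rw [LinearMap.map_add, LinearMap.map_add, hx, hy]
    | tmul c ω =>
      have hω : ω ∈ Submodule.span K (Set.range (KaehlerDifferential.D k₀ K)) := by
        rw [KaehlerDifferential.span_range_derivation]; trivial
      induction hω using Submodule.span_induction with
      | mem v hv =>
        obtain ⟨r, rfl⟩ := hv
        simp only [LinearMap.comp_apply, π, g, α, LinearMap.baseChange_tmul,
          LinearMap.liftBaseChange_tmul, KaehlerDifferential.mapBaseChange_tmul, LinearMap.map_smul,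
          KaehlerDifferential.map_D, Algebra.algebraMap_self, RingHom.id_apply]
      | zero => rw [tmul_zero, LinearMap.map_zero, LinearMap.map_zero]
      | add x y _ _ hx hy => rw [tmul_add, LinearMap.map_add, LinearMap.map_add, hx, hy]
      | smul r x _ hx =>
        rw [tmul_smul, ← algebraMap_smul K' r, LinearMap.map_smul, LinearMap.map_smul, hx]
  obtain ⟨a, b, hβ, hα, hab⟩ := CAlg48.IndexSES.fred_four (k := K') ι h π
    (Algebra.H1Cotangent.δ k₀ k' K') h' (KaehlerDifferential.map k₀ k' K' K') hι hex1 hex2 hπ hδK'
    (Algebra.H1Cotangent.exact_δ_mapBaseChange k₀ k' K')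
    (KaehlerDifferential.exact_mapBaseChange_map k₀ k' K')
    (KaehlerDifferential.map_surjective k₀ k' K') β f g α c1 c2 c3 hf hfe
  refine ⟨hα.finite_ker, hα.finite_coker, hβ.finite_ker, hβ.finite_coker, ?_⟩
  have i1 := hα.index_eq
  have i2 := hβ.index_eq
  rw [LinearMap.index_eq_finrank_sub] at i1 i2
  simp only [α, β] at i1 i2
  rw [hd, he, Cardinal.toNat_natCast, Cardinal.toNat_natCast]
  omega

end Groth.Agent.S9320
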