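import Groth.Statements.S9321
import Groth.Agent.CAlg48.PowerSeriesAFS
import Groth.Agent.AdicFS.Basic
import Groth.Agent.FieldSep.MacLane
-- import your own Groth.Agent.* helpers here

set_option autoImplicit false
open CAlg

namespace Groth.Agent.S9321

/-- Let `K` be a field of characteristic zero and `n ≥ 0`. Then `ℚ → K[[x_1, …, x_n]]` is formally
smooth for the adic topology of the maximal ideal of the power series ring. (`K` is taken in the
lowest universe, where `ℚ` lives.) -/
theorem result (K : Type) [Field K] [CharZero K] (n : ℕ) :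
    CAlgX.IsAdicFormallySmooth ℚ (MvPowerSeries (Fin n) K)
      (IsLocalRing.maximalIdeal (MvPowerSeries (Fin n) K)) := by
  have := FieldSep.MacLane.isGeometricallyReduced_of_charZero (k := ℚ) K
  have : Algebra.FormallySmooth ℚ K := (FieldSep.MacLane.formallySmooth_iff ℚ K).mpr this
  exact CAlg48.PowerSeriesAFS.isAdicFormallySmooth ⊥ (AdicFS.Basic.of_formallySmooth ⊥) _
    (fun i => by simp [IsLocalRing.mem_maximalIdeal, mem_nonunits_iff,
      MvPowerSeries.isUnit_iff_constantCoeff]) (by simp)

end Groth.Agent.S9321
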