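import Groth.Statements.S9322
import Groth.Agent.CAlg48.PowerSeriesAFS
import Groth.Agent.AdicFS.Basic
import Groth.Agent.CAlg48.PrimeField
import Mathlib.Algebra.Field.ZMod
-- import your own Groth.Agent.* helpers here

set_option autoImplicit false
open CAlg

namespace Groth.Agent.S9322

/-- Let `p` be a prime, `L` a field of characteristic `p` (given as an algebra over `ℤ/p`) and `n ≥ 0`.
Then `𝔽_p → L[[x_1, …, x_n]]` is formally smooth for the adic topology of the maximal ideal of the
power series ring. (`L` is taken in the lowest universe, where `ℤ/p` lives.) -/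
theorem result (p : ℕ) [Fact p.Prime] (L : Type) [Field L]
    [Algebra (ZMod p) L] (n : ℕ) :
    CAlgX.IsAdicFormallySmooth (ZMod p) (MvPowerSeries (Fin n) L)
      (IsLocalRing.maximalIdeal (MvPowerSeries (Fin n) L)) := by
  have : Algebra.FormallySmooth (ZMod p) L :=
    CAlg48.PrimeField.formallySmooth_of_surjective (F := ZMod p) ZMod.intCast_surjective L
  exact CAlg48.PowerSeriesAFS.isAdicFormallySmooth ⊥ (AdicFS.Basic.of_formallySmooth ⊥) _
    (fun i => by simp [IsLocalRing.mem_maximalIdeal, mem_nonunits_iff,
      MvPowerSeries.isUnit_iff_constantCoeff]) (by simp)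

end Groth.Agent.S9322
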