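import Groth.Statements.S9323
import Groth.Agent.CAlg48.PowerSeriesAFS
import Groth.Agent.AdicFS.Basic
import Groth.Agent.S9455
import Mathlib.Data.ZMod.QuotientRing
import Mathlib.RingTheory.MvPowerSeries.Inverse
-- import your own Groth.Agent.* helpers here

set_option autoImplicit false
open CAlg

namespace Groth.Agent.S9323

/-- Let `Λ` be a Cohen ring (a complete discrete valuation ring whose maximal ideal is generated by a
prime number) and `n ≥ 0`. Then `ℤ → Λ[[x_1, …, x_n]]` is formally smooth for the adic topology of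
the maximal ideal of the power series ring. (`Λ` is taken in the lowest universe, where `ℤ` lives.) -/
theorem result (Λ : Type) [CommRing Λ] [IsLocalRing Λ]
    (hΛ : CAlg.IsCohenRing Λ) (n : ℕ) :
    CAlgX.IsAdicFormallySmooth ℤ (MvPowerSeries (Fin n) Λ)
      (IsLocalRing.maximalIdeal (MvPowerSeries (Fin n) Λ)) := by
  obtain ⟨_, _, _, p, hp, hm⟩ := hΛ
  refine CAlg48.PowerSeriesAFS.isAdicFormallySmooth (Ideal.span {(p : Λ)}) ?_ _
    (fun i => by simp [IsLocalRing.mem_maximalIdeal, mem_nonunits_iff,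
      MvPowerSeries.isUnit_iff_constantCoeff]) ?_
  · intro A _ _ J hJ ψ hψ
    obtain ⟨k, hk⟩ := hψ
    let N := k * 2 + 1
    let φ : ∀ (T : Type) [CommRing T], ((p : T) ^ N = 0) → (ZMod (p ^ N) →+* T) := fun T _ h =>
      (Ideal.Quotient.lift _ (Int.castRingHom T) (fun z hz => by
        obtain ⟨c, rfl⟩ := Ideal.mem_span_singleton'.mp hz
        simp [h])).comp (Int.quotientSpanNatEquivZMod (p ^ N)).symm.toRingHom
    have hA : (p : A) ^ N = 0 := by
      have h1 : (p : A) ^ k ∈ J := by
        rw [← Ideal.Quotient.eq_zero_iff_mem]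
        have := hk ((p : Λ) ^ k) (Ideal.pow_mem_pow (Ideal.mem_span_singleton_self _) k)
        simpa using this
      have h2 := Ideal.pow_mem_pow h1 2
      rw [hJ, Ideal.mem_bot, ← pow_mul] at h2
      change (p : A) ^ (k * 2 + 1) = 0
      rw [pow_succ, h2, zero_mul]
    let _ : Algebra (ZMod (p ^ N)) A := (φ A hA).toAlgebra
    let Q := Λ ⧸ Ideal.span {((p : Λ) ^ N)}
    have hQ : (p : Q) ^ N = 0 := by
      rw [← map_natCast (Ideal.Quotient.mk _), ← map_pow, Ideal.Quotient.eq_zero_iff_mem]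
      exact Ideal.mem_span_singleton_self _
    let _ : Algebra (ZMod (p ^ N)) (Λ ⧸ Ideal.span {((p : Λ) ^ N)}) := (φ Q hQ).toAlgebra
    have := S9455.result Λ p hp hm N (by omega)
    have hle : Ideal.span {((p : Λ) ^ N)} ≤ RingHom.ker ψ.toRingHom := by
      rw [Ideal.span_singleton_le_iff_mem]
      change ψ ((p : Λ) ^ N) = 0
      refine hk _ (Ideal.pow_le_pow_right (by omega : k ≤ N) (Ideal.pow_mem_pow
        (Ideal.mem_span_singleton_self _) N))
    let ψ₀ : Q →+* A ⧸ J := Ideal.Quotient.lift _ ψ.toRingHom hle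
    let ψ₁ : Q →ₐ[ZMod (p ^ N)] A ⧸ J :=
      { ψ₀ with
        commutes' := fun r => by
          obtain ⟨z, rfl⟩ := ZMod.intCast_surjective r
          simp }
    obtain ⟨χ, hχ⟩ := Algebra.FormallySmooth.comp_surjective (ZMod (p ^ N)) Q J hJ ψ₁
    refine ⟨{ χ.toRingHom.comp (Ideal.Quotient.mk _) with commutes' := fun r => by simp },
      AlgHom.ext fun x => ?_⟩
    exact AlgHom.congr_fun hχ (Ideal.Quotient.mk _ x)
  · rw [Ideal.map_span, Set.image_singleton, Ideal.span_singleton_le_iff_mem]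
    rw [IsLocalRing.mem_maximalIdeal, mem_nonunits_iff, MvPowerSeries.isUnit_iff_constantCoeff]
    simp only [map_natCast]
    intro h
    exact (IsLocalRing.maximalIdeal.isMaximal Λ).ne_top
      (hm.trans (Ideal.span_singleton_eq_top.mpr h))

end Groth.Agent.S9323
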