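import Groth.Statements.S9324
import Groth.Agent.Hensel.Pair

set_option autoImplicit false
universe u
open Hensel

namespace Groth.Agent.S9324

open TensorProduct in
/-- Let `(A, I) → (B, J)` be a map of pairs, i.e. `I B ⊆ J`, such that `J` and `I B` have the same
radical, and suppose `A → B` is integral. Let `A^h` be a henselization of the pair `(A, I)`, `B^h` a
henselization of the pair `(B, J)`, and `φ : A^h → B^h` an `A`-algebra homomorphism (there is
exactly one, by the universal property of `A^h`). Then the induced map `A^h ⊗_A B → B^h` is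
bijective: henselization commutes with integral base change. -/
theorem result {A B Ah Bh : Type u} [CommRing A]
    [CommRing B] [CommRing Ah] [CommRing Bh] [Algebra A B] (I : Ideal A) (J : Ideal B)
    (hIJ : I.map (algebraMap A B) ≤ J) (hrad : J.radical = (I.map (algebraMap A B)).radical)
    [Algebra.IsIntegral A B] [Algebra A Ah] (hA : Hens2.IsPairHenselization A I Ah)
    [Algebra B Bh] [Algebra A Bh] [IsScalarTower A B Bh] (hB : Hens2.IsPairHenselization B J Bh)
    (φ : Ah →ₐ[A] Bh) :
    Function.Bijective (Algebra.TensorProduct.productMap φ (IsScalarTower.toAlgHom A B Bh)) := by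
  classical
  let T := Ah ⊗[A] B
  letI : Algebra B T := (Algebra.TensorProduct.includeRight : B →ₐ[A] T).toRingHom.toAlgebra
  have hBA : ∀ a : A, algebraMap B T (algebraMap A B a) = algebraMap A T a := fun a =>
    (Algebra.TensorProduct.includeRight : B →ₐ[A] T).commutes a
  haveI := hA.1
  haveI hT : HenselianRing T (I.map (algebraMap A T)) := by
    have h1 := Hensel.henselianRing_of_isIntegral (I := I.map (algebraMap A Ah)) T
    rwa [Ideal.map_map, ← IsScalarTower.algebraMap_eq A Ah T] at h1
  have hmapI : (I.map (algebraMap A B)).map (algebraMap B T) = I.map (algebraMap A T) := by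
    rw [Ideal.map_map]
    exact congrArg (fun f => Ideal.map f I) (RingHom.ext hBA)
  haveI hTJ : HenselianRing T (J.map (algebraMap B T)) := by
    refine Hensel.henselianRing_of_radical_eq (I := I.map (algebraMap A T)) ?_
    refine (Ideal.map_mono (J.le_radical.trans hrad.le)).trans ?_
    refine (Ideal.map_radical_le (algebraMap B T)).trans ?_
    rw [hmapI]
  obtain ⟨g, hg, -⟩ := hB.2 T (J.map (algebraMap B T)) (algebraMap B T) hTJ le_rfl
  set f := Algebra.TensorProduct.productMap φ (IsScalarTower.toAlgHom A B Bh) with hfdef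
  have hfB : f.toRingHom.comp (algebraMap B T) = algebraMap B Bh := RingHom.ext fun b =>
    Algebra.TensorProduct.productMap_right_apply φ (IsScalarTower.toAlgHom A B Bh) b
  have hfg : f.toRingHom.comp g = RingHom.id Bh := by
    obtain ⟨e, he, huniq⟩ := hB.2 Bh (J.map (algebraMap B Bh)) (algebraMap B Bh) hB.1 le_rfl
    exact (huniq (f.toRingHom.comp g) (show _ = _ by rw [RingHom.comp_assoc, hg, hfB])).trans (huniq (RingHom.id Bh) (RingHom.id_comp _)).symm
  have hgB : ∀ b, g (algebraMap B Bh b) = algebraMap B T b := fun b => RingHom.congr_fun hg b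
  have hgA : ∀ a, g (algebraMap A Bh a) = algebraMap A T a := fun a => by
    rw [IsScalarTower.algebraMap_apply A B Bh, hgB, hBA]
  let g' : Bh →ₐ[A] T := { toRingHom := g, commutes' := hgA }
  have hgf : g'.comp f = AlgHom.id A T := by
    refine Algebra.TensorProduct.ext ?_ ?_
    · obtain ⟨e, he, huniq⟩ := hA.2 T (I.map (algebraMap A T)) (algebraMap A T) hT le_rfl
      refine AlgHom.coe_ringHom_injective ((huniq _ ?_).trans (huniq _ ?_).symm) 
      · exact RingHom.ext fun a => ((g'.comp f).comp Algebra.TensorProduct.includeLeft).commutes a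
      · exact RingHom.ext fun a => ((AlgHom.id A T).comp Algebra.TensorProduct.includeLeft).commutes a
    · ext b
      change g (f (1 ⊗ₜ b)) = (1 : Ah) ⊗ₜ[A] b
      rw [show f (1 ⊗ₜ b) = algebraMap B Bh b from
        Algebra.TensorProduct.productMap_right_apply φ (IsScalarTower.toAlgHom A B Bh) b, hgB]
      rfl
  exact ⟨fun x y h => by
    rw [← AlgHom.id_apply (R := A) x, ← AlgHom.id_apply (R := A) y, ← hgf, AlgHom.comp_apply, AlgHom.comp_apply, h],
    fun z => ⟨g z, RingHom.congr_fun hfg z⟩⟩

end Groth.Agent.S9324
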