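import Groth.Statements.S9325
import Groth.Agent.RegLoc.H1Seq
import Mathlib.RingTheory.Localization.Away.Basic
import Mathlib.RingTheory.Localization.Ideal
-- import your own Groth.Agent.* helpers here

set_option autoImplicit false
universe u
open CAlg

namespace Groth.Agent.S9325

theorem isH1Regular_comp_ringEquiv {B C : Type u} [CommRing B] [CommRing C] (e : B ≃+* C) {c : ℕ}
    (f : Fin c → B) (hf : CAlgX.IsH1Regular f) : CAlgX.IsH1Regular (fun j => e (f j)) := by
  intro a ha
  have h1 := hf (fun j => e.symm (a j)) (by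
    apply e.injective
    simpa [map_sum] using ha)
  let T : Submodule C (Fin c → C) := Submodule.span C
    {v : Fin c → C | ∃ i j : Fin c, v = Pi.single i (e (f j)) - Pi.single j (e (f i))}
  have h2 : ∀ v ∈ Submodule.span B
      {v : Fin c → B | ∃ i j : Fin c, v = Pi.single i (f j) - Pi.single j (f i)},
      (fun j => e (v j)) ∈ T := by
    intro v hv
    induction hv using Submodule.span_induction with
    | mem v hv =>
      obtain ⟨i, j, rfl⟩ := hv
      refine Submodule.subset_span ⟨i, j, funext fun l => ?_⟩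
      simp [Pi.single_apply, apply_ite e]
    | zero =>
      convert T.zero_mem using 1
      funext l; simp
    | add v w _ _ hv hw =>
      convert T.add_mem hv hw using 1
      funext l; simp
    | smul t v _ hv =>
      convert T.smul_mem (e t) hv using 1
      funext l; simp
  simpa using h2 _ h1

/-- Let `A` be a ring and `I ⊆ J` ideals of `A` such that the ideal `J/I` of `A/I` is `H_1`-regular: for
every prime `𝔮` of `A/I` containing `J/I` there is `g ∉ 𝔮` such that the extension of `J/I` to
`(A/I)_g` is generated by an `H_1`-regular sequence (a finite sequence all of whose linear relations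
are combinations of the trivial ones). Then `I ∩ J² = I J`. -/
theorem result {A : Type u} [CommRing A] (I J : Ideal A)
    (hIJ : I ≤ J)
    (h : ∀ (𝔮 : Ideal (A ⧸ I)) [𝔮.IsPrime], J.map (Ideal.Quotient.mk I) ≤ 𝔮 →
      ∃ g : A ⧸ I, g ∉ 𝔮 ∧ ∃ (c : ℕ) (f : Fin c → Localization.Away g),
        CAlgX.IsH1Regular f ∧
          Ideal.span (Set.range f) =
            (J.map (Ideal.Quotient.mk I)).map (algebraMap (A ⧸ I) (Localization.Away g))) :
    I ⊓ J ^ 2 = I * J := by
  refine le_antisymm ?_ (le_inf Ideal.mul_le_left (by rw [sq]; exact Ideal.mul_mono_left hIJ))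
  rintro x ⟨hxI, hxJ⟩
  by_contra hx
  let K : Ideal A := Submodule.comap (LinearMap.mulRight A x) (I * J)
  have hK : K ≠ ⊤ := fun h => hx (by simpa [K] using (K.eq_top_iff_one.1 h))
  obtain ⟨p, hp, hKp⟩ := K.exists_le_maximal hK
  have hJp : J ≤ p := fun j hj => hKp (by
    show j * x ∈ I * J
    rw [mul_comm j x]; exact Ideal.mul_mem_mul hxI hj)
  let q := p.map (Ideal.Quotient.mk I)
  have hpq : q.comap (Ideal.Quotient.mk I) = p := by
    rw [Ideal.comap_map_of_surjective _ Ideal.Quotient.mk_surjective, ← RingHom.ker_eq_comap_bot,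
      Ideal.mk_ker, sup_eq_left]
    exact hIJ.trans hJp
  haveI : q.IsPrime := Ideal.map_isPrime_of_surjective Ideal.Quotient.mk_surjective
    (by rw [Ideal.mk_ker]; exact hIJ.trans hJp)
  obtain ⟨g, hg, c, f, hf, hspan⟩ := h q (Ideal.map_mono hJp)
  obtain ⟨g, rfl⟩ := Ideal.Quotient.mk_surjective g
  let A' := Localization.Away g
  let φ : A' →+* Localization.Away (Ideal.Quotient.mk I g) :=
    IsLocalization.Away.map A' (Localization.Away (Ideal.Quotient.mk I g)) (Ideal.Quotient.mk I) g
  have hφ' : ∀ a, φ (algebraMap A A' a) = algebraMap _ _ (Ideal.Quotient.mk I a) := fun a =>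
    IsLocalization.map_eq _ a
  have hφc : φ.comp (algebraMap A A') = (algebraMap _ _).comp (Ideal.Quotient.mk I) :=
    RingHom.ext hφ'
  have hφ : Function.Surjective φ := by
    intro y
    obtain ⟨⟨a, ⟨_, n, rfl⟩⟩, hy⟩ := IsLocalization.surj (Submonoid.powers (Ideal.Quotient.mk I g)) y
    obtain ⟨a, rfl⟩ := Ideal.Quotient.mk_surjective a
    refine ⟨IsLocalization.mk' A' a (⟨g ^ n, n, rfl⟩ : Submonoid.powers g), ?_⟩
    refine ((IsLocalization.map_units _ (⟨(Ideal.Quotient.mk I g) ^ n, n, rfl⟩ :
      Submonoid.powers (Ideal.Quotient.mk I g))).mul_right_cancel ?_)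
    show _ * algebraMap _ _ ((Ideal.Quotient.mk I g) ^ n) = _
    rw [hy, ← map_pow, ← hφ', ← map_mul, IsLocalization.mk'_spec, hφ']
  have hker : RingHom.ker φ = I.map (algebraMap A A') := by
    refine le_antisymm (fun y hy => ?_) (Ideal.map_le_iff_le_comap.2 fun a ha => by
      rw [Ideal.mem_comap, RingHom.mem_ker, hφ', Ideal.Quotient.eq_zero_iff_mem.2 ha, map_zero])
    obtain ⟨⟨a, t⟩, ht⟩ := IsLocalization.surj (Submonoid.powers g) y
    have h0 : algebraMap _ (Localization.Away (Ideal.Quotient.mk I g))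
        (Ideal.Quotient.mk I a) = 0 := by
      rw [← hφ', ← ht, map_mul, RingHom.mem_ker.1 hy, zero_mul]
    rw [IsLocalization.map_eq_zero_iff (Submonoid.powers (Ideal.Quotient.mk I g))] at h0
    obtain ⟨⟨_, n, rfl⟩, hn⟩ := h0
    have hn' : g ^ n * a ∈ I := Ideal.Quotient.eq_zero_iff_mem.1 (by rw [map_mul, map_pow]; exact hn)
    have := Ideal.mem_map_of_mem (algebraMap A A') hn'
    rw [map_mul, ← ht] at this
    rwa [Ideal.unit_mul_mem_iff_mem _ (IsLocalization.map_units A' (⟨g ^ n, n, rfl⟩ : Submonoid.powers g)),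
      Ideal.mul_unit_mem_iff_mem _ (IsLocalization.map_units A' t)] at this
  choose f' hf' using fun j => hφ (f j)
  have hreg : CAlgX.IsH1Regular (fun j => Ideal.Quotient.mk (RingHom.ker φ) (f' j)) := by
    convert isH1Regular_comp_ringEquiv (RingHom.quotientKerEquivOfSurjective hφ).symm f hf using 2
      with j
    rw [RingEquiv.eq_symm_apply]
    exact hf' j
  let G := Ideal.span (Set.range f')
  have hJ' : J.map (algebraMap A A') = I.map (algebraMap A A') ⊔ G := by
    have h1 : (J.map (algebraMap A A')).map φ = G.map φ := by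
      rw [Ideal.map_map, hφc, ← Ideal.map_map, ← hspan, Ideal.map_span,
        ← Set.range_comp]
      exact congrArg Ideal.span (congrArg Set.range (funext fun j => (hf' j).symm))
    have h2 := congrArg (Ideal.comap φ) h1
    rw [Ideal.comap_map_of_surjective _ hφ, Ideal.comap_map_of_surjective _ hφ,
      ← RingHom.ker_eq_comap_bot, hker, sup_eq_left.2 (Ideal.map_mono hIJ), sup_comm] at h2
    exact h2
  have hmem : algebraMap A A' x ∈ (I * J).map (algebraMap A A') := by
    have hx2 := Ideal.mem_map_of_mem (algebraMap A A') hxJ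
    rw [Ideal.map_pow, hJ', sq, Ideal.sup_mul] at hx2
    obtain ⟨u, hu, v, hv, huv⟩ := Submodule.mem_sup.1 hx2
    rw [Ideal.mul_sup] at hv
    obtain ⟨w, hw, z, hz, hwz⟩ := Submodule.mem_sup.1 hv
    rw [Ideal.map_mul, hJ']
    set P := I.map (algebraMap A A')
    have hu' : u ∈ P * (P ⊔ G) := hu
    have hw' : w ∈ P * (P ⊔ G) := by
      rw [mul_comm] at hw
      exact Ideal.mul_mono_right le_sup_right hw
    rw [← hwz] at huv
    have hzP : z ∈ P := by
      rw [show z = algebraMap A A' x - u - w by rw [← huv]; ring]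
      exact sub_mem (sub_mem (Ideal.mem_map_of_mem _ hxI) (Ideal.mul_le_left hu')) (Ideal.mul_le_left hw')
    have hz' : z ∈ G ^ 2 * P := by
      have := RegLoc.H1Seq.inter_pow_le (RingHom.ker φ) f' hreg 2 ⟨hker ▸ hzP, by rwa [sq]⟩
      rwa [hker] at this
    rw [← huv]
    refine add_mem hu' (add_mem hw' ?_)
    have : G ^ 2 * P ≤ P * (P ⊔ G) := by
      rw [mul_comm]
      exact Ideal.mul_mono_right ((Ideal.pow_le_self two_ne_zero).trans le_sup_right)
    exact this hz'
  rw [IsLocalization.algebraMap_mem_map_algebraMap_iff (Submonoid.powers g)] at hmem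
  obtain ⟨_, ⟨n, rfl⟩, hn⟩ := hmem
  have hgp : g ∈ p := hp.isPrime.mem_of_pow_mem n (hKp (show g ^ n ∈ K from hn))
  exact hg (Ideal.mem_map_of_mem _ hgp)

end Groth.Agent.S9325
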