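import Groth.Statements.S9326
import Mathlib
-- import your own Groth.Agent.* helpers here

set_option autoImplicit false
universe u
open CAlg

namespace Groth.Agent.S9326

/-- Let `u : N → M` be a continuous homomorphism of topological abelian groups. Assume `M` is Hausdorff
and `N` is Hausdorff and complete, linearly topologized (every neighbourhood of zero contains an
open subgroup) and first countable (zero has a countable basis of neighbourhoods). Then exactly one
of two things holds: `u` is an open map; or there is an open subgroup of `N` whose image is nowhere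
dense in `M`. -/
theorem result {N M : Type u} [AddCommGroup N]
    [AddCommGroup M] [UniformSpace N] [IsUniformAddGroup N] [TopologicalSpace M]
    [IsTopologicalAddGroup M] [T2Space M] [T2Space N] [CompleteSpace N] [NonarchimedeanAddGroup N]
    [FirstCountableTopology N] (u : N →+ M) (hu : Continuous u) :
    Xor (IsOpenMap u) (∃ V : OpenAddSubgroup N, IsNowhereDense (u '' (V : Set N))) := by
  classical
  have hnd : ∀ V : OpenAddSubgroup N, IsOpen (u '' (V : Set N)) → ¬ IsNowhereDense (u '' (V : Set N)) := by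
    intro V hV hn
    have h0 : (0 : M) ∈ u '' (V : Set N) := ⟨0, zero_mem V, map_zero u⟩
    have : (0 : M) ∈ interior (closure (u '' (V : Set N))) :=
      interior_maximal subset_closure hV h0
    rw [hn] at this
    exact this
  by_cases hex : ∃ V : OpenAddSubgroup N, IsNowhereDense (u '' (V : Set N))
  · obtain ⟨V, hV⟩ := hex
    exact Or.inr ⟨⟨V, hV⟩, fun ho => hnd V (ho _ V.isOpen) hV⟩
  refine Or.inl ⟨?_, hex⟩
  push Not at hex
  -- closures of images of open subgroups are open subgroups
  let W : OpenAddSubgroup N → AddSubgroup M := fun V => ((V : AddSubgroup N).map u).topologicalClosure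
  have hWopen : ∀ V, IsOpen (W V : Set M) := by
    intro V
    obtain ⟨x, hx⟩ : (interior (closure (u '' (V : Set N)))).Nonempty := Set.nonempty_iff_ne_empty.mpr (hex V)
    exact AddSubgroup.isOpen_of_mem_nhds _ (g := x) (mem_interior_iff_mem_nhds.mp hx)
  obtain ⟨b, hb⟩ := (nhds (0 : N)).exists_antitone_basis
  have hopen : ∀ V : OpenAddSubgroup N, IsOpen (u '' (V : Set N)) := by
    intro V
    -- a decreasing sequence of open subgroups
    have hex' : ∀ n, ∃ U : OpenAddSubgroup N, (U : Set N) ⊆ b n ∩ V := fun n =>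
      NonarchimedeanAddGroup.is_nonarchimedean _ (Filter.inter_mem (hb.mem n) V.mem_nhds_zero)
    choose U hU using hex'
    let Vs : ℕ → OpenAddSubgroup N := fun n => Nat.rec (motive := fun _ => OpenAddSubgroup N) (U 0) (fun i Vi => Vi ⊓ U (i + 1)) n
    have hVU : ∀ n, (SetLike.coe (Vs n) : Set N) ⊆ SetLike.coe (U n) := fun n => by
      rcases n with _ | n
      · exact le_rfl
      · exact fun x hx => hx.2
    have hanti : Antitone fun n => (SetLike.coe (Vs n) : Set N) := antitone_nat_of_succ_le fun n x hx => hx.1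
    suffices hsub : (W (Vs 0) : Set M) ⊆ u '' (V : Set N) by
      exact AddSubgroup.isOpen_of_mem_nhds ((V : AddSubgroup N).map u) (g := 0)
        (Filter.mem_of_superset ((hWopen (Vs 0)).mem_nhds (zero_mem _)) hsub)
    intro y hy
    have hstep : ∀ n, ∀ z ∈ W (Vs n), ∃ v ∈ Vs n, z - u v ∈ W (Vs (n + 1)) := by
      intro n z hz
      have hopen' : IsOpen ((fun w => z - w) ⁻¹' (W (Vs (n + 1)) : Set M)) :=
        (hWopen _).preimage (continuous_const.sub continuous_id)
      obtain ⟨w, hw, hw'⟩ := mem_closure_iff.mp hz _ hopen' (by simp)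
      obtain ⟨v, hv, rfl⟩ := hw'
      exact ⟨v, hv, hw⟩
    choose v hv hv' using hstep
    let ys : (n : ℕ) → {z : M // z ∈ W (Vs n)} := fun n =>
      Nat.rec ⟨y, hy⟩ (fun i z => ⟨z.1 - u (v i z.1 z.2), hv' i z.1 z.2⟩) n
    let t : ℕ → N := fun n => v n (ys n).1 (ys n).2
    let S : ℕ → N := fun n => ∑ i ∈ Finset.range n, t i
    have hSu : ∀ n, y - u (S n) = (ys n).1 := by
      intro n
      induction n with
      | zero => simp [S, ys]
      | succ n ih =>
        show y - u (∑ i ∈ Finset.range (n + 1), t i) = (ys n).1 - u (t n)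
        rw [Finset.sum_range_succ, map_add, ← ih]
        simp only [S]
        abel
    have hS0 : ∀ a c, a ≤ c → S c - S a ∈ Vs a := by
      intro a c hac
      induction c, hac using Nat.le_induction with
      | base => simp
      | succ c hac ih =>
        have h1 : t c ∈ Vs a := hanti hac (hv c (ys c).1 (ys c).2)
        have h2 : S (c + 1) - S a = (S c - S a) + t c := by
          simp only [S, Finset.sum_range_succ]; abel
        rw [h2]
        exact add_mem ih h1
    have hcauchy : CauchySeq S := by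
      rw [cauchySeq_iff, uniformity_eq_comap_nhds_zero N]
      rintro E ⟨T, hT, hE⟩
      obtain ⟨n, -, hn⟩ := hb.toHasBasis.mem_iff.mp hT
      refine ⟨n, fun a ha c hc => hE (hn ((hU n) (hVU n ?_)).1)⟩
      show S c - S a ∈ (SetLike.coe (Vs n) : Set N)
      have := sub_mem (hS0 n c hc) (hS0 n a ha)
      rwa [sub_sub_sub_cancel_right] at this
    obtain ⟨s, hs⟩ := cauchySeq_tendsto_of_complete hcauchy
    have hsV : s ∈ (SetLike.coe (Vs 0) : Set N) :=
      (Vs 0).isClosed.mem_of_tendsto hs (Filter.Eventually.of_forall fun n => by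
        have := hS0 0 n (Nat.zero_le n)
        simpa [S] using this)
    refine ⟨s, ((hU 0) (hVU 0 hsV)).2, ?_⟩
    by_contra hne
    obtain ⟨C, hC, hCc, hCne⟩ : ∃ C ∈ nhds (0 : M), IsClosed C ∧ y - u s ∉ C := by
      obtain ⟨C, hC, hCc, hCs⟩ := exists_mem_nhds_isClosed_subset
        (isOpen_compl_singleton.mem_nhds (show (0 : M) ∈ ({y - u s}ᶜ : Set M) from fun h =>
          hne (sub_eq_zero.mp (Set.mem_singleton_iff.mp h).symm).symm))
      exact ⟨C, hC, hCc, fun h => hCs h rfl⟩
    obtain ⟨n, -, hn⟩ := hb.toHasBasis.mem_iff.mp (hu.tendsto' 0 0 (map_zero u) hC)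
    have hWC : (W (Vs n) : Set M) ⊆ C := closure_minimal
      (Set.image_subset_iff.mpr fun x hx => hn ((hU n) (hVU n hx)).1) hCc
    refine hCne (hCc.mem_of_tendsto (tendsto_const_nhds.sub ((hu.tendsto s).comp hs))
      (Filter.eventually_atTop.mpr ⟨n, fun m hm => hWC ?_⟩))
    show y - u (S m) ∈ (W (Vs n) : Set M)
    rw [hSu]
    exact closure_mono (Set.image_mono (hanti hm)) (ys m).2
  intro O hO
  rw [isOpen_iff_mem_nhds]
  rintro _ ⟨x, hx, rfl⟩
  obtain ⟨V, hV⟩ := NonarchimedeanAddGroup.is_nonarchimedean ((fun z => x + z) ⁻¹' O)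
    ((continuous_add_left x).tendsto' 0 x (add_zero x) (hO.mem_nhds hx))
  have h1 : IsOpen ((fun z => u x + z) '' (u '' (V : Set N))) := (Homeomorph.addLeft (u x)).isOpenMap _ (hopen V)
  refine Filter.mem_of_superset (h1.mem_nhds ⟨0, ⟨0, zero_mem V, map_zero u⟩, add_zero _⟩) ?_
  rintro _ ⟨_, ⟨z, hz, rfl⟩, rfl⟩
  exact ⟨x + z, hV hz, map_add u x z⟩

end Groth.Agent.S9326
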