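import Groth.Statements.S9327
import Groth.Agent.Hensel.TensorMinimal
-- import your own Groth.Agent.* helpers here

set_option autoImplicit false
universe u
open Hensel

namespace Groth.Agent.S9327

open TensorProduct IsLocalRing in
/-- Let `k` be an algebraically closed field and `A`, `B` henselian local `k`-algebras with residue
field `k` (the composites `k → A → A/m_A` and `k → B → B/m_B` are bijective; as `k` is algebraically
closed, `A` and `B` are strictly henselian). Let `𝔪 = m_A ⊗ B + A ⊗ m_B`, a maximal ideal of `A ⊗_k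
B`, and let `C` be a strict henselization of the local ring `(A ⊗_k B)_𝔪`. Then sending a prime of
`C` to the pair of its preimages in `A` and in `B` is a bijection from the set of minimal primes of
`C` onto the set of pairs (minimal prime of `A`, minimal prime of `B`). -/
theorem result {k A B C : Type u} [Field k]
    [IsAlgClosed k] [CommRing A] [CommRing B] [HenselianLocalRing A] [HenselianLocalRing B]
    [Algebra k A] [Algebra k B]
    (hA : Function.Bijective ((residue A).comp (algebraMap k A)))
    (hB : Function.Bijective ((residue B).comp (algebraMap k B)))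
    (𝔪 : Ideal (A ⊗[k] B)) [𝔪.IsPrime]
    (h𝔪 : 𝔪 = (maximalIdeal A).map (Algebra.TensorProduct.includeLeft : A →ₐ[k] A ⊗[k] B) ⊔
      (maximalIdeal B).map (Algebra.TensorProduct.includeRight : B →ₐ[k] A ⊗[k] B))
    [CommRing C] [IsLocalRing C] [Algebra (Localization.AtPrime 𝔪) C]
    [IsLocalHom (algebraMap (Localization.AtPrime 𝔪) C)]
    [Hensel.IsStrictHenselization (Localization.AtPrime 𝔪) C] :
    Set.BijOn
      (fun 𝔯 : Ideal C =>
        (𝔯.comap ((algebraMap (Localization.AtPrime 𝔪) C).comp
            ((algebraMap (A ⊗[k] B) (Localization.AtPrime 𝔪)).comp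
              (Algebra.TensorProduct.includeLeft : A →ₐ[k] A ⊗[k] B).toRingHom)),
          𝔯.comap ((algebraMap (Localization.AtPrime 𝔪) C).comp
            ((algebraMap (A ⊗[k] B) (Localization.AtPrime 𝔪)).comp
              (Algebra.TensorProduct.includeRight : B →ₐ[k] A ⊗[k] B).toRingHom))))
      (minimalPrimes C) (minimalPrimes A ×ˢ minimalPrimes B) := by
  haveI : IsLocalHom (algebraMap (Localization.AtPrime 𝔪) C) := inferInstance
  have hEt := Groth.Agent.Hensel.isEtLike_of_isStrictHenselization (Localization.AtPrime 𝔪) C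
  haveI := hEt.flat
  haveI : Module.FaithfullyFlat (Localization.AtPrime 𝔪) C :=
    Module.FaithfullyFlat.of_flat_of_isLocalHom
  -- residue fields
  have happ : ∀ z : A ⊗[k] B, ∃ c : k, z - algebraMap k _ c ∈ 𝔪 := by
    intro z
    induction z using TensorProduct.induction_on with
    | zero => exact ⟨0, by simp⟩
    | add x y hx hy =>
      obtain ⟨c, hc⟩ := hx
      obtain ⟨d, hd⟩ := hy
      exact ⟨c + d, by rw [map_add, add_sub_add_comm]; exact add_mem hc hd⟩
    | tmul a b =>
      obtain ⟨c, hc⟩ := hA.2 (residue A a)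
      obtain ⟨d, hd⟩ := hB.2 (residue B b)
      have hc' : a - algebraMap k A c ∈ maximalIdeal A := by
        rw [← residue_eq_zero_iff, map_sub, sub_eq_zero]; exact hc.symm
      have hd' : b - algebraMap k B d ∈ maximalIdeal B := by
        rw [← residue_eq_zero_iff, map_sub, sub_eq_zero]; exact hd.symm
      refine ⟨c * d, ?_⟩
      have e : a ⊗ₜ[k] b - algebraMap k (A ⊗[k] B) (c * d) =
          (Algebra.TensorProduct.includeLeft : A →ₐ[k] A ⊗[k] B) (a - algebraMap k A c) *
            (Algebra.TensorProduct.includeRight : B →ₐ[k] A ⊗[k] B) b +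
          algebraMap k (A ⊗[k] B) c *
            (Algebra.TensorProduct.includeRight : B →ₐ[k] A ⊗[k] B) (b - algebraMap k B d) := by
        rw [map_sub, map_sub, AlgHom.commutes, AlgHom.commutes, map_mul,
          show a ⊗ₜ[k] b = (Algebra.TensorProduct.includeLeft : A →ₐ[k] A ⊗[k] B) a *
            (Algebra.TensorProduct.includeRight : B →ₐ[k] A ⊗[k] B) b by
              rw [Algebra.TensorProduct.includeLeft_apply, Algebra.TensorProduct.includeRight_apply,
                Algebra.TensorProduct.tmul_mul_tmul, mul_one, one_mul]]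
        ring
      rw [h𝔪, e]
      exact add_mem (Ideal.mul_mem_right _ _ (Ideal.mem_sup_left (Ideal.mem_map_of_mem _ hc')))
        (Ideal.mul_mem_left _ _ (Ideal.mem_sup_right (Ideal.mem_map_of_mem _ hd')))
  let κ := ResidueField (Localization.AtPrime 𝔪)
  let ι : k →+* κ := (residue _).comp ((algebraMap (A ⊗[k] B) _).comp (algebraMap k (A ⊗[k] B)))
  have hι : Function.Bijective ι := by
    have hmk : ∀ x : A ⊗[k] B, ∃ c, ι c = residue _ (algebraMap _ (Localization.AtPrime 𝔪) x) := by
      intro x
      obtain ⟨c, hc⟩ := happ x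
      refine ⟨c, (sub_eq_zero.1 ?_).symm⟩
      show residue _ (algebraMap (A ⊗[k] B) (Localization.AtPrime 𝔪) x) -
        residue _ (algebraMap (A ⊗[k] B) (Localization.AtPrime 𝔪) (algebraMap k (A ⊗[k] B) c)) = 0
      rw [← map_sub, ← map_sub, residue_eq_zero_iff]
      exact (IsLocalization.AtPrime.to_map_mem_maximal_iff _ 𝔪 _).2 hc
    refine ⟨ι.injective, fun y => ?_⟩
    obtain ⟨z, rfl⟩ := residue_surjective y
    obtain ⟨x, s, rfl⟩ := IsLocalization.exists_mk'_eq 𝔪.primeCompl z
    obtain ⟨c, hc⟩ := hmk x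
    obtain ⟨d, hd⟩ := hmk s
    have hd0 : ι d ≠ 0 := by
      rw [hd, Ne, residue_eq_zero_iff, IsLocalization.AtPrime.to_map_mem_maximal_iff _ 𝔪]
      exact s.2
    refine ⟨c / d, ?_⟩
    rw [map_div₀, div_eq_iff hd0, hc, hd, ← map_mul, IsLocalization.mk'_spec]
  haveI : IsAlgClosed κ := IsAlgClosed.of_ringEquiv k κ (RingEquiv.ofBijective ι hι)
  have hres : Function.Bijective (ResidueField.map (algebraMap (Localization.AtPrime 𝔪) C)) := by
    haveI := Hensel.IsStrictHenselization.isSepClosure (R := Localization.AtPrime 𝔪) (S := C)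
    haveI : Algebra.IsSeparable κ (ResidueField C) := IsSepClosure.separable
    exact IsAlgClosed.algebraMap_bijective_of_isIntegral (k := κ) (K := ResidueField C)
  -- notation for the structure maps
  let toC : A ⊗[k] B →+* C :=
    (algebraMap (Localization.AtPrime 𝔪) C).comp (algebraMap (A ⊗[k] B) (Localization.AtPrime 𝔪))
  have hminT : ∀ r ∈ minimalPrimes C, r.comap toC ∈ minimalPrimes (A ⊗[k] B) := fun r hr => by
    show r.comap ((algebraMap (Localization.AtPrime 𝔪) C).comp _) ∈ _
    rw [← Ideal.comap_comap]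
    haveI : Module.Flat (A ⊗[k] B) (Localization.AtPrime 𝔪) := IsLocalization.flat _ 𝔪.primeCompl
    exact Groth.Agent.Hens.comap_mem_minimalPrimes_of_flat
      (Groth.Agent.Hens.comap_mem_minimalPrimes_of_flat hr)
  have hmaps : ∀ P ∈ minimalPrimes (A ⊗[k] B),
      P.comap (Algebra.TensorProduct.includeLeft : A →ₐ[k] A ⊗[k] B) ∈ minimalPrimes A ∧
      P.comap (Algebra.TensorProduct.includeRight : B →ₐ[k] A ⊗[k] B) ∈ minimalPrimes B := by
    intro P hP
    refine ⟨Groth.Agent.Hens.comap_mem_minimalPrimes_of_flat (R := A) hP, ?_⟩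
    let e := (Algebra.TensorProduct.comm k B A).toRingEquiv
    have hP' : P.comap e.toRingHom ∈ minimalPrimes (B ⊗[k] A) := by
      haveI := hP.1.1
      refine ⟨⟨inferInstance, bot_le⟩, fun q hq hle => ?_⟩
      haveI := hq.1
      have h2 : q.comap e.symm.toRingHom ≤ P := fun x hx => by
        have h5 : e (e.symm x) ∈ P := hle hx
        rwa [e.apply_symm_apply] at h5
      have h3 := hP.2 ⟨inferInstance, bot_le⟩ h2
      intro x hx
      have h5 : e.symm (e x) ∈ q := h3 hx
      rwa [e.symm_apply_apply] at h5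
    have h4 := Groth.Agent.Hens.comap_mem_minimalPrimes_of_flat (R := B) hP'
    rw [Ideal.comap_comap] at h4
    convert h4 using 2
    ext b
    simp [e, Ideal.mem_comap]
  -- the prime attached to a pair
  have hpair := fun (p : Ideal A) (_ : p.IsPrime) (q : Ideal B) (_ : q.IsPrime) =>
    Groth.Agent.Hensel.TensorMinimal.exists_prime_pair k A hA B hB 𝔪 h𝔪 C hEt hres p q
  -- the prime over a minimal prime
  have hkey : ∀ r ∈ minimalPrimes C,
      r = ((((r.comap toC).comap (Algebra.TensorProduct.includeLeft : A →ₐ[k] A ⊗[k] B)).map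
        (Algebra.TensorProduct.includeLeft : A →ₐ[k] A ⊗[k] B) ⊔
        ((r.comap toC).comap (Algebra.TensorProduct.includeRight : B →ₐ[k] A ⊗[k] B)).map
        (Algebra.TensorProduct.includeRight : B →ₐ[k] A ⊗[k] B)).map
          (algebraMap _ (Localization.AtPrime 𝔪))).map (algebraMap (Localization.AtPrime 𝔪) C) := by
    intro r hr
    haveI := hr.1.1
    obtain ⟨P, hP, -, hPdef, -, -, hPC⟩ :=
      hpair ((r.comap toC).comap (Algebra.TensorProduct.includeLeft : A →ₐ[k] A ⊗[k] B)) inferInstance
        ((r.comap toC).comap (Algebra.TensorProduct.includeRight : B →ₐ[k] A ⊗[k] B)) inferInstance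
    rw [← hPdef]
    have hle : P ≤ r.comap toC := hPdef.le.trans (sup_le Ideal.map_comap_le Ideal.map_comap_le)
    have hle' : (P.map (algebraMap _ (Localization.AtPrime 𝔪))).map
        (algebraMap (Localization.AtPrime 𝔪) C) ≤ r := by
      rw [Ideal.map_map, Ideal.map_le_iff_le_comap]
      exact hle
    exact le_antisymm (hr.2 ⟨hPC, bot_le⟩ hle') hle'
  refine ⟨fun r hr => ⟨(hmaps _ (hminT r hr)).1, (hmaps _ (hminT r hr)).2⟩, ?_, ?_⟩
  · intro r hr r' hr' hrr
    rw [hkey r hr, hkey r' hr']
    simp only [Prod.mk.injEq] at hrr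
    congr 3
    · congr 1
      exact hrr.1
    · congr 1
      exact hrr.2
  · rintro ⟨p, q⟩ ⟨hp, hq⟩
    haveI := hp.1.1
    haveI := hq.1.1
    obtain ⟨P, hP, hPm, hPdef, hPA, hPB, hPC⟩ := hpair p inferInstance q inferInstance
    let r := (P.map (algebraMap _ (Localization.AtPrime 𝔪))).map (algebraMap (Localization.AtPrime 𝔪) C)
    have hrT : r.comap toC = P := by
      show r.comap ((algebraMap (Localization.AtPrime 𝔪) C).comp _) = P
      rw [← Ideal.comap_comap, Ideal.comap_map_eq_self_of_faithfullyFlat]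
      exact IsLocalization.comap_map_of_isPrime_disjoint 𝔪.primeCompl _ hP
        (Set.disjoint_left.2 fun x hx hxP => hx (hPm hxP))
    refine ⟨r, ⟨⟨hPC, bot_le⟩, fun r' hr' hle => ?_⟩, ?_⟩
    · haveI := hr'.1
      have hT : r'.comap toC ≤ P := hrT ▸ Ideal.comap_mono hle
      have h1 : p ≤ (r'.comap toC).comap (Algebra.TensorProduct.includeLeft : A →ₐ[k] A ⊗[k] B) :=
        hp.2 ⟨inferInstance, bot_le⟩ (hPA ▸ Ideal.comap_mono hT)
      have h2 : q ≤ (r'.comap toC).comap (Algebra.TensorProduct.includeRight : B →ₐ[k] A ⊗[k] B) :=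
        hq.2 ⟨inferInstance, bot_le⟩ (hPB ▸ Ideal.comap_mono hT)
      show (P.map _).map _ ≤ r'
      rw [Ideal.map_map, Ideal.map_le_iff_le_comap, hPdef]
      exact sup_le (Ideal.map_le_iff_le_comap.2 h1) (Ideal.map_le_iff_le_comap.2 h2)
    · refine Prod.ext ?_ ?_
      · exact (congrArg (Ideal.comap (Algebra.TensorProduct.includeLeft : A →ₐ[k] A ⊗[k] B)) hrT).trans hPA
      · exact (congrArg (Ideal.comap (Algebra.TensorProduct.includeRight : B →ₐ[k] A ⊗[k] B)) hrT).trans hPB

end Groth.Agent.S9327
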