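import Groth.Statements.S9329
import Mathlib
import Groth.Agent.S7132
import Groth.Agent.EtRamLib.Abhyankar

set_option autoImplicit false
universe u
open EtRam

namespace Groth.Agent.S9329

open Polynomial IsLocalRing in
/-- Let `K` be the fraction field of a discrete valuation ring `A`, let `π` be a uniformizer of `A`, and
let `L` be a finite separable extension of `K` which is tamely ramified with respect to `A`. Then
there is `e₀ ≥ 1` invertible in the residue field of `A` such that for each `d ≥ 1` that is also
invertible in the residue field, setting `e = d e₀` and `A' = A[z]/(z^e - π)`, there is a finite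
separable extension `L'` of `K` into which `L` embeds over `K`, carrying an `A'`-algebra structure
extending `A → K → L'`, such that `L'` is unramified with respect to `A'`. (The local-ring instance
on `A'`, which holds, is quantified as a hypothesis.) -/
theorem result
    {A K L : Type u} [CommRing A] [IsDomain A]
    [IsDiscreteValuationRing A] [Field K] [Algebra A K] [IsFractionRing A K] [Field L] [Algebra K L]
    [Algebra A L] [IsScalarTower A K L] [FiniteDimensional K L] [Algebra.IsSeparable K L]
    (π : A) (hπ : maximalIdeal A = Ideal.span {π}) (h : EtRam.IsTamelyRamified A (algebraMap A L)) :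
    ∃ e₀ : ℕ, 0 < e₀ ∧ (e₀ : ResidueField A) ≠ 0 ∧
      ∀ d : ℕ, 0 < d → (d : ResidueField A) ≠ 0 →
        ∃ (L' : Type u) (_ : Field L') (_ : Algebra K L')
          (_ : Algebra (AdjoinRoot (X ^ (d * e₀) - C π : A[X])) L') (_ : L →ₐ[K] L'),
          FiniteDimensional K L' ∧ Algebra.IsSeparable K L' ∧
          (algebraMap (AdjoinRoot (X ^ (d * e₀) - C π : A[X])) L').comp (AdjoinRoot.of (X ^ (d * e₀) - C π)) =
            (algebraMap K L').comp (algebraMap A K) ∧
          ∀ [IsLocalRing (AdjoinRoot (X ^ (d * e₀) - C π : A[X]))],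
            EtRam.IsUnramifiedExt (AdjoinRoot (X ^ (d * e₀) - C π : A[X]))
              (algebraMap (AdjoinRoot (X ^ (d * e₀) - C π : A[X])) L') := by
  classical
  obtain rfl : ‹Algebra A L› = ((algebraMap K L).comp (algebraMap A K)).toAlgebra :=
    Algebra.algebra_ext _ _ fun a ↦ IsScalarTower.algebraMap_apply A K L a
  replace h : EtRam.IsTamelyRamified A ((algebraMap K L).comp (algebraMap A K)) := h
  set n := Module.finrank K L with hn
  let e₀ := ∏ m ∈ (Finset.range (n + 1)).filter (fun m : ℕ ↦ (m : ResidueField A) ≠ 0), m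
  have he₀ : (e₀ : ResidueField A) ≠ 0 := by
    rw [Nat.cast_prod, Finset.prod_ne_zero_iff]
    exact fun m hm ↦ (Finset.mem_filter.1 hm).2
  have he₀pos : 0 < e₀ := Nat.pos_of_ne_zero fun h0 ↦ he₀ (by rw [h0, Nat.cast_zero])
  have hdvd : ∀ (V : ValuationSubring L) (hV : EtRam.Dominates A ((algebraMap K L).comp (algebraMap A K)) V),
      letI : Algebra A V := (RingHom.codRestrict ((algebraMap K L).comp (algebraMap A K)) V hV.1).toAlgebra
      Ideal.ramificationIdx' (maximalIdeal A) (maximalIdeal V) ∣ e₀ := by
    intro V hV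
    letI : Algebra A V := (RingHom.codRestrict ((algebraMap K L).comp (algebraMap A K)) V hV.1).toAlgebra
    haveI : IsLocalHom (algebraMap A V) := EtRamLib.ValTower.isLocalHom_of_dominates V hV
    haveI : IsDiscreteValuationRing V := EtRamLib.ValTower.isDiscreteValuationRing_of_dominates A K L V hV
    letI : Algebra A L := ((algebraMap K L).comp (algebraMap A K)).toAlgebra
    haveI : IsScalarTower A K L := IsScalarTower.of_algebraMap_eq fun _ ↦ rfl
    haveI : IsScalarTower A V L := IsScalarTower.of_algebraMap_eq fun _ ↦ rfl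
    have hinj : Function.Injective (algebraMap A V) := EtRamLib.ValTower.algebraMap_injective_of_dominates V hV
    obtain ⟨hfin, hle⟩ := Groth.Agent.S7132.result A V K L hinj
    haveI := hfin
    obtain ⟨π₁, hπ₁⟩ := IsDiscreteValuationRing.exists_irreducible A
    obtain ⟨ϖ, hϖ⟩ := IsDiscreteValuationRing.exists_irreducible V
    obtain ⟨eV, u, heV, -, hidx⟩ := EtRamLib.exists_ramificationIdx hinj hπ₁ hϖ
    have hu := EtRamLib.WildFix.isUnit_natCast (A := A) heV fun q hq hc ↦ hidx ▸ (h V hV).2 q hq hc
    rw [hidx] at hle ⊢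
    refine Finset.dvd_prod_of_mem _ (Finset.mem_filter.2 ⟨Finset.mem_range.2 ?_, ?_⟩)
    · exact Nat.lt_succ_of_le ((Nat.le_mul_of_pos_right _ Module.finrank_pos).trans hle)
    · rw [← map_natCast (residue A)]; exact (hu.map _).ne_zero
  refine ⟨e₀, he₀pos, he₀, fun d hd hd0 ↦ ?_⟩
  set e := d * e₀ with he
  have hepos : 0 < e := Nat.mul_pos hd he₀pos
  have heK : (e : ResidueField A) ≠ 0 := by rw [he, Nat.cast_mul]; exact mul_ne_zero hd0 he₀
  have hirr : Irreducible π := (IsDiscreteValuationRing.irreducible_iff_uniformizer π).2 hπ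
  obtain ⟨hdom, hdvr, hmax, hroot, hinjA', hint⟩ := EtRamLib.Abhyankar.facts π hπ hepos
  haveI := hdom
  haveI := hdvr
  set f : A[X] := X ^ e - C π with hf
  let K' := FractionRing (AdjoinRoot f)
  have hinjK' : Function.Injective ((algebraMap (AdjoinRoot f) K').comp (AdjoinRoot.of f)) :=
    (IsFractionRing.injective (AdjoinRoot f) K').comp hinjA'
  letI : Algebra K K' := (IsFractionRing.lift hinjK').toAlgebra
  have hKK' : ∀ a, algebraMap K K' (algebraMap A K a) = algebraMap (AdjoinRoot f) K' (AdjoinRoot.of f a) :=
    fun a ↦ IsFractionRing.lift_algebraMap hinjK' a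
  let Ω := SeparableClosure K
  let i : L →ₐ[K] Ω := IsSepClosed.lift
  haveI : FiniteDimensional K i.fieldRange := Module.Finite.equiv (AlgEquiv.ofInjectiveField i).toLinearEquiv
  have hπK : algebraMap A K π ≠ 0 := (map_ne_zero_iff _ (IsFractionRing.injective A K)).2 hirr.ne_zero
  have hsepf : (X ^ e - C (algebraMap A K π) : K[X]).Separable :=
    separable_X_pow_sub_C _ (EtRamLib.Abhyankar.natCast_ne_zero heK) hπK
  obtain ⟨r, hr⟩ := IsSepClosed.exists_root ((X ^ e - C (algebraMap A K π) : K[X]).map (algebraMap K Ω))
    (by rw [degree_map, degree_X_pow_sub_C hepos]; exact_mod_cast hepos.ne') hsepf.map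
  have hr' : r ^ e = algebraMap K Ω (algebraMap A K π) := by
    simpa [IsRoot, sub_eq_zero] using hr
  haveI : FiniteDimensional K (IntermediateField.adjoin K {r}) :=
    IntermediateField.adjoin.finiteDimensional (Algebra.IsIntegral.isIntegral r)
  let E : IntermediateField K Ω := i.fieldRange ⊔ IntermediateField.adjoin K {r}
  haveI : FiniteDimensional K E := IntermediateField.finiteDimensional_sup _ _
  let N : IntermediateField K Ω := IntermediateField.normalClosure K E Ω
  haveI : IsGalois K N := { }
  let j : L →ₐ[K] N := AlgHom.codRestrict i N.toSubalgebra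
    fun x ↦ E.le_normalClosure (le_sup_left (b := IntermediateField.adjoin K {r}) ⟨x, rfl⟩)
  let r' : N := ⟨r, E.le_normalClosure (le_sup_right (a := i.fieldRange)
    (IntermediateField.mem_adjoin_simple_self K r))⟩
  have hr'' : r' ^ e = algebraMap K N (algebraMap A K π) := Subtype.ext hr'
  letI : Algebra A N := ((algebraMap K N).comp (algebraMap A K)).toAlgebra
  let ψ : AdjoinRoot f →+* N := AdjoinRoot.lift (algebraMap A N) r' (by
    simp [hf, hr'', RingHom.algebraMap_toAlgebra])
  have hψ : Function.Injective ψ := by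
    rw [RingHom.injective_iff_ker_eq_bot]
    haveI : (RingHom.ker ψ).IsPrime := RingHom.ker_isPrime ψ
    haveI := hint
    refine Ideal.eq_bot_of_comap_eq_bot (R := A) ?_
    rw [eq_bot_iff]
    intro a ha
    rw [Ideal.mem_comap, RingHom.mem_ker, AdjoinRoot.algebraMap_eq, AdjoinRoot.lift_of] at ha
    exact Ideal.mem_bot.2 (IsFractionRing.injective A K ((algebraMap K N).injective
      (ha.trans (by simp))))
  letI : Algebra K' N := (IsFractionRing.lift hψ).toAlgebra
  have hK'N : ∀ a, algebraMap K' N (algebraMap (AdjoinRoot f) K' a) = ψ a := fun a ↦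
    IsFractionRing.lift_algebraMap hψ a
  haveI : IsScalarTower K K' N := IsScalarTower.of_algebraMap_eq' (by
    refine IsLocalization.ringHom_ext (nonZeroDivisors A) (RingHom.ext fun a ↦ ?_)
    change algebraMap K N (algebraMap A K a) = algebraMap K' N (algebraMap K K' (algebraMap A K a))
    rw [hKK', hK'N]
    simp only [ψ, AdjoinRoot.lift_of]
    rfl)
  haveI : FiniteDimensional K' N := Module.Finite.of_restrictScalars_finite K K' N
  haveI : IsGalois K' N := IsGalois.tower_top_of_isGalois K K' N
  let M : IntermediateField K' N := IntermediateField.adjoin K' (Set.range j)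
  let j' : L →ₐ[K] M :=
    { toFun := fun x ↦ ⟨j x, IntermediateField.subset_adjoin _ _ ⟨x, rfl⟩⟩
      map_one' := Subtype.ext (map_one j)
      map_mul' := fun a b ↦ Subtype.ext (map_mul j a b)
      map_zero' := Subtype.ext (map_zero j)
      map_add' := fun a b ↦ Subtype.ext (map_add j a b)
      commutes' := fun c ↦ Subtype.ext (j.commutes c) }
  haveI : IsScalarTower K M N := IsScalarTower.of_algebraMap_eq fun c ↦ by
    rw [IsScalarTower.algebraMap_apply K K' N, IsScalarTower.algebraMap_apply K K' M, ← IsScalarTower.algebraMap_apply K' M N]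
  letI algM : Algebra (AdjoinRoot f) M := ((algebraMap K' M).comp (algebraMap (AdjoinRoot f) K')).toAlgebra
  refine ⟨M, inferInstance, inferInstance, algM, j', ?_, ?_, ?_, ?_⟩
  · exact Module.Finite.of_injective ((IntermediateField.val M).restrictScalars K).toLinearMap Subtype.val_injective
  · exact Algebra.isSeparable_tower_bot_of_isSeparable K M N
  · refine RingHom.ext fun a ↦ ?_
    change algebraMap K' M (algebraMap (AdjoinRoot f) K' (AdjoinRoot.of f a)) = algebraMap K M (algebraMap A K a)
    rw [← hKK', ← IsScalarTower.algebraMap_apply]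
  · intro _
    refine EtRamLib.WildFixField.isUnramifiedExt_of_fixed (A := AdjoinRoot f) (K := K') (N := N) M
      fun W hW σ hσ x ↦ ?_
    haveI : IsDiscreteValuationRing W :=
      EtRamLib.ValTower.isDiscreteValuationRing_of_dominates (AdjoinRoot f) K' N W hW
    have hAN : ∀ a : A, algebraMap K N (algebraMap A K a) =
        algebraMap K' N (algebraMap (AdjoinRoot f) K' (AdjoinRoot.of f a)) := fun a ↦ by
      rw [IsScalarTower.algebraMap_apply K K' N, hKK']
    have hloc : ∀ a ∈ maximalIdeal A, AdjoinRoot.of f a ∈ maximalIdeal (AdjoinRoot f) := by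
      intro a ha
      rw [hπ, Ideal.mem_span_singleton] at ha
      obtain ⟨b, rfl⟩ := ha
      rw [hmax, Ideal.mem_span_singleton, map_mul, ← hroot]
      exact (dvd_pow_self _ hepos.ne').mul_right _
    have hWA : EtRam.Dominates A ((algebraMap K N).comp (algebraMap A K)) W :=
      ⟨fun a ↦ by rw [RingHom.comp_apply, hAN]; exact hW.1 _, fun a ha ↦ by
        rw [RingHom.comp_apply, hAN]; exact hW.2 _ (hloc a ha)⟩
    letI : Algebra L N := j.toRingHom.toAlgebra
    haveI : IsScalarTower K L N := IsScalarTower.of_algebraMap_eq fun c ↦ (j.commutes c).symm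
    have hr'K : r' = algebraMap K' N (algebraMap (AdjoinRoot f) K' (AdjoinRoot.root f)) := by
      rw [hK'N]; exact (AdjoinRoot.lift_root _).symm
    have key : ∀ y : L, σ (j y) = j y :=
      EtRamLib.Abhyankar.fix_of_root L N π hirr h W hWA (σ : N →+* N)
        (fun c ↦ by rw [IsScalarTower.algebraMap_apply K K' N]; exact σ.commutes _) hσ r' e hr''
        (by rw [hr'K]; exact σ.commutes _) (fun V hV ↦ (hdvd V hV).trans (Dvd.intro_left d rfl))
    obtain ⟨x, hx⟩ := x
    change σ x = x
    induction hx using IntermediateField.adjoin_induction with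
    | mem y hy => obtain ⟨y, rfl⟩ := hy; exact key y
    | algebraMap c => exact σ.commutes c
    | add a b _ _ ha hb => rw [map_add, ha, hb]
    | inv a _ ha => rw [map_inv₀, ha]
    | mul a b _ _ ha hb => rw [map_mul, ha, hb]

end Groth.Agent.S9329
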