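import Groth.Statements.S9328
import Mathlib
import Groth.Agent.S9329

set_option autoImplicit false
universe u
open EtRam

namespace Groth.Agent.S9328

open Polynomial IsLocalRing in
/-- Let `K` be the fraction field of a discrete valuation ring `A`, let `π` be a uniformizer of `A`, and
let `L` be a finite separable extension of `K`. For `e ≥ 1` write `A' = A[z]/(z^e - π)`, a discrete
valuation ring whose fraction field is `K' = K[π^{1/e}]`. Then `L` is tamely ramified with respect
to `A` if and only if there exist `e ≥ 1` invertible in the residue field of `A` and a finite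
separable extension `L'` of `K` into which `L` embeds over `K`, carrying an `A'`-algebra structure
extending `A → K → L'` (so `K' ⊆ L'`), such that `L'` is unramified with respect to `A'`. (The
local-ring instance on `A'`, which holds, is quantified as a hypothesis.) -/
theorem result {A K L : Type u} [CommRing A] [IsDomain A]
    [IsDiscreteValuationRing A] [Field K] [Algebra A K] [IsFractionRing A K] [Field L] [Algebra K L]
    [Algebra A L] [IsScalarTower A K L] [FiniteDimensional K L] [Algebra.IsSeparable K L]
    (π : A) (hπ : maximalIdeal A = Ideal.span {π}) :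
    EtRam.IsTamelyRamified A (algebraMap A L) ↔
      ∃ e : ℕ, 0 < e ∧ (e : ResidueField A) ≠ 0 ∧
        ∃ (L' : Type u) (_ : Field L') (_ : Algebra K L')
          (_ : Algebra (AdjoinRoot (X ^ e - C π : A[X])) L') (_ : L →ₐ[K] L'),
          FiniteDimensional K L' ∧ Algebra.IsSeparable K L' ∧
          (algebraMap (AdjoinRoot (X ^ e - C π : A[X])) L').comp (AdjoinRoot.of (X ^ e - C π)) =
            (algebraMap K L').comp (algebraMap A K) ∧
          ∀ [IsLocalRing (AdjoinRoot (X ^ e - C π : A[X]))],
            EtRam.IsUnramifiedExt (AdjoinRoot (X ^ e - C π : A[X]))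
              (algebraMap (AdjoinRoot (X ^ e - C π : A[X])) L') := by
  classical
  refine ⟨fun h ↦ ?_, ?_⟩
  · obtain ⟨e₀, he₀, he₀', hd⟩ := Groth.Agent.S9329.result (K := K) (L := L) π hπ h
    have h1 := hd 1 one_pos (by simp)
    rw [one_mul] at h1
    exact ⟨e₀, he₀, he₀', h1⟩
  rintro ⟨e, hepos, heK, L', i1, i2, i3, iL, hfin, hsep, hcomp, hunr⟩
  obtain rfl : ‹Algebra A L› = ((algebraMap K L).comp (algebraMap A K)).toAlgebra :=
    Algebra.algebra_ext _ _ fun a ↦ IsScalarTower.algebraMap_apply A K L a
  show EtRam.IsTamelyRamified A ((algebraMap K L).comp (algebraMap A K))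
  haveI := hfin
  haveI := hsep
  have hirr : Irreducible π := (IsDiscreteValuationRing.irreducible_iff_uniformizer π).2 hπ
  obtain ⟨hdom, hdvr, hmax, hroot, hinjA', hint⟩ := EtRamLib.Abhyankar.facts π hπ hepos
  haveI := hdom
  haveI := hdvr
  set ψ := algebraMap (AdjoinRoot (X ^ e - C π : A[X])) L' with hψdef
  have hψ : Function.Injective ψ := by
    rw [RingHom.injective_iff_ker_eq_bot]
    haveI : (RingHom.ker ψ).IsPrime := RingHom.ker_isPrime ψ
    haveI := hint
    refine Ideal.eq_bot_of_comap_eq_bot (R := A) ?_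
    rw [eq_bot_iff]
    intro a ha
    rw [Ideal.mem_comap, RingHom.mem_ker, AdjoinRoot.algebraMap_eq] at ha
    have ha' : algebraMap K L' (algebraMap A K a) = 0 := (RingHom.congr_fun hcomp a).symm.trans ha
    exact Ideal.mem_bot.2 (IsFractionRing.injective A K ((algebraMap K L').injective (ha'.trans (by simp))))
  let K' := FractionRing (AdjoinRoot (X ^ e - C π : A[X]))
  have hinjK' : Function.Injective ((algebraMap (AdjoinRoot (X ^ e - C π : A[X])) K').comp (AdjoinRoot.of (X ^ e - C π : A[X]))) :=
    (IsFractionRing.injective (AdjoinRoot (X ^ e - C π : A[X])) K').comp hinjA'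
  letI : Algebra K K' := (IsFractionRing.lift hinjK').toAlgebra
  have hKK' : ∀ a, algebraMap K K' (algebraMap A K a) = algebraMap (AdjoinRoot (X ^ e - C π : A[X])) K' (AdjoinRoot.of (X ^ e - C π : A[X]) a) :=
    fun a ↦ IsFractionRing.lift_algebraMap hinjK' a
  letI : Algebra K' L' := (IsFractionRing.lift hψ).toAlgebra
  have hK'L : ∀ a, algebraMap K' L' (algebraMap (AdjoinRoot (X ^ e - C π : A[X])) K' a) = ψ a := fun a ↦
    IsFractionRing.lift_algebraMap hψ a
  haveI : IsScalarTower K K' L' := IsScalarTower.of_algebraMap_eq' (by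
    refine IsLocalization.ringHom_ext (nonZeroDivisors A) (RingHom.ext fun a ↦ ?_)
    change algebraMap K L' (algebraMap A K a) = algebraMap K' L' (algebraMap K K' (algebraMap A K a))
    rw [hKK', hK'L]
    exact (RingHom.congr_fun hcomp a).symm)
  haveI : FiniteDimensional K' L' := Module.Finite.of_restrictScalars_finite K K' L'
  haveI : Algebra.IsSeparable K' L' := Algebra.isSeparable_tower_top_of_isSeparable K K' L'
  let Ω := SeparableClosure K
  let i : L' →ₐ[K] Ω := IsSepClosed.lift
  haveI : FiniteDimensional K i.fieldRange := Module.Finite.equiv (AlgEquiv.ofInjectiveField i).toLinearEquiv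
  let N : IntermediateField K Ω := IntermediateField.normalClosure K i.fieldRange Ω
  haveI : IsGalois K N := { }
  let j : L' →ₐ[K] N := AlgHom.codRestrict i N.toSubalgebra fun x ↦ (i.fieldRange).le_normalClosure ⟨x, rfl⟩
  letI : Algebra L' N := j.toRingHom.toAlgebra
  haveI : IsScalarTower K L' N := IsScalarTower.of_algebraMap_eq fun c ↦ (j.commutes c).symm
  letI : Algebra L N := (j.comp iL).toRingHom.toAlgebra
  haveI : IsScalarTower K L N := IsScalarTower.of_algebraMap_eq fun c ↦ ((j.comp iL).commutes c).symm
  letI : Algebra K' N := ((algebraMap L' N).comp (algebraMap K' L')).toAlgebra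
  haveI : IsScalarTower K' L' N := IsScalarTower.of_algebraMap_eq fun _ ↦ rfl
  haveI : IsScalarTower K K' N := IsScalarTower.of_algebraMap_eq fun c ↦ by
    rw [IsScalarTower.algebraMap_apply K' L' N, ← IsScalarTower.algebraMap_apply K K' L', ← IsScalarTower.algebraMap_apply K L' N]
  haveI : FiniteDimensional K' N := Module.Finite.of_restrictScalars_finite K K' N
  haveI : IsGalois K' N := IsGalois.tower_top_of_isGalois K K' N
  refine EtRamLib.WildFixField.isTamelyRamified_of_fixed (N := N) L fun W hW σ hσ x ↦ ?_
  haveI : IsDiscreteValuationRing W := EtRamLib.ValTower.isDiscreteValuationRing_of_dominates A K N W hW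
  let r : N := algebraMap K' N (algebraMap (AdjoinRoot (X ^ e - C π : A[X])) K' (AdjoinRoot.root (X ^ e - C π : A[X])))
  have hAN : ∀ a : A, algebraMap K N (algebraMap A K a) =
      algebraMap K' N (algebraMap (AdjoinRoot (X ^ e - C π : A[X])) K' (AdjoinRoot.of (X ^ e - C π : A[X]) a)) := fun a ↦ by
    rw [IsScalarTower.algebraMap_apply K K' N, hKK']
  have hr : r ^ e = algebraMap K N (algebraMap A K π) := by
    rw [hAN, ← map_pow, ← map_pow, hroot]
  have heA : IsUnit (e : A) := by
    rw [← residue_ne_zero_iff_isUnit, map_natCast]; exact heK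
  have hσr : σ r = r := EtRamLib.Abhyankar.wild_fix_root N π hirr W hW (σ : N →+* N)
    (fun c ↦ σ.commutes c) hσ r e hepos heA hr
  have hrW : r ∈ W ∧ W.valuation r < 1 := by
    have h1 : W.valuation r ^ e < 1 := by
      rw [← map_pow, hr]
      exact hW.2 π (hπ ▸ Ideal.mem_span_singleton_self π)
    have h2 : W.valuation r < 1 := lt_of_not_ge fun h ↦ not_le.2 h1 (one_le_pow₀ h)
    exact ⟨(W.valuation_le_one_iff r).1 h2.le, h2⟩
  have hA'W : ∀ a, algebraMap K' N (algebraMap (AdjoinRoot (X ^ e - C π : A[X])) K' a) ∈ W := by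
    intro a
    induction a using AdjoinRoot.induction_on with
    | _ p =>
      induction p using Polynomial.induction_on' with
      | add p q hp hq => rw [map_add, map_add, map_add]; exact add_mem hp hq
      | monomial n a =>
        rw [← C_mul_X_pow_eq_monomial, map_mul, map_pow, AdjoinRoot.mk_C, AdjoinRoot.mk_X, map_mul, map_mul,
          map_pow, map_pow, ← hAN]
        exact mul_mem (hW.1 a) (pow_mem hrW.1 n)
  have hWA' : EtRam.Dominates (AdjoinRoot (X ^ e - C π : A[X])) ((algebraMap K' N).comp (algebraMap (AdjoinRoot (X ^ e - C π : A[X])) K')) W := by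
    refine ⟨hA'W, fun a ha ↦ ?_⟩
    rw [hmax, Ideal.mem_span_singleton] at ha
    obtain ⟨b, rfl⟩ := ha
    rw [RingHom.comp_apply, map_mul, map_mul, map_mul]
    exact mul_lt_one_of_lt_of_le hrW.2 ((W.valuation_le_one_iff _).2 (hA'W b))
  -- `σ` fixes `K'`
  have hσA' : ∀ a, σ (algebraMap K' N (algebraMap (AdjoinRoot (X ^ e - C π : A[X])) K' a)) =
      algebraMap K' N (algebraMap (AdjoinRoot (X ^ e - C π : A[X])) K' a) := by
    intro a
    induction a using AdjoinRoot.induction_on with
    | _ p =>
      induction p using Polynomial.induction_on' with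
      | add p q hp hq => simp only [map_add] at hp hq ⊢; rw [hp, hq]
      | monomial n a =>
        rw [← C_mul_X_pow_eq_monomial, map_mul, map_pow, AdjoinRoot.mk_C, AdjoinRoot.mk_X, map_mul, map_mul,
          map_pow, map_pow, map_mul, map_pow, ← hAN]
        exact congrArg₂ (· * ·) (σ.commutes _) (congrArg (· ^ n) hσr)
  have hσK' : ∀ c : K', σ (algebraMap K' N c) = algebraMap K' N c := by
    intro c
    obtain ⟨a, b, -, rfl⟩ := IsFractionRing.div_surjective (A := AdjoinRoot (X ^ e - C π : A[X])) c
    rw [map_div₀, map_div₀, hσA', hσA']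
  have hL' : EtRam.IsUnramifiedExt (AdjoinRoot (X ^ e - C π : A[X])) ((algebraMap K' L').comp (algebraMap (AdjoinRoot (X ^ e - C π : A[X])) K')) := by
    rw [show (algebraMap K' L').comp (algebraMap (AdjoinRoot (X ^ e - C π : A[X])) K') = ψ from RingHom.ext hK'L]
    exact @hunr inferInstance
  exact EtRamLib.WildFixField.fix_unramified (AdjoinRoot (X ^ e - C π : A[X])) K' L' N hL' W hWA' (σ : N →+* N) hσK'
    hσ.inert (iL x)

end Groth.Agent.S9328
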