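import Groth.Statements.S9330
import Groth.Agent.Hensel.Basic
import Mathlib.Algebra.Colimit.DirectLimit
import Mathlib.Algebra.Polynomial.Lifts

set_option autoImplicit false
universe u
open Hensel

namespace Groth.Agent.S9330

/-- Let `(A_i, I_i)` be a directed system of pairs (rings `A_i` with ideals `I_i`, the transition maps
sending `I_i` into `I_j`), with colimit ring `A` and `I ⊆ A` the ideal generated by (equivalently,
the union of) the images of the `I_i`. For each `i` let `B_i` be a henselization of the pair `(A_i,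
I_i)`, with the compatible transition maps `B_i → B_j` over `A_i → A_j` (these are the induced ones,
being unique), and give the colimit of the `B_i` the `A`-algebra structure induced by the maps `A_i
→ B_i`. Then `colim B_i`, with the extension of `I`, is a henselization of the pair `(A, I)`. (The
index set is taken in the universe of the rings; the statement fails for non-filtered colimits.) -/
theorem result {ι : Type u} [Preorder ι] [IsDirectedOrder ι] [Nonempty ι]
    (G : ι → Type u) [∀ i, CommRing (G i)] (f : ∀ i j : ι, i ≤ j → (G i →+* G j))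
    [DirectedSystem G (fun i j h => f i j h)] (I : ∀ i, Ideal (G i))
    (hI : ∀ (i j : ι) (h : i ≤ j), (I i).map (f i j h) ≤ I j)
    (B : ι → Type u) [∀ i, CommRing (B i)] [∀ i, Algebra (G i) (B i)]
    (hB : ∀ i, Hens2.IsPairHenselization (G i) (I i) (B i))
    (g : ∀ i j : ι, i ≤ j → (B i →+* B j)) [DirectedSystem B (fun i j h => g i j h)]
    (hg : ∀ (i j : ι) (h : i ≤ j), (g i j h).comp (algebraMap (G i) (B i)) = (algebraMap (G j) (B j)).comp (f i j h))
    [Algebra (DirectLimit G f) (DirectLimit B g)]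
    (halg : ∀ (i : ι) (x : G i), algebraMap (DirectLimit G f) (DirectLimit B g) (DirectLimit.Ring.of G f i x) =
      DirectLimit.Ring.of B g i (algebraMap (G i) (B i) x)) :
    Hens2.IsPairHenselization (DirectLimit G f) (⨆ i, (I i).map (DirectLimit.Ring.of G f i))
      (DirectLimit B g) := by
  classical
  let L := DirectLimit B g
  let ofB := fun i => DirectLimit.Ring.of B g i
  let ofA := fun i => DirectLimit.Ring.of G f i
  have hofB : ∀ i j (h : i ≤ j) (x : B i), ofB j (g i j h x) = ofB i x := fun i j h x => DirectLimit.Ring.of_f h x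
  have hofA : ∀ i j (h : i ≤ j) (x : G i), ofA j (f i j h x) = ofA i x := fun i j h x => DirectLimit.Ring.of_f h x
  have hex : ∀ z : L, ∃ i x, ofB i x = z := fun z => by
    induction z using DirectLimit.induction with
    | _ i x => exact ⟨i, x, rfl⟩
  set J := (⨆ i, (I i).map (ofA i)).map (algebraMap (DirectLimit G f) L) with hJ
  let K : ∀ i, Ideal (B i) := fun i => (I i).map (algebraMap (G i) (B i))
  have hJK : J = ⨆ i, (K i).map (ofB i) := by
    rw [hJ, Ideal.map_iSup]
    refine iSup_congr fun i => ?_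
    rw [Ideal.map_map, Ideal.map_map]
    congr 1
    exact RingHom.ext (halg i)
  have hKmono : ∀ i j (h : i ≤ j), (K i).map (g i j h) ≤ K j := fun i j h => by
    rw [Ideal.map_map, hg, ← Ideal.map_map]
    exact Ideal.map_mono (hI i j h)
  have hmem : ∀ z ∈ J, ∃ i x, x ∈ K i ∧ ofB i x = z := by
    intro z hz
    rw [hJK] at hz
    induction hz using Submodule.iSup_induction' with
    | mem i z hz =>
      refine Submodule.span_induction ?_ ⟨i, 0, zero_mem _, map_zero _⟩ ?_ ?_ hz
      · rintro _ ⟨x, hx, rfl⟩; exact ⟨i, x, hx, rfl⟩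
      · rintro _ _ _ _ ⟨i, x, hx, rfl⟩ ⟨j, y, hy, rfl⟩
        obtain ⟨m, him, hjm⟩ := exists_ge_ge i j
        refine ⟨m, g i m him x + g j m hjm y, add_mem (hKmono i m him (Ideal.mem_map_of_mem _ hx))
          (hKmono j m hjm (Ideal.mem_map_of_mem _ hy)), by rw [map_add, hofB, hofB]⟩
      · rintro c _ _ ⟨i, x, hx, rfl⟩
        obtain ⟨j, c, rfl⟩ := hex c
        obtain ⟨m, him, hjm⟩ := exists_ge_ge i j
        refine ⟨m, g j m hjm c * g i m him x, Ideal.mul_mem_left _ _ (hKmono i m him (Ideal.mem_map_of_mem _ hx)),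
          by rw [map_mul, hofB, hofB]; rfl⟩
    | zero => exact ⟨Classical.arbitrary ι, 0, zero_mem _, map_zero _⟩
    | add x y _ _ hx hy =>
      obtain ⟨i, x, hx, rfl⟩ := hx
      obtain ⟨j, y, hy, rfl⟩ := hy
      obtain ⟨m, him, hjm⟩ := exists_ge_ge i j
      refine ⟨m, g i m him x + g j m hjm y, add_mem (hKmono i m him (Ideal.mem_map_of_mem _ hx))
        (hKmono j m hjm (Ideal.mem_map_of_mem _ hy)), by rw [map_add, hofB, hofB]⟩
  have hjac : J ≤ Ideal.jacobson ⊥ := fun z hz => Ideal.mem_jacobson_bot.2 fun w => by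
    obtain ⟨i, x, hx, rfl⟩ := hmem z hz
    obtain ⟨j, y, rfl⟩ := hex w
    obtain ⟨m, him, hjm⟩ := exists_ge_ge i j
    have h1 : IsUnit (g i m him x * g j m hjm y + 1) :=
      Ideal.mem_jacobson_bot.1 ((hB m).1.jac (hKmono i m him (Ideal.mem_map_of_mem _ hx))) _
    simpa [hofB] using h1.map (ofB m)
  have hpoly : ∀ p : Polynomial L, ∃ i q, Polynomial.map (ofB i) q = p := by
    intro p
    induction p using Polynomial.induction_on' with
    | add p q hp hq =>
      obtain ⟨i, p, rfl⟩ := hp
      obtain ⟨j, q, rfl⟩ := hq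
      obtain ⟨m, him, hjm⟩ := exists_ge_ge i j
      refine ⟨m, p.map (g i m him) + q.map (g j m hjm), ?_⟩
      rw [Polynomial.map_add, Polynomial.map_map, Polynomial.map_map]
      congr 2 <;> exact RingHom.ext (hofB _ _ _)
    | monomial n a =>
      obtain ⟨i, a, rfl⟩ := hex a
      exact ⟨i, Polynomial.monomial n a, Polynomial.map_monomial _⟩
  refine ⟨⟨hjac, fun p hp a₀ h₁ h₂ => ?_⟩, fun C _ J' φ hC hle => ?_⟩
  · obtain ⟨i, x, rfl⟩ := hex a₀
    obtain ⟨k, z, hz, hzp⟩ := hmem _ h₁
    obtain ⟨j, q, hq⟩ := hpoly p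
    have hu : IsUnit (Polynomial.eval (ofB i x) (Polynomial.derivative p)) := Hensel.isUnit_of_mk hjac h₂
    obtain ⟨w, hw⟩ := hu.exists_right_inv
    obtain ⟨l, w, rfl⟩ := hex w
    obtain ⟨m₁, him₁, hjm₁⟩ := exists_ge_ge i j
    obtain ⟨m₂, hkm₂, hlm₂⟩ := exists_ge_ge k l
    obtain ⟨m₀, hm₁, hm₂⟩ := exists_ge_ge m₁ m₂
    have hlift : p ∈ Polynomial.lifts (ofB m₀) := (Polynomial.mem_lifts p).2
      ⟨q.map (g j m₀ (hjm₁.trans hm₁)), by
        rw [Polynomial.map_map, ← hq]; congr 1; exact RingHom.ext (hofB _ _ _)⟩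
    obtain ⟨P, hP, hPm⟩ : ∃ P : Polynomial (B m₀), P.map (ofB m₀) = p ∧ P.Monic := by
      rcases subsingleton_or_nontrivial L with hL | hL
      · exact ⟨1, Subsingleton.elim _ _, Polynomial.monic_one⟩
      · obtain ⟨P, hP, -, hPm⟩ := Polynomial.lifts_and_degree_eq_and_monic hlift hp
        exact ⟨P, hP, hPm⟩
    set x₀ := g i m₀ (him₁.trans hm₁) x
    have hx₀ : ofB m₀ x₀ = ofB i x := hofB _ _ _ _
    have he1 : ofB m₀ (P.eval x₀) = ofB m₀ (g k m₀ (hkm₂.trans hm₂) z) := by
      rw [← Polynomial.eval₂_at_apply, ← Polynomial.eval_map, hP, hx₀, hofB]; exact hzp.symm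
    have he2 : ofB m₀ (P.derivative.eval x₀ * g l m₀ (hlm₂.trans hm₂) w) = ofB m₀ 1 := by
      rw [map_mul, map_one, ← Polynomial.eval₂_at_apply, ← Polynomial.eval_map, ← Polynomial.derivative_map, hP, hx₀, hofB]
      exact hw
    obtain ⟨n₁, h₁n, h₁n', hn₁⟩ := Quotient.exact he1
    obtain ⟨n₂, h₂n, h₂n', hn₂⟩ := Quotient.exact he2
    obtain ⟨n, hn₁n, hn₂n⟩ := exists_ge_ge n₁ n₂
    have hm₀n : m₀ ≤ n := h₁n.trans hn₁n
    have hev : ∀ Q : Polynomial (B m₀), (Q.map (g m₀ n hm₀n)).eval (g m₀ n hm₀n x₀) = g m₀ n hm₀n (Q.eval x₀) :=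
      fun Q => by rw [Polynomial.eval_map, Polynomial.eval₂_at_apply]
    obtain ⟨a, ha, ha'⟩ := (hB n).1.is_henselian (P.map (g m₀ n hm₀n)) (hPm.map _) (g m₀ n hm₀n x₀)
      (by
        have h3 := congrArg (g n₁ n hn₁n) hn₁
        rw [DirectedSystem.map_map' (f := fun i j h => g i j h), DirectedSystem.map_map' (f := fun i j h => g i j h)] at h3
        rw [hev, h3]
        rw [DirectedSystem.map_map' (f := fun i j h => g i j h)]
        exact hKmono k n _ (Ideal.mem_map_of_mem _ hz))
      (by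
        have h3 := congrArg (g n₂ n hn₂n) hn₂
        rw [DirectedSystem.map_map' (f := fun i j h => g i j h), DirectedSystem.map_map' (f := fun i j h => g i j h),
          map_mul, map_one] at h3
        rw [Polynomial.derivative_map, hev]
        exact (IsUnit.of_mul_eq_one _ h3).map _)
    refine ⟨ofB n a, ?_, ?_⟩
    · rw [Polynomial.IsRoot.def, ← hP, show ofB m₀ = (ofB n).comp (g m₀ n hm₀n) from RingHom.ext fun y => (hofB _ _ _ y).symm,
        ← Polynomial.map_map, Polynomial.eval_map, Polynomial.eval₂_at_apply, ha.eq_zero, map_zero]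
    · rw [← hx₀, ← hofB m₀ n hm₀n x₀, ← map_sub]
      exact hJK.ge (Ideal.mem_iSup_of_mem n (Ideal.mem_map_of_mem _ ha'))
  · have hi : ∀ i, ∃! h : B i →+* C, h.comp (algebraMap (G i) (B i)) = φ.comp (ofA i) := fun i => by
      refine (hB i).2 C J' (φ.comp (ofA i)) hC ?_
      rw [← Ideal.map_map]
      exact (Ideal.map_mono (le_iSup (fun i => (I i).map (ofA i)) i)).trans hle
    choose h hh huniq using hi
    have hcompat : ∀ i j (hij : i ≤ j) x, h j (g i j hij x) = h i x := fun i j hij x => by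
      refine RingHom.congr_fun (huniq i ((h j).comp (g i j hij)) ?_) x
      simp only [RingHom.comp_assoc, hg]
      rw [← RingHom.comp_assoc, hh]
      exact RingHom.ext fun y => congrArg φ (hofA i j hij y)
    refine ⟨DirectLimit.Ring.lift B g C h hcompat, ?_, fun u hu => ?_⟩
    · apply DirectLimit.Ring.hom_ext
      intro i; refine RingHom.ext fun x => ?_
      change DirectLimit.Ring.lift B g C h hcompat (algebraMap _ L (DirectLimit.Ring.of G f i x)) = φ (ofA i x)
      rw [halg, DirectLimit.Ring.lift_of]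
      exact RingHom.congr_fun (hh i) x
    · apply DirectLimit.Ring.hom_ext
      intro i
      rw [DirectLimit.Ring.lift_comp_of]
      refine huniq i _ (RingHom.ext fun x => ?_)
      exact (congrArg u (halg i x).symm).trans (RingHom.congr_fun hu (ofA i x))

end Groth.Agent.S9330
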