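import Groth.Statements.S9335
import Groth.Agent.EtStruct.QFinPts
-- import your own Groth.Agent.* helpers here

set_option autoImplicit false
universe u
open QFin

namespace Groth.Agent.S9335

set_option backward.isDefEq.respectTransparency false in
open AlgebraicGeometry CategoryTheory in
/-- If f : X → S is of finite type and s ∈ S, then f is quasi-finite at only finitely many points of the
fibre over s. -/
theorem result {X S : Scheme.{u}} (f : X ⟶ S) [LocallyOfFiniteType f] [QuasiCompact f] (s : S) :
    {x : ↑X | f.base x = s ∧ f.QuasiFiniteAt x}.Finite := by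
  have : LocallyOfFiniteType (f.fiberToSpecResidueField s) :=
    MorphismProperty.pullback_snd _ _ inferInstance
  have : IsNoetherian (f.fiber s) :=
    { toIsLocallyNoetherian := LocallyOfFiniteType.isLocallyNoetherian (f.fiberToSpecResidueField s)
      toCompactSpace := inferInstance }
  have hfin := TopologicalSpace.NoetherianSpace.finite_irreducibleComponents (α := f.fiber s)
  have key : ∀ a : f.fiber s, IsClopen ({a} : Set (f.fiber s)) →
      ({a} : Set (f.fiber s)) ∈ irreducibleComponents (f.fiber s) := by
    intro a ha
    refine ⟨isIrreducible_singleton, fun C hC hle ↦ ?_⟩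
    exact hC.isPreirreducible.isPreconnected.subset_isClopen ha
      ⟨a, hle rfl, rfl⟩
  have : {a : f.fiber s | IsClopen ({a} : Set (f.fiber s))}.Finite :=
    (hfin.preimage Set.singleton_injective.injOn).subset fun a ha ↦ key a ha
  refine (this.image (f.fiberι s)).subset ?_
  rintro x ⟨rfl, hq⟩
  exact ⟨f.asFiber x, hq.isClopen_singleton_asFiber, f.fiberι_asFiber x⟩

end Groth.Agent.S9335
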