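import Groth.Statements.S9336
import Groth.Agent.EtStruct.QFinPts
-- import your own Groth.Agent.* helpers here

set_option autoImplicit false
universe u
open QFin

namespace Groth.Agent.S9336

set_option backward.isDefEq.respectTransparency false in
open AlgebraicGeometry CategoryTheory in
/-- Let f : X → Y be surjective and g : Y → S locally of finite type. If g ∘ f is locally quasi-finite
(and locally of finite type), then g is locally quasi-finite. -/
theorem result {X Y S : Scheme.{u}} (f : X ⟶ Y) (g : Y ⟶ S) [Surjective f]
    [LocallyQuasiFinite (f ≫ g)] [LocallyOfFiniteType (f ≫ g)] [LocallyOfFiniteType g] :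
    LocallyQuasiFinite g := by
  rw [locallyQuasiFinite_iff_isDiscrete_preimage_singleton]
  intro s
  have hcl : ∀ y : Y, IsClosed ({g.asFiber y} : Set (g.fiber (g y))) := by
    intro y
    obtain ⟨x, rfl⟩ := f.surjective y
    rw [Groth.Agent.EtStruct.isClosed_asFiber_iff_finite]
    have h1 := (Groth.Agent.EtStruct.isClosed_asFiber_iff_finite (f ≫ g) x).mp
      ((f ≫ g).quasiFiniteAt x).isClopen_singleton_asFiber.isClosed
    let := (g.residueFieldMap (f x)).hom.toAlgebra
    let := (f.residueFieldMap x).hom.toAlgebra
    let : Algebra (S.residueField (g (f x))) (X.residueField x) :=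
      ((f ≫ g).residueFieldMap x).hom.toAlgebra
    have : IsScalarTower (S.residueField (g (f x))) (Y.residueField (f x)) (X.residueField x) := by
      refine .of_algebraMap_eq' ?_
      show ((f ≫ g).residueFieldMap x).hom = _
      rw [Scheme.residueFieldMap_comp]
      rfl
    have : Module.Finite (S.residueField (g (f x))) (X.residueField x) := h1
    exact FiniteDimensional.left _ (Y.residueField (f x)) (X.residueField x)
  have hall : ∀ a : g.fiber s, IsClosed ({a} : Set (g.fiber s)) := fun a ↦
    (Groth.Agent.EtStruct.isClosed_asFiber_iff g (g.fiberι s a) a rfl).mp (hcl _)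
  have : LocallyOfFiniteType (g.fiberToSpecResidueField s) :=
    MorphismProperty.pullback_snd _ _ inferInstance
  have : IsLocallyNoetherian (g.fiber s) :=
    LocallyOfFiniteType.isLocallyNoetherian (g.fiberToSpecResidueField s)
  have : DiscreteTopology (g.fiber s) := discreteTopology_iff_isOpen_singleton.mpr fun a ↦
    Groth.Agent.EtStruct.isOpen_singleton_of_forall_specializes a
      (fun y hy ↦ Eq.symm (by simpa [(hall y).closure_eq, specializes_iff_mem_closure] using hy))
      (hall a)
  simpa [g.range_fiberι] using
    (isDiscrete_univ_iff.mpr inferInstance).image (g.fiberι s).isEmbedding.toIsInducing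

end Groth.Agent.S9336
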