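import Groth.Statements.S9337
import Groth.Agent.FtPtsLib.Basic

set_option autoImplicit false
universe u
open FtPts

namespace Groth.Agent.S9337

open AlgebraicGeometry CategoryTheory in
/-- Let k be a field and f : Spec k → S a morphism of schemes with image point u. Then f is locally of
finite type if and only if some affine open U ∋ u of S has u as a closed point and the residue field
of Spec k (that is, k) is finite over κ(u). -/
theorem result (S : Scheme.{u}) (k : Type u) [Field k] (f : Spec (CommRingCat.of k) ⟶ S) :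
    LocallyOfFiniteType f ↔
      ∃ U : S.Opens, IsAffineOpen U ∧ ∃ hu : f.base (IsLocalRing.closedPoint k) ∈ U,
        IsClosed ({⟨f.base (IsLocalRing.closedPoint k), hu⟩} : Set ↥U) ∧
          (f.residueFieldMap (IsLocalRing.closedPoint k)).hom.Finite := by
  rw [Groth.Agent.FtPtsLib.locallyOfFiniteType_field_iff f (IsLocalRing.closedPoint k),
    Groth.Agent.FtPtsLib.isFtPt_iff]
  exact ⟨fun ⟨⟨U, hU, hs, hc⟩, h⟩ => ⟨U, hU, hs, hc, h⟩, fun ⟨U, hU, hs, hc, h⟩ => ⟨⟨U, hU, hs, hc⟩, h⟩⟩

end Groth.Agent.S9337
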