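import Groth.Statements.S9338
import Groth.Agent.FtPtsLib.Basic

set_option autoImplicit false
universe u
open FtPts

namespace Groth.Agent.S9338

open AlgebraicGeometry CategoryTheory in
/-- For an Artinian local ring A with residue field κ, a morphism f : Spec A → S is (locally) of finite
type exactly when the composite Spec κ → Spec A → S is. -/
theorem result (S : Scheme.{u}) (A : Type u) [CommRing A] [IsArtinianRing A] [IsLocalRing A]
    (f : Spec (CommRingCat.of A) ⟶ S) :
    LocallyOfFiniteType f ↔
      LocallyOfFiniteType (Spec.map (CommRingCat.ofHom (IsLocalRing.residue A)) ≫ f) := by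
  exact Groth.Agent.FtPtsLib.finiteType_artinian_iff f

end Groth.Agent.S9338
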