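import Groth.Statements.S9343
import Groth.Agent.FlatMor.GenericPts
import Groth.Agent.SchPoints.Basic
-- import your own Groth.Agent.* helpers here

set_option autoImplicit false
universe u
open Dom

namespace Groth.Agent.S9343

open AlgebraicGeometry CategoryTheory in
/-- The base change of a quasi-compact dominant morphism f : X → S along a morphism g : S' → S along
which generalizations lift is dominant. -/
theorem result {X S X' S' : Scheme.{u}} (f : X ⟶ S) [QuasiCompact f] [IsDominant f]
    (g : S' ⟶ S) (g' : X' ⟶ X) (f' : X' ⟶ S') (hsq : IsPullback g' f' f g) (hg : GeneralizingMap g.base) :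
    IsDominant f' := by
  refine ⟨fun s => ?_⟩
  obtain ⟨η, hη, hηs⟩ := FlatMor.GenericPts.exists_generic_specializes s
  have hgη := FlatMor.GenericPts.generic_of_generalizingMap hg g.continuous hη
  obtain ⟨x, hx⟩ := SchPoints.exists_specializes_of_mem_closure_range f (f.denseRange (g η))
  have hfx : f x = g η :=
    (hx.antisymm ((FlatMor.GenericPts.closure_mem_irreducibleComponents_iff _).1 hgη _ hx)).eq
  obtain ⟨z, -, hz⟩ := Scheme.Pullback.exists_preimage_pullback x η hfx
  refine hηs.mem_closed isClosed_closure (subset_closure ⟨hsq.isoPullback.inv z, ?_⟩)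
  rw [← hz, ← hsq.isoPullback_inv_snd]
  rfl

end Groth.Agent.S9343
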