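import Groth.Statements.S9345
import Groth.Agent.FlatMor.GenericPts
-- import your own Groth.Agent.* helpers here

set_option autoImplicit false
universe u
open Dom

namespace Groth.Agent.S9345

open AlgebraicGeometry CategoryTheory in
/-- For a morphism f : X → S whose source has only finitely many irreducible components, the image of f
is dense exactly when it contains the generic point of each irreducible component of S, and then S
too has finitely many. -/
theorem result {X S : Scheme.{u}} (f : X ⟶ S)
    (hX : (irreducibleComponents (↑X : Type u)).Finite) :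
    (IsDominant f ↔ ∀ s : ↑S, closure {s} ∈ irreducibleComponents (↑S : Type u) → s ∈ Set.range f.base) ∧
      (IsDominant f → (irreducibleComponents (↑S : Type u)).Finite) := by
  have hf : (genericPoints (↑X : Type u)).Finite := genericPoints.finite hX
  have key : IsDominant f → genericPoints (↑S : Type u) ⊆ f '' genericPoints (↑X : Type u) := by
    intro hd s hs
    have hcl : IsClosed (⋃ ξ ∈ genericPoints (↑X : Type u), closure {f ξ}) :=
      hf.isClosed_biUnion fun _ _ => isClosed_closure
    have hsub : Set.range f ⊆ ⋃ ξ ∈ genericPoints (↑X : Type u), closure {f ξ} := by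
      rintro _ ⟨x, rfl⟩
      obtain ⟨ξ, hξ, hξx⟩ := FlatMor.GenericPts.exists_generic_specializes x
      exact Set.mem_biUnion hξ (specializes_iff_mem_closure.1 (hξx.map f.continuous))
    obtain ⟨ξ, hξ, hξs⟩ := Set.mem_iUnion₂.1 (closure_minimal hsub hcl (hd.denseRange s))
    have hξs' : f ξ ⤳ s := specializes_iff_mem_closure.2 hξs
    exact ⟨ξ, hξ, (hξs'.antisymm
      ((FlatMor.GenericPts.closure_mem_irreducibleComponents_iff s).1 hs _ hξs')).eq⟩
  refine ⟨⟨fun hd s hs => ?_, fun h => ⟨fun s => ?_⟩⟩, fun hd => ?_⟩
  · obtain ⟨ξ, -, rfl⟩ := key hd hs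
    exact ⟨ξ, rfl⟩
  · obtain ⟨η, hη, hηs⟩ := FlatMor.GenericPts.exists_generic_specializes s
    exact hηs.mem_closed isClosed_closure (subset_closure (h η hη))
  · have := ((hf.image f).subset (key hd)).to_subtype
    exact Set.finite_coe_iff.1 (Finite.of_equiv _ genericPoints.equiv)

end Groth.Agent.S9345
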