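import Groth.Statements.S9346
import Mathlib
-- import your own Groth.Agent.* helpers here

set_option autoImplicit false
universe u
open Dom

namespace Groth.Agent.S9346

open AlgebraicGeometry CategoryTheory in
/-- For a morphism f : X → Y between integral schemes, these six conditions coincide: (1) f is dominant;
(2) f sends the generic point of X to that of Y; (3) there exist affine opens U ⊆ X, V ⊆ Y with U
nonempty and U ⊆ f⁻¹V such that the induced ring map on sections is injective; (4) the same for all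
such pairs; (5) for some x ∈ X the map of local rings O_{Y,f x} → O_{X,x} is injective; (6) the same
for all x. -/
theorem result {X Y : Scheme.{u}} [AlgebraicGeometry.IsIntegral X] [AlgebraicGeometry.IsIntegral Y] (f : X ⟶ Y) :
    [IsDominant f,
      f.base (genericPoint ↑X) = genericPoint ↑Y,
      ∃ (U : X.Opens) (V : Y.Opens) (hUV : U ≤ f ⁻¹ᵁ V), IsAffineOpen U ∧ IsAffineOpen V ∧ (U : Set ↑X).Nonempty ∧
        Function.Injective (f.appLE V U hUV),
      ∀ (U : X.Opens) (V : Y.Opens) (hUV : U ≤ f ⁻¹ᵁ V), IsAffineOpen U → IsAffineOpen V → (U : Set ↑X).Nonempty →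
        Function.Injective (f.appLE V U hUV),
      ∃ x : ↑X, Function.Injective (f.stalkMap x),
      ∀ x : ↑X, Function.Injective (f.stalkMap x)].TFAE := by
  set ξ := genericPoint (↑X : Type u)
  set η := genericPoint (↑Y : Type u)
  have hmem : ∀ {Z : Scheme.{u}} [AlgebraicGeometry.IsIntegral Z] {U : Z.Opens},
      (U : Set Z).Nonempty → genericPoint (↑Z : Type u) ∈ U := fun {Z} _ {U} hU =>
    ((genericPoint_spec _).mem_open_set_iff U.2).2 (by simpa using hU)
  tfae_have 1 → 2 := fun hd => by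
    have h1 := ((genericPoint_spec (↑X : Type u)).image f.continuous)
    rw [Set.image_univ, hd.denseRange.closure_range] at h1
    exact h1.eq (genericPoint_spec _)
  tfae_have 2 → 1 := fun h => ⟨fun y =>
    (genericPoint_specializes y).mem_closed isClosed_closure (subset_closure ⟨ξ, h⟩)⟩
  tfae_have 2 → 4 := fun h U V hUV hU hV hne => by
    rw [injective_iff_map_eq_zero]
    intro a ha
    by_contra hne0
    have h1 : Y.basicOpen a ≠ ⊥ := fun h' => hne0 ((basicOpen_eq_bot_iff a).1 h')
    have h2 : η ∈ Y.basicOpen a :=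
      hmem (Set.nonempty_iff_ne_empty.2 fun h' => h1 (TopologicalSpace.Opens.ext (by simpa using h')))
    have h3 : ξ ∈ U ⊓ f ⁻¹ᵁ Y.basicOpen a := ⟨hmem hne, show f ξ ∈ Y.basicOpen a by rw [h]; exact h2⟩
    rw [← Scheme.basicOpen_appLE f U V hUV, ha, Scheme.basicOpen_zero] at h3
    exact h3
  tfae_have 4 → 6 := fun h x => by
    rw [injective_iff_map_eq_zero]
    intro s hs
    obtain ⟨W, hxW, a, rfl⟩ := Y.presheaf.germ_exist s
    obtain ⟨V, hV, hxV, hVW⟩ := exists_isAffineOpen_mem_and_subset hxW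
    obtain ⟨U, hU, hxU, hUV⟩ := exists_isAffineOpen_mem_and_subset (show x ∈ f ⁻¹ᵁ V from hxV)
    rw [← Y.presheaf.germ_res_apply (homOfLE hVW) (f x) hxV a] at hs ⊢
    set b := Y.presheaf.map (homOfLE hVW).op a
    rw [Scheme.Hom.germ_stalkMap_apply] at hs
    rw [← X.presheaf.germ_res_apply (homOfLE hUV) x hxU] at hs
    have h1 : f.appLE V U hUV b = 0 := (injective_iff_map_eq_zero _).1
      (germ_injective_of_isIntegral X x hxU) _ hs
    exact (congrArg (Y.presheaf.germ V (f x) hxV).hom ((injective_iff_map_eq_zero _).1 (h U V hUV hU hV ⟨x, hxU⟩) b h1)).trans (map_zero _)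
  tfae_have 6 → 5 := fun h => ⟨ξ, h ξ⟩
  tfae_have 5 → 3 := fun ⟨x, hx⟩ => by
    obtain ⟨V, hV, hxV, -⟩ := exists_isAffineOpen_mem_and_subset (TopologicalSpace.Opens.mem_top (f x))
    obtain ⟨U, hU, hxU, hUV⟩ := exists_isAffineOpen_mem_and_subset (show x ∈ f ⁻¹ᵁ V from hxV)
    refine ⟨U, V, hUV, hU, hV, ⟨x, hxU⟩, (injective_iff_map_eq_zero _).2 fun b hb => ?_⟩
    refine (injective_iff_map_eq_zero _).1 (germ_injective_of_isIntegral Y (f x) hxV) b
      ((injective_iff_map_eq_zero _).1 hx _ ?_)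
    rw [Scheme.Hom.germ_stalkMap_apply, ← X.presheaf.germ_res_apply (homOfLE hUV) x hxU]
    exact (congrArg _ hb).trans (map_zero _)
  tfae_have 3 → 2 := fun ⟨U, V, hUV, hU, hV, hne, hinj⟩ => by
    by_contra hne'
    have hfV : f ξ ∈ V := hUV (hmem hne)
    have hηV : η ∈ V := hmem ⟨_, hfV⟩
    have hη : η ∈ (⟨(closure {f ξ})ᶜ, isClosed_closure.isOpen_compl⟩ : Y.Opens) := fun h' =>
      hne' ((specializes_iff_mem_closure.2 h').antisymm (genericPoint_specializes (f ξ))).eq
    obtain ⟨a, ha, hηa⟩ := hV.exists_basicOpen_le ⟨η, hη⟩ hηV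
    have h1 : f.appLE V U hUV a = 0 := by
      rw [← basicOpen_eq_bot_iff, Scheme.basicOpen_appLE, eq_bot_iff]
      intro z hz
      exact ha hz.2 (specializes_iff_mem_closure.1 ((genericPoint_specializes z).map f.continuous))
    rw [(injective_iff_map_eq_zero _).1 hinj a h1, Scheme.basicOpen_zero] at hηa
    exact hηa
  tfae_finish

end Groth.Agent.S9346
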