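import Groth.Statements.S9356
import Groth.Agent.FlatOpen.FibreGeneric
import Groth.Agent.RegLoc.Miracle

set_option autoImplicit false
universe u
open FibDim

namespace Groth.Agent.S9356

open AlgebraicGeometry CategoryTheory in
/-- Let f : X → S be locally of finite type and x ⤳ x' a nontrivial specialization of points of the
fibre X_s. Then dim_x(X_s) ≤ dim_{x'}(X_s) and dim O_{X_s,x} < dim O_{X_s,x'}. (The assertion on
transcendence degrees of residue fields is a separate statement.) -/
theorem result {X S : Scheme.{u}} (f : X ⟶ S) [LocallyOfFiniteType f] (s : S)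
    (x x' : ↑(f.fiber s)) (hsp : x ⤳ x') (hne : x ≠ x') :
    FlatMor.localDim ↑(f.fiber s) x ≤ FlatMor.localDim ↑(f.fiber s) x' ∧
      ringKrullDim ((f.fiber s).presheaf.stalk x) < ringKrullDim ((f.fiber s).presheaf.stalk x') := by
  haveI : IsLocallyNoetherian (f.fiber s) := LocallyOfFiniteType.isLocallyNoetherian (f.fiberToSpecResidueField s)
  refine ⟨le_iInf fun U => iInf_le_of_le ⟨U.1, hsp.mem_open U.1.2 U.2⟩ le_rfl, ?_⟩
  haveI : IsNoetherianRing ((f.fiber s).presheaf.stalk x) := inferInstance
  obtain ⟨n, hn, -⟩ := RegLoc.exists_natCast_eq_ringKrullDim ((f.fiber s).presheaf.stalk x)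
  rw [ringKrullDim_stalk_eq_coheight] at hn
  rw [ringKrullDim_stalk_eq_coheight, ringKrullDim_stalk_eq_coheight, WithBot.coe_lt_coe]
  have hlt : x' < x := lt_iff_le_not_ge.2 ⟨hsp, fun h => hne (Specializes.antisymm hsp h).eq⟩
  refine Order.coheight_strictAnti hlt ?_
  rw [show Order.coheight x = (n : ℕ∞) from WithBot.coe_injective hn]
  exact WithTop.coe_lt_top _

end Groth.Agent.S9356
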