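import Groth.Statements.S9357
import Groth.Agent.FlatOpen.EquiDim
import Groth.Agent.AlgSpD.FibreDimBC

set_option autoImplicit false
universe u
open FibDim

namespace Groth.Agent.S9357

open AlgebraicGeometry CategoryTheory CategoryTheory.Limits Groth.Agent Groth.Agent.FlatOpen.EquiDim in
theorem trdeg_le {X Y : Scheme.{u}} (f : X ⟶ Y) [LocallyOfFiniteType f] (x : X) {d : ℕ}
    (hd : FlatMor.fibreDimAt f x ≤ d) {j : ℕ}
    (hj : (letI := (f.residueFieldMap x).hom.toAlgebra
      Algebra.trdeg (Y.residueField (f x)) (X.residueField x)) = j) : j ≤ d := by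
  obtain ⟨z, hz, htr⟩ := exists_trdeg_fibre f x
  have he : z = f.asFiber x := (f.fiberι (f x)).isEmbedding.injective (hz.trans (f.fiberι_asFiber x).symm)
  subst he
  letI := f.fiberOverSpecResidueField (f x)
  haveI : LocallyOfFiniteType ((f.fiber (f x)) ↘ Spec (CommRingCat.of (Y.residueField (f x)))) :=
    CycLib.locallyOfFiniteType_fiberToSpecResidueField f (f x)
  obtain ⟨n, -, hl⟩ := VarDim.localDim_eq_coheight_add (Y.residueField (f x)) (f.asFiber x)
  rw [FlatMor.fibreDimAt, hl] at hd
  rw [hj] at htr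
  have h1 : j = VarDim.dimPt (Y.residueField (f x)) (f.fiber (f x)) (f.asFiber x) := by exact_mod_cast htr
  have h2 : n + VarDim.dimPt (Y.residueField (f x)) (f.fiber (f x)) (f.asFiber x) ≤ d := by exact_mod_cast hd
  omega

open AlgebraicGeometry CategoryTheory CategoryTheory.Limits Groth.Agent in
theorem localDim_fibre {X Y : Scheme.{u}} (f : X ⟶ Y) (y : Y) (v : f.fiber y) :
    FlatMor.localDim ↥(f.fiber y) v = FlatMor.fibreDimAt f (f.fiberι y v) := by
  have hy : f (f.fiberι y v) = y := (f.range_fiberι y).le (Set.mem_range_self v)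
  obtain ⟨x, hx⟩ : ∃ x, f.fiberι y v = x := ⟨_, rfl⟩
  rw [hx] at hy ⊢
  subst hy
  have : v = f.asFiber x := (f.fiberι (f x)).isEmbedding.injective (hx.trans (f.fiberι_asFiber x).symm)
  subst this
  rfl

open AlgebraicGeometry CategoryTheory CategoryTheory.Limits in
theorem exists_fibre_map {X Y Z : Scheme.{u}} (f : X ⟶ Y) (g : Y ⟶ Z) (z : Z) :
    ∃ fz : (f ≫ g).fiber z ⟶ g.fiber z, fz ≫ g.fiberToSpecResidueField z = (f ≫ g).fiberToSpecResidueField z ∧
      IsPullback ((f ≫ g).fiberι z) fz f (g.fiberι z) := by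
  refine ⟨pullback.lift ((f ≫ g).fiberι z ≫ f) ((f ≫ g).fiberToSpecResidueField z)
    ((Category.assoc _ _ _).trans pullback.condition), pullback.lift_snd _ _ _, ?_⟩
  refine IsPullback.of_bot ?_ (pullback.lift_fst _ _ _).symm (IsPullback.of_hasPullback g (Z.fromSpecResidueField z))
  exact (IsPullback.of_hasPullback (f ≫ g) (Z.fromSpecResidueField z)).of_iso (Iso.refl _) (Iso.refl _)
    (Iso.refl _) (Iso.refl _) ((Category.comp_id _).trans (Category.id_comp _).symm) (by
      simp only [Iso.refl_hom, Category.id_comp, Category.comp_id]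
      exact (pullback.lift_snd _ _ _).symm) (by simp) (by simp)


open AlgebraicGeometry CategoryTheory in
/-- Suppose both f : X → Y and g : Y → Z are morphisms locally of finite type. When the relative
dimension of f is at most d and that of g is at most e, the composite g ∘ f has relative dimension
at most d + e. Moreover, when f is flat of relative dimension exactly d and g is of relative
dimension exactly e, the composite g ∘ f is of relative dimension exactly d + e (every nonempty
fibre equidimensional of that dimension). -/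
theorem result {X Y Z : Scheme.{u}} (f : X ⟶ Y) (g : Y ⟶ Z) [LocallyOfFiniteType f] [LocallyOfFiniteType g] (d e : ℕ) :
    ((∀ x : ↑X, FlatMor.fibreDimAt f x ≤ d) → (∀ y : ↑Y, FlatMor.fibreDimAt g y ≤ e) →
        ∀ x : ↑X, FlatMor.fibreDimAt (f ≫ g) x ≤ (d + e : ℕ)) ∧
      (Cyc.HasRelDim f d → Cyc.HasRelDim g e → Flat f → Cyc.HasRelDim (f ≫ g) (d + e)) := by
  constructor
  · intro hf hg x
    show FlatMor.localDim ↥((f ≫ g).fiber ((f ≫ g) x)) ((f ≫ g).asFiber x) ≤ _
    generalize hw : (f ≫ g).asFiber x = w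
    clear hw
    revert w
    generalize (f ≫ g) x = z
    intro w
    obtain ⟨fz, hz, hsq⟩ := exists_fibre_map f g z
    letI := (f ≫ g).fiberOverSpecResidueField z
    letI := g.fiberOverSpecResidueField z
    haveI : LocallyOfFiniteType (((f ≫ g).fiber z) ↘ Spec (CommRingCat.of (Z.residueField z))) :=
      Groth.Agent.CycLib.locallyOfFiniteType_fiberToSpecResidueField (f ≫ g) z
    haveI : LocallyOfFiniteType ((g.fiber z) ↘ Spec (CommRingCat.of (Z.residueField z))) :=
      Groth.Agent.CycLib.locallyOfFiniteType_fiberToSpecResidueField g z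
    haveI : LocallyOfFiniteType fz := MorphismProperty.of_isPullback hsq inferInstance
    obtain ⟨η, -, -, hη⟩ := Groth.Agent.VarDim.exists_localDim_eq (Z.residueField z) w
    rw [hη]
    obtain ⟨j, hj, he⟩ := Groth.Agent.CycLib.deltaCompat_fdelta (Z.residueField z) fz
      ((f ≫ g).fiberToSpecResidueField z) (g.fiberToSpecResidueField z) hz η
    have he' : ((Groth.Agent.VarDim.dimPt (Z.residueField z) ((f ≫ g).fiber z) η : ℕ) : ℤ) =
        (Groth.Agent.VarDim.dimPt (Z.residueField z) (g.fiber z) (fz η) : ℕ) + (j : ℕ) := he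
    have h1 : j ≤ d := trdeg_le fz η
      (by rw [Groth.Agent.AlgSpD.fibreDimAt_of_isPullback f hsq η]; exact hf _) hj
    obtain ⟨n, -, hl⟩ := Groth.Agent.VarDim.localDim_eq_coheight_add (Z.residueField z) (fz η)
    have h2 := hg (g.fiberι z (fz η))
    rw [← localDim_fibre g z (fz η), hl] at h2
    have h2' : n + Groth.Agent.VarDim.dimPt (Z.residueField z) (g.fiber z) (fz η) ≤ e := by exact_mod_cast h2
    exact_mod_cast (show Groth.Agent.VarDim.dimPt (Z.residueField z) ((f ≫ g).fiber z) η ≤ d + e by omega)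
  · intro hf hg hflat z
    obtain ⟨fz, hz, hsq⟩ := exists_fibre_map f g z
    letI := (f ≫ g).fiberOverSpecResidueField z
    letI := g.fiberOverSpecResidueField z
    haveI : LocallyOfFiniteType (((f ≫ g).fiber z) ↘ Spec (CommRingCat.of (Z.residueField z))) :=
      Groth.Agent.CycLib.locallyOfFiniteType_fiberToSpecResidueField (f ≫ g) z
    haveI : LocallyOfFiniteType ((g.fiber z) ↘ Spec (CommRingCat.of (Z.residueField z))) :=
      Groth.Agent.CycLib.locallyOfFiniteType_fiberToSpecResidueField g z
    haveI : LocallyOfFiniteType fz := MorphismProperty.of_isPullback hsq inferInstance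
    haveI : Flat fz := MorphismProperty.of_isPullback hsq hflat
    haveI : LocallyOfFiniteType ((f ≫ g).fiberToSpecResidueField z) :=
      Groth.Agent.CycLib.locallyOfFiniteType_fiberToSpecResidueField (f ≫ g) z
    haveI : LocallyOfFiniteType (g.fiberToSpecResidueField z) :=
      Groth.Agent.CycLib.locallyOfFiniteType_fiberToSpecResidueField g z
    have hrel : Cyc.HasRelDim fz d := (Groth.Agent.FlatOpen.EquiDim.hasRelDim_iff_trdeg fz d).2 fun w hw =>
      Groth.Agent.FlatOpen.EquiDim.fibreDimAt_eq_trdeg fz hw ((Groth.Agent.AlgSpD.fibreDimAt_of_isPullback f hsq w).trans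
        (Groth.Agent.FlatOpen.EquiDim.fibreDimAt_eq_of_hasRelDim f hf _))
    have hY := (Groth.Agent.FlatOpen.EquiDim.irreducibleComponents_dimPt_iff (Z.residueField z) e).1 (hg z)
    have hX := (Groth.Agent.FlatOpen.EquiDim.dimPt_iff_hasRelDim (Z.residueField z)
      ((f ≫ g).fiberToSpecResidueField z) (g.fiberToSpecResidueField z) fz hz e d hY).2 hrel
    rw [Nat.add_comm d e]
    exact (Groth.Agent.FlatOpen.EquiDim.irreducibleComponents_dimPt_iff (Z.residueField z) (e + d)).2 hX

end Groth.Agent.S9357
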