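import Groth.Statements.S9360
import Groth.Agent.FlatMor.SchDom

set_option autoImplicit false
universe u
open SchDense

namespace Groth.Agent.S9360

open AlgebraicGeometry CategoryTheory in
/-- Let U ⊆ X be a reduced open subscheme. Then the scheme-theoretic closure of U in X is X if and only
if U is scheme-theoretically dense in X (for every open W the scheme-theoretic closure of U ∩ W in W
is W); and in that case X is reduced. -/
theorem result (X : Scheme.{u}) (U : X.Opens) [IsReduced (↑U : Scheme.{u})] :
    (IsSchemeTheoreticallyDominant U.ι ↔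
        ∀ W : X.Opens, IsSchemeTheoreticallyDominant (X.homOfLE (inf_le_right : U ⊓ W ≤ W))) ∧
      (IsSchemeTheoreticallyDominant U.ι → IsReduced X) := by
  have key : IsSchemeTheoreticallyDominant U.ι →
      ∀ W : X.Opens, IsSchemeTheoreticallyDominant (X.homOfLE (inf_le_right : U ⊓ W ≤ W)) := by
    intro h W
    have h1 := FlatMor.SchDom.homOfLE_inf_dominant U.ι (Or.inr inferInstance) W
    have h2 : X.homOfLE (inf_le_right : U ⊓ W ≤ W) =
        (X.isoOfEq (show U ⊓ W = U.ι.opensRange ⊓ W by rw [Scheme.Opens.opensRange_ι])).hom ≫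
          X.homOfLE (inf_le_right : U.ι.opensRange ⊓ W ≤ W) := by
      rw [← cancel_mono W.ι]; simp
    rw [h2]
    infer_instance
  refine ⟨⟨key, fun h => ?_⟩, fun h => FlatMor.SchDom.isReduced_of_dominant U.ι⟩
  have := h ⊤
  have h2 : U.ι = (X.isoOfEq (inf_top_eq U).symm).hom ≫
      X.homOfLE (inf_le_right : U ⊓ ⊤ ≤ (⊤ : X.Opens)) ≫ X.topIso.hom := by simp
  rw [h2]
  infer_instance

end Groth.Agent.S9360
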