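import Groth.Statements.S9361
import Groth.Agent.FlatMor.SchDom

set_option autoImplicit false
universe u
open SchImage

namespace Groth.Agent.S9361

open CategoryTheory

open AlgebraicGeometry CategoryTheory in
/-- Let f : X → Y be separated, V ⊆ Y a retrocompact open and s : V → X a section of f over V. If Y' ⊆ X
is the scheme-theoretic image of s, then Y' → Y is an isomorphism over V. -/
theorem result {X Y : Scheme.{u}} (f : X ⟶ Y) [IsSeparated f] (V : Y.Opens) [QuasiCompact V.ι]
    (s : (↑V : Scheme.{u}) ⟶ X) (hs : s ≫ f = V.ι) :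
    IsIso ((s.imageι ≫ f) ∣_ V) := by
  have : QuasiCompact (s ≫ f) := by rw [hs]; infer_instance
  have : QuasiCompact s := QuasiCompact.of_comp s f
  have : IsImmersion (s ≫ f) := by rw [hs]; infer_instance
  have : IsImmersion s := IsImmersion.of_comp s f
  have hI : IsOpenImmersion s.toImage := FlatMor.SchDom.isOpenImmersion_toImage' s (Or.inl inferInstance)
  set g := s.imageι ≫ f with hg
  have htg : s.toImage ≫ g = V.ι := by rw [hg, ← Category.assoc, s.toImage_imageι, hs]
  have hrange : Set.range s.toImage.base ⊆ (g ⁻¹ᵁ V : Set _) := by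
    rintro _ ⟨v, rfl⟩
    show (s.toImage ≫ g).base v ∈ V
    rw [htg]; exact v.2
  let t : (↑V : Scheme.{u}) ⟶ ↑(g ⁻¹ᵁ V) :=
    IsOpenImmersion.lift (g ⁻¹ᵁ V).ι s.toImage (by rw [Scheme.Opens.range_ι]; exact hrange)
  have ht : t ≫ (g ⁻¹ᵁ V).ι = s.toImage := IsOpenImmersion.lift_fac _ _ _
  have htr : t ≫ (g ∣_ V) = 𝟙 _ := by
    rw [← cancel_mono V.ι, Category.assoc, morphismRestrict_ι, ← Category.assoc, ht, htg, Category.id_comp]
  have : IsOpenImmersion (t ≫ (g ⁻¹ᵁ V).ι) := by rw [ht]; infer_instance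
  have : IsOpenImmersion t := IsOpenImmersion.of_comp t (g ⁻¹ᵁ V).ι
  have : IsClosedImmersion (t ≫ (g ∣_ V)) := by rw [htr]; infer_instance
  have : IsSeparated g := by rw [hg]; infer_instance
  have : IsSeparated (g ∣_ V) := IsZariskiLocalAtTarget.restrict (P := @IsSeparated) ‹IsSeparated g› V
  have : IsClosedImmersion t := IsClosedImmersion.of_comp t (g ∣_ V)
  have hsurj : Surjective t := by
    have hd : DenseRange s.toImage.base := Scheme.Hom.denseRange _
    refine ⟨fun w => ?_⟩
    have hw : w ∈ closure (Set.range t.base) := by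
      rw [(g ⁻¹ᵁ V).ι.isOpenEmbedding.isEmbedding.closure_eq_preimage_closure_image, ← Set.range_comp,
        ← TopCat.coe_comp, ← Scheme.Hom.comp_base, ht]
      exact hd _
    rwa [t.isClosedEmbedding.isClosed_range.closure_eq] at hw
  have : IsIso t := (isIso_iff_isOpenImmersion_and_surjective t).mpr ⟨inferInstance, hsurj⟩
  have : g ∣_ V = inv t := by rw [← cancel_epi t, htr, IsIso.hom_inv_id]
  rw [this]; infer_instance

end Groth.Agent.S9361
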