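import Groth.Statements.S9362
import Groth.Agent.QCohGen.Groth

set_option autoImplicit false
universe u
open QCohSub

namespace Groth.Agent.S9362

open AlgebraicGeometry CategoryTheory in
/-- Let F be a quasi-coherent O_X-module and G ⊆ F an O_X-submodule. There is a quasi-coherent submodule
G' ⊆ G such that Hom(H, G') → Hom(H, G) is bijective for every quasi-coherent O_X-module H; in
particular G' is the largest quasi-coherent submodule of F contained in G (it is unique up to unique
isomorphism over G). -/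
theorem result (X : Scheme.{u}) (F G : X.Modules) (hF : Coh.IsQCoh F) (j : G ⟶ F) [Mono j] :
    ∃ (G' : X.Modules) (k : G' ⟶ G), Coh.IsQCoh G' ∧ Mono k ∧
      ∀ H : X.Modules, Coh.IsQCoh H → Function.Bijective (fun φ : H ⟶ G' => φ ≫ k) := by
  haveI := Groth.Agent.QCohGen.isLeftAdjoint_ι X
  let Q := (QCohCat.isQCoh X).ι.rightAdjoint
  let adj := Adjunction.ofIsLeftAdjoint (QCohCat.isQCoh X).ι
  let c : (Q.obj G).obj ⟶ G := adj.counit.app G
  haveI : (Q.obj G).obj.IsQuasicoherent := (Q.obj G).property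
  haveI : F.IsQuasicoherent := hF
  let m := c ≫ j
  have hq : Coh.IsQCoh (Abelian.image m) := Groth.Agent.QCoh.isQuasicoherent_image m
  have hz : Abelian.image.ι m ≫ Limits.cokernel.π j = 0 := by
    rw [← cancel_epi (Abelian.factorThruImage m), ← Category.assoc, Abelian.image.fac, Category.assoc,
      Limits.cokernel.condition, Limits.comp_zero, Limits.comp_zero]
  let k : Abelian.image m ⟶ G := Abelian.monoLift j (Abelian.image.ι m) hz
  have hk : k ≫ j = Abelian.image.ι m := Abelian.monoLift_comp _ _ _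
  haveI : Mono (k ≫ j) := hk ▸ inferInstance
  haveI : Mono k := mono_of_mono k j
  refine ⟨Abelian.image m, k, hq, inferInstance, fun H hH ↦ ⟨fun a b hab ↦ (cancel_mono k).mp hab,
    fun φ ↦ ?_⟩⟩
  let φ' : (⟨H, hH⟩ : QCohCat.QCoh X) ⟶ Q.obj G := adj.homEquiv ⟨H, hH⟩ G φ
  refine ⟨φ'.hom ≫ Abelian.factorThruImage m, ?_⟩
  rw [← cancel_mono j]
  have hφ : φ'.hom ≫ c = φ := by
    have h1 : (adj.homEquiv (⟨H, hH⟩ : QCohCat.QCoh X) G).symm φ' =
        (QCohCat.isQCoh X).ι.map φ' ≫ adj.counit.app G := Adjunction.homEquiv_counit _ _ _ _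
    have h2 : (adj.homEquiv (⟨H, hH⟩ : QCohCat.QCoh X) G).symm φ' = φ :=
      Equiv.symm_apply_apply _ _
    exact h1.symm.trans h2
  simp only [Category.assoc, hk, Abelian.image.fac]
  rw [← Category.assoc, hφ]

end Groth.Agent.S9362
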