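import Groth.Statements.S9364
import Groth.Agent.Synt44.Mor
import Groth.Agent.Synt44.LocallyStandard

set_option autoImplicit false
universe u
open Synt

namespace Groth.Agent.S9364

open AlgebraicGeometry CategoryTheory in
/-- Let f : X → S, x ∈ X and V ⊆ S an affine open neighbourhood of f x. Then f is syntomic at x if and
only if some affine open U ∋ x with f(U) ⊆ V has f|_U : U → V standard syntomic. -/
theorem result {X S : Scheme.{u}} (f : X ⟶ S) (x : X) (V : S.affineOpens)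
    (hV : f.base x ∈ V.1) :
    Synt.IsSyntomicAt f x ↔
      ∃ (U : X.affineOpens) (e : U.1 ≤ f ⁻¹ᵁ V.1), x ∈ U.1 ∧ Synt.IsStandardSyntomic (f.resLE V.1 U.1 e) := by
  constructor
  · rintro ⟨U₀, V₀, e₀, hx₀, h₀⟩
    obtain ⟨W, hW, hxW, hWle⟩ := exists_isAffineOpen_mem_and_subset (x := x) (U := f ⁻¹ᵁ V.1) hV
    have hloc := Groth.Agent.Synt44.syntomicHom_propertyIsLocal.{u}
    obtain ⟨r, s, hxs, e, hs⟩ := exists_basicOpen_le_appLE_of_appLE_of_isAffine (f := f)
      (P := fun {R S} _ _ φ => Groth.Agent.Synt44.SyntomicHom φ)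
      hloc.StableUnderCompositionWithLocalizationAwayTarget hloc.localizationAwayPreserves
      x V V₀ ⟨W, hW⟩ U₀ hxW hx₀ e₀ h₀ hV
    let Us := X.basicOpen s
    have hUs : IsAffineOpen Us := hW.basicOpen s
    have eV : Us ≤ f ⁻¹ᵁ V.1 := e.trans (fun y hy => S.basicOpen_le r hy)
    haveI := V.2.isLocalization_basicOpen r
    have hV' : Groth.Agent.Synt44.SyntomicHom (f.appLE V.1 Us eV).hom := by
      have h1 := Groth.Agent.Synt44.syntomicHom_stableUnderCompositionWithLocalizationAwaySource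
        (S := Γ(S, S.basicOpen r)) r _ hs
      rwa [show f.appLE V.1 Us eV = S.presheaf.map (homOfLE (S.basicOpen_le r)).op ≫ f.appLE (S.basicOpen r) Us e from
        (f.map_appLE e _).symm]
    letI := (f.appLE V.1 Us eV).hom.toAlgebra
    obtain ⟨g, hg, n, c, F, hF, ⟨ε⟩⟩ :=
      Groth.Agent.Synt44.exists_relGCI (R := Γ(S, V.1)) (S := Γ(X, Us)) hV' (hUs.primeIdealOf ⟨x, hxs⟩).asIdeal
    let U := X.basicOpen g
    have hU : IsAffineOpen U := hUs.basicOpen g
    have hxU : x ∈ U := by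
      have h1 : hUs.primeIdealOf ⟨x, hxs⟩ ∈ hUs.fromSpec ⁻¹ᵁ X.basicOpen g := by
        rw [hUs.fromSpec_preimage_basicOpen]; exact hg
      have h2 := hUs.fromSpec_primeIdealOf ⟨x, hxs⟩
      have h3 : hUs.fromSpec (hUs.primeIdealOf ⟨x, hxs⟩) ∈ X.basicOpen g := h1
      rwa [h2] at h3
    have eU : U ≤ f ⁻¹ᵁ V.1 := fun y hy => eV (X.basicOpen_le g hy)
    haveI := hUs.isLocalization_basicOpen g
    letI := (f.appLE V.1 U eU).hom.toAlgebra
    haveI : IsScalarTower Γ(S, V.1) Γ(X, Us) Γ(X, U) := IsScalarTower.of_algebraMap_eq' (by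
      change (f.appLE V.1 U eU).hom = ((f.appLE V.1 Us eV) ≫ X.presheaf.map (homOfLE (X.basicOpen_le g)).op).hom
      rw [f.appLE_map])
    let η : Γ(X, U) ≃ₐ[Γ(S, V.1)] Synt.RelGCIRing Γ(S, V.1) n c F :=
      ((IsLocalization.algEquiv (Submonoid.powers g) Γ(X, U) (Localization.Away g)).restrictScalars Γ(S, V.1)).trans ε.symm
    refine ⟨⟨U, hU⟩, eU, hxU, Γ(S, V.1), inferInstance, n, c, F, hF,
      hU.isoSpec ≪≫ Scheme.Spec.mapIso (η.symm.toRingEquiv.toCommRingCatIso).op, V.2.isoSpec, ?_⟩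
    have h1 : (hU.isoSpec ≪≫ Scheme.Spec.mapIso (η.symm.toRingEquiv.toCommRingCatIso).op).hom ≫
        Spec.map (CommRingCat.ofHom (algebraMap Γ(S, V.1) (Synt.RelGCIRing Γ(S, V.1) n c F))) =
        hU.isoSpec.hom ≫ Spec.map (f.appLE V.1 U eU) := by
      rw [Iso.trans_hom, Category.assoc]
      congr 1
      change Spec.map _ ≫ Spec.map _ = _
      rw [← Spec.map_comp]
      congr 1
      ext a
      exact η.symm.commutes a
    refine h1.trans ?_
    rw [← cancel_mono V.2.isoSpec.inv, Category.assoc, Category.assoc, Iso.hom_inv_id, Category.comp_id,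
      ← cancel_mono V.1.ι, Category.assoc, Category.assoc, V.2.isoSpec_inv_ι,
      V.2.SpecMap_appLE_fromSpec f hU eU, ← Category.assoc, hU.isoSpec_hom_fromSpec, Scheme.Hom.resLE_comp_ι]
  · rintro ⟨U, e, hxU, R, _, n, c, F, hF, e₁, e₂, hcomm⟩
    refine ⟨U, V, e, hxU, ?_⟩
    let P := Groth.Agent.Synt44.syntomicMor.{u}
    have h1 : P (Spec.map (CommRingCat.ofHom (algebraMap R (Synt.RelGCIRing R n c F)))) :=
      (HasRingHomProperty.Spec_iff (P := P)).2
        (Groth.Agent.Synt44.syntomicHom_algebraMap.2 (Groth.Agent.RelGCI.isSyntomic hF))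
    have h2 : P (f.resLE V.1 U.1 e) := by
      have : Arrow.mk (f.resLE V.1 U.1 e) ≅ Arrow.mk (Spec.map (CommRingCat.ofHom (algebraMap R (Synt.RelGCIRing R n c F)))) :=
        Arrow.isoMk e₁ e₂ hcomm
      exact (P.arrow_mk_iso_iff this).2 h1
    haveI : IsAffine V.1.toScheme := V.2
    haveI : IsAffine U.1.toScheme := U.2
    have h3 : Groth.Agent.Synt44.SyntomicHom (f.resLE V.1 U.1 e).appTop.hom :=
      HasRingHomProperty.appTop P _ h2
    have hri : (RingHom.toMorphismProperty Groth.Agent.Synt44.SyntomicHom.{u}).RespectsIso :=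
      RingHom.toMorphismProperty_respectsIso_iff.mp Groth.Agent.Synt44.syntomicHom_respectsIso
    exact (MorphismProperty.arrow_mk_iso_iff (RingHom.toMorphismProperty Groth.Agent.Synt44.SyntomicHom)
      (arrowResLEAppIso f V.1 U.1 e)).1 h3

end Groth.Agent.S9364
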