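import Groth.Statements.S9365
import Groth.Agent.Synt44.Mor
import Mathlib.AlgebraicGeometry.Fiber
import Mathlib.AlgebraicGeometry.Morphisms.FinitePresentation
import Mathlib.AlgebraicGeometry.Morphisms.Flat

set_option autoImplicit false
universe u
open Synt

namespace Groth.Agent.S9365

open AlgebraicGeometry CategoryTheory CategoryTheory.Limits TensorProduct

/-- The geometric fibres of `f` over a point with values in a field are syntomic. -/
theorem aux {X S : Scheme.{u}} (f : X ⟶ S) (hfib : ∀ s : S, Synt.IsSyntomicMor (f.fiberToSpecResidueField s))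
    (K : Type u) [Field K] (g : Spec (.of K) ⟶ S) :
    Groth.Agent.Synt44.syntomicMor (pullback.snd f g) := by
  let φ := S.descResidueField (Scheme.stalkClosedPointTo g)
  have hg : Spec.map φ ≫ S.fromSpecResidueField (g (IsLocalRing.closedPoint K)) = g :=
    Scheme.descResidueField_stalkClosedPointTo_fromSpecResidueField K S g
  rw [← hg]
  have h : Groth.Agent.Synt44.syntomicMor.{u} (pullback.snd (f.fiberToSpecResidueField _) (Spec.map φ)) :=
    MorphismProperty.pullback_snd (P := Groth.Agent.Synt44.syntomicMor.{u}) _ _ (hfib (g (IsLocalRing.closedPoint K)))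
  have h2 := (MorphismProperty.cancel_left_of_respectsIso Groth.Agent.Synt44.syntomicMor.{u}
    (pullbackLeftPullbackSndIso f (S.fromSpecResidueField (g (IsLocalRing.closedPoint K))) (Spec.map φ)).inv _).2 h
  erw [pullbackLeftPullbackSndIso_inv_snd_snd] at h2
  exact h2

open AlgebraicGeometry CategoryTheory in
/-- If f : X → S is flat, locally of finite presentation, and every fibre X_s → Spec κ(s) is syntomic
(X_s is a local complete intersection over κ(s)), then f is syntomic. -/
theorem result {X S : Scheme.{u}} (f : X ⟶ S) [Flat f] [LocallyOfFinitePresentation f]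
    (hfib : ∀ s : S, Synt.IsSyntomicMor (f.fiberToSpecResidueField s)) :
    Synt.IsSyntomicMor f := by
  rw [Groth.Agent.Synt44.isSyntomicMor_iff_appLE]
  rintro ⟨V, hV⟩ ⟨U, hU⟩ e
  let R := Γ(S, V)
  let A := Γ(X, U)
  let _ : Algebra R A := (f.appLE V U e).hom.toAlgebra
  have hflat : (f.appLE V U e).hom.Flat :=
    HasRingHomProperty.appLE @Flat f inferInstance ⟨V, hV⟩ ⟨U, hU⟩ e
  have hfp : (f.appLE V U e).hom.FinitePresentation :=
    HasRingHomProperty.appLE @LocallyOfFinitePresentation f inferInstance ⟨V, hV⟩ ⟨U, hU⟩ e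
  refine ⟨hflat, hfp, fun p => ?_⟩
  let K := p.asIdeal.ResidueField
  let g : Spec (CommRingCat.of K) ⟶ S :=
    Spec.map (CommRingCat.ofHom (algebraMap R K)) ≫ hV.fromSpec
  let e₁ : Spec (CommRingCat.of (K ⊗[R] A)) ⟶ pullback (Spec.map (CommRingCat.ofHom (algebraMap R A)))
      (Spec.map (CommRingCat.ofHom (algebraMap R K))) :=
    (pullbackSpecIso R K A).inv ≫ (pullbackSymmetry _ _).hom
  let e₂ : pullback (Spec.map (CommRingCat.ofHom (algebraMap R A)))
      (Spec.map (CommRingCat.ofHom (algebraMap R K))) ⟶ pullback f g :=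
    pullback.map _ _ _ _ hU.fromSpec (𝟙 _) hV.fromSpec (hV.SpecMap_appLE_fromSpec f hU e)
      (Category.id_comp _).symm
  have hsnd : (e₁ ≫ e₂) ≫ pullback.snd f g = Spec.map (CommRingCat.ofHom (algebraMap K (K ⊗[R] A))) := by
    simp only [e₁, e₂, Category.assoc, pullback.map, pullback.lift_snd, Category.comp_id,
      pullbackSymmetry_hom_comp_snd]
    exact pullbackSpecIso_inv_fst' R K A
  have h : Groth.Agent.Synt44.syntomicMor.{u} ((e₁ ≫ e₂) ≫ pullback.snd f g) :=
    HasRingHomProperty.comp_of_isOpenImmersion (P := Groth.Agent.Synt44.syntomicMor.{u}) _ _ (aux f hfib K g)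
  rw [hsnd, HasRingHomProperty.Spec_iff (P := Groth.Agent.Synt44.syntomicMor.{u})] at h
  exact Groth.Agent.Synt44.isLCIOver_of_equiv (Algebra.TensorProduct.lid K (K ⊗[R] A))
    (Groth.Agent.Synt44.isLCIOver_tensor K (Groth.Agent.Synt44.syntomicHom_algebraMap.1 h))

end Groth.Agent.S9365
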