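import Groth.Statements.S9367
import Groth.Agent.Wt.CMScheme
import Groth.Agent.FlatOpen.CMLocusScheme
import Groth.Agent.Synt44.Mor
import Groth.Agent.Synt44.CM

set_option autoImplicit false
universe u
open Synt

namespace Groth.Agent.S9367

open AlgebraicGeometry CategoryTheory in
/-- If f : X → S is syntomic, then x ↦ dim_x(X_{f x}) is locally constant on X. -/
theorem result {X S : Scheme.{u}} (f : X ⟶ S) (hf : Synt.IsSyntomicMor f) :
    IsLocallyConstant (fun x : ↑X => FlatMor.fibreDimAt f x) := by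
  have happ := (Groth.Agent.Synt44.isSyntomicMor_iff_appLE f).1 hf
  haveI : LocallyOfFinitePresentation f :=
    (HasRingHomProperty.iff_appLE (P := @LocallyOfFinitePresentation)).2 fun {V U} e => (happ V U e).2.1
  have hcm : ∀ x, MoreMor.IsCMAt f x := fun x => by
    obtain ⟨V, hV, hxV, -⟩ := exists_isAffineOpen_mem_and_subset (show f x ∈ (⊤ : S.Opens) from trivial)
    obtain ⟨U, hU, hxU, e⟩ := exists_isAffineOpen_mem_and_subset (show x ∈ f ⁻¹ᵁ V from hxV)
    rw [Groth.Agent.Wt.CMBase.isCMAt_iff_chart f hV hU e hxU]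
    letI := (f.appLE V U e).hom.toAlgebra
    obtain ⟨hflat, hfp, hlci⟩ := happ ⟨V, hV⟩ ⟨U, hU⟩ e
    haveI : Algebra.FiniteType Γ(S, V) Γ(X, U) := RingHom.FiniteType.of_finitePresentation hfp
    let q := hU.primeIdealOf ⟨x, hxU⟩
    haveI : Module.Flat Γ(S, V) Γ(X, U) := hflat
    refine ⟨Module.Flat.trans Γ(S, V) Γ(X, U) (Localization.AtPrime q.asIdeal), ?_⟩
    let p : PrimeSpectrum Γ(S, V) := ⟨q.asIdeal.under Γ(S, V), inferInstance⟩
    haveI : q.asIdeal.LiesOver p.asIdeal := ⟨rfl⟩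
    obtain ⟨Q, hQ⟩ := Groth.Agent.RelDim.exists_over' p.asIdeal q.asIdeal
    obtain ⟨E⟩ := Groth.Agent.RelDim.nonempty_equiv_fibLocRing p.asIdeal q.asIdeal Q.asIdeal hQ
    haveI := Groth.Agent.Synt44.isCohenMacaulayRing_of_isLCIOver (hlci p)
    have hQcm : LocCoh.IsCohenMacaulayLocalRing (Localization.AtPrime Q.asIdeal) :=
      LocCoh.IsCohenMacaulayRing.isCohenMacaulayLocalRing_localization Q.asIdeal
    exact Groth.Agent.FlatMor.CMFlat.isCM_of_ringEquiv (R := Localization.AtPrime Q.asIdeal)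
      (R' := EGA4.FibLocRing Γ(S, V) Γ(X, U) q.asIdeal) E.symm hQcm
  rw [IsLocallyConstant.iff_isOpen_fiber]
  intro c
  by_cases hc : ∃ x, FlatMor.fibreDimAt f x = c
  · obtain ⟨x, rfl⟩ := hc
    obtain ⟨n, hn⟩ := Groth.Agent.FlatOpen.CMLocus.exists_fibreDimAt_eq f x
    rw [hn]
    convert Groth.Agent.FlatOpen.CMLocus.isOpen_isCMAt_fibreDim f n using 1
    ext y
    exact ⟨fun h => ⟨hcm y, h⟩, fun h => h.2⟩
  · push Not at hc
    convert isOpen_empty
    exact Set.eq_empty_of_forall_notMem fun y h => hc y h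

end Groth.Agent.S9367
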