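import Groth.Statements.S9368
import Groth.Agent.Synt44.Mor
import Groth.Agent.Synt44.CM
import Groth.Agent.Synt44.CIEquiv
import Groth.Agent.Synt44.FlatLCI

set_option autoImplicit false
universe u
open Synt

namespace Groth.Agent.S9368

section
open AlgebraicGeometry CategoryTheory
/-- The `k`-algebra of sections over an open. -/
noncomputable abbrev chartAlg {k : Type u} [Field k] {X : Scheme.{u}} (p : X ⟶ Spec (CommRingCat.of k)) (W : X.Opens) :
    Algebra k Γ(X, W) :=
  ((Scheme.ΓSpecIso (CommRingCat.of k)).inv ≫ p.appLE ⊤ W le_top).hom.toAlgebra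

/-- The `k`-algebra of a stalk. -/
noncomputable abbrev stalkAlg {k : Type u} [Field k] {X : Scheme.{u}} (p : X ⟶ Spec (CommRingCat.of k)) (x : X) :
    Algebra k (X.presheaf.stalk x) :=
  ((Scheme.ΓSpecIso (CommRingCat.of k)).inv ≫ p.appLE ⊤ ⊤ le_top ≫ X.presheaf.germ ⊤ x trivial).hom.toAlgebra

theorem stalkTower {k : Type u} [Field k] {X : Scheme.{u}} (p : X ⟶ Spec (CommRingCat.of k)) {W : X.Opens} {x : X}
    (hx : x ∈ W) :
    letI := chartAlg p W
    letI := stalkAlg p x
    letI := TopCat.Presheaf.algebra_section_stalk X.presheaf (⟨x, hx⟩ : W)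
    IsScalarTower k Γ(X, W) (X.presheaf.stalk x) := by
  letI := chartAlg p W
  letI := stalkAlg p x
  letI := TopCat.Presheaf.algebra_section_stalk X.presheaf (⟨x, hx⟩ : W)
  refine IsScalarTower.of_algebraMap_eq fun c => ?_
  let v := (Scheme.ΓSpecIso (CommRingCat.of k)).inv c
  show X.presheaf.germ ⊤ x trivial (p.appLE ⊤ ⊤ le_top v) = X.presheaf.germ W x hx (p.appLE ⊤ W le_top v)
  rw [← Scheme.Hom.appLE_map p (U := ⊤) (V := ⊤) le_top (homOfLE (le_top (a := W))).op]
  exact (TopCat.Presheaf.germ_res_apply X.presheaf (homOfLE (le_top (a := W))) x hx _).symm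

/-- The isomorphism on the base. -/
noncomputable def baseEquiv (k : Type u) [Field k] : k ≃+* Γ(Spec (CommRingCat.of k), ⊤) :=
  (Scheme.ΓSpecIso (CommRingCat.of k)).symm.commRingCatIsoToRingEquiv

theorem syntomic_iff {k : Type u} [Field k] {X : Scheme.{u}} (p : X ⟶ Spec (CommRingCat.of k)) (W : X.Opens) :
    Groth.Agent.Synt44.SyntomicHom (p.appLE ⊤ W le_top).hom ↔
      letI := chartAlg p W; Synt.IsSyntomic k Γ(X, W) := by
  letI := chartAlg p W
  rw [← Groth.Agent.Synt44.syntomicHom_algebraMap]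
  constructor
  · intro h
    exact Groth.Agent.Synt44.syntomicHom_respectsIso.2 _ (baseEquiv k) h
  · intro h
    have h2 := Groth.Agent.Synt44.syntomicHom_respectsIso.2 _ (baseEquiv k).symm h
    convert h2 using 1
    refine RingHom.ext fun c => ?_
    show _ = p.appLE ⊤ W le_top ((Scheme.ΓSpecIso (CommRingCat.of k)).inv ((baseEquiv k).symm c))
    exact congrArg _ ((baseEquiv k).apply_symm_apply c).symm

theorem isLCIOver_chart {k : Type u} [Field k] {X : Scheme.{u}} (p : X ⟶ Spec (CommRingCat.of k))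
    (h : Synt.IsSyntomicMor p) {W : X.Opens} (hW : IsAffineOpen W) :
    letI := chartAlg p W; Synt.IsLCIOver k Γ(X, W) := by
  letI := chartAlg p W
  exact Groth.Agent.Synt44.isLCIOver_of_isLCI (Groth.Agent.Synt44.isLCI_of_isSyntomic ((syntomic_iff p W).1
    ((Groth.Agent.Synt44.isSyntomicMor_iff_appLE p).1 h ⟨⊤, isAffineOpen_top _⟩ ⟨W, hW⟩ le_top)))

theorem isSyntomicAt_chart {k : Type u} [Field k] {X : Scheme.{u}} (p : X ⟶ Spec (CommRingCat.of k))
    {W : X.Opens} (hW : IsAffineOpen W) {x : X} (hx : x ∈ W)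
    (h : letI := chartAlg p W; Synt.IsLCIOver k Γ(X, W)) : Synt.IsSyntomicAt p x := by
  letI := chartAlg p W
  refine ⟨⟨W, hW⟩, ⟨⊤, isAffineOpen_top _⟩, le_top, hx, ?_⟩
  exact (syntomic_iff p W).2 (Groth.Agent.Synt44.isSyntomic_of_isLCI (Groth.Agent.Synt44.isLCI_of_isLCIOver h))

theorem stalk_isCIOver {k : Type u} [Field k] {X : Scheme.{u}} (p : X ⟶ Spec (CommRingCat.of k))
    {W : X.Opens} (hW : IsAffineOpen W) {x : X} (hx : x ∈ W)
    (h : letI := chartAlg p W; Synt.IsLCIOver k Γ(X, W)) :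
    letI := stalkAlg p x; Synt.IsCIOver k (X.presheaf.stalk x) := by
  letI := chartAlg p W
  letI := stalkAlg p x
  letI := TopCat.Presheaf.algebra_section_stalk X.presheaf (⟨x, hx⟩ : W)
  haveI := stalkTower p hx
  haveI := hW.isLocalization_stalk ⟨x, hx⟩
  exact Groth.Agent.Synt44.isCIOver_of_equiv ((IsLocalization.algEquiv (hW.primeIdealOf ⟨x, hx⟩).asIdeal.primeCompl
    (Localization.AtPrime (hW.primeIdealOf ⟨x, hx⟩).asIdeal) (X.presheaf.stalk x)).restrictScalars k)
    (Groth.Agent.Synt44.isCIOver_atPrime h _)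

theorem chart_isLCIOver {k : Type u} [Field k] {X : Scheme.{u}} (p : X ⟶ Spec (CommRingCat.of k))
    [LocallyOfFiniteType p]
    (h : ∀ x : X, letI := stalkAlg p x; Synt.IsCIOver k (X.presheaf.stalk x))
    {W : X.Opens} (hW : IsAffineOpen W) :
    letI := chartAlg p W; Synt.IsLCIOver k Γ(X, W) := by
  letI := chartAlg p W
  haveI : Algebra.FiniteType k Γ(X, W) :=
    (LocallyOfFiniteType.finiteType_appLE (f := p) (isAffineOpen_top _) hW le_top).comp
      (RingHom.FiniteType.of_surjective _ (baseEquiv k).surjective)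
  refine Groth.Agent.Synt44.isLCIOver_of_isCIOver_maximal fun m _ => ?_
  let y : PrimeSpectrum Γ(X, W) := ⟨m, inferInstance⟩
  let x := hW.fromSpec y
  have hx : x ∈ W := hW.range_fromSpec.le ⟨y, rfl⟩
  letI := stalkAlg p x
  letI := TopCat.Presheaf.algebra_section_stalk X.presheaf (⟨x, hx⟩ : W)
  haveI := stalkTower p hx
  haveI : IsLocalization m.primeCompl (X.presheaf.stalk x) := hW.isLocalization_stalk' y hx
  exact Groth.Agent.Synt44.isCIOver_of_equiv ((IsLocalization.algEquiv m.primeCompl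
    (X.presheaf.stalk x) (Localization.AtPrime m)).restrictScalars k) (h x)

end

open AlgebraicGeometry CategoryTheory in
/-- For X locally of finite type over a field k with structure morphism p, the following are equivalent:
(1) p is syntomic; (2) every x ∈ X has an affine open neighbourhood whose coordinate ring is a
global complete intersection over k; (3) each stalk O_{X,x} is a complete intersection ring over k
(k-algebra structures induced by p). -/
theorem result (k : Type u) [Field k] (X : Scheme.{u}) (p : X ⟶ Spec (CommRingCat.of k)) [LocallyOfFiniteType p] :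
    [Synt.IsSyntomicMor p,
      ∀ x : ↑X, ∃ U : X.affineOpens, x ∈ U.1 ∧
        letI := ((Scheme.ΓSpecIso (CommRingCat.of k)).inv ≫ p.appLE ⊤ U.1 le_top).hom.toAlgebra
        Synt.IsGlobalCI k Γ(X, U.1),
      ∀ x : ↑X,
        letI := ((Scheme.ΓSpecIso (CommRingCat.of k)).inv ≫ p.appLE ⊤ ⊤ le_top ≫ X.presheaf.germ ⊤ x trivial).hom.toAlgebra
        Synt.IsCIOver k (X.presheaf.stalk x)].TFAE := by
  tfae_have 1 → 3 := fun h x => by
    obtain ⟨W, hW, hxW, -⟩ := exists_isAffineOpen_mem_and_subset (x := x) (U := ⊤) trivial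
    exact stalk_isCIOver p hW hxW (isLCIOver_chart p h hW)
  tfae_have 1 → 2 := fun h x => by
    obtain ⟨W, hW, hxW, -⟩ := exists_isAffineOpen_mem_and_subset (x := x) (U := ⊤) trivial
    letI := chartAlg p W
    obtain ⟨g, hg, hgci⟩ := (isLCIOver_chart p h hW).2 (hW.primeIdealOf ⟨x, hxW⟩)
    refine ⟨⟨X.basicOpen g, hW.basicOpen g⟩, ?_, ?_⟩
    · have h1 : (hW.primeIdealOf ⟨x, hxW⟩) ∈ PrimeSpectrum.basicOpen g := hg
      rw [← hW.fromSpec_preimage_basicOpen] at h1
      have h2 : hW.fromSpec (hW.primeIdealOf ⟨x, hxW⟩) ∈ X.basicOpen g := h1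
      rwa [hW.fromSpec_primeIdealOf] at h2
    · letI := chartAlg p (X.basicOpen g)
      show Synt.IsGlobalCI k Γ(X, X.basicOpen g)
      haveI := hW.isLocalization_basicOpen g
      haveI : IsScalarTower k Γ(X, W) Γ(X, X.basicOpen g) := IsScalarTower.of_algebraMap_eq' (by
        show ((Scheme.ΓSpecIso (CommRingCat.of k)).inv ≫ p.appLE ⊤ (X.basicOpen g) le_top).hom = _
        rw [← Scheme.Hom.appLE_map p (U := ⊤) (V := W) le_top (homOfLE (X.basicOpen_le g)).op]
        rfl)
      exact Groth.Agent.Synt44.isGlobalCI_of_equiv ((IsLocalization.algEquiv (Submonoid.powers g) (Localization.Away g)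
        Γ(X, X.basicOpen g)).restrictScalars k) hgci
  tfae_have 2 → 1 := fun h x => by
    obtain ⟨U, hxU, hU⟩ := h x
    letI := chartAlg p U.1
    exact isSyntomicAt_chart p U.2 hxU (Groth.Agent.Synt44.isLCIOver_of_isGlobalCI hU)
  tfae_have 3 → 1 := fun h x => by
    obtain ⟨W, hW, hxW, -⟩ := exists_isAffineOpen_mem_and_subset (x := x) (U := ⊤) trivial
    exact isSyntomicAt_chart p hW hxW (chart_isLCIOver p h hW)
  tfae_finish

end Groth.Agent.S9368
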