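import Groth.Statements.S9373
import Groth.Agent.S9390

set_option autoImplicit false
universe u
open QCohSub

namespace Groth.Agent.S9373

open AlgebraicGeometry CategoryTheory in
/-- The support of a quasi-coherent O_X-module is closed under specialization. -/
theorem result (X : Scheme.{u}) (F : X.Modules) (hF : Coh.IsQCoh F) :
    StableUnderSpecialization (CohB1.support F) := by
  intro y x hyx hy
  obtain ⟨_, ⟨U, (hU : IsAffineOpen U), rfl⟩, hxU, -⟩ :=
    X.isBasis_affineOpens.exists_subset_of_mem_open (Set.mem_univ x) isOpen_univ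
  have hyU : y ∈ U := hyx.mem_open U.isOpen hxU
  refine (S9390.result X F hF ⟨U, hU⟩ x hxU).mp ?_
  refine Module.mem_support_mono ?_ ((S9390.result X F hF ⟨U, hU⟩ y hyU).mpr hy)
  -- prime of the generalization is smaller
  rw [PrimeSpectrum.le_iff_specializes]
  have h := hU.fromSpec.isOpenEmbedding.isEmbedding.toIsInducing.specializes_iff (x := hU.primeIdealOf ⟨y, hyU⟩)
    (y := hU.primeIdealOf ⟨x, hxU⟩)
  rw [hU.fromSpec_primeIdealOf, hU.fromSpec_primeIdealOf] at h
  exact h.mp hyx

end Groth.Agent.S9373
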