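import Groth.Statements.S9378
import Groth.Agent.ScSupp.Flat

set_option autoImplicit false
universe u
open QCohSub

namespace Groth.Agent.S9378

open AlgebraicGeometry CategoryTheory Opposite in
/-- Let f : Y → X be flat and F a quasi-coherent O_X-module of finite type, where the ideal sheaf J
(given by annihilators on affine opens) defines the scheme-theoretic support of F. Then the inverse
image ideal sheaf of J along f cuts out the scheme-theoretic support of f^*F. -/
theorem result {Y X : Scheme.{u}} (f : Y ⟶ X) [Flat f] (F : X.Modules)
    (hq : Coh.IsQCoh F) (hft : CohB1.IsFT F) (J : X.IdealSheafData)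
    (hJ : ∀ U : X.affineOpens, J.ideal U = Module.annihilator Γ(X, U.1) Γ(F, U.1)) :
    ∀ V : Y.affineOpens, (J.comap f).ideal V =
      Module.annihilator Γ(Y, V.1) Γ((Scheme.Modules.pullback f).obj F, V.1) := by
  haveI : F.IsQuasicoherent := hq
  haveI : F.IsFiniteType := hft
  exact fun V => Groth.Agent.ScSupp.comap_ideal_eq f F J hJ V

end Groth.Agent.S9378
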