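import Groth.Statements.S9379
import Groth.Agent.S2843
import Groth.Agent.EtStruct.QFinPts

set_option autoImplicit false
set_option backward.isDefEq.respectTransparency.types false
set_option linter.style.haveILetI false
universe u
open Synt

namespace Groth.Agent.S9379

open AlgebraicGeometry CategoryTheory CategoryTheory.Limits in
/-- Over a field, complete intersection relative to the field is absolute complete intersection. -/
theorem isCIOver_stalk_iff {K : Type u} [Field K] {X : Scheme.{u}} (φ : X ⟶ Spec (CommRingCat.of K))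
    [LocallyOfFiniteType φ] (x : X) :
    (letI := ((Scheme.ΓSpecIso (CommRingCat.of K)).inv ≫ φ.appLE ⊤ ⊤ le_top ≫
        X.presheaf.germ ⊤ x trivial).hom.toAlgebra;
      Synt.IsCIOver K (X.presheaf.stalk x)) ↔ Pi1.IsCompleteIntersection (X.presheaf.stalk x) := by
  letI algA : Algebra K (X.presheaf.stalk x) := ((Scheme.ΓSpecIso (CommRingCat.of K)).inv ≫ φ.appLE ⊤ ⊤ le_top ≫
        X.presheaf.germ ⊤ x trivial).hom.toAlgebra
  obtain ⟨W, hW, hxW, -⟩ := exists_isAffineOpen_mem_and_subset (x := x) (U := ⊤) trivial
  letI : Algebra K Γ(X, W) :=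
    ((φ.appLE ⊤ W le_top).hom.comp (Scheme.ΓSpecIso (CommRingCat.of K)).inv.hom).toAlgebra
  haveI : Algebra.FiniteType K Γ(X, W) :=
    (LocallyOfFiniteType.finiteType_appLE (f := φ) (isAffineOpen_top _) hW le_top).comp
      (RingHom.FiniteType.of_surjective _
        ((ConcreteCategory.isIso_iff_bijective (Scheme.ΓSpecIso (CommRingCat.of K)).inv).mp inferInstance).2)
  letI : Algebra Γ(X, W) (X.presheaf.stalk x) := TopCat.Presheaf.algebra_section_stalk X.presheaf (⟨x, hxW⟩ : W)
  haveI : IsScalarTower K Γ(X, W) (X.presheaf.stalk x) := IsScalarTower.of_algebraMap_eq fun c => by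
    show X.presheaf.germ ⊤ x trivial (φ.appLE ⊤ ⊤ le_top ((Scheme.ΓSpecIso (CommRingCat.of K)).inv c)) =
      X.presheaf.germ W x hxW (φ.appLE ⊤ W le_top ((Scheme.ΓSpecIso (CommRingCat.of K)).inv c))
    rw [← TopCat.Presheaf.germ_res_apply X.presheaf (homOfLE (le_top (a := W))) x hxW
      (φ.appLE ⊤ ⊤ le_top ((Scheme.ΓSpecIso (CommRingCat.of K)).inv c))]
    congr 1
    exact CategoryTheory.congr_fun (φ.appLE_map (le_top : (⊤ : X.Opens) ≤ φ ⁻¹ᵁ ⊤) (homOfLE (le_top (a := W))).op) _
  haveI := hW.isLocalization_stalk ⟨x, hxW⟩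
  haveI : Algebra.EssFiniteType K (X.presheaf.stalk x) :=
    Algebra.EssFiniteType.comp K Γ(X, W) (X.presheaf.stalk x) (h₂ :=
      Algebra.EssFiniteType.of_isLocalization _ (hW.primeIdealOf ⟨x, hxW⟩).asIdeal.primeCompl)
  exact (Groth.Agent.CIntCI.isCI_iff_isCIOver K (X.presheaf.stalk x)).symm

open AlgebraicGeometry CategoryTheory CategoryTheory.Limits in
/-- Complete intersection local rings under a field extension. -/
theorem isCI_stalk_iff_baseChange {K K' : Type u} [Field K] [Field K'] (ι : K →+* K') {X X' : Scheme.{u}}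
    (φ : X ⟶ Spec (CommRingCat.of K)) [LocallyOfFiniteType φ] (φ' : X' ⟶ Spec (CommRingCat.of K'))
    (v : X' ⟶ X) (sq : IsPullback v φ' φ (Spec.map (CommRingCat.ofHom ι))) (x' : X') :
    Pi1.IsCompleteIntersection (X'.presheaf.stalk x') ↔ Pi1.IsCompleteIntersection (X.presheaf.stalk (v x')) := by
  letI : Algebra K K' := ι.toAlgebra
  rw [show v x' = (pullback.fst φ (Spec.map (CommRingCat.ofHom (algebraMap K K')))) (sq.isoPullback.hom x') by
    rw [← Scheme.Hom.comp_apply]; exact congrArg (fun m : X' ⟶ X => m x') sq.isoPullback_hom_fst.symm]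
  exact (S2843.isCI_stalk_iff_of_isOpenImmersion sq.isoPullback.hom x').symm.trans
    (S2843.result X φ (sq.isoPullback.hom x')).symm

open AlgebraicGeometry CategoryTheory in
/-- For f : X → S locally of finite type, the set of points x at which the local ring of the fibre X_{f
x} is a complete intersection over κ(f x) is compatible with arbitrary base change: in a cartesian
square with base change f' : X' → S', g' : X' → X, the corresponding set for f' is the inverse image
of the one for f. (The published statement adds that, for f flat and locally of finite presentation,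
the set of points at which f is syntomic is compatible with base change in the same way; this row
states only the first assertion.) -/
theorem result {X S X' S' : Scheme.{u}} (f : X ⟶ S) [LocallyOfFiniteType f] (g : S' ⟶ S)
    (g' : X' ⟶ X) (f' : X' ⟶ S') (hsq : IsPullback g' f' f g) :
    {x' : ↑X' |
        letI := ((Scheme.ΓSpecIso (S'.residueField (f'.base x'))).inv ≫
            (f'.fiberToSpecResidueField (f'.base x')).appLE ⊤ ⊤ le_top ≫
              (f'.fiber (f'.base x')).presheaf.germ ⊤ (f'.asFiber x') trivial).hom.toAlgebra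
        Synt.IsCIOver (S'.residueField (f'.base x')) ((f'.fiber (f'.base x')).presheaf.stalk (f'.asFiber x'))} =
      g'.base ⁻¹' {x : ↑X |
        letI := ((Scheme.ΓSpecIso (S.residueField (f.base x))).inv ≫
            (f.fiberToSpecResidueField (f.base x)).appLE ⊤ ⊤ le_top ≫
              (f.fiber (f.base x)).presheaf.germ ⊤ (f.asFiber x) trivial).hom.toAlgebra
        Synt.IsCIOver (S.residueField (f.base x)) ((f.fiber (f.base x)).presheaf.stalk (f.asFiber x))} := by
  haveI : LocallyOfFiniteType f' := MorphismProperty.of_isPullback hsq ‹LocallyOfFiniteType f›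
  have hl : ∀ y, LocallyOfFiniteType (f.fiberToSpecResidueField y) :=
    fun y => MorphismProperty.pullback_snd (P := @LocallyOfFiniteType.{u}) _ _ inferInstance
  have hl' : ∀ y, LocallyOfFiniteType (f'.fiberToSpecResidueField y) :=
    fun y => MorphismProperty.pullback_snd (P := @LocallyOfFiniteType.{u}) _ _ inferInstance
  ext x'
  haveI := hl (f (g' x'))
  haveI := hl' (f' x')
  haveI := hl (g (f' x'))
  have key : ∀ (y : S) (z : ↥(f.fiber y)) (x : X), f x = y → f.fiberι y z = x →
      (Pi1.IsCompleteIntersection ((f.fiber y).presheaf.stalk z) ↔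
        Pi1.IsCompleteIntersection ((f.fiber (f x)).presheaf.stalk (f.asFiber x))) := by
    rintro y z x rfl hz
    rw [show z = f.asFiber x from (f.fiberι _).isEmbedding.injective (hz.trans (f.fiberι_asFiber _).symm)]
  refine (@isCIOver_stalk_iff _ _ _ (f'.fiberToSpecResidueField (f' x')) (hl' (f' x')) (f'.asFiber x')).trans
    (Iff.trans ?_ (@isCIOver_stalk_iff _ _ _ (f.fiberToSpecResidueField (f (g' x'))) (hl _) (f.asFiber (g' x'))).symm)
  refine (isCI_stalk_iff_baseChange (g.residueFieldMap (f' x')).hom (f.fiberToSpecResidueField (g (f' x')))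
    (f'.fiberToSpecResidueField (f' x')) _ (isPullback_fiberToSpecResidueField_of_isPullback hsq (f' x'))
    (f'.asFiber x')).trans (key _ _ (g' x') ?_ ?_)
  · rw [← Scheme.Hom.comp_apply, ← Scheme.Hom.comp_apply, hsq.w]
  · exact Groth.Agent.EtStruct.fiberMap_asFiber f hsq x'

end Groth.Agent.S9379
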