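import Groth.Statements.S9380
import Groth.Agent.RelSpecLib.SpecMapGamma

set_option autoImplicit false
universe u
open QAff

namespace Groth.Agent.S9380

open AlgebraicGeometry CategoryTheory CategoryTheory.Limits RelSpec Opposite

/-- Over an affine open `U`, the canonical morphism to the spectrum of the direct image is
`toSpecΓ` of the preimage of `U` into the chart. -/
theorem isPullback_chart {X S : Scheme.{u}} (f : X ⟶ S) [QuasiCompact f] [QuasiSeparated f]
    (c : X ⟶ (QCAlg.directImage f).spec) (e : c ≫ (QCAlg.directImage f).π = f)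
    (he : (QCAlg.directImage f).gammaMap = AffAlg.algHom (QCAlg.directImage f).π f c e)
    (U : S.Opens) (hU : IsAffineOpen U) :
    IsPullback (f ⁻¹ᵁ U).toSpecΓ (f ⁻¹ᵁ U).ι ((QCAlg.directImage f).ι U hU) c := by
  have hcomm : (f ⁻¹ᵁ U).ι ≫ c = (f ⁻¹ᵁ U).toSpecΓ ≫ (QCAlg.directImage f).ι U hU := by
    rw [← AffAlgLib.toSpecΓ_map_appLE_fromSpec (f ⁻¹ᵁ U) c (hU.preimage (QCAlg.directImage f).π)
      (AffAlgLib.le_preimage (QCAlg.directImage f).π f e U), RelSpecLib.ι_eq]
    congr 2
    have h : (QCAlg.directImage f).gammaMap.app (op U) =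
        (AffAlg.algHom (QCAlg.directImage f).π f c e).app (op U) :=
      NatTrans.congr_app he (op U)
    rw [AffAlgLib.algHom_app, QCAlg.gammaMap_app _ U hU] at h
    exact congrArg Spec.map h.symm
  have hi : IsOpenImmersion ((QCAlg.directImage f).ι U hU) := inferInstance
  have hr : c ⁻¹ᵁ ((QCAlg.directImage f).π ⁻¹ᵁ U) = (f ⁻¹ᵁ U).ι.opensRange := by
    rw [← Scheme.Hom.comp_preimage, e, Scheme.Opens.opensRange_ι]
  refine @IsOpenImmersion.isPullback _ _ _ _ _ _ _ _ inferInstance hi hcomm ?_
  exact (congrArg (c ⁻¹ᵁ ·) ((QCAlg.directImage f).π_preimage U hU).symm).trans hr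

/-- A property of a base change holds for the chosen pullback. -/
theorem snd_of_isPullback {P : MorphismProperty Scheme.{u}} [P.RespectsIso] {A B C D : Scheme.{u}}
    {a : A ⟶ B} {g : A ⟶ C} {f : B ⟶ D} {i : C ⟶ D} (pb : IsPullback a g f i) (h : P g) :
    P (pullback.snd f i) := by
  rwa [← pb.isoPullback_inv_snd, MorphismProperty.cancel_left_of_respectsIso P]

end Groth.Agent.S9380

namespace Groth.Agent.S9380

open AlgebraicGeometry CategoryTheory in
/-- A quasi-compact quasi-separated morphism f : X → S is quasi-affine if and only if the canonical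
S-morphism X → Spec_S(f_*O_X) (the one inducing the comparison map on direct-image algebras) exists
as a quasi-compact open immersion. -/
theorem result {X S : Scheme.{u}} (f : X ⟶ S) [QuasiCompact f] [QuasiSeparated f] :
    MoreMor.IsQuasiAffineHom f ↔
      ∃ (c : X ⟶ (RelSpec.QCAlg.directImage f).spec) (e : c ≫ (RelSpec.QCAlg.directImage f).π = f),
        (RelSpec.QCAlg.directImage f).gammaMap = AffAlg.algHom (RelSpec.QCAlg.directImage f).π f c e ∧
          QuasiCompact c ∧ IsOpenImmersion c := by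
  open Limits in
  constructor
  · intro hf
    obtain ⟨c, e, he⟩ := AffAlgLib.exists_eq_algHom (RelSpec.QCAlg.directImage f).π f
      (RelSpec.QCAlg.directImage f).gammaMap (RelSpec.QCAlg.π_c_gammaMap _)
    refine ⟨c, e, he.symm, ?_⟩
    let A := RelSpec.QCAlg.directImage f
    let 𝒰 : A.spec.OpenCover := Scheme.Cover.mkOfCovers {U : S.Opens // IsAffineOpen U} _
      (fun U => A.ι U.1 U.2) (fun x => by
        obtain ⟨_, ⟨U, hU, rfl⟩, hxU, -⟩ := S.isBasis_affineOpens.exists_subset_of_mem_open
          (show A.π x ∈ (⊤ : S.Opens) from trivial) isOpen_univ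
        obtain ⟨z, hz⟩ := RelSpecLib.exists_ι_apply_eq A x U hU hxU
        exact ⟨⟨U, hU⟩, z, hz⟩)
    have hloc : ∀ (U : S.Opens) (hU : IsAffineOpen U),
        IsOpenImmersion (f ⁻¹ᵁ U).toSpecΓ ∧ QuasiCompact (f ⁻¹ᵁ U).toSpecΓ := by
      intro U hU
      have := hf.2 U hU
      have : IsOpenImmersion (f ⁻¹ᵁ U).toSpecΓ := by
        rw [Scheme.Opens.toSpecΓ]; infer_instance
      refine ⟨this, ?_⟩
      have : CompactSpace (f ⁻¹ᵁ U : Scheme.{u}) :=
        isCompact_iff_compactSpace.mp (f.isCompact_preimage hU.isCompact)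
      exact (quasiCompact_iff_compactSpace _).mpr this
    constructor
    · refine (IsZariskiLocalAtTarget.iff_of_openCover (P := @QuasiCompact) 𝒰).2 ?_
      rintro ⟨U, hU⟩
      exact snd_of_isPullback (P := @QuasiCompact) (isPullback_chart f c e he.symm U hU).flip (hloc U hU).2
    · refine (IsZariskiLocalAtTarget.iff_of_openCover (P := @IsOpenImmersion) 𝒰).2 ?_
      rintro ⟨U, hU⟩
      exact snd_of_isPullback (P := @IsOpenImmersion) (isPullback_chart f c e he.symm U hU).flip (hloc U hU).1
  · rintro ⟨c, e, he, -, hc⟩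
    refine ⟨inferInstance, fun U hU => ?_⟩
    have : CompactSpace (f ⁻¹ᵁ U : Scheme.{u}) :=
      isCompact_iff_compactSpace.mp (f.isCompact_preimage hU.isCompact)
    have h1 : IsOpenImmersion (f ⁻¹ᵁ U).toSpecΓ :=
      MorphismProperty.of_isPullback (isPullback_chart f c e he U hU).flip hc
    have : IsImmersion (f ⁻¹ᵁ U : Scheme.{u}).toSpecΓ := by
      have e2 : (f ⁻¹ᵁ U : Scheme.{u}).toSpecΓ =
          (f ⁻¹ᵁ U).toSpecΓ ≫ Spec.map (f ⁻¹ᵁ U).topIso.hom := by
        rw [Scheme.Opens.toSpecΓ, Category.assoc, ← Spec.map_comp, Iso.hom_inv_id, Spec.map_id,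
          Category.comp_id]
      rw [e2]; infer_instance
    constructor

end Groth.Agent.S9380
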