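import Groth.Statements.S9382
import Mathlib.AlgebraicGeometry.Morphisms.ClosedImmersion

set_option autoImplicit false
universe u
open QCohSub

namespace Groth.Agent.S9382

open AlgebraicGeometry CategoryTheory in
/-- For closed subschemes Z, Y ⊆ X with ideal sheaves I, J, the scheme-theoretic intersection (ideal
sheaf I ⊔ J) together with its inclusions into Z and Y forms a cartesian square over X. -/
theorem result (X : Scheme.{u}) (I J : X.IdealSheafData) :
    IsPullback (Scheme.IdealSheafData.inclusion (le_sup_left : I ≤ I ⊔ J))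
      (Scheme.IdealSheafData.inclusion (le_sup_right : J ≤ I ⊔ J)) I.subschemeι J.subschemeι := by
  have hs : Scheme.IdealSheafData.inclusion (le_sup_left : I ≤ I ⊔ J) ≫ I.subschemeι =
      (I ⊔ J).subschemeι := Scheme.IdealSheafData.inclusion_subschemeι _
  refine IsPullback.of_isLimit' ⟨(Scheme.IdealSheafData.inclusion_subschemeι _).trans
    (Scheme.IdealSheafData.inclusion_subschemeι _).symm⟩ ?_
  have key : ∀ {T : Scheme.{u}} (a : T ⟶ I.subscheme) (b : T ⟶ J.subscheme),
      a ≫ I.subschemeι = b ≫ J.subschemeι → (I ⊔ J).subschemeι.ker ≤ (a ≫ I.subschemeι).ker := by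
    intro T a b h
    rw [Scheme.IdealSheafData.ker_subschemeι, sup_le_iff]
    refine ⟨?_, ?_⟩
    · conv_lhs => rw [← Scheme.IdealSheafData.ker_subschemeι I]
      exact Scheme.Hom.le_ker_comp _ _
    · rw [h]
      conv_lhs => rw [← Scheme.IdealSheafData.ker_subschemeι J]
      exact Scheme.Hom.le_ker_comp _ _
  refine Limits.PullbackCone.IsLimit.mk _
    (fun s ↦ IsClosedImmersion.lift (I ⊔ J).subschemeι (s.fst ≫ I.subschemeι)
      (key s.fst s.snd s.condition)) (fun s ↦ ?_) (fun s ↦ ?_) (fun s m h₁ _ ↦ ?_)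
  · rw [← cancel_mono I.subschemeι, Category.assoc, hs, IsClosedImmersion.lift_fac]
  · rw [← cancel_mono J.subschemeι, Category.assoc, Scheme.IdealSheafData.inclusion_subschemeι,
      IsClosedImmersion.lift_fac, s.condition]
  · rw [← cancel_mono (I ⊔ J).subschemeι, IsClosedImmersion.lift_fac, ← h₁, Category.assoc, hs]

end Groth.Agent.S9382
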