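import Groth.Statements.S9385
import Groth.Agent.FlatMor.SchDom

set_option autoImplicit false
universe u
open SchDense

namespace Groth.Agent.S9385

open AlgebraicGeometry CategoryTheory in
/-- Let h : Z → X be an immersion, and suppose that either Z is reduced or h is quasi-compact. Write Z̄
⊆ X for the scheme-theoretic image of h. Then Z → Z̄ is an open immersion identifying Z with a
scheme-theoretically dense (in the for-every-open sense) and topologically dense open subscheme of
Z̄. -/
theorem result {Z X : Scheme.{u}} (h : Z ⟶ X) [IsImmersion h]
    (hyp : QuasiCompact h ∨ IsReduced Z) :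
    ∃ hI : IsOpenImmersion h.toImage,
      (∀ W : h.image.Opens, IsSchemeTheoreticallyDominant
          (h.image.homOfLE (inf_le_right : @Scheme.Hom.opensRange _ _ h.toImage hI ⊓ W ≤ W))) ∧
        DenseRange h.toImage.base := by
  have hI : IsOpenImmersion h.toImage := FlatMor.SchDom.isOpenImmersion_toImage' h hyp
  refine ⟨hI, fun W => ?_, ?_⟩
  · have := FlatMor.SchDom.toImage_dominant h hyp
    refine FlatMor.SchDom.homOfLE_inf_dominant h.toImage ?_ W
    refine hyp.imp (fun (hq : QuasiCompact h) => ?_) id
    have : QuasiCompact (h.toImage ≫ h.imageι) := by rwa [h.toImage_imageι]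
    exact QuasiCompact.of_comp _ h.imageι
  · have := FlatMor.SchDom.toImage_dominant h hyp
    refine FlatMor.SchDom.denseRange_of_dominant h.toImage ?_
    refine hyp.imp (fun (hq : QuasiCompact h) => ?_) id
    have : QuasiCompact (h.toImage ≫ h.imageι) := by rwa [h.toImage_imageι]
    exact QuasiCompact.of_comp _ h.imageι

end Groth.Agent.S9385
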