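import Groth.Statements.S9393
import Groth.Agent.CAlg48.N1Local
import Mathlib

set_option autoImplicit false
universe u
open CAlg

namespace Groth.Agent.S9393

/-- Being N-1 can be checked on a finite cover of Spec R by principal opens whose rings are N-1 domains. -/
theorem result (R : Type u) [CommRing R] [IsDomain R]
    {ι : Type u} [Finite ι] (f : ι → R) (hf : Ideal.span (Set.range f) = ⊤)
    (Rf : ι → Type u) [∀ i, CommRing (Rf i)] [∀ i, IsDomain (Rf i)] [∀ i, Algebra R (Rf i)]
    [∀ i, IsLocalization.Away (f i) (Rf i)] (h : ∀ i, CAlg.IsN1 (Rf i)) : CAlg.IsN1 R := by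
  classical
  haveI := Fintype.ofFinite ι
  have hinj : Function.Injective (algebraMap R (FractionRing R)) := IsFractionRing.injective R _
  refine CAlg48.N1Local.finite_of_span (FractionRing R) hinj (Finset.univ.image f) (by simpa using hf)
    (fun g => Localization.Away g) fun g hg hg0 _ _ => ?_
  obtain ⟨i, -, rfl⟩ := Finset.mem_image.mp hg
  let e : Rf i ≃ₐ[R] Localization.Away (f i) := IsLocalization.algEquiv (Submonoid.powers (f i)) _ _
  letI : Algebra (Rf i) (Localization.Away (f i)) := e.toRingEquiv.toRingHom.toAlgebra
  haveI : IsLocalization (⊥ : Submonoid (Rf i)) (Rf i) :=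
    IsLocalization.self (fun x hx => by rw [Submonoid.mem_bot.mp hx]; exact isUnit_one)
  haveI : IsLocalization (⊥ : Submonoid (Rf i)) (Localization.Away (f i)) :=
    IsLocalization.isLocalization_of_algEquiv _ (AlgEquiv.ofRingEquiv (f := e.toRingEquiv) fun _ => rfl)
  letI : Algebra (Rf i) (FractionRing R) :=
    ((algebraMap (Localization.Away (f i)) (FractionRing R)).comp e.toRingEquiv.toRingHom).toAlgebra
  haveI : IsScalarTower (Rf i) (Localization.Away (f i)) (FractionRing R) := IsScalarTower.of_algebraMap_eq' rfl
  haveI : IsScalarTower R (Rf i) (FractionRing R) := IsScalarTower.of_algebraMap_eq fun r => by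
    show _ = algebraMap (Localization.Away (f i)) (FractionRing R) (e (algebraMap R (Rf i) r))
    rw [e.commutes, ← IsScalarTower.algebraMap_apply]
  haveI : IsFractionRing (Rf i) (FractionRing R) :=
    IsFractionRing.isFractionRing_of_isDomain_of_isLocalization (Submonoid.powers (f i)) _ _
  exact CAlg48.N1Local.finite_localization ⊥ (Localization.Away (f i)) (FractionRing R)
    (CAlg48.N1Local.finite_of_isN1 (h i) _)

end Groth.Agent.S9393
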