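import Groth.Statements.S9394
import Groth.Agent.CAlg48.N1Local
import Mathlib

set_option autoImplicit false
universe u
open CAlg

namespace Groth.Agent.S9394

/-- Being N-2 (Japanese) can be checked on a finite cover of Spec R by principal opens whose rings are
N-2 domains. -/
theorem result (R : Type u) [CommRing R] [IsDomain R]
    {ι : Type u} [Finite ι] (f : ι → R) (hf : Ideal.span (Set.range f) = ⊤)
    (Rf : ι → Type u) [∀ i, CommRing (Rf i)] [∀ i, IsDomain (Rf i)] [∀ i, Algebra R (Rf i)]
    [∀ i, IsLocalization.Away (f i) (Rf i)] (h : ∀ i, CAlg.IsN2 (Rf i)) : CAlg.IsN2 R := by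
  classical
  haveI := Fintype.ofFinite ι
  refine Props.N2Local.isN2_of_span (Finset.univ.image f) (by simpa using hf)
    (fun g => Localization.Away g) fun g hg hg0 _ => ?_
  obtain ⟨i, -, rfl⟩ := Finset.mem_image.mp hg
  exact Props.N2Local.isN2_of_ringEquiv
    (IsLocalization.algEquiv (Submonoid.powers (f i)) (Rf i) (Localization.Away (f i))).toRingEquiv (h i)

end Groth.Agent.S9394
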