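import Groth.Statements.S9395
import Mathlib
-- import your own Groth.Agent.* helpers here

set_option autoImplicit false
universe u
open CAlg

namespace Groth.Agent.S9395

/-- For a Noetherian domain R, if the Laurent polynomial ring R[X, 1/X] (the localization of R[X] away
from X) is N-1, then R is N-1. -/
theorem result (R : Type u) [CommRing R] [IsDomain R] [IsNoetherianRing R]
    (S : Type u) [CommRing S] [IsDomain S] [Algebra (Polynomial R) S]
    [IsLocalization.Away (Polynomial.X : Polynomial R) S] (h : CAlg.IsN1 S) : CAlg.IsN1 R := by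
  classical
  let φ : R →+* S := (algebraMap (Polynomial R) S).comp Polynomial.C
  have hXle : Submonoid.powers (Polynomial.X : Polynomial R) ≤ nonZeroDivisors (Polynomial R) :=
    powers_le_nonZeroDivisors_of_noZeroDivisors Polynomial.X_ne_zero
  haveI : IsNoetherianRing S := IsLocalization.isNoetherianRing (Submonoid.powers (Polynomial.X : Polynomial R)) S inferInstance
  have hφ : Function.Injective φ := (IsLocalization.injective S hXle).comp Polynomial.C_injective
  have he1 : IsUnit (Polynomial.evalRingHom (1 : R) Polynomial.X) := by simp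
  let e : S →+* R := IsLocalization.Away.lift (Polynomial.X : Polynomial R) he1
  have heφ : ∀ r, e (φ r) = r := fun r => by simp [e, φ]
  let K := FractionRing R
  let L := FractionRing S
  let ψ : R →+* L := (algebraMap S L).comp φ
  have hψ : Function.Injective ψ := (IsFractionRing.injective S L).comp hφ
  let ι : K →+* L := IsFractionRing.lift hψ
  have hι : ∀ r, ι (algebraMap R K r) = algebraMap S L (φ r) := fun r => IsFractionRing.lift_algebraMap hψ r
  have hint : ∀ x : integralClosure R K, IsIntegral S (ι x.1) := by
    intro x
    obtain ⟨p, hp, hpx⟩ := x.2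
    refine ⟨p.map φ, hp.map φ, ?_⟩
    rw [Polynomial.eval₂_map]
    have := congrArg ι hpx
    rwa [map_zero, Polynomial.hom_eval₂, show ι.comp (algebraMap R K) = (algebraMap S L).comp φ from RingHom.ext hι] at this
  haveI : Module.Finite S (integralClosure S L) := h
  let G : Set (integralClosure S L) := Set.range fun x : integralClosure R K => ⟨ι x.1, hint x⟩
  obtain ⟨t, htG, ht⟩ := (Submodule.fg_span_iff_fg_span_finset_subset G).mp
    (IsNoetherian.noetherian (Submodule.span S G))
  choose pre hpre using fun g : t => htG g.2
  refine ⟨⟨Finset.univ.image pre, Submodule.eq_top_iff'.mpr fun x => ?_⟩⟩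
  have hx : (⟨ι x.1, hint x⟩ : integralClosure S L) ∈ Submodule.span S (t : Set _) := by
    rw [← ht]
    exact Submodule.subset_span ⟨x, rfl⟩
  obtain ⟨c, hc⟩ := Submodule.mem_span_finset'.mp hx
  have hc' : ι x.1 = ∑ g : t, algebraMap S L (c g) * ι (pre g).1 := by
    have h1 := congrArg (fun w : integralClosure S L => (w : L)) hc
    simp only [AddSubmonoidClass.coe_finset_sum, SetLike.val_smul] at h1
    rw [← h1]
    refine Finset.sum_congr rfl fun g _ => ?_
    rw [Algebra.smul_def]
    congr 1
    exact (congrArg (fun w : integralClosure S L => (w : L)) (hpre g)).symm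
  obtain ⟨b, hb⟩ := IsLocalization.exist_integer_multiples_of_finset (nonZeroDivisors R)
    (insert x.1 (Finset.univ.image fun g : t => (pre g).1))
  obtain ⟨a, ha⟩ := hb x.1 (Finset.mem_insert_self _ _)
  choose a' ha' using fun g : t => hb (pre g).1 (Finset.mem_insert_of_mem (Finset.mem_image.mpr ⟨g, Finset.mem_univ _, rfl⟩))
  have h2 : φ a = ∑ g : t, c g * φ (a' g) := by
    apply IsFractionRing.injective S L
    rw [map_sum, ← hι, ha, Algebra.smul_def, map_mul, hc', Finset.mul_sum]
    refine Finset.sum_congr rfl fun g _ => ?_
    rw [map_mul, ← hι, ha', Algebra.smul_def, map_mul]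
    ring
  have h3 : a = ∑ g : t, e (c g) * a' g := by
    have := congrArg e h2
    simpa only [map_sum, map_mul, heφ] using this
  have h4 : x = ∑ g : t, e (c g) • pre g := by
    apply Subtype.ext
    simp only [AddSubmonoidClass.coe_finset_sum, SetLike.val_smul]
    refine mul_left_cancel₀ (show algebraMap R K (b : R) ≠ 0 from
      fun h0 => nonZeroDivisors.coe_ne_zero b (IsFractionRing.injective R K (h0.trans (map_zero _).symm))) ?_
    rw [← Algebra.smul_def, ← ha, h3, map_sum, Finset.mul_sum]
    refine Finset.sum_congr rfl fun g _ => ?_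
    rw [map_mul, ha', Algebra.smul_def, Algebra.smul_def]
    ring
  rw [h4]
  exact Submodule.sum_mem _ fun g _ => Submodule.smul_mem _ _
    (Submodule.subset_span (Finset.mem_coe.mpr (Finset.mem_image_of_mem _ (Finset.mem_univ g))))

end Groth.Agent.S9395
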