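import Groth.Statements.S9396
import Groth.Agent.CAlgLib.PowerSeriesN2
import Groth.Agent.Nagata.CompleteLocal
-- import your own Groth.Agent.* helpers here

set_option autoImplicit false
universe u
open CAlg

namespace Groth.Agent.S9396

/-- If R is a Noetherian N-2 (Japanese) domain, then the power series ring R[[X]] is an N-2 domain. (R
is not assumed integrally closed.) -/
theorem result (R : Type u) [CommRing R] [IsDomain R] [IsNoetherianRing R]
    (h : CAlg.IsN2 R) : CAlg.IsN2 (PowerSeries R) := by
  classical
  let R' := integralClosure R (FractionRing R)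
  have hfinR : Module.Finite R R' := h (FractionRing R) inferInstance
  have : IsIntegrallyClosed R' := integralClosure.isIntegrallyClosedOfFiniteExtension (FractionRing R)
  have : IsNoetherianRing R' := IsNoetherianRing.of_finite R R'
  have hinjR : Function.Injective (algebraMap R R') := fun x y hxy =>
    IsFractionRing.injective R (FractionRing R) (congrArg Subtype.val hxy)
  have h' : CAlg.IsN2 (PowerSeries R') := Groth.Agent.CAlgLib.PowerSeriesN2.isN2_powerSeries R'
    (Groth.Agent.Nagata.CompleteLocal.isN2_of_finite R R' hinjR h)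
  obtain ⟨G, hG⟩ := Module.Finite.fg_top (R := R) (M := R')
  obtain ⟨⟨d, hd⟩, hdG⟩ := IsLocalization.exist_integer_multiples_of_finset (nonZeroDivisors R)
    (G.image (fun g : R' => (g : FractionRing R)))
  have hclear : ∀ z : R', ∃ a : R, algebraMap R R' a = algebraMap R R' d * z := by
    intro z
    have hz : z ∈ Submodule.span R (G : Set R') := hG ▸ Submodule.mem_top
    induction hz using Submodule.span_induction with
    | mem g hg =>
      obtain ⟨a, ha⟩ := hdG _ (Finset.mem_image_of_mem _ hg)
      exact ⟨a, Subtype.ext (ha.trans (Algebra.smul_def _ _))⟩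
    | zero => exact ⟨0, by simp⟩
    | add u v _ _ hu hv =>
      obtain ⟨a, ha⟩ := hu
      obtain ⟨b, hb⟩ := hv
      exact ⟨a + b, by rw [map_add, ha, hb, mul_add]⟩
    | smul c u _ hu =>
      obtain ⟨a, ha⟩ := hu
      exact ⟨c * a, by rw [map_mul, ha, Algebra.smul_def]; ring⟩
  let A := PowerSeries R
  let A' := PowerSeries R'
  let _ : Algebra A A' := (PowerSeries.map (algebraMap R R')).toAlgebra
  have hinj : Function.Injective (algebraMap A A') := PowerSeries.map_injective _ hinjR
  have : FaithfulSMul A A' := (faithfulSMul_iff_algebraMap_injective A A').mpr hinj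
  have hfin : Module.Finite A A' := by
    refine ⟨G.image (PowerSeries.C (R := R')), ?_⟩
    rw [eq_top_iff]
    rintro f -
    have hc : ∀ n, ∃ c : R' → R, ∑ g ∈ G, c g • g = PowerSeries.coeff n f := fun n => by
      obtain ⟨c, -, hc⟩ := Submodule.mem_span_finset.mp (hG ▸ Submodule.mem_top :
        PowerSeries.coeff n f ∈ Submodule.span R (G : Set R'))
      exact ⟨c, hc⟩
    choose c hc using hc
    have hf : f = ∑ g ∈ G, (PowerSeries.mk fun n => c n g : A) • PowerSeries.C g := by
      refine PowerSeries.ext fun n => ?_
      rw [map_sum, ← hc n]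
      refine Finset.sum_congr rfl fun g _ => ?_
      rw [Algebra.smul_def]
      change _ = PowerSeries.coeff n (PowerSeries.map (algebraMap R R') (PowerSeries.mk fun n => c n g) * PowerSeries.C g)
      rw [PowerSeries.coeff_mul_C, PowerSeries.coeff_map, PowerSeries.coeff_mk]
    rw [hf]
    exact Submodule.sum_mem _ fun g hg => Submodule.smul_mem _ _
      (Submodule.subset_span (Finset.mem_coe.mpr (Finset.mem_image_of_mem _ hg)))
  let K' := FractionRing A'
  have hfrac : IsFractionRing A K' := by
    refine IsFractionRing.of_field (R := A) (K := K') fun z => ?_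
    obtain ⟨u, v, hv, rfl⟩ := IsFractionRing.div_surjective A' z
    have hd' : ∀ w : A', ∃ a : A, algebraMap A A' a = PowerSeries.C (algebraMap R R' d) * w := fun w => by
      choose a ha using fun n => hclear (PowerSeries.coeff n w)
      refine ⟨PowerSeries.mk a, PowerSeries.ext fun n => ?_⟩
      change PowerSeries.coeff n (PowerSeries.map (algebraMap R R') (PowerSeries.mk a)) = _
      rw [PowerSeries.coeff_map, PowerSeries.coeff_mk, ha, PowerSeries.coeff_C_mul]
    obtain ⟨a, ha⟩ := hd' u
    obtain ⟨b, hb⟩ := hd' v
    refine ⟨a, b, ?_⟩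
    rw [IsScalarTower.algebraMap_apply A A' K', IsScalarTower.algebraMap_apply A A' K', ha, hb,
      map_mul, map_mul, mul_div_mul_left]
    refine (map_ne_zero_iff _ (IsFractionRing.injective A' K')).mpr fun h0 => nonZeroDivisors.ne_zero hd ?_
    exact hinjR ((PowerSeries.C_injective (h0.trans (map_zero _).symm)).trans (map_zero _).symm)
  intro L _ _ _ _ hL
  let e : K' ≃ₐ[A] FractionRing A := (FractionRing.algEquiv A K').symm
  let _ : Algebra K' L := ((algebraMap (FractionRing A) L).comp e.toRingEquiv.toRingHom).toAlgebra
  let _ : Algebra A' L := ((algebraMap K' L).comp (algebraMap A' K')).toAlgebra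
  have : IsScalarTower A' K' L := IsScalarTower.of_algebraMap_eq fun _ => rfl
  have : IsScalarTower A A' L := IsScalarTower.of_algebraMap_eq fun a => by
    change _ = algebraMap (FractionRing A) L (e (algebraMap A' K' (algebraMap A A' a)))
    rw [← IsScalarTower.algebraMap_apply A A' K', e.commutes, ← IsScalarTower.algebraMap_apply]
  have : FiniteDimensional K' L := Module.Finite.of_equiv_equiv (A₁ := FractionRing A) (B₁ := L) (A₂ := K') (B₂ := L)
    e.symm.toRingEquiv (RingEquiv.refl L) (RingHom.ext fun x =>
      congrArg (algebraMap (FractionRing A) L) (e.apply_symm_apply x))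
  have : Module.Finite A' (integralClosure A' L) :=
    Groth.Agent.Props.N2Local.finite_integralClosure h' K' L
  exact Groth.Agent.Nagata.finite_integralClosure_of_tower (R' := A')

end Groth.Agent.S9396
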