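import Groth.Statements.S9397
import Groth.Agent.CAlg48.N1Local
import Mathlib

set_option autoImplicit false
universe u
open CAlg

namespace Groth.Agent.S9397

/-- A ring R is universally Japanese provided that each R-algebra of finite type which is a domain is
N-1. -/
theorem result (R : Type u) [CommRing R]
    (h : ∀ (S : Type u) [CommRing S] [IsDomain S] [Algebra R S], Algebra.FiniteType R S → CAlg.IsN1 S) :
    CAlg.IsUniversallyJapanese R := by
  intro S _ _ _ hS L _ _ _ _ hfin
  classical
  obtain ⟨s, hs⟩ : (⊤ : Submodule (FractionRing S) L).FG := Module.Finite.fg_top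
  haveI : Algebra.IsAlgebraic (FractionRing S) L := Algebra.IsAlgebraic.of_finite _ _
  haveI : Algebra.IsAlgebraic S L :=
    (IsFractionRing.comap_isAlgebraic_iff (A := S) (K := FractionRing S) (C := L)).mpr inferInstance
  obtain ⟨d, hd, hint⟩ := Algebra.IsAlgebraic.exists_integral_multiples S s
  let S' : Subalgebra S L := Algebra.adjoin S (↑(s.image fun x => d • x) : Set L)
  haveI : Module.Finite S S' := Module.Finite.iff_fg.mpr (fg_adjoin_of_finite (Finset.finite_toSet _) (by
    intro x hx
    obtain ⟨y, hy, rfl⟩ := Finset.mem_image.mp (Finset.mem_coe.mp hx)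
    exact hint y hy))
  letI : Algebra R S' := ((algebraMap S S').comp (algebraMap R S)).toAlgebra
  haveI : IsScalarTower R S S' := IsScalarTower.of_algebraMap_eq' rfl
  haveI : IsFractionRing S' L := by
    have hinjS : Function.Injective (algebraMap S L) := by
      rw [IsScalarTower.algebraMap_eq S (FractionRing S) L]
      exact (algebraMap (FractionRing S) L).injective.comp (IsFractionRing.injective S _)
    refine IsFractionRing.of_field S' L fun z => ?_
    let W : Submodule (FractionRing S) L :=
      { carrier := {z | ∃ a b : S', b ≠ 0 ∧ z * b = a}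
        zero_mem' := ⟨0, 1, one_ne_zero, by simp⟩
        add_mem' := by
          rintro x y ⟨a, b, hb, hx⟩ ⟨a', b', hb', hy⟩
          exact ⟨a * b' + a' * b, b * b', mul_ne_zero hb hb', by
            push_cast; linear_combination (b' : L) * hx + (b : L) * hy⟩
        smul_mem' := by
          rintro c x ⟨a, b, hb, hx⟩
          obtain ⟨p, q, hq, rfl⟩ := IsFractionRing.div_surjective (A := S) c
          have hq0 : algebraMap S L q ≠ 0 := fun h0 => nonZeroDivisors.ne_zero hq (hinjS (h0.trans (map_zero _).symm))
          refine ⟨algebraMap S S' p * a, algebraMap S S' q * b, mul_ne_zero (fun h0 => hq0 (congrArg Subtype.val h0)) hb, ?_⟩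
          push_cast
          rw [Algebra.smul_def, map_div₀, ← IsScalarTower.algebraMap_apply, ← IsScalarTower.algebraMap_apply]
          field_simp
          linear_combination (algebraMap S L p) * hx }
    have hW : (⊤ : Submodule (FractionRing S) L) ≤ W := by
      rw [← hs, Submodule.span_le]
      intro x hx
      refine ⟨⟨d • x, Algebra.subset_adjoin (Finset.mem_coe.mpr (Finset.mem_image_of_mem _ hx))⟩,
        algebraMap S S' d, fun h0 => hd (hinjS ((congrArg Subtype.val h0).trans (map_zero _).symm)), ?_⟩
      show x * algebraMap S L d = d • x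
      rw [Algebra.smul_def, mul_comm]
    obtain ⟨a, b, hb, hz⟩ := hW (Submodule.mem_top : z ∈ ⊤)
    refine ⟨a, b, ?_⟩
    show z = (a : L) / (b : L)
    rw [eq_div_iff (fun h0 => hb (Subtype.ext h0)), hz]
  have hft : Algebra.FiniteType R S' := Algebra.FiniteType.trans hS inferInstance
  haveI := CAlg48.N1Local.finite_of_isN1 (h S' hft) L
  haveI : Module.Finite S (integralClosure S' L) := Module.Finite.trans S' _
  haveI : Algebra.IsIntegral S S' := Algebra.IsIntegral.of_finite S S'
  exact Module.Finite.of_surjective
    ({ toFun := fun x => ⟨x.1, isIntegral_trans (R := S) x.1 x.2⟩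
       map_add' := fun _ _ => rfl
       map_smul' := fun _ _ => rfl } : integralClosure S' L →ₗ[S] integralClosure S L)
    fun x => ⟨⟨x.1, x.2.tower_top⟩, rfl⟩

end Groth.Agent.S9397
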