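import Groth.Statements.S9400
import Groth.Agent.CAlg48.N1Local
import Mathlib

set_option autoImplicit false
universe u
open CAlg

namespace Groth.Agent.S9400

/-- Being a Nagata ring can be checked on a finite cover of Spec R by principal opens. -/
theorem result (R : Type u) [CommRing R]
    {ι : Type u} [Finite ι] (f : ι → R) (hf : Ideal.span (Set.range f) = ⊤)
    (h : ∀ i, CAlg.IsNagata (Localization.Away (f i))) : CAlg.IsNagata R := by
  classical
  haveI := Fintype.ofFinite ι
  rw [Props.N2Local.isNagata_iff]
  refine ⟨?_, ?_⟩
  · refine AlgebraicGeometry.isNoetherianRing_of_away (S := Finset.univ.image f) (by simpa using hf) ?_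
    rintro ⟨g, hg⟩
    obtain ⟨i, -, rfl⟩ := Finset.mem_image.mp hg
    exact (h i).1
  · refine Props.N2Local.quotN2_of_span (Finset.univ.image f) (by simpa using hf)
      (fun g => Localization.Away g) fun g hg => ?_
    obtain ⟨i, -, rfl⟩ := Finset.mem_image.mp hg
    exact (Props.N2Local.isNagata_iff.mp (h i)).2

end Groth.Agent.S9400
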