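import Groth.Statements.S9401
import Groth.Agent.AGFHull.Reduced
import Groth.Agent.CAlg48.FFDescent
import Groth.Agent.Props.N2Local
import Mathlib

set_option autoImplicit false
universe u
open CAlg
open scoped TensorProduct

namespace Groth.Agent.S9401

open TensorProduct

set_option maxHeartbeats 1000000 in
/-- The fibre computation. -/
theorem finite_tensor (D : Type u) [CommRing D] [IsDomain D] (T : Type u) [CommRing T] [Algebra D T]
    [Algebra.Smooth D T] [IsNoetherianRing T]
    (hT : ∀ (P : Ideal T) [P.IsPrime], CAlg.IsN2 (T ⧸ P))
    (L : Type u) [Field L] [Algebra D L] [Algebra (FractionRing D) L] [IsScalarTower D (FractionRing D) L]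
    [FiniteDimensional (FractionRing D) L] :
    Module.Finite T (T ⊗[D] integralClosure D L) := by
  classical
  let E := T ⊗[D] L
  have eE : L ⊗[D] T ≃+* E := (Algebra.TensorProduct.comm D L T).toRingEquiv
  haveI : IsReduced E := by
    haveI := AGFHull.isReduced_of_smooth L (L ⊗[D] T)
    exact isReduced_of_injective eE.symm.toRingHom eE.symm.injective
  haveI : IsNoetherianRing E := by
    haveI : IsNoetherianRing (L ⊗[D] T) := Algebra.FiniteType.isNoetherianRing L _
    exact isNoetherianRing_of_ringEquiv _ eE
  haveI : Finite (minimalPrimes E) := (minimalPrimes.finite_of_isNoetherianRing E).to_subtype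
  haveI : ∀ P : minimalPrimes E, P.1.IsPrime := fun P => P.2.1.1
  have hinjDL : Function.Injective (algebraMap D L) := by
    rw [IsScalarTower.algebraMap_eq D (FractionRing D) L]
    exact (algebraMap (FractionRing D) L).injective.comp (IsFractionRing.injective D _)
  obtain ⟨B, hB⟩ : (⊤ : Submodule (FractionRing D) L).FG := Module.Finite.fg_top
  haveI : Algebra.IsAlgebraic (FractionRing D) L := Algebra.IsAlgebraic.of_finite _ _
  haveI : Algebra.IsAlgebraic D L :=
    (IsFractionRing.comap_isAlgebraic_iff (A := D) (K := FractionRing D) (C := L)).mpr inferInstance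
  -- the integral closures in the residue fields of the minimal primes
  let F : minimalPrimes E → Type u := fun P => FractionRing (E ⧸ P.1)
  let N : ∀ P, Submodule T (F P) := fun P => Subalgebra.toSubmodule (integralClosure T (F P))
  have hfin : ∀ P, Module.Finite T (N P) := by
    intro P
    let Q := E ⧸ P.1
    let K := FractionRing Q
    let P' : Ideal T := P.1.comap (algebraMap T E)
    let D' := T ⧸ P'
    let φ : D' →+* Q := Ideal.quotientMap P.1 (algebraMap T E) le_rfl
    have hφ : Function.Injective φ := Ideal.quotientMap_injective
    haveI : IsScalarTower T D' K := inferInstance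
    haveI : FaithfulSMul D' K := (faithfulSMul_iff_algebraMap_injective _ _).2
      ((IsFractionRing.injective Q K).comp hφ)
    letI : Algebra (FractionRing D') K := FractionRing.liftAlgebra _ _
    haveI : IsScalarTower D' (FractionRing D') K := FractionRing.isScalarTower_liftAlgebra _ _
    let ιL : L →+* K :=
      (algebraMap Q K).comp ((Ideal.Quotient.mk P.1).comp
        (Algebra.TensorProduct.includeRight : L →ₐ[D] E).toRingHom)
    have hιD : ∀ d : D, ιL (algebraMap D L d) =
        algebraMap (FractionRing D') K (algebraMap D' (FractionRing D') (algebraMap D D' d)) := by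
      intro d
      rw [← IsScalarTower.algebraMap_apply]
      show algebraMap Q K (Ideal.Quotient.mk P.1
        ((Algebra.TensorProduct.includeRight : L →ₐ[D] E) (algebraMap D L d))) = algebraMap Q K _
      rw [AlgHom.commutes]
      rfl
    -- `K` is finite over the fraction field of `D'`
    let G : IntermediateField (FractionRing D') K :=
      IntermediateField.adjoin (FractionRing D') (↑(B.image ιL) : Set K)
    have hint : ∀ x : L, IsIntegral (FractionRing D') (ιL x) := by
      intro x
      obtain ⟨q, hq0, hq⟩ := Algebra.IsAlgebraic.isAlgebraic (R := D) x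
      let ψ : D →+* FractionRing D' := (algebraMap D' (FractionRing D')).comp (algebraMap D D')
      have hψ : Function.Injective ψ := fun a b hab => hinjDL (ιL.injective (by
        rw [hιD, hιD]; exact congrArg (algebraMap (FractionRing D') K) hab))
      rw [← isAlgebraic_iff_isIntegral]
      refine ⟨q.map ψ, Polynomial.map_ne_zero_iff hψ |>.mpr hq0, ?_⟩
      rw [Polynomial.aeval_def, Polynomial.eval₂_map,
        show (algebraMap (FractionRing D') K).comp ψ = ιL.comp (algebraMap D L) from
          RingHom.ext fun d => (hιD d).symm,
        ← Polynomial.hom_eval₂, ← Polynomial.aeval_def, hq, map_zero]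
    haveI : FiniteDimensional (FractionRing D') G :=
      IntermediateField.finiteDimensional_adjoin fun y hy => by
        obtain ⟨x, -, rfl⟩ := Finset.mem_image.mp (Finset.mem_coe.mp hy)
        exact hint x
    have hL : ∀ x : L, ιL x ∈ G := by
      intro x
      have hx : x ∈ Submodule.span (FractionRing D) (B : Set L) := hB ▸ Submodule.mem_top
      induction hx using Submodule.span_induction with
      | mem y hy => exact IntermediateField.subset_adjoin _ _ (Finset.mem_coe.mpr (Finset.mem_image_of_mem _ hy))
      | zero => rw [map_zero]; exact zero_mem _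
      | add a b _ _ ha hb => rw [map_add]; exact add_mem ha hb
      | smul c y _ hy =>
        obtain ⟨a, b, -, rfl⟩ := IsFractionRing.div_surjective (A := D) c
        rw [Algebra.smul_def, map_div₀, ← IsScalarTower.algebraMap_apply, ← IsScalarTower.algebraMap_apply,
          map_mul, map_div₀, hιD, hιD]
        exact mul_mem (div_mem (G.algebraMap_mem _) (G.algebraMap_mem _)) hy
    have hT' : ∀ t : T, algebraMap Q K (Ideal.Quotient.mk P.1 (algebraMap T E t)) ∈ G := fun t => by
      have : algebraMap Q K (Ideal.Quotient.mk P.1 (algebraMap T E t)) =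
          algebraMap (FractionRing D') K (algebraMap D' (FractionRing D') (Ideal.Quotient.mk P' t)) := by
        rw [← IsScalarTower.algebraMap_apply]
        rfl
      rw [this]
      exact G.algebraMap_mem _
    have hQ : ∀ y : Q, algebraMap Q K y ∈ G := by
      intro y
      obtain ⟨z, rfl⟩ := Ideal.Quotient.mk_surjective y
      induction z using TensorProduct.induction_on with
      | zero => rw [map_zero, map_zero]; exact zero_mem _
      | tmul t x =>
        have : (t ⊗ₜ[D] x : E) = algebraMap T E t * (Algebra.TensorProduct.includeRight : L →ₐ[D] E) x := by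
          simp [E]
        rw [this, map_mul, map_mul]
        exact mul_mem (hT' t) (hL x)
      | add a b ha hb => rw [map_add, map_add]; exact add_mem ha hb
    have htop : ∀ y : K, y ∈ G := fun y => by
      obtain ⟨a, b, -, rfl⟩ := IsFractionRing.div_surjective (A := Q) y
      exact div_mem (hQ a) (hQ b)
    haveI : FiniteDimensional (FractionRing D') K := by
      refine Module.Finite.of_surjective (G.val.toLinearMap) fun y => ?_
      exact ⟨⟨y, htop y⟩, rfl⟩
    haveI : Module.Finite D' (integralClosure D' K) := hT P' K inferInstance
    haveI : Module.Finite T D' := inferInstance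
    haveI : Module.Finite T (integralClosure D' K) := Module.Finite.trans D' _
    haveI : Algebra.IsIntegral T D' := Algebra.IsIntegral.of_finite T D'
    exact Module.Finite.of_surjective
      ({ toFun := fun x => ⟨x.1, isIntegral_trans (R := T) x.1 x.2⟩
         map_add' := fun _ _ => rfl
         map_smul' := fun _ _ => rfl } : integralClosure D' K →ₗ[T] N P)
      fun x => ⟨⟨x.1, IsIntegral.tower_top (x.2 : IsIntegral T x.1)⟩, rfl⟩
  -- the embedding
  let ι : T ⊗[D] integralClosure D L →ₐ[T] E :=
    Algebra.TensorProduct.map (AlgHom.id T T) (integralClosure D L).val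
  have hι : Function.Injective ι :=
    Module.Flat.lTensor_preserves_injective_linearMap (M := T) (integralClosure D L).val.toLinearMap
      Subtype.val_injective
  haveI : Algebra.IsIntegral D (integralClosure D L) := inferInstance
  haveI : Algebra.IsIntegral T (T ⊗[D] integralClosure D L) := inferInstance
  let π : ∀ P, E →ₐ[T] F P := fun P =>
    (IsScalarTower.toAlgHom T (E ⧸ P.1) (F P)).comp (Ideal.Quotient.mkₐ T P.1)
  let Φ : T ⊗[D] integralClosure D L →ₗ[T] ∀ P, N P := LinearMap.pi fun P =>
    LinearMap.codRestrict (N P) ((π P).comp ι).toLinearMap fun x =>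
      (Algebra.IsIntegral.isIntegral (R := T) x).map ((π P).comp ι)
  have hΦ : Function.Injective Φ := by
    rw [injective_iff_map_eq_zero]
    intro x hx
    apply hι
    rw [map_zero]
    have h1 : ι x ∈ sInf (minimalPrimes E) := Submodule.mem_sInf.2 fun P hP => by
      have h2 : π ⟨P, hP⟩ (ι x) = 0 := congrArg Subtype.val (congrFun hx ⟨P, hP⟩)
      haveI := hP.1.1
      exact Ideal.Quotient.eq_zero_iff_mem.mp ((map_eq_zero_iff _ (IsFractionRing.injective (E ⧸ P) _)).mp h2)
    rw [minimalPrimes, Ideal.sInf_minimalPrimes] at h1
    exact IsNilpotent.eq_zero (mem_nilradical.1 h1)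
  haveI := hfin
  exact Module.Finite.of_injective Φ hΦ

/-- The Nagata property descends along smooth ring maps that are surjective on spectra. -/
theorem result (R : Type u) [CommRing R] (S : Type u)
    [CommRing S] [Algebra R S] [Algebra.Smooth R S]
    (hs : Function.Surjective (PrimeSpectrum.comap (algebraMap R S))) (hS : CAlg.IsNagata S) :
    CAlg.IsNagata R := by
  haveI := hS.1
  haveI : Module.FaithfullyFlat R S := Module.FaithfullyFlat.of_comap_surjective hs
  haveI := CAlg48.FFDescent.isNoetherianRing R S
  refine ⟨inferInstance, fun p _ L _ _ _ _ hL => ?_⟩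
  haveI := hL
  let D := R ⧸ p
  let T := D ⊗[R] S
  have hsurj : Function.Surjective (Algebra.TensorProduct.includeRight : S →ₐ[R] T) := fun z => by
    induction z using TensorProduct.induction_on with
    | zero => exact ⟨0, map_zero _⟩
    | tmul d s =>
      obtain ⟨r, rfl⟩ := Ideal.Quotient.mk_surjective d
      refine ⟨r • s, ?_⟩
      rw [map_smul, Algebra.TensorProduct.includeRight_apply, TensorProduct.smul_tmul', Algebra.smul_def, mul_one]
      rfl
    | add a b ha hb =>
      obtain ⟨x, rfl⟩ := ha
      obtain ⟨y, rfl⟩ := hb
      exact ⟨x + y, map_add _ _ _⟩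
  haveI : IsNoetherianRing T :=
    isNoetherianRing_of_surjective _ _ (Algebra.TensorProduct.includeRight : S →ₐ[R] T).toRingHom hsurj
  haveI := finite_tensor D T (fun P _ => by
    letI : Algebra S (T ⧸ P) :=
      ((Ideal.Quotient.mk P).comp (Algebra.TensorProduct.includeRight : S →ₐ[R] T).toRingHom).toAlgebra
    exact (Props.N2Local.isNagata_iff.mp hS).2 (T ⧸ P) (Ideal.Quotient.mk_surjective.comp hsurj)) L
  exact Module.Finite.of_finite_tensorProduct_of_faithfullyFlat T

end Groth.Agent.S9401
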