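import Groth.Statements.S9403
import Mathlib.Tactic.LinearCombination
import Mathlib.Tactic.Ring
-- import your own Groth.Agent.* helpers here

set_option autoImplicit false
universe u
open CAlg

namespace Groth.Agent.S9403

/-- Let R → S be a ring map with S a Noetherian local ring which is an algebra over the rationals, and f
∈ S such that some S-linear form on the module of differentials of S over R sends df to 1 (df spans
a free direct summand of rank one). Then f is a nonzerodivisor of S. (The published statement asks
only that S·df be a direct summand of the module of differentials, which also holds for the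
rationals with a square-zero element adjoined, where f is a zero divisor; this row asks for an
S-linear form on the differentials sending df to 1, as the published proof uses.) -/
theorem result (R : Type u) [CommRing R]
    (S : Type u) [CommRing S] [IsLocalRing S] [IsNoetherianRing S] [Algebra R S] [Algebra ℚ S]
    (f : S) (θ : Ω[S⁄R] →ₗ[S] S) (hθ : θ (KaehlerDifferential.D R S f) = 1) : f ∈ nonZeroDivisors S := by
  by_cases hf : IsUnit f
  · exact hf.mem_nonZeroDivisors
  rw [mem_nonZeroDivisors_iff_right]
  intro g hg
  have key : ∀ n : ℕ, ∃ h, g = f ^ n * h := by
    intro n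
    induction n with
    | zero => exact ⟨g, by simp⟩
    | succ n ih =>
      obtain ⟨h, rfl⟩ := ih
      have hu : IsUnit ((n + 1 : ℕ) : S) := by
        rw [← map_natCast (algebraMap ℚ S)]
        exact (IsUnit.mk0 _ (by exact_mod_cast Nat.succ_ne_zero n)).map _
      obtain ⟨v, hv⟩ := hu.exists_left_inv
      have h0 : f ^ (n + 1) * h = 0 := by rw [← hg]; ring
      have := congrArg θ (congrArg (KaehlerDifferential.D R S) h0)
      simp only [Derivation.leibniz, Derivation.leibniz_pow, map_zero, map_add, map_nsmul, map_smul,
        hθ, Nat.add_sub_cancel, smul_eq_mul, mul_one, nsmul_eq_mul] at this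
      refine ⟨-(v * θ (KaehlerDifferential.D R S h)), ?_⟩
      linear_combination v * this - f ^ n * h * hv
  have hmem : g ∈ ⨅ i : ℕ, IsLocalRing.maximalIdeal S ^ i := Ideal.mem_iInf.mpr fun n => by
    obtain ⟨h, rfl⟩ := key n
    exact Ideal.mul_mem_right _ _ (Ideal.pow_mem_pow hf n)
  rwa [Ideal.iInf_pow_eq_bot_of_isLocalRing _
    (IsLocalRing.maximalIdeal.isMaximal S).ne_top] at hmem

end Groth.Agent.S9403
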