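import Groth.Statements.S9404
import Mathlib
-- import your own Groth.Agent.* helpers here

set_option autoImplicit false
universe u
open CAlg

namespace Groth.Agent.S9404
open TensorProduct

open TensorProduct in
/-- For local homomorphisms of local rings A → B and A → C with A → C integral, if the residue field of
C or that of B is purely inseparable over the residue field of A, then B ⊗_A C is local and both
structure maps into it are local. -/
theorem result (A : Type u) [CommRing A]
    [IsLocalRing A] (B : Type u) [CommRing B] [IsLocalRing B] [Algebra A B]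
    [IsLocalHom (algebraMap A B)] (C : Type u) [CommRing C] [IsLocalRing C] [Algebra A C]
    [IsLocalHom (algebraMap A C)] [Algebra.IsIntegral A C]
    (h : IsPurelyInseparable (IsLocalRing.ResidueField A) (IsLocalRing.ResidueField C) ∨
      IsPurelyInseparable (IsLocalRing.ResidueField A) (IsLocalRing.ResidueField B)) :
    IsLocalRing (B ⊗[A] C) ∧
      IsLocalHom (Algebra.TensorProduct.includeLeft : B →ₐ[A] B ⊗[A] C).toRingHom ∧
      IsLocalHom (Algebra.TensorProduct.includeRight : C →ₐ[A] B ⊗[A] C).toRingHom := by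
  classical
  let k := IsLocalRing.ResidueField A
  let K := IsLocalRing.ResidueField B
  let L := IsLocalRing.ResidueField C
  let T := K ⊗[k] L
  have hsub : Subsingleton (PrimeSpectrum T) := by
    rcases h with h | h
    · haveI := h
      exact (PrimeSpectrum.isHomeomorph_comap_of_isPurelyInseparable k L K).injective.subsingleton
    · haveI := h
      haveI := (PrimeSpectrum.isHomeomorph_comap_of_isPurelyInseparable k K L).injective.subsingleton
      exact ((PrimeSpectrum.comapEquiv (Algebra.TensorProduct.comm k K L).toRingEquiv).toEquiv).injective.subsingleton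
  let hB : B →ₐ[A] T := ((Algebra.TensorProduct.includeLeft : K →ₐ[k] T).restrictScalars A).comp
    (IsScalarTower.toAlgHom A B K)
  let hC : C →ₐ[A] T := ((Algebra.TensorProduct.includeRight : L →ₐ[k] T).restrictScalars A).comp
    (IsScalarTower.toAlgHom A C L)
  let g : B ⊗[A] C →ₐ[A] T := Algebra.TensorProduct.lift hB hC fun _ _ => Commute.all _ _
  haveI hne : Nontrivial (B ⊗[A] C) := g.toRingHom.domain_nontrivial
  have key : ∀ Q : Ideal (B ⊗[A] C), Q.IsMaximal →
      (∀ b ∈ IsLocalRing.maximalIdeal B, (Algebra.TensorProduct.includeLeft : B →ₐ[A] B ⊗[A] C) b ∈ Q) ∧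
      (∀ c ∈ IsLocalRing.maximalIdeal C, (Algebra.TensorProduct.includeRight : C →ₐ[A] B ⊗[A] C) c ∈ Q) := by
    intro Q hQ
    have hint : Algebra.IsIntegral B (B ⊗[A] C) := inferInstance
    have h1 : (Q.comap (algebraMap B (B ⊗[A] C))) = IsLocalRing.maximalIdeal B :=
      IsLocalRing.eq_maximalIdeal (Ideal.isMaximal_comap_of_isIntegral_of_isMaximal Q)
    have h2 : Q.comap (Algebra.TensorProduct.includeRight : C →ₐ[A] B ⊗[A] C) = IsLocalRing.maximalIdeal C := by
      set P := Q.comap (Algebra.TensorProduct.includeRight : C →ₐ[A] B ⊗[A] C) with hP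
      haveI : P.IsPrime := Ideal.comap_isPrime _ _
      refine IsLocalRing.eq_maximalIdeal (Ideal.isMaximal_of_isIntegral_of_isMaximal_comap (R := A) P ?_)
      have h3 : P.comap (algebraMap A C) = IsLocalRing.maximalIdeal A := by
        ext a
        rw [Ideal.mem_comap, hP, Ideal.mem_comap, AlgHom.commutes, IsScalarTower.algebraMap_apply A B (B ⊗[A] C),
          ← Ideal.mem_comap, h1, IsLocalRing.mem_maximalIdeal, IsLocalRing.mem_maximalIdeal, mem_nonunits_iff,
          mem_nonunits_iff, isUnit_map_iff]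
      rw [h3]
      infer_instance
    exact ⟨fun b hb => h1.ge hb, fun c hc => h2.ge hc⟩
  have hmax : ∀ Q : Ideal (B ⊗[A] C), Q.IsMaximal → ∃ P : PrimeSpectrum T, Q = P.asIdeal.comap g.toRingHom := by
    intro Q hQ
    obtain ⟨h1, h2⟩ := key Q hQ
    letI := Ideal.Quotient.field Q
    let q : B ⊗[A] C →ₐ[A] (B ⊗[A] C) ⧸ Q := Ideal.Quotient.mkₐ A Q
    let f₁ : K →+* (B ⊗[A] C) ⧸ Q := Ideal.Quotient.lift (IsLocalRing.maximalIdeal B)
      (q.comp Algebra.TensorProduct.includeLeft).toRingHom fun b hb => Ideal.Quotient.eq_zero_iff_mem.mpr (h1 b hb)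
    let f₂ : L →+* (B ⊗[A] C) ⧸ Q := Ideal.Quotient.lift (IsLocalRing.maximalIdeal C)
      (q.comp Algebra.TensorProduct.includeRight).toRingHom fun c hc => Ideal.Quotient.eq_zero_iff_mem.mpr (h2 c hc)
    letI : Algebra k ((B ⊗[A] C) ⧸ Q) := (f₁.comp (algebraMap k K)).toAlgebra
    let F₁ : K →ₐ[k] (B ⊗[A] C) ⧸ Q := ⟨f₁, fun _ => rfl⟩
    let F₂ : L →ₐ[k] (B ⊗[A] C) ⧸ Q := ⟨f₂, fun x => by
      obtain ⟨a, rfl⟩ := IsLocalRing.residue_surjective x
      show q ((Algebra.TensorProduct.includeRight : C →ₐ[A] B ⊗[A] C) (algebraMap A C a)) = q ((Algebra.TensorProduct.includeLeft : B →ₐ[A] B ⊗[A] C) (algebraMap A B a))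
      simp only [AlgHom.commutes]⟩
    let ψ : T →ₐ[k] (B ⊗[A] C) ⧸ Q := Algebra.TensorProduct.lift F₁ F₂ fun _ _ => Commute.all _ _
    have hψ : ∀ x, ψ (g x) = q x := by
      intro x
      induction x using TensorProduct.induction_on with
      | zero => simp
      | tmul b c =>
        simp only [g, hB, hC, ψ, Algebra.TensorProduct.lift_tmul, AlgHom.comp_apply, map_mul,
          AlgHom.restrictScalars_apply, Algebra.TensorProduct.includeLeft_apply,
          Algebra.TensorProduct.includeRight_apply, map_one, one_mul, mul_one]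
        rw [Algebra.TensorProduct.lift_tmul, Algebra.TensorProduct.lift_tmul, map_one, map_one, mul_one, one_mul]
        show q (b ⊗ₜ[A] (1 : C)) * q ((1 : B) ⊗ₜ[A] c) = q (b ⊗ₜ[A] c)
        rw [← map_mul, Algebra.TensorProduct.tmul_mul_tmul, mul_one, one_mul]
      | add a b ha hb => simp only [map_add, ha, hb]
    refine ⟨⟨RingHom.ker ψ.toRingHom, RingHom.ker_isPrime _⟩, Ideal.ext fun x => ?_⟩
    show x ∈ Q ↔ ψ (g x) = 0
    rw [hψ]
    exact Ideal.Quotient.eq_zero_iff_mem.symm
  obtain ⟨M, hM⟩ := Ideal.exists_maximal (B ⊗[A] C)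
  refine ⟨IsLocalRing.of_unique_max_ideal ⟨M, hM, fun Q hQ => ?_⟩, ⟨fun b hb => ?_⟩, ⟨fun c hc => ?_⟩⟩
  · obtain ⟨P, rfl⟩ := hmax M hM
    obtain ⟨P', rfl⟩ := hmax Q hQ
    rw [Subsingleton.elim P P']
  · by_contra hb'
    exact hM.ne_top (Ideal.eq_top_of_isUnit_mem _ ((key M hM).1 b hb') hb)
  · by_contra hc'
    exact hM.ne_top (Ideal.eq_top_of_isUnit_mem _ ((key M hM).2 c hc') hc)

end Groth.Agent.S9404
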