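import Groth.Statements.S9405
import Groth.Agent.CAlg48.AdicPow
import Groth.Agent.Hensel.Local
import Groth.Agent.Adic.Basic
import Mathlib.RingTheory.Henselian
import Mathlib.RingTheory.Idempotents
-- import your own Groth.Agent.* helpers here

set_option autoImplicit false
universe u
open CAlg

namespace Groth.Agent.S9405

/-- A module-finite algebra S over a complete Noetherian local ring R is a finite product of complete
Noetherian local rings; precisely, S has finitely many maximal ideals, S maps bijectively onto the
product of its localizations at them, and each of these localizations is Noetherian and complete for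
its maximal ideal. -/
theorem result (R : Type u) [CommRing R]
    [IsLocalRing R] [IsNoetherianRing R] [IsAdicComplete (IsLocalRing.maximalIdeal R) R]
    (S : Type u) [CommRing S] [Algebra R S] [Module.Finite R S] :
    Finite (MaximalSpectrum S) ∧
      Function.Bijective
        (algebraMap S ((m : MaximalSpectrum S) → Localization.AtPrime m.asIdeal)) ∧
      ∀ m : MaximalSpectrum S, IsNoetherianRing (Localization.AtPrime m.asIdeal) ∧
        IsAdicComplete (IsLocalRing.maximalIdeal (Localization.AtPrime m.asIdeal))
          (Localization.AtPrime m.asIdeal) := by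
  classical
  open IsLocalRing in
  have : HenselianLocalRing R :=
    { is_henselian := fun f hf a ha ha' =>
        HenselianRing.is_henselian (I := maximalIdeal R) f hf a ha (ha'.map _) }
  obtain ⟨n, e, he, hloc⟩ := Hensel.exists_pi_local (R := R) S
  let A : Fin n → Type u := fun i => S ⧸ Ideal.span {1 - e i}
  have hidem : ∀ i, IsIdempotentElem (e i) := he.idem
  let m : Fin n → MaximalSpectrum S := fun i =>
    ⟨(IsLocalRing.maximalIdeal (A i)).comap (Ideal.Quotient.mk _),
      Ideal.comap_isMaximal_of_surjective _ Ideal.Quotient.mk_surjective⟩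
  have hloc' : ∀ i, IsLocalization.AtPrime (A i) (m i).asIdeal := fun i => by
    have hA : IsLocalization.Away (e i) (A i) :=
      IsLocalization.away_of_isIdempotentElem (hidem i) (Ideal.mk_ker) Ideal.Quotient.mk_surjective
    refine IsLocalization.of_le_of_exists_dvd (Submonoid.powers (e i)) (m i).asIdeal.primeCompl
      ?_ ?_
    · rw [Submonoid.powers_le]
      intro hmem
      have h1 : Ideal.Quotient.mk (Ideal.span {1 - e i}) (e i) = 1 :=
        (Ideal.Quotient.eq.mpr (by
          rw [show e i - 1 = -(1 - e i) by ring, neg_mem_iff]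
          exact Ideal.mem_span_singleton_self _)).trans (map_one _)
      refine (IsLocalRing.maximalIdeal.isMaximal (A i)).ne_top ((Ideal.eq_top_iff_one _).mpr ?_)
      rw [← h1]; exact hmem
    · intro x hx
      have hu : IsUnit (Ideal.Quotient.mk (Ideal.span {1 - e i}) x : A i) := by
        by_contra h; exact hx h
      obtain ⟨b, hb⟩ := hu.exists_left_inv
      obtain ⟨b, rfl⟩ := Ideal.Quotient.mk_surjective b
      refine ⟨e i, Submonoid.mem_powers _, ⟨e i * b, ?_⟩⟩
      rw [← map_mul, ← map_one (Ideal.Quotient.mk _), Ideal.Quotient.eq,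
        Ideal.mem_span_singleton'] at hb
      obtain ⟨t, ht⟩ := hb
      linear_combination (e i) * ht + t * (hidem i).eq
  have hsurj : Function.Surjective m := by
    intro M
    obtain ⟨i, hi⟩ : ∃ i, e i ∉ M.asIdeal := by
      by_contra h
      push Not at h
      exact M.isMaximal.ne_top ((Ideal.eq_top_iff_one _).mpr
        (he.complete ▸ Ideal.sum_mem _ fun i _ => h i))
    have hle : Ideal.span {1 - e i} ≤ M.asIdeal := by
      rw [Ideal.span_singleton_le_iff_mem]
      refine (M.isMaximal.isPrime.mem_or_mem ?_).resolve_left hi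
      rw [mul_sub, mul_one, (hidem i).eq, sub_self]
      exact zero_mem _
    refine ⟨i, MaximalSpectrum.ext ?_⟩
    refine (M.isMaximal.eq_of_le ((m i).isMaximal.ne_top) fun x hx => ?_).symm
    by_contra h
    have hu : IsUnit (Ideal.Quotient.mk (Ideal.span {1 - e i}) x : A i) := by
      by_contra h'; exact h h'
    obtain ⟨b, hb⟩ := hu.exists_left_inv
    obtain ⟨b, rfl⟩ := Ideal.Quotient.mk_surjective b
    rw [← map_mul, ← map_one (Ideal.Quotient.mk _), Ideal.Quotient.eq] at hb
    refine M.isMaximal.ne_top ((Ideal.eq_top_iff_one _).mpr ?_)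
    have := M.asIdeal.sub_mem (Ideal.mul_mem_left _ b hx) (hle hb)
    simpa using this
  have hinj : Function.Injective m := by
    intro i j hij
    by_contra hne
    have h0 : e i * e j = 0 := he.ortho hne
    have hnot : ∀ k, e k ∉ (m k).asIdeal := fun k hmem => by
      have h1 : Ideal.Quotient.mk (Ideal.span {1 - e k}) (e k) = 1 :=
        (Ideal.Quotient.eq.mpr (by
          rw [show e k - 1 = -(1 - e k) by ring, neg_mem_iff]
          exact Ideal.mem_span_singleton_self _)).trans (map_one _)
      refine (IsLocalRing.maximalIdeal.isMaximal (A k)).ne_top ((Ideal.eq_top_iff_one _).mpr ?_)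
      rw [← h1]; exact hmem
    refine ((m i).isMaximal.isPrime.mem_or_mem (h0 ▸ zero_mem (m i).asIdeal)).elim (hnot i) ?_
    rw [hij]; exact hnot j
  have : Finite (MaximalSpectrum S) := Finite.of_surjective m hsurj
  let M : Fin n ≃ MaximalSpectrum S := Equiv.ofBijective m ⟨hinj, hsurj⟩
  let ε : ∀ i, Localization.AtPrime (m i).asIdeal ≃ₐ[S] A i := fun i =>
    have := hloc' i
    IsLocalization.algEquiv (m i).asIdeal.primeCompl _ _
  refine ⟨this, ⟨fun x y hxy => he.bijective_pi.1 (funext fun i => ?_), fun z => ?_⟩, fun M' => ?_⟩
  · have h := congrArg (ε i) (congrFun hxy (m i))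
    simpa [AlgEquiv.commutes, A] using! h
  · obtain ⟨x, hx⟩ := he.bijective_pi.2 fun i => ε i (z (m i))
    refine ⟨x, funext fun M' => ?_⟩
    obtain ⟨i, rfl⟩ := hsurj M'
    apply (ε i).injective
    exact ((ε i).commutes x).trans (congrFun hx i)
  · obtain ⟨i, rfl⟩ := hsurj M'
    have : IsNoetherianRing R := inferInstance
    have hN : IsNoetherianRing S := IsNoetherianRing.of_finite R S
    refine ⟨IsLocalization.isNoetherianRing (m i).asIdeal.primeCompl _ hN, ?_⟩
    let L := Localization.AtPrime (m i).asIdeal
    have hNL : IsNoetherianRing L := IsLocalization.isNoetherianRing (m i).asIdeal.primeCompl _ hN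
    have hfinA : Module.Finite R (A i) := inferInstance
    have hfin : Module.Finite R L :=
      Module.Finite.equiv ((ε i).restrictScalars R).symm.toLinearEquiv
    have hcR : IsAdicComplete (IsLocalRing.maximalIdeal R) L :=
      Adic.isAdicComplete_of_finite (IsLocalRing.maximalIdeal R)
    let J := (IsLocalRing.maximalIdeal R).map (algebraMap R L)
    have hc : IsAdicComplete J L :=
      (IsAdicComplete.map_algebraMap_iff ..).mpr hcR
    have hJ : J ≤ IsLocalRing.maximalIdeal L := by
      refine IsLocalRing.le_maximalIdeal fun htop => ?_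
      have : Subsingleton L := ⟨fun a b => by
        refine sub_eq_zero.mp (IsHausdorff.haus hc.toIsHausdorff (a - b) fun k => ?_)
        rw [SModEq.zero, htop, Ideal.top_pow]
        simp⟩
      exact false_of_nontrivial_of_subsingleton L
    obtain ⟨d, hd⟩ : ∃ d, IsLocalRing.maximalIdeal L ^ d ≤ J := by
      refine Ideal.exists_pow_le_of_le_radical_of_fg ?_ (IsNoetherian.noetherian _)
      rw [Ideal.radical_eq_sInf]
      refine le_sInf fun q hq => ?_
      have hq' : q.IsPrime := hq.2
      have : (q.under R) = IsLocalRing.maximalIdeal R :=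
        ((IsLocalRing.maximalIdeal.isMaximal R).eq_of_le (Ideal.IsPrime.ne_top inferInstance)
          (fun x hx => hq.1 (Ideal.mem_map_of_mem _ hx))).symm
      have : q.IsMaximal := Ideal.isMaximal_of_isIntegral_of_isMaximal_comap q
        (this ▸ IsLocalRing.maximalIdeal.isMaximal R)
      exact (IsLocalRing.eq_maximalIdeal this).ge
    exact CAlg48.AdicPow.isAdicComplete_of_pow_le (c := 1) (d := d + 1) one_pos (Nat.succ_pos _)
      (by rwa [pow_one]) ((Ideal.pow_le_pow_right (Nat.le_succ d)).trans hd)

end Groth.Agent.S9405
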