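import Groth.Statements.S9409
import Groth.Agent.CAlg48.GeomReg

set_option autoImplicit false
universe u
open CAlg

namespace Groth.Agent.S9409

/-- Let k be a field written as a directed union of subfields k_i (given as fields mapping to k whose
images form a directed family covering k) and A a Noetherian k-algebra. Geometric regularity of A
over every one of the k_i implies that A is also geometrically regular as a k-algebra. -/
theorem result (k : Type u) [Field k] {ι : Type u}
    (K : ι → Type u) [∀ i, Field (K i)] [∀ i, Algebra (K i) k]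
    (hdir : ∀ i j, ∃ l, Set.range (algebraMap (K i) k) ⊆ Set.range (algebraMap (K l) k) ∧
      Set.range (algebraMap (K j) k) ⊆ Set.range (algebraMap (K l) k))
    (hcov : ∀ x : k, ∃ i, x ∈ Set.range (algebraMap (K i) k))
    (A : Type u) [CommRing A] [Algebra k A] [IsNoetherianRing A] [∀ i, Algebra (K i) A]
    [∀ i, IsScalarTower (K i) k A] (h : ∀ i, CAlg.IsGeometricallyRegular (K i) A) :
    CAlg.IsGeometricallyRegular k A := by
  classical
  intro k' _ _ hk'
  haveI := hk'
  obtain ⟨s, hs⟩ := CAlg48.GeomReg.exists_model k k'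
  have hfin : ∀ t : Finset k, ∃ i, (↑t : Set k) ⊆ Set.range (algebraMap (K i) k) := by
    intro t
    induction t using Finset.induction_on with
    | empty => obtain ⟨i, -⟩ := hcov 0; exact ⟨i, by simp⟩
    | insert a t _ ih =>
      obtain ⟨i, hi⟩ := ih
      obtain ⟨j, hj⟩ := hcov a
      obtain ⟨l, h1, h2⟩ := hdir i j
      exact ⟨l, by rw [Finset.coe_insert, Set.insert_subset_iff]; exact ⟨h2 hj, hi.trans h1⟩⟩
  obtain ⟨i, hi⟩ := hfin s
  obtain ⟨K₀, _, _, hK₀, ⟨e⟩⟩ := hs (K i) hi
  haveI := h i K₀ hK₀
  obtain ⟨f⟩ := CAlg48.GeomReg.nonempty_tensor_equiv e A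
  exact IsRegularRing.of_ringEquiv f

end Groth.Agent.S9409
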