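import Groth.Statements.S9410
import Groth.Agent.CAlg48.GeomReg

set_option autoImplicit false
universe u
open CAlg

namespace Groth.Agent.S9410

/-- Given a separable algebraic field extension k'/k and a Noetherian k'-algebra A, geometric regularity
of A over k' is equivalent to geometric regularity of A over k. -/
theorem result (k : Type u) [Field k] (k' : Type u)
    [Field k'] [Algebra k k'] [Algebra.IsSeparable k k'] (A : Type u) [CommRing A] [Algebra k' A]
    [Algebra k A] [IsScalarTower k k' A] [IsNoetherianRing A] :
    CAlg.IsGeometricallyRegular k A ↔ CAlg.IsGeometricallyRegular k' A := by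
  classical
  constructor
  · intro h K' _ _ hK'
    haveI := hK'
    obtain ⟨s, hs⟩ := CAlg48.GeomReg.exists_model k' K'
    let F := IntermediateField.adjoin k (↑s : Set k')
    haveI : Module.Finite k F := IntermediateField.finiteDimensional_adjoin fun x _ => Algebra.IsIntegral.isIntegral x
    obtain ⟨K₀, _, _, hK₀, ⟨e⟩⟩ := hs F fun x hx => ⟨⟨x, IntermediateField.subset_adjoin _ _ hx⟩, rfl⟩
    letI : Algebra k K₀ := ((algebraMap F K₀).comp (algebraMap k F)).toAlgebra
    haveI : IsScalarTower k F K₀ := IsScalarTower.of_algebraMap_eq' rfl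
    haveI : Module.Finite F K₀ := hK₀
    haveI := h K₀ (Module.Finite.trans F K₀)
    haveI : IsScalarTower k F A := IsScalarTower.of_algebraMap_eq fun x => by
      show algebraMap k A x = algebraMap k' A (algebraMap F k' (algebraMap k F x))
      rw [← IsScalarTower.algebraMap_apply k F k', ← IsScalarTower.algebraMap_apply]
    haveI := CAlg48.GeomReg.isRegularRing_tensor_of_separable k F K₀ A
    obtain ⟨f⟩ := CAlg48.GeomReg.nonempty_tensor_equiv e A
    exact IsRegularRing.of_ringEquiv f
  · intro h K _ _ hK
    haveI := hK
    let R' := TensorProduct k k' K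
    haveI : IsReduced R' := by
      haveI := CAlg48.GeomReg.isReduced_tensor_separable k k' K
      exact isReduced_of_injective (Algebra.TensorProduct.comm k k' K).toRingEquiv.toRingHom
        (Algebra.TensorProduct.comm k k' K).injective
    haveI : IsArtinianRing R' := IsArtinianRing.of_finite k' R'
    let P := TensorProduct k' A R'
    haveI : IsNoetherianRing P := IsNoetherianRing.of_finite A P
    suffices IsRegularRing P from IsRegularRing.of_ringEquiv
      ((Algebra.TensorProduct.cancelBaseChange k k' k' A K).toRingEquiv.trans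
        (Algebra.TensorProduct.comm k A K).toRingEquiv)
    refine CAlg48.GeomReg.isRegularRing_of_idempotents fun q hq => ?_
    let inc : R' →ₐ[k'] P := Algebra.TensorProduct.includeRight
    let m : Ideal R' := q.comap inc
    haveI : m.IsPrime := Ideal.comap_isPrime _ _
    haveI : m.IsMaximal := IsArtinianRing.isMaximal_of_isPrime m
    obtain ⟨e, he, hm⟩ := CAlg48.GeomReg.exists_idempotent_span m
    refine ⟨inc e, he.map inc, fun hmem => ?_, ?_⟩
    · have h1 : (1 - e) + e ∈ m := Ideal.add_mem _ (hm ▸ Ideal.mem_span_singleton_self _) hmem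
      rw [sub_add_cancel] at h1
      exact (Ideal.IsPrime.one_notMem ‹_›) h1
    · letI : Field (R' ⧸ m) := Ideal.Quotient.field m
      haveI : Module.Finite k' (R' ⧸ m) := inferInstance
      let φ : P →ₐ[A] TensorProduct k' A (R' ⧸ m) :=
        Algebra.TensorProduct.map (AlgHom.id A A) (Ideal.Quotient.mkₐ k' m)
      have hφ : Function.Surjective φ :=
        LinearMap.lTensor_surjective A (g := (Ideal.Quotient.mkₐ k' m).toLinearMap) Ideal.Quotient.mk_surjective
      have hker : RingHom.ker (φ : P →+* TensorProduct k' A (R' ⧸ m)) = Ideal.span {1 - inc e} := by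
        have h2 : RingHom.ker (φ : P →+* TensorProduct k' A (R' ⧸ m)) =
            (RingHom.ker (Ideal.Quotient.mkₐ k' m)).map (inc : R' →+* P) :=
          Algebra.TensorProduct.lTensor_ker (A := A) (Ideal.Quotient.mkₐ k' m) Ideal.Quotient.mk_surjective
        rw [h2, show RingHom.ker (Ideal.Quotient.mkₐ k' m) = m from Ideal.mk_ker, hm, Ideal.map_span,
          Set.image_singleton, map_sub, map_one]
        rfl
      haveI := h (R' ⧸ m) inferInstance
      exact IsRegularRing.of_ringEquiv ((Algebra.TensorProduct.comm k' (R' ⧸ m) A).toRingEquiv.trans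
        ((RingHom.quotientKerEquivOfSurjective (f := (φ : P →+* TensorProduct k' A (R' ⧸ m))) hφ).symm.trans
          (Ideal.quotEquivOfEq hker)))

end Groth.Agent.S9410
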