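import Groth.Statements.S9411
import Groth.Agent.GeomFieldLib.SepLoc

set_option autoImplicit false
universe u
open EGA4 TensorProduct

namespace Groth.Agent.S9411

/-- Let k'/k be a separable algebraic field extension and A a k'-algebra. Geometric normality of A over
k' is equivalent to geometric normality of A over k. -/
theorem result (k : Type u) [Field k] (k' : Type u) [Field k']
    [Algebra k k'] [Algebra.IsSeparable k k'] (A : Type u) [CommRing A] [Algebra k' A]
    [Algebra k A] [IsScalarTower k k' A] :
    EGA4.IsGeomNormal k A ↔ EGA4.IsGeomNormal k' A := by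
  constructor
  · intro h K' _ _ hf q _
    letI : Algebra k K' := ((algebraMap k' K').comp (algebraMap k k')).toAlgebra
    haveI : IsScalarTower k k' K' := IsScalarTower.of_algebraMap_eq fun _ => rfl
    obtain ⟨φ, -, hφ⟩ := GeomFieldLib.exists_localization_equiv_of_separable k k' K' K' A
      (Algebra.TensorProduct.lift (AlgHom.id k K') (IsScalarTower.toAlgHom k k' K') fun _ _ => mul_comm _ _)
      (fun x => ⟨x ⊗ₜ 1, by simp⟩) (fun d => by simp)
    obtain ⟨e⟩ := hφ q
    exact GeomFieldLib.isDomain_isIC_congr e.symm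
      (GeomFieldLib.isNormalRing_tensor_of_isGeomNormal k A h K' (q.comap φ))
  · intro h K _ _ hf P _
    let χ : K ⊗[k] A →ₐ[k] P.ResidueField := IsScalarTower.toAlgHom k (K ⊗[k] A) P.ResidueField
    let j : K ⊗[k] k' →ₐ[k] K ⊗[k] A :=
      Algebra.TensorProduct.map (AlgHom.id k K) (IsScalarTower.toAlgHom k k' A)
    let m : Ideal (K ⊗[k] k') := RingHom.ker (χ.comp j).toRingHom
    haveI hm : m.IsPrime := RingHom.ker_isPrime _
    haveI : m.IsMaximal := Ideal.Quotient.maximal_of_isField m
      (isField_of_isIntegral_of_isField' (R := K) (Field.toIsField K))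
    letI := Ideal.Quotient.field m
    let L := (K ⊗[k] k') ⧸ m
    letI : Algebra k' L :=
      ((Ideal.Quotient.mk m).comp (Algebra.TensorProduct.includeRight : k' →ₐ[k] K ⊗[k] k').toRingHom).toAlgebra
    haveI : IsScalarTower k k' L := IsScalarTower.of_algebraMap_eq fun c => by
      show _ = Ideal.Quotient.mk m ((Algebra.TensorProduct.includeRight : k' →ₐ[k] K ⊗[k] k') (algebraMap k k' c))
      rw [AlgHom.commutes]
      rfl
    let π : K ⊗[k] k' →ₐ[k] L := Ideal.Quotient.mkₐ k m
    have hπ : Function.Surjective π := Ideal.Quotient.mk_surjective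
    let π' : k' ⊗[k] K →ₐ[k'] L := Algebra.TensorProduct.lift (Algebra.ofId k' L)
      (π.comp Algebra.TensorProduct.includeLeft) fun _ _ => mul_comm _ _
    haveI : Module.Finite k' L := Module.Finite.of_surjective π'.toLinearMap fun y => by
      obtain ⟨x, rfl⟩ := hπ y
      refine ⟨Algebra.TensorProduct.comm k K k' x, ?_⟩
      induction x using TensorProduct.induction_on with
      | zero => simp
      | tmul c d =>
        show π' (d ⊗ₜ c) = π (c ⊗ₜ d)
        rw [Algebra.TensorProduct.lift_tmul, mul_comm]
        show π (c ⊗ₜ 1) * π (1 ⊗ₜ d) = _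
        rw [← map_mul, Algebra.TensorProduct.tmul_mul_tmul, mul_one, one_mul]
      | add x y hx hy => rw [map_add, map_add, map_add, hx, hy]
    obtain ⟨φ, hφt, hφ⟩ := GeomFieldLib.exists_localization_equiv_of_separable k k' K L A π hπ fun d => rfl
    letI : Algebra k' P.ResidueField :=
      (χ.comp (j.comp Algebra.TensorProduct.includeRight)).toRingHom.toAlgebra
    let χL : L →ₐ[k'] P.ResidueField :=
      AlgHom.mk (Ideal.Quotient.lift m (χ.comp j).toRingHom fun _ hx => hx) fun d => rfl
    let χA : A →ₐ[k'] P.ResidueField :=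
      AlgHom.mk (χ.comp Algebra.TensorProduct.includeRight).toRingHom fun d => rfl
    let τ : L ⊗[k'] A →ₐ[k'] P.ResidueField :=
      Algebra.TensorProduct.lift χL χA fun _ _ => mul_comm _ _
    have hτ : τ.toRingHom.comp φ = χ.toRingHom := RingHom.ext fun x => by
      induction x using TensorProduct.induction_on with
      | zero => rw [map_zero, map_zero]
      | tmul c a =>
        show τ (φ (c ⊗ₜ a)) = χ (c ⊗ₜ a)
        rw [hφt, Algebra.TensorProduct.lift_tmul]
        show χ (j (c ⊗ₜ 1)) * χ ((1 : K) ⊗ₜ[k] a) = _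
        rw [← map_mul, Algebra.TensorProduct.map_tmul, map_one, Algebra.TensorProduct.tmul_mul_tmul,
          AlgHom.coe_id, id, one_mul, mul_one]
      | add x y hx hy => rw [map_add, map_add, hx, hy]
    have hP : P = (RingHom.ker τ.toRingHom).comap φ := by
      ext x
      rw [Ideal.mem_comap, RingHom.mem_ker, ← RingHom.comp_apply, hτ]
      exact Ideal.algebraMap_residueField_eq_zero.symm
    haveI := RingHom.ker_isPrime τ.toRingHom
    suffices H : ∀ (P' : Ideal (K ⊗[k] A)) [P'.IsPrime], P' = (RingHom.ker τ.toRingHom).comap φ →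
        IsDomain (Localization.AtPrime P') ∧ IsIntegrallyClosed (Localization.AtPrime P') from H P hP
    intro P' _ hP'
    subst hP'
    obtain ⟨e⟩ := hφ (RingHom.ker τ.toRingHom)
    exact GeomFieldLib.isDomain_isIC_congr e (h L inferInstance (RingHom.ker τ.toRingHom))

end Groth.Agent.S9411
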