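import Groth.Statements.S9412
import Groth.Agent.EGA4Lib.FibreBC
import Mathlib.RingTheory.Localization.BaseChange

set_option linter.style.haveILetI false

set_option autoImplicit false
universe u
open EGA4

namespace Groth.Agent.S9412

/-- A localization of a geometrically normal algebra over a field k is geometrically normal over k. -/
theorem result (k : Type u) [Field k] (A : Type u) [CommRing A]
    [Algebra k A] (M : Submonoid A) (B : Type u) [CommRing B] [Algebra A B] [IsLocalization M B]
    [Algebra k B] [IsScalarTower k A B] (h : EGA4.IsGeomNormal k A) :
    EGA4.IsGeomNormal k B := by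
  intro k' _ _ hfin
  letI : Algebra (TensorProduct k k' A) (TensorProduct k k' B) :=
    (Algebra.TensorProduct.map (AlgHom.id k k') (IsScalarTower.toAlgHom k A B)).toRingHom.toAlgebra
  haveI : IsScalarTower k' (TensorProduct k k' A) (TensorProduct k k' B) :=
    IsScalarTower.of_algebraMap_eq fun x => by
      simp [RingHom.algebraMap_toAlgebra]
  haveI := IsLocalization.tensorProduct_tensorProduct_right k k' M B (by
    ext a
    simp [RingHom.algebraMap_toAlgebra])
  exact EGA4Lib.isNormalRing_of_isLocalization
    (M.map (Algebra.TensorProduct.includeRight (R := k) (A := k') : A →ₐ[k] TensorProduct k k' A)) (h k' hfin)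

end Groth.Agent.S9412
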