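import Groth.Statements.S9414
import Mathlib
-- import your own Groth.Agent.* helpers here

set_option autoImplicit false
universe u
open CAlg

namespace Groth.Agent.S9414
open TensorProduct

/-- Equal ideals have the same cotangent module. -/
noncomputable def cotangentCongr {R : Type u} [CommRing R] {I J : Ideal R} (h : I = J) : I.Cotangent ≃ₗ[R] J.Cotangent := by
  subst h; exact LinearEquiv.refl _ _


open TensorProduct in
/-- For an algebraically closed field k, a finite type k-algebra S and a maximal ideal m of S with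
residue field κ = S/m, the κ-vector spaces κ ⊗_S Ω_{S/k} and m/m² have the same dimension. -/
theorem result (k : Type u) [Field k]
    [IsAlgClosed k] (S : Type u) [CommRing S] [Algebra k S] [Algebra.FiniteType k S]
    (m : Ideal S) [m.IsMaximal] :
    Module.finrank (S ⧸ m) ((S ⧸ m) ⊗[S] Ω[S⁄k]) = Module.finrank (S ⧸ m) m.Cotangent := by
  classical
  letI := Ideal.Quotient.field m
  haveI : Algebra.FiniteType k (S ⧸ m) := inferInstance
  haveI : Module.Finite k (S ⧸ m) := finite_of_finite_type_of_isJacobsonRing k (S ⧸ m)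
  have hbij : Function.Bijective (algebraMap k (S ⧸ m)) :=
    ⟨(algebraMap k (S ⧸ m)).injective, IsAlgClosed.algebraMap_bijective_of_isIntegral.2⟩
  have hf : Function.Surjective (algebraMap S (S ⧸ m)) := Ideal.Quotient.mk_surjective
  let f := IsScalarTower.toAlgHom k S (S ⧸ m)
  let g : (S ⧸ m) →ₐ[k] S ⧸ RingHom.ker (f : S →+* S ⧸ m) ^ 2 :=
    (Algebra.ofId k _).comp (AlgEquiv.ofBijective (Algebra.ofId k (S ⧸ m)) hbij).symm.toAlgHom
  have hg : f.kerSquareLift.comp g = AlgHom.id k (S ⧸ m) := by
    refine AlgHom.ext fun x => ?_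
    obtain ⟨c, rfl⟩ := hbij.2 x
    simp only [AlgHom.coe_comp, Function.comp_apply, AlgHom.commutes, AlgHom.coe_id, id]
  obtain ⟨⟨l, hl⟩⟩ : Nonempty { l // l ∘ₗ (KaehlerDifferential.kerCotangentToTensor k S (S ⧸ m)) = LinearMap.id } :=
    ⟨(retractionKerCotangentToTensorEquivSection hf).symm ⟨g, hg⟩⟩
  haveI : Algebra.FormallyUnramified k (S ⧸ m) :=
    Algebra.FormallyUnramified.of_surjective (Algebra.ofId k (S ⧸ m)) hbij.2
  have hb : Function.Bijective (KaehlerDifferential.kerCotangentToTensor k S (S ⧸ m)) :=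
    ⟨Function.LeftInverse.injective (g := l) (LinearMap.congr_fun hl), fun y =>
      (KaehlerDifferential.exact_kerCotangentToTensor_mapBaseChange k S (S ⧸ m) hf y).mp (Subsingleton.elim _ _)⟩
  let e : m.Cotangent ≃ₗ[S] (S ⧸ m) ⊗[S] Ω[S⁄k] :=
    (cotangentCongr (Ideal.mk_ker (I := m)).symm).trans (LinearEquiv.ofBijective _ hb)
  exact (LinearEquiv.finrank_eq (LinearEquiv.extendScalarsOfSurjective hf e)).symm

end Groth.Agent.S9414
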