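import Groth.Statements.S9415
import Groth.Agent.CAlg48.SepGen
import Mathlib.RingTheory.Smooth.Kaehler
-- import your own Groth.Agent.* helpers here

set_option autoImplicit false
universe u
open CAlg

namespace Groth.Agent.S9415

/-- Let R be a Noetherian local algebra over a field k whose residue field κ is a finitely generated,
separable (that is, geometrically reduced) field extension of k. Then the map from m/m² (m the
maximal ideal, realised as the kernel of R → κ) to κ ⊗_R Ω_{R/k} sending the class of x to 1 ⊗ dx is
injective. -/
theorem result (k : Type u) [Field k] (R : Type u)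
    [CommRing R] [IsLocalRing R] [IsNoetherianRing R] [Algebra k R]
    [Algebra.EssFiniteType k (IsLocalRing.ResidueField R)]
    [Algebra.IsGeometricallyReduced k (IsLocalRing.ResidueField R)] :
    Function.Injective
      (KaehlerDifferential.kerCotangentToTensor k R (IsLocalRing.ResidueField R)) := by
  have := CAlg48.SepGen.formallySmooth k (IsLocalRing.ResidueField R)
  have hsurj : Function.Surjective (algebraMap R (IsLocalRing.ResidueField R)) :=
    IsLocalRing.residue_surjective
  let f := IsScalarTower.toAlgHom k R (IsLocalRing.ResidueField R)
  have hs : Function.Surjective f.kerSquareLift :=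
    Ideal.Quotient.lift_surjective_of_surjective _ _ hsurj
  have hn : IsNilpotent (RingHom.ker f.kerSquareLift.toRingHom) :=
    ⟨2, by rw [AlgHom.ker_kerSquareLift, Ideal.cotangentIdeal_square]; rfl⟩
  let g := Algebra.FormallySmooth.liftOfSurjective (AlgHom.id k (IsLocalRing.ResidueField R))
    f.kerSquareLift hs hn
  obtain ⟨l, hl⟩ := (retractionKerCotangentToTensorEquivSection (R := k) hsurj).symm
    ⟨g, Algebra.FormallySmooth.comp_liftOfSurjective _ _ _ _⟩
  intro x y hxy
  rw [← LinearMap.id_apply (R := R) x, ← hl, LinearMap.comp_apply, hxy, ← LinearMap.comp_apply, hl,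
    LinearMap.id_apply]

end Groth.Agent.S9415
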