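import Groth.Statements.S9416
import Mathlib
-- import your own Groth.Agent.* helpers here

set_option autoImplicit false
universe u
open CAlg

namespace Groth.Agent.S9416

open Polynomial in
/-- Coefficients of a `p`-th power lying in `R` are bounded by a power of `D a`. -/
lemma coeff_mem {R K : Type u} [CommRing R] [IsDomain R] [IsIntegrallyClosed R] [Field K] [Algebra R K]
    [IsFractionRing R K] (p : ℕ) [Fact p.Prime] [CharP K p] (D : Derivation ℤ K K)
    (hD : ∀ r ∈ (algebraMap R K).range, D r ∈ (algebraMap R K).range)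
    (a : K) (ha : a ∈ (algebraMap R K).range) (c : ℕ → K)
    (h : ∑ i ∈ Finset.range p, c i ^ p * a ^ i ∈ (algebraMap R K).range) :
    ∀ i < p, c i * D a ^ 2 ∈ (algebraMap R K).range := by
  set O := (algebraMap R K).range
  set d := D a
  have hd : d ∈ O := hD a ha
  let V : ℕ → K := fun k => ∑ i ∈ Finset.range p, (i.descFactorial k : K) * (c i ^ p * a ^ (i - k))
  have hpow : ∀ x : K, D (x ^ p) = 0 := fun x => by
    rw [D.leibniz_pow, nsmul_eq_mul, CharP.cast_eq_zero, zero_mul]
  have hDV : ∀ k, D (V k) = V (k + 1) * d := fun k => by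
    simp only [V, map_sum, Finset.sum_mul]
    refine Finset.sum_congr rfl fun i _ => ?_
    rw [D.leibniz, D.leibniz, hpow, D.map_natCast, D.leibniz_pow, Nat.descFactorial_succ]
    simp only [smul_eq_mul, nsmul_eq_mul, Nat.cast_mul, mul_zero, add_zero, Nat.sub_add_eq]
    ring
  have hV : ∀ k, d ^ (2 * k) * V k ∈ O := fun k => by
    induction k with
    | zero => simpa [V] using h
    | succ k ih =>
      have h1 : D (d ^ (2 * k) * V k) = (2 * k : ℕ) * (d ^ (2 * k - 1) * D d) * V k + d ^ (2 * k + 1) * V (k + 1) := by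
        rw [D.leibniz, D.leibniz_pow, hDV, smul_eq_mul, smul_eq_mul, nsmul_eq_mul, smul_eq_mul]
        ring
      have h2 : d ^ (2 * (k + 1)) * V (k + 1) =
          d * D (d ^ (2 * k) * V k) - (2 * k : ℕ) * D d * (d ^ (2 * k) * V k) := by
        rw [h1]
        rcases k.eq_zero_or_pos with rfl | hk
        · simp; ring
        · have : d ^ (2 * k) = d * d ^ (2 * k - 1) := by rw [← pow_succ']; congr 1; omega
          rw [this]; ring
      rw [h2]
      exact sub_mem (mul_mem hd (hD _ ih)) (mul_mem (mul_mem (natCast_mem _ _) (hD d hd)) ih)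
  have hdown : ∀ j i, i < p → p ≤ i + j → d ^ (2 * p) * c i ^ p ∈ O := by
    intro j
    induction j with
    | zero => intro i h1 h2; omega
    | succ j ih =>
      intro i hi hij
      have h1 : d ^ (2 * p) * V i ∈ O := by
        rw [show 2 * p = (2 * p - 2 * i) + 2 * i from by omega, pow_add, mul_assoc]
        exact mul_mem (pow_mem hd _) (hV i)
      simp only [V, Finset.mul_sum] at h1
      rw [← Finset.add_sum_erase _ _ (Finset.mem_range.mpr hi)] at h1
      have h2 : ∑ l ∈ (Finset.range p).erase i,
          d ^ (2 * p) * ((l.descFactorial i : K) * (c l ^ p * a ^ (l - i))) ∈ O := by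
        refine sum_mem fun l hl => ?_
        rw [Finset.mem_erase, Finset.mem_range] at hl
        rcases lt_or_gt_of_ne hl.1 with hli | hli
        · rw [Nat.descFactorial_eq_zero_iff_lt.mpr hli]; simp
        · rw [show d ^ (2 * p) * ((l.descFactorial i : K) * (c l ^ p * a ^ (l - i))) =
            (l.descFactorial i : K) * a ^ (l - i) * (d ^ (2 * p) * c l ^ p) from by ring]
          exact mul_mem (mul_mem (natCast_mem _ _) (pow_mem ha _)) (ih l hl.2 (by omega))
      have h3 := sub_mem h1 h2
      rw [add_sub_cancel_right, Nat.sub_self, pow_zero, mul_one, Nat.descFactorial_self] at h3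
      have hp : p.Prime := Fact.out
      have hcop : Nat.Coprime i.factorial p := (Nat.Prime.coprime_iff_not_dvd hp).mpr
        (fun hdvd => absurd ((Nat.Prime.dvd_factorial hp).mp hdvd) (by omega)) |>.symm
      obtain ⟨u, -, hu⟩ := Nat.exists_mul_mod_eq_one_of_coprime hcop hp.one_lt
      have hu' : (u : K) * (i.factorial : K) = 1 := by
        rw [← Nat.cast_mul, mul_comm, ← Nat.mod_add_div (i.factorial * u) p, hu]
        simp [CharP.cast_eq_zero K p]
      have h4 := mul_mem (natCast_mem O u) h3
      rw [show (u : K) * (d ^ (2 * p) * ((i.factorial : K) * c i ^ p)) =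
        (u : K) * (i.factorial : K) * (d ^ (2 * p) * c i ^ p) from by ring, hu', one_mul] at h4
      exact h4
  intro i hi
  obtain ⟨r, hr⟩ := hdown p i hi (by omega)
  have hint : IsIntegral R (c i * d ^ 2) := by
    refine ⟨X ^ p - C r, monic_X_pow_sub_C r (Fact.out : p.Prime).ne_zero, ?_⟩
    simp only [eval₂_sub, eval₂_X_pow, eval₂_C, hr]
    ring
  obtain ⟨y, hy⟩ := IsIntegrallyClosed.algebraMap_eq_of_integral hint
  exact ⟨y, hy⟩

/-- Suppose R is a normal Noetherian domain whose field of fractions K has prime characteristic p > 0, D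
a derivation of K preserving R, and a ∈ K with D(a) ≠ 0. For a field L generated over K by an
element x with x^p = a, the integral closure of R in L is module-finite over R. -/
theorem result (R : Type u) [CommRing R]
    [IsDomain R] [IsNoetherianRing R] [IsIntegrallyClosed R] (K : Type u) [Field K] [Algebra R K]
    [IsFractionRing R K] (p : ℕ) [Fact p.Prime] [CharP K p] (D : Derivation ℤ K K)
    (hD : ∀ r : R, ∃ s : R, D (algebraMap R K r) = algebraMap R K s) (a : K) (ha : D a ≠ 0)
    (L : Type u) [Field L] [Algebra K L] [Algebra R L] [IsScalarTower R K L] (x : L)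
    (hx : x ^ p = algebraMap K L a) (hgen : IntermediateField.adjoin K {x} = ⊤) :
    Module.Finite R (integralClosure R L) := by
  classical
  have hp : p.Prime := Fact.out
  have : CharP L p := charP_of_injective_algebraMap (algebraMap K L).injective p
  have hinjL : Function.Injective (algebraMap K L) := (algebraMap K L).injective
  obtain ⟨⟨n, s⟩, hns⟩ := IsLocalization.surj (nonZeroDivisors R) a
  have hs : algebraMap R K s ≠ 0 := IsFractionRing.to_map_ne_zero_of_mem_nonZeroDivisors s.2
  set e := algebraMap R K s with he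
  set a' := e ^ p * a with ha'
  set x' := algebraMap K L e * x with hx'def
  have hx' : x' ^ p = algebraMap K L a' := by rw [hx'def, mul_pow, hx, ha', map_mul, map_pow]
  have ha'O : a' ∈ (algebraMap R K).range := by
    refine ⟨(s : R) ^ (p - 1) * n, ?_⟩
    rw [map_mul, map_pow, ← he, ← hns, ha', mul_comm a, ← mul_assoc, ← pow_succ, Nat.sub_add_cancel hp.pos]
  have hDO : ∀ r ∈ (algebraMap R K).range, D r ∈ (algebraMap R K).range := by
    rintro _ ⟨r, rfl⟩
    obtain ⟨t, ht⟩ := hD r
    exact ⟨t, ht.symm⟩
  have hd : D a' ≠ 0 := by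
    have hDe : D (e ^ p) = 0 := by rw [D.leibniz_pow, nsmul_eq_mul, CharP.cast_eq_zero, zero_mul]
    rw [ha', D.leibniz, hDe, smul_zero, add_zero, smul_eq_mul]
    exact mul_ne_zero (pow_ne_zero _ hs) ha
  set d := D a'
  have hdL : algebraMap K L (d ^ 2) ≠ 0 := by simpa using hd
  let v : Fin p → L := fun i => (algebraMap K L (d ^ 2))⁻¹ * x' ^ (i : ℕ)
  haveI : Module.Finite R (Submodule.span R (Set.range v)) :=
    Module.Finite.iff_fg.mpr (Submodule.fg_span (Set.finite_range v))
  suffices hle : Subalgebra.toSubmodule (integralClosure R L) ≤ Submodule.span R (Set.range v) by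
    haveI : IsNoetherian R (Submodule.span R (Set.range v)) := isNoetherian_of_isNoetherianRing_of_finite R _
    exact Module.Finite.of_injective (Submodule.inclusion hle) (Submodule.inclusion_injective hle)
  intro y hy
  -- write `y` in terms of powers of `x'`
  have hxint : IsIntegral K x' :=
    ⟨Polynomial.X ^ p - Polynomial.C a', Polynomial.monic_X_pow_sub_C a' hp.ne_zero, by simp [hx']⟩
  have hgen' : IntermediateField.adjoin K {x'} = ⊤ := by
    rw [← top_le_iff, ← hgen, IntermediateField.adjoin_simple_le_iff]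
    have h1 : x = (algebraMap K L e)⁻¹ * x' := by
      rw [hx'def, inv_mul_cancel_left₀ ((map_ne_zero _).mpr hs)]
    have hmem := IntermediateField.mem_adjoin_simple_self K x'
    rw [h1]
    exact mul_mem (inv_mem (IntermediateField.algebraMap_mem _ _)) hmem
  obtain ⟨q, hq⟩ : ∃ q : Polynomial K, Polynomial.aeval x' q = y := by
    have h1 : y ∈ (IntermediateField.adjoin K {x'}).toSubalgebra := by rw [hgen']; trivial
    rw [IntermediateField.adjoin_simple_toSubalgebra_of_isAlgebraic hxint.isAlgebraic, Algebra.adjoin_singleton_eq_range_aeval] at h1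
    exact h1
  have hmon : (Polynomial.X ^ p - Polynomial.C a').Monic := Polynomial.monic_X_pow_sub_C a' hp.ne_zero
  set q' := q %ₘ (Polynomial.X ^ p - Polynomial.C a') with hq'def
  have hy' : y = ∑ i ∈ Finset.range p, algebraMap K L (q'.coeff i) * x' ^ i := by
    have h1 : Polynomial.aeval x' q' = y := by
      rw [hq'def, Polynomial.aeval_modByMonic_eq_self_of_root (by simp [hx']), hq]
    have hdeg : q'.natDegree < p := by
      have := Polynomial.natDegree_modByMonic_lt q hmon (fun h => by
        have := congrArg Polynomial.natDegree h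
        simp [hp.ne_zero] at this)
      simpa using this
    rw [← h1, Polynomial.aeval_eq_sum_range' hdeg]
    simp [Algebra.smul_def]
  -- its `p`-th power is in `R`
  have hyp : ∑ i ∈ Finset.range p, q'.coeff i ^ p * a' ^ i ∈ (algebraMap R K).range := by
    have h1 : algebraMap K L (∑ i ∈ Finset.range p, q'.coeff i ^ p * a' ^ i) = y ^ p := by
      rw [hy', sum_pow_char p, map_sum]
      refine Finset.sum_congr rfl fun i _ => ?_
      rw [map_mul, map_pow, map_pow, mul_pow, ← hx', ← pow_mul, ← pow_mul, mul_comm p]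
    have h2 : IsIntegral R (algebraMap K L (∑ i ∈ Finset.range p, q'.coeff i ^ p * a' ^ i)) := by
      rw [h1]; exact IsIntegral.pow (hy : IsIntegral R y) p
    obtain ⟨r, hr⟩ := IsIntegrallyClosed.algebraMap_eq_of_integral ((isIntegral_algebraMap_iff hinjL).mp h2)
    exact ⟨r, hr⟩
  rw [hy']
  refine Submodule.sum_mem _ fun i hi => ?_
  rw [Finset.mem_range] at hi
  obtain ⟨r, hr⟩ := coeff_mem p D hDO a' ha'O q'.coeff hyp i hi
  have h1 : algebraMap K L (q'.coeff i) * x' ^ i = r • v ⟨i, hi⟩ := by
    rw [Algebra.smul_def, IsScalarTower.algebraMap_apply R K L, hr, map_mul, show v ⟨i, hi⟩ = (algebraMap K L (d ^ 2))⁻¹ * x' ^ i from rfl,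
      mul_assoc, mul_inv_cancel_left₀ hdL]
  rw [h1]
  exact Submodule.smul_mem _ _ (Submodule.subset_span ⟨_, rfl⟩)

end Groth.Agent.S9416
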