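import Groth.Statements.S9423
import Groth.Agent.CAlg48.ColimApps
import Groth.Agent.FlatOpen.Descend
import Groth.Agent.Synt44.Descent
import Groth.Agent.CIntCI.Syntomic

set_option autoImplicit false
universe u
open Synt

namespace Groth.Agent.S9423

open CAlg48.ColimBC TensorProduct

section stage

variable {B : Type u} [CommRing B] {ι : Type u} {G : ι → Type u} [∀ i, CommRing (G i)]
  [∀ i, Algebra B (G i)] {A : Type u} [CommRing A] [Algebra B A] {g : ∀ i, G i →ₐ[B] A}
  {C : Type u} [CommRing C] [Algebra B C] [Algebra.FinitePresentation B C]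

lemma exists_flat_stage (hc : IsColim g) (h : Module.Flat A (A ⊗[B] C)) :
    ∃ i, Module.Flat (G i) (G i ⊗[B] C) := by
  obtain ⟨n, r, R₀, Z₀, -, E, hR₀, -, -⟩ := FlatOpen.exists_presentation_model B C C
  haveI : IsNoetherianRing R₀ := isNoetherianRing_of_fg hR₀
  have T : ∀ (P : Type u) [CommRing P] [Algebra B P],
      Nonempty (P ⊗[B] C ≃ₗ[P] FlatOpen.Quot P Z₀) := fun P _ _ =>
    ⟨((AlgebraTensorModule.congr (LinearEquiv.refl P P) E.symm).trans
      (AlgebraTensorModule.congr (LinearEquiv.refl P P) (FlatOpen.quotEquiv B Z₀).symm)).trans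
      ((AlgebraTensorModule.cancelBaseChange R₀ B P P (FlatOpen.Vec n r R₀ ⧸ Z₀)).trans
        (FlatOpen.quotEquiv P Z₀))⟩
  haveI : Module.Flat A (FlatOpen.Quot A Z₀) := Module.Flat.of_linearEquiv (T A).some.symm
  obtain ⟨R₁, hR₁, hflat⟩ := FlatOpen.exists_model_flat_all Z₀ A
  haveI : Algebra.FiniteType R₀ R₁ := R₁.fg_iff_finiteType.mp hR₁
  haveI : Algebra.FinitePresentation R₀ R₁ :=
    Algebra.FinitePresentation.of_finiteType.mp inferInstance
  let u : (B ⊗[R₀] R₁) →ₐ[B] A :=
    Algebra.TensorProduct.lift (Algebra.ofId B A) R₁.val (fun _ _ => Commute.all _ _)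
  obtain ⟨j, v, -⟩ := hc.exists_hom_lift (B ⊗[R₀] R₁) u
  let φ : R₁ →ₐ[R₀] G j :=
    (v.restrictScalars R₀).comp Algebra.TensorProduct.includeRight
  letI : Algebra R₁ (G j) := φ.toRingHom.toAlgebra
  haveI : IsScalarTower R₀ R₁ (G j) :=
    IsScalarTower.of_algebraMap_eq fun a => (φ.commutes a).symm
  haveI := FlatOpen.flat_quot_of_tower Z₀ (G j) R₁
  exact ⟨j, Module.Flat.of_linearEquiv (T (G j)).some⟩

lemma exists_syntomic_away (i : ι) (hfl : Module.Flat (G i) (G i ⊗[B] C))
    (h : Synt.IsSyntomic A (A ⊗[B] C)) (Q : Ideal (A ⊗[B] C)) [Q.IsPrime] :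
    ∃ x : G i ⊗[B] C, Algebra.TensorProduct.map (g i) (AlgHom.id B C) x ∉ Q ∧
      Synt.IsSyntomic (G i) (Localization.Away x) := by
  letI : Algebra (G i) A := (g i).toRingHom.toAlgebra
  haveI : IsScalarTower B (G i) A :=
    IsScalarTower.of_algebraMap_eq fun b => ((g i).commutes b).symm
  haveI := hfl
  let m := Algebra.TensorProduct.map (g i) (AlgHom.id B C)
  let q : Ideal (G i ⊗[B] C) := Q.comap m.toRingHom
  let p : Ideal (G i) := q.under (G i)
  let P : Ideal A := Q.under A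
  let K := P.ResidueField
  haveI : q.LiesOver p := ⟨rfl⟩
  have hker : p = RingHom.ker (algebraMap (G i) K) := by
    ext a
    rw [RingHom.mem_ker, IsScalarTower.algebraMap_apply (G i) A K,
      Ideal.algebraMap_residueField_eq_zero]
    change m (a ⊗ₜ[B] (1 : C)) ∈ Q ↔ (g i a) ⊗ₜ[B] (1 : C) ∈ Q
    rfl
  let ι' : p.ResidueField →ₐ[G i] K := Ideal.ResidueField.liftₐ p (Algebra.ofId (G i) K) hker.le
    fun x hx => isUnit_iff_ne_zero.2 fun h0 => hx (hker ▸ h0)
  letI : Algebra p.ResidueField K := ι'.toRingHom.toAlgebra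
  haveI : IsScalarTower (G i) p.ResidueField K :=
    IsScalarTower.of_algebraMap_eq fun x => (ι'.commutes x).symm
  have hfib : Synt.IsLCIOver p.ResidueField (p.Fiber (G i ⊗[B] C)) :=
    Synt44.isLCIOver_fiber_of_tensor ⟨p, inferInstance⟩ K
      (Synt44.isLCIOver_of_equiv ((Algebra.TensorProduct.cancelBaseChange B A K K C).trans
        (Algebra.TensorProduct.cancelBaseChange B (G i) K K C).symm)
        (Synt44.isLCIOver_tensor K h))
  obtain ⟨Qf, hQf⟩ := RelDim.exists_over' p q
  haveI : Algebra.FinitePresentation (G i ⊗[B] C) (Localization.Away (1 : G i ⊗[B] C)) :=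
    IsLocalization.Away.finitePresentation (1 : G i ⊗[B] C)
  haveI : Module.Flat (G i ⊗[B] C) (Localization.AtPrime q) :=
    IsLocalization.flat _ q.primeCompl
  obtain ⟨x, hx, hxs⟩ := (S9169.result (G i) (G i ⊗[B] C) p q Qf.asIdeal hQf).2.2
    ⟨1, (Ideal.ne_top_iff_one q).1 Ideal.IsPrime.ne_top',
      Algebra.FinitePresentation.trans (G i) (G i ⊗[B] C) _,
      Module.Flat.trans (G i) (G i ⊗[B] C) _, Synt44.isCIOver_atPrime hfib Qf.asIdeal⟩
  exact ⟨x, hx, hxs⟩

lemma exists_syntomic_stage (hc : IsColim g) (h : Synt.IsSyntomic A (A ⊗[B] C)) :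
    ∃ i, Synt.IsSyntomic (G i) (G i ⊗[B] C) := by
  classical
  obtain ⟨i, hfl⟩ := exists_flat_stage hc h.1
  let m := Algebra.TensorProduct.map (g i) (AlgHom.id B C)
  let U : Set (G i ⊗[B] C) := {x | Synt.IsSyntomic (G i) (Localization.Away x)}
  have htop : Ideal.span (m '' U) = ⊤ := by
    by_contra hne
    obtain ⟨M, hM, hle⟩ := Ideal.exists_le_maximal _ hne
    obtain ⟨x, hx, hxs⟩ := exists_syntomic_away i hfl h M
    exact hx (hle (Ideal.subset_span ⟨x, hxs, rfl⟩))
  obtain ⟨T, hTU, hT⟩ := Submodule.mem_span_finite_of_mem_span ((Ideal.eq_top_iff_one _).mp htop)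
  obtain ⟨s, hsU, rfl⟩ := Finset.subset_set_image_iff.mp hTU
  have h1 : (1 : A ⊗[B] C) ∈ Ideal.span (Set.range fun x : s => m x) := by
    refine Ideal.span_mono ?_ hT
    intro w hw
    obtain ⟨x, hx, rfl⟩ := Finset.mem_image.mp hw
    exact ⟨⟨x, hx⟩, rfl⟩
  obtain ⟨c, hcsum⟩ := (Ideal.mem_span_range_iff_exists_fun).mp h1
  obtain ⟨j, φ, y, hφ, hy⟩ := hc.exists_lift_rTensor_family C i c
  have hcomp : (Algebra.TensorProduct.map (g j) (AlgHom.id B C)).comp
      (Algebra.TensorProduct.map φ (AlgHom.id B C)) = m := by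
    rw [← Algebra.TensorProduct.map_comp, hφ, AlgHom.id_comp]
  let z : G j ⊗[B] C := ∑ x : s, y x * Algebra.TensorProduct.map φ (AlgHom.id B C) x - 1
  have hz : (g j).toLinearMap.rTensor C z = 0 := by
    change Algebra.TensorProduct.map (g j) (AlgHom.id B C) z = 0
    rw [map_sub, map_one, map_sum, sub_eq_zero, ← hcsum]
    refine Finset.sum_congr rfl fun x _ => ?_
    rw [map_mul, ← AlgHom.comp_apply, hcomp]
    exact congrArg (· * m (x : G i ⊗[B] C)) (hy x)
  obtain ⟨k, ψ, -, hψz⟩ := hc.kill_rTensor C j z hz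
  let θ : G i →ₐ[B] G k := ψ.comp φ
  letI : Algebra (G i) (G k) := θ.toRingHom.toAlgebra
  haveI : IsScalarTower B (G i) (G k) :=
    IsScalarTower.of_algebraMap_eq fun b => (θ.commutes b).symm
  let e := Algebra.TensorProduct.cancelBaseChange B (G i) (G k) (G k) C
  have he : ∀ w : G i ⊗[B] C, e ((1 : G k) ⊗ₜ[G i] w) =
      Algebra.TensorProduct.map ψ (AlgHom.id B C) (Algebra.TensorProduct.map φ (AlgHom.id B C) w) := by
    intro w
    induction w using TensorProduct.induction_on with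
    | zero => simp
    | tmul a b =>
      rw [Algebra.TensorProduct.cancelBaseChange_tmul, Algebra.smul_def, mul_one]
      rfl
    | add a b ha hb => rw [TensorProduct.tmul_add, map_add, ha, hb, map_add, map_add]
  have hsum : ∑ x : s, Algebra.TensorProduct.map ψ (AlgHom.id B C) (y x) *
      e ((1 : G k) ⊗ₜ[G i] (x : G i ⊗[B] C)) = 1 := by
    have hψz' : Algebra.TensorProduct.map ψ (AlgHom.id B C) z = 0 := hψz
    rw [map_sub, map_one, map_sum, sub_eq_zero] at hψz'
    rw [← hψz']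
    exact Finset.sum_congr rfl fun x _ => by rw [map_mul, he]
  refine ⟨k, Synt44.isSyntomic_of_equiv e ?_⟩
  refine Synt44.isSyntomic_of_span ((fun x => (1 : G k) ⊗ₜ[G i] x) '' (s : Set (G i ⊗[B] C))) ?_ ?_
  · rw [Ideal.eq_top_iff_one]
    have := congrArg e.symm hsum
    rw [map_one, map_sum] at this
    rw [← this]
    refine sum_mem fun x _ => ?_
    rw [map_mul, AlgEquiv.symm_apply_apply]
    exact Ideal.mul_mem_left _ _ (Ideal.subset_span ⟨x, x.2, rfl⟩)
  · rintro _ ⟨x, hx, rfl⟩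
    exact Synt44.isSyntomic_of_equiv
      (IsLocalization.Away.tensorProductEquivTMulRight (G i) (G k) x (Localization.Away x))
      (Synt44.isSyntomic_baseChange (G k) (hsU hx))

end stage


open TensorProduct in
/-- Let (A_i) be a directed system of A₀-algebras with colimit A (given by compatible maps A_i → A which
are jointly surjective and whose kernels die in the system), and B₀ → C₀ a homomorphism of
A₀-algebras with C₀ of finite presentation over B₀. If the base change of B₀ → C₀ along B₀ → B₀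
⊗_{A₀} A is syntomic (flat, of finite presentation, with local complete intersection fibres), then
already its base change along B₀ → B₀ ⊗_{A₀} A_i is syntomic for some index i. (The published
statement also treats relative global complete intersections; this row states the syntomic case.) -/
theorem result {ι : Type u} [Preorder ι] [IsDirected ι (· ≤ ·)] [Nonempty ι]
    (A₀ : Type u) [CommRing A₀] (G : ι → Type u) [∀ i, CommRing (G i)] [∀ i, Algebra A₀ (G i)]
    (f : ∀ i j, i ≤ j → (G i →ₐ[A₀] G j)) (A : Type u) [CommRing A] [Algebra A₀ A]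
    (g : ∀ i, G i →ₐ[A₀] A) (hg : ∀ i j (h : i ≤ j), (g j).comp (f i j h) = g i)
    (hsurj : ∀ a : A, ∃ i, ∃ x : G i, g i x = a)
    (hker : ∀ i (x : G i), g i x = 0 → ∃ j, ∃ h : i ≤ j, f i j h x = 0)
    (B₀ : Type u) [CommRing B₀] [Algebra A₀ B₀] (C₀ : Type u) [CommRing C₀] [Algebra A₀ C₀]
    [Algebra B₀ C₀] [IsScalarTower A₀ B₀ C₀] [Algebra.FinitePresentation B₀ C₀]
    (h : Synt.IsSyntomic (B₀ ⊗[A₀] A) ((B₀ ⊗[A₀] A) ⊗[B₀] C₀)) :
    ∃ i, Synt.IsSyntomic (B₀ ⊗[A₀] G i) ((B₀ ⊗[A₀] G i) ⊗[B₀] C₀) := by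
  exact exists_syntomic_stage ((IsColim.of_directed f g hg hsurj hker).baseChange B₀) h

end Groth.Agent.S9423
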