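import Groth.Statements.S9425
import Groth.Agent.S9424
-- import your own Groth.Agent.* helpers here

set_option autoImplicit false
universe u
open CAlg

namespace Groth.Agent.S9425

/-- A directed colimit of formally étale R-algebras is formally étale over R. The colimit is encoded by
compatible R-algebra maps S_i → S which are jointly surjective and whose kernels die further along
the system. -/
theorem result {ι : Type u} [Preorder ι] [IsDirected ι (· ≤ ·)] [Nonempty ι]
    (R : Type u) [CommRing R] (G : ι → Type u) [∀ i, CommRing (G i)] [∀ i, Algebra R (G i)]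
    (f : ∀ i j, i ≤ j → (G i →ₐ[R] G j)) (S : Type u) [CommRing S] [Algebra R S]
    (g : ∀ i, G i →ₐ[R] S) (hg : ∀ i j (h : i ≤ j), (g j).comp (f i j h) = g i)
    (hsurj : ∀ s : S, ∃ i, ∃ x : G i, g i x = s)
    (hker : ∀ i (x : G i), g i x = 0 → ∃ j, ∃ h : i ≤ j, f i j h x = 0)
    (h : ∀ i, Algebra.FormallyEtale R (G i)) : Algebra.FormallyEtale R S := by
  refine Algebra.FormallyEtale.iff_comp_bijective.mpr fun C _ _ I hI => ⟨?_, ?_⟩
  · haveI := S9424.result R G f S g hg hsurj hker fun i => (Algebra.FormallyEtale.iff_formallyUnramified_and_formallySmooth.mp (h i)).1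
    exact Algebra.FormallyUnramified.comp_injective I hI
  · intro ψ
    have hu : ∀ i, ∃ χ : G i →ₐ[R] C, (Ideal.Quotient.mkₐ R I).comp χ = ψ.comp (g i) := fun i =>
      ((Algebra.FormallyEtale.iff_comp_bijective.mp (h i)) I hI).2 _
    choose χ hχ using hu
    have hcomp : ∀ i j (hij : i ≤ j), (χ j).comp (f i j hij) = χ i := fun i j hij => by
      refine ((Algebra.FormallyEtale.iff_comp_bijective.mp (h i)) I hI).1 ?_
      show (Ideal.Quotient.mkₐ R I).comp ((χ j).comp (f i j hij)) = (Ideal.Quotient.mkₐ R I).comp (χ i)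
      rw [← AlgHom.comp_assoc, hχ, hχ, AlgHom.comp_assoc, hg]
    have hwd : ∀ i j (x : G i) (y : G j), g i x = g j y → χ i x = χ j y := fun i j x y hxy => by
      obtain ⟨k, hik, hjk⟩ := directed_of (· ≤ ·) i j
      have h0 : g k (f i k hik x - f j k hjk y) = 0 := by
        rw [map_sub, ← AlgHom.comp_apply, ← AlgHom.comp_apply, hg, hg, hxy, sub_self]
      obtain ⟨l, hkl, hl⟩ := hker k _ h0
      have h1 := congrArg (χ l) hl
      rw [← AlgHom.comp_apply, hcomp, map_sub, map_zero, sub_eq_zero, ← AlgHom.comp_apply,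
        ← AlgHom.comp_apply, hcomp, hcomp] at h1
      exact h1
    choose ix rx hrx using hsurj
    have hF : ∀ i x, χ (ix (g i x)) (rx (g i x)) = χ i x := fun i x => hwd _ _ _ _ (hrx _)
    let F : S → C := fun s => χ (ix s) (rx s)
    have key : ∀ s t, ∃ k x y, g k x = s ∧ g k y = t := fun s t => by
      obtain ⟨k, h1, h2⟩ := directed_of (· ≤ ·) (ix s) (ix t)
      exact ⟨k, f _ k h1 (rx s), f _ k h2 (rx t), by rw [← AlgHom.comp_apply, hg, hrx],
        by rw [← AlgHom.comp_apply, hg, hrx]⟩
    have hadd : ∀ s t, F (s + t) = F s + F t := fun s t => by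
      obtain ⟨k, x, y, rfl, rfl⟩ := key s t
      simp only [F, ← map_add (g k), hF]; exact map_add _ _ _
    have hmul : ∀ s t, F (s * t) = F s * F t := fun s t => by
      obtain ⟨k, x, y, rfl, rfl⟩ := key s t
      simp only [F, ← map_mul (g k), hF]; exact map_mul _ _ _
    have halg : ∀ r, F (algebraMap R S r) = algebraMap R C r := fun r => by
      obtain ⟨i⟩ := ‹Nonempty ι›
      simp only [F, ← (g i).commutes r, hF]; exact (χ i).commutes r
    refine ⟨AlgHom.mk ⟨⟨⟨F, by simpa using halg 1⟩, hmul⟩, by simpa using halg 0, hadd⟩ halg,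
      AlgHom.ext fun s => ?_⟩
    have := AlgHom.congr_fun (hχ (ix s)) (rx s)
    rw [AlgHom.comp_apply, AlgHom.comp_apply, hrx] at this
    exact this

end Groth.Agent.S9425
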