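import Groth.Statements.S9427
import Groth.Agent.Omega.ThickRing
import Mathlib.Algebra.TrivSqZeroExt.Basic
import Mathlib.RingTheory.Kaehler.Basic

set_option autoImplicit false
universe u
open OmegaSh

namespace Groth.Agent.S9427

open scoped TensorProduct in
theorem exists_lift {A B B' : Type u} [CommRing A] [CommRing B] [CommRing B'] [Algebra A B] [Algebra A B']
    [Algebra B' B] [IsScalarTower A B' B]
    (h : OmegaSh.IsUnivThickeningRing A B B' (IsScalarTower.toAlgHom A B' B))
    {M : Type u} [AddCommGroup M] [Module B M] (δ : A →+ M)
    (hδ : ∀ x y, δ (x * y) = algebraMap A B x • δ y + algebraMap A B y • δ x) :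
    (∃ D : B' →+ M, (∀ x y, D (x * y) = algebraMap B' B x • D y + algebraMap B' B y • D x) ∧
      ∀ a, D (algebraMap A B' a) = δ a) ∧
    (δ = 0 → ∀ D : B' →+ M, (∀ x y, D (x * y) = algebraMap B' B x • D y + algebraMap B' B y • D x) →
      (∀ a, D (algebraMap A B' a) = 0) → D = 0) := by
  let : Module Bᵐᵒᵖ M := Module.compHom _ ((RingHom.id B).fromOpposite mul_comm)
  have : IsCentralScalar B M := ⟨fun c x => rfl⟩
  have hδ1 : δ 1 = 0 := by simpa using hδ 1 1
  let φ : A →+* TrivSqZeroExt B M :=
    { toFun := fun a => TrivSqZeroExt.inl (algebraMap A B a) + TrivSqZeroExt.inr (δ a)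
      map_one' := by ext <;> simp [hδ1]
      map_mul' := fun x y => by ext <;> simp [hδ]
      map_zero' := by ext <;> simp
      map_add' := fun x y => by ext <;> simp }
  let : Algebra A (TrivSqZeroExt B M) := φ.toAlgebra
  let I : Ideal (TrivSqZeroExt B M) :=
    RingHom.ker (TrivSqZeroExt.fstHom B B M).toRingHom
  have hI : I ^ 2 = ⊥ := by
    rw [pow_two, eq_bot_iff, Ideal.mul_le]
    intro x hx y hy
    have hx' : x.fst = 0 := hx
    have hy' : y.fst = 0 := hy
    rw [Ideal.mem_bot]
    ext <;> simp [hx', hy']
  let a : B →ₐ[A] TrivSqZeroExt B M ⧸ I :=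
    { (Ideal.Quotient.mk I).comp (TrivSqZeroExt.inlHom B M) with
      commutes' := fun r => by
        change Ideal.Quotient.mk I (TrivSqZeroExt.inl (algebraMap A B r)) = Ideal.Quotient.mk I (φ r)
        rw [Ideal.Quotient.eq, RingHom.mem_ker]
        simp [φ] }
  obtain ⟨-, -, huniv⟩ := h
  obtain ⟨a', ha', hun⟩ := huniv (TrivSqZeroExt B M) I hI a
  have hfst : ∀ x, (a' x).fst = algebraMap B' B x := fun x => by
    have := congr($ha' x)
    change Ideal.Quotient.mk I (a' x) = Ideal.Quotient.mk I (TrivSqZeroExt.inl (algebraMap B' B x)) at this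
    rw [Ideal.Quotient.eq, RingHom.mem_ker] at this
    simpa [sub_eq_zero] using this
  refine ⟨⟨AddMonoidHom.mk' (fun x => (a' x).snd) fun x y => by simp, fun x y => ?_, fun r => ?_⟩, ?_⟩
  · change (a' (x * y)).snd = _
    simp [hfst]
  · change (a' (algebraMap A B' r)).snd = δ r
    rw [a'.commutes]
    change (φ r).snd = δ r
    simp [φ]
  · intro hδ0 D hD hD0
    have hD1 : D 1 = 0 := by simpa using hD 1 1
    have key : ∀ E : B' →+ M, (∀ x y, E (x * y) = algebraMap B' B x • E y + algebraMap B' B y • E x) →
        (∀ r, E (algebraMap A B' r) = 0) → ∀ x, (a' x).snd = E x := by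
      intro E hE hE0
      have hE1 : E 1 = 0 := by simpa using hE 1 1
      let ψ : B' →ₐ[A] TrivSqZeroExt B M :=
        { toFun := fun x => TrivSqZeroExt.inl (algebraMap B' B x) + TrivSqZeroExt.inr (E x)
          map_one' := by ext <;> simp [hE1]
          map_mul' := fun x y => by ext <;> simp [hE]
          map_zero' := by ext <;> simp
          map_add' := fun x y => by ext <;> simp
          commutes' := fun r => by
            change _ = φ r
            ext <;> simp [φ, hE0, hδ0, ← IsScalarTower.algebraMap_apply] }
      have hψ : ψ = a' := hun ψ (AlgHom.ext fun x => by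
        change Ideal.Quotient.mk I (TrivSqZeroExt.inl (algebraMap B' B x) + TrivSqZeroExt.inr (E x)) =
          Ideal.Quotient.mk I (TrivSqZeroExt.inl (algebraMap B' B x))
        rw [Ideal.Quotient.eq, RingHom.mem_ker]
        simp)
      intro x
      rw [← hψ]
      simp [ψ]
    ext x
    rw [← key D hD hD0 x, key 0 (fun _ _ => by simp) (fun _ => rfl) x]

/-- Let R → A → B be ring maps with A → B formally unramified, and let B' → B be a universal first order
thickening of B relative to A (B a B'-algebra through it). Then A → B' is formally unramified, and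
base changing to B the natural B'-linear map B' ⊗_A Ω_{A/R} → Ω_{B'/R} gives a bijection B ⊗_{B'}
(B' ⊗_A Ω_{A/R}) → B ⊗_{B'} Ω_{B'/R}. -/
theorem result
    (R : Type u) [CommRing R] (A : Type u) [CommRing A] [Algebra R A] (B : Type u) [CommRing B]
    [Algebra A B] [Algebra.FormallyUnramified A B] (B' : Type u) [CommRing B'] [Algebra A B']
    [Algebra R B'] [IsScalarTower R A B'] [Algebra B' B] [IsScalarTower A B' B]
    (h : OmegaSh.IsUnivThickeningRing A B B' (IsScalarTower.toAlgHom A B' B)) :
    Algebra.FormallyUnramified A B' ∧
      Function.Bijective ((KaehlerDifferential.mapBaseChange R A B').baseChange B) := by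
  have hsurj : Function.Surjective (algebraMap B' B) := h.1
  have hfu : Algebra.FormallyUnramified A B' := by
    let π := algebraMap B' B
    let N := RingHom.ker π
    have hN : N ^ 2 = ⊥ := h.2.1
    let Ω := KaehlerDifferential A B'
    have hspan : N • (⊤ : Submodule B' Ω) = ⊤ := by
      let M := Ω ⧸ N • (⊤ : Submodule B' Ω)
      let eq := RingHom.quotientKerEquivOfSurjective hsurj
      let : Module B M := Module.compHom M eq.symm.toRingHom
      have hsmul : ∀ (x : B') (m : M), π x • m = x • m := fun x m => by
        change eq.symm (π x) • m = x • m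
        rw [show eq.symm (π x) = Ideal.Quotient.mk _ x from eq.symm_apply_eq.mpr rfl]
        rfl
      let D : B' →+ M := AddMonoidHom.mk' (fun x => Submodule.Quotient.mk (KaehlerDifferential.D A B' x))
        fun x y => by simp
      have hD : D = 0 := (exists_lift h (M := M) (0 : A →+ M) (fun _ _ => by simp)).2 rfl D
        (fun x y => by simp [D, π, hsmul, -IsScalarTower.algebraMap_smul, hsmul x, hsmul y])
        (fun r => by simp [D])
      rw [eq_top_iff]
      refine (KaehlerDifferential.span_range_derivation _ _).symm.le.trans (Submodule.span_le.mpr ?_)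
      rintro _ ⟨x, rfl⟩
      exact (Submodule.Quotient.mk_eq_zero _).mp congr($hD x)
    have htop : (⊤ : Submodule B' Ω) = ⊥ := by
      conv_lhs => rw [← hspan]; rw [← hspan]
      rw [← Submodule.smul_assoc, smul_eq_mul, ← pow_two, hN, Submodule.bot_smul]
    exact ⟨(Submodule.subsingleton_iff _).mp (subsingleton_of_bot_eq_top htop.symm)⟩
  refine ⟨hfu, ?_⟩
  let M := TensorProduct B' B (TensorProduct A B' (KaehlerDifferential R A))
  let δ : A →+ M := AddMonoidHom.mk'
    (fun x => TensorProduct.tmul B' 1 (TensorProduct.tmul A 1 (KaehlerDifferential.D R A x)))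
    (fun x y => by simp [TensorProduct.tmul_add])
  have hδ : ∀ x y, δ (x * y) = algebraMap A B x • δ y + algebraMap A B y • δ x := fun x y => by
    simp only [δ, AddMonoidHom.mk'_apply, Derivation.leibniz, TensorProduct.tmul_add]
    congr 1 <;>
      rw [IsScalarTower.algebraMap_apply A B' B, IsScalarTower.algebraMap_smul, ← TensorProduct.tmul_smul,
        IsScalarTower.algebraMap_smul, TensorProduct.tmul_smul]
  obtain ⟨D, hD, hDδ⟩ := (exists_lift h δ hδ).1
  let : Algebra R B := ((algebraMap B' B).comp (algebraMap R B')).toAlgebra
  have : IsScalarTower R B' B := IsScalarTower.of_algebraMap_eq fun _ => rfl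
  let D' : Derivation R B' M := Derivation.mk'
    { toFun := D
      map_add' := map_add D
      map_smul' := fun r x => by
        simp only [RingHom.id_apply, Algebra.smul_def, hD]
        rw [show D (algebraMap R B' r) = 0 from by
          rw [IsScalarTower.algebraMap_apply R A B', hDδ]; simp [δ]]
        simp [IsScalarTower.algebraMap_smul] }
    fun x y => by simp [hD, IsScalarTower.algebraMap_smul]
  let L : TensorProduct B' B (KaehlerDifferential R B') →ₗ[B] M :=
    (TensorProduct.isBaseChange B' (KaehlerDifferential R B') B).lift D'.liftKaehlerDifferential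
  have hL : L.comp ((KaehlerDifferential.mapBaseChange R A B').baseChange B) = LinearMap.id := by
    refine TensorProduct.AlgebraTensorModule.curry_injective (LinearMap.ext fun b => LinearMap.ext fun x => ?_)
    change L ((KaehlerDifferential.mapBaseChange R A B').baseChange B (TensorProduct.tmul B' b x)) =
      TensorProduct.tmul B' b x
    rw [show TensorProduct.tmul B' b x = b • TensorProduct.tmul B' (1 : B) x by
      simp [TensorProduct.smul_tmul'], map_smul, map_smul]
    congr 1
    induction x using TensorProduct.induction_on with
    | zero => simp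
    | add u v hu hv => simp only [TensorProduct.tmul_add, map_add, hu, hv]
    | tmul c w =>
      have hw : w ∈ Submodule.span A (Set.range (KaehlerDifferential.D R A)) := by
        rw [KaehlerDifferential.span_range_derivation]; trivial
      rw [show TensorProduct.tmul A c w = c • TensorProduct.tmul A (1 : B') w by
        simp [TensorProduct.smul_tmul']]
      induction hw using Submodule.span_induction generalizing c with
      | mem y hy =>
        obtain ⟨x, rfl⟩ := hy
        rw [LinearMap.baseChange_tmul, map_smul, KaehlerDifferential.mapBaseChange_tmul, one_smul,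
          KaehlerDifferential.map_D, TensorProduct.tmul_smul, LinearMap.map_smul_of_tower]
        change c • L ((TensorProduct.mk B' B _ 1) (KaehlerDifferential.D R B' (algebraMap A B' x))) = _
        simp only [L]
        rw [IsBaseChange.lift_eq, Derivation.liftKaehlerDifferential_comp_D]
        change c • D (algebraMap A B' x) = _
        rw [hDδ, TensorProduct.tmul_smul]
        rfl
      | zero => simp
      | add u v _ _ hu hv =>
        simp only [TensorProduct.tmul_add, smul_add, map_add, hu c, hv c]
      | smul r u _ hu =>
        rw [TensorProduct.tmul_smul r (1 : B') u, ← IsScalarTower.algebraMap_smul B' r (TensorProduct.tmul A (1 : B') u), ← mul_smul]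
        exact hu _
  refine ⟨Function.LeftInverse.injective (g := L) fun x => congr($hL x), ?_⟩
  refine LinearMap.lTensor_surjective B ?_
  intro y
  exact (KaehlerDifferential.exact_mapBaseChange_map R A B' y).mp (Subsingleton.elim _ _)

end Groth.Agent.S9427
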