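import Groth.Statements.S9428
-- import your own Groth.Agent.* helpers here

set_option autoImplicit false
universe u
open CAlg

namespace Groth.Agent.S9428

lemma quotientMap_bijective {A T : Type u} [CommRing A] [CommRing T] [Algebra A T]
    [Algebra.FormallyEtale A T] {J : Ideal T} (hJ : Function.Surjective (algebraMap A (T ⧸ J)))
    {I : Ideal A} (hI : I = J.comap (algebraMap A T)) (n : ℕ)
    (H : I ^ n ≤ (J ^ n).comap (algebraMap A T)) :
    Function.Bijective (Ideal.quotientMap (J ^ n) (algebraMap A T) H) := by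
  subst hI
  rcases Nat.eq_zero_or_pos n with rfl | hn
  · have : Subsingleton (A ⧸ (J.comap (algebraMap A T)) ^ 0) :=
      Ideal.Quotient.subsingleton_iff.mpr (by rw [pow_zero, Ideal.one_eq_top])
    have : Subsingleton (T ⧸ J ^ 0) :=
      Ideal.Quotient.subsingleton_iff.mpr (by rw [pow_zero, Ideal.one_eq_top])
    exact ⟨Function.injective_of_subsingleton _, Function.surjective_to_subsingleton _⟩
  set I := J.comap (algebraMap A T)
  let p : (A ⧸ I ^ n) →ₐ[A] T ⧸ J := Ideal.Quotient.liftₐ _ (Algebra.ofId A (T ⧸ J)) (by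
    change I ^ n ≤ RingHom.ker (algebraMap A (T ⧸ J))
    exact (Ideal.pow_le_self hn.ne').trans fun a ha => Ideal.Quotient.eq_zero_iff_mem.mpr ha)
  have hp : Function.Surjective p := fun t => by
    obtain ⟨a, ha⟩ := hJ t; exact ⟨Ideal.Quotient.mk _ a, ha⟩
  have hker : ∀ a : A ⧸ I ^ n, p a = 0 → a ∈ I.map (Ideal.Quotient.mk (I ^ n)) := fun a ha => by
    obtain ⟨a, rfl⟩ := Ideal.Quotient.mk_surjective a
    have ha' : algebraMap A (T ⧸ J) a = 0 := ha
    exact Ideal.mem_map_of_mem _ (Ideal.Quotient.eq_zero_iff_mem.mp ha' : algebraMap A T a ∈ J)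
  have hnil : IsNilpotent (RingHom.ker p.toRingHom) := ⟨n, le_bot_iff.mp
    ((Ideal.pow_right_mono (show RingHom.ker p.toRingHom ≤ I.map (Ideal.Quotient.mk (I ^ n)) from
      fun a ha => hker a ha) n).trans (by rw [← Ideal.map_pow, Ideal.map_quotient_self]))⟩
  let σ : T →ₐ[A] A ⧸ I ^ n :=
    Algebra.FormallySmooth.liftOfSurjective (Ideal.Quotient.mkₐ A J) p hp hnil
  have hσ : ∀ t, p (σ t) = Ideal.Quotient.mk J t :=
    AlgHom.congr_fun (Algebra.FormallySmooth.comp_liftOfSurjective _ p hp hnil)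
  have hσJ : J ^ n ≤ RingHom.ker σ.toRingHom := by
    have h1 : J.map σ.toRingHom ≤ I.map (Ideal.Quotient.mk (I ^ n)) :=
      Ideal.map_le_iff_le_comap.mpr fun t ht => hker _ ((hσ t).trans
        (Ideal.Quotient.eq_zero_iff_mem.mpr ht))
    intro t ht
    have := Ideal.mem_map_of_mem σ.toRingHom ht
    rw [Ideal.map_pow] at this
    have h2 := Ideal.pow_right_mono h1 n this
    rw [← Ideal.map_pow, Ideal.map_quotient_self, Ideal.mem_bot] at h2
    exact h2
  let σ' : (T ⧸ J ^ n) →ₐ[A] A ⧸ I ^ n := Ideal.Quotient.liftₐ _ σ hσJ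
  let q : (A ⧸ I ^ n) →ₐ[A] T ⧸ J ^ n :=
    { Ideal.quotientMap (J ^ n) (algebraMap A T) H with
      commutes' := fun a => rfl }
  have hq : q.comp σ = Ideal.Quotient.mkₐ A (J ^ n) := by
    refine Algebra.FormallyUnramified.ext (J.map (Ideal.Quotient.mk (J ^ n)))
      ⟨n, by rw [← Ideal.map_pow, Ideal.map_quotient_self]; rfl⟩ fun t => ?_
    obtain ⟨a, ha⟩ := Ideal.Quotient.mk_surjective (σ t)
    have h1 : algebraMap A T a - t ∈ J := by
      rw [← Ideal.Quotient.eq, ← hσ t, ← ha]
      rfl
    rw [AlgHom.comp_apply, ← ha, Ideal.Quotient.eq]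
    change Ideal.Quotient.mk (J ^ n) (algebraMap A T a) - Ideal.Quotient.mk (J ^ n) t ∈ _
    rw [← map_sub]
    exact Ideal.mem_map_of_mem _ h1
  refine ⟨Function.LeftInverse.injective (g := σ') fun a => ?_,
    Function.RightInverse.surjective (g := σ') fun t => ?_⟩
  · obtain ⟨a, rfl⟩ := Ideal.Quotient.mk_surjective a
    exact (σ.commutes a).trans rfl
  · obtain ⟨t, rfl⟩ := Ideal.Quotient.mk_surjective t
    exact AlgHom.congr_fun hq t

/-- If R → S is formally étale and J ⊆ S is an ideal with R → S/J surjective, I ⊆ R its kernel (the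
preimage of J), then R/I^n → S/J^n is bijective for all n. (The published statement adds that the
associated graded rings are then isomorphic, which follows from these bijections.) -/
theorem result (R : Type u) [CommRing R] (S : Type u)
    [CommRing S] [Algebra R S] [Algebra.FormallyEtale R S] (J : Ideal S)
    (hJ : Function.Surjective (algebraMap R (S ⧸ J))) (n : ℕ) :
    Function.Bijective (Ideal.quotientMap (J ^ n) (algebraMap R S)
      (le_of_le_of_eq (Ideal.le_comap_pow (algebraMap R S) n) rfl :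
        (J.comap (algebraMap R S)) ^ n ≤ (J ^ n).comap (algebraMap R S))) := by
  exact quotientMap_bijective hJ rfl n _

end Groth.Agent.S9428
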