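import Groth.Statements.S9430
import Groth.Agent.Synt44.CIEquiv
import Mathlib.RingTheory.RegularLocalRing.Defs

set_option autoImplicit false
universe u
open Synt

namespace Groth.Agent.S9430

/-- For a field extension K/k, every finite subset of K lies in a k-subalgebra of K which is a global
complete intersection over k; so K is the directed union of its k-subalgebras that are global
complete intersections over k. -/
theorem result (k : Type u) [Field k] (K : Type u)
    [Field K] [Algebra k K] (E : Finset K) :
    ∃ A : Subalgebra k K, (↑E : Set K) ⊆ (A : Set K) ∧ Synt.IsGlobalCI k A := by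
  let A₀ := Algebra.adjoin k (E : Set K)
  haveI : Algebra.FiniteType k A₀ := (Subalgebra.fg_iff_finiteType _).1 (Subalgebra.fg_adjoin_finset E)
  let L := Localization.AtPrime (⊥ : Ideal A₀)
  have hL : IsField L := by
    rw [IsLocalRing.isField_iff_maximalIdeal_eq, ← Localization.AtPrime.map_eq_maximalIdeal, Ideal.map_bot]
  haveI : IsNoetherianRing A₀ := Algebra.FiniteType.isNoetherianRing k A₀
  haveI : IsRegularLocalRing L := by
    letI := hL.toField
    infer_instance
  have hci : Synt.IsCIOver k L := by
    refine ⟨L, inferInstance, inferInstance, inferInstance, inferInstance, [], by simp, ⟨RingTheory.Sequence.IsWeaklyRegular.nil L L, ?_⟩, ?_⟩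
    · simp
    · have hb : Ideal.ofList ([] : List L) = ⊥ := Ideal.ofList_nil
      exact ⟨((Ideal.quotientEquivAlgOfEq k hb).trans (AlgEquiv.quotientBot k L)).symm⟩
  obtain ⟨g, hg, hlci⟩ := Groth.Agent.Synt44.exists_isLCIOver_away (⊥ : Ideal A₀) hci
  obtain ⟨g', hg', hgci⟩ := Groth.Agent.Synt44.exists_isGlobalCI_away (⊥ : Ideal A₀) g hg hlci
  have hg0 : (g' : K) ≠ 0 := fun h => hg' (by simpa using h)
  have hu : ∀ y : Submonoid.powers g', IsUnit (A₀.val y) := by
    rintro ⟨_, m, rfl⟩
    exact isUnit_iff_ne_zero.2 (by simpa using pow_ne_zero m hg0)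
  let ι : Localization.Away g' →ₐ[k] K := IsLocalization.liftAlgHom hu
  have hι : Function.Injective ι := by
    change Function.Injective (IsLocalization.lift hu)
    rw [IsLocalization.lift_injective_iff]
    intro x y
    refine ⟨fun h => ?_, fun h => congrArg _ (Subtype.ext h)⟩
    obtain ⟨c, hc⟩ := (IsLocalization.eq_iff_exists (Submonoid.powers g') _).1 h
    exact (hu c).mul_left_cancel (by simpa using congrArg A₀.val hc)
  refine ⟨ι.range, fun x hx => ?_, Groth.Agent.Synt44.isGlobalCI_of_equiv (AlgEquiv.ofInjective ι hι) hgci⟩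
  exact ⟨algebraMap A₀ _ ⟨x, Algebra.subset_adjoin hx⟩, IsLocalization.lift_eq hu _⟩

end Groth.Agent.S9430
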