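import Groth.Statements.S9431
import Groth.Agent.CAlg48.SepGen
import Mathlib.RingTheory.Smooth.Locus
-- import your own Groth.Agent.* helpers here

set_option autoImplicit false
universe u
open CAlg

namespace Groth.Agent.S9431

/-- For a separable (geometrically reduced) field extension K/k, every finite subset of K lies in a
k-subalgebra of K which is smooth over k; in particular K is a filtered colimit of smooth
k-algebras. -/
theorem result (k : Type u) [Field k]
    (K : Type u) [Field K] [Algebra k K] [Algebra.IsGeometricallyReduced k K] (E : Finset K) :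
    ∃ A : Subalgebra k K, (↑E : Set K) ⊆ (A : Set K) ∧ Algebra.Smooth k A := by
  let A0 := Algebra.adjoin k (E : Set K)
  have : Algebra.FiniteType k A0 := ⟨A0.fg_top.mpr (Subalgebra.fg_adjoin_finset E)⟩
  have : Algebra.FinitePresentation k A0 := Algebra.FinitePresentation.of_finiteType.mp ‹_›
  let K0 := FractionRing A0
  have hinj : Function.Injective (algebraMap A0 K) := Subtype.val_injective
  let φ : K0 →ₐ[k] K := IsFractionRing.liftAlgHom (A := A0) (g := A0.val) hinj
  have : Algebra.IsGeometricallyReduced k K0 :=
    Algebra.IsGeometricallyReduced.of_injective φ φ.toRingHom.injective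
  have : Algebra.EssFiniteType A0 K0 :=
    Algebra.EssFiniteType.of_isLocalization K0 (nonZeroDivisors A0)
  have : Algebra.EssFiniteType k K0 := Algebra.EssFiniteType.comp k A0 K0
  have := CAlg48.SepGen.formallySmooth k K0
  have hM : (⊥ : Ideal A0).primeCompl = nonZeroDivisors A0 := by
    ext x
    rw [Ideal.mem_primeCompl_iff, mem_nonZeroDivisors_iff_ne_zero]
    simp
  have : IsLocalization (⊥ : Ideal A0).primeCompl K0 := by
    rw [hM]; infer_instance
  have : Algebra.IsSmoothAt k (⊥ : Ideal A0) :=
    Algebra.FormallySmooth.of_equiv ((IsLocalization.algEquiv (⊥ : Ideal A0).primeCompl K0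
      (Localization.AtPrime (⊥ : Ideal A0))).restrictScalars k)
  obtain ⟨g, hg, hsm⟩ := Algebra.IsSmoothAt.exists_notMem_smooth k (⊥ : Ideal A0)
  have hg0 : g ≠ 0 := by simpa using hg
  have hu : IsUnit (A0.val g) := IsUnit.mk0 _ fun h => hg0 (hinj (by simpa using h))
  let ψ : Localization.Away g →ₐ[k] K := IsLocalization.Away.liftAlgHom g hu
  have hψ : Function.Injective ψ := by
    rw [injective_iff_map_eq_zero]
    intro x hx
    obtain ⟨⟨a, t⟩, ht⟩ := IsLocalization.surj (Submonoid.powers g) x
    have h0 := congrArg ψ ht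
    rw [map_mul, hx, zero_mul] at h0
    have : a = 0 := hinj (by simpa [ψ] using h0.symm)
    rw [this, map_zero] at ht
    exact (IsLocalization.map_units (Localization.Away g) t).mul_left_eq_zero.mp ht
  refine ⟨ψ.range, fun e he => ⟨algebraMap A0 _ ⟨e, Algebra.subset_adjoin he⟩, ?_⟩, ?_⟩
  · simp [ψ]
  · exact Algebra.Smooth.of_equiv (AlgEquiv.ofInjective ψ hψ)

end Groth.Agent.S9431
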