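import Groth.Statements.S9433
import Groth.Agent.S9428
import Mathlib.RingTheory.Unramified.LocalStructure
import Mathlib.Algebra.Polynomial.Identities
import Mathlib.Tactic.LinearCombination
-- import your own Groth.Agent.* helpers here

set_option autoImplicit false
universe u
open CAlg

namespace Groth.Agent.S9433

/-- Let R → S be a local homomorphism of local rings with S the localization of an étale R-algebra at a
prime, inducing an isomorphism of residue fields. Then for some t in the maximal ideal of R the maps
R/t^nR → S/t^nS are bijective for all n ≥ 1. -/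
theorem result (R : Type u) [CommRing R] [IsLocalRing R] (T : Type u) [CommRing T] [Algebra R T]
    [Algebra.Etale R T] (q : Ideal T) [q.IsPrime] (S : Type u) [CommRing S] [IsLocalRing S]
    [Algebra T S] [IsLocalization.AtPrime S q] [Algebra R S] [IsScalarTower R T S]
    [IsLocalHom (algebraMap R S)]
    (hres : Function.Bijective (IsLocalRing.ResidueField.map (algebraMap R S))) :
    ∃ t ∈ IsLocalRing.maximalIdeal R, ∀ n : ℕ, 1 ≤ n →
      Function.Bijective (Ideal.quotientMap ((Ideal.span {t ^ n}).map (algebraMap R S))
        (algebraMap R S) Ideal.le_comap_map) := by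
  classical
  have hat : Algebra.IsEtaleAt R q := inferInstance
  obtain ⟨g, hg, hstd⟩ := Algebra.IsEtaleAt.exists_isStandardEtale (R := R) (Q := q)
  let P : StandardEtalePresentation R (Localization.Away g) :=
    hstd.nonempty_standardEtalePresentation.some
  have hgS : IsUnit (algebraMap T S g) := IsLocalization.map_units S (⟨g, hg⟩ : q.primeCompl)
  let _ : Algebra (Localization.Away g) S := (IsLocalization.Away.lift g hgS).toAlgebra
  have : IsScalarTower T (Localization.Away g) S :=
    IsScalarTower.of_algebraMap_eq fun x => (IsLocalization.Away.lift_eq g hgS x).symm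
  have : IsScalarTower R (Localization.Away g) S := IsScalarTower.of_algebraMap_eq fun r => by
    rw [IsScalarTower.algebraMap_apply R T S, IsScalarTower.algebraMap_apply R T (Localization.Away g),
      ← IsScalarTower.algebraMap_apply T (Localization.Away g) S]
  let y : S := algebraMap (Localization.Away g) S P.x
  have hy : P.HasMap y := P.hasMap.map (IsScalarTower.toAlgHom R (Localization.Away g) S)
  let ρ : R →+* IsLocalRing.ResidueField S := (IsLocalRing.residue S).comp (algebraMap R S)
  obtain ⟨a', ha'⟩ := hres.2 (IsLocalRing.residue S y)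
  obtain ⟨a, rfl⟩ := IsLocalRing.residue_surjective a'
  have ha : ρ a = IsLocalRing.residue S y := ha'
  have hρ : ∀ p : Polynomial R, ρ (p.eval a) = IsLocalRing.residue S (Polynomial.aeval y p) := fun p => by
    rw [← Polynomial.eval₂_at_apply, ha, Polynomial.aeval_def, Polynomial.hom_eval₂]
  have hunit : ∀ r : R, ρ r ≠ 0 → IsUnit r := fun r hr => by
    by_contra h
    refine hr ?_
    have : IsLocalRing.residue R r = 0 := by rwa [IsLocalRing.residue_eq_zero_iff]
    exact (congrArg (IsLocalRing.ResidueField.map (algebraMap R S)) this).trans (map_zero _)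
  let t := P.f.eval a
  have ht : t ∈ IsLocalRing.maximalIdeal R := fun hu => by
    refine (hu.map ρ).ne_zero ?_
    rw [hρ, hy.1, map_zero]
  refine ⟨t, ht, ?_⟩
  have hd : IsUnit (P.f.derivative.eval a) := hunit _ (by
    rw [hρ]; exact ((hy.isUnit_derivative_f).map (IsLocalRing.residue S)).ne_zero)
  have hga : IsUnit (P.g.eval a) := hunit _ (by
    rw [hρ]; exact (hy.2.map (IsLocalRing.residue S)).ne_zero)
  let I : Ideal R := Ideal.span {t}
  have haev : ∀ p : Polynomial R, Polynomial.aeval (Ideal.Quotient.mk I a) p =
      Ideal.Quotient.mk I (p.eval a) := fun p =>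
    Polynomial.aeval_algebraMap_apply_eq_algebraMap_eval a p
  have hmap : P.HasMap (Ideal.Quotient.mk I a) := ⟨by
    rw [haev]; exact Ideal.Quotient.eq_zero_iff_mem.mpr (Ideal.mem_span_singleton_self t), by
    rw [haev]; exact hga.map _⟩
  let σ₀ : Localization.Away g →ₐ[R] R ⧸ I := (P.P.lift _ hmap).comp P.equivRing.toAlgHom
  have hσ₀x : σ₀ P.x = Ideal.Quotient.mk I a := by
    simp [σ₀]
  let ρI : R ⧸ I →ₐ[R] IsLocalRing.ResidueField S :=
    Ideal.Quotient.liftₐ I (Algebra.ofId R _) (by
      intro x hx
      obtain ⟨c, rfl⟩ := Ideal.mem_span_singleton'.mp hx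
      change ρ (c * t) = 0
      rw [map_mul, hρ, hy.1, map_zero, mul_zero])
  have hcomp : ρI.comp σ₀ = (IsScalarTower.toAlgHom R S (IsLocalRing.ResidueField S)).comp
      (IsScalarTower.toAlgHom R (Localization.Away g) S) := by
    apply P.hom_ext
    rw [AlgHom.comp_apply, hσ₀x]
    exact ha
  have hσu : ∀ u : q.primeCompl,
      IsUnit (σ₀.comp (IsScalarTower.toAlgHom R T (Localization.Away g)) u) := fun u => by
    obtain ⟨r, hr⟩ := Ideal.Quotient.mk_surjective (σ₀ (algebraMap T (Localization.Away g) u))
    change IsUnit (σ₀ (algebraMap T (Localization.Away g) u))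
    rw [← hr]
    refine (hunit r ?_).map _
    have h1 : ρ r = IsLocalRing.residue S
        (algebraMap (Localization.Away g) S (algebraMap T (Localization.Away g) u)) :=
      (congrArg ρI hr).trans (AlgHom.congr_fun hcomp _)
    rw [h1, ← IsScalarTower.algebraMap_apply T (Localization.Away g) S]
    exact ((IsLocalization.map_units S u).map (IsLocalRing.residue S)).ne_zero
  let σ : S →ₐ[R] R ⧸ I := IsLocalization.liftAlgHom (M := q.primeCompl) hσu
  have hσy : σ y = Ideal.Quotient.mk I a := by
    have : σ.comp (IsScalarTower.toAlgHom R (Localization.Away g) S) = σ₀ := by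
      refine IsLocalization.algHom_ext (Submonoid.powers g) (AlgHom.ext fun x => ?_)
      change σ (algebraMap (Localization.Away g) S (algebraMap T _ x)) = σ₀ (algebraMap T _ x)
      rw [← IsScalarTower.algebraMap_apply T (Localization.Away g) S]
      exact IsLocalization.lift_eq _ x
    exact (AlgHom.congr_fun this P.x).trans hσ₀x
  let J : Ideal S := I.map (algebraMap R S)
  let π : R ⧸ I →ₐ[R] S ⧸ J := Ideal.Quotient.liftₐ I (Algebra.ofId R _) (fun x hx => by
    change Ideal.Quotient.mk J (algebraMap R S x) = 0
    exact Ideal.Quotient.eq_zero_iff_mem.mpr (Ideal.mem_map_of_mem _ hx))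
  have hyJ : y - algebraMap R S a ∈ J := by
    let d := y - algebraMap R S a
    obtain ⟨k, hk⟩ := Polynomial.binomExpansion (P.f.map (algebraMap R S)) (algebraMap R S a) d
    have hu : IsUnit (algebraMap R S (P.f.derivative.eval a) + k * d) := by
      by_contra hnu
      have h1 : IsLocalRing.residue S d = 0 := by
        change IsLocalRing.residue S (y - algebraMap R S a) = 0
        rw [map_sub, show IsLocalRing.residue S (algebraMap R S a) = ρ a from rfl, ha, sub_self]
      have h2 : IsLocalRing.residue S (algebraMap R S (P.f.derivative.eval a) + k * d) = 0 := by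
        rwa [IsLocalRing.residue_eq_zero_iff]
      rw [map_add, map_mul, h1, mul_zero, add_zero] at h2
      exact ((hd.map (algebraMap R S)).map (IsLocalRing.residue S)).ne_zero h2
    rw [Polynomial.derivative_map, Polynomial.eval_map_algebraMap, Polynomial.eval_map_algebraMap,
      Polynomial.eval_map_algebraMap, show algebraMap R S a + d = y from by simp [d], hy.1,
      Polynomial.aeval_algebraMap_apply_eq_algebraMap_eval,
      Polynomial.aeval_algebraMap_apply_eq_algebraMap_eval] at hk
    have : (algebraMap R S (P.f.derivative.eval a) + k * d) * d ∈ J := by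
      rw [show (algebraMap R S (P.f.derivative.eval a) + k * d) * d = -algebraMap R S t by
        linear_combination -hk]
      exact neg_mem (Ideal.mem_map_of_mem _ (Ideal.mem_span_singleton_self t))
    exact (Ideal.unit_mul_mem_iff_mem J hu).mp this
  have hπσ : π.comp σ = Ideal.Quotient.mkₐ R J := by
    refine IsLocalization.algHom_ext q.primeCompl (AlgHom.ext fun x => ?_)
    have h2 : (π.comp σ).comp (IsScalarTower.toAlgHom R (Localization.Away g) S) =
        (Ideal.Quotient.mkₐ R J).comp (IsScalarTower.toAlgHom R (Localization.Away g) S) := by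
      apply P.hom_ext
      change π (σ y) = Ideal.Quotient.mk J y
      rw [hσy]
      exact (Ideal.Quotient.eq.mpr hyJ).symm
    have h3 := AlgHom.congr_fun h2 (algebraMap T (Localization.Away g) x)
    simp only [AlgHom.comp_apply, IsScalarTower.coe_toAlgHom',
      ← IsScalarTower.algebraMap_apply T (Localization.Away g) S] at h3
    exact h3
  have hsurj : Function.Surjective (algebraMap R (S ⧸ J)) := fun z => by
    obtain ⟨s, rfl⟩ := Ideal.Quotient.mk_surjective z
    obtain ⟨r, hr⟩ := Ideal.Quotient.mk_surjective (σ s)
    exact ⟨r, (congrArg π hr).trans (AlgHom.congr_fun hπσ s)⟩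
  have hcomap : I = J.comap (algebraMap R S) := by
    refine le_antisymm Ideal.le_comap_map fun r hr => ?_
    have hle : J ≤ RingHom.ker σ.toRingHom := Ideal.map_le_iff_le_comap.mpr fun x hx => by
      change σ (algebraMap R S x) = 0
      rw [AlgHom.commutes]; exact Ideal.Quotient.eq_zero_iff_mem.mpr hx
    have : σ (algebraMap R S r) = 0 := hle hr
    rw [AlgHom.commutes] at this
    exact Ideal.Quotient.eq_zero_iff_mem.mp this
  have : Algebra.FormallyEtale T S := Algebra.FormallyEtale.of_isLocalization q.primeCompl
  have : Algebra.FormallyEtale R S := Algebra.FormallyEtale.comp R T S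
  intro n _
  have key := S9428.quotientMap_bijective hsurj hcomap n
    (hcomap ▸ Ideal.le_comap_pow (algebraMap R S) n)
  let e₁ : R ⧸ Ideal.span {t ^ n} ≃+* R ⧸ I ^ n :=
    Ideal.quotEquivOfEq (Ideal.span_singleton_pow t n).symm
  let e₂ : S ⧸ J ^ n ≃+* S ⧸ (Ideal.span {t ^ n}).map (algebraMap R S) :=
    Ideal.quotEquivOfEq (by rw [← Ideal.map_pow, Ideal.span_singleton_pow])
  convert! (e₂.bijective.comp (key.comp e₁.bijective)) using 1
  funext z
  obtain ⟨z, rfl⟩ := Ideal.Quotient.mk_surjective z
  rfl

end Groth.Agent.S9433
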