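import Groth.Statements.S9434
import Groth.Agent.CAlg48.SplitCover

set_option autoImplicit false
universe u
open CAlg

namespace Groth.Agent.S9434

/-- Let R → S be a local homomorphism of local rings with S the localization of an étale R-algebra at a
prime. Then there is a finite, finitely presented, faithfully flat R-algebra S' such that for every
maximal ideal m' of S' the structure map R → S'_{m'} factors through some R-algebra map S → S'_{m'}. -/
theorem result (R : Type u) [CommRing R] [IsLocalRing R] (T : Type u) [CommRing T] [Algebra R T]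
    [Algebra.Etale R T] (q : Ideal T) [q.IsPrime] (S : Type u) [CommRing S] [IsLocalRing S]
    [Algebra T S] [IsLocalization.AtPrime S q] [Algebra R S] [IsScalarTower R T S]
    [IsLocalHom (algebraMap R S)] :
    ∃ (S' : Type u) (_ : CommRing S') (_ : Algebra R S'),
      Module.Finite R S' ∧ Algebra.FinitePresentation R S' ∧ Module.FaithfullyFlat R S' ∧
        ∀ (m' : Ideal S') [m'.IsMaximal], Nonempty (S →ₐ[R] Localization.AtPrime m') := by
  classical
  obtain ⟨g, hg, hgs⟩ := Algebra.IsEtaleAt.exists_isStandardEtale (R := R) q
  obtain ⟨P⟩ := hgs.nonempty_standardEtalePresentation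
  obtain ⟨S', _, _, _, _, _, hsplit⟩ := CAlg48.SplitCover.exists_splits_finset {P.f} (by simp [P.monic_f])
  have := Module.finitePresentation_of_projective R S'
  refine ⟨S', inferInstance, inferInstance, inferInstance, inferInstance, inferInstance, fun m' _ => ?_⟩
  set Tg := Localization.Away g
  have hdisj : Disjoint (Submonoid.powers g : Set T) q :=
    (Ideal.disjoint_powers_iff_notMem_of_isPrime _).mpr hg
  haveI : (q.map (algebraMap T Tg)).IsPrime :=
    IsLocalization.isPrime_of_isPrime_disjoint (Submonoid.powers g) _ _ ‹_› hdisj
  have hcq : (q.map (algebraMap T Tg)).under T = q :=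
    IsLocalization.under_map_of_isPrime_disjoint (Submonoid.powers g) _ ‹_› hdisj
  have hqR : q.under R = IsLocalRing.maximalIdeal R := by
    rw [← IsLocalization.AtPrime.under_maximalIdeal S q, Ideal.under_under]
    exact IsLocalRing.maximalIdeal_comap (algebraMap R S)
  have hmR : m'.under R = IsLocalRing.maximalIdeal R :=
    IsLocalRing.eq_maximalIdeal (Ideal.IsMaximal.under R m')
  obtain ⟨g', hg', φ, hφ⟩ := CAlg48.SplitCover.exists_hom P (hsplit P.f (Finset.mem_singleton_self _))
    (q.map (algebraMap T Tg)) m' (by rw [← Ideal.under_under (B := T) (q.map (algebraMap T Tg)), hcq, hqR, hmR])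
  let ρ : Localization.Away g' →ₐ[R] Localization.AtPrime m' :=
    ⟨IsLocalization.Away.lift g' (IsLocalization.map_units (Localization.AtPrime m') (⟨g', hg'⟩ : m'.primeCompl)),
      fun r => by
        show IsLocalization.Away.lift g' _ (algebraMap R (Localization.Away g') r) = _
        rw [IsScalarTower.algebraMap_apply R S' (Localization.Away g'), IsLocalization.Away.lift_eq,
          ← IsScalarTower.algebraMap_apply]⟩
  let θ : T →ₐ[R] Localization.AtPrime m' := (ρ.comp φ).comp (IsScalarTower.toAlgHom R T Tg)
  have hθ : ∀ y : q.primeCompl, IsUnit (θ y) := fun y => by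
    obtain ⟨⟨s, u⟩, hsu⟩ := IsLocalization.surj (Submonoid.powers g') (φ (algebraMap T Tg y))
    have hs : s ∉ m' := fun hmem => y.2 (hcq.le ?_)
    · have h1 := congrArg ρ hsu
      have h2 : ∀ x : S', ρ (algebraMap S' (Localization.Away g') x) = algebraMap S' (Localization.AtPrime m') x := fun x =>
        IsLocalization.Away.lift_eq g' (IsLocalization.map_units (Localization.AtPrime m') (⟨g', hg'⟩ : m'.primeCompl)) x
      rw [map_mul, h2, h2] at h1
      have h3 := IsLocalization.map_units (Localization.AtPrime m') (⟨s, hs⟩ : m'.primeCompl)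
      rw [← h1] at h3
      exact isUnit_of_mul_isUnit_left h3
    · show algebraMap T Tg y ∈ q.map (algebraMap T Tg)
      rw [← hφ, Ideal.mem_comap]
      have h1 := Ideal.mem_map_of_mem (algebraMap S' (Localization.Away g')) hmem
      rw [← hsu] at h1
      exact (Ideal.IsPrime.mem_or_mem (by
        refine IsLocalization.isPrime_of_isPrime_disjoint (Submonoid.powers g') _ _ inferInstance ?_
        exact (Ideal.disjoint_powers_iff_notMem_of_isPrime _).mpr hg') h1).resolve_right fun h2 =>
          (Ideal.IsPrime.ne_top (IsLocalization.isPrime_of_isPrime_disjoint (Submonoid.powers g') _ _ (inferInstance : m'.IsPrime)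
            ((Ideal.disjoint_powers_iff_notMem_of_isPrime _).mpr hg')))
            (Ideal.eq_top_of_isUnit_mem _ h2 (IsLocalization.map_units _ u))
  exact ⟨IsLocalization.liftAlgHom hθ⟩

end Groth.Agent.S9434
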