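import Groth.Statements.S9436
import Mathlib.RingTheory.Smooth.StandardSmoothOfFree
-- import your own Groth.Agent.* helpers here

set_option autoImplicit false
universe u
open CAlg

namespace Groth.Agent.S9436

open TensorProduct in
/-- Étale algebras lift along surjections: for an ideal I of R and an étale (R/I)-algebra S̄ there is an
étale R-algebra S with (R/I) ⊗_R S ≅ S̄ over R/I. -/
theorem result (R : Type u) [CommRing R] (I : Ideal R) (Sb : Type u)
    [CommRing Sb] [Algebra (R ⧸ I) Sb] [Algebra.Etale (R ⧸ I) Sb] :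
    ∃ (S : Type u) (_ : CommRing S) (_ : Algebra R S), Algebra.Etale R S ∧
      Nonempty (((R ⧸ I) ⊗[R] S) ≃ₐ[R ⧸ I] Sb) := by
  classical
  obtain ⟨ι, σ, _, _, P, hdim⟩ := (Algebra.Etale.iff_isStandardSmoothOfRelativeDimension_zero.mp
    (inferInstance : Algebra.Etale (R ⧸ I) Sb)).out
  cases nonempty_fintype σ
  cases nonempty_fintype ι
  have hbij : Function.Bijective P.map := by
    refine (Fintype.bijective_iff_injective_and_card _).mpr ⟨P.map_inj, ?_⟩
    have h1 := P.toPreSubmersivePresentation.card_relations_le_card_vars_of_isFinite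
    simp only [Algebra.Presentation.dimension, Nat.card_eq_fintype_card] at hdim h1
    omega
  have hlift : ∀ j : σ, ∃ F : MvPolynomial ι R,
      MvPolynomial.map (Ideal.Quotient.mk I) F = P.relation j :=
    fun j => MvPolynomial.map_surjective _ Ideal.Quotient.mk_surjective _
  choose F hF using hlift
  let S₁ := MvPolynomial ι R ⧸ Ideal.span (Set.range F)
  let P₁ : Algebra.PreSubmersivePresentation R S₁ ι σ :=
    Algebra.PreSubmersivePresentation.naive P.map P.map_inj
  let J : MvPolynomial ι R :=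
    (Matrix.of fun i j : σ => MvPolynomial.pderiv (P.map i) (F j)).det
  let j₁ : S₁ := Ideal.Quotient.mk _ J
  have hP₁ : P₁.jacobian = j₁ := by
    rw [P₁.jacobian_eq_jacobiMatrix_det]
    change Ideal.Quotient.mk _ _ = Ideal.Quotient.mk _ J
    congr 2
    ext i j : 1
    exact Algebra.PreSubmersivePresentation.jacobiMatrix_apply P₁ i j
  let S := Localization.Away j₁
  let C := (Algebra.PreSubmersivePresentation.localizationAway S j₁).comp P₁
  let C' : Algebra.SubmersivePresentation R S _ _ :=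
    { C with
      jacobian_isUnit := by
        change IsUnit C.jacobian
        rw [Algebra.PreSubmersivePresentation.comp_jacobian_eq_jacobian_smul_jacobian,
          Algebra.PreSubmersivePresentation.localizationAway_jacobian, hP₁, Algebra.smul_def]
        exact (IsLocalization.Away.algebraMap_isUnit j₁).mul
          (IsLocalization.Away.algebraMap_isUnit j₁) }
  have hC : C'.dimension = 0 := by
    change Nat.card (Unit ⊕ ι) - Nat.card (Unit ⊕ σ) = 0
    simp [Nat.card_eq_fintype_card, Fintype.card_of_bijective hbij]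
  have : Algebra.Etale R S := Algebra.Etale.iff_isStandardSmoothOfRelativeDimension_zero.mpr
    (C'.isStandardSmoothOfRelativeDimension hC)
  refine ⟨S, inferInstance, inferInstance, this, ?_⟩
  let _ : Algebra R Sb := ((algebraMap (R ⧸ I) Sb).comp (Ideal.Quotient.mk I)).toAlgebra
  have : IsScalarTower R (R ⧸ I) Sb := IsScalarTower.of_algebraMap_eq' rfl
  have heval : ∀ q : MvPolynomial ι R, MvPolynomial.aeval P.val q =
      MvPolynomial.aeval P.val (MvPolynomial.map (Ideal.Quotient.mk I) q) := fun q =>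
    (MvPolynomial.aeval_map_algebraMap (R ⧸ I) P.val q).symm
  let ψ₁ : S₁ →ₐ[R] Sb := Ideal.Quotient.liftₐ _ (MvPolynomial.aeval P.val) (by
    change Ideal.span (Set.range F) ≤ RingHom.ker (MvPolynomial.aeval P.val)
    rw [Ideal.span_le]
    rintro _ ⟨j, rfl⟩
    change MvPolynomial.aeval P.val (F j) = 0
    rw [heval, hF]
    exact P.aeval_val_relation j)
  have hψj : IsUnit (ψ₁ j₁) := by
    have : ψ₁ j₁ = P.jacobian := by
      rw [P.jacobian_eq_jacobiMatrix_det]
      change MvPolynomial.aeval P.val J = _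
      rw [heval, P.toGenerators.algebraMap_eq, RingHom.map_det]
      change MvPolynomial.aeval P.val _ = MvPolynomial.aeval P.val _
      congr 2
      ext i j : 1
      simp [Algebra.PreSubmersivePresentation.jacobiMatrix_apply, ← MvPolynomial.pderiv_map, hF]
    rw [this]
    exact P.jacobian_isUnit
  let ψ : S →ₐ[R] Sb := IsLocalization.Away.liftAlgHom j₁ hψj
  let Φ : (R ⧸ I) ⊗[R] S →ₐ[R ⧸ I] Sb :=
    Algebra.TensorProduct.lift (Algebra.ofId _ _) ψ fun _ _ => Commute.all _ _
  let xS : ι → S := fun i => algebraMap S₁ S (Ideal.Quotient.mk _ (MvPolynomial.X i))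
  have hxS : ∀ q : MvPolynomial ι R,
      MvPolynomial.aeval xS q = algebraMap S₁ S (Ideal.Quotient.mk _ q) := fun q => by
    have : MvPolynomial.aeval xS = (IsScalarTower.toAlgHom R S₁ S).comp (Ideal.Quotient.mkₐ R _) :=
      MvPolynomial.algHom_ext fun i => by
        rw [MvPolynomial.aeval_X]; rfl
    rw [this]; rfl
  let θ : MvPolynomial ι (R ⧸ I) →ₐ[R ⧸ I] (R ⧸ I) ⊗[R] S :=
    MvPolynomial.aeval fun i => 1 ⊗ₜ[R] xS i
  have hθ : RingHom.ker (MvPolynomial.aeval P.val).toRingHom ≤ RingHom.ker θ.toRingHom := by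
    have hk : RingHom.ker (MvPolynomial.aeval P.val).toRingHom = P.ker :=
      P.toGenerators.ker_eq_ker_aeval_val.symm
    rw [hk, ← P.span_range_relation_eq_ker, Ideal.span_le]
    rintro _ ⟨j, rfl⟩
    change θ (P.relation j) = 0
    rw [← hF]
    have : MvPolynomial.aeval (R := R) (fun i => (1 : R ⧸ I) ⊗ₜ[R] xS i) =
        Algebra.TensorProduct.includeRight.comp (MvPolynomial.aeval xS) :=
      MvPolynomial.algHom_ext fun i => by simp
    change MvPolynomial.aeval _ (MvPolynomial.map (algebraMap R (R ⧸ I)) (F j)) = 0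
    rw [MvPolynomial.aeval_map_algebraMap, this, AlgHom.comp_apply, hxS,
      Ideal.Quotient.eq_zero_iff_mem.mpr (Ideal.subset_span (Set.mem_range_self j))]
    simp
  let Ψ : Sb →ₐ[R ⧸ I] (R ⧸ I) ⊗[R] S :=
    AlgHom.liftOfSurjective (MvPolynomial.aeval P.val)
      (fun x => ⟨P.σ x, P.aeval_val_σ x⟩) θ hθ
  have hΦx : ∀ i, Φ (1 ⊗ₜ[R] xS i) = P.val i := fun i => by
    simp [Φ, ψ, xS, ψ₁]
    exact MvPolynomial.aeval_X _ i
  have hΨx : ∀ i, Ψ (P.val i) = 1 ⊗ₜ[R] xS i := fun i => by
    have := AlgHom.liftOfSurjective_apply (MvPolynomial.aeval P.val)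
      (fun x => ⟨P.σ x, P.aeval_val_σ x⟩) θ hθ (MvPolynomial.X i)
    simpa [Ψ, θ] using this
  refine ⟨AlgEquiv.ofAlgHom Φ Ψ ?_ ?_⟩
  · have : (Φ.comp Ψ).comp (MvPolynomial.aeval P.val) = MvPolynomial.aeval P.val :=
      MvPolynomial.algHom_ext fun i => by simp [hΨx, hΦx]
    refine AlgHom.ext fun x => ?_
    rw [← P.aeval_val_σ x]
    exact AlgHom.congr_fun this _
  · refine Algebra.TensorProduct.ext' fun r x => ?_
    have hgen : ((Ψ.comp Φ).restrictScalars R).comp Algebra.TensorProduct.includeRight =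
        (Algebra.TensorProduct.includeRight : S →ₐ[R] (R ⧸ I) ⊗[R] S) := by
      refine IsLocalization.algHom_ext (Submonoid.powers j₁) ?_
      refine Ideal.Quotient.algHom_ext _ (MvPolynomial.algHom_ext fun i => ?_)
      change Ψ (Φ (1 ⊗ₜ[R] xS i)) = 1 ⊗ₜ[R] xS i
      rw [hΦx, hΨx]
    have h1 : r ⊗ₜ[R] x = algebraMap (R ⧸ I) ((R ⧸ I) ⊗[R] S) r * (1 ⊗ₜ[R] x) := by simp
    rw [h1, map_mul, map_mul, AlgHom.commutes, AlgHom.commutes]
    congr 1
    exact AlgHom.congr_fun hgen x

end Groth.Agent.S9436
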