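import Groth.Statements.S9437
import Groth.Agent.CAlg48.FFDescent
import Groth.Agent.EGA4Lib.SkFlat

set_option autoImplicit false
universe u
open CAlg

namespace Groth.Agent.S9437

/-- Serre's condition (S_k) descends along faithfully flat ring maps: if S is faithfully flat over R,
Noetherian and (S_k), then R is Noetherian and (S_k). -/
theorem result (k : ℕ) (R : Type u) [CommRing R] (S : Type u) [CommRing S]
    [Algebra R S] [Module.FaithfullyFlat R S] [IsNoetherianRing S] (hS : LocCoh.HasSk k S S) :
    IsNoetherianRing R ∧ LocCoh.HasSk k R R := by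
  haveI := CAlg48.FFDescent.isNoetherianRing R S
  refine ⟨inferInstance, fun p _ => ?_⟩
  obtain ⟨q, hq, hqp, hmin⟩ := CAlg48.FFDescent.exists_minimal_over S p
  subst hqp
  haveI : Nontrivial (LocalizedModule q.primeCompl S) := inferInstanceAs (Nontrivial (Localization.AtPrime q))
  haveI : Nontrivial (LocalizedModule (q.comap (algebraMap R S)).primeCompl R) :=
    inferInstanceAs (Nontrivial (Localization.AtPrime (q.comap (algebraMap R S))))
  obtain ⟨h0, h0'⟩ := EGA4Lib.stalkFib_eq_zero R q S fun q' hle _ h => hmin q'.asIdeal q'.2 hle h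
  obtain ⟨hd, hs⟩ := EGA4Lib.depth_supportDim_stalk R q R S
  have hs' := hs inferInstance inferInstance
  rw [h0', add_zero] at hd
  rw [h0, add_zero] at hs'
  let e0 : TensorProduct R S R ≃ₗ[S] S := TensorProduct.AlgebraTensorModule.rid R S S
  let e : LocalizedModule q.primeCompl (TensorProduct R S R) ≃ₗ[Localization.AtPrime q]
      LocalizedModule q.primeCompl S :=
    IsLocalizedModule.mapEquiv q.primeCompl (LocalizedModule.mkLinearMap q.primeCompl (TensorProduct R S R))
      (LocalizedModule.mkLinearMap q.primeCompl S) (Localization.AtPrime q) e0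
  obtain ⟨he, he'⟩ := EGA4Lib.depth_supportDim_congr (L := Localization.AtPrime q)
    (X := LocalizedModule q.primeCompl (TensorProduct R S R)) (Y := LocalizedModule q.primeCompl S) e
  rw [← hd, ← hs', he, he']
  exact hS q

end Groth.Agent.S9437
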