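import Groth.Statements.S9438
import Groth.Agent.CAlg48.FFDescent
import Groth.Agent.EGA4Lib.RkFlat

set_option autoImplicit false
universe u
open CAlg

namespace Groth.Agent.S9438

/-- The condition (R_k) descends along faithfully flat ring maps: if S is faithfully flat over R,
Noetherian and (R_k), then R is Noetherian and (R_k). -/
theorem result (k : ℕ) (R : Type u) [CommRing R] (S : Type u) [CommRing S]
    [Algebra R S] [Module.FaithfullyFlat R S] [IsNoetherianRing S] (hS : LocCoh.HasRk k S) :
    IsNoetherianRing R ∧ LocCoh.HasRk k R := by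
  haveI := CAlg48.FFDescent.isNoetherianRing R S
  refine ⟨inferInstance, fun p _ hp => ?_⟩
  obtain ⟨q, hq, hqp, -⟩ := CAlg48.FFDescent.exists_minimal_over S p
  have h1 : EGA4.HasRkAt k S q := (EGA4Lib.hasRkAt_iff k q).2 fun q' _ h => hS q'.asIdeal h
  have h2 := EGA4Lib.hasRkAt_descent (A := R) k q h1
  rw [EGA4Lib.hasRkAt_iff] at h2
  exact h2 ⟨p, inferInstance⟩ hqp.ge hp

end Groth.Agent.S9438
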