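import Groth.Statements.S9439
import Groth.Agent.RegLoc.Completion
import Groth.Agent.EGA4Lib.RkFlat
import Mathlib

set_option autoImplicit false
universe u
open CAlg

namespace Groth.Agent.S9439

/-- Let R be a Noetherian local ring, R^ its completion and p a prime with R_p a discrete valuation ring
and with R^/pR^ reduced (p analytically unramified: the completion of R/p, which is R^/pR^, is
reduced). Then the localization of R^ at any associated prime of R^/pR^ is a discrete valuation
ring. -/
theorem result
    (R : Type u) [CommRing R] [IsLocalRing R] [IsNoetherianRing R] (p : Ideal R) [p.IsPrime]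
    [IsDomain (Localization.AtPrime p)] [IsDiscreteValuationRing (Localization.AtPrime p)]
    (hp : IsReduced (AdicCompletion (IsLocalRing.maximalIdeal R) R ⧸
      p.map (algebraMap R (AdicCompletion (IsLocalRing.maximalIdeal R) R))))
    (q : Ideal (AdicCompletion (IsLocalRing.maximalIdeal R) R)) [q.IsPrime]
    (hq : q ∈ associatedPrimes (AdicCompletion (IsLocalRing.maximalIdeal R) R)
      (AdicCompletion (IsLocalRing.maximalIdeal R) R ⧸
        p.map (algebraMap R (AdicCompletion (IsLocalRing.maximalIdeal R) R)))) :
    ∃ _ : IsDomain (Localization.AtPrime q), IsDiscreteValuationRing (Localization.AtPrime q) := by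
  classical
  let R' := AdicCompletion (IsLocalRing.maximalIdeal R) R
  haveI := RegLoc.Completion.isNoetherianRing_adicCompletion' (IsLocalRing.maximalIdeal R)
  let J : Ideal R' := p.map (algebraMap R R')
  haveI : IsReduced (R' ⧸ J) := hp
  have hJrad : J.IsRadical := (Ideal.isRadical_iff_quotient_reduced J).mpr hp
  have hfinm : J.minimalPrimes.Finite := Ideal.finite_minimalPrimes_of_isNoetherianRing R' J
  have hJinf : J = sInf J.minimalPrimes := by rw [Ideal.sInf_minimalPrimes, hJrad.radical]
  -- associated primes of a radical ideal are minimal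
  have hmin : q ∈ J.minimalPrimes := by
    have hA : IsAssociatedPrime q (R' ⧸ J) := hq
    obtain ⟨hqp, x, hx⟩ := isAssociatedPrime_iff.mp hA
    obtain ⟨y, rfl⟩ := Ideal.Quotient.mk_surjective x
    have hmem : ∀ a, a ∈ q ↔ a * y ∈ J := fun a => by
      rw [hx, Submodule.mem_colon_singleton, Submodule.mem_bot]
      exact Ideal.Quotient.eq_zero_iff_mem (I := J) (a := a * y)
    have hy : y ∉ J := fun h => hqp.ne_top (Ideal.eq_top_iff_one q |>.mpr ((hmem 1).mpr (by rwa [one_mul])))
    rw [hJinf, Submodule.mem_sInf] at hy
    push Not at hy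
    obtain ⟨r, hr, hyr⟩ := hy
    have hrp : Ideal.IsPrime r := hr.1.1
    have hle : q ≤ r := fun a ha => (hrp.mem_or_mem (hr.1.2 ((hmem a).mp ha))).resolve_right hyr
    have hJq : J ≤ q := fun a ha => (hmem a).mpr (J.mul_mem_right y ha)
    have : q = r := le_antisymm hle (hr.2 ⟨hqp, hJq⟩ hle)
    exact this ▸ hr
  -- it lies over `p`
  have hqp : q.comap (algebraMap R R') = p := by
    refine le_antisymm ?_ (Ideal.map_le_iff_le_comap.1 hmin.1.2)
    obtain ⟨r, hr, hrq⟩ := Ideal.exists_ideal_le_liesOver_of_le (S := R') (p := p) (q := q.comap (algebraMap R R')) q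
      (Ideal.map_le_iff_le_comap.1 hmin.1.2)
    have h1 : q ≤ r := hmin.2 ⟨hrq.1, Ideal.map_le_iff_le_comap.2 hrq.2.over.le⟩ hr
    exact (Ideal.comap_mono h1).trans hrq.2.over.ge
  letI : Algebra (Localization.AtPrime p) (Localization.AtPrime q) :=
    (Localization.localRingHom p q (algebraMap R R') hqp.symm).toAlgebra
  haveI : IsLocalHom (algebraMap (Localization.AtPrime p) (Localization.AtPrime q)) :=
    Localization.isLocalHom_localRingHom _ _ _ hqp.symm
  haveI : Module.Flat (Localization.AtPrime p) (Localization.AtPrime q) :=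
    RingHom.flat_algebraMap_iff.1 (EGA4Lib.flat_localRingHom q p hqp.symm)
  have hm : (IsLocalRing.maximalIdeal (Localization.AtPrime p)).map
      (algebraMap (Localization.AtPrime p) (Localization.AtPrime q)) =
      IsLocalRing.maximalIdeal (Localization.AtPrime q) := by
    rw [← Localization.AtPrime.map_eq_maximalIdeal, Ideal.map_map,
      show (algebraMap (Localization.AtPrime p) (Localization.AtPrime q)).comp (algebraMap R _) =
        (algebraMap R' (Localization.AtPrime q)).comp (algebraMap R R') from RingHom.ext fun x => by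
          rw [RingHom.comp_apply, RingHom.algebraMap_toAlgebra, Localization.localRingHom_to_map]; rfl,
      ← Ideal.map_map, ← Localization.AtPrime.map_eq_maximalIdeal]
    refine le_antisymm (Ideal.map_mono hmin.1.2) ?_
    rw [Ideal.map_le_iff_le_comap]
    intro a ha
    -- some `s ∉ q` lies in all other minimal primes
    have : ¬ (hfinm.toFinset.erase q).inf id ≤ q := by
      intro hle
      obtain ⟨r, hr, hrq⟩ := (Ideal.IsPrime.inf_le' inferInstance).mp hle
      rw [Finset.mem_erase, Set.Finite.mem_toFinset] at hr
      exact hr.1 (le_antisymm hrq (hmin.2 hr.2.1 hrq))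
    obtain ⟨s, hs, hsq⟩ := SetLike.not_le_iff_exists.mp this
    rw [Submodule.mem_finsetInf] at hs
    have has : a * s ∈ J := by
      rw [hJinf, Submodule.mem_sInf]
      intro r hr
      by_cases h : r = q
      · subst h; exact Ideal.mul_mem_right s r ha
      · exact Ideal.mul_mem_left r a (hs r (Finset.mem_erase.mpr ⟨h, hfinm.mem_toFinset.mpr hr⟩))
    have h2 := Ideal.mem_map_of_mem (algebraMap R' (Localization.AtPrime q)) has
    rw [map_mul, mul_comm] at h2
    have hu := IsLocalization.map_units (Localization.AtPrime q) (⟨s, hsq⟩ : q.primeCompl)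
    exact (Ideal.unit_mul_mem_iff_mem _ hu).mp h2
  have hdim := RegLoc.Completion.ringKrullDim_eq_of_flat_of_map_eq (Localization.AtPrime p) (Localization.AtPrime q) hm
  obtain ⟨hreg, hd⟩ := (RegLoc.Completion.exists_isDiscreteValuationRing_iff (Localization.AtPrime p)).mp ⟨inferInstance, inferInstance⟩
  rw [hd] at hdim
  refine (RegLoc.Completion.exists_isDiscreteValuationRing_iff _).mpr ⟨?_, hdim⟩
  refine IsRegularLocalRing.of_spanFinrank_maximalIdeal_le _ ?_
  rw [hdim, ← hd, ← IsRegularLocalRing.spanFinrank_maximalIdeal (R := Localization.AtPrime p), ← hm]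
  exact_mod_cast Ideal.spanFinrank_map_le_of_fg _ (IsNoetherian.noetherian _)

end Groth.Agent.S9439
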