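import Groth.Statements.S9440
import Groth.Agent.Nagata.Criteria
-- import your own Groth.Agent.* helpers here

set_option autoImplicit false
universe u
open CAlg

namespace Groth.Agent.S9440

/-- (1) ⇔ (3): a Noetherian local ring R is a Nagata ring if and only if for every finite local
homomorphism R → S of local rings with S a domain, the completion of S is reduced. -/
theorem result (R : Type u) [CommRing R]
    [IsLocalRing R] [IsNoetherianRing R] :
    CAlg.IsNagata R ↔ ∀ (S : Type u) [CommRing S] [IsDomain S] [IsLocalRing S] [Algebra R S]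
      [IsLocalHom (algebraMap R S)] [Module.Finite R S],
      IsReduced (AdicCompletion (IsLocalRing.maximalIdeal S) S) := by
  refine ⟨fun hR S _ _ _ _ _ _ =>
    have : IsNoetherianRing S := IsNoetherianRing.of_finite R S
    Groth.Agent.Nagata.isReduced_completion_of_isNagata
    (Groth.Agent.Nagata.FiniteType.isNagata_of_finite R S hR), fun h => ⟨inferInstance, fun p _ => ?_⟩⟩
  refine Groth.Agent.Nagata.Criteria.isN2_of_forall_isN1 (R ⧸ p) ?_
  intro M _ _ _ _ _ _ B' q hq hfin _ hrad
  have : IsLocalRing (R ⧸ p) :=
    IsLocalRing.of_surjective' (Ideal.Quotient.mk p) Ideal.Quotient.mk_surjective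
  have : IsLocalRing B' := Groth.Agent.Nagata.Criteria.isLocalRing_of_radicial (B := R ⧸ p) hq fun z => by
    obtain ⟨b, hb⟩ := hrad _ z.2
    exact ⟨b, Subtype.ext hb⟩
  let _ : Algebra R B' := ((algebraMap (R ⧸ p) B').comp (Ideal.Quotient.mk p)).toAlgebra
  have : IsScalarTower R (R ⧸ p) B' := IsScalarTower.of_algebraMap_eq fun _ => rfl
  have : Module.Finite R B' := Module.Finite.trans (R ⧸ p) B'
  have : IsNoetherianRing B' := IsNoetherianRing.of_finite R B'
  have : IsLocalHom (algebraMap R B') :=
    ((IsLocalRing.local_hom_TFAE _).out 0 4).mpr (IsLocalRing.eq_maximalIdeal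
      (Ideal.isMaximal_comap_of_isIntegral_of_isMaximal (R := R) (IsLocalRing.maximalIdeal B')))
  have := h B'
  exact Groth.Agent.Nagata.isN1_of_isReduced_completion B' (FractionRing B')

end Groth.Agent.S9440
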