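import Groth.Statements.S9441
import Groth.Agent.Synt44.JacobianMinor

set_option autoImplicit false
universe u
open Synt

namespace Groth.Agent.S9441

/-- For a relative global complete intersection S = R[x_1, …, x_n]/(f_1, …, f_c) and a prime q of S, the
map R → S is smooth at q if and only if some c × c minor of the Jacobian matrix (∂f_j/∂x_i), taken
on c distinct variables, has image outside q. -/
theorem result (R : Type u) [CommRing R] (n c : ℕ)
    (F : Fin c → MvPolynomial (Fin n) R) (hF : Synt.IsRelGCI R n c F)
    (q : Ideal (Synt.RelGCIRing R n c F)) [q.IsPrime] :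
    Algebra.IsSmoothAt R q ↔ ∃ I : Fin c ↪ Fin n,
      Ideal.Quotient.mk (Ideal.span (Set.range F))
        (Matrix.det (Matrix.of fun j i => MvPolynomial.pderiv (I i) (F j))) ∉ q := by
  refine ⟨fun h => ?_, fun ⟨I, hI⟩ => Groth.Agent.Synt44.isSmoothAt_of_minor F q I hI⟩
  exact Groth.Agent.Synt44.exists_minor_notMem F hF q


end Groth.Agent.S9441
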