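import Groth.Statements.S9445
import Groth.Agent.S9428
-- import your own Groth.Agent.* helpers here

set_option autoImplicit false
universe u
open CAlg

namespace Groth.Agent.S9445

open TensorProduct in
/-- For ring maps R → S → S' with S → S' formally étale and k ≥ 0, let J' ⊆ S' ⊗_R S' be the kernel of
multiplication and I ⊆ S' ⊗_R S its preimage under the map induced by S → S' (I is the kernel of S'
⊗_R S → S', and (S' ⊗_R S)/I^{k+1} is S' ⊗_S P^k_{S/R}); then (S' ⊗_R S)/I^{k+1} → (S' ⊗_R
S')/J'^{k+1} is bijective. (The consequence S' ⊗_S Ω_{S/R} ≅ Ω_{S'/R} is Mathlib's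
KaehlerDifferential.isBaseChange_of_formallyEtale.) -/
theorem result (R : Type u) [CommRing R]
    (S : Type u) [CommRing S] [Algebra R S] (S' : Type u) [CommRing S'] [Algebra R S']
    [Algebra S S'] [IsScalarTower R S S'] [Algebra.FormallyEtale S S'] (k : ℕ) :
    Function.Bijective (Ideal.quotientMap (KaehlerDifferential.ideal R S' ^ (k + 1))
      (Algebra.TensorProduct.map (AlgHom.id S' S') (IsScalarTower.toAlgHom R S S')).toRingHom
      (Ideal.le_comap_pow
        (Algebra.TensorProduct.map (AlgHom.id S' S') (IsScalarTower.toAlgHom R S S')).toRingHom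
        (K := KaehlerDifferential.ideal R S') (k + 1))) := by
  let B := S' ⊗[R] S
  let T := S' ⊗[R] S'
  let f : B →ₐ[R] T :=
    Algebra.TensorProduct.map (AlgHom.id R S') (IsScalarTower.toAlgHom R S S')
  let _ : Algebra B T := f.toRingHom.toAlgebra
  have : IsScalarTower R B T := IsScalarTower.of_algebraMap_eq' f.comp_algebraMap.symm
  let inR : S →ₐ[R] B := Algebra.TensorProduct.includeRight
  let inL : S' →ₐ[R] B := Algebra.TensorProduct.includeLeft
  have hfL : ∀ x : S', algebraMap B T (inL x) = x ⊗ₜ[R] 1 := fun x => by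
    exact (Algebra.TensorProduct.map_tmul _ _ x (1 : S)).trans (by simp)
  have hfR : ∀ x : S, algebraMap B T (inR x) = 1 ⊗ₜ[R] algebraMap S S' x := fun x => by
    exact (Algebra.TensorProduct.map_tmul _ _ (1 : S') x).trans (by simp)
  have : Algebra.FormallyEtale B T := by
    rw [Algebra.FormallyEtale.iff_comp_bijective]
    intro C _ _ I hI
    let _ : Algebra S C := ((algebraMap B C).comp inR.toRingHom).toAlgebra
    let _ : Algebra R C := ((algebraMap B C).comp (algebraMap R B)).toAlgebra
    have : IsScalarTower R B C := IsScalarTower.of_algebraMap_eq' rfl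
    have : IsScalarTower R S C := IsScalarTower.of_algebraMap_eq fun r => by
      change algebraMap B C (algebraMap R B r) = algebraMap B C (inR (algebraMap R S r))
      rw [AlgHom.commutes]
    constructor
    · intro g₁ g₂ hg
      let r : (T →ₐ[B] C) → (S' →ₐ[S] C) := fun g =>
        { g.toRingHom.comp (Algebra.TensorProduct.includeRight : S' →ₐ[R] T).toRingHom with
          commutes' := fun x => by
            change g (1 ⊗ₜ[R] algebraMap S S' x) = algebraMap B C (inR x)
            rw [← hfR, AlgHom.commutes] }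
      have hr : r g₁ = r g₂ := Algebra.FormallyUnramified.ext I ⟨2, hI⟩ fun x =>
        AlgHom.congr_fun hg ((1 : S') ⊗ₜ[R] x)
      refine AlgHom.restrictScalars_injective R (Algebra.TensorProduct.ext' fun x y => ?_)
      have h1 : (x ⊗ₜ[R] y : T) = algebraMap B T (inL x) * (1 ⊗ₜ[R] y) := by
        rw [hfL]; simp [T]
      change g₁ (x ⊗ₜ[R] y) = g₂ (x ⊗ₜ[R] y)
      rw [h1, map_mul, map_mul, AlgHom.commutes, AlgHom.commutes]
      exact congrArg _ (AlgHom.congr_fun hr y)
    · intro φ
      let ψ : S' →ₐ[S] C ⧸ I :=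
        { φ.toRingHom.comp (Algebra.TensorProduct.includeRight : S' →ₐ[R] T).toRingHom with
          commutes' := fun x => by
            change φ (1 ⊗ₜ[R] algebraMap S S' x) =
              Ideal.Quotient.mk I (algebraMap B C (inR x))
            rw [← hfR, AlgHom.commutes]; rfl }
      obtain ⟨χ, hχ⟩ := Algebra.FormallySmooth.comp_surjective S S' I hI ψ
      let g : T →ₐ[R] C := Algebra.TensorProduct.lift ((IsScalarTower.toAlgHom R B C).comp inL)
        (χ.restrictScalars R) fun _ _ => Commute.all _ _
      have hg : ∀ b : B, g (algebraMap B T b) = algebraMap B C b :=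
        AlgHom.congr_fun (φ₁ := g.comp (IsScalarTower.toAlgHom R B T))
          (φ₂ := IsScalarTower.toAlgHom R B C) <| by
        refine Algebra.TensorProduct.ext' fun x y => ?_
        have h1 : (x ⊗ₜ[R] y : B) = inL x * inR y := by simp [inL, inR, B]
        change g (algebraMap B T (x ⊗ₜ[R] y)) = algebraMap B C (x ⊗ₜ[R] y)
        rw [h1, map_mul, map_mul, map_mul, hfL, hfR]
        refine congrArg₂ (· * ·) ((Algebra.TensorProduct.lift_tmul _ _ _ x (1 : S')).trans ?_)
          ((Algebra.TensorProduct.lift_tmul _ _ _ (1 : S') (algebraMap S S' y)).trans ?_)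
        · simp
        · simp only [AlgHom.restrictScalars_apply, AlgHom.commutes, map_one, one_mul]
          rfl
      let g' : T →ₐ[B] C := { g.toRingHom with commutes' := hg }
      refine ⟨g', AlgHom.restrictScalars_injective R (Algebra.TensorProduct.ext' fun x y => ?_)⟩
      have h1 : (x ⊗ₜ[R] y : T) = algebraMap B T (inL x) * (1 ⊗ₜ[R] y) := by
        rw [hfL]; simp [T]
      change (Ideal.Quotient.mkₐ B I).comp g' (x ⊗ₜ[R] y) = φ (x ⊗ₜ[R] y)
      rw [h1, map_mul, map_mul, AlgHom.commutes, AlgHom.commutes]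
      refine congrArg _ (((AlgHom.congr_fun hχ y).symm.trans ?_).symm)
      change Ideal.Quotient.mk I (χ y) = Ideal.Quotient.mk I (g (1 ⊗ₜ[R] y))
      rw [show g (1 ⊗ₜ[R] y) = _ from Algebra.TensorProduct.lift_tmul _ _ _ (1 : S') y]
      simp
  refine S9428.quotientMap_bijective (A := B) (T := T) ?_ rfl (k + 1) _
  intro t
  obtain ⟨t, rfl⟩ := Ideal.Quotient.mk_surjective t
  refine ⟨Algebra.TensorProduct.lmul' R (S := S') t ⊗ₜ[R] 1, Ideal.Quotient.eq.mpr ?_⟩
  change f _ - t ∈ RingHom.ker (Algebra.TensorProduct.lmul' R (S := S')).toRingHom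
  rw [RingHom.mem_ker, map_sub, show f (_ ⊗ₜ[R] (1 : S)) = _ from
    Algebra.TensorProduct.map_tmul _ _ (Algebra.TensorProduct.lmul' R (S := S') t) (1 : S)]
  rw [map_one, AlgHom.id_apply]
  change Algebra.TensorProduct.lmul' R (_ ⊗ₜ[R] (1 : S')) - _ = 0
  rw [Algebra.TensorProduct.lmul'_apply_tmul, mul_one]
  exact sub_self _

end Groth.Agent.S9445
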