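import Groth.Statements.S9446
-- import your own Groth.Agent.* helpers here

set_option autoImplicit false
universe u
open CAlg

namespace Groth.Agent.S9446

open TensorProduct

lemma flat_of_indSmooth {R S : Type u} [CommRing R] [CommRing S] [Algebra R S]
    (hS : Smoothing.IndSmooth R S) : Module.Flat R S := by
  classical
  rw [Module.Flat.iff_forall_isTrivialRelation]
  intro l f x h
  let r : MvPolynomial (Fin l) R := ∑ i, f i • MvPolynomial.X i
  let I : Ideal (MvPolynomial (Fin l) R) := Ideal.span {r}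
  let φ : (MvPolynomial (Fin l) R ⧸ I) →ₐ[R] S := Ideal.Quotient.liftₐ I (MvPolynomial.aeval x) (by
    change I ≤ RingHom.ker (MvPolynomial.aeval x)
    rw [Ideal.span_le, Set.singleton_subset_iff]
    simpa [r] using h)
  have hfp : Algebra.FinitePresentation R (MvPolynomial (Fin l) R ⧸ I) :=
    Algebra.FinitePresentation.quotient ⟨{r}, by simp [I]⟩
  obtain ⟨C, _, _, hC, g, k, hgk⟩ := hS _ hfp φ
  have hrel : ∑ i, f i • g (Ideal.Quotient.mk I (MvPolynomial.X i)) = 0 := by
    have : Ideal.Quotient.mkₐ R I r = 0 :=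
      Ideal.Quotient.eq_zero_iff_mem.mpr (Ideal.mem_span_singleton_self r)
    simpa [r, map_sum] using congrArg g this
  obtain ⟨m, a, y, hy, ha⟩ := Module.Flat.isTrivialRelation_of_sum_smul_eq_zero hrel
  refine ⟨m, a, k ∘ y, fun i => ?_, ha⟩
  have := congrArg k (hy i)
  rw [← AlgHom.comp_apply, hgk] at this
  calc x i = φ (Ideal.Quotient.mkₐ R I (MvPolynomial.X i)) :=
        (MvPolynomial.aeval_X x i).symm
    _ = _ := by simpa using this

/-- If S is ind-smooth over R (every R-algebra map into S from a finitely presented R-algebra factors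
through a smooth R-algebra) then for every R-algebra B the canonical map S ⊗_R A → A', from the base
change of the integral closure A of R in B to the integral closure A' of S in S ⊗_R B, is bijective. -/
theorem result (R : Type u) [CommRing R] (S : Type u)
    [CommRing S] [Algebra R S] (hS : Smoothing.IndSmooth R S) (B : Type u) [CommRing B]
    [Algebra R B] : Function.Bijective (TensorProduct.toIntegralClosure R S B) := by
  classical
  have := flat_of_indSmooth hS
  refine ⟨TensorProduct.toIntegralClosure_injective_of_flat, ?_⟩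
  rintro ⟨y, hy⟩
  let incl : (A : Type u) → [CommRing A] → [Algebra R A] →
      (A ⊗[R] integralClosure R B →ₐ[A] A ⊗[R] B) := fun A _ _ =>
    Algebra.TensorProduct.map (AlgHom.id A A) (integralClosure R B).val
  suffices H : ∃ x, incl S x = y by
    obtain ⟨x, hx⟩ := H
    exact ⟨x, Subtype.ext hx⟩
  obtain ⟨T, hT⟩ := TensorProduct.exists_finset y
  obtain ⟨p, hp, hpy⟩ := hy
  let P := MvPolynomial S R
  let φ : P →ₐ[R] S := MvPolynomial.aeval id
  have hφ : Function.Surjective φ := fun s => ⟨MvPolynomial.X s, MvPolynomial.aeval_X _ s⟩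
  have hlift : p ∈ Polynomial.lifts φ.toRingHom := by
    rw [Polynomial.lifts_iff_coeff_lifts]; exact fun n => hφ _
  obtain ⟨M, hM, -, hMmon⟩ := Polynomial.lifts_and_natDegree_eq_and_monic hlift hp
  let Y : P ⊗[R] B := ∑ i ∈ T, MvPolynomial.X i.1 ⊗ₜ[R] i.2
  let Fφ : P ⊗[R] B →ₐ[R] S ⊗[R] B := Algebra.TensorProduct.map φ (AlgHom.id R B)
  have hφX : ∀ s : S, φ (MvPolynomial.X s) = s := fun s => MvPolynomial.aeval_X _ s
  have hY : Fφ Y = y := by simp [Fφ, Y, map_sum, hT, hφX]
  have hE : Fφ (Polynomial.eval₂ Algebra.TensorProduct.includeLeftRingHom Y M) = 0 := by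
    rw [← AlgHom.coe_toRingHom, Polynomial.hom_eval₂]
    change Polynomial.eval₂ _ (Fφ Y) M = 0
    rw [hY, ← hpy, ← hM, Polynomial.eval₂_map]
    congr 1
  have hker : Polynomial.eval₂ Algebra.TensorProduct.includeLeftRingHom Y M ∈
      (RingHom.ker φ).map (Algebra.TensorProduct.includeLeft : P →ₐ[R] P ⊗[R] B) := by
    rw [← Algebra.TensorProduct.rTensor_ker φ hφ]; exact hE
  obtain ⟨K, hK, hEK⟩ := Submodule.mem_span_finite_of_mem_span hker
  choose! k hk hkeq using fun z (hz : z ∈ K) => hK hz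
  let V : Finset S := T.image Prod.fst ∪ K.biUnion fun z => (k z).vars
  let ρ : P →ₐ[R] MvPolynomial V R :=
    MvPolynomial.aeval fun s => if h : s ∈ V then MvPolynomial.X ⟨s, h⟩ else 0
  let θ : MvPolynomial V R →ₐ[R] S := MvPolynomial.aeval fun s => s.1
  have hρX : ∀ s (hs : s ∈ V), ρ (MvPolynomial.X s) = MvPolynomial.X ⟨s, hs⟩ := fun s hs =>
    (MvPolynomial.aeval_X _ s).trans (dif_pos hs)
  have hθρ : ∀ q : P, q.vars ⊆ V → θ (ρ q) = φ q := fun q hq =>
    MvPolynomial.hom_congr_vars (f₁ := (θ.comp ρ).toRingHom) (f₂ := φ.toRingHom)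
      (RingHom.ext fun r => by
        change θ (ρ (algebraMap R P r)) = φ (algebraMap R P r)
        simp only [AlgHom.commutes])
      (fun i hi _ => by
        change θ (ρ (MvPolynomial.X i)) = φ (MvPolynomial.X i)
        rw [hρX i (hq hi), hφX]
        exact MvPolynomial.aeval_X _ _) rfl
  let I : Ideal (MvPolynomial V R) := Ideal.span ↑(K.image fun z => ρ (k z))
  have hθI : I ≤ RingHom.ker θ := by
    rw [Ideal.span_le]
    intro w hw
    obtain ⟨z, hz, rfl⟩ := Finset.mem_image.mp hw
    change θ (ρ (k z)) = 0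
    rw [hθρ _ fun i hi => Finset.mem_union_right _ (Finset.mem_biUnion.mpr ⟨z, hz, hi⟩)]
    exact hk z hz
  have hfp : Algebra.FinitePresentation R (MvPolynomial V R ⧸ I) :=
    Algebra.FinitePresentation.quotient ⟨_, rfl⟩
  let χ := Ideal.Quotient.liftₐ I θ hθI
  let π : P →ₐ[R] MvPolynomial V R ⧸ I := (Ideal.Quotient.mkₐ R I).comp ρ
  obtain ⟨C, _, _, hC, g, h, hgh⟩ := hS _ hfp χ
  let G : P ⊗[R] B →ₐ[R] C ⊗[R] B := Algebra.TensorProduct.map (g.comp π) (AlgHom.id R B)
  have hG : G (Polynomial.eval₂ Algebra.TensorProduct.includeLeftRingHom Y M) = 0 := by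
    have hle : Submodule.span (P ⊗[R] B) (↑K : Set (P ⊗[R] B)) ≤ RingHom.ker G.toRingHom := by
      rw [Submodule.span_le]
      intro z hz
      change G z = 0
      have h0 : π (k z) = 0 := Ideal.Quotient.eq_zero_iff_mem.mpr
        (Ideal.subset_span (Finset.mem_image_of_mem _ hz))
      rw [← hkeq z hz]
      simp [G, h0]
    exact hle hEK
  have hint : IsIntegral C (G Y) := by
    refine ⟨M.map (g.comp π).toRingHom, hMmon.map _, ?_⟩
    rw [Polynomial.eval₂_map, ← hG, ← AlgHom.coe_toRingHom G, Polynomial.hom_eval₂]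
    congr 1
  obtain ⟨x, hx⟩ :=
    (TensorProduct.toIntegralClosure_bijective_of_smooth (R := R) (S := C) (B := B)).2 ⟨G Y, hint⟩
  have hx' : incl C x = G Y := congrArg Subtype.val hx
  refine ⟨Algebra.TensorProduct.map h (AlgHom.id R _) x, ?_⟩
  have hcomm : ((incl S).restrictScalars R).comp (Algebra.TensorProduct.map h (AlgHom.id R _)) =
      (Algebra.TensorProduct.map h (AlgHom.id R B)).comp ((incl C).restrictScalars R) := by
    apply Algebra.TensorProduct.ext <;> ext q <;> simp [incl]
  refine (AlgHom.congr_fun hcomm x).trans ?_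
  change Algebra.TensorProduct.map h (AlgHom.id R B) (incl C x) = y
  rw [hx', hT]
  simp only [Y, map_sum]
  refine Finset.sum_congr rfl fun i hi => ?_
  have hmem : i.1 ∈ V := Finset.mem_union_left _ (Finset.mem_image_of_mem _ hi)
  simp [G]
  rw [show h (g (π (MvPolynomial.X i.1))) = χ (π (MvPolynomial.X i.1)) from AlgHom.congr_fun hgh _]
  change χ (Ideal.Quotient.mk I (ρ (MvPolynomial.X i.1))) ⊗ₜ[R] i.2 = _
  rw [hρX _ hmem]
  congr 1
  exact MvPolynomial.aeval_X _ _

end Groth.Agent.S9446
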