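import Groth.Statements.S9447
import Groth.Agent.ProjDesc.Basic
import Mathlib

set_option autoImplicit false
universe u
open CAlg

namespace Groth.Agent.S9447

open TensorProduct in
/-- Formal smoothness descends along faithfully flat base change: for R → S arbitrary and R → R'
faithfully flat, the R-algebra S is formally smooth exactly when the R'-algebra R' ⊗_R S is formally
smooth. No finiteness hypothesis on S. -/
theorem result (R : Type u) [CommRing R]
    (S : Type u) [CommRing S] [Algebra R S] (R' : Type u) [CommRing R'] [Algebra R R']
    [Module.FaithfullyFlat R R'] :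
    Algebra.FormallySmooth R S ↔ Algebra.FormallySmooth R' (R' ⊗[R] S) := by
  constructor
  · intro h
    infer_instance
  intro h
  rw [Algebra.formallySmooth_iff]
  constructor
  · let _ : Algebra R' (S ⊗[R] R') := Algebra.TensorProduct.rightAlgebra
    let e : S ⊗[R] R' ≃ₐ[R'] R' ⊗[R] S :=
      .ofRingEquiv (f := Algebra.TensorProduct.comm R S R') <| by simp [RingHom.algebraMap_toAlgebra]
    have : Algebra.FormallySmooth R' (S ⊗[R] R') := .of_equiv e.symm
    have : Module.Projective (S ⊗[R] R') ((S ⊗[R] R') ⊗[S] Ω[S⁄R]) :=
      Module.Projective.of_equiv (KaehlerDifferential.tensorKaehlerEquiv R R' S (S ⊗[R] R')).symm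
    exact ProjDesc.projective_of_baseChange S (S ⊗[R] R') _
  · have : Subsingleton (R' ⊗[R] Algebra.H1Cotangent R S) :=
      (Algebra.tensorH1CotangentOfFlat R S R').subsingleton
    exact Module.FaithfullyFlat.lTensor_reflects_triviality R R' (Algebra.H1Cotangent R S)

end Groth.Agent.S9447
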