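import Groth.Statements.S9448
import Groth.Agent.Omega.EtaleCrit
import Groth.Agent.Omega.RegularSmooth

set_option autoImplicit false
universe u
open Unram

namespace Groth.Agent.S9448

/-- For a field k and a finite type algebra A over the polynomial ring k[x_1, …, x_n] (the variables
mapping to a_1, …, a_n), the structure map is étale if and only if (a) the local rings of A at all
maximal ideals have dimension n and (b) da_1, …, da_n generate the module of differentials of A over
k. -/
theorem result (k : Type u) [Field k] (n : ℕ)
    (A : Type u) [CommRing A] [Algebra k A] [Algebra (MvPolynomial (Fin n) k) A]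
    [IsScalarTower k (MvPolynomial (Fin n) k) A] [Algebra.FiniteType (MvPolynomial (Fin n) k) A] :
    Algebra.Etale (MvPolynomial (Fin n) k) A ↔
      (∀ (m : Ideal A) [m.IsMaximal], ringKrullDim (Localization.AtPrime m) = n) ∧
        Submodule.span A (Set.range fun i : Fin n =>
          KaehlerDifferential.D k A (algebraMap (MvPolynomial (Fin n) k) A (MvPolynomial.X i))) = ⊤ := by
  haveI : Algebra.FiniteType k A := Algebra.FiniteType.trans (S := MvPolynomial (Fin n) k) inferInstance inferInstance
  haveI : IsNoetherianRing A := Algebra.FiniteType.isNoetherianRing k A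
  haveI : Algebra.FinitePresentation (MvPolynomial (Fin n) k) A :=
    Algebra.FinitePresentation.of_finiteType.mp inferInstance
  haveI : IsJacobsonRing A := isJacobsonRing_of_finiteType (A := k)
  constructor
  · intro h
    haveI : Algebra.FormallySmooth k A := Algebra.FormallySmooth.comp k (MvPolynomial (Fin n) k) A
    have hb := KaehlerDifferential.isBaseChange_of_formallyEtale k (MvPolynomial (Fin n) k) A
    let b := ((KaehlerDifferential.mvPolynomialBasis k (Fin n)).baseChange A).map hb.equiv
    have hbv : ∀ i, b i = KaehlerDifferential.D k A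
        (algebraMap (MvPolynomial (Fin n) k) A (MvPolynomial.X i)) := fun i => by
      rw [Module.Basis.map_apply, Module.Basis.baseChange_apply, KaehlerDifferential.mvPolynomialBasis_apply,
        IsBaseChange.equiv_tmul, one_smul, KaehlerDifferential.map_D]
    refine ⟨fun m _ => ?_, ?_⟩
    · obtain ⟨p, hp, hpm⟩ := Ideal.exists_minimalPrimes_le (bot_le : (⊥ : Ideal A) ≤ m)
      haveI := hp.1.1
      haveI : Module.Projective A (KaehlerDifferential k A) := Module.Projective.of_basis b
      haveI : IsReduced A := Groth.Agent.Omega.RegularSmooth.isReduced_of_formallySmooth k A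
      haveI : IsReduced (Localization.AtPrime p) :=
        inferInstanceAs (IsReduced (Localization p.primeCompl))
      have hf := Groth.Agent.Omega.RankDim.isField_of_minimal p hp
      haveI : Algebra.FormallySmooth A (Localization.AtPrime p) :=
        Algebra.FormallySmooth.of_isLocalization p.primeCompl
      haveI : Algebra.FormallySmooth k (Localization.AtPrime p) := Algebra.FormallySmooth.comp k A _
      have hrm : Groth.Agent.Omega.RankDim.rank k m = n := by
        rw [Groth.Agent.Omega.RankDim.rank, Module.finrank_eq_card_basis (b.baseChange m.ResidueField),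
          Fintype.card_fin]
      obtain ⟨t, ht⟩ := Groth.Agent.Omega.RankDim.exists_trdeg_eq k p
      have htn : t = n := by
        rw [← Groth.Agent.Omega.RankDim.rank_eq_trdeg k p hf t ht,
          Groth.Agent.Omega.RankDim.rank_eq_of_le k hpm, hrm]
      rw [← Groth.Agent.CAlgLib.LocalDimSpec.localDim_of_isMaximal k m]
      refine le_antisymm ((Groth.Agent.Omega.RankDim.localDim_le_rank k m).trans_eq (by rw [hrm])) ?_
      rw [Groth.Agent.CAlgLib.LocalDimSpec.localDim_eq k m, ← htn, ← Groth.Agent.TrdegDim.ringKrullDim_quotient_eq p t ht]
      exact le_iSup_of_le (⟨p, hp, hpm⟩ : Groth.Agent.CAlgLib.LocalDimSpec.Mins m) le_rfl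
    · rw [← b.span_eq]
      congr 1
      ext x
      simp only [Set.mem_range, hbv]
  · rintro ⟨hdim, hspan⟩
    have key : ∀ (m : Ideal A) [m.IsMaximal], Algebra.IsEtaleAt (MvPolynomial (Fin n) k) m := by
      intro m _
      have hn : FlatMor.localDim (PrimeSpectrum A) ⟨m, inferInstance⟩ = (n : WithBot ℕ∞) := by
        rw [Groth.Agent.CAlgLib.LocalDimSpec.localDim_of_isMaximal k m]
        exact hdim m
      let L := Localization.AtPrime m
      let g : Fin n → L := fun i => algebraMap A L (algebraMap (MvPolynomial (Fin n) k) A (MvPolynomial.X i))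
      have hs : Submodule.span (IsLocalRing.ResidueField L)
          (Set.range fun i => Groth.Agent.Omega.LocalFibre.dF k (g i)) = ⊤ :=
        Groth.Agent.Omega.EtaleCrit.span_fibre_of_span k m _ hspan
      have hle : Groth.Agent.Omega.RankDim.rank k m ≤ n := by
        rw [← Groth.Agent.Omega.LocalFibre.finrank_fibre_eq_rank k m]
        have := finrank_range_le_card (R := IsLocalRing.ResidueField L)
          (fun i => Groth.Agent.Omega.LocalFibre.dF k (g i))
        rw [Set.finrank, hs, finrank_top, Fintype.card_fin] at this
        exact this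
      have hge := Groth.Agent.Omega.RankDim.localDim_le_rank k m
      rw [hn] at hge
      haveI := Groth.Agent.Omega.RankDim.formallySmooth_of_rank_le k m (by rw [hn]; exact_mod_cast hle)
      exact Groth.Agent.Omega.EtaleCrit.isEtaleAt_of_span k m n (le_antisymm hle (by exact_mod_cast hge)) hs
    refine ⟨Algebra.etaleLocus_eq_univ_iff.mp (Set.eq_univ_of_forall fun q => ?_), inferInstance⟩
    obtain ⟨m, hm, hqm⟩ := q.asIdeal.exists_le_maximal q.2.ne_top
    haveI := hm
    exact ((PrimeSpectrum.le_iff_specializes q ⟨m, hm.isPrime⟩).mp hqm).mem_open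
      Algebra.isOpen_etaleLocus (key m)

end Groth.Agent.S9448
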