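import Groth.Statements.S9449
import Groth.Agent.EtStruct.RingDecomp
import Mathlib
-- import your own Groth.Agent.* helpers here

set_option autoImplicit false
universe u
open Unram

namespace Groth.Agent.S9449

open AlgebraicGeometry TensorProduct Groth.Agent.EtStruct

open TensorProduct in
/-- For an unramified ring map R → S and a prime p of R there exist an étale R-algebra R', a prime p' of
R' lying over p and a decomposition R' ⊗_R S ≅ A_1 × ⋯ × A_n × B of R'-algebras with every R' → A_i
surjective, p'A_i a prime ideal of A_i whose preimage in R' is p', and no prime of B lying over p'. -/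
theorem result (R : Type u) [CommRing R]
    (S : Type u) [CommRing S] [Algebra R S] [Algebra.Unramified R S] (p : Ideal R) [p.IsPrime] :
    ∃ (R' : Type u) (_ : CommRing R') (_ : Algebra R R') (_ : Algebra.Etale R R') (p' : Ideal R')
      (_ : p'.IsPrime) (_ : p'.LiesOver p) (n : ℕ) (A : Fin n → Type u) (_ : ∀ i, CommRing (A i))
      (_ : ∀ i, Algebra R' (A i)) (B : Type u) (_ : CommRing B) (_ : Algebra R' B),
      Nonempty ((R' ⊗[R] S) ≃ₐ[R'] ((∀ i, A i) × B)) ∧
        (∀ i, Function.Surjective (algebraMap R' (A i)) ∧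
          (p'.map (algebraMap R' (A i))).IsPrime ∧
          (p'.map (algebraMap R' (A i))).comap (algebraMap R' (A i)) = p') ∧
        ∀ (q : Ideal B) [q.IsPrime], q.comap (algebraMap R' B) ≠ p' := by
  have hfin : (p.primesOver S).Finite := Algebra.QuasiFinite.finite_primesOver p
  obtain ⟨m, q₀, hq₀⟩ := hfin.fin_embedding
  have hq : ∀ i, q₀ i ∈ p.primesOver S := fun i ↦ hq₀.le ⟨i, rfl⟩
  let q : Fin m → PrimeSpectrum S := fun i ↦ ⟨q₀ i, (hq i).1⟩
  have h1 : LocallyOfFiniteType (Spec.map (CommRingCat.ofHom (algebraMap R S))) := by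
    rw [HasRingHomProperty.Spec_iff (P := @LocallyOfFiniteType)]
    exact RingHom.finiteType_algebraMap.mpr inferInstance
  have h2 : FormallyUnramified (Spec.map (CommRingCat.ofHom (algebraMap R S))) := by
    rw [HasRingHomProperty.Spec_iff (P := @FormallyUnramified)]
    exact RingHom.formallyUnramified_algebraMap.mpr inferInstance
  obtain ⟨R', _, _, _, p', _, _, n, e, P, he, hP, hcov⟩ :=
    exists_etale_decomposition R S p q (fun i ↦ (hq i).2.over.symm)
      (fun i ↦ ⟨⊤, trivial, inferInstance,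
        CategoryTheory.MorphismProperty.comp_mem @FormallyUnramified _ _ inferInstance h2⟩)
  obtain ⟨E, hE⟩ := exists_algEquiv_pi_prod (A := R') e he
  refine ⟨R', _, _, ‹_›, p', ‹_›, ‹_›, n,
    fun k ↦ (R' ⊗[R] S) ⧸ Ideal.span {1 - e k.castSucc}, inferInstance, inferInstance,
    (R' ⊗[R] S) ⧸ Ideal.span {1 - e (Fin.last n)}, inferInstance, inferInstance, ⟨E⟩,
    fun k ↦ ?_, fun Q _ hQ ↦ ?_⟩
  · obtain ⟨hek, hPu, -, hsurj⟩ := hP k
    have hle : Ideal.span {1 - e k.castSucc} ≤ (P k).asIdeal := by
      rw [Ideal.span_singleton_le_iff_mem]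
      refine ((P k).isPrime.mem_or_mem (x := e k.castSucc) ?_).resolve_left hek
      rw [mul_sub, mul_one, (he.idem _).eq, sub_self]
      exact zero_mem _
    have hker : RingHom.ker (Ideal.Quotient.mk (Ideal.span {1 - e k.castSucc})) ≤ (P k).asIdeal := by
      rwa [Ideal.mk_ker]
    have hprime := Ideal.map_isPrime_of_surjective (I := (P k).asIdeal)
      Ideal.Quotient.mk_surjective hker
    have hcomap : ((P k).asIdeal.map (Ideal.Quotient.mk (Ideal.span {1 - e k.castSucc}))).comap
        (Ideal.Quotient.mk _) = (P k).asIdeal := by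
      rw [Ideal.comap_map_of_surjective _ Ideal.Quotient.mk_surjective, sup_eq_left,
        ← RingHom.ker_eq_comap_bot]
      exact hker
    have hp : ((P k).asIdeal.map (Ideal.Quotient.mk (Ideal.span {1 - e k.castSucc}))).comap
        (algebraMap R' ((R' ⊗[R] S) ⧸ Ideal.span {1 - e k.castSucc})) = p' := by
      rw [IsScalarTower.algebraMap_eq R' (R' ⊗[R] S) ((R' ⊗[R] S) ⧸ _), ← Ideal.comap_comap]
      exact (congrArg (Ideal.comap (algebraMap R' (R' ⊗[R] S))) hcomap).trans hPu
    have hmap := map_eq_of_surjective hsurj _ _ hp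
    exact ⟨hsurj, hmap.symm ▸ hprime, hmap.symm ▸ hp⟩
  · let Q' : PrimeSpectrum (R' ⊗[R] S) :=
      ⟨Q.comap (Ideal.Quotient.mk _), inferInstance⟩
    have hQ' : Q'.asIdeal.under R' = p' := hQ
    have hover : (Q'.asIdeal.comap
        (Algebra.TensorProduct.includeRight : S →ₐ[R] R' ⊗[R] S).toRingHom) ∈ p.primesOver S := by
      refine ⟨inferInstance, ⟨?_⟩⟩
      rw [Ideal.under, Ideal.comap_comap, Ideal.over_def p' p, ← hQ', Ideal.under, Ideal.under,
        Ideal.comap_comap]
      congr 1
      ext r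
      exact (Algebra.TensorProduct.includeRight : S →ₐ[R] R' ⊗[R] S).commutes r |>.symm
    obtain ⟨i, hi⟩ := hq₀.ge hover
    obtain ⟨k, hk⟩ := hcov Q' hQ' i hi.symm
    have h3 : e k.castSucc ∈ (P k).asIdeal := by
      rw [hk]
      show Ideal.Quotient.mk _ (e k.castSucc) ∈ Q
      have : Ideal.Quotient.mk (Ideal.span {1 - e (Fin.last n)}) (e k.castSucc) = 0 := by
        rw [Ideal.Quotient.eq_zero_iff_mem, Ideal.mem_span_singleton']
        refine ⟨e k.castSucc, ?_⟩
        rw [mul_sub, mul_one, he.ortho k.castSucc_ne_last, sub_zero]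
      rw [this]
      exact zero_mem _
    exact (hP k).1 h3

end Groth.Agent.S9449
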