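import Groth.Statements.S9450
import Mathlib
-- import your own Groth.Agent.* helpers here

set_option autoImplicit false
universe u
open CAlg

namespace Groth.Agent.S9450
open TensorProduct

/-- For ring maps A → B → C with A → C surjective and A → B formally smooth, writing I = ker(A → C) and
J = ker(B → C), the sequence 0 → I/I² → J/J² → C ⊗_B Ω_{B/A} → 0 is split exact: the first map is
injective and admits an A-linear retraction, its range is the kernel of the second map (class of x ↦
1 ⊗ dx), and the second map is surjective. -/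
theorem result (A : Type u) [CommRing A]
    (B : Type u) [CommRing B] [Algebra A B] [Algebra.FormallySmooth A B] (C : Type u) [CommRing C]
    [Algebra B C] [Algebra A C] [IsScalarTower A B C] (hC : Function.Surjective (algebraMap A C)) :
    Function.Injective (Ideal.mapCotangent (RingHom.ker (algebraMap A C))
        (RingHom.ker (algebraMap B C)) (Algebra.ofId A B)
        (le_of_eq (congrArg RingHom.ker (IsScalarTower.algebraMap_eq A B C)))) ∧
      (∃ r : (RingHom.ker (algebraMap B C)).Cotangent →ₗ[A] (RingHom.ker (algebraMap A C)).Cotangent,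
        r ∘ₗ (Ideal.mapCotangent (RingHom.ker (algebraMap A C)) (RingHom.ker (algebraMap B C))
          (Algebra.ofId A B)
          (le_of_eq (congrArg RingHom.ker (IsScalarTower.algebraMap_eq A B C)))) = LinearMap.id) ∧
      LinearMap.range (Ideal.mapCotangent (RingHom.ker (algebraMap A C))
          (RingHom.ker (algebraMap B C)) (Algebra.ofId A B)
          (le_of_eq (congrArg RingHom.ker (IsScalarTower.algebraMap_eq A B C)))) =
        LinearMap.ker ((KaehlerDifferential.kerCotangentToTensor A B C).restrictScalars A) ∧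
      Function.Surjective (KaehlerDifferential.kerCotangentToTensor A B C) := by
  classical
  have hBC : Function.Surjective (algebraMap B C) := fun c => by
    obtain ⟨a, rfl⟩ := hC c
    exact ⟨algebraMap A B a, (IsScalarTower.algebraMap_apply A B C a).symm⟩
  set I := RingHom.ker (algebraMap A C) with hI
  set J := RingHom.ker (algebraMap B C) with hJ
  have hle : I ≤ J.comap (algebraMap A B) := fun a ha => by
    show algebraMap B C (algebraMap A B a) = 0
    rw [← IsScalarTower.algebraMap_apply]; exact ha
  set m := Ideal.mapCotangent I J (Algebra.ofId A B)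
    (le_of_eq (congrArg RingHom.ker (IsScalarTower.algebraMap_eq A B C))) with hm
  -- the lift `s : B → A / I ^ 2`
  let q : (A ⧸ I ^ 2) →ₐ[A] C := Ideal.Quotient.liftₐ (I ^ 2) (Algebra.ofId A C)
    fun a ha => (Ideal.pow_le_self two_ne_zero ha : a ∈ I)
  have hq : Function.Surjective q := fun c => by
    obtain ⟨a, rfl⟩ := hC c
    exact ⟨Ideal.Quotient.mk _ a, rfl⟩
  have hqn : IsNilpotent (RingHom.ker (q : (A ⧸ I ^ 2) →+* C)) := by
    refine ⟨2, eq_bot_iff.mpr ?_⟩
    calc RingHom.ker (q : (A ⧸ I ^ 2) →+* C) ^ 2 ≤ (I.map (Ideal.Quotient.mk (I ^ 2))) ^ 2 := by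
          refine Ideal.pow_right_mono (fun x hx => ?_) 2
          obtain ⟨a, rfl⟩ := Ideal.Quotient.mk_surjective x
          exact Ideal.mem_map_of_mem _ (show a ∈ I from hx)
      _ = ⊥ := by rw [← Ideal.map_pow, Ideal.map_quotient_self]
  let s : B →ₐ[A] A ⧸ I ^ 2 := Algebra.FormallySmooth.liftOfSurjective (IsScalarTower.toAlgHom A B C) q hq hqn
  choose a ha using fun b => Ideal.Quotient.mk_surjective (s b)
  have haJ : ∀ b, algebraMap A C (a b) = algebraMap B C b := fun b =>
    (congrArg q (ha b)).trans (Algebra.FormallySmooth.liftOfSurjective_apply _ q hq hqn b)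
  have hd : ∀ b, b - algebraMap A B (a b) ∈ J := fun b => by
    show algebraMap B C (b - algebraMap A B (a b)) = 0
    rw [map_sub, ← IsScalarTower.algebraMap_apply, haJ, sub_self]
  have hIsq : ∀ x y : A, x - y ∈ I ^ 2 → algebraMap A B x - algebraMap A B y ∈ J ^ 2 := by
    intro x y h
    rw [← map_sub]
    exact Ideal.pow_right_mono (Ideal.map_le_iff_le_comap.mpr hle) 2 (by
      rw [← Ideal.map_pow]; exact Ideal.mem_map_of_mem _ h)
  have hsA : ∀ x : A, a (algebraMap A B x) - x ∈ I ^ 2 := fun x => by
    rw [← Ideal.Quotient.eq, ha, AlgHom.commutes]; rfl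
  have hsadd : ∀ x y, a (x + y) - (a x + a y) ∈ I ^ 2 := fun x y => by
    rw [← Ideal.Quotient.eq, map_add, ha, ha, ha, map_add]
  have hsmul : ∀ x y, a (x * y) - (a x * a y) ∈ I ^ 2 := fun x y => by
    rw [← Ideal.Quotient.eq, map_mul, ha, ha, ha, map_mul]
  -- the retraction
  have haI : ∀ x : J, a (x : B) ∈ I := fun x => (haJ _).trans x.2
  have hsq : ∀ x ∈ J ^ 2, a x ∈ I ^ 2 := by
    intro x hx
    have h1 : J.map (s : B →+* A ⧸ I ^ 2) ≤ I.map (Ideal.Quotient.mk (I ^ 2)) := by
      refine Ideal.map_le_iff_le_comap.mpr fun b hb => ?_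
      show s b ∈ I.map (Ideal.Quotient.mk (I ^ 2))
      rw [← ha b]
      exact Ideal.mem_map_of_mem _ (haI ⟨b, hb⟩)
    have h2 : s x ∈ (I ^ 2).map (Ideal.Quotient.mk (I ^ 2)) := by
      rw [Ideal.map_pow]
      refine Ideal.pow_right_mono h1 2 ?_
      rw [← Ideal.map_pow]
      exact Ideal.mem_map_of_mem _ hx
    rw [Ideal.map_quotient_self, Ideal.mem_bot, ← ha] at h2
    exact Ideal.Quotient.eq_zero_iff_mem.mp h2
  let r₀ : J →ₗ[A] I.Cotangent :=
    { toFun := fun x => I.toCotangent ⟨a (x : B), haI x⟩
      map_add' := fun x y => by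
        rw [← map_add, Ideal.toCotangent_eq]
        exact hsadd _ _
      map_smul' := fun c x => by
        rw [RingHom.id_apply, ← map_smul, Ideal.toCotangent_eq]
        show a (c • (x : B)) - c * a (x : B) ∈ I ^ 2
        rw [← Ideal.Quotient.eq, ha, map_mul, ha, Algebra.smul_def, map_mul, AlgHom.commutes]
        rfl }
  have hwell : ∀ x y : J, J.toCotangent x = J.toCotangent y → r₀ x = r₀ y := by
    intro x y h
    rw [Ideal.toCotangent_eq] at h
    refine (Ideal.toCotangent_eq I).mpr ?_
    have h1 := hsq _ h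
    have h2 := hsadd ((x : B) - y) y
    rw [sub_add_cancel] at h2
    show a (x : B) - a (y : B) ∈ I ^ 2
    have := (I ^ 2).add_mem h2 h1
    convert this using 1
    ring
  choose rep hrep using Ideal.toCotangent_surjective J
  let r : J.Cotangent →ₗ[A] I.Cotangent :=
    { toFun := fun z => r₀ (rep z)
      map_add' := fun z w => by
        rw [← map_add]
        exact hwell _ _ (by rw [map_add, hrep, hrep, hrep])
      map_smul' := fun c z => by
        rw [RingHom.id_apply, ← map_smul]
        exact hwell _ _ (by rw [LinearMap.map_smul_of_tower, hrep, hrep]) }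
  have hm' : ∀ x : I, m (I.toCotangent x) = J.toCotangent ⟨algebraMap A B x, hle x.2⟩ := fun x => rfl
  have hret : r ∘ₗ m = LinearMap.id := by
    refine LinearMap.ext fun z => ?_
    obtain ⟨x, rfl⟩ := Ideal.toCotangent_surjective I z
    show r₀ (rep (m (I.toCotangent x))) = I.toCotangent x
    rw [hm', hwell _ ⟨algebraMap A B (x : A), hle x.2⟩ (hrep _)]
    exact (Ideal.toCotangent_eq I).mpr (hsA _)
  -- the derivation
  let D₀ : B → J.Cotangent := fun b => J.toCotangent ⟨b - algebraMap A B (a b), hd b⟩
  let D₁ : B →ₗ[A] J.Cotangent :=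
    { toFun := D₀
      map_add' := fun x y => by
        simp only [D₀]
        rw [← map_add, Ideal.toCotangent_eq]
        show x + y - algebraMap A B (a (x + y)) -
          ((x - algebraMap A B (a x)) + (y - algebraMap A B (a y))) ∈ J ^ 2
        have h2 := (J ^ 2).neg_mem (hIsq _ _ (hsadd x y))
        convert h2 using 1
        rw [map_add]; ring
      map_smul' := fun c x => by
        simp only [D₀]
        rw [RingHom.id_apply, ← LinearMap.map_smul_of_tower, Ideal.toCotangent_eq]
        show c • x - algebraMap A B (a (c • x)) - c • (x - algebraMap A B (a x)) ∈ J ^ 2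
        have h3 : a (c • x) - c * a x ∈ I ^ 2 := by
          rw [← Ideal.Quotient.eq, ha, map_mul, ha, Algebra.smul_def, map_mul, AlgHom.commutes]; rfl
        have h4 := (J ^ 2).neg_mem (hIsq _ _ h3)
        convert h4 using 1
        rw [Algebra.smul_def, Algebra.smul_def, map_mul]; ring }
  let D : Derivation A B J.Cotangent := Derivation.mk' D₁ fun x y => by
    show D₀ (x * y) = x • D₀ y + y • D₀ x
    simp only [D₀]
    rw [← map_smul, ← map_smul, ← map_add, Ideal.toCotangent_eq]
    show x * y - algebraMap A B (a (x * y)) -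
      (x * (y - algebraMap A B (a y)) + y * (x - algebraMap A B (a x))) ∈ J ^ 2
    have h5 : (x - algebraMap A B (a x)) * (y - algebraMap A B (a y)) ∈ J ^ 2 := by
      rw [pow_two]; exact Ideal.mul_mem_mul (hd x) (hd y)
    have h6 := (J ^ 2).neg_mem ((J ^ 2).add_mem h5 (hIsq _ _ (hsmul x y)))
    convert h6 using 1
    rw [map_mul]; ring
  have hsurj : Function.Surjective (KaehlerDifferential.kerCotangentToTensor A B C) := fun y => by
    haveI : Algebra.FormallyUnramified A C := Algebra.FormallyUnramified.of_surjective (Algebra.ofId A C) hC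
    exact (KaehlerDifferential.exact_kerCotangentToTensor_mapBaseChange A B C hBC y).mp (Subsingleton.elim _ _)
  refine ⟨Function.LeftInverse.injective (g := r) (LinearMap.congr_fun hret), ⟨r, hret⟩, le_antisymm ?_ ?_, hsurj⟩
  · rintro _ ⟨z, rfl⟩
    obtain ⟨x, rfl⟩ := Ideal.toCotangent_surjective I z
    show KaehlerDifferential.kerCotangentToTensor A B C (m (I.toCotangent x)) = 0
    rw [hm', KaehlerDifferential.kerCotangentToTensor_toCotangent]
    simp
  · intro z hz
    obtain ⟨x, rfl⟩ := Ideal.toCotangent_surjective J z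
    have hz' : (1 : C) ⊗ₜ[B] KaehlerDifferential.D A B (x : B) = 0 :=
      (KaehlerDifferential.kerCotangentToTensor_toCotangent A B C x).symm.trans hz
    -- `C ⊗ J/J² = J/J²`
    let M := J.Cotangent
    have hann : ∀ b ∈ J, ∀ w : M, b • w = 0 := fun b hb w => by
      obtain ⟨y, rfl⟩ := Ideal.toCotangent_surjective J w
      rw [← map_smul, Ideal.toCotangent_eq_zero, pow_two]
      exact Ideal.mul_mem_mul hb y.2
    have hD : D (x : B) = 0 := by
      have h1 : (D.liftKaehlerDifferential.lTensor C) ((1 : C) ⊗ₜ[B] KaehlerDifferential.D A B (x : B)) = 0 := by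
        rw [hz', map_zero]
      rw [LinearMap.lTensor_tmul, Derivation.liftKaehlerDifferential_comp_D] at h1
      let e : (B ⧸ J) ≃ₗ[B] C :=
        (Ideal.quotientKerAlgEquivOfSurjective (f := IsScalarTower.toAlgHom B B C) hBC).toLinearEquiv
      have h2 : ((1 : B ⧸ J) ⊗ₜ[B] D (x : B)) = 0 := by
        have := congrArg (e.symm.toLinearMap.rTensor M) h1
        rw [map_zero, LinearMap.rTensor_tmul] at this
        rwa [show e.symm.toLinearMap 1 = 1 from map_one
          (Ideal.quotientKerAlgEquivOfSurjective (f := IsScalarTower.toAlgHom B B C) hBC).symm] at this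
      have h3 := congrArg (TensorProduct.quotTensorEquivQuotSMul M J) h2
      rw [map_zero] at h3
      erw [TensorProduct.quotTensorEquivQuotSMul_mk_tmul] at h3
      rw [one_smul, Submodule.Quotient.mk_eq_zero] at h3
      have h4 : (J • ⊤ : Submodule B M) = ⊥ :=
        eq_bot_iff.mpr (Submodule.smul_le.mpr fun b hb w _ => (Submodule.mem_bot B).mpr (hann b hb w))
      rwa [h4, Submodule.mem_bot] at h3
    refine ⟨I.toCotangent ⟨a (x : B), haI x⟩, ?_⟩
    rw [hm', Ideal.toCotangent_eq]
    have hD' : J.toCotangent ⟨(x : B) - algebraMap A B (a (x : B)), hd _⟩ = 0 := hD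
    rw [Ideal.toCotangent_eq_zero] at hD'
    have := (J ^ 2).neg_mem hD'
    convert this using 1
    ring

end Groth.Agent.S9450
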