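import Groth.Statements.S9451
import Mathlib.RingTheory.Smooth.NoetherianDescent
import Mathlib.Algebra.Category.Ring.FinitePresentation
-- import your own Groth.Agent.* helpers here

set_option autoImplicit false
universe u
open CategoryTheory CategoryTheory.Limits TensorProduct
open CAlg

namespace Groth.Agent.S9451

/-- Let (A_i) be a filtered system of rings with colimit A and B a smooth A-algebra. Then some stage A_i
carries a smooth A_i-algebra B_i with B isomorphic to A ⊗_{A_i} B_i as A-algebras (the base change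
along the colimit map A_i → A; existence of an isomorphism). -/
theorem result {I : Type u} [SmallCategory I] [IsFiltered I]
    (D : I ⥤ CommRingCat.{u}) (c : Cocone D) (hc : IsColimit c) (B : Type u) [CommRing B]
    [Algebra c.pt B] [Algebra.Smooth c.pt B] :
    ∃ (i : I) (Bi : Type u) (_ : CommRing Bi) (_ : Algebra (D.obj i) Bi),
      Algebra.Smooth (D.obj i) Bi ∧
      (letI : Algebra (D.obj i) c.pt := (c.ι.app i).hom.toAlgebra
       Nonempty (B ≃ₐ[c.pt] (c.pt ⊗[D.obj i] Bi))) := by
  obtain ⟨A₀, B₀, _, _, hA₀, hsm, ⟨e⟩⟩ := Algebra.Smooth.exists_subalgebra_fg ℤ c.pt B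
  let Z : CommRingCat.{u} := CommRingCat.of (ULift.{u} ℤ)
  let uni : ∀ T : Type u, [CommRing T] → (ULift.{u} ℤ →+* T) := fun T _ =>
    (Int.castRingHom T).comp ULift.ringEquiv.toRingHom
  have huni : ∀ (T : Type u) [CommRing T] (a b : ULift.{u} ℤ →+* T), a = b := fun T _ a b => by
    have h := RingHom.ext_int (a.comp (ULift.ringEquiv.{0, u} (R := ℤ)).symm.toRingHom)
      (b.comp (ULift.ringEquiv.{0, u} (R := ℤ)).symm.toRingHom)
    refine RingHom.ext fun x => ?_
    exact RingHom.congr_fun h x.down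
  let α : (Functor.const I).obj Z ⟶ D :=
    { app := fun i => CommRingCat.ofHom (uni (D.obj i))
      naturality := fun i j f => CommRingCat.hom_ext (huni _ _ _) }
  let f : Z ⟶ CommRingCat.of A₀ := CommRingCat.ofHom (uni A₀)
  have hf : f.hom.FinitePresentation := by
    have : IsNoetherianRing Z :=
      isNoetherianRing_of_ringEquiv ℤ (ULift.ringEquiv.{0, u} (R := ℤ)).symm
    apply RingHom.FinitePresentation.of_finiteType.mp
    have : Algebra.FiniteType ℤ A₀ := ⟨A₀.fg_top.mpr hA₀⟩
    have h2 : (algebraMap ℤ A₀).FiniteType := RingHom.finiteType_algebraMap.mpr this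
    have h3 : f.hom.comp (ULift.ringEquiv.{0, u} (R := ℤ)).symm.toRingHom = algebraMap ℤ A₀ :=
      RingHom.ext_int _ _
    rw [← h3] at h2
    exact RingHom.FiniteType.of_comp_finiteType h2
  obtain ⟨i, g', -, hg'⟩ := RingHom.EssFiniteType.exists_eq_comp_ι_app_of_isColimit
    Z D α f c hc hf (CommRingCat.ofHom (A₀.val : A₀ →+* c.pt))
    (fun i => CommRingCat.hom_ext (huni _ _ _))
  let _ : Algebra A₀ (D.obj i) := g'.hom.toAlgebra
  refine ⟨i, (D.obj i) ⊗[A₀] B₀, inferInstance, inferInstance, inferInstance, ?_⟩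
  let _ : Algebra (D.obj i) c.pt := (c.ι.app i).hom.toAlgebra
  have : IsScalarTower A₀ (D.obj i) c.pt :=
    IsScalarTower.of_algebraMap_eq' (congrArg CommRingCat.Hom.hom hg')
  exact ⟨e.trans (Algebra.TensorProduct.cancelBaseChange A₀ (D.obj i) c.pt c.pt B₀).symm⟩

end Groth.Agent.S9451
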