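import Groth.Statements.S9452
import Groth.Agent.EtStruct.RingDecomp
import Mathlib
-- import your own Groth.Agent.* helpers here

set_option autoImplicit false
universe u
open Unram

namespace Groth.Agent.S9452

open AlgebraicGeometry TensorProduct Groth.Agent.EtStruct

open TensorProduct in
/-- Let R → S be of finite type and unramified at a prime q lying over p. Then there are an étale
R-algebra R', a prime p' of R' over p and an R'-algebra isomorphism e : R' ⊗_R S ≅ A × B with R' → A
surjective and p'A a prime ideal of A lying over p' whose pull-back along S → R' ⊗_R S ≅ A × B → A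
is q. -/
theorem result (R : Type u) [CommRing R]
    (S : Type u) [CommRing S] [Algebra R S] [Algebra.FiniteType R S] (q : Ideal S) [q.IsPrime]
    [Algebra.IsUnramifiedAt R q] :
    ∃ (R' : Type u) (_ : CommRing R') (_ : Algebra R R') (_ : Algebra.Etale R R') (p' : Ideal R')
      (_ : p'.IsPrime) (_ : p'.LiesOver (q.under R)) (A : Type u) (_ : CommRing A) (_ : Algebra R' A)
      (B : Type u) (_ : CommRing B) (_ : Algebra R' B) (e : (R' ⊗[R] S) ≃ₐ[R'] (A × B)),
      Function.Surjective (algebraMap R' A) ∧ (p'.map (algebraMap R' A)).IsPrime ∧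
        (p'.map (algebraMap R' A)).comap (algebraMap R' A) = p' ∧
        (p'.map (algebraMap R' A)).comap (((RingHom.fst A B).comp e.toRingHom).comp
          (Algebra.TensorProduct.includeRight : S →ₐ[R] R' ⊗[R] S).toRingHom) = q := by
  obtain ⟨f, hf, hfu⟩ := Algebra.exists_formallyUnramified_of_isUnramifiedAt (R := R) q
  have hq : (⟨q, ‹_›⟩ : PrimeSpectrum S) ∈ PrimeSpectrum.basicOpen f := hf
  let π := Spec.map (CommRingCat.ofHom (algebraMap R S))
  have : LocallyOfFiniteType π := by
    rw [HasRingHomProperty.Spec_iff (P := @LocallyOfFiniteType)]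
    exact RingHom.finiteType_algebraMap.mpr inferInstance
  let x : Spec (CommRingCat.of S) := ⟨q, ‹_›⟩
  have hu : (π.stalkMap x).hom.FormallyUnramified := by
    have : (q.under R).IsPrime := inferInstance
    let := Localization.AtPrime.algebraOfLiesOver (q.under R) q
    refine (RingHom.FormallyUnramified.respectsIso.arrow_mk_iso_iff
      (Scheme.arrowStalkMapSpecIso (CommRingCat.ofHom (algebraMap R S)) x)).mpr ?_
    show (algebraMap (Localization.AtPrime (q.under R)) (Localization.AtPrime q)).FormallyUnramified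
    rw [RingHom.formallyUnramified_algebraMap]
    exact Algebra.FormallyUnramified.of_restrictScalars R _ _
  obtain ⟨W, hW, hWu⟩ := (formallyUnramified_nhd_iff π x).mpr hu
  obtain ⟨R', _, _, _, p', _, _, n, e, P, he, hP, hcov⟩ :=
    exists_etale_decomposition R S (q.under R) (fun _ : Fin 1 ↦ (⟨q, ‹_›⟩ : PrimeSpectrum S))
      (fun _ ↦ rfl) (fun _ ↦ ⟨W, hW, inferInstance, hWu⟩)
  have hne : ∃ Q : PrimeSpectrum (R' ⊗[R] S), PrimeSpectrum.comap (algebraMap R' (R' ⊗[R] S)) Q =
      ⟨p', ‹_›⟩ ∧ PrimeSpectrum.comap (Algebra.TensorProduct.includeRight : S →ₐ[R] R' ⊗[R] S).toRingHom Q =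
        ⟨q, ‹_›⟩ := by
    let f' := Spec.map (CommRingCat.ofHom (algebraMap R R'))
    obtain ⟨z, h₁, h₂⟩ := Scheme.Pullback.exists_preimage_pullback
      (f := f') (g := π) (⟨p', ‹_›⟩ : PrimeSpectrum R') (⟨q, ‹_›⟩ : PrimeSpectrum S)
      (PrimeSpectrum.ext (Ideal.over_def p' (q.under R)).symm)
    obtain ⟨Q, rfl⟩ := (pullbackSpecIso R R' S).inv.surjective z
    refine ⟨Q, ?_, ?_⟩
    · rw [← Scheme.Hom.comp_apply, pullbackSpecIso_inv_fst] at h₁
      exact h₁
    · rw [← Scheme.Hom.comp_apply, pullbackSpecIso_inv_snd] at h₂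
      exact h₂
  obtain ⟨Q, hQ₁, hQ₂⟩ := hne
  have hQ : Q.asIdeal.under R' = p' := congrArg PrimeSpectrum.asIdeal hQ₁
  have hQq : Q.asIdeal.comap (Algebra.TensorProduct.includeRight : S →ₐ[R] R' ⊗[R] S).toRingHom = q :=
    congrArg PrimeSpectrum.asIdeal hQ₂
  obtain ⟨k, rfl⟩ := hcov Q hQ 0 hQq
  obtain ⟨hek, -, -, hsurj⟩ := hP k
  let A := (R' ⊗[R] S) ⧸ Ideal.span {1 - e k.castSucc}
  let B := (R' ⊗[R] S) ⧸ Ideal.span {e k.castSucc}
  let φ : R' ⊗[R] S →ₐ[R'] A × B := (Ideal.Quotient.mkₐ R' _).prod (Ideal.Quotient.mkₐ R' _)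
  have hφ : Function.Bijective φ := by
    have hid : IsIdempotentElem (e k.castSucc) := he.idem _
    constructor
    · rw [injective_iff_map_eq_zero]
      intro t ht
      have h1 := Ideal.Quotient.eq_zero_iff_mem.mp (congrArg Prod.fst ht)
      have h2 := Ideal.Quotient.eq_zero_iff_mem.mp (congrArg Prod.snd ht)
      rw [Ideal.mem_span_singleton'] at h1 h2
      obtain ⟨a, ha⟩ := h1
      obtain ⟨c, hc⟩ := h2
      have h3 : e k.castSucc * t = 0 := by rw [← ha]; linear_combination (-a) * hid.eq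
      have h4 : e k.castSucc * t = t := by rw [← hc]; linear_combination c * hid.eq
      rw [← h4, h3]
    · rintro ⟨v, w⟩
      obtain ⟨a, rfl⟩ := Ideal.Quotient.mk_surjective v
      obtain ⟨c, rfl⟩ := Ideal.Quotient.mk_surjective w
      refine ⟨e k.castSucc * a + (1 - e k.castSucc) * c, Prod.ext ?_ ?_⟩
      · exact Ideal.Quotient.eq.mpr (Ideal.mem_span_singleton'.mpr ⟨c - a, by ring⟩)
      · exact Ideal.Quotient.eq.mpr (Ideal.mem_span_singleton'.mpr ⟨a - c, by ring⟩)
  have hle : Ideal.span {1 - e k.castSucc} ≤ (P k).asIdeal := by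
    rw [Ideal.span_singleton_le_iff_mem]
    refine ((P k).isPrime.mem_or_mem (x := e k.castSucc) ?_).resolve_left hek
    rw [mul_sub, mul_one, (he.idem _).eq, sub_self]
    exact zero_mem _
  have hker : RingHom.ker (Ideal.Quotient.mk (Ideal.span {1 - e k.castSucc})) ≤ (P k).asIdeal := by
    rwa [Ideal.mk_ker]
  have hprime : ((P k).asIdeal.map (Ideal.Quotient.mk (Ideal.span {1 - e k.castSucc}))).IsPrime :=
    Ideal.map_isPrime_of_surjective Ideal.Quotient.mk_surjective hker
  have hcomap : ((P k).asIdeal.map (Ideal.Quotient.mk (Ideal.span {1 - e k.castSucc}))).comap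
      (Ideal.Quotient.mk _) = (P k).asIdeal := by
    rw [Ideal.comap_map_of_surjective _ Ideal.Quotient.mk_surjective, sup_eq_left,
      ← RingHom.ker_eq_comap_bot]
    exact hker
  have hp : ((P k).asIdeal.map (Ideal.Quotient.mk (Ideal.span {1 - e k.castSucc}))).comap
      (algebraMap R' A) = p' := by
    rw [IsScalarTower.algebraMap_eq R' (R' ⊗[R] S) A, ← Ideal.comap_comap]
    exact (congrArg (Ideal.comap (algebraMap R' (R' ⊗[R] S))) hcomap).trans hQ
  have hmap := map_eq_of_surjective hsurj _ _ hp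
  refine ⟨R', _, _, ‹_›, p', ‹_›, ‹_›, A, inferInstance, inferInstance, B, inferInstance,
    inferInstance, AlgEquiv.ofBijective φ hφ, hsurj, hmap.symm ▸ hprime, hmap.symm ▸ hp, ?_⟩
  rw [hmap, ← Ideal.comap_comap]
  exact (congrArg (Ideal.comap (Algebra.TensorProduct.includeRight : S →ₐ[R] R' ⊗[R] S).toRingHom)
    hcomap).trans hQq

end Groth.Agent.S9452
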