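import Groth.Statements.S9453
import Groth.Agent.CAlg48.SplitCover

set_option autoImplicit false
universe u
open CAlg

namespace Groth.Agent.S9453

/-- For a standard étale R-algebra S there is an R-algebra S' which is finite, finitely presented and
flat over R, with Spec S' → Spec R surjective, and such that for every prime q of S and every prime
q' of S' lying over the same prime of R there are g' ∉ q' and an R-algebra map φ : S → S'_{g'} under
which the extension of q' pulls back to q. -/
theorem result (R : Type u) [CommRing R] (S : Type u)
    [CommRing S] [Algebra R S] [Algebra.IsStandardEtale R S] :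
    ∃ (S' : Type u) (_ : CommRing S') (_ : Algebra R S'),
      Module.Finite R S' ∧ Algebra.FinitePresentation R S' ∧ Module.Flat R S' ∧
        Function.Surjective (PrimeSpectrum.comap (algebraMap R S')) ∧
        ∀ (q : Ideal S) [q.IsPrime] (q' : Ideal S') [q'.IsPrime], q'.under R = q.under R →
          ∃ (g' : S') (_ : g' ∉ q') (φ : S →ₐ[R] Localization.Away g'),
            (q'.map (algebraMap S' (Localization.Away g'))).comap φ = q := by
  rcases subsingleton_or_nontrivial R with hR | hR
  · refine ⟨R, inferInstance, inferInstance, inferInstance, inferInstance, inferInstance,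
      fun p => absurd (Subsingleton.elim (1 : R) 0 ▸ p.asIdeal.zero_mem) p.asIdeal.one_notMem, ?_⟩
    intro q _ q' _ _
    exact absurd (Subsingleton.elim (1 : R) 0 ▸ q'.zero_mem) (Ideal.IsPrime.one_notMem ‹_›)
  obtain ⟨P⟩ := (inferInstance : Nonempty (StandardEtalePresentation R S))
  obtain ⟨S', _, _, _, _, _, hsplit⟩ := CAlg48.SplitCover.exists_splits_finset {P.f} (by simp [P.monic_f])
  have := Module.finitePresentation_of_projective R S'
  exact ⟨S', inferInstance, inferInstance, inferInstance, inferInstance, inferInstance,
    PrimeSpectrum.comap_surjective_of_faithfullyFlat, fun q _ q' _ h =>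
      CAlg48.SplitCover.exists_hom P (hsplit P.f (Finset.mem_singleton_self _)) q q' h⟩

end Groth.Agent.S9453
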