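import Groth.Statements.S9454
import Groth.Agent.CAlg48.SplitCover

set_option autoImplicit false
universe u
open CAlg

namespace Groth.Agent.S9454

/-- For an étale ring map R → S which is surjective on spectra there is a finite, finitely presented,
flat R-algebra S' with Spec S' → Spec R surjective such that, Zariski locally on S', the structure
map factors through S: every prime q' of S' has some g' ∉ q' and an R-algebra map S → S'_{g'}. -/
theorem result (R : Type u) [CommRing R]
    (S : Type u) [CommRing S] [Algebra R S] [Algebra.Etale R S]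
    (hs : Function.Surjective (PrimeSpectrum.comap (algebraMap R S))) :
    ∃ (S' : Type u) (_ : CommRing S') (_ : Algebra R S'),
      Module.Finite R S' ∧ Algebra.FinitePresentation R S' ∧ Module.Flat R S' ∧
        Function.Surjective (PrimeSpectrum.comap (algebraMap R S')) ∧
        ∀ (q' : Ideal S') [q'.IsPrime], ∃ (g' : S') (_ : g' ∉ q'),
          Nonempty (S →ₐ[R] Localization.Away g') := by
  classical
  rcases subsingleton_or_nontrivial R with hR | hR
  · refine ⟨R, inferInstance, inferInstance, inferInstance, inferInstance, inferInstance,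
      fun p => absurd (Subsingleton.elim (1 : R) 0 ▸ p.asIdeal.zero_mem) p.asIdeal.one_notMem, ?_⟩
    intro q' _
    exact absurd (Subsingleton.elim (1 : R) 0 ▸ q'.zero_mem) (Ideal.IsPrime.one_notMem ‹_›)
  have hloc : ∀ q : PrimeSpectrum S, ∃ g : S, g ∉ q.asIdeal ∧ Algebra.IsStandardEtale R (Localization.Away g) :=
    fun q => Algebra.IsEtaleAt.exists_isStandardEtale (R := R) q.asIdeal
  choose g hg hgs using hloc
  -- finitely many of the basic opens cover `Spec S`
  obtain ⟨t, ht⟩ := CompactSpace.isCompact_univ.elim_finite_subcover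
    (fun q : PrimeSpectrum S => (PrimeSpectrum.basicOpen (g q) : Set (PrimeSpectrum S)))
    (fun q => (PrimeSpectrum.basicOpen (g q)).isOpen) (fun q _ => Set.mem_iUnion.mpr ⟨q, hg q⟩)
  let P : PrimeSpectrum S → Σ' q : PrimeSpectrum S, StandardEtalePresentation R (Localization.Away (g q)) :=
    fun q => ⟨q, Classical.choice (hgs q).nonempty_standardEtalePresentation⟩
  obtain ⟨S', _, _, _, _, _, hsplit⟩ := CAlg48.SplitCover.exists_splits_finset
    (t.image fun q => (P q).2.f) (by
      intro f hf
      obtain ⟨q, -, rfl⟩ := Finset.mem_image.mp hf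
      exact (P q).2.monic_f)
  have := Module.finitePresentation_of_projective R S'
  refine ⟨S', inferInstance, inferInstance, inferInstance, inferInstance, inferInstance,
    PrimeSpectrum.comap_surjective_of_faithfullyFlat, fun q' hq' => ?_⟩
  obtain ⟨q, hq⟩ := hs ⟨q'.under R, inferInstance⟩
  obtain ⟨i, hi, hqi⟩ := Set.mem_iUnion₂.mp (ht (Set.mem_univ q))
  have hdisj : Disjoint (Submonoid.powers (g i) : Set S) q.asIdeal :=
    (Ideal.disjoint_powers_iff_notMem_of_isPrime _).mpr hqi
  haveI : (q.asIdeal.map (algebraMap S (Localization.Away (g i)))).IsPrime :=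
    IsLocalization.isPrime_of_isPrime_disjoint (Submonoid.powers (g i)) _ _ q.2 hdisj
  have hund : q'.under R = (q.asIdeal.map (algebraMap S (Localization.Away (g i)))).under R := by
    rw [← Ideal.under_under (B := S) (q.asIdeal.map (algebraMap S (Localization.Away (g i))))]
    rw [show (q.asIdeal.map (algebraMap S (Localization.Away (g i)))).under S = q.asIdeal from
      IsLocalization.under_map_of_isPrime_disjoint (Submonoid.powers (g i)) _ q.2 hdisj]
    exact (congrArg PrimeSpectrum.asIdeal hq).symm
  obtain ⟨g', hg', φ, -⟩ := CAlg48.SplitCover.exists_hom (P i).2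
    (hsplit _ (Finset.mem_image.mpr ⟨i, hi, rfl⟩)) _ q' hund
  exact ⟨g', hg', ⟨φ.comp (IsScalarTower.toAlgHom R S _)⟩⟩

end Groth.Agent.S9454
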