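import Groth.Statements.S9456
import Groth.Agent.FlatOpen.Descend
-- import your own Groth.Agent.* helpers here

set_option autoImplicit false
universe u
open CAlg
set_option linter.style.haveILetI false
open TensorProduct Function

namespace Groth.Agent.S9456

/-- A base change along `P₁ → P` between modules killed by the kernels of the surjections
`P₁ → S₀`, `P → S` is a base change along `S₀ → S`. -/
theorem baseChange_quot {P₁ P S₀ S M₀ N M : Type u} [CommRing P₁] [CommRing P] [CommRing S₀]
    [CommRing S] [Algebra P₁ P] [Algebra S₀ S] [AddCommGroup M₀] [Module P₁ M₀] [Module S₀ M₀]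
    [AddCommGroup N] [Module P N] [Module P₁ N] [IsScalarTower P₁ P N]
    [AddCommGroup M] [Module S M] [Module S₀ M] [IsScalarTower S₀ S M]
    (q : P₁ →+* S₀) (hq : Surjective q) (π : P →+* S) (hπ : Surjective π)
    (hcomm : ∀ p, algebraMap S₀ S (q p) = π (algebraMap P₁ P p))
    (hM₀ : ∀ (p : P₁) (m : M₀), q p • m = p • m)
    (g : M₀ →ₗ[P₁] N) (hg : IsBaseChange P g) (E : N ≃+ M)
    (hE : ∀ (a : P) (x : N), E (a • x) = π a • E x) :
    ∃ f : M₀ →ₗ[S₀] M, IsBaseChange S f := by
  let f : M₀ →ₗ[S₀] M :=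
    { toFun := fun m => E (g m)
      map_add' := fun x y => by rw [map_add, map_add]
      map_smul' := fun a m => by
        obtain ⟨p, rfl⟩ := hq a
        rw [RingHom.id_apply, hM₀, map_smul, ← algebraMap_smul P, hE, ← hcomm, algebraMap_smul] }
  refine ⟨f, IsBaseChange.of_lift_unique _ fun Q _ _ _ _ h => ?_⟩
  letI : Module P Q := Module.compHom Q π
  letI : Module P₁ Q := Module.compHom Q (π.comp (algebraMap P₁ P))
  haveI : IsScalarTower P₁ P Q := IsScalarTower.of_algebraMap_smul fun p x => rfl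
  let h' : M₀ →ₗ[P₁] Q :=
    { toFun := h
      map_add' := h.map_add
      map_smul' := fun p m => by
        show h (p • m) = π (algebraMap P₁ P p) • h m
        rw [← hM₀, map_smul, ← algebraMap_smul S (q p) (h m), hcomm] }
  let F : N →ₗ[P] Q := hg.lift h'
  refine ⟨{ toFun := fun x => F (E.symm x)
            map_add' := fun x y => by rw [map_add, map_add]
            map_smul' := fun s x => ?_ }, ?_, ?_⟩
  · obtain ⟨p, rfl⟩ := hπ s
    have : E.symm (π p • x) = p • E.symm x := by
      apply E.injective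
      rw [hE, E.apply_symm_apply, E.apply_symm_apply]
    rw [this, map_smul]
    rfl
  · ext m
    show F (E.symm (E (g m))) = h m
    rw [E.symm_apply_apply]
    exact hg.lift_eq h' m
  · intro G hG
    ext x
    obtain ⟨y, rfl⟩ := E.surjective x
    show G (E y) = F (E.symm (E y))
    rw [E.symm_apply_apply]
    let G' : N →ₗ[P] Q :=
      { toFun := fun y => G (E y)
        map_add' := fun a b => by rw [map_add, map_add]
        map_smul' := fun p a => by
          show G (E (p • a)) = π p • G (E a)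
          rw [hE, map_smul] }
    have : G' = F := hg.algHom_ext _ _ fun m =>
      (LinearMap.congr_fun hG m).trans (hg.lift_eq h' m).symm
    exact LinearMap.congr_fun this y

set_option maxHeartbeats 1000000 in
/-- The model built from a flat presentation over a finite type `ℤ`-algebra `R₁`. -/
theorem model (R : Type u) [CommRing R]
    (S : Type u) [CommRing S] [Algebra R S] (M : Type u)
    [AddCommGroup M] [Module S M] [Module R M] [IsScalarTower R S M]
    {n r : ℕ} (π : MvPolynomial (Fin n) R →ₐ[R] S) (hπ : Surjective π)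
    (A : Type u) [CommRing A] [Algebra A R]
    (Z' : Submodule (MvPolynomial (Fin n) A) (FlatOpen.Vec n r A))
    (K₀ : Ideal (MvPolynomial (Fin n) A)) (hKZ : K₀ • ⊤ ≤ Z')
    (hKπ : ∀ a ∈ K₀, π (MvPolynomial.map (algebraMap A R) a) = 0)
    (hπK : RingHom.ker π.toRingHom ≤ K₀.map (MvPolynomial.map (algebraMap A R)))
    (E' : FlatOpen.Quot R Z' ≃ₗ[R] M)
    (hE' : ∀ (a : MvPolynomial (Fin n) R) (x : FlatOpen.Quot R Z'), E' (a • x) = π a • E' x)
    (R₁ : Type u) [CommRing R₁] [Algebra A R₁] [Algebra R₁ R] [IsScalarTower A R₁ R]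
    [Algebra R₁ S] [IsScalarTower R₁ R S]
    [Module R₁ M] [IsScalarTower R₁ R M]
    (hfin : Algebra.FiniteType ℤ R₁) (hflat : Module.Flat R₁ (FlatOpen.Quot R₁ Z')) :
    ∃ (R₀ : Type u) (_ : CommRing R₀) (_ : Algebra R₀ R) (S₀ : Type u) (_ : CommRing S₀)
      (_ : Algebra R₀ S₀) (_ : Algebra S₀ S) (_ : Algebra R₀ S) (_ : IsScalarTower R₀ R S)
      (_ : IsScalarTower R₀ S₀ S) (M₀ : Type u) (_ : AddCommGroup M₀) (_ : Module S₀ M₀)
      (_ : Module R₀ M₀) (_ : IsScalarTower R₀ S₀ M₀) (_ : Module S₀ M) (_ : IsScalarTower S₀ S M)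
      (f : M₀ →ₗ[S₀] M),
      Algebra.FiniteType ℤ R₀ ∧ Algebra.FiniteType R₀ S₀ ∧ Module.Finite S₀ M₀ ∧ Module.Flat R₀ M₀ ∧
        Algebra.IsPushout R₀ R S₀ S ∧ IsBaseChange S f := by
  classical
  let P := MvPolynomial (Fin n) R
  let P₁ := MvPolynomial (Fin n) R₁
  let K : Ideal P₁ := K₀.map (MvPolynomial.map (algebraMap A R₁))
  let S₀ := P₁ ⧸ K
  let φ : P₁ →+* S := π.toRingHom.comp (MvPolynomial.map (algebraMap R₁ R))
  have hφK : K ≤ RingHom.ker φ := by
    rw [Ideal.map_le_iff_le_comap]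
    intro a ha
    show π (MvPolynomial.map (algebraMap R₁ R) (MvPolynomial.map (algebraMap A R₁) a)) = 0
    rw [MvPolynomial.map_map, ← IsScalarTower.algebraMap_eq]
    exact hKπ a ha
  letI : Algebra S₀ S := (Ideal.Quotient.lift K φ fun a ha => hφK ha).toAlgebra
  have hR₁R : IsScalarTower R₁ R S := inferInstance
  haveI : IsScalarTower R₁ S₀ S := IsScalarTower.of_algebraMap_eq (R := R₁) (S := S₀) (A := S) fun a => by
    show algebraMap R₁ S a = π (MvPolynomial.map (algebraMap R₁ R) (MvPolynomial.C a))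
    rw [MvPolynomial.map_C, ← MvPolynomial.algebraMap_eq, π.commutes,
      IsScalarTower.algebraMap_apply R₁ R S]
  let M₀ := FlatOpen.Quot R₁ Z'
  have htors : Module.IsTorsionBySet P₁ M₀ (K : Set P₁) := by
    rintro m ⟨a, ha⟩
    obtain ⟨v, rfl⟩ := Submodule.Quotient.mk_surjective _ m
    show a • Submodule.Quotient.mk v = 0
    rw [← Submodule.Quotient.mk_smul, Submodule.Quotient.mk_eq_zero]
    suffices h : K • (⊤ : Submodule P₁ (FlatOpen.Vec n r R₁)) ≤ FlatOpen.ext R₁ Z' from
      h (Submodule.smul_mem_smul ha trivial)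
    rw [show K = Ideal.span (MvPolynomial.map (algebraMap A R₁) '' (K₀ : Set _)) from rfl,
      Submodule.smul_le]
    intro b hb v _
    induction hb using Submodule.span_induction with
    | mem x hx =>
      obtain ⟨k, hk, rfl⟩ := hx
      rw [pi_eq_sum_univ' v, Finset.smul_sum]
      refine Submodule.sum_mem _ fun i _ => ?_
      rw [smul_comm]
      refine Submodule.smul_mem _ _ ?_
      have hs : MvPolynomial.map (algebraMap A R₁) k • (Pi.single i 1 : FlatOpen.Vec n r R₁) =
          FlatOpen.mapVec R₁ (k • (Pi.single i 1 : FlatOpen.Vec n r A)) := by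
        rw [FlatOpen.mapVec_smul]
        congr 1
        funext j
        rw [FlatOpen.mapVec_apply]
        rcases eq_or_ne j i with rfl | hji
        · simp
        · simp [Pi.single_eq_of_ne hji]
      rw [hs]
      exact FlatOpen.mapVec_mem_ext R₁ Z' (hKZ (Submodule.smul_mem_smul hk trivial))
    | zero => rw [zero_smul]; exact zero_mem _
    | add x y _ _ hx hy => rw [add_smul]; exact add_mem hx hy
    | smul p x _ hx => rw [smul_assoc]; exact Submodule.smul_mem _ _ hx
  letI : Module S₀ M₀ := htors.module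
  haveI : IsScalarTower R₁ S₀ M₀ := htors.isScalarTower
  haveI : IsScalarTower P₁ S₀ M₀ := htors.isScalarTower
  letI : Module S₀ M := Module.compHom M (algebraMap S₀ S)
  haveI : IsScalarTower S₀ S M := IsScalarTower.of_algebraMap_smul fun _ _ => rfl
  -- base change of the module
  letI := MvPolynomial.algebraMvPolynomial (σ := Fin n) (R := R₁) (S := R)
  letI : Module P₁ (FlatOpen.Quot R Z') := Module.compHom _ (algebraMap P₁ P)
  haveI : IsScalarTower P₁ P (FlatOpen.Quot R Z') :=
    IsScalarTower.of_algebraMap_smul fun _ _ => rfl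
  obtain ⟨g, hg⟩ : ∃ g : M₀ →ₗ[P₁] FlatOpen.Quot R Z', IsBaseChange P g :=
    FlatOpen.exists_isBaseChange_quot R Z' R₁
  obtain ⟨f, hf⟩ := baseChange_quot (Ideal.Quotient.mk K) Ideal.Quotient.mk_surjective
    π.toRingHom hπ (fun p => rfl) (fun p m => rfl) g hg E'.toAddEquiv hE'
  -- base change of the algebra
  have hpush : Algebra.IsPushout R₁ R S₀ S := by
    let mkK : P₁ →ₐ[R₁] S₀ := Ideal.Quotient.mkₐ R₁ K
    let u : P →ₐ[R] R ⊗[R₁] S₀ :=
      MvPolynomial.aeval fun i => (1 : R) ⊗ₜ[R₁] mkK (MvPolynomial.X i)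
    have hu : u.toRingHom.comp (MvPolynomial.map (algebraMap R₁ R)) =
        (Algebra.TensorProduct.includeRight : S₀ →ₐ[R₁] R ⊗[R₁] S₀).toRingHom.comp
          mkK.toRingHom := by
      refine MvPolynomial.ringHom_ext (fun a => ?_) fun i => ?_
      · show u (MvPolynomial.map (algebraMap R₁ R) (MvPolynomial.C a)) =
          (1 : R) ⊗ₜ[R₁] mkK (MvPolynomial.C a)
        rw [MvPolynomial.map_C, MvPolynomial.aeval_C, ← MvPolynomial.algebraMap_eq, mkK.commutes,
          Algebra.TensorProduct.algebraMap_apply, Algebra.algebraMap_self_apply,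
          Algebra.algebraMap_eq_smul_one, Algebra.algebraMap_eq_smul_one, TensorProduct.smul_tmul]
      · show u (MvPolynomial.map (algebraMap R₁ R) (MvPolynomial.X i)) =
          (1 : R) ⊗ₜ[R₁] mkK (MvPolynomial.X i)
        rw [MvPolynomial.map_X, MvPolynomial.aeval_X]
    have huk : ∀ a ∈ RingHom.ker π.toRingHom, u a = 0 := by
      suffices h : RingHom.ker π.toRingHom ≤ RingHom.ker u from fun a ha => h ha
      refine hπK.trans (Ideal.map_le_iff_le_comap.2 fun v hv => ?_)
      show u (MvPolynomial.map (algebraMap A R) v) = 0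
      rw [IsScalarTower.algebraMap_eq A R₁ R, ← MvPolynomial.map_map]
      refine (RingHom.congr_fun hu _).trans ?_
      have hwK : MvPolynomial.map (algebraMap A R₁) v ∈ K := Ideal.mem_map_of_mem _ hv
      show (1 : R) ⊗ₜ[R₁] mkK (MvPolynomial.map (algebraMap A R₁) v) = 0
      rw [show mkK (MvPolynomial.map (algebraMap A R₁) v) = 0 from
        Ideal.Quotient.eq_zero_iff_mem.2 hwK, tmul_zero]
    let ψ : S →ₐ[R] R ⊗[R₁] S₀ := AlgHom.liftOfSurjective (C := R ⊗[R₁] S₀) π hπ u fun a ha => RingHom.mem_ker.2 (huk a ha)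
    let θ : R ⊗[R₁] S₀ →ₐ[R] S :=
      Algebra.TensorProduct.lift (Algebra.ofId R S) (IsScalarTower.toAlgHom R₁ S₀ S)
        fun _ _ => Commute.all _ _
    have hψπ : ∀ p, ψ (π p) = u p := fun p => AlgHom.liftOfSurjective_apply _ _ _ _ _
    have hθψ : θ.comp ψ = AlgHom.id R S := by
      refine (AlgHom.cancel_right hπ).1 (MvPolynomial.algHom_ext fun i => ?_)
      show θ (ψ (π (MvPolynomial.X i))) = π (MvPolynomial.X i)
      rw [hψπ, MvPolynomial.aeval_X, Algebra.TensorProduct.lift_tmul, map_one, one_mul]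
      show φ (MvPolynomial.X i) = _
      exact congrArg π (MvPolynomial.map_X _ i)
    have hψθ : ψ.comp θ = AlgHom.id R (R ⊗[R₁] S₀) := by
      refine Algebra.TensorProduct.ext (Subsingleton.elim _ _) (AlgHom.ext fun s => ?_)
      obtain ⟨p, rfl⟩ := Ideal.Quotient.mk_surjective s
      show ψ (θ ((1 : R) ⊗ₜ[R₁] Ideal.Quotient.mk K p)) = (1 : R) ⊗ₜ[R₁] Ideal.Quotient.mk K p
      rw [Algebra.TensorProduct.lift_tmul, map_one, one_mul]
      show ψ (π (MvPolynomial.map (algebraMap R₁ R) p)) = _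
      rw [hψπ]
      exact RingHom.congr_fun hu p
    let e : R ⊗[R₁] S₀ ≃ₐ[R] S := AlgEquiv.ofAlgHom θ ψ hθψ hψθ
    exact ⟨IsBaseChange.of_equiv e.toLinearEquiv fun s => by
      show θ ((1 : R) ⊗ₜ[R₁] s) = _
      rw [Algebra.TensorProduct.lift_tmul, map_one, one_mul]
      rfl⟩
  haveI : Module.Finite P₁ M₀ := inferInstance
  exact ⟨R₁, inferInstance, inferInstance, S₀, inferInstance, inferInstance, inferInstance,
    inferInstance, hR₁R, inferInstance, M₀, inferInstance, inferInstance, inferInstance,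
    inferInstance, inferInstance, inferInstance, f, hfin,
    Algebra.FiniteType.of_surjective (Ideal.Quotient.mkₐ R₁ K) Ideal.Quotient.mk_surjective,
    Module.Finite.of_restrictScalars_finite P₁ S₀ M₀, hflat, hpush, hf⟩

/-- Let R → S be of finite presentation and M a finitely presented S-module which is flat over R. Then
the triple descends to a finite type ℤ-algebra: there are R₀ of finite type over ℤ with R₀ → R, a
finite type R₀-algebra S₀ with a compatible map S₀ → S making S the base change R ⊗_{R₀} S₀, and a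
finite S₀-module M₀ flat over R₀ with an S₀-linear map M₀ → M making M the base change S ⊗_{S₀} M₀. -/
theorem result (R : Type u) [CommRing R]
    (S : Type u) [CommRing S] [Algebra R S] [Algebra.FinitePresentation R S] (M : Type u)
    [AddCommGroup M] [Module S M] [Module R M] [IsScalarTower R S M]
    [Module.FinitePresentation S M] [Module.Flat R M] :
    ∃ (R₀ : Type u) (_ : CommRing R₀) (_ : Algebra R₀ R) (S₀ : Type u) (_ : CommRing S₀)
      (_ : Algebra R₀ S₀) (_ : Algebra S₀ S) (_ : Algebra R₀ S) (_ : IsScalarTower R₀ R S)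
      (_ : IsScalarTower R₀ S₀ S) (M₀ : Type u) (_ : AddCommGroup M₀) (_ : Module S₀ M₀)
      (_ : Module R₀ M₀) (_ : IsScalarTower R₀ S₀ M₀) (_ : Module S₀ M) (_ : IsScalarTower S₀ S M)
      (f : M₀ →ₗ[S₀] M),
      Algebra.FiniteType ℤ R₀ ∧ Algebra.FiniteType R₀ S₀ ∧ Module.Finite S₀ M₀ ∧ Module.Flat R₀ M₀ ∧
        Algebra.IsPushout R₀ R S₀ S ∧ IsBaseChange S f := by
  classical
  obtain ⟨n, r, A, Z, π, E, hA, hπ, hE⟩ := FlatOpen.exists_presentation_model R S M
  let P := MvPolynomial (Fin n) R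
  obtain ⟨T, hT⟩ : (RingHom.ker π.toRingHom).FG :=
    Algebra.FinitePresentation.ker_fG_of_surjective π hπ
  let c : Finset R := T.biUnion fun v => v.coeffs
  let A' : Subalgebra ℤ R := A ⊔ Algebra.adjoin ℤ (c : Set R)
  have hA' : A'.FG := hA.sup ⟨c, rfl⟩
  have hAA' : A ≤ A' := le_sup_left
  letI : Algebra A A' := (Subalgebra.inclusion hAA').toRingHom.toAlgebra
  haveI : IsScalarTower A A' R := IsScalarTower.of_algebraMap_eq fun _ => rfl
  haveI : IsNoetherianRing A' := isNoetherianRing_of_fg hA'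
  have hlift : ∀ v ∈ T, ∃ w : MvPolynomial (Fin n) A', MvPolynomial.map (algebraMap A' R) w = v :=
    fun v hv => MvPolynomial.mem_range_map_iff_coeffs_subset.2 fun x hx =>
      ⟨⟨x, (le_sup_right : Algebra.adjoin ℤ (c : Set R) ≤ A')
        (Algebra.subset_adjoin (Finset.mem_biUnion.2 ⟨v, hv, hx⟩))⟩, rfl⟩
  choose! w hw using hlift
  let K₀ : Ideal (MvPolynomial (Fin n) A') := Ideal.span (w '' (T : Set P))
  let Z' : Submodule (MvPolynomial (Fin n) A') (FlatOpen.Vec n r A') :=
    FlatOpen.ext A' Z ⊔ K₀ • ⊤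
  -- the kernel of `π` kills the presented module
  have hkill : ∀ a : P, π a = 0 → ∀ v : FlatOpen.Vec n r R, a • v ∈ FlatOpen.ext R Z := by
    intro a ha v
    rw [← Submodule.Quotient.mk_eq_zero, Submodule.Quotient.mk_smul]
    apply E.injective
    rw [hE, ha, zero_smul, map_zero]
  have hKπ : ∀ a ∈ K₀, π (MvPolynomial.map (algebraMap A' R) a) = 0 := by
    intro a ha
    have hle : K₀ ≤ (RingHom.ker π.toRingHom).comap (MvPolynomial.map (algebraMap A' R)) := by
      rw [Ideal.span_le]
      rintro - ⟨v, hv, rfl⟩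
      show MvPolynomial.map (algebraMap A' R) (w v) ∈ RingHom.ker π.toRingHom
      rw [hw v hv, ← hT]
      exact Submodule.subset_span hv
    exact hle ha
  have hKv : ∀ b ∈ K₀ • (⊤ : Submodule _ (FlatOpen.Vec n r A')),
      FlatOpen.mapVec R b ∈ FlatOpen.ext R Z := fun b hb => by
    refine Submodule.smul_induction_on hb (fun k hk v _ => ?_) (fun x y hx hy => ?_)
    · rw [FlatOpen.mapVec_smul]
      exact hkill _ (hKπ k hk) _
    · rw [map_add]; exact add_mem hx hy
  have hext : FlatOpen.ext R Z' = FlatOpen.ext R Z := by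
    refine le_antisymm (Submodule.span_le.2 ?_) ?_
    · rintro - ⟨v, hv, rfl⟩
      obtain ⟨a, ha, b, hb, rfl⟩ := Submodule.mem_sup.1 hv
      rw [map_add]
      refine add_mem ?_ ?_
      · rw [← FlatOpen.ext_ext R Z A']
        exact FlatOpen.mapVec_mem_ext R _ ha
      · exact hKv b hb
    · rw [← FlatOpen.ext_ext R Z A']
      exact FlatOpen.ext_mono R le_sup_left
  let E' : FlatOpen.Quot R Z' ≃ₗ[R] M :=
    ((Submodule.quotEquivOfEq _ _ hext).restrictScalars R).trans E
  have hE' : ∀ (a : P) (x : FlatOpen.Quot R Z'), E' (a • x) = π a • E' x := by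
    intro a x
    show E (Submodule.quotEquivOfEq _ _ hext (a • x)) = _
    rw [map_smul, hE]
    rfl
  haveI : Module.Flat R (FlatOpen.Quot R Z') := Module.Flat.of_linearEquiv E'
  obtain ⟨R₁, hR₁, hflat⟩ := FlatOpen.exists_model_flat_all Z' R
  have hπK : RingHom.ker π.toRingHom ≤ K₀.map (MvPolynomial.map (algebraMap A' R)) := by
    rw [← hT, Submodule.span_le]
    intro v hv
    rw [← hw v hv]
    exact Ideal.mem_map_of_mem _ (Ideal.subset_span ⟨v, hv, rfl⟩)
  haveI : Algebra.FiniteType ℤ A' := (Subalgebra.fg_iff_finiteType A').1 hA'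
  haveI : Algebra.FiniteType A' R₁ := (Subalgebra.fg_iff_finiteType R₁).1 hR₁
  exact model R S M π hπ A' Z' K₀ le_sup_right hKπ hπK E' hE' R₁
    (Algebra.FiniteType.trans (S := A') inferInstance inferInstance) hflat

end Groth.Agent.S9456
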