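import Groth.Statements.S9457
import Groth.Agent.CAlg48.EtaleSplit
-- import your own Groth.Agent.* helpers here

set_option autoImplicit false
universe u
open CAlg

namespace Groth.Agent.S9457
open TensorProduct

open TensorProduct in
/-- For a finite type ring map R → S and a prime p of R there are an étale R-algebra R', a prime p' of
R' over p with trivial residue field extension κ(p) = κ(p') (the image of R generates κ(p') as a
field), and a decomposition R' ⊗_R S ≅ A_1 × ⋯ × A_n × B of R'-algebras in which every A_i is finite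
over R' with exactly one prime lying over p' and R' → B is quasi-finite at no prime of B lying over
p'. -/
theorem result (R : Type u) [CommRing R]
    (S : Type u) [CommRing S] [Algebra R S] [Algebra.FiniteType R S] (p : Ideal R) [p.IsPrime] :
    ∃ (R' : Type u) (_ : CommRing R') (_ : Algebra R R') (_ : Algebra.Etale R R') (p' : Ideal R')
      (_ : p'.IsPrime) (_ : p'.LiesOver p) (n : ℕ) (A : Fin n → Type u) (_ : ∀ i, CommRing (A i))
      (_ : ∀ i, Algebra R' (A i)) (B : Type u) (_ : CommRing B) (_ : Algebra R' B),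
      Subfield.closure (Set.range (algebraMap R p'.ResidueField)) = ⊤ ∧
      Nonempty ((R' ⊗[R] S) ≃ₐ[R'] ((∀ i, A i) × B)) ∧
        (∀ i, Module.Finite R' (A i) ∧
          ∃! r : Ideal (A i), r.IsPrime ∧ r.comap (algebraMap R' (A i)) = p') ∧
        ∀ (q : Ideal B) [q.IsPrime], q.comap (algebraMap R' B) = p' →
          ¬ Algebra.QuasiFiniteAt R' q := by
  classical
  obtain ⟨R', _, _, _, P, _, _, n, e, hbij, he, hfin, huniq, hcov⟩ :=
    CAlg48.EtaleSplit.split_of_finset (R := R) (S := S) p (CAlg48.EtaleSplit.finite_quasiFiniteAt p).toFinset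
      fun q hq => (((CAlg48.EtaleSplit.finite_quasiFiniteAt p).mem_toFinset).mp hq :)
  let T := R' ⊗[R] S
  let s : T := ∑ i, e i
  have hs : IsIdempotentElem s := he.isIdempotentElem_sum
  refine ⟨R', _, _, ‹_›, P, ‹_›, ‹_›, n, fun i => T ⧸ Ideal.span {1 - e i}, inferInstance, inferInstance,
    T ⧸ Ideal.span {s}, inferInstance, inferInstance, ?_, ?_, fun i => ⟨hfin i, ?_⟩, fun q _ hq hqf => ?_⟩
  · rw [eq_top_iff]
    intro z _
    obtain ⟨y, rfl⟩ := hbij.2 z
    obtain ⟨a, b, -, rfl⟩ := IsFractionRing.div_surjective (A := R ⧸ p) y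
    obtain ⟨a, rfl⟩ := Ideal.Quotient.mk_surjective a
    obtain ⟨b, rfl⟩ := Ideal.Quotient.mk_surjective b
    rw [map_div₀]
    refine div_mem (Subfield.subset_closure ⟨a, ?_⟩) (Subfield.subset_closure ⟨b, ?_⟩)
    · exact ((Ideal.ResidueField.mapₐ p P (Algebra.ofId _ _) (P.over_def p)).commutes a).symm
    · exact ((Ideal.ResidueField.mapₐ p P (Algebra.ofId _ _) (P.over_def p)).commutes b).symm
  · let Φ : T →ₐ[R'] ((i : Fin n) → T ⧸ Ideal.span {1 - e i}) × (T ⧸ Ideal.span {s}) :=
      AlgHom.prod (Pi.algHom R' _ fun i => Ideal.Quotient.mkₐ R' _) (Ideal.Quotient.mkₐ R' _)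
    refine ⟨AlgEquiv.ofBijective Φ ⟨?_, ?_⟩⟩
    · rw [injective_iff_map_eq_zero]
      intro x hx
      have h2 : Ideal.Quotient.mk (Ideal.span {s}) x = 0 := congrArg Prod.snd hx
      have h1 : ∀ i, e i * x = 0 := fun i => by
        have h := congrFun (congrArg Prod.fst hx) i
        obtain ⟨y, rfl⟩ := Ideal.mem_span_singleton.mp (Ideal.Quotient.eq_zero_iff_mem.mp h)
        rw [← mul_assoc, mul_sub, mul_one, (he.idem i).eq, sub_self, zero_mul]
      obtain ⟨y, rfl⟩ := Ideal.mem_span_singleton.mp (Ideal.Quotient.eq_zero_iff_mem.mp h2)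
      have h3 : s * (s * y) = 0 := by
        rw [Finset.sum_mul]
        exact Finset.sum_eq_zero fun i _ => h1 i
      rwa [← mul_assoc, hs.eq] at h3
    · rintro ⟨f, b⟩
      choose x hx using fun i => Ideal.Quotient.mk_surjective (f i)
      obtain ⟨y, rfl⟩ := Ideal.Quotient.mk_surjective b
      refine ⟨(∑ j, e j * x j) + (1 - s) * y, Prod.ext (funext fun i => ?_) ?_⟩
      · show Ideal.Quotient.mk (Ideal.span {1 - e i}) _ = f i
        rw [← hx i, Ideal.Quotient.eq]
        have h1 : e i * ((∑ j, e j * x j) + (1 - s) * y) = e i * x i := by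
          rw [mul_add, Finset.mul_sum, ← mul_assoc (e i) (1 - s), mul_sub, mul_one,
            show e i * s = e i from (by simp [s, Finset.mul_sum, he.mul_eq]), sub_self, zero_mul, add_zero]
          simp [← mul_assoc, he.mul_eq]
        refine Ideal.mem_span_singleton'.mpr ⟨(∑ j, e j * x j) + (1 - s) * y - x i, ?_⟩
        linear_combination -h1
      · show Ideal.Quotient.mk (Ideal.span {s}) _ = Ideal.Quotient.mk _ y
        rw [Ideal.Quotient.eq]
        refine Ideal.mem_span_singleton'.mpr ⟨(∑ j, e j * x j) - y, ?_⟩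
        have h1 : (∑ j, e j * x j) * s = ∑ j, e j * x j := by
          rw [Finset.sum_mul]
          refine Finset.sum_congr rfl fun j _ => ?_
          rw [mul_right_comm, show e j * s = e j from (by simp [s, Finset.mul_sum, he.mul_eq])]
        linear_combination h1
  · obtain ⟨Q, ⟨hQ, hQP, hQe⟩, hu⟩ := huniq i
    haveI := hQ
    have hle : Ideal.span {1 - e i} ≤ Q := by
      rw [Ideal.span_le, Set.singleton_subset_iff]
      refine (hQ.mem_or_mem ?_).resolve_right hQe
      rw [sub_mul, one_mul, (he.idem i).eq, sub_self]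
      exact Q.zero_mem
    have hQc : (Q.map (Ideal.Quotient.mk (Ideal.span {1 - e i}))).comap (Ideal.Quotient.mk _) = Q := by
      rw [Ideal.comap_map_of_surjective _ Ideal.Quotient.mk_surjective, ← RingHom.ker_eq_comap_bot, Ideal.mk_ker,
        sup_eq_left.mpr hle]
    refine ⟨Q.map (Ideal.Quotient.mk (Ideal.span {1 - e i})), ⟨Ideal.map_isPrime_of_surjective
      Ideal.Quotient.mk_surjective (by rwa [Ideal.mk_ker]), ?_⟩, ?_⟩
    · rw [show algebraMap R' (T ⧸ Ideal.span {1 - e i}) = (Ideal.Quotient.mk _).comp (algebraMap R' T) from rfl,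
        ← Ideal.comap_comap, hQc]
      exact (hQP.over).symm
    · rintro r ⟨hr, hrP⟩
      haveI := hr
      apply Ideal.comap_injective_of_surjective _ Ideal.Quotient.mk_surjective
      rw [hQc]
      refine hu _ ⟨Ideal.comap_isPrime _ _, ⟨?_⟩, fun h => hr.ne_top ((Ideal.eq_top_iff_one _).mpr ?_)⟩
      · rw [Ideal.under_def, Ideal.comap_comap]; exact hrP.symm
      · rw [Ideal.mem_comap, show Ideal.Quotient.mk (Ideal.span {1 - e i}) (e i) = 1 from
          ((Ideal.Quotient.eq).mpr (by simpa using Ideal.mem_span_singleton_self (1 - e i)) :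
            Ideal.Quotient.mk _ 1 = Ideal.Quotient.mk _ (e i)).symm.trans (map_one _)] at h
        exact h
  · haveI := hqf
    haveI := Hensel.quasiFiniteAt_comap_quotient (R := R') hs q
    let Q := q.comap (Ideal.Quotient.mk (Ideal.span {s}))
    haveI : Q.LiesOver P := ⟨by rw [Ideal.under_def, Ideal.comap_comap]; exact hq.symm⟩
    have hqS := CAlg48.EtaleSplit.quasiFiniteAt_comap p P hbij Q
    obtain ⟨i, hi⟩ := hcov Q inferInstance ((Set.Finite.mem_toFinset _).mpr ⟨Ideal.comap_isPrime _ _, ⟨by
      haveI : Q.LiesOver p := .trans Q P p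
      rw [Ideal.under_def, Ideal.comap_comap, AlgHom.toRingHom_eq_coe, AlgHom.comp_algebraMap, ← Ideal.under_def]
      exact Q.over_def p⟩, hqS⟩)
    refine hi ?_
    show Ideal.Quotient.mk (Ideal.span {s}) (e i) ∈ q
    rw [show e i = e i * s from (by simp [s, Finset.mul_sum, he.mul_eq]), map_mul,
      Ideal.Quotient.eq_zero_iff_mem.mpr (Ideal.mem_span_singleton_self s), mul_zero]
    exact q.zero_mem

end Groth.Agent.S9457
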