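import Groth.Statements.S9458
import Groth.Agent.Hensel.QFinite
import Groth.Agent.EtaleSite.SplitAlg
import Groth.Agent.Hens.Unique

set_option autoImplicit false
universe u
open scoped TensorProduct
open Hensel

namespace Groth.Agent.S9458

/-- Let R → S be of finite type and quasi-finite at a prime q lying over p, and let R_p^h, S_q^h be
henselizations of the local rings, S_q^h carrying the compatible R_p^h-algebra structure (the
canonical local map R_p^h → S_q^h). Then S_q^h is finite over R_p^h. (The published statement also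
identifies S_q^h with a localization of R_p^h ⊗_{R_p} S_q; this row states only that S_q^h is finite
over R_p^h.) -/
theorem result (R : Type u) [CommRing R] (S : Type u)
    [CommRing S] [Algebra R S] [Algebra.FiniteType R S] (p : Ideal R) [p.IsPrime] (q : Ideal S)
    [q.IsPrime] [q.LiesOver p] [Algebra.QuasiFiniteAt R q]
    (Rh : Type u) [CommRing Rh] [IsLocalRing Rh] [Algebra (Localization.AtPrime p) Rh]
    [IsLocalHom (algebraMap (Localization.AtPrime p) Rh)]
    [Hensel.IsHenselization (Localization.AtPrime p) Rh]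
    (Sh : Type u) [CommRing Sh] [IsLocalRing Sh] [Algebra (Localization.AtPrime q) Sh]
    [IsLocalHom (algebraMap (Localization.AtPrime q) Sh)]
    [Hensel.IsHenselization (Localization.AtPrime q) Sh]
    [Algebra (Localization.AtPrime p) (Localization.AtPrime q)]
    [IsScalarTower R (Localization.AtPrime p) (Localization.AtPrime q)]
    [Algebra Rh Sh] [Algebra (Localization.AtPrime p) Sh]
    [IsScalarTower (Localization.AtPrime p) Rh Sh]
    [IsScalarTower (Localization.AtPrime p) (Localization.AtPrime q) Sh] :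
    Module.Finite Rh Sh := by
  obtain ⟨hRh, hRu⟩ := ‹Hensel.IsHenselization (Localization.AtPrime p) Rh›
  obtain ⟨hSh, hSu⟩ := ‹Hensel.IsHenselization (Localization.AtPrime q) Sh›
  haveI := hRh
  haveI := hSh
  let Rp := Localization.AtPrime p
  let Sq := Localization.AtPrime q
  haveI : IsLocalHom (algebraMap Rp Sq) := ⟨fun z hz => by
    obtain ⟨r, s, rfl⟩ := IsLocalization.exists_mk'_eq p.primeCompl z
    rw [IsLocalization.AtPrime.isUnit_mk'_iff]
    have h1 := hz.mul ((IsLocalization.map_units Rp s).map (algebraMap Rp Sq))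
    rw [← map_mul, IsLocalization.mk'_spec, ← IsScalarTower.algebraMap_apply,
      IsScalarTower.algebraMap_apply R S Sq] at h1
    exact fun hr => (IsLocalization.AtPrime.isUnit_to_map_iff Sq q _).1 h1 ((q.mem_of_liesOver p r).1 hr)⟩
  haveI : IsLocalHom (algebraMap Rh Sh) := by
    refine ((IsLocalRing.local_hom_TFAE (algebraMap Rh Sh)).out 0 2).2 ?_
    have hm : IsLocalRing.maximalIdeal Rh = (IsLocalRing.maximalIdeal Rp).map (algebraMap Rp Rh) :=
      (Hens.map_maximalIdeal_of_isHenselization (R := Rp) Rh).symm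
    rw [hm, Ideal.map_map, ← IsScalarTower.algebraMap_eq, IsScalarTower.algebraMap_eq Rp Sq Sh]
    refine ((IsLocalRing.local_hom_TFAE ((algebraMap Sq Sh).comp (algebraMap Rp Sq))).out 0 2).1 ?_
    exact RingHom.isLocalHom_comp _ _
  letI : Algebra R Rh := ((algebraMap Rp Rh).comp (algebraMap R Rp)).toAlgebra
  haveI : IsScalarTower R Rp Rh := .of_algebraMap_eq' rfl
  letI : Algebra R Sh := ((algebraMap Rh Sh).comp (algebraMap R Rh)).toAlgebra
  haveI : IsScalarTower R Rh Sh := .of_algebraMap_eq' rfl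
  let ι : S →ₐ[R] Sh :=
    { toRingHom := (algebraMap Sq Sh).comp (algebraMap S Sq)
      commutes' := fun r => by
        show algebraMap Sq Sh (algebraMap S Sq (algebraMap R S r)) =
          algebraMap Rh Sh (algebraMap Rp Rh (algebraMap R Rp r))
        rw [← IsScalarTower.algebraMap_apply R S Sq, IsScalarTower.algebraMap_apply R Rp Sq,
          ← IsScalarTower.algebraMap_apply Rp Sq Sh, ← IsScalarTower.algebraMap_apply Rp Rh Sh] }
  let μ : Rh ⊗[R] S →ₐ[Rh] Sh := Algebra.TensorProduct.lift (Algebra.ofId Rh Sh) ι fun _ _ => Commute.all _ _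
  let q' : Ideal (Rh ⊗[R] S) := (IsLocalRing.maximalIdeal Sh).comap μ.toRingHom
  have hqq : q = q'.comap Algebra.TensorProduct.includeRight.toRingHom := by
    ext s
    show s ∈ q ↔ μ ((1 : Rh) ⊗ₜ[R] s) ∈ IsLocalRing.maximalIdeal Sh
    rw [Algebra.TensorProduct.lift_tmul, map_one, one_mul]
    show _ ↔ algebraMap Sq Sh (algebraMap S Sq s) ∈ IsLocalRing.maximalIdeal Sh
    rw [IsLocalRing.mem_maximalIdeal, mem_nonunits_iff, isUnit_map_iff,
      IsLocalization.AtPrime.isUnit_to_map_iff Sq q]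
    exact not_not.symm
  haveI : Algebra.QuasiFiniteAt Rh q' := Algebra.QuasiFiniteAt.baseChange q q' hqq
  haveI hlo : q'.LiesOver (IsLocalRing.maximalIdeal Rh) := ⟨by
    ext a
    rw [Ideal.under_def, Ideal.mem_comap]
    show _ ↔ μ (algebraMap Rh _ a) ∈ IsLocalRing.maximalIdeal Sh
    rw [μ.commutes, IsLocalRing.mem_maximalIdeal, IsLocalRing.mem_maximalIdeal, mem_nonunits_iff,
      mem_nonunits_iff, isUnit_map_iff]⟩
  obtain ⟨e, he, heq, hfin, huniq⟩ := Hensel.exists_idempotent_of_quasiFiniteAt (R := Rh) q'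
  haveI := hfin
  let I : Ideal (Rh ⊗[R] S) := Ideal.span {1 - e}
  have hμe : μ e = 1 := by
    have hu : IsUnit (μ e) := by
      by_contra h; exact heq h
    exact hu.mul_left_cancel (by rw [mul_one]; exact (he.map μ).eq)
  have hIμ : ∀ a ∈ I, μ a = 0 := fun a ha => by
    obtain ⟨c, rfl⟩ := Ideal.mem_span_singleton'.1 ha
    rw [map_mul, map_sub, map_one, hμe, sub_self, mul_zero]
  let μ' : ((Rh ⊗[R] S) ⧸ I) →ₐ[Rh] Sh := Ideal.Quotient.liftₐ I μ hIμ
  have hIq : I ≤ q' := fun a ha => by
    show μ a ∈ IsLocalRing.maximalIdeal Sh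
    rw [hIμ a ha]; exact zero_mem _
  have honly : ∀ M : Ideal ((Rh ⊗[R] S) ⧸ I), M.IsMaximal → M.comap (Ideal.Quotient.mk I) = q' := by
    intro M hM
    have h1 : (M.comap (Ideal.Quotient.mk I)).IsMaximal :=
      Ideal.comap_isMaximal_of_surjective _ Ideal.Quotient.mk_surjective
    refine huniq _ h1.isPrime ⟨?_⟩ fun he' => ?_
    · have h2 : (M.comap (algebraMap Rh ((Rh ⊗[R] S) ⧸ I))).IsMaximal :=
        Ideal.isMaximal_comap_of_isIntegral_of_isMaximal (R := Rh) M
      exact (IsLocalRing.eq_maximalIdeal h2).symm.trans (Ideal.comap_comap _ _).symm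
    · have h3 : (1 : (Rh ⊗[R] S) ⧸ I) - Ideal.Quotient.mk I e = 0 := by
        rw [← map_one (Ideal.Quotient.mk I), ← map_sub]
        exact Ideal.Quotient.eq_zero_iff_mem.2 (Ideal.subset_span rfl)
      exact hM.ne_top ((Ideal.eq_top_iff_one _).2 (by rw [sub_eq_zero.1 h3]; exact he'))
  have hqmap : (q'.map (Ideal.Quotient.mk I)).IsMaximal := by
    have hne : q'.map (Ideal.Quotient.mk I) ≠ ⊤ := fun h => (Ideal.IsPrime.ne_top' (I := q')) (by
      rw [Ideal.eq_top_iff_one]
      exact (Ideal.mem_quotient_iff_mem hIq).1 (by rw [h]; trivial))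
    obtain ⟨M, hM, hle⟩ := Ideal.exists_le_maximal _ hne
    have h4 := congrArg (Ideal.map (Ideal.Quotient.mk I)) (honly M hM)
    rw [Ideal.map_comap_of_surjective _ Ideal.Quotient.mk_surjective] at h4
    exact h4 ▸ hM
  haveI : IsLocalRing ((Rh ⊗[R] S) ⧸ I) := IsLocalRing.of_unique_max_ideal
    ⟨q'.map (Ideal.Quotient.mk I), hqmap, fun M hM => by
      rw [← honly M hM, Ideal.map_comap_of_surjective _ Ideal.Quotient.mk_surjective]⟩
  haveI : HenselianLocalRing ((Rh ⊗[R] S) ⧸ I) := EtaleSite.henselianLocalRing_of_finite (R := Rh)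
  let j : S →+* (Rh ⊗[R] S) ⧸ I :=
    (Ideal.Quotient.mk I).comp (Algebra.TensorProduct.includeRight : S →ₐ[R] Rh ⊗[R] S).toRingHom
  have hj : ∀ y : q.primeCompl, IsUnit (j y) := fun y => by
    by_contra h
    have h1 : j (y : S) ∈ q'.map (Ideal.Quotient.mk I) := by
      rw [IsLocalRing.eq_maximalIdeal hqmap]; exact h
    exact y.2 (hqq.symm.le ((Ideal.mem_quotient_iff_mem hIq).1 h1))
  let f : Sq →+* (Rh ⊗[R] S) ⧸ I := IsLocalization.lift hj
  have hμj : μ'.toRingHom.comp f = algebraMap Sq Sh := IsLocalization.ringHom_ext q.primeCompl (RingHom.ext fun s => by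
    show μ' (f (algebraMap S Sq s)) = _
    rw [IsLocalization.lift_eq]
    show μ ((1 : Rh) ⊗ₜ[R] s) = _
    rw [Algebra.TensorProduct.lift_tmul, map_one, one_mul]
    rfl)
  haveI : IsLocalHom f := ⟨fun x hx => isUnit_of_map_unit (algebraMap Sq Sh) x (by
    rw [← hμj]; exact hx.map μ')⟩
  obtain ⟨g, hg, -⟩ := hSu ((Rh ⊗[R] S) ⧸ I) f inferInstance
  obtain ⟨w, -, hw⟩ := hSu Sh (algebraMap Sq Sh) inferInstance
  have hid : μ'.toRingHom.comp g = RingHom.id Sh :=
    (hw _ (by show (μ'.toRingHom.comp g).comp (algebraMap Sq Sh) = algebraMap Sq Sh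
              rw [RingHom.comp_assoc, hg, hμj])).trans (hw _ (RingHom.id_comp _)).symm
  exact Module.Finite.of_surjective μ'.toLinearMap fun x => ⟨g x, RingHom.congr_fun hid x⟩

end Groth.Agent.S9458
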