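import Groth.Statements.S9461
import Groth.Agent.StrictHens.QFinite
-- import your own Groth.Agent.* helpers here

set_option autoImplicit false
universe u
open Hensel

open scoped TensorProduct

namespace Groth.Agent.S9461

/-- Let R → S be of finite type and quasi-finite at a prime q over p, and R^{sh}, S^{sh} strict
henselizations of R_p and S_q with a compatible local map R^{sh} → S^{sh} (over R). Then R^{sh} →
S^{sh} is finite and its residue field extension is finite and purely inseparable. (The published
statement also identifies S^{sh} with a localization of R^{sh} ⊗_{R_p} S_q; this row states only the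
finiteness and the residue-field assertions.) -/
theorem result (R : Type u) [CommRing R] (S : Type u)
    [CommRing S] [Algebra R S] [Algebra.FiniteType R S] (p : Ideal R) [p.IsPrime] (q : Ideal S)
    [q.IsPrime] [q.LiesOver p] [Algebra.QuasiFiniteAt R q]
    (Rh : Type u) [CommRing Rh] [IsLocalRing Rh] [Algebra (Localization.AtPrime p) Rh]
    [IsLocalHom (algebraMap (Localization.AtPrime p) Rh)]
    [Hensel.IsStrictHenselization (Localization.AtPrime p) Rh] [Algebra R Rh]
    [IsScalarTower R (Localization.AtPrime p) Rh]
    (Sh : Type u) [CommRing Sh] [IsLocalRing Sh] [Algebra (Localization.AtPrime q) Sh]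
    [IsLocalHom (algebraMap (Localization.AtPrime q) Sh)]
    [Hensel.IsStrictHenselization (Localization.AtPrime q) Sh] [Algebra S Sh]
    [IsScalarTower S (Localization.AtPrime q) Sh] [Algebra R Sh] [IsScalarTower R S Sh]
    [Algebra Rh Sh] [IsScalarTower R Rh Sh] [IsLocalHom (algebraMap Rh Sh)] :
    Module.Finite Rh Sh ∧
      Module.Finite (IsLocalRing.ResidueField Rh) (IsLocalRing.ResidueField Sh) ∧
      IsPurelyInseparable (IsLocalRing.ResidueField Rh) (IsLocalRing.ResidueField Sh) := by
  have hA : StrictHens.Basic.IsSH R Rh :=
    (StrictHens.Basic.isSH_of_isStrictHenselization (A := Localization.AtPrime p)).of_localization p.primeCompl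
  obtain ⟨S', hfg, r, hr, hbij⟩ :=
    Algebra.QuasiFiniteAt.exists_fg_and_exists_notMem_and_awayMap_bijective (R := R) q
  have : Module.Finite R S' := ⟨(Submodule.fg_top _).2 hfg⟩
  have : IsScalarTower R S' Sh := .of_algebraMap_eq fun a => IsScalarTower.algebraMap_apply R S Sh a
  have : IsScalarTower S' (Localization.AtPrime q) Sh := .of_algebraMap_eq fun x => by
    rw [IsScalarTower.algebraMap_apply S' S Sh, IsScalarTower.algebraMap_apply S' S (Localization.AtPrime q),
      ← IsScalarTower.algebraMap_apply S (Localization.AtPrime q) Sh]
  have := StrictHens.QFinite.isLocalization_comap S' q r hr hbij.2 (Localization.AtPrime q)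
  have hB : StrictHens.Basic.IsSH S' Sh :=
    (StrictHens.Basic.isSH_of_isStrictHenselization (A := Localization.AtPrime q)).of_localization
      (q.comap S'.val).primeCompl
  obtain ⟨hint, hsurj⟩ := StrictHens.Tensor.integral_of_isIntegral hA hB
  let μ : Rh ⊗[R] S' →ₐ[Rh] Sh := Algebra.TensorProduct.lift (Algebra.ofId Rh Sh)
    (IsScalarTower.toAlgHom R S' Sh) fun _ _ => Commute.all _ _
  have hμ : Function.Surjective μ := fun t => by
    obtain ⟨x, rfl⟩ := hsurj t
    refine ⟨x, ?_⟩
    induction x using TensorProduct.induction_on with
    | zero => simp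
    | add x y hx hy => simp only [map_add, hx, hy]
    | tmul a b => rfl
  have hfin : Module.Finite Rh Sh := Module.Finite.of_surjective μ.toLinearMap hμ
  have := hA.sepClosed
  exact ⟨hfin, inferInstance, StrictHens.Tensor.isPurelyInseparable_residueField Rh Sh⟩

end Groth.Agent.S9461
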