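import Groth.Statements.S9462
import Groth.Agent.S9436
-- import your own Groth.Agent.* helpers here

set_option autoImplicit false
universe u
open CAlg

namespace Groth.Agent.S9462

open TensorProduct in
/-- Consider surjections A' → A and B' → B with square-zero kernels I and J and a commutative square A'
→ B', A → B. If A → B is étale and J = I ⊗_A B — that is, J = IB' and the multiplication map B'
⊗_{A'} I → B' is injective — then A' → B' is étale. -/
theorem result (A' : Type u) [CommRing A'] (A : Type u) [CommRing A]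
    [Algebra A' A] (hA : Function.Surjective (algebraMap A' A))
    (hI : RingHom.ker (algebraMap A' A) ^ 2 = ⊥)
    (B' : Type u) [CommRing B'] [Algebra A' B'] (B : Type u) [CommRing B] [Algebra B' B]
    [Algebra A B] [Algebra A' B] [IsScalarTower A' A B] [IsScalarTower A' B' B]
    (hB : Function.Surjective (algebraMap B' B)) (hJ : RingHom.ker (algebraMap B' B) ^ 2 = ⊥)
    [Algebra.Etale A B]
    (hJI : RingHom.ker (algebraMap B' B) = (RingHom.ker (algebraMap A' A)).map (algebraMap A' B'))
    (hinj : Function.Injective ((RingHom.ker (algebraMap A' A)).subtype.baseChange B')) :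
    Algebra.Etale A' B' := by
  let I := RingHom.ker (algebraMap A' A)
  let _ : Algebra (A' ⧸ I) A := (RingHom.kerLift (algebraMap A' A)).toAlgebra
  have hbij : Function.Bijective (Algebra.ofId (A' ⧸ I) A) :=
    ⟨RingHom.kerLift_injective _, fun a => by
      obtain ⟨x, rfl⟩ := hA a; exact ⟨Ideal.Quotient.mk _ x, rfl⟩⟩
  have : Algebra.Etale (A' ⧸ I) A :=
    Algebra.Etale.of_equiv (AlgEquiv.ofBijective (Algebra.ofId (A' ⧸ I) A) hbij)
  let _ : Algebra (A' ⧸ I) B := ((algebraMap A B).comp (algebraMap (A' ⧸ I) A)).toAlgebra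
  have : IsScalarTower (A' ⧸ I) A B := IsScalarTower.of_algebraMap_eq' rfl
  have : Algebra.Etale (A' ⧸ I) B := Algebra.Etale.comp (A' ⧸ I) A B
  have : IsScalarTower A' (A' ⧸ I) B := IsScalarTower.of_algebraMap_eq fun x => by
    change algebraMap A' B x = algebraMap A B (algebraMap A' A x)
    rw [← IsScalarTower.algebraMap_apply]
  obtain ⟨S, _, _, hS, ⟨e⟩⟩ := S9436.result A' I B
  let ψ : S →ₐ[A'] B := (e.restrictScalars A').toAlgHom.comp Algebra.TensorProduct.includeRight
  have hψsurj : Function.Surjective ψ := fun b => by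
    obtain ⟨s, hs⟩ := TensorProduct.mk_surjective A' S (A' ⧸ I) Ideal.Quotient.mk_surjective (e.symm b)
    exact ⟨s, (congrArg e hs).trans (e.apply_symm_apply b)⟩
  have hψker : ∀ s, ψ s = 0 → s ∈ I • (⊤ : Submodule A' S) := fun s hs => by
    rw [← LinearMap.ker_tensorProductMk, LinearMap.mem_ker]
    exact e.injective (hs.trans (map_zero e).symm)
  let π : B' →ₐ[A'] B := IsScalarTower.toAlgHom A' B' B
  have hnil : IsNilpotent (RingHom.ker π.toRingHom) := ⟨2, hJ⟩
  let φ : S →ₐ[A'] B' := Algebra.FormallySmooth.liftOfSurjective ψ π hB hnil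
  have hφ : ∀ s, π (φ s) = ψ s :=
    AlgHom.congr_fun (Algebra.FormallySmooth.comp_liftOfSurjective ψ π hB hnil)
  have hI2 : ∀ i ∈ I, ∀ j ∈ I, i * j = 0 := fun i hi j hj => by
    have := Ideal.mul_mem_mul hi hj
    rwa [← sq, hI] at this
  have hdec : ∀ b : B', ∃ s, b - φ s ∈ I • (⊤ : Submodule A' B') := fun b => by
    obtain ⟨s, hs⟩ := hψsurj (π b)
    refine ⟨s, ?_⟩
    rw [Ideal.smul_top_eq_map, Submodule.restrictScalars_mem, ← hJI, RingHom.mem_ker, map_sub]
    exact sub_eq_zero.mpr ((hφ s).trans hs).symm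
  have hIB : ∀ b ∈ I • (⊤ : Submodule A' B'), b ∈ LinearMap.range φ.toLinearMap := fun b hb => by
    refine Submodule.smul_induction_on hb (fun i hi x _ => ?_) fun x y hx hy => add_mem hx hy
    obtain ⟨s, hs⟩ := hdec x
    refine ⟨i • s, ?_⟩
    have h0 : i • (x - φ s) = 0 := by
      refine Submodule.smul_induction_on hs (fun j hj y _ => ?_) fun y z hy hz => by
        rw [smul_add, hy, hz, add_zero]
      rw [smul_smul, hI2 i hi j hj, zero_smul]
    rw [smul_sub, sub_eq_zero] at h0
    simp [h0]
  have hφsurj : Function.Surjective φ := fun b => by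
    obtain ⟨s, hs⟩ := hdec b
    obtain ⟨t, ht⟩ := hIB _ hs
    exact ⟨t + s, by rw [map_add, show φ t = b - φ s from ht, sub_add_cancel]⟩
  have hφinj : Function.Injective φ := by
    rw [injective_iff_map_eq_zero]
    intro s hs
    have hker : ∀ k, φ k = 0 → k ∈ I • (⊤ : Submodule A' S) :=
      fun k hk => hψker k (by rw [← hφ k, hk, map_zero])
    have hinj2 : ∀ t : S ⊗[A'] I, φ.toLinearMap.rTensor I t = 0 → t = 0 := by
      intro t ht
      have h0 : ∀ u, φ.toLinearMap.rTensor I ((LinearMap.ker φ.toLinearMap).subtype.rTensor I u) = 0 := by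
        intro u
        rw [← LinearMap.rTensor_comp_apply, LinearMap.comp_ker_subtype, LinearMap.rTensor_zero,
          LinearMap.zero_apply]
      obtain ⟨u, rfl⟩ := (rTensor_exact (I : Type u)
        (LinearMap.exact_subtype_ker_map φ.toLinearMap) hφsurj t).mp ht
      induction u using TensorProduct.induction_on with
      | zero => simp
      | add a b ha hb => rw [map_add, ha (h0 _),
          hb (h0 _), add_zero]
      | tmul k i =>
        rw [LinearMap.rTensor_tmul]
        refine Submodule.smul_induction_on (p := fun x => x ⊗ₜ[A'] i = 0) (hker _ k.2)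
          (fun j hj y _ => ?_) fun x y hx hy => by rw [add_tmul, hx, hy, add_zero]
        rw [smul_tmul, show j • i = 0 from Subtype.ext (hI2 j hj i i.2), tmul_zero]
    obtain ⟨t, rfl⟩ : ∃ t : S ⊗[A'] I,
        TensorProduct.rid A' S (LinearMap.lTensor S I.subtype t) = s := by
      refine Submodule.smul_induction_on (hker s hs) (fun i hi y _ => ⟨y ⊗ₜ ⟨i, hi⟩, by simp⟩) ?_
      rintro x y ⟨a, rfl⟩ ⟨b, rfl⟩
      exact ⟨a + b, by simp⟩
    have hcomm : ∀ t : S ⊗[A'] I, TensorProduct.rid A' B'
        (LinearMap.lTensor B' I.subtype (φ.toLinearMap.rTensor I t)) =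
        φ (TensorProduct.rid A' S (LinearMap.lTensor S I.subtype t)) := fun t => by
      induction t using TensorProduct.induction_on with
      | zero => simp
      | add a b ha hb => simp [ha, hb]
      | tmul k i => simp
    have h2 : LinearMap.lTensor B' I.subtype (φ.toLinearMap.rTensor I t) = 0 := by
      apply (TensorProduct.rid A' B').injective
      rw [hcomm, hs, map_zero]
    have h3 : φ.toLinearMap.rTensor I t = 0 := hinj (by rw [map_zero]; exact h2)
    simp [hinj2 t h3]
  exact Algebra.Etale.of_equiv (AlgEquiv.ofBijective φ ⟨hφinj, hφsurj⟩)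

end Groth.Agent.S9462
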