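import Groth.Statements.S9467
import Groth.Agent.StrictHens.QFinite
-- import your own Groth.Agent.* helpers here

set_option autoImplicit false
universe u
open Hensel

namespace Groth.Agent.S9467

open TensorProduct in
/-- Let A → B and A → C be ring maps, D = B ⊗_A C, and p_D a prime of D with images p_B, p_C, p_A in B,
C, A. Let A^{sh}, B^{sh}, C^{sh}, D^{sh} be strict henselizations of the local rings A_{p_A},
B_{p_B}, C_{p_C}, D_{p_D}, equipped with local homomorphisms A^{sh} → B^{sh} → D^{sh} and A^{sh} →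
C^{sh} → D^{sh} forming a commutative square compatible with A → B → D and A → C → D (such maps are
the ones attached to a compatible choice of residue-field embeddings into one separably closed
field, and are unique given that choice). If every finite subset of B lies in an A-subalgebra of
finite type that is quasi-finite over A (so that B is a directed union of quasi-finite A-algebras of
finite type), then the induced A^{sh}-algebra map B^{sh} ⊗_{A^{sh}} C^{sh} → D^{sh} is bijective.
(Two further published cases, B integral over A and B_{p_B} a directed union of quasi-finite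
A_{p_A}-algebras of finite type, are stated separately.) -/
theorem result (A B C : Type u) [CommRing A] [CommRing B]
    [CommRing C] [Algebra A B] [Algebra A C]
    (pA : Ideal A) [pA.IsPrime] (pB : Ideal B) [pB.IsPrime] [pB.LiesOver pA]
    (pC : Ideal C) [pC.IsPrime] [pC.LiesOver pA]
    (pD : Ideal (B ⊗[A] C)) [pD.IsPrime] [pD.LiesOver pB]
    (hDC : pD.comap (Algebra.TensorProduct.includeRight : C →ₐ[A] B ⊗[A] C).toRingHom = pC)
    (Ash : Type u) [CommRing Ash] [IsLocalRing Ash] [Algebra (Localization.AtPrime pA) Ash]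
    [IsLocalHom (algebraMap (Localization.AtPrime pA) Ash)]
    [Hensel.IsStrictHenselization (Localization.AtPrime pA) Ash] [Algebra A Ash]
    [IsScalarTower A (Localization.AtPrime pA) Ash]
    (Bsh : Type u) [CommRing Bsh] [IsLocalRing Bsh] [Algebra (Localization.AtPrime pB) Bsh]
    [IsLocalHom (algebraMap (Localization.AtPrime pB) Bsh)]
    [Hensel.IsStrictHenselization (Localization.AtPrime pB) Bsh] [Algebra B Bsh]
    [IsScalarTower B (Localization.AtPrime pB) Bsh] [Algebra A Bsh] [IsScalarTower A B Bsh]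
    [Algebra Ash Bsh] [IsScalarTower A Ash Bsh] [IsLocalHom (algebraMap Ash Bsh)]
    (Csh : Type u) [CommRing Csh] [IsLocalRing Csh] [Algebra (Localization.AtPrime pC) Csh]
    [IsLocalHom (algebraMap (Localization.AtPrime pC) Csh)]
    [Hensel.IsStrictHenselization (Localization.AtPrime pC) Csh] [Algebra C Csh]
    [IsScalarTower C (Localization.AtPrime pC) Csh] [Algebra A Csh] [IsScalarTower A C Csh]
    [Algebra Ash Csh] [IsScalarTower A Ash Csh] [IsLocalHom (algebraMap Ash Csh)]
    (Dsh : Type u) [CommRing Dsh] [IsLocalRing Dsh] [Algebra (Localization.AtPrime pD) Dsh]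
    [IsLocalHom (algebraMap (Localization.AtPrime pD) Dsh)]
    [Hensel.IsStrictHenselization (Localization.AtPrime pD) Dsh] [Algebra (B ⊗[A] C) Dsh]
    [IsScalarTower (B ⊗[A] C) (Localization.AtPrime pD) Dsh]
    [Algebra Bsh Dsh] [IsLocalHom (algebraMap Bsh Dsh)] [Algebra B Dsh] [IsScalarTower B Bsh Dsh]
    [IsScalarTower B (B ⊗[A] C) Dsh]
    [Algebra Csh Dsh] [IsLocalHom (algebraMap Csh Dsh)]
    (hC : ∀ c : C, algebraMap Csh Dsh (algebraMap C Csh c) = algebraMap (B ⊗[A] C) Dsh (1 ⊗ₜ[A] c))
    [Algebra Ash Dsh] [IsScalarTower Ash Bsh Dsh] [IsScalarTower Ash Csh Dsh]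
    (hB : ∀ s : Finset B, ∃ B₀ : Subalgebra A B, (↑s : Set B) ⊆ ↑B₀ ∧
      Algebra.FiniteType A ↥B₀ ∧ Algebra.QuasiFinite A ↥B₀) :
    Function.Bijective (Algebra.TensorProduct.lift (IsScalarTower.toAlgHom Ash Bsh Dsh)
      (IsScalarTower.toAlgHom Ash Csh Dsh) (fun _ _ => Commute.all _ _)) := by
  have hB' := hB
  have hA : StrictHens.Basic.IsSH A Ash :=
    (StrictHens.Basic.isSH_of_isStrictHenselization (A := Localization.AtPrime pA)).of_localization pA.primeCompl
  have hB : StrictHens.Basic.IsSH B Bsh :=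
    (StrictHens.Basic.isSH_of_isStrictHenselization (A := Localization.AtPrime pB)).of_localization pB.primeCompl
  have hC' : StrictHens.Basic.IsSH C Csh :=
    (StrictHens.Basic.isSH_of_isStrictHenselization (A := Localization.AtPrime pC)).of_localization pC.primeCompl
  have hD : StrictHens.Basic.IsSH (B ⊗[A] C) Dsh :=
    (StrictHens.Basic.isSH_of_isStrictHenselization (A := Localization.AtPrime pD)).of_localization pD.primeCompl
  have := hA.sepClosed
  have := hA.henselian
  have : Algebra.IsIntegral Ash Bsh := StrictHens.QFinite.isIntegral_of_forall hB fun b => by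
    obtain ⟨B₀, hb₀, _, _⟩ := hB' {b}
    exact StrictHens.QFinite.isIntegral_algebraMap ((algebraMap B Bsh).comp B₀.val.toRingHom)
      (fun a => by
        show algebraMap B Bsh (algebraMap A B a) = _
        rw [← IsScalarTower.algebraMap_apply A B Bsh, ← IsScalarTower.algebraMap_apply A Ash Bsh])
      (pB.comap B₀.val) (fun r hr => by
        show IsUnit (algebraMap B Bsh (r : B))
        rw [IsScalarTower.algebraMap_apply B (Localization.AtPrime pB) Bsh]
        exact (IsLocalization.map_units (M := pB.primeCompl) (Localization.AtPrime pB) ⟨(r : B), hr⟩).map _)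
      (Algebra.ZariskisMainProperty.of_finiteType _) ⟨b, hb₀ (by simp)⟩
  have hgB : ∀ b : B, algebraMap (B ⊗[A] C) Dsh (b ⊗ₜ[A] (1 : C)) = algebraMap Bsh Dsh (algebraMap B Bsh b) :=
    fun b => by
      rw [← IsScalarTower.algebraMap_apply B Bsh Dsh, IsScalarTower.algebraMap_apply B (B ⊗[A] C) Dsh]
      rfl
  refine StrictHens.Tensor.bijective_of_isIntegral hB hC' hD
    (Algebra.TensorProduct.includeLeftRingHom : B →+* B ⊗[A] C) hgB
    (Algebra.TensorProduct.includeRight : C →ₐ[A] B ⊗[A] C).toRingHom (fun c => (hC c).symm)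
    fun h _ _ hhT hhU => ?_
  let fB : B →ₐ[A] Bsh ⊗[Ash] Csh :=
    (Algebra.TensorProduct.includeLeft : Bsh →ₐ[A] Bsh ⊗[Ash] Csh).comp (IsScalarTower.toAlgHom A B Bsh)
  let fC : C →ₐ[A] Bsh ⊗[Ash] Csh :=
    { toRingHom := ((Algebra.TensorProduct.includeRight : Csh →ₐ[Ash] Bsh ⊗[Ash] Csh).toRingHom).comp
        (algebraMap C Csh)
      commutes' := fun a => by
        show (1 : Bsh) ⊗ₜ[Ash] algebraMap C Csh (algebraMap A C a) = algebraMap A Bsh a ⊗ₜ[Ash] (1 : Csh)
        rw [← IsScalarTower.algebraMap_apply, IsScalarTower.algebraMap_apply A Ash Bsh,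
          IsScalarTower.algebraMap_apply A Ash Csh, Algebra.TensorProduct.tmul_one_eq_one_tmul] }
  let fD : B ⊗[A] C →ₐ[A] Bsh ⊗[Ash] Csh := Algebra.TensorProduct.lift fB fC fun _ _ => Commute.all _ _
  refine ⟨fD.toRingHom, fun b => ?_, fun c => ?_, fun d => ?_⟩
  · show fD (b ⊗ₜ[A] (1 : C)) = _
    rw [Algebra.TensorProduct.lift_tmul, map_one, mul_one]
    rfl
  · show fD ((1 : B) ⊗ₜ[A] c) = _
    rw [Algebra.TensorProduct.lift_tmul, map_one, one_mul]
    rfl
  · induction d using TensorProduct.induction_on with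
    | zero => simp
    | add x y hx hy => simp only [map_add, hx, hy]
    | tmul b c =>
      show h (fD (b ⊗ₜ[A] c)) = _
      rw [Algebra.TensorProduct.lift_tmul, map_mul,
        show b ⊗ₜ[A] c = (b ⊗ₜ[A] (1 : C)) * ((1 : B) ⊗ₜ[A] c) by simp, map_mul]
      exact congrArg₂ (· * ·) ((hhT _).trans (hgB b).symm) ((hhU _).trans (hC c))


end Groth.Agent.S9467
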