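import Groth.Statements.S9469
import Groth.Agent.Hens.Stage
set_option linter.style.haveILetI false

set_option autoImplicit false
universe u
open Hensel

namespace Groth.Agent.S9469

/-- Let R be a ring and p a prime of R. Consider pairs (S, q) with S an étale R-algebra and q a prime of
S lying over p such that κ(p) → κ(q) is bijective; a morphism of pairs is an R-algebra map pulling
the second prime back to the first. Then any two parallel morphisms of pairs φ, ψ : (S₁, q₁) → (S₂,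
q₂) are coequalized by a morphism of pairs (S₂, q₂) → (S₃, q₃). -/
theorem result (R : Type u) [CommRing R]
    (p : Ideal R) [p.IsPrime] (S₁ : Type u) [CommRing S₁] [Algebra R S₁] [Algebra.Etale R S₁] (q₁ : Ideal S₁) [q₁.IsPrime] (hq₁ : p = q₁.comap (algebraMap R S₁))
    (hq₁κ : Function.Bijective (Ideal.ResidueField.map p q₁ (algebraMap R S₁) hq₁))
    (S₂ : Type u) [CommRing S₂] [Algebra R S₂] [Algebra.Etale R S₂] (q₂ : Ideal S₂) [q₂.IsPrime] (hq₂ : p = q₂.comap (algebraMap R S₂))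
    (hq₂κ : Function.Bijective (Ideal.ResidueField.map p q₂ (algebraMap R S₂) hq₂))
    (φ ψ : S₁ →ₐ[R] S₂) (hφ : q₂.comap φ.toRingHom = q₁) (hψ : q₂.comap ψ.toRingHom = q₁) :
    ∃ (S₃ : Type u) (_ : CommRing S₃) (_ : Algebra R S₃) (_ : Algebra.Etale R S₃) (q₃ : Ideal S₃)
      (_ : q₃.IsPrime) (hq₃ : p = q₃.comap (algebraMap R S₃)),
      Function.Bijective (Ideal.ResidueField.map p q₃ (algebraMap R S₃) hq₃) ∧
        ∃ χ : S₂ →ₐ[R] S₃, q₃.comap χ.toRingHom = q₂ ∧ χ.comp φ = χ.comp ψ := by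
  obtain ⟨τ₂, h₂⟩ := Groth.Agent.Hens.exists_point_of_bijective p q₂ hq₂ hq₂κ
  obtain ⟨θ, hθ, -⟩ := Groth.Agent.Hens.existsUnique_algHom_etLoc (R := R) τ₂
  have hpt : τ₂.comp φ = τ₂.comp ψ := by
    refine Groth.Agent.Hens.point_ext ?_
    show RingHom.ker (τ₂.toRingHom.comp φ.toRingHom) = RingHom.ker (τ₂.toRingHom.comp ψ.toRingHom)
    rw [← RingHom.comap_ker, ← RingHom.comap_ker, h₂, hφ, hψ]
  have he : θ.comp φ = θ.comp ψ := Groth.Agent.Hens.eq_of_point (by
    rw [← AlgHom.comp_assoc, ← AlgHom.comp_assoc, hθ, hpt])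
  obtain ⟨s, hs, hse⟩ := Groth.Agent.Hens.exists_away_comp_eq θ φ ψ he
  have hs' : τ₂ s ≠ 0 := by rw [← hθ]; exact hs
  let τ := Groth.Agent.Hens.awayExt τ₂ s (IsUnit.mk0 _ hs')
  haveI : (RingHom.ker τ.toRingHom).IsPrime := RingHom.ker_isPrime _
  refine ⟨Localization.Away s, _, _, inferInstance, RingHom.ker τ.toRingHom, inferInstance,
    Groth.Agent.Hens.comap_ker_point τ,
    Groth.Agent.Hens.bijective_residueFieldMap_of_point τ _ rfl _,
    IsScalarTower.toAlgHom R S₂ _, ?_, hse⟩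
  rw [← h₂, RingHom.comap_ker]
  congr 1
  exact congrArg AlgHom.toRingHom (Groth.Agent.Hens.awayExt_comp τ₂ s (IsUnit.mk0 _ hs'))

end Groth.Agent.S9469
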