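import Groth.Statements.S9470
import Groth.Agent.Hens.Stage
import Groth.Agent.Hens.Unique
set_option linter.style.haveILetI false

set_option autoImplicit false
universe u
open Hensel

namespace Groth.Agent.S9470

/-- Let R be a ring, p a prime of R and R^h a henselization of the local ring R_p, regarded as an
R-algebra through R_p. For pairs (S, q) with S an étale R-algebra and q a prime of S over p such
that κ(p) → κ(q) is bijective: (a) there is exactly one R-algebra map f : S → R^h under which the
maximal ideal pulls back to q; (b) every element of R^h is f(s) for some such pair, map f and s ∈ S;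
(c) if such an f sends s to 0, then some R-algebra map S → S' to another such pair (S', q'), pulling
q' back to q, already sends s to 0. Together with filteredness of the category of pairs this
expresses that R^h is canonically the colimit of S over all pairs (S, q). (The published statement
also records the equal colimit of the local rings S_q.) -/
theorem result (R : Type u) [CommRing R]
    (p : Ideal R) [p.IsPrime] (Rh : Type u) [CommRing Rh] [IsLocalRing Rh]
    [Algebra (Localization.AtPrime p) Rh] [IsLocalHom (algebraMap (Localization.AtPrime p) Rh)]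
    [Hensel.IsHenselization (Localization.AtPrime p) Rh] [Algebra R Rh]
    [IsScalarTower R (Localization.AtPrime p) Rh] :
    (∀ (S : Type u) [CommRing S] [Algebra R S] [Algebra.Etale R S] (q : Ideal S) [q.IsPrime]
        (hq : p = q.comap (algebraMap R S)),
        Function.Bijective (Ideal.ResidueField.map p q (algebraMap R S) hq) →
          ∃! f : S →ₐ[R] Rh, (IsLocalRing.maximalIdeal Rh).comap f.toRingHom = q) ∧
    (∀ x : Rh, ∃ (S : Type u) (_ : CommRing S) (_ : Algebra R S) (_ : Algebra.Etale R S) (q : Ideal S)
        (_ : q.IsPrime) (hq : p = q.comap (algebraMap R S)),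
        Function.Bijective (Ideal.ResidueField.map p q (algebraMap R S) hq) ∧
          ∃ (f : S →ₐ[R] Rh) (s : S), (IsLocalRing.maximalIdeal Rh).comap f.toRingHom = q ∧ f s = x) ∧
    (∀ (S : Type u) [CommRing S] [Algebra R S] [Algebra.Etale R S] (q : Ideal S) [q.IsPrime]
        (hq : p = q.comap (algebraMap R S)),
        Function.Bijective (Ideal.ResidueField.map p q (algebraMap R S) hq) →
          ∀ (f : S →ₐ[R] Rh), (IsLocalRing.maximalIdeal Rh).comap f.toRingHom = q → ∀ s : S, f s = 0 →
            ∃ (S' : Type u) (_ : CommRing S') (_ : Algebra R S') (_ : Algebra.Etale R S') (q' : Ideal S')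
              (_ : q'.IsPrime) (hq' : p = q'.comap (algebraMap R S')),
              Function.Bijective (Ideal.ResidueField.map p q' (algebraMap R S') hq') ∧
                ∃ φ : S →ₐ[R] S', q'.comap φ.toRingHom = q ∧ φ s = 0) := by
  obtain ⟨E, hE⟩ := Groth.Agent.Hens.exists_algEquiv_etLoc_atPrime p Rh
  let pt : Groth.Agent.Hens.EtLoc R p.ResidueField →ₐ[R] p.ResidueField :=
    Groth.Agent.Hens.point R p.ResidueField
  have hker : ∀ x, x ∈ IsLocalRing.maximalIdeal Rh ↔ pt (E.symm x) = 0 := fun x => by
    rw [← IsLocalRing.residue_eq_zero_iff, show x = E (E.symm x) from (E.apply_symm_apply x).symm,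
      hE, E.symm_apply_apply, map_eq_zero_iff _ (RingHom.injective _)]
  have hcomap : ∀ (A : Type u) [CommRing A] [Algebra R A] (f : A →ₐ[R] Rh),
      (IsLocalRing.maximalIdeal Rh).comap f.toRingHom =
        RingHom.ker ((pt.comp E.symm.toAlgHom).comp f).toRingHom := by
    intro A _ _ f
    ext a
    simp [hker, pt]
  refine ⟨?_, ?_, ?_⟩
  · intro S _ _ _ q _ hq hb
    obtain ⟨τ, hτ⟩ := Groth.Agent.Hens.exists_point_of_bijective p q hq hb
    obtain ⟨θ, hθ, -⟩ := Groth.Agent.Hens.existsUnique_algHom_etLoc (R := R) τ
    refine ⟨E.toAlgHom.comp θ, ?_, fun f hf => ?_⟩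
    · show (IsLocalRing.maximalIdeal Rh).comap _ = q
      rw [hcomap, ← hτ, ← hθ]
      congr 1
      ext a
      simp [pt]
    · have he : E.symm.toAlgHom.comp f = θ := by
        refine Groth.Agent.Hens.eq_of_point (Groth.Agent.Hens.point_ext ?_)
        rw [hθ, hτ, ← hf, hcomap]
        rfl
      rw [← he]
      ext a
      simp
  · intro x
    obtain ⟨A, _, _, hA, θ, a, ha⟩ := Groth.Agent.Hens.exists_stage (E.symm x)
    haveI : (RingHom.ker (pt.comp θ).toRingHom).IsPrime := RingHom.ker_isPrime _
    refine ⟨A, _, _, hA, RingHom.ker (pt.comp θ).toRingHom, inferInstance,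
      Groth.Agent.Hens.comap_ker_point _,
      Groth.Agent.Hens.bijective_residueFieldMap_of_point (pt.comp θ) _ rfl _,
      E.toAlgHom.comp θ, a, ?_, ?_⟩
    · rw [hcomap]
      congr 1
      ext b
      simp [pt]
    · simp [ha]
  · intro S _ _ _ q _ hq hb f hf s hs
    let θ := E.symm.toAlgHom.comp f
    obtain ⟨t, ht, hts⟩ := Groth.Agent.Hens.exists_mul_eq_zero_of_map_eq_zero θ (a := s)
      (by simp [θ, hs])
    have hu : IsUnit ((pt.comp θ) t) := IsUnit.mk0 _ ht
    let τ := Groth.Agent.Hens.awayExt (pt.comp θ) t hu
    haveI : (RingHom.ker τ.toRingHom).IsPrime := RingHom.ker_isPrime _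
    refine ⟨Localization.Away t, _, _, inferInstance, RingHom.ker τ.toRingHom, inferInstance,
      Groth.Agent.Hens.comap_ker_point τ,
      Groth.Agent.Hens.bijective_residueFieldMap_of_point τ _ rfl _,
      IsScalarTower.toAlgHom R S _, ?_, ?_⟩
    · rw [RingHom.comap_ker, ← hf, hcomap]
      congr 1
      exact congrArg AlgHom.toRingHom (Groth.Agent.Hens.awayExt_comp (pt.comp θ) t hu)
    · refine (IsLocalization.Away.algebraMap_isUnit
        (S := Localization.Away t) t).mul_left_cancel ?_
      rw [mul_zero, IsScalarTower.toAlgHom_apply, ← map_mul, hts, map_zero]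

end Groth.Agent.S9470
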