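import Groth.Statements.S9472
import Groth.Agent.PP16.Universal

set_option autoImplicit false
universe u
open Diff16

namespace Groth.Agent.S9472

open TensorProduct in
/-- Let R → S → S' be ring maps with S → S' formally étale, M an S-module and (P, D_u) a module of
principal parts of order k of M relative to R → S, i.e. D_u : M → P is a differential operator of
order at most k through which every differential operator of order at most k from M to an S-module
factors by a unique S-linear map. If D_u' : S' ⊗_S M → S' ⊗_S P is a differential operator of order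
at most k relative to R → S' with D_u'(1 ⊗ m) = 1 ⊗ D_u(m), then (S' ⊗_S P, D_u') is a module of
principal parts of order k of S' ⊗_S M relative to R → S'. (The published statement writes this as
an identification of S' ⊗_S P^k_{S/R}(M) with P^k_{S'/R}(M') and forms M' by base change over R
rather than over S; with base change over R the identification fails already for k = 0, R the
rationals, S = S' a polynomial ring in one variable and M = S, and the published proof computes with
the base change over S, used here. Target modules are taken in one universe.) -/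
theorem result (R S S' : Type u) [CommRing R]
    [CommRing S] [CommRing S'] [Algebra R S] [Algebra R S'] [Algebra S S'] [IsScalarTower R S S']
    [Algebra.FormallyEtale S S'] (M : Type u) [AddCommGroup M] [Module S M] [Module R M]
    [IsScalarTower R S M] (k : ℕ) (P : Type u) [AddCommGroup P] [Module S P] [Module R P]
    [IsScalarTower R S P] (Du : M →ₗ[R] P) (hDu : Diff16.IsDiffOpLE R S M P k Du)
    (huniv : ∀ (N : Type u) [AddCommGroup N] [Module S N] [Module R N] [IsScalarTower R S N]
      (D : M →ₗ[R] N), Diff16.IsDiffOpLE R S M N k D → ∃! α : P →ₗ[S] N, α.restrictScalars R ∘ₗ Du = D)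
    (Du' : S' ⊗[S] M →ₗ[R] S' ⊗[S] P) (hDu' : Diff16.IsDiffOpLE R S' (S' ⊗[S] M) (S' ⊗[S] P) k Du')
    (hext : Du' ∘ₗ (TensorProduct.mk S S' M 1).restrictScalars R =
      (TensorProduct.mk S S' P 1).restrictScalars R ∘ₗ Du) :
    ∀ (N' : Type u) [AddCommGroup N'] [Module S' N'] [Module R N'] [IsScalarTower R S' N']
      (D' : S' ⊗[S] M →ₗ[R] N'), Diff16.IsDiffOpLE R S' (S' ⊗[S] M) N' k D' →
        ∃! α : S' ⊗[S] P →ₗ[S'] N', α.restrictScalars R ∘ₗ Du' = D' := by
  intro N' _ _ _ _ D' hD'
  let _ : Module S N' := Module.compHom N' (algebraMap S S')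
  have : IsScalarTower S S' N' :=
    ⟨fun s b x => by
      change (s • b) • x = algebraMap S S' s • (b • x)
      rw [Algebra.smul_def, mul_smul]⟩
  have : IsScalarTower R S N' :=
    ⟨fun r s x => by
      change algebraMap S S' (r • s) • x = r • (algebraMap S S' s • x)
      rw [Algebra.smul_def, map_mul, ← IsScalarTower.algebraMap_apply, mul_smul, algebraMap_smul]⟩
  let D₁ : M →ₗ[R] N' := D' ∘ₗ (TensorProduct.mk S S' M 1).restrictScalars R
  have hD₁ : IsDiffOpLE R S M N' k D₁ := by
    rw [Groth.Agent.Diff16.isDiffOpLE_iff_altSum] at hD' ⊢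
    intro c t
    rw [← hD' (fun i => algebraMap S S' (c i)) ((1 : S') ⊗ₜ[S] t)]
    refine Finset.sum_congr rfl fun H _ => ?_
    rw [← map_prod, ← map_prod, algebraMap_smul, algebraMap_smul, ← TensorProduct.tmul_smul]
    rfl
  obtain ⟨α₀, hα₀, huniq⟩ := huniv N' D₁ hD₁
  have key : ∀ m, LinearMap.liftBaseChange S' α₀ (Du' ((1 : S') ⊗ₜ[S] m)) = D' ((1 : S') ⊗ₜ[S] m) := by
    intro m
    have h1 := LinearMap.congr_fun hext m
    simp only [LinearMap.comp_apply, LinearMap.restrictScalars_apply, TensorProduct.mk_apply] at h1
    rw [h1, LinearMap.liftBaseChange_tmul, one_smul]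
    exact LinearMap.congr_fun hα₀ m
  refine ⟨LinearMap.liftBaseChange S' α₀, ?_, fun α hα => ?_⟩
  · refine Groth.Agent.PP16.eq_of_extension k _ D' ?_ hD' key
    refine Groth.Agent.Diff16.IsDiffOpLE.comp_le k (n' := 0) (Nat.add_zero k) hDu' ?_
    intro b x
    exact map_smul (LinearMap.liftBaseChange S' α₀) b x
  · refine LinearMap.ext fun x => ?_
    have h2 : (α.restrictScalars S) ∘ₗ (TensorProduct.mk S S' P 1) = α₀ := huniq _ (by
      refine LinearMap.ext fun m => ?_
      have h1 := LinearMap.congr_fun hext m
      simp only [LinearMap.comp_apply, LinearMap.restrictScalars_apply, TensorProduct.mk_apply] at h1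
      change α ((1 : S') ⊗ₜ[S] Du m) = D' ((1 : S') ⊗ₜ[S] m)
      rw [← h1]
      exact LinearMap.congr_fun hα _)
    induction x using TensorProduct.induction_on with
    | zero => simp
    | tmul b p =>
      have e : b ⊗ₜ[S] p = b • ((1 : S') ⊗ₜ[S] p) := by simp [TensorProduct.smul_tmul']
      rw [e, map_smul, map_smul, LinearMap.liftBaseChange_tmul, one_smul, ← h2]
      rfl
    | add x y hx hy => rw [map_add, map_add, hx, hy]
end Groth.Agent.S9472
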