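import Groth.Statements.S9485
import Groth.Agent.FEtCat.Full
import Mathlib.RingTheory.Ideal.KrullsHeightTheorem
import Mathlib.AlgebraicGeometry.PullbackCarrier

set_option autoImplicit false
universe u
open Pi1

namespace Groth.Agent.S9485


open AlgebraicGeometry CategoryTheory CategoryTheory.Limits Topology

/-- In a Noetherian local domain of dimension at least two a principal ideal lies in a non-maximal prime. -/
theorem exists_prime {A : Type u} [CommRing A] [IsNoetherianRing A] [IsLocalRing A] (f : A)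
    (hf : f ∈ IsLocalRing.maximalIdeal A) (p : Ideal A) [p.IsPrime]
    (hd : (2 : WithBot ℕ∞) ≤ ringKrullDim (A ⧸ p)) :
    ∃ q : Ideal A, q.IsPrime ∧ p ≤ q ∧ f ∈ q ∧ q ≠ IsLocalRing.maximalIdeal A := by
  by_contra hne
  push Not at hne
  let π := Ideal.Quotient.mk p
  have : IsLocalRing (A ⧸ p) := IsLocalRing.of_surjective' π Ideal.Quotient.mk_surjective
  have hmin : IsLocalRing.maximalIdeal (A ⧸ p) ∈ (Ideal.span {π f}).minimalPrimes := by
    refine ⟨⟨inferInstance, ?_⟩, fun Q hQ _ => ?_⟩
    · rw [Ideal.span_le, Set.singleton_subset_iff]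
      refine fun hu => hf ?_
      have : IsLocalHom π := IsLocalHom.of_surjective π Ideal.Quotient.mk_surjective
      exact isUnit_of_map_unit π f hu
    · intro x hx
      obtain ⟨x, rfl⟩ := Ideal.Quotient.mk_surjective x
      obtain ⟨hQp, hQle⟩ := hQ
      have := hQp
      have hc := hne (Q.comap π) inferInstance
        (fun z hz => by rw [Ideal.mem_comap, Ideal.Quotient.eq_zero_iff_mem.mpr hz]; exact zero_mem Q)
        (hQle (Ideal.mem_span_singleton_self _))
      change x ∈ Q.comap π
      rw [hc]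
      exact fun hu => hx (hu.map π)
  have h1 := Ideal.height_le_one_of_isPrincipal_of_mem_minimalPrimes (Ideal.span {π f}) _ hmin
  rw [← IsLocalRing.maximalIdeal_height_eq_ringKrullDim] at hd
  exact absurd (le_trans (WithBot.coe_le_coe.mp hd) h1) (by decide)

/-- Every point of a scheme is a specialisation of a maximal one. -/
theorem exists_generic {Y : Scheme.{u}} (y : Y) : ∃ η : Y, η ⤳ y ∧ ∀ η', η' ⤳ η → η' = η := by
  let T := irreducibleComponent y
  have hT : IsIrreducible T := isIrreducible_irreducibleComponent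
  have hg : closure {hT.genericPoint} = T := by
    rw [hT.closure_genericPoint isClosed_irreducibleComponent]
  refine ⟨hT.genericPoint, specializes_iff_mem_closure.mpr (hg.symm ▸ mem_irreducibleComponent), fun η' h => ?_⟩
  have hle : T ⊆ closure {η'} := hg ▸ specializes_iff_closure_subset.mp h
  have heq := eq_irreducibleComponent (isIrreducible_singleton.closure.isPreirreducible) hle
  exact h.antisymm (specializes_iff_mem_closure.mpr (by rw [hg, show T = irreducibleComponent y from rfl, ← heq]; exact subset_closure rfl)) |>.eq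

open AlgebraicGeometry CategoryTheory CategoryTheory.Limits in
/-- Let A be a Noetherian local ring with maximal ideal m and f ∈ m, U the punctured spectrum of A and
U₀ that of A/fA (realised as U ×_{Spec A} Spec(A/fA)). Let U' ⊆ U be an open through which U₀ ⟶ Spec
A factors (as u'). If dim(A/p) ≥ 2 for every minimal prime p of A which lies in U' and does not
contain f, then restriction of finite etale covers along u' is faithful. (Such U' exist, e.g. the
complement in U of the one-dimensional irreducible components not meeting U₀, and the condition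
passes to smaller such opens, so restriction from the system of these opens is faithful.) -/
theorem result (A : Type u) [CommRing A] [IsNoetherianRing A] [IsLocalRing A] (f : A) (hf : f ∈ IsLocalRing.maximalIdeal A)
    (U' : (Spec (CommRingCat.of A)).Opens) (hU' : U' ≤ FEt.puncturedSpec A)
    (u' : pullback (FEt.puncturedSpec A).ι (Spec.map (CommRingCat.ofHom (Ideal.Quotient.mk (Ideal.span {f})))) ⟶ (U' : Scheme.{u})) (hu' : u' ≫ U'.ι = (pullback.fst (FEt.puncturedSpec A).ι (Spec.map (CommRingCat.ofHom (Ideal.Quotient.mk (Ideal.span {f})))) ≫ (FEt.puncturedSpec A).ι))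
    (hdim : ∀ p : PrimeSpectrum A, p.asIdeal ∈ minimalPrimes A → p ∈ U' → f ∉ p.asIdeal →
      (2 : WithBot ℕ∞) ≤ ringKrullDim (A ⧸ p.asIdeal)) :
    (FEt.restrict u').Faithful := by
  refine Groth.Agent.FEtCat.Full.faithful_of_clopenInj u' fun Y W hW he => ?_
  refine Set.eq_empty_of_forall_notMem fun y hy => ?_
  obtain ⟨η, hηy, hη⟩ := exists_generic y
  have hηW : η ∈ W := hηy.mem_open hW.2 hy
  have hu'r : ∀ q : PrimeSpectrum A, f ∈ q.asIdeal → q ≠ IsLocalRing.closedPoint A →
      ∃ z, U'.ι (u' z) = q := by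
    intro q hfq hq
    have hr : (⟨q, hq⟩ : FEt.puncturedSpec A) ∈ Set.range (pullback.fst (FEt.puncturedSpec A).ι
        (Spec.map (CommRingCat.ofHom (Ideal.Quotient.mk (Ideal.span {f}))))) := by
      rw [Scheme.Pullback.range_fst]
      change q ∈ Set.range (PrimeSpectrum.comap (Ideal.Quotient.mk (Ideal.span {f})))
      rw [range_comap_of_surjective _ _ Ideal.Quotient.mk_surjective, Ideal.mk_ker,
        PrimeSpectrum.zeroLocus_span]
      exact Set.singleton_subset_iff.mpr hfq
    obtain ⟨z, hz⟩ := hr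
    refine ⟨z, ?_⟩
    rw [← Scheme.Hom.comp_apply, hu', Scheme.Hom.comp_apply, hz]
    rfl
  have hno : ∀ w ∈ W, ∀ z, Y.hom w ≠ u' z := by
    intro w hw z hz
    have hr : w ∈ Set.range (pullback.fst Y.hom u') := by
      rw [Scheme.Pullback.range_fst]
      exact ⟨z, hz.symm⟩
    obtain ⟨z', hz'⟩ := hr
    exact Set.notMem_empty z' (he ▸ (show z' ∈ pullback.fst Y.hom u' ⁻¹' W by rw [Set.mem_preimage, hz']; exact hw))
  let x : U' := Y.hom η
  let p : PrimeSpectrum A := x.1
  have hfp : f ∉ p.asIdeal := fun hfp => by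
    obtain ⟨z, hz⟩ := hu'r p hfp (hU' x.2)
    exact hno η hηW z (U'.ι.injective hz.symm)
  have hmin : p.asIdeal ∈ minimalPrimes A := by
    refine ⟨⟨p.2, bot_le⟩, fun Q hQ hle => ?_⟩
    let q : PrimeSpectrum A := ⟨Q, hQ.1⟩
    have hqp : q ⤳ p := (PrimeSpectrum.le_iff_specializes q p).mp hle
    let q' : U' := ⟨q, hqp.mem_open U'.2 x.2⟩
    obtain ⟨η', hη', hq'⟩ := Flat.generalizingMap (f := Y.hom) (show q' ⤳ Y.hom η from (subtype_specializes_iff q' (Y.hom η)).mpr hqp)
    rw [hη η' hη'] at hq'
    exact le_of_eq (congrArg (fun a : U' => (a.1 : PrimeSpectrum A).asIdeal) hq')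
  obtain ⟨Q, hQ, hpQ, hfQ, hQm⟩ := exists_prime f hf p.asIdeal (hdim p hmin x.2 hfp)
  obtain ⟨z, hz⟩ := hu'r ⟨Q, hQ⟩ hfQ fun h => hQm (congrArg PrimeSpectrum.asIdeal h)
  have hsp : Y.hom η ⤳ u' z := by
    rw [U'.ι.isEmbedding.isInducing.specializes_iff.symm, hz]
    exact (PrimeSpectrum.le_iff_specializes p ⟨Q, hQ⟩).mp hpQ
  obtain ⟨w, hw, hwz⟩ := Y.hom.isClosedMap.specializingMap hsp
  exact hno w (hw.mem_closed hW.1 hηW) z hwz

end Groth.Agent.S9485
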