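import Groth.Statements.S9488
import Groth.Agent.NormCount.Basic
-- import your own Groth.Agent.* helpers here

set_option autoImplicit false
universe u
open Pi1

namespace Groth.Agent.S9488

set_option backward.isDefEq.respectTransparency false

open AlgebraicGeometry CategoryTheory CategoryTheory.Limits TopologicalSpace in
theorem aux {X : Scheme.{u}} (hX : Pi1.IsNormalScheme X) {L : Type u} [Field L]
    (g : Spec (CommRingCat.of L) ⟶ X) [QuasiCompact g] [QuasiSeparated g]
    {T : Scheme.{u}} [IsIntegral T] (f : T ⟶ X) (q : Spec (CommRingCat.of L) ⟶ T) [IsPreimmersion q]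
    (hq : q ≫ f = g) (hqgen : q default = genericPoint T) (V : X.Opens) (hgV : g default ∈ V)
    [IsFinite (f ∣_ V)] [Etale (f ∣_ V)] :
    Etale (pullback.snd g.fromNormalization V.ι) ∧ IsFinite (pullback.snd g.fromNormalization V.ι) := by
  let t := f ∣_ V
  let TV := (f ⁻¹ᵁ V).toScheme
  have hgT : genericPoint T ∈ f ⁻¹ᵁ V := by
    show f (genericPoint T) ∈ V
    rw [← hqgen, ← Scheme.Hom.comp_apply, hq]
    exact hgV
  haveI : Nonempty TV := ⟨⟨_, hgT⟩⟩
  haveI : IsIntegral TV := isIntegral_of_isOpenImmersion (f ⁻¹ᵁ V).ι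
  have hTV : Pi1.IsNormalScheme TV := EtNormal.isNormalScheme_of_etale t fun v => by
    obtain ⟨h₁, h₂⟩ := hX v.1
    let e := (V.stalkIso v).commRingCatIsoToRingEquiv.symm
    exact ⟨e.toMulEquiv.symm.isDomain, IsIntegrallyClosed.of_equiv e⟩
  have hr : Set.range q ⊆ Set.range (f ⁻¹ᵁ V).ι := by
    rintro _ ⟨w, rfl⟩
    rw [Scheme.Opens.range_ι, Subsingleton.elim w default, hqgen]
    exact hgT
  let h := IsOpenImmersion.lift (f ⁻¹ᵁ V).ι q hr
  haveI : IsPreimmersion (h ≫ (f ⁻¹ᵁ V).ι) := by rw [IsOpenImmersion.lift_fac]; infer_instance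
  haveI : IsPreimmersion h := IsPreimmersion.of_comp h (f ⁻¹ᵁ V).ι
  have hh : h default = genericPoint TV := by
    refine (f ⁻¹ᵁ V).ι.isOpenEmbedding.injective ?_
    rw [← Scheme.Hom.comp_apply, IsOpenImmersion.lift_fac, hqgen]
    exact (genericPoint_eq_of_isOpenImmersion (f ⁻¹ᵁ V).ι).symm
  let φ := pullback.fst g V.ι
  haveI : Surjective φ := ⟨fun w => by
    have : w ∈ Set.range φ := by
      rw [Scheme.Pullback.range_fst, Scheme.Opens.range_ι, Subsingleton.elim w default]
      exact hgV
    exact this⟩
  haveI : Epi φ.base := (TopCat.epi_iff_surjective _).mpr φ.surjective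
  haveI : IsIso φ := IsOpenImmersion.isIso φ
  let f' := pullback.snd g V.ι
  have hf' : f' = φ ≫ h ≫ t := by
    rw [← cancel_mono V.ι, ← pullback.condition, Category.assoc, Category.assoc, morphismRestrict_ι,
      IsOpenImmersion.lift_fac_assoc, hq]
  let gV := h ≫ t
  haveI : QuasiCompact (inv φ ≫ f') := inferInstance
  haveI : QuasiSeparated (inv φ ≫ f') := inferInstance
  have hgV' : gV = inv φ ≫ f' := by rw [hf']; simp [gV]
  haveI : QuasiCompact gV := hgV' ▸ ‹QuasiCompact (inv φ ≫ f')›
  haveI : QuasiSeparated gV := hgV' ▸ ‹QuasiSeparated (inv φ ≫ f')›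
  let d₂ := gV.normalizationDesc h t rfl
  haveI : IsIso d₂ := FEtCat.NormalizationGeneric.isIso_normalizationDesc hTV gV h hh t rfl
  let a := f'.normalizationDesc (φ ≫ gV.toNormalization) gV.fromNormalization
    (by rw [Category.assoc, gV.toNormalization_fromNormalization]; exact hf')
  let b := gV.normalizationDesc (inv φ ≫ f'.toNormalization) f'.fromNormalization
    (by rw [Category.assoc, f'.toNormalization_fromNormalization]; exact hgV')
  haveI : IsIso a := ⟨b, Scheme.Hom.normalization.hom_ext f' _ _ f'.fromNormalization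
      (by simp [a, b]) (by simp [a, b]) (by simp),
    Scheme.Hom.normalization.hom_ext gV _ _ gV.fromNormalization
      (by simp [a, b]) (by simp [a, b]) (by simp)⟩
  let D : f'.normalization ⟶ TV := a ≫ d₂
  have hD : D ≫ t = f'.fromNormalization := by simp [D, a, d₂]
  have key : pullback.snd g.fromNormalization V.ι = inv (g.normalizationPullback V.ι) ≫ D ≫ t := by
    rw [hD, IsIso.eq_inv_comp, Scheme.Hom.normalizationPullback_snd]
  rw [key]
  exact ⟨inferInstance, inferInstance⟩

open AlgebraicGeometry CategoryTheory CategoryTheory.Limits in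
/-- The criterion by the cardinality of a geometric fibre, in the local form its proof establishes: X is
an integral scheme with integrally closed local rings and function field K; L is a finite field
extension of K and ν : Y ⟶ X the normalization of X in Spec L. Let ξ : Spec Ω ⟶ X be a geometric
point (Ω algebraically closed) such that the fibre of ν over ξ is etale and ν has at least [L : K]
distinct Ω-points lying over ξ. Then ν is finite etale over some open neighbourhood of the image of
ξ. Consequently ν is finite etale as soon as every scheme-theoretic fibre of ν is etale of degree at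
least [L : K]. -/
theorem result {X : Scheme.{u}} [IsIntegral X] (hX : Pi1.IsNormalScheme X)
    (L : Type u) [Field L] [Algebra X.functionField L] [FiniteDimensional X.functionField L]
    [QuasiCompact (Spec.map (CommRingCat.ofHom (algebraMap X.functionField L)) ≫ X.fromSpecStalk (genericPoint X))] [QuasiSeparated (Spec.map (CommRingCat.ofHom (algebraMap X.functionField L)) ≫ X.fromSpecStalk (genericPoint X))]
    (Ω : Type u) [Field Ω] [IsAlgClosed Ω] (ξ : Spec (CommRingCat.of Ω) ⟶ X)
    (het : Etale (pullback.snd (Spec.map (CommRingCat.ofHom (algebraMap X.functionField L)) ≫ X.fromSpecStalk (genericPoint X)).fromNormalization ξ))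
    (hcard : Nonempty (Fin (Module.finrank X.functionField L) ↪
      {η : Spec (CommRingCat.of Ω) ⟶ (Spec.map (CommRingCat.ofHom (algebraMap X.functionField L)) ≫ X.fromSpecStalk (genericPoint X)).normalization // η ≫ (Spec.map (CommRingCat.ofHom (algebraMap X.functionField L)) ≫ X.fromSpecStalk (genericPoint X)).fromNormalization = ξ})) :
    ∃ U : X.Opens, Set.range ξ.base ⊆ (U : Set X) ∧
      Etale (pullback.snd (Spec.map (CommRingCat.ofHom (algebraMap X.functionField L)) ≫ X.fromSpecStalk (genericPoint X)).fromNormalization U.ι) ∧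
      IsFinite (pullback.snd (Spec.map (CommRingCat.ofHom (algebraMap X.functionField L)) ≫ X.fromSpecStalk (genericPoint X)).fromNormalization U.ι) := by
  obtain ⟨c⟩ := hcard
  obtain ⟨T, hT, f, hA, q, hpre, V, hq, hqgen, hxV, hV₁, hV₂⟩ := NormCount.main hX L _ rfl Ω ξ c
  have hgV : (Spec.map (CommRingCat.ofHom (algebraMap X.functionField L)) ≫ X.fromSpecStalk (genericPoint X)) default ∈ V := by
    have hsp : (Spec.map (CommRingCat.ofHom (algebraMap X.functionField L)) ≫ X.fromSpecStalk (genericPoint X)) default ⤳
        genericPoint X := by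
      have hz : ∀ z : Spec (X.presheaf.stalk (genericPoint X)), z ⤳ IsLocalRing.closedPoint _ := fun z =>
        IsLocalRing.specializes_closedPoint z
      refine Eq.subst (motive := fun w => _ ⤳ w) Scheme.fromSpecStalk_closedPoint ?_
      exact (hz _).map (X.fromSpecStalk (genericPoint X)).continuous
    exact hsp.mem_open V.2 ((genericPoint_specializes _).mem_open V.2 hxV)
  refine ⟨V, ?_, aux hX _ f q hq hqgen V hgV⟩
  rintro _ ⟨w, rfl⟩
  exact (Wt.GeomPts.eq_pt ξ w).symm ▸ hxV

end Groth.Agent.S9488
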