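import Groth.Statements.S9491
import Groth.Agent.FEtCat.NormalizationPreimmersion
import Groth.Agent.AlgSpD.ReducedEtale

set_option autoImplicit false
universe u
open Pi1

namespace Groth.Agent.S9491

open AlgebraicGeometry CategoryTheory CategoryTheory.Limits in
/-- The essential image of restriction of finite etale covers from a normal integral scheme X to its
generic point Spec K consists of the finite etale K-schemes whose points are spectra of finite
extensions L of K in which X is unramified. Precisely: let L be a finite field extension of K and Y₀
the object Spec L → Spec K of the category of finite etale covers of Spec K; then Y₀ is isomorphic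
to the restriction of a finite etale cover of X if and only if the normalization of X in Spec L is
finite etale over X. (With full faithfulness of this restriction functor for normal X, this says
that the fundamental group of X is the Galois group of the union M of all finite subextensions of a
separable closure in which X is unramified.) -/
theorem result {X : Scheme.{u}} [IsIntegral X] (hX : Pi1.IsNormalScheme X)
    (L : Type u) [Field L] [Algebra X.functionField L] [FiniteDimensional X.functionField L]
    [QuasiCompact (Spec.map (CommRingCat.ofHom (algebraMap X.functionField L)) ≫ X.fromSpecStalk (genericPoint X))] [QuasiSeparated (Spec.map (CommRingCat.ofHom (algebraMap X.functionField L)) ≫ X.fromSpecStalk (genericPoint X))]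
    (Y₀ : FEt.Cat (Spec X.functionField)) (e : Y₀.left ≅ Spec (CommRingCat.of L))
    (he : e.hom ≫ Spec.map (CommRingCat.ofHom (algebraMap X.functionField L)) = Y₀.hom) :
    (FEt.restrict (X.fromSpecStalk (genericPoint X))).essImage Y₀ ↔
      (Etale (Spec.map (CommRingCat.ofHom (algebraMap X.functionField L)) ≫ X.fromSpecStalk (genericPoint X)).fromNormalization ∧ IsFinite (Spec.map (CommRingCat.ofHom (algebraMap X.functionField L)) ≫ X.fromSpecStalk (genericPoint X)).fromNormalization) := by
  set j := X.fromSpecStalk (genericPoint X)
  set m := Spec.map (CommRingCat.ofHom (algebraMap X.functionField L))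
  have hsubK : Subsingleton (Spec X.functionField) := inferInstanceAs (Subsingleton (PrimeSpectrum X.functionField))
  have hsubL : Subsingleton (Spec (CommRingCat.of L)) := inferInstanceAs (Subsingleton (PrimeSpectrum L))
  have hrj : ∀ x : X, x ∈ Set.range j → x = genericPoint X := by
    rintro _ ⟨a, rfl⟩
    rw [hsubK.elim a (IsLocalRing.closedPoint (X.presheaf.stalk (genericPoint X)) : Spec X.functionField)]
    exact Scheme.fromSpecStalk_closedPoint
  have hjη : genericPoint X ∈ Set.range j := ⟨_, Scheme.fromSpecStalk_closedPoint⟩
  have hjp : IsPreimmersion j := inferInstanceAs (IsPreimmersion (X.fromSpecStalk _))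
  constructor
  · rintro ⟨Y, ⟨ψ⟩⟩
    have := FEtCat.Basic.isIso_left ψ.inv
    let i : Spec (CommRingCat.of L) ⟶ pullback Y.hom j := e.inv ≫ ψ.inv.left
    have hi : IsIso i := inferInstanceAs (IsIso (e.inv ≫ ψ.inv.left))
    let h := i ≫ pullback.fst Y.hom j
    have : IsPreimmersion (pullback.fst Y.hom j) := inferInstance
    have : IsPreimmersion h := inferInstanceAs (IsPreimmersion (i ≫ pullback.fst Y.hom j))
    have H : m ≫ j = h ≫ Y.hom := by
      have h1 : i ≫ pullback.snd Y.hom j = m := by
        refine Eq.trans (Category.assoc _ _ _) ?_
        erw [MorphismProperty.Over.w ψ.inv, ← he, Iso.inv_hom_id_assoc]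
      rw [Category.assoc, pullback.condition, ← Category.assoc, h1]
    have hgen : ∀ g : Y.left, g ∈ FEtCat.Normal.gen Y → g = h default := fun g hg => by
      obtain ⟨a, ha⟩ : g ∈ Set.range (pullback.fst Y.hom j) := by
        rw [Scheme.Pullback.range_fst]
        change Y.hom g ∈ Set.range j
        rw [show Y.hom g = genericPoint X from hg]
        exact hjη
      obtain ⟨b, rfl⟩ : a ∈ Set.range i := i.homeomorph.surjective a
      rw [← ha, hsubL.elim b default]
      rfl
    have hclop : ∀ C : Set Y.left, IsClopen C → C.Nonempty → h default ∈ C := fun C hC ⟨y, hy⟩ => by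
      obtain ⟨g, hg, hgy⟩ := FEtCat.Normal.exists_gen Y y
      exact hgen g hg ▸ hgy.mem_open hC.2 hy
    have : ConnectedSpace Y.left := by
      have : Nonempty Y.left := ⟨h default⟩
      exact { toPreconnectedSpace := preconnectedSpace_iff_clopen.mpr fun C hC => by
                by_contra hne
                rw [not_or, ← Ne, ← Ne, ← Set.nonempty_iff_ne_empty] at hne
                exact hclop Cᶜ hC.compl (Set.nonempty_compl.mpr hne.2) (hclop C hC hne.1)
              toNonempty := inferInstance }
    have : IsIntegral Y.left := FEtCat.Normal.isIntegral hX Y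
    have : IsIntegral ((𝟭 Scheme).obj Y.left) := ‹IsIntegral Y.left›
    have hh : h default = genericPoint Y.left := by
      obtain ⟨g, hg, hgs⟩ := FEtCat.Normal.exists_gen Y (genericPoint Y.left)
      exact (hgen g hg).symm.trans (hgs.antisymm (genericPoint_specializes g)).eq
    have : IsIntegralHom Y.hom := inferInstance
    have := FEtCat.NormalizationGeneric.isIso_normalizationDesc
      (EtNormal.isNormalScheme_of_etale Y.hom hX) (m ≫ j) h hh Y.hom H
    rw [← (m ≫ j).normalizationDesc_comp h Y.hom H]
    exact ⟨inferInstance, inferInstance⟩
  · rintro ⟨hE, hF⟩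
    let N := FEtCat.Basic.mk (m ≫ j).fromNormalization
    let l : Spec (CommRingCat.of L) ⟶ pullback (m ≫ j).fromNormalization j :=
      pullback.lift (m ≫ j).toNormalization m (m ≫ j).toNormalization_fromNormalization
    have := FEtCat.NormalizationGeneric.isPreimmersion_toNormalization (X := X) L
    have hfst : l ≫ pullback.fst (m ≫ j).fromNormalization j = (m ≫ j).toNormalization :=
      pullback.lift_fst _ _ _
    have hsnd : l ≫ pullback.snd (m ≫ j).fromNormalization j = m := pullback.lift_snd _ _ _
    have : IsPreimmersion (pullback.fst (m ≫ j).fromNormalization j) := inferInstance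
    have : IrreducibleSpace N.left := inferInstanceAs (IrreducibleSpace (m ≫ j).normalization)
    have hp : IsPreimmersion (l ≫ pullback.fst (m ≫ j).fromNormalization j) := by rw [hfst]; infer_instance
    have : IsPreimmersion l := IsPreimmersion.of_comp l (pullback.fst (m ≫ j).fromNormalization j)
    have hm : IsFinite m := (IsFinite.SpecMap_iff (f := CommRingCat.ofHom (algebraMap X.functionField L))).mpr
      (RingHom.finite_algebraMap.mpr inferInstance)
    have hl : IsFinite (l ≫ pullback.snd (m ≫ j).fromNormalization j) := by rw [hsnd]; exact hm
    have : IsFinite l := IsFinite.of_comp l (pullback.snd (m ≫ j).fromNormalization j)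
    have : IsClosedImmersion l := (IsClosedImmersion.iff_isFinite_and_mono l).mpr ⟨inferInstance, inferInstance⟩
    have : Surjective l := ⟨fun a => ⟨default, (pullback.fst (m ≫ j).fromNormalization j).isEmbedding.injective (by
      rw [← Scheme.Hom.comp_apply, hfst, FEtCat.NormalizationGeneric.toNormalization_default (X := X) L]
      obtain ⟨g, hg, hgs⟩ := FEtCat.Normal.exists_gen N (genericPoint N.left)
      have h1 : (genericPoint (m ≫ j).normalization) = g :=
        ((genericPoint_specializes g).antisymm hgs).eq
      have h2 : pullback.fst (m ≫ j).fromNormalization j a ∈ FEtCat.Normal.gen N :=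
        hrj _ ⟨pullback.snd (m ≫ j).fromNormalization j a, by
          rw [← Scheme.Hom.comp_apply, ← pullback.condition, Scheme.Hom.comp_apply]
          rfl⟩
      rw [h1]
      refine FEtCat.Normal.eq_of_mem_gen N hg h2 ?_
      rw [← h1]
      exact genericPoint_specializes _)⟩⟩
    have : IsReduced (pullback (m ≫ j).fromNormalization j) := by
      have : Etale (pullback.snd (m ≫ j).fromNormalization j) := inferInstance
      have : ∀ z, _root_.IsReduced ((pullback (m ≫ j).fromNormalization j).presheaf.stalk z) := fun z =>
        (AlgSpD.isReduced_stalk_iff (pullback.snd (m ≫ j).fromNormalization j) z).mpr inferInstance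
      exact isReduced_of_isReduced_stalk _
    have : IsIso l := isIso_of_isClosedImmersion_of_surjective _
    refine ⟨N, ⟨MorphismProperty.Over.isoMk ((asIso l).symm ≪≫ e.symm) ?_⟩⟩
    change (inv l ≫ e.inv) ≫ Y₀.hom = pullback.snd (m ≫ j).fromNormalization j
    rw [Category.assoc, IsIso.inv_comp_eq, hsnd, ← he, Iso.inv_hom_id_assoc]

end Groth.Agent.S9491
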