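import Groth.Statements.S9492
import Groth.Agent.FEtCat.Lef.Completion
import Groth.Agent.ProjTwist.Tensor
-- import your own Groth.Agent.* helpers here

set_option autoImplicit false
universe u
open Lef

namespace Groth.Agent.S9492

open AlgebraicGeometry CategoryTheory CategoryTheory.Limits in
/-- Let X be a Noetherian scheme and 𝓘 a quasi-coherent ideal sheaf with closed subscheme Y = V(𝓘).
Assume the completion functor along 𝓘, sending an O_X-module F to the system (F|_{V(𝓘^(n+1))})_n, is
fully faithful on finite locally free O_X-modules: for all finite locally free F and G the map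
Hom(F, G) → Hom(F^, G^) is bijective. Then restriction of finite etale covers from X to Y is fully
faithful. -/
theorem result (X : Scheme.{u}) [IsNoetherian X] (𝓘 : X.IdealSheafData)
    (h : (∀ F G : X.Modules, FlatMod.IsFinLocFree F → FlatMod.IsFinLocFree G →
      Function.Bijective (fun φ : F ⟶ G => FSch.complModMap 𝓘 φ))) :
    (FEt.restrict 𝓘.subschemeι).Full ∧ (FEt.restrict 𝓘.subschemeι).Faithful := by
  refine Groth.Agent.FEtCat.Lef.full_faithful _ fun Z => ?_
  have : IsFinite Z.hom := Z.prop.1
  have : Etale Z.hom := Z.prop.2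
  exact Groth.Agent.FEtCat.Lef.Completion.homToFormalBijective 𝓘 _
    (h _ _ (Groth.Agent.FEtCat.Lef.isFinLocFree_push Z.hom)
      fun x => let ⟨U, hx, e⟩ := Groth.Agent.ProjTwist.isFinLocFreeOfRank_one (Groth.Agent.LFFrame.isInvertible_structureModule X) x; ⟨U, 1, hx, e⟩)

end Groth.Agent.S9492
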