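import Groth.Statements.S9494
import Groth.Agent.H85.InertiaEtale
import Groth.Agent.IndAlg.Etale
import Mathlib.FieldTheory.Galois.Profinite

set_option autoImplicit false
universe u
open Pi1

namespace Groth.Agent.S9494

/-- Conditions on the image of one element cut out clopen subsets of the Galois group. -/
theorem isClopen_apply_mem (K L : Type u) [Field K] [Field L] [Algebra K L] [IsGalois K L] (x : L)
    (S : Set L) : IsClopen {σ : L ≃ₐ[K] L | σ x ∈ S} := by
  have key : ∀ S : Set L, IsOpen {σ : L ≃ₐ[K] L | σ x ∈ S} := fun S => by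
    refine isOpen_iff_forall_mem_open.mpr fun σ hσ => ?_
    let E := IntermediateField.adjoin K {x}
    have : FiniteDimensional K E := IntermediateField.adjoin.finiteDimensional (Algebra.IsAlgebraic.isAlgebraic x).isIntegral
    refine ⟨(fun τ => σ * τ) '' (E.fixingSubgroup : Set (L ≃ₐ[K] L)), ?_, ?_, ⟨1, one_mem _, mul_one σ⟩⟩
    · rintro _ ⟨τ, hτ, rfl⟩
      have : τ x = x := (IntermediateField.mem_fixingSubgroup_iff _ _).mp hτ x
        (IntermediateField.subset_adjoin K _ rfl)
      change σ (τ x) ∈ S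
      rwa [this]
    · exact (Homeomorph.mulLeft σ).isOpenMap _ E.fixingSubgroup_isOpen
  exact ⟨⟨key Sᶜ⟩, key S⟩

section finiteLevel

variable (A K L : Type u) [CommRing A] [IsDomain A] [IsIntegrallyClosed A]
    [Field K] [Field L] [Algebra A K] [IsFractionRing A K] [Algebra K L] [Algebra A L] [IsScalarTower A K L]

/-- The Galois group acting on the integral closure. -/
@[reducible] def action : MulSemiringAction (L ≃ₐ[K] L) (integralClosure A L) where
  smul σ b := ⟨σ b, IsIntegral.map (σ.restrictScalars A).toAlgHom b.2⟩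
  one_smul b := Subtype.ext rfl
  mul_smul σ τ b := Subtype.ext rfl
  smul_zero σ := Subtype.ext (map_zero σ)
  smul_add σ b c := Subtype.ext (map_add σ (b : L) c)
  smul_one σ := Subtype.ext (map_one σ)
  smul_mul σ b c := Subtype.ext (map_mul σ (b : L) c)

end finiteLevel

/-- An injective algebra map extends to an injective map from a localisation. -/
theorem exists_lift_away {A B C P E : Type u} [CommRing A] [CommRing B] [CommRing C] [CommRing P] [CommRing E]
    [Algebra A B] [Algebra A C] [Algebra A P] [Algebra C P] [IsScalarTower A C P] [Algebra A E] [Algebra B E]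
    [IsScalarTower A B E] (toC : B →ₐ[A] C) (htoC : Function.Injective toC)
    (hP : Function.Injective (algebraMap C P)) (h : B) [IsLocalization.Away h E]
    (hu : IsUnit (algebraMap C P (toC h))) :
    ∃ w : E →ₐ[A] P, Function.Injective w ∧ ∀ r, w (algebraMap B E r) = algebraMap C P (toC r) := by
  let f : B →ₐ[A] P := (IsScalarTower.toAlgHom A C P).comp toC
  have hw : ∀ r, IsLocalization.Away.liftAlgHom (S := E) h (f := f) hu (algebraMap B E r) = algebraMap C P (toC r) :=
    fun r => IsLocalization.Away.lift_eq h hu r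
  refine ⟨IsLocalization.Away.liftAlgHom (S := E) h (f := f) hu, ?_, hw⟩
  rw [injective_iff_map_eq_zero]
  intro z hz
  obtain ⟨⟨r, s⟩, hrs'⟩ := IsLocalization.surj (Submonoid.powers h) z
  have h0 := hw r
  rw [← hrs', map_mul, hz, zero_mul, eq_comm, map_eq_zero_iff _ hP, map_eq_zero_iff _ htoC] at h0
  rw [h0, map_zero] at hrs'
  exact (IsLocalization.map_units E s).mul_left_eq_zero.mp hrs'

/-- An element with numerator and denominator in the range lies in the range of the lift. -/
theorem mem_range_of_mul_eq {A B C P E : Type u} [CommRing A] [CommRing B] [CommRing C] [CommRing P] [CommRing E]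
    [Algebra A B] [Algebra A C] [Algebra A P] [Algebra C P] [Algebra A E] [Algebra B E]
    (toC : B →ₐ[A] C) (h : B) [IsLocalization.Away h E] (w : E →ₐ[A] P)
    (hw : ∀ r, w (algebraMap B E r) = algebraMap C P (toC r)) {r t : B} (ht : t ∣ h) {c s : C}
    (hr : toC r = c) (hs : toC t = s) {p : P} (hp : p * algebraMap C P s = algebraMap C P c) :
    p ∈ w.range := by
  obtain ⟨u, hu⟩ := isUnit_of_dvd_unit (map_dvd (algebraMap B E) ht) (IsLocalization.Away.algebraMap_isUnit h)
  refine ⟨algebraMap B E r * ↑u⁻¹, (u.isUnit.map w).mul_left_injective ?_⟩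
  change w _ * w _ = p * w _
  rw [← map_mul, mul_assoc, Units.inv_mul, mul_one, hu, hw, hw, hr, hs, hp]

/-- A map out of a quotient of a polynomial ring has range inside that of `w` if the generators do. -/
theorem mem_range_of_gens {A Z E P : Type u} {ι : Type} [CommRing A] [CommRing Z] [CommRing E] [CommRing P]
    [Algebra A Z] [Algebra A E] [Algebra A P] (w : E →ₐ[A] P) (g : Z →ₐ[A] P)
    (π : MvPolynomial ι A →ₐ[A] Z) (hπ : Function.Surjective π)
    (hX : ∀ i, g (π (MvPolynomial.X i)) ∈ w.range) (z : Z) : g z ∈ w.range := by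
  obtain ⟨Q, rfl⟩ := hπ z
  induction Q using MvPolynomial.induction_on with
  | C a =>
    rw [← MvPolynomial.algebraMap_eq, AlgHom.commutes, AlgHom.commutes]
    exact Subalgebra.algebraMap_mem _ a
  | add x y hx hy => rw [map_add, map_add]; exact add_mem hx hy
  | mul_X x i hx => rw [map_mul, map_mul]; exact mul_mem hx (hX i)

/-- A map with range inside that of an injective map factors through it. -/
theorem exists_comp_eq {A Z E P : Type u} [CommRing A] [CommRing Z] [CommRing E] [CommRing P]
    [Algebra A Z] [Algebra A E] [Algebra A P] (w : E →ₐ[A] P) (hw : Function.Injective w) (g : Z →ₐ[A] P)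
    (hg : ∀ z, g z ∈ w.range) : ∃ v : Z →ₐ[A] E, w.comp v = g :=
  ⟨(AlgEquiv.ofInjective w hw).symm.toAlgHom.comp (g.codRestrict w.range hg), AlgHom.ext fun z =>
    congrArg Subtype.val ((AlgEquiv.ofInjective w hw).apply_symm_apply ⟨g z, hg z⟩)⟩

set_option maxHeartbeats 1000000 in
/-- Let A be an integrally closed domain with fraction field K, L/K a (possibly infinite) Galois
extension with group G = Gal(L/K), B the integral closure of A in L and q a prime of B. Let I ⊆ G be
the inertia group of q: the automorphisms σ with σ(b) - b ∈ q for every b ∈ B. Then the localization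
of the ring of invariants B^I = B ∩ L^I at the prime q ∩ B^I is an ind-etale A-algebra, i.e. a
filtered colimit of etale A-algebras. -/
theorem result (A K L : Type u) [CommRing A] [IsDomain A] [IsIntegrallyClosed A]
    [Field K] [Field L] [Algebra A K] [IsFractionRing A K] [Algebra K L] [Algebra A L] [IsScalarTower A K L]
    [IsGalois K L] (q : Ideal (integralClosure A L)) [q.IsPrime]
    (I : Subgroup (L ≃ₐ[K] L))
    (hI : ∀ σ : L ≃ₐ[K] L, σ ∈ I ↔ ∀ b : integralClosure A L, ∃ c ∈ q, (c : L) = σ b - b) :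
    EtPBC.IsIndEtale A (Localization.AtPrime
      (q.comap (Subalgebra.inclusion
        (inf_le_left : integralClosure A L ⊓ (IntermediateField.fixedField I).toSubalgebra.restrictScalars A ≤
          integralClosure A L)))) := by
  classical
  refine IndAlg.Etale.isInd_of_fac ?_
  intro Z _ _ hZ gZ
  obtain ⟨n, π, hπ, -⟩ := Algebra.FinitePresentation.out (R := A) (A := Z)
  let C : Subalgebra A L :=
    integralClosure A L ⊓ (IntermediateField.fixedField I).toSubalgebra.restrictScalars A
  have hCle : C ≤ integralClosure A L := inf_le_left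
  let qC : Ideal C := q.comap (Subalgebra.inclusion hCle)
  change ∃ (E : Type u) (_ : CommRing E) (_ : Algebra A E),
    IndAlg.Etale.Et A E ∧ ∃ (v : Z →ₐ[A] E) (w : E →ₐ[A] Localization.AtPrime qC), w.comp v = gZ
  have hsurj : ∀ i, ∃ (b : C) (s : qC.primeCompl),
      IsLocalization.mk' (Localization.AtPrime qC) b s = gZ (π (MvPolynomial.X i)) := fun i =>
    let ⟨b, s, h⟩ := IsLocalization.exists_mk'_eq qC.primeCompl (gZ (π (MvPolynomial.X i)))
    ⟨b, s, h⟩
  choose b sd hbs using hsurj
  -- a finite level at which inertia fixes all numerators and denominators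
  let F : Set (L ≃ₐ[K] L) := {σ | ∀ i, σ (b i : L) = b i ∧ σ ((sd i : C) : L) = (sd i : C)}
  let J : integralClosure A L → Set (L ≃ₐ[K] L) := fun x => {σ | ∃ c ∈ q, (c : L) = σ x - x}
  have hF : IsOpen F := by
    have : F = (⋂ i, {σ : L ≃ₐ[K] L | σ (b i : L) ∈ ({(b i : L)} : Set L)}) ∩
        ⋂ i, {σ : L ≃ₐ[K] L | σ ((sd i : C) : L) ∈ ({((sd i : C) : L)} : Set L)} := by
      ext σ
      simp [F, forall_and]
    rw [this]
    exact (isOpen_iInter_of_finite fun i => (isClopen_apply_mem K L _ _).2).inter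
      (isOpen_iInter_of_finite fun i => (isClopen_apply_mem K L _ _).2)
  have hJ : ∀ x, IsClosed (J x) := fun x =>
    (isClopen_apply_mem K L (x : L) {y | ∃ c ∈ q, (c : L) = y - x}).1
  have hfix : ∀ σ ∈ I, ∀ c : C, σ (c : L) = c := fun σ hσ c => c.2.2 ⟨σ, hσ⟩
  have hempty : Fᶜ ∩ ⋂ x, J x = ∅ := Set.eq_empty_iff_forall_notMem.mpr fun σ ⟨h1, h2⟩ => by
    have hσ : σ ∈ I := (hI σ).mpr fun x => Set.mem_iInter.mp h2 x
    exact h1 fun i => ⟨hfix σ hσ _, hfix σ hσ _⟩
  obtain ⟨t, ht⟩ := hF.isClosed_compl.isCompact.elim_finite_subfamily_closed J hJ hempty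
  let S : Set L := (t.image fun x : integralClosure A L => (x : L)) ∪
    (Set.range (fun i => (b i : L)) ∪ Set.range fun i => ((sd i : C) : L))
  have : Finite S := Set.Finite.to_subtype (by
    refine Set.Finite.union (Finset.finite_toSet _) (Set.Finite.union (Set.finite_range _) (Set.finite_range _)))
  let M := FiniteGaloisIntermediateField.adjoin K S
  have hSM : ∀ x ∈ S, x ∈ M.1 := fun x hx => FiniteGaloisIntermediateField.subset_adjoin K S hx
  let R := integralClosure A M.1
  let : MulSemiringAction (M.1 ≃ₐ[K] M.1) R := action A K M.1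
  let incl : M.1 →ₐ[A] L := (IntermediateField.val M.1).restrictScalars A
  let up : R →ₐ[A] integralClosure A L :=
    (incl.comp R.val).codRestrict (integralClosure A L) fun r => IsIntegral.map incl r.2
  let q' : Ideal R := q.comap up
  have hI' : ∀ σ ∈ I, AlgEquiv.restrictNormalHom M.1 σ ∈ q'.inertia (M.1 ≃ₐ[K] M.1) := fun σ hσ r => by
    obtain ⟨c, hc, hc'⟩ := (hI σ).mp hσ (up r)
    change up (AlgEquiv.restrictNormalHom M.1 σ • r - r) ∈ q
    have h1 : up (AlgEquiv.restrictNormalHom M.1 σ • r - r) = c := by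
      refine Subtype.ext ?_
      rw [hc', map_sub]
      change ((AlgEquiv.restrictNormalHom M.1 σ (r : M.1)) : L) - ((r : M.1) : L) = σ ((r : M.1) : L) - ((r : M.1) : L)
      rw [AlgEquiv.restrictNormalHom_apply]
    rw [h1]
    exact hc
  have hcut : ∀ τ ∈ q'.inertia (M.1 ≃ₐ[K] M.1), ∀ σ : L ≃ₐ[K] L,
      AlgEquiv.restrictNormalHom M.1 σ = τ → σ ∈ F := by
    intro τ hτ σ hσ
    by_contra hσF
    refine (Set.eq_empty_iff_forall_notMem.mp ht) σ ⟨hσF, Set.mem_iInter₂.mpr fun x hx => ?_⟩
    have hxM : (x : L) ∈ M.1 := hSM _ (Or.inl (Finset.mem_coe.mpr (Finset.mem_image_of_mem _ hx)))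
    have hxint : IsIntegral A (⟨(x : L), hxM⟩ : M.1) :=
      (isIntegral_algHom_iff incl Subtype.val_injective).mp x.2
    refine ⟨up (τ • ⟨_, hxint⟩ - ⟨_, hxint⟩), hτ ⟨_, hxint⟩, ?_⟩
    rw [map_sub]
    change ((τ (⟨(x : L), hxM⟩ : M.1)) : L) - (x : L) = σ x - x
    rw [← hσ, AlgEquiv.restrictNormalHom_apply]
  obtain ⟨g, hg, hget⟩ := H85.InertiaEtale.exists_etale (G := M.1 ≃ₐ[K] M.1) q'
  let B := FixedPoints.subring R (q'.inertia (M.1 ≃ₐ[K] M.1))
  let A₀ := FixedPoints.subring R (M.1 ≃ₐ[K] M.1)
  let : Algebra A A₀ := (RingHom.codRestrict (algebraMap A R) A₀ fun a τ =>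
    Subtype.ext ((τ.restrictScalars A).commutes a)).toAlgebra
  have hA₀ : Function.Bijective (algebraMap A A₀) := by
    refine ⟨fun x y h => IsFractionRing.injective A K ((algebraMap K M.1).injective ?_), fun z => ?_⟩
    · rw [← IsScalarTower.algebraMap_apply, ← IsScalarTower.algebraMap_apply]
      exact congrArg (fun w : A₀ => ((w : R) : M.1)) h
    · obtain ⟨k, hk⟩ := (IsGalois.mem_bot_iff_fixed ((z : R) : M.1)).mpr fun τ =>
        congrArg (fun r : R => (r : M.1)) (z.2 τ)
      have hkint : IsIntegral A k := (isIntegral_algHom_iff (IsScalarTower.toAlgHom A K M.1)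
        (algebraMap K M.1).injective).mp (hk ▸ (z : R).2)
      obtain ⟨a, ha⟩ := IsIntegrallyClosed.isIntegral_iff.mp hkint
      refine ⟨a, Subtype.ext (Subtype.ext ?_)⟩
      change algebraMap A M.1 a = _
      rw [IsScalarTower.algebraMap_apply A K M.1, ha]
      exact hk
  have : Algebra.Etale A A₀ := Algebra.Etale.of_equiv
    (AlgEquiv.ofBijective (Algebra.ofId A A₀) hA₀)
  let : Algebra A B := ((Algebra.ofId A₀ B : A₀ →+* B).comp (algebraMap A A₀)).toAlgebra
  have : IsScalarTower A A₀ B := .of_algebraMap_eq' rfl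
  have : Algebra.Etale A (Localization.Away g) := by
    have := hget
    exact Algebra.Etale.comp A A₀ (Localization.Away g)
  -- the invariants at the finite level map to `C`
  let toC : B →ₐ[A] C :=
    { toFun := fun r => ⟨(up r : L), (up r).2, fun σ => by
        have h := congrArg (fun z : R => ((z : M.1) : L)) (r.2 ⟨_, hI' σ σ.2⟩)
        change σ.1 (((r : R) : M.1) : L) = _
        rw [← AlgEquiv.restrictNormalHom_apply]
        exact h⟩
      map_one' := Subtype.ext rfl
      map_mul' := fun _ _ => Subtype.ext rfl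
      map_zero' := Subtype.ext rfl
      map_add' := fun _ _ => Subtype.ext rfl
      commutes' := fun a => Subtype.ext rfl }
  have htoC : Function.Injective toC := fun r r' h =>
    Subtype.ext (Subtype.ext (Subtype.val_injective (congrArg (fun c : C => (c : L)) h)))
  have hlev : ∀ c : C, (c : L) ∈ M.1 →
      (∀ σ : L ≃ₐ[K] L, σ ∈ F → σ (c : L) = c) → ∃ r : B, toC r = c := fun c hc hcF => by
    have hint : IsIntegral A (⟨(c : L), hc⟩ : M.1) :=
      (isIntegral_algHom_iff incl Subtype.val_injective).mp c.2.1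
    refine ⟨⟨⟨_, hint⟩, fun τ => Subtype.ext (Subtype.ext ?_)⟩, rfl⟩
    obtain ⟨σ, hσ⟩ := AlgEquiv.restrictNormalHom_surjective (F := K) (K₁ := M.1) (E := L) τ.1
    change ((τ.1 (⟨(c : L), hc⟩ : M.1)) : L) = c
    rw [← hσ, AlgEquiv.restrictNormalHom_apply]
    exact hcF σ (hcut _ τ.2 σ hσ)
  choose rb hrb using fun i => hlev (b i) (hSM _ (Or.inr (Or.inl ⟨i, rfl⟩))) fun σ hσ => (hσ i).1
  choose rs hrs using fun i => hlev (sd i) (hSM _ (Or.inr (Or.inr ⟨i, rfl⟩))) fun σ hσ => (hσ i).2
  let h : B := g * ∏ i, rs i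
  let E := Localization.Away (algebraMap B (Localization.Away g) (∏ i, rs i))
  have : IsScalarTower A B E := inferInstance
  have : IsLocalization.Away h E := inferInstanceAs (IsLocalization.Away (g * ∏ i, rs i) E)
  have hE : Algebra.Etale A E :=
    have : Algebra.Etale (Localization.Away g) E :=
      Algebra.Etale.of_isLocalizationAway (algebraMap B (Localization.Away g) (∏ i, rs i))
    Algebra.Etale.comp A (Localization.Away g) E
  have hu : IsUnit (algebraMap C (Localization.AtPrime qC) (toC h)) := by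
    refine IsLocalization.map_units (Localization.AtPrime qC) (⟨toC h, ?_⟩ : qC.primeCompl)
    rw [map_mul, map_prod]
    refine Submonoid.mul_mem _ (fun hmem => hg ?_) (Submonoid.prod_mem _ fun i _ => by rw [hrs]; exact (sd i).2)
    exact hmem
  have hqinj : Function.Injective (algebraMap C (Localization.AtPrime qC)) :=
    IsLocalization.injective _ qC.primeCompl_le_nonZeroDivisors
  obtain ⟨w, hwinj, hw⟩ := exists_lift_away (E := E) toC htoC hqinj h hu
  have hX : ∀ i, gZ (π (MvPolynomial.X i)) ∈ w.range := fun i =>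
    mem_range_of_mul_eq toC h w hw (Dvd.dvd.mul_left (Finset.dvd_prod_of_mem rs (Finset.mem_univ i)) g)
      (hrb i) (hrs i) (hbs i ▸ IsLocalization.mk'_spec (Localization.AtPrime qC) (b i) (sd i))
  obtain ⟨v, hv⟩ := exists_comp_eq w hwinj gZ (mem_range_of_gens w gZ π hπ hX)
  exact ⟨E, inferInstance, inferInstance, hE, v, w, hv⟩

end Groth.Agent.S9494
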