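import Groth.Statements.S9495
import Mathlib.AlgebraicGeometry.Morphisms.Flat
import Mathlib.AlgebraicGeometry.Fiber
import Mathlib.AlgebraicGeometry.Morphisms.ClosedImmersion
import Mathlib.AlgebraicGeometry.Morphisms.UniversallyInjective
import Mathlib.AlgebraicGeometry.Morphisms.QuasiSeparated
import Mathlib.Topology.LocalAtTarget
import Mathlib.RingTheory.Flat.FaithfullyFlat.Algebra


set_option autoImplicit false
universe u
open SchMor

namespace Groth.Agent.S9495
open scoped Set.Notation
open AlgebraicGeometry CategoryTheory in
lemma affine_case {X : Scheme.{u}} {R : CommRingCat.{u}} (f : X ⟶ Spec R) [QuasiCompact f]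
    (h : StableUnderSpecialization (Set.range f)) : IsClosed (Set.range f) := by
  haveI : CompactSpace X := QuasiCompact.compactSpace_of_compactSpace f
  obtain ⟨A, g, hg⟩ := compactSpace_iff_exists.mp (inferInstance : CompactSpace X)
  obtain ⟨φ, hφ⟩ := Spec.homEquiv.symm.surjective (g ≫ f)
  have e : Set.range f = Set.range (PrimeSpectrum.comap φ.hom) := by
    rw [← hg.range_comp f]
    show Set.range (fun x => f (g x)) = _
    have : ∀ x, f (g x) = (g ≫ f) x := fun _ => rfl
    simp only [this, ← hφ]
    rfl
  rw [e] at h ⊢
  exact PrimeSpectrum.isClosed_range_of_stableUnderSpecialization _ h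

open AlgebraicGeometry in
open CategoryTheory in
/-- For a quasi-compact morphism of schemes f : X → S, the image f(X) is closed in S if and only if it
is stable under specialization. -/
theorem result
    {X S : Scheme.{u}} (f : X ⟶ S) [QuasiCompact f] :
    IsClosed (Set.range f) ↔ StableUnderSpecialization (Set.range f) := by
  refine ⟨fun h => h.stableUnderSpecialization, fun h => ?_⟩
  have key : ∀ U : S.affineOpens, IsClosed (((U : S.Opens) : Set S) ↓∩ Set.range f) := by
    intro U
    haveI : IsAffine (U : S.Opens) := U.2
    have hq : QuasiCompact ((f ∣_ (U : S.Opens)) ≫ U.2.isoSpec.hom) := inferInstance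
    have e : Set.range (f ∣_ (U : S.Opens)) = ((U : S.Opens) : Set S) ↓∩ Set.range f := by
      rw [morphismRestrict_base]
      exact Set.range_restrictPreimage _ _
    have e2 : Set.range ((f ∣_ (U : S.Opens)) ≫ U.2.isoSpec.hom) =
        U.2.isoSpec.hom.homeomorph '' (((U : S.Opens) : Set S) ↓∩ Set.range f) := by
      rw [← e, ← Set.range_comp]; rfl
    have hh : StableUnderSpecialization (Set.range ((f ∣_ (U : S.Opens)) ≫ U.2.isoSpec.hom)) := by
      rw [e2, Homeomorph.image_eq_preimage_symm]
      exact (h.preimage continuous_subtype_val).preimage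
        U.2.isoSpec.hom.homeomorph.symm.continuous
    have := affine_case _ hh
    rw [e2, Homeomorph.isClosed_image] at this
    exact this
  exact ((TopologicalSpace.IsOpenCover.isClosed_iff_coe_preimage
    (iSup_affineOpens_eq_top S)).2 key)

end Groth.Agent.S9495
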