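import Groth.Statements.S9497
import Groth.Agent.QCoh.Exact

set_option backward.isDefEq.respectTransparency false

set_option autoImplicit false
universe u
open AffSch

namespace Groth.Agent.S9497

open AlgebraicGeometry in
open CategoryTheory Limits in
/-- Let X = Spec A be an affine scheme and F : J → Mod(O_X) a small diagram of quasi-coherent
O_X-modules. Then the colimit of F, computed in the category of all O_X-modules, is quasi-coherent
(this contains the case of arbitrary direct sums). -/
theorem result
    (A : Type u) [CommRing A] {J : Type u} [SmallCategory J]
    (F : J ⥤ (Spec (CommRingCat.of A)).Modules) (hF : ∀ j, Coh.IsQCoh (F.obj j)) :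
    Coh.IsQCoh (colimit F) := by
  have : ∀ j, (F.obj j).IsQuasicoherent := hF
  exact Groth.Agent.QCoh.isQuasicoherent_colimit_Spec F

end Groth.Agent.S9497
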