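import Groth.Statements.S9501
import Mathlib.AlgebraicGeometry.Fiber
import Mathlib.AlgebraicGeometry.Morphisms.Preimmersion
import Mathlib.AlgebraicGeometry.Stalk
import Mathlib.AlgebraicGeometry.FunctionField

set_option autoImplicit false
universe u
open SchMor

namespace Groth.Agent.S9501
set_option backward.isDefEq.respectTransparency false

open CategoryTheory AlgebraicGeometry in
lemma germ_scpt_comp_eq_zero {Q : CommRingCat.{u}} [IsLocalRing Q] {X Y : Scheme.{u}}
    (L : Spec Q ⟶ Y) (j : Y ⟶ X) (U : X.Opens) (a : X.presheaf.obj (Opposite.op U))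
    (hm : (L ≫ j) (IsLocalRing.closedPoint Q) ∈ U)
    (h : Y.presheaf.germ (j ⁻¹ᵁ U) (L (IsLocalRing.closedPoint Q)) hm (j.app U a) = 0) :
    (X.presheaf.germ U _ hm ≫ Scheme.stalkClosedPointTo (L ≫ j)) a = 0 := by
  have e : X.presheaf.germ U _ hm ≫ Scheme.stalkClosedPointTo (L ≫ j) =
      j.app U ≫ Y.presheaf.germ (j ⁻¹ᵁ U) (L (IsLocalRing.closedPoint Q)) hm ≫
        Scheme.stalkClosedPointTo L := by
    rw [Scheme.stalkClosedPointTo_comp]
    exact Scheme.Hom.germ_stalkMap_assoc _ _ _ _ _
  rw [e, CommRingCat.comp_apply, CommRingCat.comp_apply, h, map_zero]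

open AlgebraicGeometry in
open CategoryTheory in
/-- Let f : X → S be a morphism of schemes, s a point of S and y a point of the fibre X_s = X ×_S Spec
κ(s), mapping to the point x of X (so that f(x) = s). Then the homomorphism of local rings O_{X,x} →
O_{X_s,y} induced by the projection X_s → X is surjective, with kernel the ideal generated by the
image of the maximal ideal of O_{S,f(x)}; in other words O_{X_s,y} is identified with O_{X,x}/m_s
O_{X,x} = O_{X,x} ⊗_{O_{S,s}} κ(s). -/
theorem result
    {X S : Scheme.{u}} (f : X ⟶ S) (s : S) (y : ↥(f.fiber s)) :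
    Function.Surjective ((f.fiberι s).stalkMap y).hom ∧
      RingHom.ker ((f.fiberι s).stalkMap y).hom =
        Ideal.map (f.stalkMap ((f.fiberι s).base y)).hom
          (IsLocalRing.maximalIdeal (S.presheaf.stalk (f.base ((f.fiberι s).base y)))) := by
  have hfy : f (f.fiberι s y) = s := by
    have := Set.mem_range_self (f := f.fiberι s) y
    rwa [Scheme.Hom.range_fiberι] at this
  refine ⟨(f.fiberι s).stalkMap_surjective y, le_antisymm ?_ ?_⟩
  · intro u hu
    let x := f.fiberι s y
    let J : Ideal (X.presheaf.stalk x) :=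
      Ideal.map (f.stalkMap x).hom (IsLocalRing.maximalIdeal (S.presheaf.stalk (f x)))
    have htf := (IsLocalRing.local_hom_TFAE (f.stalkMap x).hom).out 0 2
    have hJ : J ≠ ⊤ := ne_top_of_le_ne_top (IsLocalRing.maximalIdeal.isMaximal _).ne_top
      (htf.1 inferInstance)
    haveI : Nontrivial (X.presheaf.stalk x ⧸ J) := Ideal.Quotient.nontrivial_iff.2 hJ
    haveI : IsLocalHom (Ideal.Quotient.mk J) :=
      IsLocalHom.of_surjective _ Ideal.Quotient.mk_surjective
    haveI : IsLocalRing (X.presheaf.stalk x ⧸ J) :=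
      IsLocalRing.of_surjective' _ Ideal.Quotient.mk_surjective
    let Q : CommRingCat := CommRingCat.of (X.presheaf.stalk x ⧸ J)
    let π : X.presheaf.stalk x ⟶ Q := CommRingCat.ofHom (Ideal.Quotient.mk J)
    let q : Spec Q ⟶ X := Spec.map π ≫ X.fromSpecStalk x
    have hr : ∀ t : S, f x = t →
        ∃ r : Spec Q ⟶ Spec (S.residueField t), r ≫ S.fromSpecResidueField t = q ≫ f := by
      rintro _ rfl
      let ρ : S.residueField (f x) ⟶ Q := CommRingCat.ofHom
        (Ideal.Quotient.lift (IsLocalRing.maximalIdeal (S.presheaf.stalk (f x)))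
          ((Ideal.Quotient.mk J).comp (f.stalkMap x).hom)
          (fun a ha => Ideal.Quotient.eq_zero_iff_mem.2 (Ideal.mem_map_of_mem _ ha)))
      refine ⟨Spec.map ρ, ?_⟩
      have hρ : S.residue (f x) ≫ ρ = f.stalkMap x ≫ π := rfl
      simp only [q, Scheme.fromSpecResidueField, Category.assoc]
      rw [← Category.assoc, ← Spec.map_comp, hρ, Spec.map_comp, Category.assoc,
        Scheme.SpecMap_stalkMap_fromSpecStalk]
    obtain ⟨r, hr⟩ := hr s hfy
    let L : Spec Q ⟶ f.fiber s := Limits.pullback.lift q r hr.symm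
    have hL : L ≫ f.fiberι s = q := Limits.pullback.lift_fst _ _ _
    haveI : IsLocalHom π.hom := ‹_›
    have hqc : q (IsLocalRing.closedPoint Q) = x := by
      simp only [q, Scheme.Hom.comp_apply]
      rw [Spec_closedPoint, Scheme.fromSpecStalk_closedPoint]
    have hLc : L (IsLocalRing.closedPoint Q) = y := by
      apply (f.fiberι s).isEmbedding.injective
      rw [← Scheme.Hom.comp_apply, hL]
      exact hqc
    obtain ⟨U, hxU, a, rfl⟩ := X.presheaf.exists_germ_eq u
    have h0 : ∀ (z : ↥(f.fiber s)) (hz : z ∈ f.fiberι s ⁻¹ᵁ U), z = y →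
        (f.fiber s).presheaf.germ (f.fiberι s ⁻¹ᵁ U) z hz ((f.fiberι s).app U a) = 0 := by
      rintro z hz rfl
      rw [RingHom.mem_ker] at hu
      rw [← hu, ← CommRingCat.comp_apply, ← CommRingCat.comp_apply, Scheme.Hom.germ_stalkMap]
    have hmem : q (IsLocalRing.closedPoint Q) ∈ U := by rw [hqc]; exact hxU
    have h1 := congr($(Scheme.germ_stalkClosedPointTo_Spec_fromSpecStalk π U hmem) a)
    show X.presheaf.germ U x hxU a ∈ J
    rw [← Ideal.Quotient.eq_zero_iff_mem]
    refine h1.symm.trans ?_
    have key : ∀ (q' : Spec Q ⟶ X) (_ : q' = L ≫ f.fiberι s) (hm : q' (IsLocalRing.closedPoint Q) ∈ U),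
        (X.presheaf.germ U _ hm ≫ Scheme.stalkClosedPointTo q') a = 0 := by
      rintro _ rfl hm
      exact Groth.Agent.S9501.germ_scpt_comp_eq_zero L _ U a hm (h0 _ _ hLc)
    exact key q hL.symm hmem
  · rw [Ideal.map_le_iff_le_comap]
    intro m hm
    rw [Ideal.mem_comap, RingHom.mem_ker]
    have e : f.stalkMap (f.fiberι s y) ≫ (f.fiberι s).stalkMap y = (f.fiberι s ≫ f).stalkMap y :=
      (Scheme.Hom.stalkMap_comp _ _ _).symm
    have key : ∀ (g : f.fiber s ⟶ S), g = f.fiberToSpecResidueField s ≫ S.fromSpecResidueField s →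
        ∀ m ∈ IsLocalRing.maximalIdeal (S.presheaf.stalk (g y)), g.stalkMap y m = 0 := by
      rintro _ rfl m hm
      rw [Scheme.Hom.stalkMap_comp, CommRingCat.comp_apply]
      suffices hz : (S.fromSpecResidueField s).stalkMap (f.fiberToSpecResidueField s y) m = 0 by
        erw [hz, map_zero]
      by_contra hne
      have hpt : ∀ z w : ↥(Spec (S.residueField s)), z = w :=
        fun z w => Subsingleton.elim (α := PrimeSpectrum (S.residueField s)) z w
      have hF : ∀ z : ↥(Spec (S.residueField s)), z = genericPoint ↥(Spec (S.residueField s)) →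
          ∀ w : (Spec (S.residueField s)).presheaf.stalk z, w ≠ 0 → IsUnit w := by
        rintro _ rfl w hw
        exact IsUnit.mk0 (G₀ := (Spec (S.residueField s)).functionField) w hw
      have hu := hF _ (hpt _ _) _ hne
      exact hm (isUnit_of_map_unit _ _ hu)
    have := key (f.fiberι s ≫ f) (Scheme.Hom.fiber_fac f s) m hm
    rw [← e] at this
    exact this

end Groth.Agent.S9501
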