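import Groth.Statements.S9503
import Groth.Agent.InjMod.ExtTilde
import Groth.Agent.InjMod.InjCrit
import Groth.Agent.S9827
-- import your own Groth.Agent.* helpers here

set_option autoImplicit false
universe u
open AffSch

namespace Groth.Agent.S9503

open CategoryTheory CategoryTheory.Limits AlgebraicGeometry Opposite in
/-- `ℋom(M~, N~) ≅ Hom(M, N)~`. -/
theorem homF_tilde {R : CommRingCat.{u}} (M N : ModuleCat.{u} R)
    [ModSite.HasSheafHom (O := (Spec R).sheaf) (tilde M)]
    (hM : CohB1.IsFP (tilde M : (Spec R).Modules)) :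
    Nonempty ((InjMod.homF (tilde M : (Spec R).Modules)).obj (tilde N) ≅
      tilde (ModuleCat.of R (M →ₗ[R] N))) := by
  let F : (Spec R).Modules := tilde M
  let G : (Spec R).Modules := tilde N
  have : G.IsQuasicoherent := inferInstanceAs (tilde N).IsQuasicoherent
  let H := (InjMod.homF F).obj G
  have hq : H.IsQuasicoherent := InjMod.isQuasicoherent_homF (G := G) hM
  have : IsIso H.fromTildeΓ := Scheme.Modules.isIso_fromTildeΓ_of_isQuasicoherent H
  let φ : R →+* Γ(Spec R, ⊤) := (Scheme.ΓSpecIso R).symm.commRingCatIsoToRingEquiv.toRingHom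
  have hφ : Function.Surjective φ := (Scheme.ΓSpecIso R).symm.commRingCatIsoToRingEquiv.surjective
  let eM : M ≃ₗ[R] (ModuleCat.restrictScalars φ).obj (InjMod.secObj F ⊤) :=
    (tilde.isoTop M).toLinearEquiv ≪≫ₗ (InjMod.topEquiv F).symm
  let eN : N ≃ₗ[R] (ModuleCat.restrictScalars φ).obj (InjMod.secObj G ⊤) :=
    (tilde.isoTop N).toLinearEquiv ≪≫ₗ (InjMod.topEquiv G).symm
  have hbij := InjMod.evSec_bijective (F := F) (G := G) (U := (⊤ : (Spec R).Opens)) hM (isAffineOpen_top _)
  let toHom : (ModuleCat.restrictScalars φ).obj (InjMod.secObj H ⊤) →ₗ[R] (M →ₗ[R] N) :=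
    { toFun := fun s =>
        { toFun := fun m => eN.symm (InjMod.evSec F G ⊤ s (eM m))
          map_add' := fun m m' =>
            (congrArg eN.symm ((congrArg (fun z => InjMod.evSec F G ⊤ s z) (map_add eM m m')).trans
              (map_add (InjMod.evSec F G ⊤ s) (eM m) (eM m')))).trans (map_add eN.symm _ _)
          map_smul' := fun r m =>
            (congrArg eN.symm ((congrArg (fun z => InjMod.evSec F G ⊤ s z) (map_smul eM r m)).trans
              (map_smul (InjMod.evSec F G ⊤ s) (φ r) (eM m)))).trans (map_smul eN.symm r _) }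
      map_add' := fun s s' => LinearMap.ext fun m =>
        (congrArg eN.symm (LinearMap.congr_fun (map_add (InjMod.evSec F G ⊤) s s') (eM m))).trans
          (map_add eN.symm _ _)
      map_smul' := fun r s => LinearMap.ext fun m =>
        (congrArg eN.symm (LinearMap.congr_fun (map_smul (InjMod.evSec F G ⊤) (φ r) s) (eM m))).trans
          (map_smul eN.symm r _) }
  have hb : Function.Bijective toHom := by
    refine ⟨fun s s' h => hbij.1 (LinearMap.ext fun x => ?_), fun g => ?_⟩
    · have h1 := eN.symm.injective (LinearMap.congr_fun h (eM.symm x))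
      have hx := eM.apply_symm_apply x
      exact (congrArg (fun z => InjMod.evSec F G ⊤ s z) hx.symm).trans (h1.trans (congrArg (fun z => InjMod.evSec F G ⊤ s' z) hx))
    · let g' : InjMod.secObj F ⊤ →ₗ[Γ(Spec R, ⊤)] InjMod.secObj G ⊤ :=
        { toFun := fun x => eN (g (eM.symm x))
          map_add' := fun x y => by
            refine (congrArg (fun z => eN (g z)) (map_add eM.symm x y)).trans ?_
            rw [map_add, map_add]
            rfl
          map_smul' := fun a x => by
            obtain ⟨r, rfl⟩ := hφ a
            refine (congrArg (fun z => eN (g z)) (map_smul eM.symm r x)).trans ?_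
            rw [map_smul, map_smul]
            rfl }
      obtain ⟨s, hs⟩ := hbij.2 g'
      refine ⟨s, LinearMap.ext fun m => ?_⟩
      show eN.symm (InjMod.evSec F G ⊤ s (eM m)) = g m
      rw [show InjMod.evSec F G ⊤ s (eM m) = eN (g (eM.symm (eM m))) from LinearMap.congr_fun hs (eM m),
        eM.symm_apply_apply, eN.symm_apply_apply]
  let e : moduleSpecΓFunctor.obj H ≅ ModuleCat.of R (M →ₗ[R] N) :=
    (InjMod.topEquiv H).symm.toModuleIso ≪≫ (LinearEquiv.ofBijective toHom hb).toModuleIso
  exact ⟨(asIso H.fromTildeΓ).symm ≪≫ (tilde.functor R).mapIso e⟩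

open AlgebraicGeometry in
open CategoryTheory in
/-- Let A be a commutative ring, M a finitely presented A-module and N an A-module, with associated
O_X-modules M~ and N~ on X = Spec A, and let Hom_{O_X}(M~, -) denote the sheaf-Hom functor (the
right adjoint of M~ ⊗ -, assumed to exist). Then Hom_{O_X}(M~, N~) is isomorphic to the O_X-module
associated to the A-module Hom_A(M, N) (existence of an isomorphism only; the prelude's sheaf Hom is
a chosen right adjoint, so no particular map is singled out). -/
theorem result
    (A : Type u) [CommRing A] (M N : Type u) [AddCommGroup M] [Module A M]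
    [Module.FinitePresentation A M] [AddCommGroup N] [Module A N]
    [DCoh.HasSheafHom (tilde (R := CommRingCat.of A) (ModuleCat.of A M))] :
    Nonempty ((DCoh.sheafHom (tilde (R := CommRingCat.of A) (ModuleCat.of A M))).obj
        (tilde (R := CommRingCat.of A) (ModuleCat.of A N)) ≅
      tilde (R := CommRingCat.of A) (ModuleCat.of A (M →ₗ[A] N))) := by
  let R := CommRingCat.of A
  let F : (Spec R).Modules := tilde (R := R) (ModuleCat.of A M)
  have : ModSite.HasSheafHom (O := (Spec R).sheaf) F := KFlat.hasSheafHom (Spec R).sheaf F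
  have hM : CohB1.IsFP F := (Groth.Agent.S9827.result R (ModuleCat.of R M)).2 ‹_›
  obtain ⟨e⟩ := homF_tilde (R := R) (ModuleCat.of A M) (ModuleCat.of A N) hM
  exact ⟨(InjMod.dcohHomIsoB F).app _ ≪≫ e⟩

end Groth.Agent.S9503
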