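import Groth.Statements.S9504
import Groth.Agent.ExtPowSt.Exists
import Groth.Agent.InjMod.ExtTilde
-- import your own Groth.Agent.* helpers here

set_option autoImplicit false
set_option maxHeartbeats 800000
universe u
open AffSch

namespace Groth.Agent.S9504

open AlgebraicGeometry CategoryTheory Opposite TopologicalSpace
open Groth.Agent.QCoh Groth.Agent.ExtPowSt

noncomputable section

theorem isQuasicoherent_of_isExtPow {X : Scheme.{u}} {i : ℕ} {E L : X.Modules} [E.IsQuasicoherent]
    (h : ExtPow.IsExtPow i E L) : L.IsQuasicoherent := by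
  obtain ⟨φ, hφ⟩ := h
  let Φ : Sys i E L := ⟨φ, hφ⟩
  refine (isQuasicoherent_iff_forall_isAffineOpen L).2 fun U hU g => ?_
  have hle := X.basicOpen_le g
  have key := fun s => φ_res Φ (U := ⟨U, hU⟩) (V := ⟨X.basicOpen g, hU.basicOpen g⟩) hle s
  obtain ⟨h1, h2⟩ := ExtPowSt.Exists.exists_localization_res (i := i) (E := E) ⟨U, hU⟩ g
  refine ⟨fun s => ?_, fun t ht => ?_⟩
  · obtain ⟨n, z, hz⟩ := h1 (φ ⟨X.basicOpen g, hU.basicOpen g⟩ s)
    refine ⟨n, (φ ⟨U, hU⟩).symm z, (φ ⟨X.basicOpen g, hU.basicOpen g⟩).injective ?_⟩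
    refine (key _).trans ?_
    show extσ (rres hle).hom i (resS E hle) (φ ⟨U, hU⟩ ((φ ⟨U, hU⟩).symm z)) = _
    rw [LinearEquiv.apply_symm_apply, hz, ← map_pow]
    exact ((φ ⟨X.basicOpen g, hU.basicOpen g⟩).map_smul _ _).symm
  · obtain ⟨n, hn⟩ := h2 (φ ⟨U, hU⟩ t) ((key t).symm.trans (by
      rw [show resS L hle t = 0 from ht]
      exact map_zero (φ ⟨X.basicOpen g, hU.basicOpen g⟩)))
    exact ⟨n, (φ ⟨U, hU⟩).injective (((φ ⟨U, hU⟩).map_smul _ _).trans (hn.trans (map_zero _).symm))⟩

theorem isExtPow_of_iso {X : Scheme.{u}} {i : ℕ} {E L L' : X.Modules} (e : L ≅ L')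
    (h : ExtPow.IsExtPow i E L) : ExtPow.IsExtPow i E L' := by
  obtain ⟨φ, hφ⟩ := h
  let ε : ∀ U : X.Opens, (L.val.obj (op U)) ≃ₗ[Γ(X, U)] (L'.val.obj (op U)) := fun U =>
    { toFun := fun x => e.hom.app U x
      invFun := fun x => e.inv.app U x
      left_inv := fun x => by
        show e.inv.app U (e.hom.app U x) = x
        rw [← ConcreteCategory.comp_apply, ← Scheme.Modules.Hom.comp_app, e.hom_inv_id]
        rfl
      right_inv := fun x => by
        show e.hom.app U (e.inv.app U x) = x
        rw [← ConcreteCategory.comp_apply, ← Scheme.Modules.Hom.comp_app, e.inv_hom_id]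
        rfl
      map_add' := fun a b => map_add (e.hom.app U).hom a b
      map_smul' := fun r x => Scheme.Modules.Hom.app_smul e.hom r x }
  refine ⟨fun U => (ε U.1).symm.trans (φ U), fun U V hle v => ?_⟩
  show res L' hle (e.hom.app U.1 ((φ U).symm (exteriorPower.ιMulti _ i v))) = e.hom.app V.1 _
  rw [← app_res]
  exact congrArg (fun y => e.hom.app V.1 y) (hφ U V hle v)

theorem smul_top {R : CommRingCat.{u}} (N : (Spec R).Modules) (r : R) (x : Γ(N, ⊤)) :
    (Scheme.ΓSpecIso R).inv r • x = r • x := by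
  have := top_pow_smul N r 1 x
  simpa using this

theorem exists_top {R : CommRingCat.{u}} (M : ModuleCat.{u} R) :
    ∃ f : M →ₛₗ[(Scheme.ΓSpecIso R).inv.hom] ((tilde M : (Spec R).Modules).val.obj (op (⊤ : (Spec R).Opens))), Function.Bijective f :=
  ⟨{ toFun := fun m => (tilde.toOpen M ⊤).hom m
     map_add' := fun a b => map_add (tilde.toOpen M ⊤).hom a b
     map_smul' := fun a m => by
       refine (map_smul (tilde.toOpen M ⊤).hom a m).trans ?_
       exact (smul_top (tilde M : (Spec R).Modules) a ((tilde.toOpen M ⊤).hom m)).symm },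
    (ConcreteCategory.isIso_iff_bijective (tilde.toOpen M ⊤)).1 inferInstance⟩

theorem main {R : CommRingCat.{u}} (M : ModuleCat.{u} R) (n : ℕ) :
    ExtPow.IsExtPow n (tilde M : (Spec R).Modules)
      (tilde (ModuleCat.of R ↥(⋀[R]^n M)) : (Spec R).Modules) := by
  let T : (Spec R).Modules := tilde M
  haveI hT : T.IsQuasicoherent := inferInstanceAs (tilde M).IsQuasicoherent
  obtain ⟨L, hL⟩ := ExtPowSt.Exists.exists_isExtPow n T
  have hq := isQuasicoherent_of_isExtPow hL
  haveI := hq
  have hL' := hL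
  obtain ⟨φ, -⟩ := hL
  let γ : R →+* Γ(Spec R, ⊤) := (Scheme.ΓSpecIso R).inv.hom
  let P := ModuleCat.of R ↥(⋀[R]^n M)
  suffices h : Nonempty (P ≅ moduleSpecΓFunctor.obj L) by
    obtain ⟨e⟩ := h
    haveI : IsIso L.fromTildeΓ := (isQuasicoherent_iff_isIso_fromTildeΓ L).1 hq
    exact isExtPow_of_iso ((asIso L.fromTildeΓ).symm ≪≫ (tilde.functor R).mapIso e.symm) hL'
  let top : (Spec R).affineOpens := ⟨⊤, isAffineOpen_top _⟩
  obtain ⟨f, hf⟩ := exists_top M
  have hγ : Function.Bijective γ :=
    (ConcreteCategory.isIso_iff_bijective (Scheme.ΓSpecIso R).inv).1 inferInstance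
  letI := γ.toAlgebra
  haveI : IsLocalization (⊥ : Submonoid R) R := IsLocalization.self (fun x hx => by
    rw [Submonoid.mem_bot] at hx
    rw [hx]
    exact isUnit_one)
  have hloc : IsLocalization (⊥ : Submonoid R) Γ(Spec R, ⊤) :=
    IsLocalization.isLocalization_of_algEquiv (⊥ : Submonoid R)
      (AlgEquiv.ofBijective (Algebra.ofId R Γ(Spec R, ⊤)) hγ)
  obtain ⟨h1, h2⟩ := extσ_localization γ n (⊥ : Submonoid R) f hloc
    (fun x => by
      obtain ⟨m, hm⟩ := hf.2 x
      exact ⟨1, Submonoid.one_mem _, m, by rw [map_one, one_smul, hm]⟩)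
    (fun m hm => ⟨1, Submonoid.one_mem _, by rw [one_smul, hf.1 (hm.trans (map_zero f).symm)]⟩)
  let g : ↥(⋀[R]^n M) →ₗ[R] moduleSpecΓFunctor.obj L :=
    { toFun := fun z => InjMod.topEquiv L ((φ top).symm (extσ γ n f z))
      map_add' := fun a b => by rw [map_add, map_add]; rfl
      map_smul' := fun a z => by
        rw [LinearMap.map_smulₛₗ, map_smul]
        exact (InjMod.topEquiv L).map_smul a _ }
  have hg : Function.Bijective g := by
    refine ⟨(injective_iff_map_eq_zero g).2 fun z hz => ?_, fun y => ?_⟩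
    · obtain ⟨s, hs, hz'⟩ := h2 z ((φ top).symm.injective (hz.trans (map_zero _).symm))
      rw [Submonoid.mem_bot] at hs
      rwa [hs, one_smul] at hz'
    · obtain ⟨s, hs, z, hz⟩ := h1 (φ top ((InjMod.topEquiv L).symm y))
      rw [Submonoid.mem_bot] at hs
      refine ⟨z, ?_⟩
      show InjMod.topEquiv L ((φ top).symm (extσ γ n f z)) = y
      rw [hz, hs, map_one, one_smul, LinearEquiv.symm_apply_apply]
      rfl
  exact ⟨(LinearEquiv.ofBijective g hg).toModuleIso⟩


open AlgebraicGeometry in
open CategoryTheory in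
/-- Let A be a commutative ring, M an A-module and n a natural number. On X = Spec A the O_X-module
associated to the A-module ⋀^n M is an n-th exterior power of M~: on every affine open U its
sections are identified, linearly over Γ(U, O_X), with the n-th exterior power of the sections of M~
over U, compatibly with restrictions on decomposable elements. -/
theorem result
    (A : Type u) [CommRing A] (M : Type u) [AddCommGroup M] [Module A M] (n : ℕ) :
    ExtPow.IsExtPow n (tilde (R := CommRingCat.of A) (ModuleCat.of A M))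
      (tilde (R := CommRingCat.of A) (ModuleCat.of A ↥(⋀[A]^n M))) := by
  exact main (R := CommRingCat.of A) (ModuleCat.of A M) n

end

end Groth.Agent.S9504
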