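import Groth.Statements.S9509
import Mathlib.AlgebraicGeometry.Morphisms.Flat
import Mathlib.AlgebraicGeometry.Fiber
import Mathlib.AlgebraicGeometry.Morphisms.ClosedImmersion
import Mathlib.AlgebraicGeometry.Morphisms.UniversallyInjective
import Mathlib.AlgebraicGeometry.Morphisms.QuasiSeparated
import Mathlib.Topology.LocalAtTarget
import Mathlib.RingTheory.Flat.FaithfullyFlat.Algebra


set_option autoImplicit false
universe u
open SchMor

namespace Groth.Agent.S9509

open AlgebraicGeometry in
open CategoryTheory in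
/-- (3) ⇒ (1): Let f : X → S be a morphism of schemes. Suppose S is covered by affine opens W_i, each
preimage f⁻¹(W_i) is covered by affine opens V_{i,j}, and any two V_{i,j}, V_{i,j'} with the same
index i meet in a quasi-compact open (one covered by finitely many affine opens). Then f is
quasi-separated. -/
theorem result
    {X S : Scheme.{u}} (f : X ⟶ S) {ι : Type u} (W : ι → S.affineOpens)
    (hW : ⨆ i, (W i : S.Opens) = ⊤) {κ : ι → Type u} (V : ∀ i, κ i → X.affineOpens)
    (hV : ∀ i, ⨆ j, (V i j : X.Opens) = f ⁻¹ᵁ (W i : S.Opens))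
    (hVV : ∀ i (j j' : κ i), IsCompact ((V i j : Set X) ∩ (V i j' : Set X))) :
    QuasiSeparated f := by
  haveI : ∀ i, IsAffine (W i : S.Opens) := fun i => (W i).2
  rw [HasAffineProperty.iff_of_iSup_eq_top (P := @QuasiSeparated) W hW]
  intro i
  let U := f ⁻¹ᵁ (W i : S.Opens)
  have hle : ∀ j, (V i j : X.Opens) ≤ U := fun j =>
    (le_iSup (fun j => (V i j : X.Opens)) j).trans (hV i).le
  refine Scheme.quasiSeparatedSpace_of_isOpenCover (X := U.toScheme)
    (fun j => U.ι ⁻¹ᵁ (V i j : X.Opens)) ?_ (fun j => ?_) (fun j j' => ?_)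
  · rw [TopologicalSpace.IsOpenCover, ← Scheme.Hom.preimage_iSup, hV i]
    simp [U]
  · exact (V i j).2.preimage_of_isOpenImmersion U.ι (by simpa using hle j)
  · refine (U.ι.isOpenEmbedding.isInducing.isCompact_preimage' (hVV i j j') ?_ :)
    rw [Scheme.Opens.range_ι]
    exact fun x hx => hle j hx.1

end Groth.Agent.S9509
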