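import Groth.Statements.S9511
import Mathlib.AlgebraicGeometry.Limits

set_option autoImplicit false
universe u
open LRSImm

namespace Groth.Agent.S9511

open AlgebraicGeometry in
open CategoryTheory TopologicalSpace in
/-- Let X be a locally ringed space and U, V ⊆ X open with X = U ⊔ V (they cover X and are disjoint),
such that the open subspaces X|_U and X|_V are affine schemes. Then X is an affine scheme: the
canonical morphism X → Spec Γ(X, O_X) is an isomorphism of locally ringed spaces. -/
theorem result
    (X : LocallyRingedSpace.{u}) (U V : Opens X.toTopCat) (hUV : IsCompl U V)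
    (A B : CommRingCat.{u})
    (eU : X.restrict U.isOpenEmbedding ≅ (Spec A).toLocallyRingedSpace)
    (eV : X.restrict V.isOpenEmbedding ≅ (Spec B).toLocallyRingedSpace) :
    IsIso X.toΓSpec := by
  have hcov : ∀ x : X, x ∈ U ∨ x ∈ V := fun x => by
    have hx : x ∈ U ⊔ V := by rw [hUV.sup_eq_top]; trivial
    exact hx
  let S : Scheme := 
    { toLocallyRingedSpace := X
      local_affine := fun x => by
        rcases hcov x with hx | hx
        · exact ⟨⟨U, hx⟩, A, ⟨eU⟩⟩
        · exact ⟨⟨V, hx⟩, B, ⟨eV⟩⟩ }
  have hU : IsAffineOpen (X := S) U := by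
    let g : Scheme.Opens.toScheme (X := S) U ⟶ Spec A := ⟨eU.hom⟩
    have : IsIso (Scheme.forgetToLocallyRingedSpace.map g) := inferInstanceAs (IsIso eU.hom)
    have : IsIso g := isIso_of_reflects_iso g Scheme.forgetToLocallyRingedSpace
    exact IsAffine.of_isIso g
  have hV : IsAffineOpen (X := S) V := by
    let g : Scheme.Opens.toScheme (X := S) V ⟶ Spec B := ⟨eV.hom⟩
    have : IsIso (Scheme.forgetToLocallyRingedSpace.map g) := inferInstanceAs (IsIso eV.hom)
    have : IsIso g := isIso_of_reflects_iso g Scheme.forgetToLocallyRingedSpace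
    exact IsAffine.of_isIso g
  have h : IsAffineOpen (⊤ : S.Opens) := by
    have h' := hU.sup_of_disjoint hV hUV.disjoint
    rwa [hUV.sup_eq_top] at h'
  have : IsAffine (⊤ : S.Opens).toScheme := h
  have : IsAffine S := IsAffine.of_isIso S.topIso.inv
  exact inferInstanceAs (IsIso S.toSpecΓ.toLRSHom)

end Groth.Agent.S9511
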