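import Groth.Statements.S9512
import Mathlib.AlgebraicGeometry.Morphisms.Flat
import Mathlib.AlgebraicGeometry.Fiber
import Mathlib.AlgebraicGeometry.Morphisms.ClosedImmersion
import Mathlib.AlgebraicGeometry.Morphisms.UniversallyInjective
import Mathlib.AlgebraicGeometry.Morphisms.QuasiSeparated
import Mathlib.Topology.LocalAtTarget
import Mathlib.RingTheory.Flat.FaithfullyFlat.Algebra


set_option autoImplicit false
universe u
open LRSImm

namespace Groth.Agent.S9512

open AlgebraicGeometry in
open CategoryTheory Opposite in
/-- Let X be a locally ringed space, Y = Spec R an affine scheme and f : X → Y a morphism of locally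
ringed spaces. Given a point x of X, the image f(x) is the prime of R obtained as the inverse image
of the maximal ideal of O_{X,x} under the composite R = Γ(Y, O_Y) → Γ(X, O_X) → O_{X,x}. -/
theorem result
    (X : LocallyRingedSpace.{u}) (R : CommRingCat.{u})
    (f : X ⟶ (Spec R).toLocallyRingedSpace) (x : X.toTopCat) :
    f.base x = PrimeSpectrum.comap
      ((Scheme.ΓSpecIso R).inv ≫ f.c.app (op ⊤) ≫ X.presheaf.germ ⊤ x trivial).hom
      (IsLocalRing.closedPoint (X.presheaf.stalk x)) := by
  have h1 : (Spec R).presheaf.germ ⊤ (f.base x) trivial ≫ f.stalkMap x =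
      f.c.app (op ⊤) ≫ X.presheaf.germ ⊤ x trivial := LocallyRingedSpace.stalkMap_germ f ⊤ x trivial
  rw [← h1, ← Category.assoc, CommRingCat.hom_comp, PrimeSpectrum.comap_comp]
  simp only [Function.comp_apply]
  rw [IsLocalRing.comap_closedPoint]
  have h2 := Scheme.fromSpecStalk_closedPoint (X := Spec R) (x := f.base x)
  rw [Spec.fromSpecStalk_eq] at h2
  exact h2.symm

end Groth.Agent.S9512
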