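import Groth.Statements.S9513
import Mathlib.AlgebraicGeometry.AffineScheme
import Mathlib.AlgebraicGeometry.ResidueField
import Mathlib.Topology.Sheaves.SheafCondition.UniqueGluing

set_option autoImplicit false
universe u
open SchMor

namespace Groth.Agent.S9513
section AffineBasis

open AlgebraicGeometry CategoryTheory TopologicalSpace Opposite

variable {X : Scheme.{u}} (F : (X.affineOpens)ᵒᵖ ⥤ Type u)

/-- Restriction. -/
noncomputable def res {V W : X.affineOpens} (h : V ≤ W) (s : F.obj (op W)) : F.obj (op V) :=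
  F.map (homOfLE h).op s

lemma res_res {U V W : X.affineOpens} (h : V ≤ W) (h' : U ≤ V) (s : F.obj (op W)) :
    res F h' (res F h s) = res F (h'.trans h) s := by
  show (F.map (homOfLE h).op ≫ F.map (homOfLE h').op) s = _
  rw [← F.map_comp, ← op_comp]; rfl

lemma res_self {W : X.affineOpens} (h : W ≤ W) (s : F.obj (op W)) : res F h s = s := by
  show F.map (homOfLE h).op s = s
  rw [show (homOfLE h).op = 𝟙 (op W) from rfl, F.map_id]; rfl

/-- The glueing condition for pairs of standard opens. -/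
def PairGlue : Prop :=
  ∀ (U V W VW : X.affineOpens) (f g : Γ(X, (U : X.Opens))),
    (V : X.Opens) = X.basicOpen f → (W : X.Opens) = X.basicOpen g →
    (VW : X.Opens) = X.basicOpen (f * g) → (U : X.Opens) = (V : X.Opens) ⊔ (W : X.Opens) →
    ∀ (hV : V ≤ U) (hW : W ≤ U) (h1 : VW ≤ V) (h2 : VW ≤ W),
    Function.Injective (fun s : F.obj (op U) => (res F hV s, res F hW s)) ∧
    Set.range (fun s : F.obj (op U) => (res F hV s, res F hW s)) =
      {p | res F h1 p.1 = res F h2 p.2}

/-- Compatibility of a family. -/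
def Compat {ι : Type*} (D : ι → X.affineOpens) (s : ∀ i, F.obj (op (D i))) : Prop :=
  ∀ (i j : ι) (W : X.affineOpens) (hi : W ≤ D i) (hj : W ≤ D j), res F hi (s i) = res F hj (s j)

theorem finite_glue (hE : ∀ E : X.affineOpens, (E : X.Opens) = ⊥ →
      Nonempty (F.obj (op E)) ∧ Subsingleton (F.obj (op E)))
    (hP : PairGlue F) :
    ∀ (n : ℕ) (U : X.affineOpens) (f : Fin n → Γ(X, (U : X.Opens))) (D : Fin n → X.affineOpens),
      (∀ i, (D i : X.Opens) = X.basicOpen (f i)) → (U : X.Opens) ≤ ⨆ i, (D i : X.Opens) →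
      ∀ s : ∀ i, F.obj (op (D i)), Compat F D s →
        ∃! t : F.obj (op U), ∀ i (h : D i ≤ U), res F h t = s i := by
  intro n
  induction n with
  | zero =>
    intro U f D _ hcov s _
    have : (U : X.Opens) = ⊥ := le_bot_iff.1 (hcov.trans (iSup_le fun i => i.elim0))
    obtain ⟨⟨t⟩, hsub⟩ := hE U this
    exact ⟨t, fun i => i.elim0, fun t' _ => hsub.elim t' t⟩
  | succ n ih =>
    intro U f D hD hcov s hs
    have hDU : ∀ i, D i ≤ U := fun i => Subtype.coe_le_coe.1 ((hD i).trans_le (X.basicOpen_le _))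
    have hspan : Ideal.span (Set.range f) = ⊤ := by
      rw [← U.2.self_le_iSup_basicOpen_iff]
      refine hcov.trans (iSup_le fun i => ?_)
      rw [hD i]
      exact le_iSup_of_le (⟨f i, i, rfl⟩ : Set.range f) le_rfl
    obtain ⟨c, hc⟩ := (Ideal.mem_span_range_iff_exists_fun (R := Γ(X, (U : X.Opens)))).1
      ((Ideal.eq_top_iff_one _).1 hspan)
    rw [Fin.sum_univ_castSucc] at hc
    set a := ∑ i : Fin n, c i.castSucc * f i.castSucc with ha
    set b := f (Fin.last n) with hb
    let V : X.affineOpens := ⟨X.basicOpen a, U.2.basicOpen a⟩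
    let B : X.affineOpens := D (Fin.last n)
    have hVU : V ≤ U := X.basicOpen_le a
    let VB : X.affineOpens := ⟨X.basicOpen (a * b), U.2.basicOpen _⟩
    have hVB1 : VB ≤ V := by
      show X.basicOpen (a * b) ≤ X.basicOpen a
      rw [Scheme.basicOpen_mul]; exact inf_le_left
    have hVB2 : VB ≤ B := by
      show X.basicOpen (a * b) ≤ (D (Fin.last n) : X.Opens)
      rw [hD, Scheme.basicOpen_mul]; exact inf_le_right
    have hUsup : (U : X.Opens) = (V : X.Opens) ⊔ (B : X.Opens) := by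
      refine le_antisymm ?_ (sup_le (X.basicOpen_le a) (hDU _))
      have h1 : Ideal.span ({a, b} : Set Γ(X, (U : X.Opens))) = ⊤ := by
        rw [Ideal.eq_top_iff_one, Ideal.mem_span_pair]
        exact ⟨1, c (Fin.last n), by rw [one_mul]; exact hc⟩
      refine (U.2.self_le_iSup_basicOpen_iff.2 h1).trans (iSup_le ?_)
      rintro ⟨r, rfl | rfl⟩
      · exact le_sup_left
      · exact le_sup_of_le_right (hD _).ge
    -- the standard opens inside an affine
    have sub : ∀ (V' : X.affineOpens) (hV' : V' ≤ U) (hcov' : (V' : X.Opens) ≤ ⨆ i : Fin n, X.basicOpen (f i.castSucc))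
        (sV : ∀ i : Fin n, ∀ W : X.affineOpens, W ≤ V' → W ≤ D i.castSucc → F.obj (op W)),
        (∀ i j W W' W'' (h₁ : W ≤ V') (h₂ : W ≤ D i.castSucc) (h₃ : W' ≤ V') (h₄ : W' ≤ D j.castSucc)
          (h₅ : W'' ≤ W) (h₆ : W'' ≤ W'), res F h₅ (sV i W h₁ h₂) = res F h₆ (sV j W' h₃ h₄)) →
        ∃! t : F.obj (op V'), ∀ i W (h : W ≤ V') (h' : W ≤ D i.castSucc), res F h t = sV i W h h' := by
      intro V' hV' hcov' sV hsV
      let f' : Fin n → Γ(X, (V' : X.Opens)) := fun i =>
        X.presheaf.map (homOfLE hV').op (f i.castSucc)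
      let D' : Fin n → X.affineOpens := fun i => ⟨X.basicOpen (f' i), V'.2.basicOpen _⟩
      have hD' : ∀ i, (D' i : X.Opens) = (V' : X.Opens) ⊓ X.basicOpen (f i.castSucc) := fun i =>
        Scheme.basicOpen_res _ _ _
      have h1 : ∀ i, D' i ≤ V' := fun i => by
        show (D' i : X.Opens) ≤ _
        rw [hD']; exact inf_le_left
      have h2 : ∀ i, D' i ≤ D i.castSucc := fun i => by
        show (D' i : X.Opens) ≤ _
        rw [hD', hD]; exact inf_le_right
      have hcov'' : (V' : X.Opens) ≤ ⨆ i, (D' i : X.Opens) := by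
        intro x hx
        obtain ⟨i, hi⟩ := Opens.mem_iSup.1 (hcov' hx)
        exact Opens.mem_iSup.2 ⟨i, by rw [hD']; exact ⟨hx, hi⟩⟩
      obtain ⟨t, ht, huniq⟩ := ih V' f' D' (fun i => rfl) hcov''
        (fun i => sV i (D' i) (h1 i) (h2 i))
        (fun i j W hi hj => hsV i j _ _ W _ _ _ _ hi hj)
      refine ⟨t, fun i W h h' => ?_, fun t' ht' => huniq t' fun i _ => ht' i _ _ _⟩
      have hW : W ≤ D' i := by
        show (W : X.Opens) ≤ _
        rw [hD']; exact le_inf h ((Subtype.coe_le_coe.2 h').trans (hD _).le)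
      rw [← res_res F (h1 i) hW, ht i (h1 i), hsV i i _ W W _ _ h h' hW le_rfl, res_self]
    have hVcov : (V : X.Opens) ≤ ⨆ i : Fin n, X.basicOpen (f i.castSucc) := by
      intro x hx
      by_contra hne
      simp only [Opens.mem_iSup, not_exists] at hne
      have hxU : x ∈ (U : X.Opens) := hVU hx
      have h0 : X.evaluation (U : X.Opens) x hxU a = 0 := by
        rw [ha, map_sum]
        refine Finset.sum_eq_zero fun i _ => ?_
        rw [map_mul, (X.evaluation_eq_zero_iff_notMem_basicOpen x hxU _).2 (hne i), mul_zero]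
      exact (X.evaluation_eq_zero_iff_notMem_basicOpen x hxU _).1 h0 hx
    obtain ⟨tV, htV, huV⟩ := sub V hVU hVcov (fun i W _ h' => res F h' (s i.castSucc))
      (fun i j W W' W'' _ h₂ _ h₄ h₅ h₆ => by
        rw [res_res, res_res]; exact hs _ _ _ _ _)
    have hagree : res F hVB1 tV = res F hVB2 (s (Fin.last n)) := by
      obtain ⟨t0, -, hu0⟩ := sub VB (hVB1.trans hVU)
        ((Subtype.coe_le_coe.2 hVB1).trans hVcov) (fun i W _ h' => res F h' (s i.castSucc))
        (fun i j W W' W'' _ h₂ _ h₄ h₅ h₆ => by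
          rw [res_res, res_res]; exact hs _ _ _ _ _)
      rw [hu0 (res F hVB1 tV) (fun i W h h' => by rw [res_res]; exact htV i W _ h'),
        hu0 (res F hVB2 (s (Fin.last n))) (fun i W h h' => by rw [res_res]; exact hs _ _ _ _ _)]
    obtain ⟨hinj, hran⟩ := hP U V B VB a b rfl (hD _) rfl hUsup hVU (hDU _) hVB1 hVB2
    obtain ⟨t, ht⟩ : (tV, s (Fin.last n)) ∈
        Set.range (fun s : F.obj (op U) => (res F hVU s, res F (hDU (Fin.last n)) s)) := by
      rw [hran]; exact hagree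
    simp only [Prod.mk.injEq] at ht
    refine ⟨t, fun i h => ?_, fun t' ht' => ?_⟩
    · induction i using Fin.lastCases with
      | last => exact ht.2
      | cast i =>
        -- compare on the cover of `D i` by `V` and `B`
        let A' := D i.castSucc
        let a' := X.presheaf.map (homOfLE (Subtype.coe_le_coe.2 h)).op a
        let b' := X.presheaf.map (homOfLE (Subtype.coe_le_coe.2 h)).op b
        let P₁ : X.affineOpens := ⟨X.basicOpen a', A'.2.basicOpen _⟩
        let P₂ : X.affineOpens := ⟨X.basicOpen b', A'.2.basicOpen _⟩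
        let P₁₂ : X.affineOpens := ⟨X.basicOpen (a' * b'), A'.2.basicOpen _⟩
        have e1 : (P₁ : X.Opens) = (A' : X.Opens) ⊓ X.basicOpen a := Scheme.basicOpen_res _ _ _
        have e2 : (P₂ : X.Opens) = (A' : X.Opens) ⊓ X.basicOpen b := Scheme.basicOpen_res _ _ _
        have e3 : (P₁₂ : X.Opens) = (P₁ : X.Opens) ⊓ (P₂ : X.Opens) := Scheme.basicOpen_mul _ _ _
        have esup : (A' : X.Opens) = (P₁ : X.Opens) ⊔ (P₂ : X.Opens) := by
          rw [e1, e2, ← inf_sup_left, ← hD (Fin.last n)]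
          exact (inf_eq_left.2 ((Subtype.coe_le_coe.2 h).trans hUsup.le)).symm
        have l1 : P₁ ≤ A' := e1.trans_le inf_le_left
        have l2 : P₂ ≤ A' := e2.trans_le inf_le_left
        have l1' : P₁ ≤ V := e1.trans_le inf_le_right
        have l2' : P₂ ≤ B := (e2.trans_le inf_le_right).trans (hD _).ge
        refine (hP A' P₁ P₂ P₁₂ a' b' rfl rfl rfl esup l1 l2 (e3.trans_le inf_le_left)
          (e3.trans_le inf_le_right)).1 ?_
        simp only [Prod.mk.injEq, res_res]
        refine ⟨?_, ?_⟩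
        · rw [← res_res F hVU l1', ht.1]; exact htV i P₁ l1' l1
        · rw [← res_res F (hDU (Fin.last n)) l2', ht.2]; exact hs _ _ _ _ _
    · apply hinj
      simp only [Prod.mk.injEq]
      refine ⟨?_, ?_⟩
      · rw [ht.1]
        refine huV _ fun i W h h' => ?_
        rw [res_res, ← ht' i.castSucc (hDU _), res_res]
      · rw [ht' _ (hDU _), ht.2]

theorem cover_glue (hE : ∀ E : X.affineOpens, (E : X.Opens) = ⊥ →
      Nonempty (F.obj (op E)) ∧ Subsingleton (F.obj (op E)))
    (hP : PairGlue F) (U : X.affineOpens) (P : X.affineOpens → Prop)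
    (hdown : ∀ V W, W ≤ V → P V → P W)
    (hcov : ∀ x ∈ (U : X.Opens), ∃ V, V ≤ U ∧ P V ∧ x ∈ (V : X.Opens))
    (s : ∀ V : {V : X.affineOpens // V ≤ U ∧ P V}, F.obj (op V.1))
    (hs : ∀ V W : {V : X.affineOpens // V ≤ U ∧ P V}, ∀ h : W.1 ≤ V.1, res F h (s V) = s W) :
    ∃! t : F.obj (op U), ∀ V : {V : X.affineOpens // V ≤ U ∧ P V}, res F V.2.1 t = s V := by
  classical
  have hf : ∀ x : (U : X.Opens), ∃ f : Γ(X, (U : X.Opens)),
      P ⟨X.basicOpen f, U.2.basicOpen f⟩ ∧ x.1 ∈ X.basicOpen f := by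
    intro x
    obtain ⟨V, hV, hPV, hxV⟩ := hcov x x.2
    obtain ⟨f, hf, hxf⟩ := U.2.exists_basicOpen_le (V := (V : X.Opens)) ⟨x.1, hxV⟩ x.2
    exact ⟨f, hdown V _ hf hPV, hxf⟩
  choose f hfP hxf using hf
  obtain ⟨t, ht⟩ := U.2.isCompact.elim_finite_subcover (fun x => (X.basicOpen (f x) : Set X))
    (fun x => (X.basicOpen (f x)).2) (fun x hx => Set.mem_iUnion.2 ⟨⟨x, hx⟩, hxf _⟩)
  let e := t.equivFin.symm
  let g : Fin t.card → Γ(X, (U : X.Opens)) := fun i => f (e i)
  let D : Fin t.card → X.affineOpens := fun i => ⟨X.basicOpen (g i), U.2.basicOpen _⟩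
  let d : Fin t.card → {V : X.affineOpens // V ≤ U ∧ P V} := fun i =>
    ⟨D i, X.basicOpen_le _, hfP _⟩
  have cmp : ∀ (V : {V : X.affineOpens // V ≤ U ∧ P V}) W (h : W ≤ V.1),
      res F h (s V) = s ⟨W, h.trans V.2.1, hdown _ _ h V.2.2⟩ := fun V W h => hs V ⟨W, h.trans V.2.1, hdown _ _ h V.2.2⟩ h
  have hUcov : (U : X.Opens) ≤ ⨆ i, (D i : X.Opens) := by
    intro x hx
    obtain ⟨y, hy, hxy⟩ := Set.mem_iUnion₂.1 (ht hx)
    exact Opens.mem_iSup.2 ⟨t.equivFin ⟨y, hy⟩, by simpa [D, g, e] using hxy⟩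
  obtain ⟨r, hr, hu⟩ := finite_glue F hE hP t.card U g D (fun i => rfl) hUcov (fun i => s (d i))
    (fun i j W hi hj => (cmp (d i) W hi).trans (cmp (d j) W hj).symm)
  refine ⟨r, fun V => ?_, fun r' hr' => hu r' fun i h => hr' (d i)⟩
  let g' : Fin t.card → Γ(X, (V.1 : X.Opens)) := fun i => X.presheaf.map (homOfLE V.2.1).op (g i)
  let D' : Fin t.card → X.affineOpens := fun i => ⟨X.basicOpen (g' i), V.1.2.basicOpen _⟩
  have hD' : ∀ i, (D' i : X.Opens) = (V.1 : X.Opens) ⊓ X.basicOpen (g i) := fun i =>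
    Scheme.basicOpen_res _ _ _
  have h1 : ∀ i, D' i ≤ V.1 := fun i => (hD' i).trans_le inf_le_left
  have h2 : ∀ i, D' i ≤ D i := fun i => (hD' i).trans_le inf_le_right
  obtain ⟨q, -, hq⟩ := finite_glue F hE hP t.card V.1 g' D' (fun i => rfl) (fun x hx => by
      obtain ⟨i, hi⟩ := Opens.mem_iSup.1 (hUcov (V.2.1 hx))
      exact Opens.mem_iSup.2 ⟨i, by rw [hD']; exact ⟨hx, hi⟩⟩)
    (fun i => res F (h1 i) (s V))
    (fun i j W hi hj => by rw [res_res, res_res])
  rw [hq (res F V.2.1 r) fun i h => by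
      rw [res_res, ← res_res F (X.basicOpen_le (g i)) (h2 i), hr i (X.basicOpen_le _),
        cmp (d i) _ (h2 i), cmp V _ (h1 i)],
    hq (s V) fun i h => rfl]

/-- The extension to all opens. -/
def ext' (W : Opens X) : Type u :=
  {s : ∀ V : {V : X.affineOpens // (V : X.Opens) ≤ W}, F.obj (op V.1) //
    ∀ V V' : {V : X.affineOpens // (V : X.Opens) ≤ W}, ∀ h : V'.1 ≤ V.1, res F h (s V) = s V'}

/-- The presheaf of compatible families. -/
noncomputable def extPsh : TopCat.Presheaf (Type u) X.carrier where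
  obj W := ext' F W.unop
  map {W W'} i := TypeCat.ofHom fun s =>
    ⟨fun V => s.1 ⟨V.1, V.2.trans i.unop.le⟩, fun V V' h =>
      s.2 ⟨V.1, V.2.trans i.unop.le⟩ ⟨V'.1, V'.2.trans i.unop.le⟩ h⟩

lemma extPsh_isSheaf (hE : ∀ E : X.affineOpens, (E : X.Opens) = ⊥ →
      Nonempty (F.obj (op E)) ∧ Subsingleton (F.obj (op E)))
    (hP : PairGlue F) : (extPsh F).IsSheaf := by
  rw [TopCat.Presheaf.isSheaf_iff_isSheafUniqueGluing_types]
  intro ι U sf hsf
  let P : X.affineOpens → Prop := fun V => ∃ i, (V : X.Opens) ≤ U i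
  have hdown : ∀ V W, W ≤ V → P V → P W := fun V W h ⟨i, hi⟩ => ⟨i, le_trans (α := X.Opens) h hi⟩
  have hcov : ∀ V : {V : X.affineOpens // (V : X.Opens) ≤ iSup U}, ∀ x ∈ (V.1 : X.Opens),
      ∃ W, W ≤ V.1 ∧ P W ∧ x ∈ (W : X.Opens) := by
    intro V x hx
    obtain ⟨i, hi⟩ := Opens.mem_iSup.1 (V.2 hx)
    obtain ⟨W, hW, hxW, hsub⟩ := exists_isAffineOpen_mem_and_subset
      (x := x) (U := (V.1 : X.Opens) ⊓ U i) ⟨hx, hi⟩
    exact ⟨⟨W, hW⟩, fun y hy => (hsub hy).1, ⟨i, fun y hy => (hsub hy).2⟩, hxW⟩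
  have hw : ∀ (i j : ι) (W : X.affineOpens) (hi : (W : X.Opens) ≤ U i) (hj : (W : X.Opens) ≤ U j),
      (sf i).1 ⟨W, hi⟩ = (sf j).1 ⟨W, hj⟩ := fun i j W hi hj =>
    congrArg (fun z : ext' F (U i ⊓ U j) => z.1 ⟨W, le_inf hi hj⟩) (hsf i j)
  let σ : ∀ W : X.affineOpens, P W → F.obj (op W) := fun W hW => (sf hW.choose).1 ⟨W, hW.choose_spec⟩
  have hσ : ∀ W (hW : P W) i (hi : (W : X.Opens) ≤ U i), σ W hW = (sf i).1 ⟨W, hi⟩ := fun W hW i hi =>
    hw _ _ _ _ _
  have hσc : ∀ V W (hV : P V) (hW : P W) (h : W ≤ V), res F h (σ V hV) = σ W hW := fun V W hV hW h => by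
    obtain ⟨i, hi⟩ := id hV
    rw [hσ V hV i hi, hσ W hW i (le_trans (α := X.Opens) h hi)]
    exact (sf i).2 ⟨V, hi⟩ ⟨W, le_trans (α := X.Opens) h hi⟩ h
  have key : ∀ V : {V : X.affineOpens // (V : X.Opens) ≤ iSup U},
      ∃! t : F.obj (op V.1), ∀ W : {W : X.affineOpens // W ≤ V.1 ∧ P W}, res F W.2.1 t = σ W.1 W.2.2 :=
    fun V => cover_glue F hE hP V.1 P hdown (hcov V) _ (fun A B h => hσc _ _ _ _ h)
  choose τ hτ hτu using key
  refine ⟨⟨τ, fun V V' h => hτu V' _ fun W => ?_⟩, fun i => ?_, fun t ht => ?_⟩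
  · rw [res_res]; exact hτ V ⟨W.1, W.2.1.trans h, W.2.2⟩
  · apply Subtype.ext
    funext V
    show τ ⟨V.1, _⟩ = (sf i).1 V
    refine (hτu ⟨V.1, V.2.trans (le_iSup U i)⟩ _ fun W => ?_).symm
    rw [hσ W.1 W.2.2 i (le_trans (α := X.Opens) W.2.1 V.2)]
    exact (sf i).2 V ⟨W.1, le_trans (α := X.Opens) W.2.1 V.2⟩ W.2.1
  · apply Subtype.ext
    funext V
    refine hτu V _ fun W => ?_
    obtain ⟨i, hi⟩ := id W.2.2
    rw [hσ W.1 W.2.2 i hi, t.2 V ⟨W.1, le_trans (α := X.Opens) W.2.1 V.2⟩ W.2.1, ← ht i]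
    rfl

noncomputable def extIso :
    (Monotone.functor (f := fun U : X.affineOpens => (U : X.Opens)) (fun _ _ h => h)).op ⋙ extPsh F ≅ F :=
  NatIso.ofComponents
    (fun V => Equiv.toIso
      { toFun := fun s => s.1 ⟨V.unop, le_rfl⟩
        invFun := fun t => ⟨fun W => res F W.2 t, fun W W' h => res_res F _ _ t⟩
        left_inv := fun s => Subtype.ext (funext fun W => s.2 ⟨V.unop, le_rfl⟩ W W.2)
        right_inv := fun t => res_self F _ t })
    (fun {V W} i => by
      ext s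
      exact (s.2 ⟨V.unop, le_rfl⟩ ⟨W.unop, i.unop.le⟩ i.unop.le).symm)

lemma pairGlue_of_sheaf (G : TopCat.Sheaf (Type u) X.carrier)
    (e : (Monotone.functor (f := fun U : X.affineOpens => (U : X.Opens)) (fun _ _ h => h)).op ⋙ G.1 ≅ F) :
    PairGlue F := by
  intro U V W VW f g hV hW hVW hU hVU hWU h1 h2
  have nat : ∀ {A B : X.affineOpens} (h : B ≤ A) (s : F.obj (op A)),
      e.inv.app (op B) (res F h s) = G.1.map (homOfLE (Subtype.coe_le_coe.2 h)).op (e.inv.app (op A) s) :=
    fun {A B} h s => congr($(e.inv.naturality (homOfLE h).op) s)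
  have hinjA : ∀ A : X.affineOpens, Function.Injective (e.inv.app (op A)) := fun A s t h => by
    exact ((congr($(e.inv_hom_id_app (op A)) s)).symm.trans (congrArg (e.hom.app (op A)) h)).trans
      (congr($(e.inv_hom_id_app (op A)) t))
  constructor
  · intro s t hst
    simp only [Prod.mk.injEq] at hst
    apply hinjA
    refine G.eq_of_locally_eq₂ (homOfLE (Subtype.coe_le_coe.2 hVU)) (homOfLE (Subtype.coe_le_coe.2 hWU))
      hU.le _ _ ?_ ?_
    · rw [← nat hVU s, ← nat hVU t, hst.1]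
    · rw [← nat hWU s, ← nat hWU t, hst.2]
  · ext ⟨p, q⟩
    constructor
    · rintro ⟨s, hs⟩
      simp only [Prod.mk.injEq] at hs
      show res F h1 p = res F h2 q
      rw [← hs.1, ← hs.2, res_res, res_res]
    · intro hpq
      change res F h1 p = res F h2 q at hpq
      let Us : ULift.{u} Bool → X.Opens := fun b => if b.down then (V : X.Opens) else (W : X.Opens)
      let sf : ∀ b, G.1.obj (op (Us b)) := fun b => match b with
        | ⟨true⟩ => e.inv.app (op V) p
        | ⟨false⟩ => e.inv.app (op W) q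
      have hinf : (VW : X.Opens) = (V : X.Opens) ⊓ (W : X.Opens) := by
        rw [hVW, hV, hW, Scheme.basicOpen_mul]
      have hcomm : ∀ (O : Opens X) (i₁ : O ⟶ (V : X.Opens)) (i₂ : O ⟶ (W : X.Opens)),
          G.1.map i₁.op (e.inv.app (op V) p) = G.1.map i₂.op (e.inv.app (op W) q) := by
        intro O i₁ i₂
        have hO : O ≤ (VW : X.Opens) := hinf ▸ le_inf i₁.le i₂.le
        have := congrArg (fun z => G.1.map (homOfLE hO).op z)
          ((nat h1 p).symm.trans ((congrArg (e.inv.app (op VW)) hpq).trans (nat h2 q)))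
        have comp : ∀ {A B C : Opens X} (u : B ⟶ A) (v : C ⟶ B) (z : G.1.obj (op A)),
            G.1.map v.op (G.1.map u.op z) = G.1.map (v ≫ u).op z := fun u v z =>
          (congr($(G.1.map_comp u.op v.op) z)).symm
        erw [comp, comp] at this
        exact this
      obtain ⟨S, hS, -⟩ := G.existsUnique_gluing' Us (U : X.Opens)
        (fun b => homOfLE (by
          rcases b with ⟨_ | _⟩
          · exact hWU
          · exact hVU))
        (hU.le.trans (sup_le (le_iSup Us ⟨true⟩) (le_iSup Us ⟨false⟩))) sf (by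
          rintro ⟨_ | _⟩ ⟨_ | _⟩
          · rfl
          · exact (hcomm _ _ _).symm
          · exact hcomm _ _ _
          · rfl)
      have hSS : e.inv.app (op U) (e.hom.app (op U) S) = S := congr($(e.hom_inv_id_app (op U)) S)
      refine ⟨e.hom.app (op U) S, Prod.ext ?_ ?_⟩
      · apply hinjA
        rw [nat hVU]
        erw [hSS]
        exact hS ⟨true⟩
      · apply hinjA
        rw [nat hWU]
        erw [hSS]
        exact hS ⟨false⟩

end AffineBasis

open AlgebraicGeometry in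
open CategoryTheory TopologicalSpace Opposite in
/-- (1) ⇔ (3): Let X be a scheme and B the set of affine opens of X, ordered by inclusion; let F be a
presheaf of sets on B (a functor on Bᵒᵖ) and E ∈ B the empty open. Then F is isomorphic to the
restriction to B of a sheaf of sets on X if and only if (a) F(∅) is a singleton and (b) for all U ∈
B and sections f, g of O_X over U with U = D(f) ∪ D(g), writing V = D(f), W = D(g) and V ∩ W = D(fg)
(all in B), the map F(U) → F(V) × F(W) is injective with image exactly the pairs (s, t) whose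
restrictions to D(fg) agree. (The order relations V, W ≤ U and D(fg) ≤ V, W are supplied as
hypotheses; they follow from the equations.) -/
theorem result (X : Scheme.{u})
    (F : (X.affineOpens)ᵒᵖ ⥤ Type u) (E : X.affineOpens) (hE : (E : X.Opens) = ⊥) :
    (∃ G : TopCat.Sheaf (Type u) X.carrier,
        Nonempty ((Monotone.functor (f := fun U : X.affineOpens => (U : X.Opens)) (fun _ _ h => h)).op ⋙ G.1 ≅ F)) ↔
    ((Nonempty (F.obj (op E)) ∧ Subsingleton (F.obj (op E))) ∧
      ∀ (U V W VW : X.affineOpens) (f g : Γ(X, (U : X.Opens))),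
        (V : X.Opens) = X.basicOpen f → (W : X.Opens) = X.basicOpen g →
        (VW : X.Opens) = X.basicOpen (f * g) → (U : X.Opens) = (V : X.Opens) ⊔ (W : X.Opens) →
        ∀ (hV : V ≤ U) (hW : W ≤ U) (h1 : VW ≤ V) (h2 : VW ≤ W),
        Function.Injective (fun s : F.obj (op U) => (F.map (homOfLE hV).op s, F.map (homOfLE hW).op s)) ∧
        Set.range (fun s : F.obj (op U) => (F.map (homOfLE hV).op s, F.map (homOfLE hW).op s)) =
          {p | F.map (homOfLE h1).op p.1 = F.map (homOfLE h2).op p.2}) := by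
  constructor
  · rintro ⟨G, ⟨e⟩⟩
    refine ⟨?_, pairGlue_of_sheaf F G e⟩
    have hbot : ∀ O : Opens X, O = ⊥ → Nonempty (G.1.obj (op O)) ∧ Subsingleton (G.1.obj (op O)) := by
      rintro _ rfl
      obtain ⟨t, -, -⟩ := G.existsUnique_gluing' (fun z : PEmpty.{u + 1} => z.elim) ⊥
        (fun z => z.elim) bot_le (fun z => z.elim) (fun z => z.elim)
      exact ⟨⟨t⟩, ⟨fun s t => G.eq_of_locally_eq' (fun z : PEmpty.{u + 1} => z.elim) ⊥
        (fun z => z.elim) bot_le s t (fun z => z.elim)⟩⟩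
    obtain ⟨⟨t⟩, hsub⟩ := hbot _ hE
    exact ⟨⟨e.hom.app (op E) t⟩, ⟨fun s t => by
      have := hsub.elim (e.inv.app (op E) s) (e.inv.app (op E) t)
      exact ((congr($(e.inv_hom_id_app (op E)) s)).symm.trans (congrArg (e.hom.app (op E)) this)).trans
        (congr($(e.inv_hom_id_app (op E)) t))⟩⟩
  · rintro ⟨hE', hP⟩
    have hbot : ∀ E' : X.affineOpens, (E' : X.Opens) = ⊥ →
        Nonempty (F.obj (op E')) ∧ Subsingleton (F.obj (op E')) := fun E' h => by
      obtain rfl : E' = E := Subtype.ext (h.trans hE.symm)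
      exact hE'
    exact ⟨⟨extPsh F, extPsh_isSheaf F hbot hP⟩, ⟨extIso F⟩⟩

end Groth.Agent.S9513
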