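import Groth.Statements.S9517
import Groth.Agent.CohOps.Sections
-- import your own Groth.Agent.* helpers here

set_option autoImplicit false
universe u
open CategoryTheory CategoryTheory.Limits AlgebraicGeometry
attribute [local instance] HasDerivedCategory.standard
open Coherent

namespace Groth.Agent.S9517

open Groth.Agent.CohDev Groth.Agent.CohOps.Sections CategoryTheory CategoryTheory.Limits AlgebraicGeometry

/-- Let X be a Noetherian scheme, F a coherent O_X-module, G ⊆ F a quasi-coherent submodule (given by a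
monomorphism ι : G → F) and I a quasi-coherent sheaf of ideals. Then there is c ≥ 0 such that for
every n ≥ c the two subobjects I^(n-c)·(I^c F ∩ G) and I^n F ∩ G of F are equal. (Products J·M are
the submodule sheaves Dual3.idealMul J M; intersections are taken in the lattice of subobjects of
F.) -/
theorem result (X : Scheme.{u}) [IsNoetherian X] (F G : X.Modules) (hF : Coh.IsCoh F)
    (hG : Coh.IsQCoh G) (ι : G ⟶ F) [Mono ι] (I : X.IdealSheafData) :
    ∃ c : ℕ, ∀ n : ℕ, c ≤ n →
      Subobject.mk (Dual3.idealMulι (I ^ (n - c))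
          (Subobject.underlying.obj (Subobject.mk (Dual3.idealMulι (I ^ c) F) ⊓ Subobject.mk ι)) ≫
        (Subobject.mk (Dual3.idealMulι (I ^ c) F) ⊓ Subobject.mk ι).arrow) =
      Subobject.mk (Dual3.idealMulι (I ^ n) F) ⊓ Subobject.mk ι := by
  classical
  haveI : F.IsQuasicoherent := hF.1
  haveI : G.IsQuasicoherent := hG
  let L : ℕ → Subobject F := fun n => Subobject.mk (Dual3.idealMulι (I ^ n) F) ⊓ Subobject.mk ι
  have hLq : ∀ n, Coh.IsQCoh ((L n : Subobject F) : X.Modules) := fun n =>
    isQCoh_inf _ ι (isQCoh_idealMul (I ^ n) F) hG hF.1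
  obtain ⟨T, hT⟩ := isCompact_univ.elim_finite_subcover (fun U : X.affineOpens => (U.1 : Set X))
    (fun U => U.1.isOpen) (fun x _ => by
      obtain ⟨U, hU, hx, -⟩ := exists_isAffineOpen_mem_and_subset (X := X) (TopologicalSpace.Opens.mem_top x)
      exact Set.mem_iUnion.mpr ⟨⟨U, hU⟩, hx⟩)
  have hAR : ∀ W : X.affineOpens, ∃ c : ℕ, ∀ n, c ≤ n →
      I.ideal W ^ n • ⊤ ⊓ LinearMap.range (appLin ι W.1) =
        I.ideal W ^ (n - c) • (I.ideal W ^ c • ⊤ ⊓ LinearMap.range (appLin ι W.1)) := fun W => by
    haveI := IsLocallyNoetherian.component_noetherian W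
    haveI := finite_sections hF W.2
    obtain ⟨c, hc⟩ := (I.ideal W).exists_pow_inf_eq_pow_smul (LinearMap.range (appLin ι W.1))
    exact ⟨c, hc⟩
  choose k hk using hAR
  refine ⟨T.sup k, fun n hn => ?_⟩
  set c := T.sup k with hcdef
  haveI : SheafOfModules.IsQuasicoherent.{u} ((L c : Subobject F) : X.Modules) := hLq c
  haveI : SheafOfModules.IsQuasicoherent.{u} ((L n : Subobject F) : X.Modules) := hLq n
  haveI := isQCoh_idealMul (I ^ (n - c)) ((L c : Subobject F) : X.Modules)
  have hR : ∀ (m : ℕ) (W : X.affineOpens), LinearMap.range (appLin (L m).arrow W.1) =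
      I.ideal W ^ m • ⊤ ⊓ LinearMap.range (appLin ι W.1) := fun m W => by
    rw [range_inf, range_idealMulι, Scheme.IdealSheafData.ideal_pow, Pi.pow_apply]
  let a := Dual3.idealMulι (I ^ (n - c)) ((L c : Subobject F) : X.Modules) ≫ (L c).arrow
  change Subobject.mk a = L n
  have h1 : ∀ W : X.affineOpens, LinearMap.range (appLin a W.1) ≤ LinearMap.range (appLin (L n).arrow W.1) :=
    fun W => by
      rw [range_idealMulι_comp, hR, hR, Scheme.IdealSheafData.ideal_pow, Pi.pow_apply]
      refine le_inf ((Submodule.smul_mono le_rfl inf_le_left).trans ?_)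
        ((Submodule.smul_mono le_rfl inf_le_right).trans Submodule.smul_le_right)
      rw [← Submodule.mul_smul, ← pow_add, Nat.sub_add_cancel hn]
  have hj : Subobject.mk a ≤ L n := (mk_le_mk_of_range a (L n).arrow h1).trans_eq (Subobject.mk_arrow _)
  refine le_antisymm hj ?_
  let j := Subobject.ofMkLE a (L n) hj
  have hj' : j ≫ (L n).arrow = a := Subobject.ofMkLE_arrow hj
  haveI : Mono j := mono_of_mono_fac hj'
  have hC : Coh.IsQCoh (cokernel j) := QCoh.isQuasicoherent_cokernel j
  have hz : IsZero (cokernel j) := isZero_of_support_eq_empty (Set.eq_empty_iff_forall_notMem.mpr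
    fun x hx => hx (subsingleton_of_forall_eq 0 fun t => ?_))
  · haveI : Epi j := Abelian.epi_of_cokernel_π_eq_zero j (hz.eq_of_tgt _ _)
    haveI := isIso_of_mono_of_epi j
    exact Subobject.le_mk_of_comm (inv j) (by rw [IsIso.inv_comp_eq]; exact hj'.symm)
  haveI : (cokernel j).IsQuasicoherent := hC
  obtain ⟨W, hWT, hxW⟩ := Set.mem_iUnion₂.mp (hT (Set.mem_univ x))
  obtain ⟨d, s, hs, hst⟩ := CycLib.exists_smul_germ_eq (cokernel j) W.2 hxW t
  obtain ⟨b, rfl⟩ := QCoh.app_surjective_of_epi (cokernel.π j) W.2 d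
  have hkc : k W ≤ c := Finset.le_sup hWT
  have hle : LinearMap.range (appLin (L n).arrow W.1) ≤ LinearMap.range (appLin a W.1) := by
    rw [range_idealMulι_comp, hR, hR, Scheme.IdealSheafData.ideal_pow, Pi.pow_apply,
      hk W c hkc, hk W n (hkc.trans hn), ← Submodule.mul_smul, ← pow_add,
      show n - c + (c - k W) = n - k W by omega]
  obtain ⟨e, he⟩ := hle ⟨b, rfl⟩
  obtain rfl : j.app W.1 e = b := QCoh.app_injective_of_mono (L n).arrow W.1
    ((congrArg (fun f => f.app W.1 e) hj').trans he)
  refine hs.smul_eq_zero.mp (hst.trans ?_)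
  exact (congrArg _ (congrArg (fun f => f.app W.1 e) (cokernel.condition j))).trans
    (map_zero ((cokernel j).presheaf.germ W.1 x hxW).hom)

end Groth.Agent.S9517
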