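import Groth.Statements.S9525
import Groth.Agent.CohDev.Loc
-- import your own Groth.Agent.* helpers here

set_option autoImplicit false
universe u
open Coherent

namespace Groth.Agent.S9525

open CategoryTheory CategoryTheory.Limits AlgebraicGeometry in
/-- Let X be a locally Noetherian scheme, F and G coherent O_X-modules, φ : G → F a morphism and x ∈ X.
(1) If F_x = 0 there is an open neighbourhood U of x with F|_U = 0. (2) If the stalk map φ_x : G_x →
F_x is injective there is an open neighbourhood U of x with φ|_U injective. (4) If φ_x is bijective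
there is an open neighbourhood U of x with φ|_U an isomorphism. (Part (3), surjectivity, is the
finite-type statement valid on any ringed space and is not restated.) -/
theorem result (X : Scheme.{u}) [IsLocallyNoetherian X]
    (F G : X.Modules) (hF : Coh.IsCoh F) (hG : Coh.IsCoh G) (φ : G ⟶ F) (x : X) :
    (Subsingleton ↑(F.presheaf.stalk x) →
      ∃ U : X.Opens, x ∈ U ∧ IsZero ((Scheme.Modules.restrictFunctor U.ι).obj F)) ∧
    (Function.Injective ((TopCat.Presheaf.stalkFunctor _ x).map φ.mapPresheaf).hom →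
      ∃ U : X.Opens, x ∈ U ∧ Mono ((Scheme.Modules.restrictFunctor U.ι).map φ)) ∧
    (Function.Bijective ((TopCat.Presheaf.stalkFunctor _ x).map φ.mapPresheaf).hom →
      ∃ U : X.Opens, x ∈ U ∧ IsIso ((Scheme.Modules.restrictFunctor U.ι).map φ)) := by
  have hzero : ∀ M : X.Modules, Coh.IsCoh M → Subsingleton (M.presheaf.stalk x) →
      ∃ U : X.Opens, x ∈ U ∧ IsZero ((Scheme.Modules.restrictFunctor U.ι).obj M) := fun M hM hs =>
    ⟨⟨(CohB1.support M)ᶜ, (Groth.Agent.CohDev.isClosed_support hM).isOpen_compl⟩, not_not.mpr hs,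
      Groth.Agent.CohDev.isZero_restrict_of_support _ fun y hy => by
        rw [Scheme.Opens.range_ι]; exact not_not.mpr hy⟩
  have hker : Function.Injective ((TopCat.Presheaf.stalkFunctor _ x).map φ.mapPresheaf).hom →
      Subsingleton ((kernel φ).presheaf.stalk x) := fun h => by
    refine subsingleton_of_forall_eq 0 fun t => Groth.Agent.CohDev.stalk_injective (kernel.ι φ) x ?_
    rw [map_zero]
    have e : Groth.Agent.PullStalk.Exact.stalkLin φ x (Groth.Agent.PullStalk.Exact.stalkLin (kernel.ι φ) x t) =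
        Groth.Agent.PullStalk.Exact.stalkLin φ x 0 :=
      ((Groth.Agent.CohDev.stalkLin_comp_apply (kernel.ι φ) φ x t).symm.trans (by
        rw [kernel.condition, Groth.Agent.CohDev.stalkLin_zero_apply])).trans (map_zero _).symm
    exact h e
  have hmono : ∀ U : X.Opens, IsZero ((Scheme.Modules.restrictFunctor U.ι).obj (kernel φ)) →
      Mono ((Scheme.Modules.restrictFunctor U.ι).map φ) := fun U hz => by
    refine Preadditive.mono_of_kernel_zero (IsZero.eq_of_src ?_ _ _)
    exact hz.of_iso (PreservesKernel.iso (Scheme.Modules.restrictFunctor U.ι) φ).symm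
  refine ⟨hzero F hF, fun h => ?_, fun h => ?_⟩
  · obtain ⟨U, hx, hz⟩ := hzero _ (Groth.Agent.CohDev.isCoh_kernel φ hG hF.1) (hker h)
    exact ⟨U, hx, hmono U hz⟩
  · have hcok : Subsingleton ((cokernel φ).presheaf.stalk x) := by
      refine subsingleton_of_forall_eq 0 fun t => ?_
      obtain ⟨t, rfl⟩ := Groth.Agent.PullStalk.Exact.stalk_surjective (cokernel.π φ) x t
      obtain ⟨a, rfl⟩ := h.2 t
      change Groth.Agent.PullStalk.Exact.stalkLin (cokernel.π φ) x (Groth.Agent.PullStalk.Exact.stalkLin φ x a) = 0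
      exact (Groth.Agent.CohDev.stalkLin_comp_apply φ (cokernel.π φ) x a).symm.trans
        ((congrArg (fun f => Groth.Agent.PullStalk.Exact.stalkLin f x a) (cokernel.condition φ)).trans
          (Groth.Agent.CohDev.stalkLin_zero_apply x a))
    obtain ⟨U, hx, hz⟩ := hzero _ (Groth.Agent.CohDev.isCoh_kernel φ hG hF.1) (hker h.1)
    obtain ⟨W, hxW, hzW⟩ := hzero _ (Groth.Agent.CohDev.isCoh_cokernel φ hG.1 hF) hcok
    have hsub : ∀ {V V' : X.Opens} (_ : V' ≤ V) (M : X.Modules),
        IsZero ((Scheme.Modules.restrictFunctor V.ι).obj M) → IsZero ((Scheme.Modules.restrictFunctor V'.ι).obj M) :=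
      fun hle M hM => ((Scheme.Modules.restrictFunctor (X.homOfLE hle)).map_isZero hM).of_iso
        ((Scheme.Modules.restrictFunctorCongr (X.homOfLE_ι hle).symm ≪≫
          Scheme.Modules.restrictFunctorComp (X.homOfLE hle) _).app M)
    have := hmono (U ⊓ W) (hsub inf_le_left _ hz)
    have : Epi ((Scheme.Modules.restrictFunctor (U ⊓ W).ι).map φ) :=
      Preadditive.epi_of_cokernel_zero (IsZero.eq_of_tgt
        ((hsub inf_le_right _ hzW).of_iso
          (PreservesCokernel.iso (Scheme.Modules.restrictFunctor (U ⊓ W).ι) φ).symm) _ _)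
    exact ⟨U ⊓ W, ⟨hx, hxW⟩, isIso_of_mono_of_epi _⟩

end Groth.Agent.S9525
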