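import Groth.Statements.S9521
import Groth.Agent.CohOps.Generic
import Groth.Agent.S9525
import Groth.Agent.AssSch.Basic
-- import your own Groth.Agent.* helpers here

set_option autoImplicit false
universe u
open Coherent

namespace Groth.Agent.S9521

open Groth.Agent.CohDev Groth.Agent.PullStalk.Sky Groth.Agent.PullStalk.Exact Groth.Agent.AssSch.Stalk
open CategoryTheory CategoryTheory.Limits AlgebraicGeometry TopologicalSpace
open Groth.Agent.Props.SubSheaf Groth.Agent.Props.SubMod

/-- A sum of copies of the structure sheaf of an integral scheme is associated only at the generic point. -/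
theorem eq_genericPoint_of_assoc {Z : Scheme.{u}} [IsIntegral Z] [IsNoetherian Z] {r : ℕ} {y : Z}
    (h : Assoc (pow (Coh.structureModule Z) r) y) : y = genericPoint Z := by
  obtain ⟨t, ht, hr⟩ := h
  obtain ⟨i, hi⟩ : ∃ i, powStalkEquiv (Coh.structureModule Z) r y t i ≠ 0 := by
    by_contra! hh
    exact ht ((powStalkEquiv (Coh.structureModule Z) r y).injective ((funext hh).trans (map_zero _).symm))
  obtain ⟨c, hc⟩ : ∃ c, HomShQC.unitStalk y c = powStalkEquiv (Coh.structureModule Z) r y t i :=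
    ⟨_, (HomShQC.unitStalk y).apply_symm_apply _⟩
  have hc0 : c ≠ 0 := fun h => hi (by rw [← hc, h, map_zero])
  have hm : ∀ a ∈ IsLocalRing.maximalIdeal (Z.presheaf.stalk y), a = 0 := fun a ha => by
    have h1 : a • powStalkEquiv (Coh.structureModule Z) r y t i = 0 := by
      rw [← Pi.smul_apply, ← map_smul, hr a ha, map_zero, Pi.zero_apply]
    rw [← hc, ← map_smul, LinearEquiv.map_eq_zero_iff, smul_eq_mul, mul_eq_zero] at h1
    exact h1.resolve_right hc0
  obtain ⟨V, hV, hyV, -⟩ := exists_isAffineOpen_mem_and_subset (X := Z) (Opens.mem_top y)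
  have hη : genericPoint Z ⤳ y := genericPoint_specializes y
  have hle : primeOf hV y hyV ≤ primeOf hV (genericPoint Z) (hη.mem_open V.2 hyV) := fun a ha => by
    have h0 : Z.presheaf.germ V y hyV a = 0 :=
      hm _ ((IsLocalRing.mem_maximalIdeal _).mpr fun hu => (isUnit_germ_iff hV y hyV a).mp hu ha)
    have : a = 0 := germ_injective_of_isIntegral Z y hyV (h0.trans (map_zero _).symm)
    rw [this]
    exact Ideal.zero_mem _
  exact (((AssSch.Basic.primeOf_le_iff hV y _ hyV _).mp hle).antisymm hη).eq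

open CategoryTheory CategoryTheory.Limits AlgebraicGeometry in
/-- Let X be a Noetherian scheme, i : Z → X a closed immersion with Z an integral scheme, ξ ∈ X the
image of the generic point of Z, and F a coherent O_X-module whose stalk F_ξ is annihilated by the
maximal ideal of O_{X,ξ}. Then one can find r ≥ 0 together with a coherent ideal sheaf I ⊆ O_Z and a
monomorphism of O_X-modules i_*(I^⊕r) → F that becomes an isomorphism when restricted to some open
neighbourhood of ξ. -/
theorem result (X Z : Scheme.{u}) [IsNoetherian X]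
    (i : Z ⟶ X) [IsClosedImmersion i] [IsIntegral Z] (F : X.Modules) (hF : Coh.IsCoh F)
    (hann : ∀ a ∈ IsLocalRing.maximalIdeal (X.presheaf.stalk (i (genericPoint Z))),
      ∀ m : ↑(F.presheaf.stalk (i (genericPoint Z))), a • m = 0) :
    ∃ (r : ℕ) (I : Z.Modules) (ι : I ⟶ Coh.structureModule Z) (φ : (Coh.push i).obj (∐ fun _ : Fin r => I) ⟶ F),
      Mono ι ∧ Coh.IsCoh I ∧ Mono φ ∧
      ∃ U : X.Opens, i (genericPoint Z) ∈ U ∧ IsIso ((Scheme.Modules.restrictFunctor U.ι).map φ) := by
  classical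
  haveI : IsNoetherian Z := { __ := LocallyOfFiniteType.isLocallyNoetherian i, __ := QuasiCompact.compactSpace_of_compactSpace i }
  let η := genericPoint Z
  let ξ := i η
  let A := killSub i.ker F
  have hA : Coh.IsCoh A := isCoh_killSub hF
  let e := unitIsoOfKilled i (killed_killSub (I := i.ker) hF)
  let B := (Scheme.Modules.pullback i).obj A
  have hB : Coh.IsCoh B := ZClosLib.CohDescent.isCoh_pullback i A hA
  haveI : F.IsQuasicoherent := hF.1
  have hincl : Function.Bijective (stalkLin (incl (killFam i.ker F)) ξ) := by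
    refine ⟨stalk_injective _ ξ, fun t => ?_⟩
    have hξ : ξ ∈ (i.ker.support : Set X) := i.range_subset_ker_support ⟨η, rfl⟩
    have ht : t ∈ killFam i.ker F ξ := fun V hV a ha => by
      refine hann _ ((IsLocalRing.mem_maximalIdeal _).mpr fun hu => ?_) t
      have h1 := ((Set.ext_iff.mp (i.ker.coe_support_inter V) ξ).mp ⟨hξ, hV⟩).1
      rw [Scheme.mem_zeroLocus_iff] at h1
      exact h1 a ha ((X.mem_basicOpen a ξ hV).mpr hu)
    obtain ⟨W, hW, hξW, -⟩ := exists_isAffineOpen_mem_and_subset (X := X) (Opens.mem_top ξ)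
    rw [genBy_killSec ⟨W, hW⟩ ξ hξW] at ht
    refine (Submodule.span_le (p := LinearMap.range (stalkLin (incl (killFam i.ker F)) ξ))).mpr ?_ ht
    rintro _ ⟨m, hm, rfl⟩
    obtain ⟨w, hw⟩ := (mem_range_incl _ m).mpr fun y hy => germ_mem_killFam (V := ⟨W, hW⟩) hm hy
    exact ⟨germM _ W ξ hξW w, (stalkLin_germ _ W ξ hξW w).trans (congrArg _ hw)⟩
  letI : Field (Z.presheaf.stalk η) := inferInstanceAs (Field Z.functionField)
  haveI : Module.Finite (Z.presheaf.stalk η) (B.presheaf.stalk η) := FDesc.QuasiFlat.finite_stalk_of_isCoh B hB η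
  let r := Module.finrank (Z.presheaf.stalk η) (B.presheaf.stalk η)
  let O := Coh.structureModule Z
  have hO : Coh.IsCoh O := HomShQC.isCoh_structureModule
  let b := Module.finBasis (Z.presheaf.stalk η) (B.presheaf.stalk η)
  let ψ : (pow O r).presheaf.stalk η ≃ₗ[Z.presheaf.stalk η] B.presheaf.stalk η :=
    ((powStalkEquiv O r η).trans (LinearEquiv.piCongrRight fun _ => (HomShQC.unitStalk η).symm)).trans b.equivFun.symm
  obtain ⟨J, Φ, hηJ, hJb, hΦ⟩ := CohOps.Generic.exists_extension_at (isCoh_pow_and_kcl hO r).1 hB η ψ.toLinearMap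
  have hΦb : Function.Bijective (stalkLin Φ η) := by
    rw [show ⇑(stalkLin Φ η) = ψ ∘ stalkLin (Dual3.idealMulι J (pow O r)) η from funext hΦ]
    exact ψ.bijective.comp hJb
  have hJP : Coh.IsCoh ((Dual3.idealMul J).obj (pow O r)) := isCoh_idealMul J (isCoh_pow_and_kcl hO r).1
  haveI : Mono Φ := by
    refine Preadditive.mono_of_kernel_zero (IsZero.eq_of_src ?_ _ _)
    by_contra hz
    obtain ⟨y, hy⟩ := exists_assoc (isCoh_kernel Φ hJP hB.1) hz
    have := eq_genericPoint_of_assoc (assoc_of_mono (kernel.ι Φ ≫ Dual3.idealMulι J (pow O r)) hy)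
    subst this
    exact not_mem_support_kernel Φ hΦb.1 (mem_support_of_assoc hy)
  let m : (∐ fun _ : Fin r => (Dual3.idealMul J).obj O) ≅ (Dual3.idealMul J).obj (pow O r) :=
    (biproduct.isoCoproduct fun _ : Fin r => (Dual3.idealMul J).obj O).symm ≪≫
      ((Dual3.idealMul J).mapBiproduct _).symm
  let P := Scheme.Modules.pushforward i
  haveI : PreservesLimitsOfSize.{0, 0} P := (Scheme.Modules.pullbackPushforwardAdjunction i).rightAdjoint_preservesLimits
  let φ : P.obj (∐ fun _ : Fin r => (Dual3.idealMul J).obj O) ⟶ F :=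
    P.map (m.hom ≫ Φ) ≫ e.inv ≫ incl (killFam i.ker F)
  haveI : Mono (m.hom ≫ Φ) := mono_comp _ _
  have hI : Coh.IsCoh ((Dual3.idealMul J).obj O) := isCoh_idealMul J hO
  refine ⟨r, (Dual3.idealMul J).obj O, Dual3.idealMulι J O, φ, inferInstance, hI, mono_comp _ _, ?_⟩
  obtain ⟨W, hηW, hW⟩ := (S9525.result Z B _ hB hJP Φ η).2.2 hΦb
  obtain ⟨U', hU', hUW⟩ := i.isClosedEmbedding.isInducing.isOpen_iff.mp W.2
  let U : X.Opens := ⟨U', hU'⟩
  have hξU : ξ ∈ U := (show η ∈ i ⁻¹' U' from hUW ▸ hηW)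
  haveI : IsIso ((Scheme.Modules.restrictFunctor W.ι).map (m.hom ≫ Φ)) := by
    rw [Functor.map_comp]; haveI := hW; infer_instance
  haveI : IsIso ((Scheme.Modules.restrictFunctor U.ι).map (P.map (m.hom ≫ Φ))) := by
    refine Scheme.Modules.Hom.isIso_iff_isIso_app.mpr fun O' => (ConcreteCategory.isIso_iff_bijective _).mpr ?_
    refine app_bijective_of_isIso_restrict W.ι (m.hom ≫ Φ) (W := i ⁻¹ᵁ (U.ι ''ᵁ O')) ?_
    rw [Scheme.Opens.opensRange_ι]
    rintro y hy
    obtain ⟨z, -, hz⟩ := (show i y ∈ U.ι ''ᵁ O' from hy)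
    exact (Set.ext_iff.mp hUW y).mp (show i y ∈ U' from hz ▸ z.2)
  have hφb : Function.Bijective (stalkLin φ ξ) := by
    have h1 := stalk_bijective_of_isIso_restrict U.ι (P.map (m.hom ≫ Φ)) (show ξ ∈ Set.range U.ι by
      rw [Scheme.Opens.range_ι]; exact hξU)
    have h2 : Function.Bijective (stalkLin e.inv ξ) :=
      ⟨stalk_injective e.inv ξ, fun v => ⟨stalkLin e.hom ξ v, by
        rw [← stalkLin_comp_apply, Iso.hom_inv_id, stalkLin_id_apply]⟩⟩
    rw [show ⇑(stalkLin φ ξ) = stalkLin (incl (killFam i.ker F)) ξ ∘ stalkLin e.inv ξ ∘ stalkLin (P.map (m.hom ≫ Φ)) ξ from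
      funext fun v => by rw [Function.comp_apply, Function.comp_apply, ← stalkLin_comp_apply, ← stalkLin_comp_apply]]
    exact hincl.comp (h2.comp h1)
  haveI hSq : SheafOfModules.IsQuasicoherent.{u} (∐ fun _ : Fin r => (Dual3.idealMul J).obj O : Z.Modules) := (isCoh_of_iso m.symm hJP).1
  have hsrc : Coh.IsCoh (P.obj (∐ fun _ : Fin r => (Dual3.idealMul J).obj O)) :=
    CycLib.isCoh_push _ i (isCoh_of_iso m.symm hJP)
  exact (S9525.result X F _ hF hsrc φ ξ).2.2 hφb

end Groth.Agent.S9521
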