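import Groth.Statements.S9522
import Groth.Agent.CohDev.AR

set_option autoImplicit false
universe u
open CategoryTheory CategoryTheory.Limits AlgebraicGeometry
attribute [local instance] HasDerivedCategory.standard
open Coherent

namespace Groth.Agent.S9522

open Groth.Agent.CohDev Groth.Agent.PullStalk.Exact

/-- Let X be a Noetherian scheme, Z₀ ⊆ X an irreducible closed subset with generic point ξ, and P an
isomorphism-invariant property of O_X-modules that holds for every zero module and such that (1) for
every short exact sequence 0 → F₁ → F → F₂ → 0 of coherent modules, P(F₁) and P(F₂) imply P(F); (2)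
for coherent F, P(F^⊕r) for some r ≥ 1 implies P(F); (3) P holds for i_*I for every closed immersion
i : Z → X with Z integral, i(Z) a proper subset of Z₀, and every quasi-coherent ideal sheaf I ⊆ O_Z;
(4) there is a coherent module G with support equal to Z₀, whose stalk at ξ is annihilated by the
maximal ideal of O_{X,ξ}, and such that for every quasi-coherent sheaf of ideals J on X with ξ ∉
V(J) there is a quasi-coherent submodule G' ⊆ J·G whose inclusion into G induces an isomorphism on
stalks at ξ and for which P holds. Then P holds for every coherent O_X-module whose support is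
contained in Z₀. (The published statement does not ask that P hold for the zero module, although its
proof uses this for a filtration with no steps; without it the conclusion fails for the zero module
when Z₀ is a closed point: on the spectrum of a field, with P(F) meaning that F is nonzero, every
other hypothesis holds. This row assumes that P holds for every zero module.) -/
theorem result (X : Scheme.{u}) [IsNoetherian X]
    (Z₀ : Set X) (hZ₀ : IsClosed Z₀) (hirr : IsIrreducible Z₀) (ξ : X) (hξ : ξ ∈ Z₀ ∧ closure {ξ} = Z₀)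
    (P : X.Modules → Prop) (hP : ∀ M N : X.Modules, Nonempty (M ≅ N) → P M → P N)
    (h₀ : ∀ M : X.Modules, IsZero M → P M)
    (h₁ : ∀ S : ShortComplex X.Modules, S.ShortExact → Coh.IsCoh S.X₁ → Coh.IsCoh S.X₂ → Coh.IsCoh S.X₃ →
      P S.X₁ → P S.X₃ → P S.X₂)
    (h₂ : ∀ (F : X.Modules) (r : ℕ), Coh.IsCoh F → 1 ≤ r → P (∐ fun _ : Fin r => F) → P F)
    (h₃ : ∀ (Z : Scheme.{u}) (i : Z ⟶ X), IsClosedImmersion i → IsIntegral Z →
      Set.range ⇑i ⊆ Z₀ → Set.range ⇑i ≠ Z₀ →
      ∀ (I : Z.Modules) (ι : I ⟶ Coh.structureModule Z), Mono ι → Coh.IsQCoh I → P ((Coh.push i).obj I))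
    (h₄ : ∃ G : X.Modules, Coh.IsCoh G ∧ CohB1.support G = Z₀ ∧
      (∀ a ∈ IsLocalRing.maximalIdeal (X.presheaf.stalk ξ), ∀ m : ↑(G.presheaf.stalk ξ), a • m = 0) ∧
      ∀ J : X.IdealSheafData, ξ ∉ (J.support : Set X) →
        ∃ (G' : X.Modules) (ι' : G' ⟶ (Dual3.idealMul J).obj G), Mono ι' ∧ Coh.IsQCoh G' ∧
          IsIso ((TopCat.Presheaf.stalkFunctor _ ξ).map (ι' ≫ Dual3.idealMulι J G).mapPresheaf) ∧ P G')
    (F : X.Modules) (hF : Coh.IsCoh F) (hsupp : CohB1.support F ⊆ Z₀) : P F := by
  obtain ⟨G, hG, hGs, hGk, hG4⟩ := h₄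
  refine devissage_ext hZ₀ h₀ (fun S hS a b c _ => h₁ S hS a b c) (fun x hx J hJ hsmall => ?_) hF hsupp
  by_cases hxξ : x = ξ
  · subst hxξ
    refine piece_of_model_ext (T := Z₀) hξ.2.le (fun S hS a b c _ => h₁ S hS a b c) hP
      h₂ hsmall hG (hGs.le.trans hξ.2.ge) (hGs.ge hξ.1) hGk (fun I hI => ?_) hJ
    obtain ⟨G', ι, hι, hq, hiso, hPG⟩ := hG4 I hI
    exact ⟨G', ι, hι, isCoh_of_mono ι hq (isCoh_idealMul I hG),
      ConcreteCategory.bijective_of_isIso
        ((TopCat.Presheaf.stalkFunctor AddCommGrpCat.{u} x).map (ι ≫ Dual3.idealMulι I G).mapPresheaf),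
      hPG⟩
  · obtain ⟨hZ, I, ι, hι, hI, ⟨e⟩⟩ := hJ.exists_ideal
    obtain hr : Set.range (IntMult.ptIdeal x).subschemeι = closure ({x} : Set X) := by
      rw [Scheme.IdealSheafData.range_subschemeι]; exact coe_support_ptIdeal x
    refine hP _ _ ⟨e.symm⟩ (h₃ _ _ inferInstance hZ ?_ ?_ I ι hι hI)
    · rw [hr]; exact closure_minimal (Set.singleton_subset_iff.mpr hx) hZ₀
    · rw [hr, ← hξ.2]
      intro he
      exact hxξ ((isGenericPoint_closure (x := x)).eq (show IsGenericPoint ξ (closure {x}) from he.symm))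

end Groth.Agent.S9522
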