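import Groth.Statements.S9524
import Groth.Agent.SHomIso.Basic
import Groth.Agent.CohDev.Coh

set_option autoImplicit false
universe u
open CategoryTheory CategoryTheory.Limits AlgebraicGeometry
attribute [local instance] HasDerivedCategory.standard
open Coherent

namespace Groth.Agent.S9524

/-- Let X be a locally Noetherian scheme and F, G coherent O_X-modules. Then the sheaf Hom_{O_X}(F, G)
is coherent. (Hom_{O_X}(F, −) is the right adjoint of F ⊗ −, under its existence binder; the
tensor-product half of the published statement is not restated here.) -/
theorem result (X : Scheme.{u}) [IsLocallyNoetherian X] (F G : X.Modules)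
    (hF : Coh.IsCoh F) (hG : Coh.IsCoh G) [DCoh.HasSheafHom F] :
    Coh.IsCoh ((DCoh.sheafHom F).obj G) := by
  obtain ⟨e⟩ := SHomIso.Basic.nonempty_iso F G
  exact CohDev.isCoh_of_iso e.symm (HomShEval.QCoh.isCoh_homSh F G hF hG)

end Groth.Agent.S9524
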