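import Groth.Statements.S9529
import Groth.Agent.SHomIso.Stalk
import Groth.Agent.S6876
import Groth.Agent.Depth.Basic
import Mathlib.RingTheory.KrullDimension.Module

set_option autoImplicit false
universe u
open CategoryTheory CategoryTheory.Limits AlgebraicGeometry
attribute [local instance] HasDerivedCategory.standard
open Coherent

namespace Groth.Agent.S9529

/-- Let X be a locally Noetherian scheme, F and G coherent O_X-modules and H = Hom_{O_X}(F, G). If G has
property (S_1), so has H; if G has property (S_2), so has H. Here a coherent module M has (S_k) when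
depth M_x ≥ min(k, dim Supp M_x) for every x ∈ X, with M_x regarded as a module over O_{X,x} (the
zero module has depth ∞ and support dimension −∞); the sheaf Hom is the right adjoint of F ⊗ − under
its existence binder. -/
theorem result (X : Scheme.{u}) [IsLocallyNoetherian X] (F G : X.Modules)
    (hF : Coh.IsCoh F) (hG : Coh.IsCoh G) [DCoh.HasSheafHom F] (k : ℕ) (hk : k = 1 ∨ k = 2)
    (hS : ∀ x : X, min (k : WithBot ℕ∞) (Module.supportDim (X.presheaf.stalk x) ↑(G.presheaf.stalk x)) ≤
      ((LocCoh.depth (X.presheaf.stalk x) ↑(G.presheaf.stalk x) : ℕ∞) : WithBot ℕ∞)) (x : X) :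
    min (k : WithBot ℕ∞)
        (Module.supportDim (X.presheaf.stalk x) ↑(((DCoh.sheafHom F).obj G).presheaf.stalk x)) ≤
      ((LocCoh.depth (X.presheaf.stalk x) ↑(((DCoh.sheafHom F).obj G).presheaf.stalk x) : ℕ∞) :
        WithBot ℕ∞) := by
  haveI := HomShQC.finite_stalk F hF.2 x
  haveI := HomShQC.finite_stalk G hG.2 x
  obtain ⟨e⟩ := SHomIso.Stalk.nonempty_stalkEquiv F G (HomShEval.QCoh.isFP_of_isCoh F hF) x
  have hd := S6876.result (X.presheaf.stalk x) (F.presheaf.stalk x) (G.presheaf.stalk x)
  have he : LocCoh.depth (X.presheaf.stalk x) (((DCoh.sheafHom F).obj G).presheaf.stalk x) =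
      LocCoh.depth (X.presheaf.stalk x) (F.presheaf.stalk x →ₗ[X.presheaf.stalk x] G.presheaf.stalk x) := by
    rw [Depth.depth_eq_idealDepth, Depth.depth_eq_idealDepth]
    exact Depth.idealDepth_congr e
  rw [he, Module.supportDim_eq_of_equiv e]
  have hann : Module.annihilator (X.presheaf.stalk x) (G.presheaf.stalk x) ≤
      Module.annihilator (X.presheaf.stalk x) (F.presheaf.stalk x →ₗ[X.presheaf.stalk x] G.presheaf.stalk x) :=
    fun r hr => Module.mem_annihilator.2 fun φ => LinearMap.ext fun m => Module.mem_annihilator.1 hr (φ m)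
  have hsd : Module.supportDim (X.presheaf.stalk x) (F.presheaf.stalk x →ₗ[X.presheaf.stalk x] G.presheaf.stalk x) ≤
      Module.supportDim (X.presheaf.stalk x) (G.presheaf.stalk x) := by
    rw [Module.supportDim_eq_ringKrullDim_quotient_annihilator, Module.supportDim_eq_ringKrullDim_quotient_annihilator]
    exact ringKrullDim_le_of_surjective (Ideal.Quotient.factor hann) (Ideal.Quotient.factor_surjective hann)
  refine (min_le_min le_rfl hsd).trans ((le_min (min_le_left _ _) (hS x)).trans ?_)
  set a := LocCoh.depth (X.presheaf.stalk x) (G.presheaf.stalk x)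
  set b := LocCoh.depth (X.presheaf.stalk x) (F.presheaf.stalk x →ₗ[X.presheaf.stalk x] G.presheaf.stalk x)
  rw [show ((k : ℕ) : WithBot ℕ∞) = (((k : ℕ∞)) : WithBot ℕ∞) from rfl, ← WithBot.coe_min, WithBot.coe_le_coe]
  rcases le_or_gt (1 : ℕ∞) a with h1 | h1
  · rcases le_or_gt (2 : ℕ∞) a with h2 | h2
    · refine (min_le_left _ _).trans ((Nat.cast_le.2 (show k ≤ 2 by omega)).trans ?_)
      exact_mod_cast hd.2 h2
    · refine (min_le_right _ _).trans (le_trans ?_ (hd.1 h1))
      exact Order.le_of_lt_add_one (by rwa [one_add_one_eq_two])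
  · exact (min_le_right _ _).trans (le_of_eq_of_le (ENat.lt_one_iff_eq_zero.1 h1) zero_le)

end Groth.Agent.S9529
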