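import Groth.Statements.S9535
import Groth.Agent.FormalExist.Exist
import Groth.Agent.FormalExist.Extend
import Groth.Agent.ProperFin.Projective

set_option autoImplicit false
universe u
open CategoryTheory CategoryTheory.Limits AlgebraicGeometry Opposite
open Algz

namespace Groth.Agent.S9535

/-- (6) ⇒ (2): Let A be a Noetherian ring complete for the I-adic topology, I ⊆ 𝔞 ideals, U = Spec A ∖
V(𝔞) and (F_n) an object of Coh(U, I O_U). If (F_n) extends to Spec A, then (F_n) is isomorphic to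
the completion of a coherent O_U-module. -/
theorem result (A : Type u) [CommRing A] [IsNoetherianRing A] (I 𝔞 : Ideal A) (hI𝔞 : I ≤ 𝔞)
    (G : ℕᵒᵖ ⥤ (↑(LocCoh.puncturedOpen A 𝔞) : Scheme.{u}).Modules) (hG : Formal.IsCohFormal I G) [IsAdicComplete I A]
    (h : @Algz.Extends A _ (Spec (CommRingCat.of A)) ⟨𝟙 (Spec (CommRingCat.of A))⟩ I (LocCoh.puncturedOpen A 𝔞) G) :
    ∃ F : (↑(LocCoh.puncturedOpen A 𝔞) : Scheme.{u}).Modules, Coh.IsCoh F ∧ Nonempty (Formal.completion I F ≅ G) := by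
  letI : (Spec (CommRingCat.of A)).Over (Spec (CommRingCat.of A)) := ⟨𝟙 _⟩
  haveI : IsProper (Spec (CommRingCat.of A) ↘ Spec (CommRingCat.of A)) :=
    inferInstanceAs (IsProper (𝟙 (Spec (CommRingCat.of A))))
  obtain ⟨G', hG', ⟨e⟩⟩ := h
  obtain ⟨M, hM, ⟨e'⟩⟩ := FormalExist.Exist.exists_algebraization hG'
  obtain ⟨ε⟩ := FormalExist.Extend.nonempty_restrict_completion I (LocCoh.puncturedOpen A 𝔞).ι rfl M
  exact ⟨_, ProperFin.isCoh_restrict (LocCoh.puncturedOpen A 𝔞).ι hM,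
    ⟨ε.symm ≪≫ Functor.isoWhiskerRight e' _ ≪≫ e⟩⟩

end Groth.Agent.S9535
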