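import Groth.Statements.S9537
import Groth.Agent.FormalExist.CompUnit
import Groth.Agent.FormalExist.Base
import Groth.Agent.FormalTors.Right
import Groth.Agent.KFlat.FlatPull

set_option autoImplicit false
universe u
open CategoryTheory CategoryTheory.Limits AlgebraicGeometry Opposite
open Algz

namespace Groth.Agent.S9537

/-- Let A be a Noetherian ring, I ⊆ 𝔞 ideals, U = Spec A ∖ V(𝔞), and α a morphism between objects (F_n),
(F'_n) of Coh(U, I O_U) such that one fixed power of I kills the kernel and the cokernel of every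
component of α. Then (F_n) extends to Spec A if and only if (F'_n) does. (Part (2), the same
equivalence for being the completion of a coherent module, is the content of the two existence
results for maps into and out of a completion and is not restated.) -/
theorem result (A : Type u) [CommRing A] [IsNoetherianRing A] (I 𝔞 : Ideal A) (hI𝔞 : I ≤ 𝔞)
    (G G' : ℕᵒᵖ ⥤ (↑(LocCoh.puncturedOpen A 𝔞) : Scheme.{u}).Modules) (hG : Formal.IsCohFormal I G) (hG' : Formal.IsCohFormal I G')
    (α : G ⟶ G') (hα : Formal2.KerCokerKilledByIPow I α) :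
    @Algz.Extends A _ (Spec (CommRingCat.of A)) ⟨𝟙 (Spec (CommRingCat.of A))⟩ I (LocCoh.puncturedOpen A 𝔞) G ↔ @Algz.Extends A _ (Spec (CommRingCat.of A)) ⟨𝟙 (Spec (CommRingCat.of A))⟩ I (LocCoh.puncturedOpen A 𝔞) G' := by
  let U := LocCoh.puncturedOpen A 𝔞
  let g := FormalExist.CompUnit.g I
  let R' := AdicCompletion I A
  let V := g ⁻¹ᵁ U
  let p := g ∣_ U
  let I' : Ideal R' := I.map (algebraMap A R')
  haveI : IsNoetherianRing R' := RegLoc.Completion.isNoetherianRing_adicCompletion' I
  haveI : IsLocallyNoetherian (V : Scheme.{u}) := inferInstance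
  haveI : CompactSpace (V : Scheme.{u}) :=
    isCompact_iff_compactSpace.mp (TopologicalSpace.NoetherianSpace.isCompact (V : Set (Spec (CommRingCat.of R'))))
  haveI : IsNoetherian (V : Scheme.{u}) := ⟨⟩
  haveI := FormalExist.CompUnit.flat_g I
  haveI : AlgebraicGeometry.Flat p := MorphismProperty.of_isPullback (FormalExist.CompUnit.isPullback I U).flip inferInstance
  letI : (Spec (CommRingCat.of R')).Over (Spec (CommRingCat.of R')) := ⟨𝟙 _⟩
  letI : (V : Scheme.{u}).Over (Spec (CommRingCat.of A)) := ⟨V.ι ≫ g⟩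
  have hc : FormalExist.Rebase.Compat (algebraMap A R') (V : Scheme.{u}) := rfl
  have hf : p ≫ ((U : Scheme.{u}) ↘ Spec (CommRingCat.of A)) = (V : Scheme.{u}) ↘ Spec (CommRingCat.of A) :=
    (FormalExist.CompUnit.isPullback I U).w
  let P := Scheme.Modules.pullback p
  have hPG : ∀ {E : ℕᵒᵖ ⥤ (U : Scheme.{u}).Modules}, Formal.IsCohFormal I E → Formal.IsCohFormal I' (E ⋙ P) :=
    fun hE => (FormalExist.Rebase.isCohFormal_iff hc I _).mpr (Formal61.Pullback.isCohFormal_pullback p hf hE)
  haveI := (Scheme.Modules.pullbackPushforwardAdjunction p).leftAdjoint_preservesColimits.{0, 0}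
  obtain ⟨t, ht⟩ := hα
  have hk : ∀ n, Formal.KilledBy (I' ^ (t + 1)) (kernel (P.map (α.app (op n)))) := fun n => by
    rw [← Ideal.map_pow, FormalExist.Rebase.killedBy_iff hc]
    exact Formal61.Sys.killedBy_of_mono (PreservesKernel.iso P (α.app (op n))).inv
      (Formal61.Pullback.killedBy_pullback p hf (ht n).1)
  have hco : ∀ n, Formal.KilledBy (I' ^ (t + 1)) (cokernel (P.map (α.app (op n)))) := fun n => by
    rw [← Ideal.map_pow, FormalExist.Rebase.killedBy_iff hc]
    exact Formal61.Sys.killedBy_of_epi (PreservesCokernel.iso P (α.app (op n))).hom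
      (Formal61.Pullback.killedBy_pullback p hf (ht n).2)
  rw [FormalExist.CompUnit.extends_iff I U hG, FormalExist.CompUnit.extends_iff I U hG']
  constructor
  · rintro ⟨F, hF, ⟨e⟩⟩
    obtain ⟨F₁, -, β, hF₁, -, -⟩ := FormalTors.Right.main hF (hPG hG') (e.hom ≫ Functor.whiskerRight α P)
      (e := t + 1)
      (fun n => Formal61.Sys.killedBy_of_mono
        (kernelIsIsoComp (e.hom.app (op n)) (P.map (α.app (op n)))).hom (hk n))
      (fun n => Formal61.Sys.killedBy_of_epi
        (cokernelEpiComp (e.hom.app (op n)) (P.map (α.app (op n)))).inv (hco n))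
    exact ⟨F₁, hF₁, ⟨β⟩⟩
  · rintro ⟨F, hF, ⟨e⟩⟩
    obtain ⟨M, -, β, hM, -, -⟩ := FormalExist.Tricky.main _ (hPG hG) (FormalExist.Base.hyp I') hF
      (Functor.whiskerRight α P ≫ e.inv) (t + 1)
      (fun n => FormalExist.Base.killed_of_killedBy (Formal61.Sys.killedBy_of_mono
        (kernelCompMono (P.map (α.app (op n))) (e.inv.app (op n))).hom (hk n)))
      (fun n => FormalExist.Base.killed_of_killedBy (Formal61.Sys.killedBy_of_epi
        (cokernelCompIsIso (P.map (α.app (op n))) (e.inv.app (op n))).inv (hco n)))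
    exact ⟨M, hM, ⟨β.symm⟩⟩

end Groth.Agent.S9537
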