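import Groth.Statements.S9538
import Groth.Agent.FormalExist.FlatCanon

set_option autoImplicit false
universe u
open CategoryTheory CategoryTheory.Limits AlgebraicGeometry Opposite
open Algz

namespace Groth.Agent.S9538

/-- Let A be a Noetherian ring, I ⊆ 𝔞 ideals, U = Spec A ∖ V(𝔞), (F_n) an object of Coh(U, I O_U), A →
A' a flat ring map with f : Spec A' → Spec A, U' the inverse image of U, and (F'_n) the pullback of
(F_n) along the restriction of f over U. If (F_n) canonically extends to Spec A, then (F'_n)
canonically extends to Spec A' for the ideal I A'. (The second assertion, that the canonical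
extension pulls back to the canonical extension, is not stated.) -/
theorem result (A : Type u) [CommRing A] [IsNoetherianRing A] (I 𝔞 : Ideal A) (hI𝔞 : I ≤ 𝔞)
    (G : ℕᵒᵖ ⥤ (↑(LocCoh.puncturedOpen A 𝔞) : Scheme.{u}).Modules) (hG : Formal.IsCohFormal I G)
    (A' : Type u) [CommRing A'] [Algebra A A'] [Module.Flat A A']
    (h : Algz.CanonicallyExtends A I (LocCoh.puncturedOpen A 𝔞) G) :
    Algz.CanonicallyExtends A' (I.map (algebraMap A A')) (Spec.map (CommRingCat.ofHom (algebraMap A A')) ⁻¹ᵁ (LocCoh.puncturedOpen A 𝔞))
      (G ⋙ Scheme.Modules.pullback (morphismRestrict (Spec.map (CommRingCat.ofHom (algebraMap A A'))) (LocCoh.puncturedOpen A 𝔞))) := by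
  exact FormalExist.FlatCanon.canonicallyExtends _ (fun n => (hG.1 n.unop).1) A' (algebraMap A A')
    (RingHom.flat_algebraMap_iff.mpr inferInstance) h

end Groth.Agent.S9538
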