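import Groth.Statements.S9540
import Groth.Agent.Formal61.SeqColim2
-- import your own Groth.Agent.* helpers here

set_option autoImplicit false
universe u
open CategoryTheory
open Formal2

namespace Groth.Agent.S9540

open AlgebraicGeometry in
/-- First assertion, for the short exact sequence of coherent modules on U attached to a short exact
sequence of finite A-modules (every short exact sequence of coherent O_U-modules has this form). Let
I ⊆ 𝔞 be ideals of a Noetherian ring A and U = Spec A ∖ V(𝔞). If for M' and M'' the canonical map
from the colimit of the sections over the opens V ⊆ U containing U ∩ V(I) to the limit of the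
sections of the quotients by powers of I over U is bijective (elementwise formulation of the
prelude), then it is bijective for the middle term M. -/
theorem result (A : Type u) [CommRing A] [IsNoetherianRing A] (I 𝔞 : Ideal A) (hI : I ≤ 𝔞)
    (M' M M'' : Type u) [AddCommGroup M'] [Module A M'] [AddCommGroup M] [Module A M] [AddCommGroup M''] [Module A M'']
    [Module.Finite A M'] [Module.Finite A M] [Module.Finite A M'']
    (f : M' →ₗ[A] M) (g : M →ₗ[A] M'') (hf : Function.Injective f) (hg : Function.Surjective g)
    (hfg : LinearMap.range f = LinearMap.ker g)
    (h' : Formal2.FormalCohColimBijective A I M' 0 (LocCoh.puncturedOpen A 𝔞))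
    (h'' : Formal2.FormalCohColimBijective A I M'' 0 (LocCoh.puncturedOpen A 𝔞)) :
    Formal2.FormalCohColimBijective A I M 0 (LocCoh.puncturedOpen A 𝔞) := by

  exact Groth.Agent.Formal61.SeqColim.middle f g hf hg hfg h' h''

end Groth.Agent.S9540
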