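import Groth.Statements.S9544
import Groth.Agent.Formal61.PunctHom
import Groth.Agent.LocCoh.CompAnn
-- import your own Groth.Agent.* helpers here

set_option autoImplicit false
universe u
open CategoryTheory
attribute [local instance] HasDerivedCategory.standard
open Formal2

namespace Groth.Agent.S9544

open AlgebraicGeometry Opposite in
/-- Let A be a Noetherian ring with a dualizing complex, f an element of an ideal 𝔞 with A complete for
the f-adic topology, U = Spec A ∖ V(𝔞), and assume depth A_𝔭 + dim (A/𝔭)_𝔮 > 2 for every prime 𝔭 not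
containing f and every prime 𝔮 ⊇ 𝔭 + 𝔞. Then the completion functor for the ideal (f) is fully
faithful on finite locally free O_U-modules. -/
theorem result (A : Type u) [CommRing A]
    [IsNoetherianRing A] (𝔞 : Ideal A) (f : A) (hf : f ∈ 𝔞) [IsAdicComplete (Ideal.span {f}) A]
    (hω : ∃ ω : Dual.D A, Dual.IsDualizing A ω)
    (h₂ : ∀ (p : Ideal A) [p.IsPrime], f ∉ p → ∀ (q : Ideal A) [q.IsPrime], p ≤ q → 𝔞 ≤ q →
      ((2 : ℕ) : WithBot ℕ∞) < ((LocCoh.depth (Localization.AtPrime p) (Localization.AtPrime p) : ℕ∞) : WithBot ℕ∞) +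
        Formal2.dimBetween A p q) :
    ∀ (E E' : (↑(LocCoh.puncturedOpen A 𝔞) : Scheme.{u}).Modules), FlatMod.IsFinLocFree E → FlatMod.IsFinLocFree E' →
      ∀ ψ : Formal.completion (Ideal.span {f}) E ⟶ Formal.completion (Ideal.span {f}) E',
        ∃! φ : E ⟶ E', ∀ n : ℕ, Formal.modPowπ (Ideal.span {f}) (n + 1) E ≫ ψ.app (op n) = φ ≫ Formal.modPowπ (Ideal.span {f}) (n + 1) E' := by

  obtain ⟨ω, hω⟩ := hω
  have hT' : StableUnderSpecialization {r : PrimeSpectrum A | f ∈ r.asIdeal} := fun x y hxy hx =>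
    (PrimeSpectrum.le_iff_specializes x y).2 hxy hx
  obtain ⟨J, hJ, hk⟩ := (Groth.Agent.LocCoh.AnnModule.annihilator_iff (M := A) hω
    (PrimeSpectrum.isClosed_zeroLocus (𝔞 : Set A)).stableUnderSpecialization hT' 2).2 fun p q hp hq hpq => by
    have := h₂ p.asIdeal hp q.asIdeal hpq hq
    have hd : LocCoh.depth (Localization.AtPrime p.asIdeal) (LocalizedModule p.asIdeal.primeCompl A) =
        LocCoh.depth (Localization.AtPrime p.asIdeal) (Localization.AtPrime p.asIdeal) :=
      Groth.Agent.Depth.idealDepth_congr (Groth.Agent.Depth.localizedModuleSelfEquiv p.asIdeal.primeCompl)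
    rw [hd, ← Groth.Agent.LocCoh.SuppHm.dimBetween_eq]
    exact this
  have hrad : f ∈ J.radical := by
    rw [← PrimeSpectrum.vanishingIdeal_zeroLocus_eq_radical, PrimeSpectrum.mem_vanishingIdeal]
    exact fun x hx => hJ hx
  obtain ⟨N, hN⟩ := hrad
  refine Groth.Agent.Formal61.PunctHom.existsUnique_hom A (Ideal.span {f}) 𝔞
    (Groth.Agent.Formal61.Punct.bijective_toHHlim 𝔞 f A 0 fun j hj => ⟨N, fun x => ?_⟩)
  refine (Groth.Agent.LocCoh.SuppHm.bijective_toLT 𝔞 j).1 ?_
  rw [map_smul, map_zero]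
  exact (Groth.Agent.LocCoh.AnnModule.kills_HT_iff _ 2 J).1 hk j (by rcases hj with rfl | rfl <;> omega) (f ^ N) hN _

end Groth.Agent.S9544
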