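import Groth.Statements.S9551
import Groth.Agent.FormalExist.Sect
import Groth.Agent.FormalExist.ProBuild

set_option autoImplicit false
universe u
open CategoryTheory CategoryTheory.Limits AlgebraicGeometry Opposite
open Algz

namespace Groth.Agent.S9551

/-- Let A be a Noetherian ring, I ⊆ 𝔞 ideals, U = Spec A ∖ V(𝔞) with inclusion j, (F_n) an object of
Coh(U, I O_U) and M = lim_n H^0(U, F_n). If the system H^0(U, F_n) is Mittag-Leffler, then for every
n the canonical map from M~|_U to F_n, adjoint (under the tilde and restriction adjunctions) to the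
projection M → H^0(U, F_n) = Γ(Spec A, j_*F_n), is an epimorphism. (The source states surjectivity
of (M/I^nM)~|_U → F_n; the map from M~|_U factors through it after the epimorphism M~ → (M/I^nM)~,
so the two surjectivity statements are equivalent.) -/
theorem result (A : Type u) [CommRing A] [IsNoetherianRing A] (I 𝔞 : Ideal A) (hI𝔞 : I ≤ 𝔞)
    (G : ℕᵒᵖ ⥤ (↑(LocCoh.puncturedOpen A 𝔞) : Scheme.{u}).Modules) (hG : Formal.IsCohFormal I G)
    (ha : ARSys.IsML (Algz.sectMod A (LocCoh.puncturedOpen A 𝔞) G)) (n : ℕ) :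
    Epi (((Scheme.Modules.restrictAdjunction (LocCoh.puncturedOpen A 𝔞).ι).homEquiv _ (G.obj (op n))).symm
      (((tilde.adjunction (R := CommRingCat.of A)).homEquiv (limit (Algz.sectMod A (LocCoh.puncturedOpen A 𝔞) G))
        ((Scheme.Modules.pushforward (LocCoh.puncturedOpen A 𝔞).ι).obj (G.obj (op n)))).symm
          (limit.π (Algz.sectMod A (LocCoh.puncturedOpen A 𝔞) G) (op n)))) := by
  let U := LocCoh.puncturedOpen A 𝔞
  have hq : ∀ i, (G.obj i).IsQuasicoherent := fun i => (hG.1 i.unop).1
  let e := FormalExist.Sect.sectSysRestrIso U G hq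
  let X := Algz.sectMod A U G
  let L := tilde.functor (CommRingCat.of A) ⋙ Scheme.Modules.restrictFunctor U.ι
  obtain ⟨r, R, p, ι, q, hpe, hp, hq'⟩ := FormalExist.ProBuild.exists_factor X ha n
  haveI := hpe
  haveI := (tilde.adjunction (R := CommRingCat.of A)).leftAdjoint_preservesColimits.{0, 0}
  haveI := (Scheme.Modules.restrictAdjunction U.ι).leftAdjoint_preservesColimits.{0, 0}
  haveI : Epi ((tilde.functor (CommRingCat.of A)).map p) := Functor.map_epi _ p
  haveI : Epi (L.map p) := Functor.map_epi (Scheme.Modules.restrictFunctor U.ι) _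
  haveI : Epi (G.map (homOfLE (Nat.le_add_right n r)).op) :=
    (Formal61.Sys.isModQuot_map hG.2.1 hG.2.2 (Nat.le_add_right n r)).epi
  have he1 : Epi (e.hom.app (op (n + r))) := @IsIso.epi_of_iso _ _ _ _ _ (Iso.isIso_hom (e.app (op (n + r))))
  haveI : Epi (L.map (ARSys.tr X (Nat.le_add_right n r))) := by
    have h := e.hom.naturality (homOfLE (Nat.le_add_right n r)).op
    have h' : L.map (ARSys.tr X (Nat.le_add_right n r)) =
        e.hom.app (op (n + r)) ≫ G.map (homOfLE (Nat.le_add_right n r)).op ≫ e.inv.app (op n) := by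
      rw [← Category.assoc, ← h, Category.assoc, Iso.hom_inv_id_app, Category.comp_id]
      rfl
    rw [h']
    have hi : Epi (e.inv.app (op n)) := @IsIso.epi_of_iso _ _ _ _ _ (Iso.isIso_inv (e.app (op n)))
    exact @epi_comp _ _ _ _ _ _ he1 _ (@epi_comp _ _ _ _ _ _ inferInstance _ hi)
  haveI : Epi (L.map ι) := by
    haveI : Epi (L.map q ≫ L.map ι) := by rw [← L.map_comp, hq']; infer_instance
    exact epi_of_epi (L.map q) _
  haveI : Epi (L.map (limit.π X (op n))) := by
    rw [← hp, L.map_comp]
    exact epi_comp _ _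
  have hgoal : ((Scheme.Modules.restrictAdjunction U.ι).homEquiv _ (G.obj (op n))).symm
      (((tilde.adjunction (R := CommRingCat.of A)).homEquiv (limit X)
        ((Scheme.Modules.pushforward U.ι).obj (G.obj (op n)))).symm (limit.π X (op n))) =
      L.map (limit.π X (op n)) ≫ e.hom.app (op n) := by
    rw [Adjunction.homEquiv_counit, Adjunction.homEquiv_counit, Functor.map_comp, Category.assoc]
    refine congrArg (L.map (limit.π X (op n)) ≫ ·) ?_
    exact (congrArg ((Scheme.Modules.restrictFunctor U.ι).map
      ((FormalExist.Sect.sectSysHom U G).app (op n)) ≫ ·)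
      ((Category.id_comp _).trans (Category.comp_id _))).symm
  show Epi (((Scheme.Modules.restrictAdjunction U.ι).homEquiv _ (G.obj (op n))).symm
      (((tilde.adjunction (R := CommRingCat.of A)).homEquiv (limit X)
        ((Scheme.Modules.pushforward U.ι).obj (G.obj (op n)))).symm (limit.π X (op n))))
  rw [hgoal]
  have he0 : Epi (e.hom.app (op n)) := @IsIso.epi_of_iso _ _ _ _ _ (Iso.isIso_hom (e.app (op n)))
  exact @epi_comp _ _ _ _ _ _ inferInstance _ he0

end Groth.Agent.S9551
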