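import Groth.Statements.S9553
import Groth.Agent.FormalExist.Factor
import Groth.Agent.FormalExist.Sect
import Groth.Agent.FormalExist.ProLim
import Groth.Agent.CohDev.Coh

set_option autoImplicit false
universe u
open CategoryTheory CategoryTheory.Limits AlgebraicGeometry Opposite
open Algz

namespace Groth.Agent.S9553

/-- Let A be a Noetherian ring, I ⊆ 𝔞 ideals, U = Spec A ∖ V(𝔞) with inclusion j, (F_n) an object of
Coh(U, I O_U), M = lim_n H^0(U, F_n) and G_n = (M/I^(n+1)M)~ (positions shifted by one). Assume the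
limit topology of M agrees with the I-adic one: for every k some kernel of M → H^0(U, F_n) lies in
I^k M. Let ℓ_n : M/I^(n+1)M → H^0(U, F_n) = Γ(Spec A, j_*F_n) be the factorisations of the
projections (they exist since F_n is killed by I^(n+1); they are pinned here by that property) and
G_n → j_*F_n the adjoint maps. Then (i) each G_n|_U is coherent, and (ii) the resulting morphism
(G_n|_U) → (F_n) of inverse systems is a monomorphism in Coh(U, I O_U) (an abelian category), in the
form the printed proof establishes: for every f ∈ 𝔞, a family of sections of the G_n over D(f),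
compatible under the transition maps, whose images in the Γ(D(f), j_*F_n) = Γ(D(f) ∩ U, F_n) all
vanish, is zero. -/
theorem result (A : Type u) [CommRing A] [IsNoetherianRing A] (I 𝔞 : Ideal A) (hI𝔞 : I ≤ 𝔞)
    (G : ℕᵒᵖ ⥤ (↑(LocCoh.puncturedOpen A 𝔞) : Scheme.{u}).Modules) (hG : Formal.IsCohFormal I G)
    (hb : ∀ k : ℕ, ∃ n : ℕ, LinearMap.ker (limit.π (Algz.sectMod A (LocCoh.puncturedOpen A 𝔞) G) (op n)).hom ≤
      I ^ k • (⊤ : Submodule A ↑(limit (Algz.sectMod A (LocCoh.puncturedOpen A 𝔞) G))))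
    (ℓ : ∀ n : ℕ, ModuleCat.of A (Formal2.quotPow A I ↑(limit (Algz.sectMod A (LocCoh.puncturedOpen A 𝔞) G)) n) ⟶ (Algz.sectMod A (LocCoh.puncturedOpen A 𝔞) G).obj (op n))
    (hℓ : ∀ n : ℕ, ModuleCat.ofHom (Formal2.quotPowπ A I ↑(limit (Algz.sectMod A (LocCoh.puncturedOpen A 𝔞) G)) n) ≫ ℓ n = limit.π (Algz.sectMod A (LocCoh.puncturedOpen A 𝔞) G) (op n)) :
    (∀ n : ℕ, Coh.IsCoh ((Scheme.Modules.restrictFunctor (LocCoh.puncturedOpen A 𝔞).ι).obj (Formal2.tmod A (Formal2.quotPow A I ↑(limit (Algz.sectMod A (LocCoh.puncturedOpen A 𝔞) G)) n)))) ∧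
    ∀ (f : A), f ∈ 𝔞 →
      ∀ x : (∀ n : ℕ, (Scheme.Modules.presheaf (Formal2.tmod A (Formal2.quotPow A I ↑(limit (Algz.sectMod A (LocCoh.puncturedOpen A 𝔞) G)) n))).obj (op (PrimeSpectrum.basicOpen f : (Spec (CommRingCat.of A)).Opens))),
        (∀ n : ℕ, Scheme.Modules.Hom.app (Formal2.tmodMap A (Formal2.quotPowTrans A I ↑(limit (Algz.sectMod A (LocCoh.puncturedOpen A 𝔞) G)) n)) (PrimeSpectrum.basicOpen f : (Spec (CommRingCat.of A)).Opens) (x (n + 1)) = x n) →
        (∀ n : ℕ, Scheme.Modules.Hom.app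
            (((tilde.adjunction (R := CommRingCat.of A)).homEquiv (ModuleCat.of A (Formal2.quotPow A I ↑(limit (Algz.sectMod A (LocCoh.puncturedOpen A 𝔞) G)) n))
              ((Scheme.Modules.pushforward (LocCoh.puncturedOpen A 𝔞).ι).obj (G.obj (op n)))).symm (ℓ n))
            (PrimeSpectrum.basicOpen f : (Spec (CommRingCat.of A)).Opens) (x n) = 0) →
        ∀ n : ℕ, x n = 0 := by
  let U := LocCoh.puncturedOpen A 𝔞
  let T := tilde.functor (CommRingCat.of A)
  let M := limit (Algz.sectMod A U G)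
  have hq : ∀ i, (G.obj i).IsQuasicoherent := fun i => (hG.1 i.unop).1
  have key : ∀ n : ℕ, ∃ (N : ℕ) (hn : n ≤ N) (R : ModuleCat.{u} A) (p : FormalExist.Factor.QM I M N ⟶ R)
      (ι : R ⟶ (Algz.sectMod A U G).obj (op N)) (q : R ⟶ FormalExist.Factor.QM I M n),
      Mono ι ∧ Epi q ∧ p ≫ ι = ℓ N ∧ p ≫ q = FormalExist.Factor.T I M hn := by
    intro n
    obtain ⟨N₀, hN₀⟩ := hb (n + 1)
    refine ⟨max N₀ n, le_max_right _ _, ?_⟩
    refine FormalExist.Factor.exists_factor I (limit.π (Algz.sectMod A U G) (op (max N₀ n))) (le_max_right _ _) ?_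
      (ℓ _) (hℓ _)
    exact fun z hz => hN₀ (LinearMap.mem_ker.mpr ((FormalExist.ProLim.tr_π (le_max_left N₀ n) z).symm.trans
      ((congrArg (ARSys.tr (Algz.sectMod A U G) (le_max_left N₀ n)).hom (LinearMap.mem_ker.mp hz)).trans
        (LinearMap.map_zero _))))
  refine ⟨fun n => ?_, fun f _ x hx hx0 n => ?_⟩
  · obtain ⟨N, hn, R, p, ι, q, hι, hq', -, -⟩ := key n
    haveI := KFlat.TildeExact.preservesFiniteLimits_tilde (CommRingCat.of A)
    haveI := (tilde.adjunction (R := CommRingCat.of A)).leftAdjoint_preservesColimits.{0, 0}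
    haveI := (Scheme.Modules.restrictAdjunction U.ι).leftAdjoint_preservesColimits.{0, 0}
    haveI : Mono ((Scheme.Modules.restrictFunctor U.ι).map (T.map ι)) :=
      haveI : Mono (T.map ι) := inferInstance
      inferInstance
    have hG' : Coh.IsCoh ((Scheme.Modules.restrictFunctor U.ι).obj (T.obj ((Algz.sectMod A U G).obj (op N)))) :=
      CohDev.isCoh_of_iso ((FormalExist.Sect.sectSysRestrIso U G hq).app (op N)).symm (hG.1 N)
    have hR : Coh.IsCoh ((Scheme.Modules.restrictFunctor U.ι).obj (T.obj R)) :=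
      CohDev.isCoh_of_mono ((Scheme.Modules.restrictFunctor U.ι).map (T.map ι))
        (Scheme.Modules.isQuasicoherent_restrictFunctor U.ι (tilde (R := CommRingCat.of A) R)) hG'
    exact @CohDev.isCoh_of_epi _ _ _ ((Scheme.Modules.restrictFunctor U.ι).map (T.map q))
      (@Functor.map_epi _ _ _ _ (Scheme.Modules.restrictFunctor U.ι) _ _ _ (T.map q) (Functor.map_epi T q)) hR
      (Scheme.Modules.isQuasicoherent_restrictFunctor U.ι (tilde (R := CommRingCat.of A) _))
  · obtain ⟨N, hn, R, p, ι, q, hι, -, hl, hT⟩ := key n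
    have hTx : ∀ k (h : n ≤ k), (T.map (FormalExist.Factor.T I M h)).app
        (PrimeSpectrum.basicOpen f : (Spec (CommRingCat.of A)).Opens) (x k) = x n := by
      intro k h
      induction k, h using Nat.le_induction with
      | base => rw [FormalExist.Factor.T_self, T.map_id]; rfl
      | succ k hk ih =>
        rw [← FormalExist.Factor.T_succ I M hk, T.map_comp, FormalFun.app_comp]
        exact (congrArg _ (hx k)).trans ih
    haveI : IsIso ((FormalExist.Sect.sectSysHom U G).app (op N)) := by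
      haveI := hq (op N)
      haveI := FormalExist.Sect.isQuasicoherent_push U (G.obj (op N))
      rw [FormalExist.Sect.sectSysHom_app]
      exact FormalExist.Sect.isIso_fromTildeΓ_app _
    have h1 : ((T.map (ℓ N)) ≫ (FormalExist.Sect.sectSysHom U G).app (op N)).app
        (PrimeSpectrum.basicOpen f : (Spec (CommRingCat.of A)).Opens) (x N) = 0 := by
      refine Eq.trans ?_ (hx0 N)
      rw [Adjunction.homEquiv_counit]
      rfl
    rw [← hl, T.map_comp, Category.assoc, FormalFun.app_comp, FormalFun.app_comp] at h1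
    have h2 : (T.map p).app (PrimeSpectrum.basicOpen f : (Spec (CommRingCat.of A)).Opens) (x N) = 0 := by
      refine FormalExist.Factor.tilde_app_injective_of_mono ι _ ?_
      refine (ConcreteCategory.bijective_of_isIso (((FormalExist.Sect.sectSysHom U G).app (op N)).app
        (PrimeSpectrum.basicOpen f : (Spec (CommRingCat.of A)).Opens))).1 ?_
      exact h1.trans ((congrArg _ (map_zero _)).trans (map_zero _)).symm
    rw [← hTx N hn, ← hT, T.map_comp, FormalFun.app_comp, h2]
    exact map_zero _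

end Groth.Agent.S9553
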