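import Groth.Statements.S9558
import Groth.Agent.EtStruct.LocalImm
-- import your own Groth.Agent.* helpers here

set_option autoImplicit false
universe u
open EtLocal

namespace Groth.Agent.S9558

open AlgebraicGeometry CategoryTheory CategoryTheory.Limits Groth.Agent.EtStruct

open AlgebraicGeometry CategoryTheory Limits in
/-- Let f : X ⟶ S be a separated morphism of schemes, s a point of S and x_1, …, x_n pairwise distinct
points of X over s such that f is étale at each x_i (the restriction of f to some open neighbourhood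
of x_i is étale). Then there are an étale morphism g : U ⟶ S, a point u of U over s, and a
decomposition of X_U = X ×_S U into pairwise disjoint open subschemes W and finitely many V_k which
together cover X_U, such that each V_k ⟶ U is an isomorphism and no point of W over u maps to any of
the x_i. -/
theorem result {X S : Scheme.{u}} (f : X ⟶ S)
    [IsSeparated f] (s : S)
    {ι : Type} [Finite ι] (x : ι → ↑X) (hinj : Function.Injective x) (hs : ∀ i, f (x i) = s)
    (hx : ∀ i, ∃ W : X.Opens, x i ∈ W ∧ Etale (W.ι ≫ f)) :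
    ∃ (U : Scheme.{u}) (g : U ⟶ S) (u : U), Etale g ∧ g u = s ∧
      ∃ (K : Type) (_ : Finite K) (W : (pullback f g).Opens) (V : K → (pullback f g).Opens),
        W ⊔ (⨆ k, V k) = ⊤ ∧ (∀ k, Disjoint W (V k)) ∧ (∀ k k', k ≠ k' → Disjoint (V k) (V k')) ∧
        (∀ k, IsIso ((V k).ι ≫ pullback.snd f g)) ∧
        (∀ (w : ↑(pullback f g)) (i : ι), w ∈ W → pullback.snd f g w = u → pullback.fst f g w ≠ x i) := by
  obtain ⟨U, g, u, hg, hgu, D₀, hopen⟩ := exists_parts_etale f s x hs hx
  obtain ⟨D', W, hdis, hWdis, hcov, hW, -, hopen'⟩ := D₀.exists_disjoint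
  obtain ⟨U₁, hu, hiso⟩ := D'.exists_isIso (hopen' hopen)
  let D := D'.restrict U₁ hu
  let a := Groth.Agent.Wt.Parts.bcMap f U₁.ι (g := g) (g' := U₁.ι ≫ g) rfl
  refine ⟨U₁, U₁.ι ≫ g, ⟨u, hu⟩, inferInstance, hgu, Fin D.n, inferInstance, a ⁻¹ᵁ W, D.V,
    ?_, fun k ↦ ?_, fun k k' h ↦ ?_, hiso, fun w i hw hwu hwx ↦ ?_⟩
  · rw [show (⨆ k, D.V k) = a ⁻¹ᵁ (⨆ k, D'.V k) from (a.preimage_iSup _).symm,
      ← a.preimage_sup, hcov]
    rfl
  · rw [disjoint_iff, eq_bot_iff]
    rintro w ⟨h1, h2⟩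
    exact ((hWdis k).le_bot ⟨h1, h2⟩).elim
  · rw [disjoint_iff, eq_bot_iff]
    rintro w ⟨h1, h2⟩
    exact ((hdis k k' h).le_bot ⟨h1, h2⟩).elim
  · refine hW (a w) i hw ?_ ?_
    · rw [Groth.Agent.Wt.Parts.snd_bcMap, hwu]; rfl
    · rw [Groth.Agent.Wt.Parts.fst_bcMap]; exact hwx

end Groth.Agent.S9558
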