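import Groth.Statements.S9559
import Groth.Agent.EtStruct.LocalImm
-- import your own Groth.Agent.* helpers here

set_option autoImplicit false
open CategoryTheory CategoryTheory.Limits AlgebraicGeometry Opposite
universe u
open EtLocal

namespace Groth.Agent.S9559

open AlgebraicGeometry CategoryTheory CategoryTheory.Limits Groth.Agent.EtStruct

set_option backward.isDefEq.respectTransparency false

/-- A finite étale morphism f : X ⟶ S becomes, after base change to a suitable étale neighbourhood (U,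
u) of any point s of S, a finite disjoint union of copies of U: X_U is isomorphic over U to a finite
coproduct of schemes V_j each of which maps isomorphically onto U. -/
theorem result {X S : Scheme.{u}} (f : X ⟶ S) [IsFinite f] [Etale f] (s : S) :
    ∃ (U : Scheme.{u}) (g : U ⟶ S) (_ : AlgebraicGeometry.Etale g) (u : U) (_ : g.base u = s)
      (n : ℕ) (V : Fin n → Scheme.{u}) (c : ∀ j, V j ⟶ U) (_ : ∀ j, IsIso (c j))
      (e : (∐ V) ≅ pullback f g), ∀ j, Sigma.ι V j ≫ e.hom ≫ pullback.snd f g = c j := by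
  have hfin : (f ⁻¹' {s}).Finite := f.finite_preimage_singleton s
  obtain ⟨n, x₀, hx₀⟩ := hfin.fin_embedding
  let x : Fin n → X := x₀
  have hrange : Set.range x = f ⁻¹' {s} := hx₀
  obtain ⟨U, g, u, hg, hgu, D₀, hopen⟩ := exists_parts_etale f s x
    (fun i ↦ hrange.le ⟨i, rfl⟩)
    (fun i ↦ ⟨⊤, trivial, MorphismProperty.comp_mem @Etale _ _ inferInstance ‹_›⟩)
  obtain ⟨D', W, hdis, hWdis, hcov, hW, hclopen, hopen'⟩ := D₀.exists_disjoint
  have hWclosed : IsClosed (W : Set ↥(pullback f g)) := by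
    have : (W : Set ↥(pullback f g)) = (⋃ k, (D'.V k : Set ↥(pullback f g)))ᶜ := by
      ext w
      simp only [Set.mem_compl_iff, Set.mem_iUnion, not_exists]
      refine ⟨fun hw k hk ↦ ((hWdis k).le_bot ⟨hw, hk⟩).elim, fun hw ↦ ?_⟩
      have : w ∈ W ⊔ ⨆ k, D'.V k := hcov ▸ trivial
      rcases this with h | h
      · exact h
      · obtain ⟨k, hk⟩ := TopologicalSpace.Opens.mem_iSup.mp h
        exact absurd hk (hw k)
    rw [this]
    exact (isOpen_iUnion fun k ↦ (D'.V k).2).isClosed_compl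
  obtain ⟨U₂, hU₂⟩ : ∃ U₂ : U.Opens, (U₂ : Set U) = (pullback.snd f g '' (W : Set _))ᶜ :=
    ⟨⟨_, ((pullback.snd f g).isClosedMap _ hWclosed).isOpen_compl⟩, rfl⟩
  have hu₂ : u ∈ U₂ := by
    rw [← SetLike.mem_coe, hU₂]
    rintro ⟨w, hw, hwu⟩
    have : f (pullback.fst f g w) = s := by
      rw [← Scheme.Hom.comp_apply, pullback.condition, Scheme.Hom.comp_apply, hwu, hgu]
    obtain ⟨i, hi⟩ := hrange.ge this
    exact hW w i hw hwu hi.symm
  let D'' := D'.restrict U₂ hu₂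
  have hopen'' : ∀ k, IsOpenImmersion ((D''.V k).ι ≫ pullback.snd f (U₂.ι ≫ g)) := fun k ↦
    MorphismProperty.of_isPullback
      ((isPullback_morphismRestrict (Groth.Agent.Wt.Parts.bcMap f U₂.ι (g := g) rfl) _).paste_vert
        (Groth.Agent.Wt.Parts.isPullback_bcMap f U₂.ι (g := g) rfl)) (hopen' hopen k)
  obtain ⟨U₁, hu, hiso⟩ := D''.exists_isIso hopen''
  let D := D''.restrict U₁ hu
  let a₂ := Groth.Agent.Wt.Parts.bcMap f U₂.ι (g := g) (g' := U₂.ι ≫ g) rfl
  let a₁ := Groth.Agent.Wt.Parts.bcMap f U₁.ι (g := U₂.ι ≫ g) (g' := U₁.ι ≫ U₂.ι ≫ g) rfl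
  refine ⟨U₁, U₁.ι ≫ U₂.ι ≫ g, inferInstance, ⟨⟨u, hu₂⟩, hu⟩, hgu, D.n,
    fun k ↦ (D.V k).toScheme, fun k ↦ (D.V k).ι ≫ pullback.snd f _, hiso, ?_⟩
  have hcolim := nonempty_isColimit_cofanMk_of (fun k ↦ (D.V k).ι) ?_ ?_
  · obtain ⟨hc⟩ := hcolim
    refine ⟨(coproductIsCoproduct _).coconePointUniqueUpToIso hc, fun j ↦ ?_⟩
    have e := (coproductIsCoproduct fun k ↦ (D.V k).toScheme).comp_coconePointUniqueUpToIso_hom hc ⟨j⟩
    simp only [Cofan.mk_pt, Cofan.mk_ι_app] at e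
    rw [reassoc_of% e]
  · rw [eq_top_iff]
    intro w _
    have h2 : a₂ (a₁ w) ∈ W ⊔ ⨆ k, D'.V k := hcov ▸ trivial
    rcases h2 with h | h
    · have h3 : pullback.snd f g (a₂ (a₁ w)) ∈ (U₂ : Set U) := by
        rw [Groth.Agent.Wt.Parts.snd_bcMap]
        exact (pullback.snd f (U₂.ι ≫ g) (a₁ w)).2
      rw [hU₂] at h3
      exact absurd ⟨_, h, rfl⟩ h3
    · obtain ⟨k, hk⟩ := TopologicalSpace.Opens.mem_iSup.mp h
      exact TopologicalSpace.Opens.mem_iSup.mpr ⟨k, by rw [Scheme.Opens.opensRange_ι]; exact hk⟩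
  · intro k k' h
    simp only [Function.onFun, Scheme.Opens.opensRange_ι]
    rw [disjoint_iff, eq_bot_iff]
    rintro w ⟨h1, h2⟩
    exact ((hdis k k' h).le_bot ⟨h1, h2⟩).elim

end Groth.Agent.S9559
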