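import Groth.Statements.S9567
import Mathlib.RingTheory.Unramified.LocalStructure
import Mathlib.AlgebraicGeometry.Morphisms.Etale

-- import your own Groth.Agent.* helpers here

set_option autoImplicit false
universe u
open EtLocal

namespace Groth.Agent.S9567

open AlgebraicGeometry CategoryTheory in
/-- Let φ : X ⟶ Y be any morphism of schemes, x a point of X and V an affine open neighbourhood of φ(x),
with ring R = Γ(Y, V). If φ is étale on some open neighbourhood of x, then there are an affine open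
neighbourhood U of x with φ(U) ⊆ V, a monic polynomial p over R and an open immersion j of U into
Spec of (R[t]/(p))[1/p′] (the localization of R[t]/(p) away from the image of the derivative of p)
such that j followed by the projection to Spec R is the morphism U → Spec R induced by φ. -/
theorem result {X Y : Scheme.{u}} (φ : X ⟶ Y) (x : X)
    (V : Y.Opens) (hV : IsAffineOpen V) (hxV : φ.base x ∈ V)
    (hφ : ∃ W : X.Opens, x ∈ W ∧ Etale (W.ι ≫ φ)) :
    ∃ (U : X.Opens) (hU : IsAffineOpen U) (_ : x ∈ U) (e : U ≤ φ ⁻¹ᵁ V)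
      (p : Polynomial Γ(Y, V)) (_ : p.Monic)
      (j : U.toScheme ⟶ Spec (CommRingCat.of (Localization.Away (AdjoinRoot.mk p (Polynomial.derivative p))))),
      IsOpenImmersion j ∧
        j ≫ Spec.map (CommRingCat.ofHom
            (algebraMap Γ(Y, V) (Localization.Away (AdjoinRoot.mk p (Polynomial.derivative p))))) =
          hU.isoSpec.hom ≫ Spec.map (φ.appLE V U e) := by
  obtain ⟨W, hxW, hW⟩ := hφ
  obtain ⟨_, ⟨(U₀ : X.Opens), (hU₀ : IsAffineOpen U₀), rfl⟩, hxU₀, hU₀W⟩ := X.isBasis_affineOpens.exists_subset_of_mem_open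
    (show x ∈ W ⊓ φ ⁻¹ᵁ V from ⟨hxW, hxV⟩) (W ⊓ φ ⁻¹ᵁ V).2
  have hle : U₀ ≤ φ ⁻¹ᵁ V := fun _ h => (hU₀W h).2
  have hleW : U₀ ≤ W := fun _ h => (hU₀W h).1
  haveI : Etale (U₀.ι ≫ φ) := by
    rw [← X.homOfLE_ι hleW, Category.assoc]
    infer_instance
  have hpre : (⊤ : U₀.toScheme.Opens) ≤ (U₀.ι ≫ φ) ⁻¹ᵁ V := fun y _ => hle y.2
  have hap : (U₀.ι ≫ φ).appLE V ⊤ hpre ≫ U₀.topIso.hom = φ.appLE V U₀ hle := by
    simp [Scheme.Hom.comp_appLE, Scheme.Hom.appLE, ← Functor.map_comp]
    congr 1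
    erw [← X.presheaf.map_comp, ← X.presheaf.map_comp]
    congr 1
  have hEt : (φ.appLE V U₀ hle).hom.Etale := by
    rw [← hap, CommRingCat.hom_comp, RingHom.Etale.respectsIso.cancel_right_isIso]
    haveI : IsAffine U₀.toScheme := hU₀
    exact (U₀.ι ≫ φ).etale_appLE hV (isAffineOpen_top U₀.toScheme) hpre
  algebraize [(φ.appLE V U₀ hle).hom]
  let q := (hU₀.primeIdealOf ⟨x, hxU₀⟩).asIdeal
  haveI : Algebra.IsEtaleAt Γ(Y, V) q := by
    haveI : Algebra.FormallyEtale Γ(X, U₀) (Localization.AtPrime q) :=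
      .of_isLocalization q.primeCompl
    exact Algebra.FormallyEtale.comp _ Γ(X, U₀) _
  obtain ⟨f, hfq, hf⟩ := Algebra.IsEtaleAt.exists_isStandardEtale (R := Γ(Y, V)) q
  obtain ⟨⟨P, z, hz, hbij⟩⟩ := hf.nonempty_standardEtalePresentation
  let U := X.basicOpen f
  have hUle : U ≤ U₀ := X.basicOpen_le f
  have hU : IsAffineOpen U := hU₀.basicOpen f
  have hxU : x ∈ U := by
    have := (hU₀.fromSpec_preimage_basicOpen f).symm ▸
      (show hU₀.primeIdealOf ⟨x, hxU₀⟩ ∈ PrimeSpectrum.basicOpen f from hfq)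
    have h2 : hU₀.fromSpec (hU₀.primeIdealOf ⟨x, hxU₀⟩) ∈ X.basicOpen f := this
    rwa [hU₀.fromSpec_primeIdealOf] at h2
  letI : Algebra Γ(X, U₀) Γ(X, U) := (X.presheaf.map (homOfLE hUle).op).hom.toAlgebra
  haveI : IsLocalization.Away f Γ(X, U) := hU₀.isLocalization_basicOpen f
  letI : Algebra Γ(Y, V) Γ(X, U) := (φ.appLE V U (hUle.trans hle)).hom.toAlgebra
  haveI : IsScalarTower Γ(Y, V) Γ(X, U₀) Γ(X, U) := IsScalarTower.of_algebraMap_eq fun r => by
    show φ.appLE V U _ r = (φ.appLE V U₀ hle ≫ X.presheaf.map (homOfLE hUle).op) r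
    rw [Scheme.Hom.appLE_map]
  let eU : Localization.Away f ≃ₐ[Γ(Y, V)] Γ(X, U) :=
    (IsLocalization.algEquiv (Submonoid.powers f) (Localization.Away f) Γ(X, U)).restrictScalars _
  let T := Localization.Away (AdjoinRoot.mk P.f (Polynomial.derivative P.f))
  let G := Localization.Away (AdjoinRoot.mk P.f P.g)
  let eG : G ≃ₐ[Γ(Y, V)] Γ(X, U) :=
    (P.equivAwayAdjoinRoot.symm.trans (AlgEquiv.ofBijective (P.lift z hz) hbij)).trans eU
  have hu : IsUnit (algebraMap (AdjoinRoot P.f) G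
      (AdjoinRoot.mk P.f (Polynomial.derivative P.f))) := by
    have := ((StandardEtalePair.hasMap_X (P := P)).map
      P.equivAwayAdjoinRoot.toAlgHom).isUnit_derivative_f
    have hX : P.equivAwayAdjoinRoot.toAlgHom P.X =
        algebraMap (AdjoinRoot P.f) G (AdjoinRoot.root P.f) := by
      simp [StandardEtalePair.equivAwayAdjoinRoot, G]
    rwa [hX, Polynomial.aeval_algebraMap_apply, AdjoinRoot.aeval_eq] at this
  let ι : T →ₐ[Γ(Y, V)] G := IsLocalization.Away.liftAlgHom
    (AdjoinRoot.mk P.f (Polynomial.derivative P.f))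
    (f := IsScalarTower.toAlgHom Γ(Y, V) (AdjoinRoot P.f) G) hu
  let θ : T →ₐ[Γ(Y, V)] Γ(X, U) := eG.toAlgHom.comp ι
  haveI : IsOpenImmersion (Spec.map (CommRingCat.ofHom ι.toRingHom)) := by
    haveI : IsOpenImmersion (Spec.map (CommRingCat.ofHom (algebraMap (AdjoinRoot P.f) G))) :=
      IsOpenImmersion.of_isLocalization (S := G) (AdjoinRoot.mk P.f P.g)
    haveI : IsOpenImmersion (Spec.map (CommRingCat.ofHom (algebraMap (AdjoinRoot P.f) T))) :=
      IsOpenImmersion.of_isLocalization (S := T) (AdjoinRoot.mk P.f (Polynomial.derivative P.f))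
    have hc : Spec.map (CommRingCat.ofHom ι.toRingHom) ≫
        Spec.map (CommRingCat.ofHom (algebraMap (AdjoinRoot P.f) T)) =
        Spec.map (CommRingCat.ofHom (algebraMap (AdjoinRoot P.f) G)) := by
      rw [← Spec.map_comp]
      congr 1
      exact CommRingCat.hom_ext (IsLocalization.Away.lift_comp (AdjoinRoot.mk P.f
        (Polynomial.derivative P.f)) hu)
    haveI : IsOpenImmersion (Spec.map (CommRingCat.ofHom ι.toRingHom) ≫
        Spec.map (CommRingCat.ofHom (algebraMap (AdjoinRoot P.f) T))) := hc ▸ inferInstance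
    exact IsOpenImmersion.of_comp _ (Spec.map (CommRingCat.ofHom (algebraMap (AdjoinRoot P.f) T)))
  haveI : IsIso (CommRingCat.ofHom eG.toAlgHom.toRingHom) :=
    (eG.toRingEquiv.toCommRingCatIso).isIso_hom
  refine ⟨U, hU, hxU, hUle.trans hle, P.f, P.monic_f,
    hU.isoSpec.hom ≫ Spec.map (CommRingCat.ofHom θ.toRingHom), ?_, ?_⟩
  · have : CommRingCat.ofHom θ.toRingHom =
        CommRingCat.ofHom ι.toRingHom ≫ CommRingCat.ofHom eG.toAlgHom.toRingHom := rfl
    rw [this, Spec.map_comp]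
    infer_instance
  · rw [Category.assoc, ← Spec.map_comp]
    congr 2
    exact CommRingCat.hom_ext θ.comp_algebraMap

end Groth.Agent.S9567
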