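import Groth.Statements.S9568
import Mathlib
-- import your own Groth.Agent.* helpers here

set_option autoImplicit false
universe u
open EtLocal

namespace Groth.Agent.S9568

open scoped TensorProduct

/-- Let A be a ring, φ a surjection from the polynomial ring P = A[x_1, …, x_n] onto an A-algebra B with
kernel I, q a prime of B and 𝔮 its preimage in P. Then the localization at q of the module of
differentials Ω_{B/A} vanishes if and only if the images of the differentials dg, g ∈ I, span the
localization of Ω_{P/A} at 𝔮 over P_𝔮. (Geometrically: for f locally of finite type, the stalk of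
Ω_{X/Y} at x vanishes iff near x the scheme X is a closed subscheme of an affine space over the base
cut out by an ideal whose germs at the point have differentials generating the stalk of Ω of the
affine space; the published statement also lists the equivalence with f being unramified at x and
with the diagonal being a local isomorphism at x, which this row does not restate. The published
statement asks for one such presentation near the point; this row states the equivalence for every
presentation, which is what the published proof shows and which implies the existential form.) -/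
theorem result {A B : Type u} [CommRing A] [CommRing B]
    [Algebra A B] (n : ℕ) (φ : MvPolynomial (Fin n) A →ₐ[A] B) (hφ : Function.Surjective φ)
    (q : Ideal B) [q.IsPrime] :
    Subsingleton (LocalizedModule q.primeCompl (KaehlerDifferential A B)) ↔
      Submodule.span (Localization.AtPrime (q.comap φ.toRingHom))
        ((LocalizedModule.mkLinearMap (q.comap φ.toRingHom).primeCompl
            (KaehlerDifferential A (MvPolynomial (Fin n) A))) ''
          ((KaehlerDifferential.D A (MvPolynomial (Fin n) A)) '' (RingHom.ker φ.toRingHom : Set (MvPolynomial (Fin n) A)))) = ⊤ := by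
  classical
  let P := MvPolynomial (Fin n) A
  let : Algebra P B := φ.toRingHom.toAlgebra
  have : IsScalarTower A P B := .of_algebraMap_eq fun a ↦ (φ.commutes a).symm
  let 𝔮 : Ideal P := q.comap φ.toRingHom
  let I : Ideal P := RingHom.ker φ.toRingHom
  let M := KaehlerDifferential A P
  let ℓ := LocalizedModule.mkLinearMap 𝔮.primeCompl M
  let N : Submodule (Localization.AtPrime 𝔮) (LocalizedModule 𝔮.primeCompl M) :=
    Submodule.span _ (ℓ '' ((KaehlerDifferential.D A P) '' (I : Set P)))
  let N₀ : Submodule P M := Submodule.span P ((KaehlerDifferential.D A P) '' (I : Set P))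
  let π := KaehlerDifferential.map A A P B
  have hπ : Function.Surjective π :=
    KaehlerDifferential.map_surjective_of_surjective _ _ _ _ hφ
  have hN₀π : N₀ ≤ LinearMap.ker π := by
    rw [Submodule.span_le]
    rintro _ ⟨i, hi, rfl⟩
    show π _ = 0
    rw [KaehlerDifferential.map_D, show algebraMap P B i = 0 from hi, map_zero]
  show _ ↔ N = ⊤
  constructor
  · intro h
    refine top_le_iff.mp (Submodule.le_of_le_smul_of_le_jacobson_bot (I := IsLocalRing.maximalIdeal _)
      Module.Finite.fg_top (IsLocalRing.maximalIdeal_le_jacobson _) ?_)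
    intro z _
    induction z using LocalizedModule.induction_on with
    | _ m s =>
    suffices hm : ℓ m ∈ N ⊔ IsLocalRing.maximalIdeal (Localization.AtPrime 𝔮) • ⊤ by
      have e : LocalizedModule.mk m s =
          IsLocalization.mk' (Localization.AtPrime 𝔮) (1 : P) s • ℓ m := by
        rw [LocalizedModule.mkLinearMap_apply, ← Localization.mk_eq_mk', LocalizedModule.mk_smul_mk]
        simp
      rw [e]
      exact Submodule.smul_mem _ _ hm
    obtain ⟨t, ht, htm⟩ := LocalizedModule.subsingleton_iff.mp h (π m)
    obtain ⟨t, rfl⟩ := hφ t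
    have hker : (1 : B) ⊗ₜ[P] (t • m) ∈
        LinearMap.range (KaehlerDifferential.kerCotangentToTensor A P B) := by
      rw [KaehlerDifferential.range_kerCotangentToTensor A P B hφ, Submodule.restrictScalars_mem,
        LinearMap.mem_ker, KaehlerDifferential.mapBaseChange_tmul, one_smul, map_smul]
      rw [← algebraMap_smul B t (π m)]
      exact htm
    obtain ⟨w, hw, hwe⟩ : ∃ w ∈ N₀, (1 : B) ⊗ₜ[P] w = (1 : B) ⊗ₜ[P] (t • m) := by
      obtain ⟨c, hc⟩ := hker
      obtain ⟨⟨i, hi⟩, rfl⟩ := Ideal.toCotangent_surjective _ c
      exact ⟨KaehlerDifferential.D A P i, Submodule.subset_span ⟨i, hi, rfl⟩, by simpa using hc⟩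
    have hIM : t • m - w ∈ I • (⊤ : Submodule P M) := by
      let e : (P ⧸ I) ≃ₗ[P] B :=
        (Ideal.quotientKerAlgEquivOfSurjective (f := Algebra.ofId P B) hφ).toLinearEquiv
      have h0 : (1 : B) ⊗ₜ[P] (t • m - w) = 0 := by rw [TensorProduct.tmul_sub, hwe, sub_self]
      have h1 := congr_arg ((TensorProduct.congr e.symm (LinearEquiv.refl P M)).trans
        (TensorProduct.quotTensorEquivQuotSMul M I)) h0
      rw [map_zero, LinearEquiv.trans_apply, TensorProduct.congr_tmul,
        show e.symm 1 = Ideal.Quotient.mk I 1 by rw [LinearEquiv.symm_apply_eq]; exact (map_one (algebraMap P B)).symm,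
        TensorProduct.quotTensorEquivQuotSMul_mk_tmul] at h1
      simpa using (Submodule.Quotient.mk_eq_zero _).mp h1
    have hℓIM : ∀ x ∈ I • (⊤ : Submodule P M),
        ℓ x ∈ IsLocalRing.maximalIdeal (Localization.AtPrime 𝔮) • (⊤ : Submodule (Localization.AtPrime 𝔮) (LocalizedModule 𝔮.primeCompl M)) := by
      intro x hx
      refine Submodule.smul_induction_on hx (fun i hi y _ ↦ ?_)
        fun a b ha hb ↦ by rw [map_add]; exact add_mem ha hb
      rw [map_smul, ← algebraMap_smul (Localization.AtPrime 𝔮) i (ℓ y)]
      refine Submodule.smul_mem_smul ?_ Submodule.mem_top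
      rw [IsLocalization.AtPrime.to_map_mem_maximal_iff _ 𝔮]
      show φ i ∈ q
      rw [show φ i = 0 from hi]
      exact q.zero_mem
    have hℓN : ∀ x ∈ N₀, ℓ x ∈ N := by
      intro x hx
      have := Submodule.mem_map_of_mem (f := ℓ) hx
      rw [Submodule.map_span] at this
      exact Submodule.span_le_restrictScalars P (Localization.AtPrime 𝔮) _ this
    have htm' : ℓ (t • m) ∈ N ⊔ IsLocalRing.maximalIdeal (Localization.AtPrime 𝔮) • ⊤ := by
      rw [← sub_add_cancel (t • m) w, map_add]
      exact add_mem (Submodule.mem_sup_right (hℓIM _ hIM)) (Submodule.mem_sup_left (hℓN _ hw))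
    rw [map_smul, ← algebraMap_smul (Localization.AtPrime 𝔮) t (ℓ m)] at htm'
    exact (Submodule.smul_mem_iff_of_isUnit _
      (IsLocalization.map_units (M := 𝔮.primeCompl) (Localization.AtPrime 𝔮) ⟨t, ht⟩)).mp htm'
  · intro h
    rw [LocalizedModule.subsingleton_iff]
    intro y
    obtain ⟨m, rfl⟩ := hπ y
    have hm : ℓ m ∈ Submodule.localized' (Localization.AtPrime 𝔮) 𝔮.primeCompl ℓ N₀ := by
      rw [Submodule.localized'_span]
      exact h.ge trivial
    obtain ⟨x, hx, s, hxs⟩ := hm
    obtain ⟨c, hc⟩ := (IsLocalizedModule.eq_iff_exists 𝔮.primeCompl ℓ).mp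
      (show ℓ x = ℓ (s.1 • m) by rw [map_smul, ← hxs, ← Submonoid.smul_def,
        IsLocalizedModule.mk'_cancel'])
    have h1 : π ((c.1 * s.1) • m) = 0 := by
      rw [mul_smul, ← Submonoid.smul_def, ← hc]
      exact hN₀π (N₀.smul_mem _ hx)
    rw [map_smul, ← algebraMap_smul B (c.1 * s.1) (π m)] at h1
    exact ⟨algebraMap P B (c.1 * s.1), (c * s).2, h1⟩

end Groth.Agent.S9568
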