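import Groth.Statements.S9569
import Groth.Agent.AmpleLib.Span
import Mathlib.CategoryTheory.Limits.Preserves.Finite

set_option autoImplicit false
universe u
open CategoryTheory CategoryTheory.Limits AlgebraicGeometry TopologicalSpace Opposite
open Constr

namespace Groth.Agent.S9569

open Opposite Groth.Agent.QCoh Groth.Agent.Props.GenLocus Groth.Agent.Props.GenTensor Groth.Agent.AmpleLib
open Groth.Agent.PullStalk.Sky

set_option linter.style.haveILetI false

variable {X : Scheme.{u}} {L : X.Modules} {n : ℕ} (s : Fin (n + 1) → (Coh.structureModule X ⟶ L))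

/-- The kernel of a map of modules computes the kernel on sections. -/
theorem exists_kernel_app {M N : X.Modules} (φ : M ⟶ N) (U : X.Opens) (m : Γ(M, U))
    (hm : φ.app U m = 0) : ∃ k : Γ(kernel φ, U), (kernel.ι φ).app U k = m := by
  let G := Scheme.Modules.toPresheaf X ⋙ (evaluation _ AddCommGrpCat.{u}).obj (op U)
  haveI : G.Additive := { }
  haveI : PreservesFiniteLimits ((evaluation X.Opensᵒᵖ AddCommGrpCat.{u}).obj (op U)) :=
    ⟨fun _ _ _ => evaluation_preservesLimitsOfShape _⟩
  haveI : PreservesFiniteLimits G := comp_preservesFiniteLimits (Scheme.Modules.toPresheaf X) _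
  have h := (ShortComplex.ab_exact_iff _).mp
    ((ShortComplex.exact_of_f_is_kernel _ (isLimitForkMapOfIsLimit' G (kernel.condition φ)
      (kernelIsKernel φ)) :
      (ShortComplex.mk (G.map (kernel.ι φ)) (G.map φ)
        (by rw [← G.map_comp, kernel.condition, G.map_zero])).Exact)) m hm
  exact h

/-- Sums of morphisms are computed on sections. -/
theorem sum_app {M N : X.Modules} {κ : Type*} (t : Finset κ) (g : κ → (M ⟶ N)) (U : X.Opens)
    (m : Γ(M, U)) : (∑ j ∈ t, g j).app U m = ∑ j ∈ t, (g j).app U m :=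
  map_sum (AddMonoidHom.mk' (fun f : M ⟶ N => f.app U m) fun _ _ => rfl) g t

/-- Kernels are subsheaves. -/
theorem kernel_app_injective {M N : X.Modules} (φ : M ⟶ N) (U : X.Opens) :
    Function.Injective ((kernel.ι φ).app U) := by
  let G := Scheme.Modules.toPresheaf X ⋙ (evaluation _ AddCommGrpCat.{u}).obj (op U)
  haveI : PreservesFiniteLimits ((evaluation X.Opensᵒᵖ AddCommGrpCat.{u}).obj (op U)) :=
    ⟨fun _ _ _ => evaluation_preservesLimitsOfShape _⟩
  haveI : PreservesFiniteLimits G := comp_preservesFiniteLimits (Scheme.Modules.toPresheaf X) _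
  exact (AddCommGrpCat.mono_iff_injective (G.map (kernel.ι φ))).mp inferInstance

noncomputable abbrev p : FlatMod.freeMod X (n + 1) ⟶ L := Sigma.desc s

/-- Coordinates. -/
noncomputable def prj (i : Fin (n + 1)) : FlatMod.freeMod X (n + 1) ⟶ Coh.structureModule X :=
  Sigma.desc fun j => if j = i then 𝟙 _ else 0

/-- Standard basis. -/
noncomputable def bas (W : X.Opens) (i : Fin (n + 1)) : Γ(FlatMod.freeMod X (n + 1), W) :=
  sec (Sigma.ι (fun _ : Fin (n + 1) => Coh.structureModule X) i) W

lemma res_bas {W V : X.Opens} (h : V ≤ W) (i : Fin (n + 1)) :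
    res (FlatMod.freeMod X (n + 1)) h (bas W i) = bas V i := sec_res _ h

lemma app_bas (W : X.Opens) (i : Fin (n + 1)) : (p s).app W (bas W i) = sec (s i) W := by
  have : Sigma.ι (fun _ : Fin (n + 1) => Coh.structureModule X) i ≫ p s = s i := Sigma.ι_desc _ _
  rw [← this]
  rfl

lemma sum_bas (W : X.Opens) (m : Γ(FlatMod.freeMod X (n + 1), W)) :
    m = ∑ i, (show Γ(X, W) from (prj i).app W m) • bas W i := by
  have h : ∑ i, prj (X := X) (n := n) i ≫ Sigma.ι (fun _ : Fin (n + 1) => Coh.structureModule X) i = 𝟙 _ := by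
    refine Sigma.hom_ext _ _ fun j => ?_
    rw [Preadditive.comp_sum, Category.comp_id, Finset.sum_eq_single j]
    · rw [← Category.assoc, prj, Sigma.ι_desc, if_pos rfl, Category.id_comp]
    · intro b _ hb
      rw [← Category.assoc, prj, Sigma.ι_desc, if_neg (Ne.symm hb), zero_comp]
    · simp
  have h1 := congrArg (fun φ : FlatMod.freeMod X (n + 1) ⟶ _ => φ.app W m) h
  simp only [sum_app] at h1
  refine h1.symm.trans (Finset.sum_congr rfl fun i _ => ?_)
  exact app_eq _ W ((prj i).app W m)

lemma app_comb (W : X.Opens) (c : Fin (n + 1) → Γ(X, W)) :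
    (p s).app W (∑ i, c i • bas W i) = ∑ i, c i • sec (s i) W := by
  rw [map_sum]
  exact Finset.sum_congr rfl fun i _ => by rw [Scheme.Modules.Hom.app_smul, app_bas]

/-- Near every point one of the sections generates. -/
lemma exists_unit [Epi (p s)] {W : X.Opens} {e : Γ(L, W)} (he : IsGen L W e) (a : Fin (n + 1) → Γ(X, W))
    (ha : ∀ i, sec (s i) W = a i • e) {x : X} (hx : x ∈ W) : ∃ j, x ∈ X.basicOpen (a j) := by
  set S := Submodule.span (X.presheaf.stalk x) (Set.range fun i => germM L W x hx (sec (s i) W)) with hS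
  have h0 : ∀ i, s i ≫ toSky S.mkQ = 0 := by
    intro i
    refine Scheme.Modules.hom_ext _ _ fun V ↦ ?_
    ext b
    funext h
    show (show PLift (x ∈ V) → _ from (toSky S.mkQ).app V ((s i).app V b)) h = 0
    rw [toSky_app]
    refine (Submodule.Quotient.mk_eq_zero S).mpr ?_
    rw [app_eq, germM_smul]
    refine S.smul_mem _ (Submodule.subset_span ⟨i, ?_⟩)
    show germM L W x hx (sec (s i) W) = germM L V x h.down (sec (s i) V)
    rw [← sec_res (s i) (le_top : W ≤ ⊤), ← sec_res (s i) (le_top : V ≤ ⊤)]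
    exact (L.presheaf.germ_res_apply _ x hx _).trans (L.presheaf.germ_res_apply _ x h.down _).symm
  have h1 : toSky S.mkQ = 0 := by
    refine (cancel_epi (p s)).mp (Sigma.hom_ext _ _ fun i ↦ ?_)
    rw [comp_zero, comp_zero]
    refine ((Category.assoc _ _ _).symm.trans ?_).trans (h0 i)
    rw [Sigma.ι_desc]
  have h2 := toSky_app S.mkQ W e ⟨hx⟩
  rw [h1] at h2
  have h3 : germM L W x hx e ∈ S := (Submodule.Quotient.mk_eq_zero S).mp h2.symm
  obtain ⟨c, hc⟩ := (Submodule.mem_span_range_iff_exists_fun _).mp h3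
  let g : Γ(X, W) →+* X.presheaf.stalk x := (X.presheaf.germ W x hx).hom
  have hb := ((isGen_iff_isFrame _).mp he).stalkComb_bijective x hx
  have hsum : ∑ i, c i * g (a i) = 1 := by
    have : (fun _ : Fin 1 => ∑ i, c i * g (a i)) = fun _ : Fin 1 => 1 := by
      refine hb.1 ?_
      simp only [LFFrame.stalkComb, Fintype.linearCombination_apply, Fin.sum_univ_one, one_smul]
      conv_rhs => rw [← hc]
      rw [Finset.sum_smul]
      refine Finset.sum_congr rfl fun i _ => ?_
      rw [ha, germM_smul, smul_smul]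
    exact congrFun this 0
  by_contra! hn
  refine (IsLocalRing.maximalIdeal.isMaximal (X.presheaf.stalk x)).ne_top ((Ideal.eq_top_iff_one _).mpr ?_)
  rw [← hsum]
  refine Ideal.sum_mem _ fun i _ => Ideal.mul_mem_left _ _ ?_
  exact fun hu => hn i ((X.mem_basicOpen (a i) x hx).mpr hu)

lemma exists_tau (hL : PicF.IsInvertible L) (i j : Fin (n + 1)) :
    ∃ τ : Γ(CohB1.tensorMod (kernel (p s)) L, ⊤), ∀ (W : X.Opens) (e : Γ(L, W)) (a : Fin (n + 1) → Γ(X, W))
      (k : Γ(kernel (p s), W)), IsGen L W e → (∀ l, sec (s l) W = a l • e) →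
      (kernel.ι (p s)).app W k = a j • bas W i - a i • bas W j → res _ le_top τ = tmul k e := by
  classical
  -- the local sections
  have hk : ∀ (W : X.Opens) (e : Γ(L, W)) (a : Fin (n + 1) → Γ(X, W)), (∀ l, sec (s l) W = a l • e) →
      ∃ k : Γ(kernel (p s), W), (kernel.ι (p s)).app W k = a j • bas W i - a i • bas W j := by
    intro W e a ha
    refine exists_kernel_app _ W _ ?_
    rw [map_sub, Scheme.Modules.Hom.app_smul, Scheme.Modules.Hom.app_smul, app_bas, app_bas, ha, ha, smul_smul,
      smul_smul, mul_comm, sub_self]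
  have uniq : ∀ (W : X.Opens) (e e' : Γ(L, W)) (a a' : Fin (n + 1) → Γ(X, W)) (k k' : Γ(kernel (p s), W)),
      IsGen L W e → IsGen L W e' → (∀ l, sec (s l) W = a l • e) → (∀ l, sec (s l) W = a' l • e') →
      (kernel.ι (p s)).app W k = a j • bas W i - a i • bas W j →
      (kernel.ι (p s)).app W k' = a' j • bas W i - a' i • bas W j → tmul k e = tmul k' e' := by
    intro W e e' a a' k k' he _ ha ha' hk hk'
    obtain ⟨u, hu, -⟩ := he.exists_eq le_rfl e'
    rw [res_self] at hu
    have hau : ∀ l, a l = a' l * u := fun l => he.injective le_rfl (by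
      rw [res_self, ← ha, ha', hu, smul_smul])
    have hku : k = u • k' := kernel_app_injective _ W (by
      rw [hk, Scheme.Modules.Hom.app_smul, hk', hau, hau, smul_sub, smul_smul, smul_smul, mul_comm u, mul_comm u])
    rw [hku, hu, tmul_smul_left, tmul_smul_right]
  let ι := {q : Σ W : X.Opens, Γ(L, W) // IsGen L q.1 q.2}
  choose c hc _ using fun (q : ι) (l : Fin (n + 1)) => q.2.exists_eq le_rfl (sec (s l) q.1.1)
  simp only [res_self] at hc
  choose k hk' using fun q : ι => hk q.1.1 q.1.2 (c q) (hc q)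
  have hres : ∀ {W V : X.Opens} (h : V ≤ W) (e : Γ(L, W)) (a : Fin (n + 1) → Γ(X, W)) (k : Γ(kernel (p s), W)),
      (∀ l, sec (s l) W = a l • e) → (kernel.ι (p s)).app W k = a j • bas W i - a i • bas W j →
      (∀ l, sec (s l) V = rres h (a l) • res L h e) ∧ (kernel.ι (p s)).app V (res _ h k) =
        rres h (a j) • bas V i - rres h (a i) • bas V j := by
    intro W V h e a k ha hk
    refine ⟨fun l => by rw [← sec_res (s l) h, ha, res_smul], ?_⟩
    rw [app_res, hk, map_sub, res_smul, res_smul, res_bas, res_bas]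
  obtain ⟨τ, hτ⟩ := exists_glue (CohB1.tensorMod (kernel (p s)) L) (V := ⊤) (U := fun q : ι => q.1.1)
    (fun _ => le_top) (fun x _ => by
      obtain ⟨U, e, hxU, he⟩ := exists_isGen hL x
      exact TopologicalSpace.Opens.mem_iSup.mpr ⟨(⟨⟨U, e⟩, he⟩ : ι), hxU⟩)
    (fun q => tmul (k q) q.1.2) fun q q' => by
      rw [res_tmul, res_tmul]
      obtain ⟨h1, h2⟩ := hres (inf_le_left : q.1.1 ⊓ q'.1.1 ≤ _) _ _ _ (hc q) (hk' q)
      obtain ⟨h1', h2'⟩ := hres (inf_le_right : q.1.1 ⊓ q'.1.1 ≤ _) _ _ _ (hc q') (hk' q')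
      exact uniq _ _ _ _ _ _ _ (q.2.restrict _) (q'.2.restrict _) h1 h1' h2 h2'
  refine ⟨τ, fun W e a k₀ he ha hk₀ => ?_⟩
  let q : ι := ⟨⟨W, e⟩, he⟩
  exact (hτ q).trans (uniq W e e (c q) a (k q) k₀ he he (hc q) ha (hk' q) hk₀)

/-- Let X be a scheme, L an invertible O_X-module and s_0, …, s_n global sections of L, given as module
maps O_X → L, which generate L: the map O_X^{n+1} → L they induce is an epimorphism. Let F be the
kernel of that map. Then F ⊗ L is globally generated, i.e. it is a quotient of a free O_X-module. -/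
theorem result (X : Scheme.{u}) (L : X.Modules) (hL : PicF.IsInvertible L)
    (n : ℕ) (s : Fin (n + 1) → (Coh.structureModule X ⟶ L))
    (hs : Epi (Sigma.desc s : FlatMod.freeMod X (n + 1) ⟶ L)) :
    Curv2.IsGloballyGenerated (CohB1.tensorMod (kernel (Sigma.desc s : FlatMod.freeMod X (n + 1) ⟶ L)) L) := by
  haveI : Epi (p s) := hs
  refine isGloballyGenerated_of_local fun V m x hx => ?_
  obtain ⟨U, e₀, hxU, he₀⟩ := exists_isGen hL x
  have he₁ := he₀.restrict (inf_le_left : U ⊓ V ≤ U)
  choose a₁ ha₁ _ using fun l => he₁.exists_eq le_rfl (sec (s l) (U ⊓ V))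
  simp only [res_self] at ha₁
  obtain ⟨j, hj⟩ := exists_unit s he₁ a₁ ha₁ (x := x) ⟨hxU, hx⟩
  let W := X.basicOpen (a₁ j)
  have hW : W ≤ U ⊓ V := X.basicOpen_le _
  let e := res L hW (res L (inf_le_left : U ⊓ V ≤ U) e₀)
  let a := fun l => rres hW (a₁ l)
  have he : IsGen L W e := he₁.restrict hW
  have ha : ∀ l, sec (s l) W = a l • e := fun l => by rw [← sec_res (s l) hW, ha₁, res_smul]
  obtain ⟨(v : Γ(X, W)), (hv : a j * v = 1)⟩ :=
    isUnit_iff_exists_inv.1 (RingedSpace.isUnit_res_basicOpen X.toRingedSpace (a₁ j))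
  refine ⟨W, hW.trans inf_le_right, hj, ?_⟩
  obtain ⟨f, hf⟩ := (tmul_gen_bijective he (kernel (p s)) le_rfl).2 (res _ (hW.trans inf_le_right) m)
  simp only [res_self] at hf
  rw [← hf]
  let c := fun i => (show Γ(X, W) from (prj i).app W ((kernel.ι (p s)).app W f))
  have hsum : (kernel.ι (p s)).app W f = ∑ i, c i • bas W i := sum_bas W _
  have hzero : ∑ i, c i * a i = 0 := by
    refine he.injective le_rfl ?_
    rw [res_self, zero_smul, Finset.sum_smul]
    simp only [← smul_smul, ← ha, ← app_comb, ← hsum]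
    exact congr($(kernel.condition (p s)).app W f)
  choose τ hτ using fun i => exists_tau s hL i j
  choose k hk using fun i => exists_kernel_app (p s) W (a j • bas W i - a i • bas W j) (by
    rw [map_sub, Scheme.Modules.Hom.app_smul, Scheme.Modules.Hom.app_smul, app_bas, app_bas, ha, ha, smul_smul,
      smul_smul, mul_comm, sub_self])
  have hfk : f = ∑ i, (c i * v) • k i := by
    refine kernel_app_injective _ W ?_
    rw [map_sum, hsum]
    simp only [Scheme.Modules.Hom.app_smul, hk, smul_sub, smul_smul, Finset.sum_sub_distrib]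
    rw [← Finset.sum_smul (f := fun i => c i * v * a i),
      show (∑ i, c i * v * a i) = v * ∑ i, c i * a i by
        rw [Finset.mul_sum]; exact Finset.sum_congr rfl fun i _ => by ring,
      hzero, mul_zero, zero_smul, sub_zero]
    refine Finset.sum_congr rfl fun i _ => ?_
    rw [mul_assoc, mul_comm v, hv, mul_one]
  let T : Γ(kernel (p s), W) →+ Γ(CohB1.tensorMod (kernel (p s)) L, W) :=
    AddMonoidHom.mk' (fun z => tmul z e) fun z z' => tmul_add_left z z' e
  show T f ∈ _
  rw [hfk, map_sum]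
  refine Submodule.sum_mem _ fun i _ => ?_
  show tmul ((c i * v) • k i) e ∈ _
  rw [tmul_smul_left, ← hτ i W e a (k i) he ha (hk i)]
  exact Submodule.smul_mem _ _ (Submodule.subset_span ⟨τ i, rfl⟩)

end Groth.Agent.S9569
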