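import Groth.Statements.S9576
import Groth.Agent.ProjSpec.Chart0

set_option autoImplicit false
universe u
open CategoryTheory CategoryTheory.Limits AlgebraicGeometry TopologicalSpace Opposite
open Constr

namespace Groth.Agent.S9576

/-- For a ring R and n ≥ 0, projective n-space Proj R[T_0, …, T_n] is covered by the n + 1 standard
opens D_+(T_i), and each D_+(T_i) = Spec R[T_0, …, T_n]_(T_i) is an affine n-space: the ring
homomorphism from the polynomial ring over R in the variables T_j, j ≠ i, to the degree-zero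
localization R[T_0, …, T_n]_(T_i), sending T_j to T_j/T_i and a constant r to r/1, is bijective.
(The published statement is over ℤ; this row is over any ring R.) -/
theorem result (n : ℕ) (R : Type u) [CommRing R] :
    (⨆ i : Fin (n + 1), Proj.basicOpen (CohB1.polyGrading n R) (MvPolynomial.X i)) = ⊤ ∧
      ∀ i : Fin (n + 1), Function.Bijective
        (MvPolynomial.eval₂Hom
          ((HomogeneousLocalization.fromZeroRingHom (CohB1.polyGrading n R) (Submonoid.powers (MvPolynomial.X i))).comp
            (algebraMap R (CohB1.polyGrading n R 0)))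
          (fun j : {j : Fin (n + 1) // j ≠ i} =>
            (HomogeneousLocalization.mk ⟨1, ⟨MvPolynomial.X j.1, MvPolynomial.isHomogeneous_X R j.1⟩,
              ⟨MvPolynomial.X i, MvPolynomial.isHomogeneous_X R i⟩, ⟨1, pow_one _⟩⟩ :
              HomogeneousLocalization.Away (CohB1.polyGrading n R) (MvPolynomial.X i)))) := by
  classical
  refine ⟨Groth.Agent.ProjSpec.iSup_X_eq_top n R, fun i => ?_⟩
  set Φ := MvPolynomial.eval₂Hom
    ((HomogeneousLocalization.fromZeroRingHom (CohB1.polyGrading n R) (Submonoid.powers (MvPolynomial.X i))).comp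
      (algebraMap R (CohB1.polyGrading n R 0)))
    (fun j : {j : Fin (n + 1) // j ≠ i} =>
      (HomogeneousLocalization.mk ⟨1, ⟨MvPolynomial.X j.1, MvPolynomial.isHomogeneous_X R j.1⟩,
        ⟨MvPolynomial.X i, MvPolynomial.isHomogeneous_X R i⟩, ⟨1, pow_one _⟩⟩ :
        HomogeneousLocalization.Away (CohB1.polyGrading n R) (MvPolynomial.X i))) with hΦ
  let v : MvPolynomial (Fin (n + 1)) R →+* MvPolynomial {j : Fin (n + 1) // j ≠ i} R :=
    (MvPolynomial.aeval fun j => if h : j = i then (1 : MvPolynomial {j : Fin (n + 1) // j ≠ i} R)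
      else MvPolynomial.X ⟨j, h⟩).toRingHom
  have hvi : v (MvPolynomial.X i) = 1 := by simp [v]
  have hu : IsUnit (v (MvPolynomial.X i)) := hvi ▸ isUnit_one
  let dh := Groth.Agent.ZetaLib.dehom (CohB1.polyGrading n R) (Groth.Agent.ProjSpec.X_mem' n R i)
  have hC : ∀ r, dh (MvPolynomial.C r) = HomogeneousLocalization.fromZeroRingHom (CohB1.polyGrading n R) _
      (algebraMap R (CohB1.polyGrading n R 0) r) := by
    intro r
    rw [Groth.Agent.ZetaLib.dehom_of_mem _ _ ((MvPolynomial.mem_homogeneousSubmodule 0 _).mpr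
      (MvPolynomial.isHomogeneous_C _ r))]
    refine HomogeneousLocalization.val_injective _ ?_
    simp [HomogeneousLocalization.fromZeroRingHom]
    all_goals rfl
  have hX : ∀ j : {j : Fin (n + 1) // j ≠ i}, dh (MvPolynomial.X j.1) = Φ (MvPolynomial.X j) := by
    intro j
    rw [hΦ, MvPolynomial.eval₂Hom_X', Groth.Agent.ZetaLib.dehom_of_mem _ _
      (Groth.Agent.ProjSpec.X_mem' n R j.1)]
    refine HomogeneousLocalization.val_injective _ ?_
    simp
  have hi1 : dh (MvPolynomial.X i) = 1 := by
    rw [Groth.Agent.ZetaLib.dehom_of_mem _ _ (Groth.Agent.ProjSpec.X_mem' n R i)]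
    refine HomogeneousLocalization.val_injective _ ?_
    simp [Localization.mk_self ⟨MvPolynomial.X i,
      (Submonoid.mem_powers (MvPolynomial.X i : MvPolynomial (Fin (n + 1)) R))⟩]
  have h1 : Φ.comp v = dh := by
    refine MvPolynomial.ringHom_ext (fun r => ?_) fun j => ?_
    · simp only [RingHom.comp_apply, v, hΦ, AlgHom.toRingHom_eq_coe, RingHom.coe_coe, MvPolynomial.aeval_C,
        MvPolynomial.algebraMap_eq, MvPolynomial.eval₂Hom_C]
      exact (hC r).symm
    · by_cases h : j = i
      · rw [RingHom.comp_apply, h, hvi, map_one, hi1]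
      · rw [RingHom.comp_apply, hX ⟨j, h⟩]
        simp [v, h]
  constructor
  · refine Function.LeftInverse.injective
      (g := Groth.Agent.ProjMorph.liftAway (CohB1.polyGrading n R) v hu) fun p => ?_
    refine RingHom.congr_fun (f := (Groth.Agent.ProjMorph.liftAway (CohB1.polyGrading n R) v hu).comp Φ)
      (g := RingHom.id _) (MvPolynomial.ringHom_ext (fun r => ?_) fun j => ?_) p
    · rw [RingHom.comp_apply, hΦ, MvPolynomial.eval₂Hom_C, RingHom.comp_apply,
        Groth.Agent.ProjMorph.liftAway_fromZero]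
      simp [v]
      all_goals rfl
    · rw [RingHom.comp_apply, ← hX j, Groth.Agent.ZetaLib.dehom_of_mem _ _
        (Groth.Agent.ProjSpec.X_mem' n R j.1)]
      have h := Groth.Agent.ProjMorph.liftAway_mk (𝒜 := CohB1.polyGrading n R) v hu
        (Groth.Agent.ProjSpec.X_mem' n R i) 1 (MvPolynomial.X j.1)
        (by simpa using Groth.Agent.ProjSpec.X_mem' n R j.1)
      rw [hvi, one_pow, mul_one] at h
      rw [h]
      simp [v, j.2]
  · intro y
    obtain ⟨b, rfl⟩ := Groth.Agent.ZetaLib.dehom_surjective (CohB1.polyGrading n R)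
      (Groth.Agent.ProjSpec.X_mem' n R i) y
    exact ⟨v b, RingHom.congr_fun h1 b⟩

end Groth.Agent.S9576
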