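import Groth.Statements.S9580
import Groth.Agent.ProjTilde.Twists

set_option autoImplicit false
universe u
open CategoryTheory CategoryTheory.Limits AlgebraicGeometry TopologicalSpace Opposite
open Constr

namespace Groth.Agent.S9580

/-- Let S be a graded ring, X = Proj S and Y ⊆ X a quasi-compact open subscheme. Then there is an
integer d ≥ 1 such that Y is contained in the open W_d, the union of the standard opens D_+(ab) over
homogeneous a, b with deg a = deg b + d, and such that the restriction O_Y(nd) of O_X(nd) to Y is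
invertible for every integer n. (The remaining assertions — the multiplication maps among the
O_Y(nd) and M~(nd) are isomorphisms, D_+(f) ∩ Y = Y_s, and the loci Y_s form a basis — are not
stated here.) -/
theorem result {R A : Type u} [CommRing R] [CommRing A] [Algebra R A] (𝒜 : ℕ → Submodule R A) [GradedAlgebra 𝒜]
    (Y : (Proj 𝒜).Opens) (hY : IsCompact (Y : Set (Proj 𝒜))) :
    ∃ d : ℕ, 0 < d ∧
      (∀ y : Proj 𝒜, y ∈ Y → ∃ (i j : ℕ) (a b : A), a ∈ 𝒜 i ∧ b ∈ 𝒜 j ∧ i = j + d ∧ y ∈ Proj.basicOpen 𝒜 (a * b)) ∧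
      ∀ n : ℤ, PicF.IsInvertible ((Twist.twist 𝒜 (n * d)).restrict Y.ι) := by
  classical
  have key : ∀ y : Y, ∃ (δ : ℕ) (f : A), 0 < δ ∧ f ∈ 𝒜 δ ∧
      f ∉ (show ProjectiveSpectrum 𝒜 from y.1).asHomogeneousIdeal :=
    fun y => Groth.Agent.ProjTilde.exists_homogeneous_not_mem _
  choose δ f hδ hf hfy using key
  obtain ⟨S, hS⟩ := hY.elim_finite_subcover
    (fun y : Y => ((Proj.basicOpen 𝒜 (f y) : (Proj 𝒜).Opens) : Set (Proj 𝒜)))
    (fun y => (Proj.basicOpen 𝒜 (f y)).isOpen)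
    (fun y hy => Set.mem_iUnion.mpr ⟨⟨y, hy⟩, hfy ⟨y, hy⟩⟩)
  have hcov : Groth.Agent.ProjTilde.CoveredBy 𝒜 (S.prod δ) Y := fun y hy => by
    obtain ⟨z, hz, hyz⟩ := Set.mem_iUnion₂.mp (hS hy)
    obtain ⟨k, hk⟩ := Finset.dvd_prod_of_mem δ hz
    refine ⟨S.prod δ, 0, f z ^ k, 1,
      by rw [hk, mul_comm]; exact Groth.Agent.ProjTilde.pow_mem_deg (hf z) k,
      SetLike.GradedOne.one_mem, (zero_add _).symm, ?_⟩
    rw [mul_one]
    exact Groth.Agent.GrModLib.pow_nin hyz k
  exact ⟨S.prod δ, Finset.prod_pos fun z _ => hδ z, hcov,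
    Groth.Agent.ProjTilde.isInvertible_restrict hcov⟩

end Groth.Agent.S9580
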