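import Groth.Statements.S9581
import Groth.Agent.WeakAss.Basic
-- import your own Groth.Agent.* helpers here

set_option autoImplicit false
universe u
open CAlg

namespace Groth.Agent.S9581

/-- (1) ⇔ (3): for a ring R, an R-module M and a prime p of R, the prime p is weakly associated to M
(minimal among the primes containing the annihilator of some element of M) if and only if the
localization M_p contains an element whose annihilator in R_p has radical equal to the maximal ideal
p R_p. -/
theorem result {R : Type u} [CommRing R] (M : Type u) [AddCommGroup M] [Module R M] (p : Ideal R) [p.IsPrime] :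
    p ∈ FlatCA.weakAss R M ↔ IsAssociatedPrime (IsLocalRing.maximalIdeal (Localization.AtPrime p)) (LocalizedModule p.primeCompl M) := by
  rw [← WeakAss.maximalIdeal_mem_weakAss_iff, ← Localization.AtPrime.map_eq_maximalIdeal]
  have hd : Disjoint (p.primeCompl : Set R) (p : Set R) :=
    Set.disjoint_left.mpr fun _ h h' => h h'
  have := IsLocalization.isPrime_of_isPrime_disjoint p.primeCompl (Localization.AtPrime p) p ‹_› hd
  rw [← WeakAss.mem_weakAss_localizedModule_iff (M := M) p.primeCompl hd,
    ← WeakAss.mem_weakAss_comap_iff (R := R) (R' := Localization.AtPrime p) (N := LocalizedModule p.primeCompl M) p.primeCompl,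
    show (p.map (algebraMap R (Localization.AtPrime p))).comap
      (algebraMap R (Localization.AtPrime p)) = p from
      IsLocalization.under_map_of_isPrime_disjoint p.primeCompl _ ‹p.IsPrime› hd]

end Groth.Agent.S9581
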