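import Groth.Statements.S9584
-- import your own Groth.Agent.* helpers here

set_option autoImplicit false
universe u
open CAlg

namespace Groth.Agent.S9584

/-- For a ring R and an R-module M, M has no weakly associated prime (no prime minimal over the
annihilator of an element) if and only if M = 0. -/
theorem result {R : Type u} [CommRing R] (M : Type u) [AddCommGroup M] [Module R M] :
    FlatCA.weakAss R M = ∅ ↔ Subsingleton M := by
  constructor
  · intro h
    refine ⟨fun a b => sub_eq_zero.mp ?_⟩
    by_contra h0
    have htop : (Submodule.span R {a - b}).annihilator ≠ ⊤ := fun he => h0 (by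
      simpa using (Submodule.mem_annihilator_span_singleton _ _).mp
        (he.symm ▸ Submodule.mem_top : (1 : R) ∈ (Submodule.span R {a - b}).annihilator))
    obtain ⟨p, hp⟩ := Ideal.nonempty_minimalPrimes htop
    have : p ∈ FlatCA.weakAss R M := ⟨a - b, hp⟩
    simp [h] at this
  · intro h
    refine Set.eq_empty_iff_forall_notMem.mpr fun p ⟨m, hm⟩ => ?_
    have : (Submodule.span R {m}).annihilator = ⊤ :=
      (Ideal.eq_top_iff_one _).mpr ((Submodule.mem_annihilator_span_singleton _ _).mpr
        (Subsingleton.elim _ _))
    rw [this] at hm
    exact hm.1.1.ne_top (top_le_iff.mp hm.1.2)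

end Groth.Agent.S9584
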