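import Groth.Statements.S9586
import Groth.Agent.WeakAss.Basic
-- import your own Groth.Agent.* helpers here

set_option autoImplicit false
universe u
open CAlg

namespace Groth.Agent.S9586

/-- For a ring R, an R-module M and a finitely generated prime ideal p of R, p is associated to M (equal
to the annihilator of an element) if and only if p is weakly associated to M (minimal over the
annihilator of an element). -/
theorem result {R : Type u} [CommRing R] (M : Type u) [AddCommGroup M] [Module R M] (p : Ideal R) [p.IsPrime] (hp : p.FG) :
    p ∈ FlatCA.ass R M ↔ p ∈ FlatCA.weakAss R M := by
  exact ⟨WeakAss.mem_weakAss_of_mem_ass, WeakAss.mem_ass_of_fg hp⟩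

end Groth.Agent.S9586
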