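import Groth.Statements.S9590
import Groth.Agent.WeakAss.Basic
-- import your own Groth.Agent.* helpers here

set_option autoImplicit false
universe u
open CAlg

namespace Groth.Agent.S9590

/-- For a ring R, an R-module M and a multiplicative subset S of R such that every element of S is a
nonzerodivisor on M, the primes of R weakly associated to M are the same as those weakly associated
to the R-module S⁻¹M. -/
theorem result {R : Type u} [CommRing R] (S : Submonoid R) (M : Type u) [AddCommGroup M] [Module R M] (hS : ∀ s ∈ S, IsSMulRegular M s) :
    FlatCA.weakAss R M = FlatCA.weakAss R (LocalizedModule S M) := by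
  refine Set.Subset.antisymm (WeakAss.weakAss_mono (WeakAss.injective_mk S hS)) fun p hp => ?_
  have := WeakAss.isPrime_of_mem hp
  exact (WeakAss.mem_weakAss_localizedModule_iff S
    (WeakAss.disjoint_of_mem (R' := Localization S) S hp)).mp hp

end Groth.Agent.S9590
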