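import Groth.Statements.S9597
import Mathlib
-- import your own Groth.Agent.* helpers here

set_option autoImplicit false
universe u
open CAlg

namespace Groth.Agent.S9597

/-- Let R be a Noetherian ring, M a finite R-module whose associated primes are pairwise incomparable
under inclusion (M has no embedded associated primes), and I the annihilator of M. Then the
associated primes of R/I, viewed as a module over itself, are again pairwise incomparable: R/I has
no embedded primes either. -/
theorem result {R : Type u} [CommRing R] [IsNoetherianRing R] (M : Type u) [AddCommGroup M] [Module R M] [Module.Finite R M] (hM : ∀ p ∈ associatedPrimes R M, ∀ q ∈ associatedPrimes R M, p ≤ q → p = q) :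
    ∀ p ∈ associatedPrimes (R ⧸ Module.annihilator R M) (R ⧸ Module.annihilator R M), ∀ q ∈ associatedPrimes (R ⧸ Module.annihilator R M) (R ⧸ Module.annihilator R M), p ≤ q → p = q := by
  classical
  let I := Module.annihilator R M
  have key : ∀ P ∈ associatedPrimes (R ⧸ I) (R ⧸ I), P.comap (Ideal.Quotient.mk I) ∈ associatedPrimes R M := by
    intro P hP
    rw [AssociatedPrimes.mem_iff, isAssociatedPrime_iff] at hP
    obtain ⟨hPp, x, hx⟩ := hP
    obtain ⟨a, rfl⟩ := Ideal.Quotient.mk_surjective x
    obtain ⟨S, hS⟩ := Module.Finite.fg_top (R := R) (M := M)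
    set p := P.comap (Ideal.Quotient.mk I) with hp
    haveI : p.IsPrime := Ideal.comap_isPrime _ _
    have h1 : ∀ r : R, r ∈ p ↔ ∀ m ∈ S, r • a • m = 0 := by
      intro r
      rw [hp, Ideal.mem_comap, hx, Submodule.mem_colon_singleton, Submodule.mem_bot, smul_eq_mul, ← map_mul,
        Ideal.Quotient.eq_zero_iff_mem, Module.mem_annihilator]
      constructor
      · exact fun h m _ => by rw [smul_smul]; exact h m
      · intro h m
        have hm : m ∈ Submodule.span R (S : Set M) := hS ▸ Submodule.mem_top
        induction hm using Submodule.span_induction with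
        | mem x hx => rw [← smul_smul]; exact h x hx
        | zero => simp
        | add x y _ _ hx hy => rw [smul_add, hx, hy, add_zero]
        | smul c x _ hx => rw [smul_comm, hx, smul_zero]
    have h2 : p = S.inf fun m => (⊥ : Submodule R M).colon {a • m} := by
      ext r
      rw [h1, Submodule.mem_finsetInf]
      simp [Submodule.mem_colon_singleton]
    obtain ⟨m, hm, hle⟩ := (Ideal.IsPrime.inf_le' (s := S) (f := fun m => (⊥ : Submodule R M).colon {a • m})
      ‹p.IsPrime›).mp h2.ge
    rw [AssociatedPrimes.mem_iff, isAssociatedPrime_iff]
    exact ⟨‹_›, a • m, le_antisymm (h2.le.trans (Finset.inf_le hm)) hle⟩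
  intro p hp q hq hpq
  exact Ideal.comap_injective_of_surjective _ Ideal.Quotient.mk_surjective
    (hM _ (key p hp) _ (key q hq) (Ideal.comap_mono hpq))

end Groth.Agent.S9597
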