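import Groth.Statements.S9598
import Mathlib
-- import your own Groth.Agent.* helpers here

set_option autoImplicit false
universe u
open CAlg

namespace Groth.Agent.S9598

/-- For a field k and a finite type k-algebra S with dim S > 0, some element of S is a nonzerodivisor
and a nonunit. -/
theorem result {k S : Type u} [Field k] [CommRing S] [Algebra k S] [Algebra.FiniteType k S] (hdim : 0 < ringKrullDim S) :
    ∃ f : S, f ∈ nonZeroDivisors S ∧ ¬ IsUnit f := by
  haveI : IsNoetherianRing S := Algebra.FiniteType.isNoetherianRing k S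
  haveI : IsJacobsonRing S := isJacobsonRing_of_finiteType (A := k)
  by_contra hc
  push_neg at hc
  have hmax : ∀ m : Ideal S, m.IsMaximal → m ∈ associatedPrimes S S := by
    intro m hm
    have h1 : (m : Set S) ⊆ ⋃ p ∈ associatedPrimes S S, p := by
      rw [biUnion_associatedPrimes_eq_compl_nonZeroDivisors]
      exact fun f hf hnz => hm.ne_top (Ideal.eq_top_of_isUnit_mem _ hf (hc f hnz))
    obtain ⟨p, hp, hle⟩ := (Ideal.subset_union_prime_finite (associatedPrimes.finite S S) (f := id) ⊥ ⊥
      (fun p hp _ _ => hp.isPrime)).mp h1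
    exact hm.eq_of_le hp.isPrime.ne_top hle ▸ hp
  have hfin : {m : Ideal S | m.IsMaximal}.Finite := (associatedPrimes.finite S S).subset hmax
  classical
  haveI : Ring.KrullDimLE 0 S := Ring.krullDimLE_zero_iff.mpr fun p hp => by
    have h1 : p.jacobson = p := IsJacobsonRing.out inferInstance hp.isRadical
    let T := hfin.toFinset.filter (fun m => p ≤ m)
    have h2 : T.inf id ≤ p := by
      refine le_trans ?_ h1.le
      refine le_sInf fun m hm => Finset.inf_le (f := id) ?_
      simpa [T] using ⟨hm.2, hm.1⟩
    obtain ⟨m, hm, hle⟩ := (Ideal.IsPrime.inf_le' hp).mp h2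
    simp only [T, Finset.mem_filter, Set.Finite.mem_toFinset, Set.mem_setOf_eq] at hm
    exact (le_antisymm hm.2 hle) ▸ hm.1
  exact absurd hdim (not_lt.mpr Order.KrullDimLE.krullDim_le)

end Groth.Agent.S9598
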