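import Groth.Statements.S9600
import Mathlib
-- import your own Groth.Agent.* helpers here

set_option autoImplicit false
universe u
open CAlg

namespace Groth.Agent.S9600

/-- Let R be a ring, I an ideal of R and 0 → M → N → Q → 0 a short exact sequence of R-modules in which
Q is killed by some power I^c of I. Then on I-adic completions the map M^ → N^ is injective, N^ → Q^
is surjective with kernel equal to the image of M^, and the canonical map Q → Q^ is bijective; so 0
→ M^ → N^ → Q → 0 is again short exact. -/
theorem result {R : Type u} [CommRing R] (I : Ideal R) {M N Q : Type u} [AddCommGroup M] [Module R M] [AddCommGroup N] [Module R N] [AddCommGroup Q] [Module R Q] (i : M →ₗ[R] N) (g : N →ₗ[R] Q) (hi : Function.Injective i) (hg : Function.Surjective g) (hig : Function.Exact i g) (c : ℕ) (hc : ∀ x ∈ I ^ c, ∀ q : Q, x • q = 0) :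
    Function.Injective (AdicCompletion.map I i) ∧ Function.Exact (AdicCompletion.map I i) (AdicCompletion.map I g) ∧ Function.Surjective (AdicCompletion.map I g) ∧ Function.Bijective (AdicCompletion.of I Q) := by
  have hQ : ∀ n, c ≤ n → (I ^ n • ⊤ : Submodule R Q) = ⊥ := fun n hn => by
    rw [eq_bot_iff, Submodule.smul_le]
    exact fun r hr q _ => (Submodule.mem_bot _).mpr (hc r (Ideal.pow_le_pow_right hn hr) q)
  have hN : (I ^ c • ⊤ : Submodule R N) ≤ LinearMap.range i := by
    rw [Submodule.smul_le]
    exact fun r hr z _ => (hig _).mp (by rw [map_smul]; exact hc r hr (g z))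
  have hlev : ∀ n : ℕ, ∀ x : M, i x ∈ (I ^ (n + c) • ⊤ : Submodule R N) → x ∈ (I ^ n • ⊤ : Submodule R M) := by
    intro n x hx
    have h1 : i x ∈ Submodule.map i (I ^ n • ⊤ : Submodule R M) := by
      rw [Submodule.map_smul'', Submodule.map_top]
      rw [pow_add, Submodule.mul_smul] at hx
      exact Submodule.smul_mono le_rfl hN hx
    obtain ⟨z, hz, hzx⟩ := Submodule.mem_map.mp h1
    exact hi hzx ▸ hz
  refine ⟨fun x y hxy => AdicCompletion.ext fun n => ?_, fun y => ⟨fun hy => ?_, ?_⟩,
    AdicCompletion.map_surjective I hg, ?_⟩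
  · obtain ⟨a, ha⟩ := Submodule.mkQ_surjective _ (x.val (n + c))
    obtain ⟨b, hb⟩ := Submodule.mkQ_surjective _ (y.val (n + c))
    have h1 := congrArg (fun z => z.val (n + c)) hxy
    simp only [AdicCompletion.map_val_apply, ← ha, ← hb] at h1
    rw [← x.2 (Nat.le_add_right n c), ← y.2 (Nat.le_add_right n c), ← ha, ← hb]
    refine (Submodule.Quotient.eq _).mpr (hlev n _ ?_)
    rw [map_sub]
    exact (Submodule.Quotient.eq _).mp h1
  · have hex : ∀ n, ∃ a : M, y.val (n + c) = Submodule.Quotient.mk (i a) := by
      intro n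
      obtain ⟨b, hb⟩ := Submodule.mkQ_surjective _ (y.val (n + c))
      have h1 := congrArg (fun z => z.val (n + c)) hy
      simp only [AdicCompletion.map_val_apply, ← hb, AdicCompletion.val_zero_apply] at h1
      have h2 := (Submodule.Quotient.mk_eq_zero _).mp h1
      rw [hQ _ (Nat.le_add_left c n), Submodule.mem_bot] at h2
      obtain ⟨a, ha⟩ := (hig b).mp h2
      exact ⟨a, by rw [← hb, ha]; rfl⟩
    choose a ha using hex
    refine ⟨⟨fun n => Submodule.Quotient.mk (a n), fun {m n} hmn => ?_⟩, AdicCompletion.ext fun n => ?_⟩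
    · refine (Submodule.Quotient.eq _).mpr (hlev m _ ?_)
      rw [map_sub]
      have := y.2 (Nat.add_le_add_right hmn c)
      rw [ha n, ha m] at this
      exact (Submodule.Quotient.eq _).mp this
    · refine Eq.trans ?_ (y.2 (Nat.le_add_right n c))
      rw [ha n]
      rfl
  · rintro ⟨x, rfl⟩
    rw [AdicCompletion.map_comp_apply]
    rw [show g.comp i = 0 from hig.linearMap_comp_eq_zero, AdicCompletion.map_zero, LinearMap.zero_apply]
  · rw [AdicCompletion.of_bijective_iff]
    refine { haus' := fun x hx => ?_, prec' := fun f hf => ⟨f c, fun n => ?_⟩ }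
    · have := hx c
      rwa [SModEq.zero, hQ c le_rfl, Submodule.mem_bot] at this
    · rcases le_total n c with h | h
      · exact hf h
      · have := hf h
        rw [hQ c le_rfl, SModEq.bot] at this
        rw [this]

end Groth.Agent.S9600
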