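import Groth.Statements.S9601
import Mathlib
-- import your own Groth.Agent.* helpers here

set_option autoImplicit false
universe u
open CAlg

namespace Groth.Agent.S9601

/-- For a ring R, an ideal I of R and an R-module M, let M^ be the I-adic completion and K_n the kernel
of the projection M^ → M/IⁿM. The completion M^ is I-adically complete exactly when K_n = Iⁿ M^
holds for every n ≥ 1. -/
theorem result {R : Type u} [CommRing R] (I : Ideal R) (M : Type u) [AddCommGroup M] [Module R M] :
    IsAdicComplete I (AdicCompletion I M) ↔ ∀ n : ℕ, 1 ≤ n → LinearMap.ker (AdicCompletion.eval I M n) = I ^ n • (⊤ : Submodule R (AdicCompletion I M)) := by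
  constructor
  · intro h n _
    let E := AdicCompletion.ofLinearEquiv I (AdicCompletion I M)
    let Ψ : AdicCompletion I M →ₗ[R] AdicCompletion I M :=
      E.symm.toLinearMap ∘ₗ (AdicCompletion.map I (AdicCompletion.of I M)).restrictScalars R
    refine le_antisymm (fun x hx => ?_) (AdicCompletion.pow_smul_top_le_ker_eval (I := I) (M := M) n)
    have key : ∀ (y : AdicCompletion I M) (k : ℕ) (a : M), y.val k = Submodule.Quotient.mk a →
        Ψ y - AdicCompletion.of I M a ∈ (I ^ k • ⊤ : Submodule R (AdicCompletion I M)) := by
      intro y k a ha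
      have h1 : (AdicCompletion.of I (AdicCompletion I M) (Ψ y)).val k =
          Submodule.Quotient.mk (AdicCompletion.of I M a) := by
        simp only [Ψ, E, LinearMap.coe_comp, LinearEquiv.coe_coe, Function.comp_apply,
          AdicCompletion.of_ofLinearEquiv_symm, LinearMap.coe_restrictScalars, AdicCompletion.map_val_apply, ha]
        rfl
      exact (Submodule.Quotient.eq _).mp h1
    have hΨ : ∀ y, Ψ y = y := fun y => AdicCompletion.ext fun k => by
      obtain ⟨a, ha⟩ := Submodule.mkQ_surjective _ (y.val k)
      have h1 := AdicCompletion.pow_smul_top_le_ker_eval (I := I) (M := M) k (key y k a ha.symm)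
      rw [LinearMap.mem_ker, map_sub, sub_eq_zero, AdicCompletion.eval_apply, AdicCompletion.eval_apply,
        AdicCompletion.of_apply, ha] at h1
      exact h1
    have h2 := key x n 0 (by rw [Submodule.Quotient.mk_zero]; exact hx)
    rwa [hΨ, map_zero, sub_zero] at h2
  · intro h
    refine { prec' := fun f hf => ?_ }
    refine ⟨⟨fun n => AdicCompletion.eval I M n (f n), fun {m n} hmn => ?_⟩, fun n => ?_⟩
    · have h1 := AdicCompletion.pow_smul_top_le_ker_eval (I := I) (M := M) m (SModEq.sub_mem.mp (hf hmn))
      rw [LinearMap.mem_ker, map_sub, sub_eq_zero] at h1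
      show AdicCompletion.transitionMap I M hmn (AdicCompletion.eval I M n (f n)) = AdicCompletion.eval I M m (f m)
      rw [h1]
      exact AdicCompletion.transitionMap_comp_eval_apply (I := I) (M := M) hmn _
    · refine SModEq.sub_mem.mpr ?_
      rcases Nat.eq_zero_or_pos n with rfl | hn
      · simp
      · rw [← h n hn, LinearMap.mem_ker]
        exact sub_self (AdicCompletion.eval I M n (f n))

end Groth.Agent.S9601
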