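import Groth.Statements.S9602
import Mathlib
-- import your own Groth.Agent.* helpers here

set_option autoImplicit false
universe u
open CAlg

namespace Groth.Agent.S9602

/-- Let R be a ring, I an ideal of R and R^ = lim R/Iⁿ the I-adic completion. An element of R^ whose
image in R/I is invertible is itself invertible in R^; and the kernel of R^ → R/I as well as the
extended ideal I R^ both lie inside the Jacobson radical of R^. -/
theorem result {R : Type u} [CommRing R] (I : Ideal R) :
    (∀ x : AdicCompletion I R, IsUnit (AdicCompletion.evalOneₐ I x) → IsUnit x) ∧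
      RingHom.ker (AdicCompletion.evalOneₐ I).toRingHom ≤ (⊥ : Ideal (AdicCompletion I R)).jacobson ∧
      I.map (algebraMap R (AdicCompletion I R)) ≤ (⊥ : Ideal (AdicCompletion I R)).jacobson := by
  have hu : ∀ x : AdicCompletion I R, IsUnit (AdicCompletion.evalOneₐ I x) → IsUnit x := by
    intro x hx
    have h : ∀ n, IsUnit (x.val n) := by
      intro n
      obtain ⟨a, ha⟩ := AdicCompletion.mk_surjective I R x
      subst ha
      show IsUnit (Ideal.Quotient.mk (I ^ n • ⊤ : Ideal R) (a n))
      rcases Nat.eq_zero_or_pos n with rfl | hn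
      · haveI : Subsingleton (R ⧸ (I ^ 0 • ⊤ : Ideal R)) := Ideal.Quotient.subsingleton_iff.mpr (by simp)
        exact isUnit_of_subsingleton _
      have h1 : IsUnit (Ideal.Quotient.mk I (a n)) := by
        have e : Ideal.Quotient.mk I (a n) = Ideal.Quotient.mk I (a 1) := by
          rw [Ideal.Quotient.eq]
          have := (AdicCompletion.AdicCauchySequence.mk_eq_mk (M := R) (I := I) hn a)
          rw [Submodule.Quotient.eq] at this
          simpa using this
        rw [e]
        convert hx using 0
        rfl
      obtain ⟨s, hs⟩ := h1.exists_right_inv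
      obtain ⟨s, rfl⟩ := Ideal.Quotient.mk_surjective s
      have hnil : IsNilpotent (Ideal.Quotient.mk (I ^ n • ⊤ : Ideal R) (a n * s - 1)) := by
        refine ⟨n, ?_⟩
        rw [← map_pow, Ideal.Quotient.eq_zero_iff_mem]
        rw [← map_mul, ← map_one (Ideal.Quotient.mk I), Ideal.Quotient.eq] at hs
        simpa using Ideal.pow_mem_pow hs n
      have h2 := hnil.isUnit_add_one
      rw [map_sub, map_one, sub_add_cancel, map_mul] at h2
      exact isUnit_of_mul_isUnit_left h2
    choose u hu using fun n => (h n).exists_right_inv
    refine IsUnit.of_mul_eq_one ⟨u, fun {m n} hmn => ?_⟩ (AdicCompletion.ext fun n => hu n)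
    have h1 : AdicCompletion.transitionMap I R hmn (x.val n * u n) = 1 := by
      rw [hu n]; exact AdicCompletion.transitionMap_map_one I hmn
    rw [AdicCompletion.transitionMap_map_mul, x.2 hmn] at h1
    exact (h m).mul_left_cancel (h1.trans (hu m).symm)
  have hk : RingHom.ker (AdicCompletion.evalOneₐ I).toRingHom ≤ (⊥ : Ideal (AdicCompletion I R)).jacobson := by
    intro x hx
    rw [Ideal.mem_jacobson_bot]
    intro y
    refine hu _ ?_
    have hx' : AdicCompletion.evalOneₐ I x = 0 := hx
    simp [hx']
  refine ⟨hu, hk, le_trans (Ideal.map_le_iff_le_comap.mpr fun r hr => ?_) hk⟩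
  show AdicCompletion.evalOneₐ I (algebraMap R (AdicCompletion I R) r) = 0
  rw [AlgHom.commutes]
  exact Ideal.Quotient.eq_zero_iff_mem.mpr hr

end Groth.Agent.S9602
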