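import Groth.Statements.S9603
import Mathlib
-- import your own Groth.Agent.* helpers here

set_option autoImplicit false
universe u
open CAlg

namespace Groth.Agent.S9603

/-- For a ring A, elements f_1, …, f_r generating an ideal I and an A-module M, if the canonical map
from M to its (f_i)-adic completion is surjective for every i, then the canonical map from M to its
I-adic completion is surjective. -/
theorem result {A : Type u} [CommRing A] {r : ℕ} (f : Fin r → A) (M : Type u) [AddCommGroup M] [Module A M] (h : ∀ i, Function.Surjective (AdicCompletion.of (Ideal.span {f i}) M)) :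
    Function.Surjective (AdicCompletion.of (Ideal.span (Set.range f)) M) := by
  classical
  let I := Ideal.span (Set.range f)
  have hk : ∀ n : ℕ, ∃ k, I ^ k ≤ Ideal.span (Set.range fun i => f i ^ n) := by
    intro n
    refine Ideal.exists_pow_le_of_le_radical_of_fg ?_ (Submodule.fg_span (Set.finite_range f))
    rw [Ideal.span_le]
    rintro _ ⟨i, rfl⟩
    exact ⟨n, (Ideal.subset_span ⟨i, rfl⟩ : f i ^ n ∈ Ideal.span (Set.range fun j => f j ^ n))⟩
  choose k hk using hk
  let K : ℕ → ℕ := fun n => (∑ i ∈ Finset.range (n + 1), k i) + n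
  have hKm : Monotone K := fun a b hab =>
    add_le_add (Finset.sum_le_sum_of_subset (Finset.range_mono (by omega))) hab
  have hKk : ∀ n, k n ≤ K n := fun n =>
    le_add_right (Finset.single_le_sum (fun i _ => Nat.zero_le (k i)) (Finset.self_mem_range_succ n))
  rw [AdicCompletion.of_surjective_iff]
  refine ⟨fun {x} hx => ?_⟩
  have hdiff : ∀ n, ∃ m : Fin r → M, x (K (n + 1)) - x (K n) = ∑ i, f i ^ n • m i := by
    intro n
    have h1 : x (K (n + 1)) - x (K n) ∈ (I ^ k n • ⊤ : Submodule A M) :=
      Submodule.smul_mono_left (Ideal.pow_le_pow_right (hKk n))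
        (SModEq.sub_mem.mp (hx (hKm (Nat.le_succ n))).symm)
    have h2 := Submodule.smul_mono_left (N := (⊤ : Submodule A M)) (hk n) h1
    suffices ∀ z ∈ (Ideal.span (Set.range fun i => f i ^ n) • ⊤ : Submodule A M),
        ∃ m : Fin r → M, z = ∑ i, f i ^ n • m i from this _ h2
    intro z hz
    induction hz using Submodule.smul_induction_on' with
    | smul a ha w _ =>
      obtain ⟨c, rfl⟩ := (Submodule.mem_span_range_iff_exists_fun A).mp ha
      exact ⟨fun i => c i • w, by simp [Finset.sum_smul, smul_smul, mul_comm]⟩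
    | add a _ b _ ha hb =>
      obtain ⟨m, rfl⟩ := ha
      obtain ⟨m', rfl⟩ := hb
      exact ⟨m + m', by simp [Finset.sum_add_distrib]⟩
  choose m hm using hdiff
  let S : Fin r → ℕ → M := fun i n => ∑ j ∈ Finset.range n, f i ^ j • m j i
  have hS : ∀ i, ∃ z : M, ∀ n, S i n ≡ z [SMOD (Ideal.span {f i} ^ n • ⊤ : Submodule A M)] := by
    intro i
    refine ((AdicCompletion.of_surjective_iff).mp (h i)).prec' (S i) fun {a b} hab => ?_
    refine (SModEq.sub_mem.mpr ?_).symm
    simp only [S]
    rw [← Finset.sum_range_add_sum_Ico _ hab, add_sub_cancel_left]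
    exact Submodule.sum_mem _ fun j hj => Submodule.smul_mem_smul
      (Ideal.pow_le_pow_right (Finset.mem_Ico.mp hj).1 (Ideal.pow_mem_pow (Ideal.mem_span_singleton_self _) j))
      Submodule.mem_top
  choose z hz using hS
  refine ⟨x (K 0) + ∑ i, z i, fun N => ?_⟩
  have hsum : x (K N) = x (K 0) + ∑ i, S i N := by
    induction N with
    | zero => simp [S]
    | succ N ih =>
      rw [← sub_add_cancel (x (K (N + 1))) (x (K N)), hm, ih]
      simp only [S, Finset.sum_range_succ, Finset.sum_add_distrib]
      abel
  have h1 : x N ≡ x (K N) [SMOD (I ^ N • ⊤ : Submodule A M)] := hx (Nat.le_add_left N _)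
  refine h1.trans ?_
  rw [hsum]
  refine SModEq.add SModEq.rfl (SModEq.sum fun i _ => ?_)
  refine SModEq.mono (Submodule.smul_mono_left (Ideal.pow_right_mono ?_ N)) (hz i N)
  rw [Ideal.span_le, Set.singleton_subset_iff]
  exact Ideal.subset_span ⟨i, rfl⟩

end Groth.Agent.S9603
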