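import Groth.Statements.S9606
import Mathlib
-- import your own Groth.Agent.* helpers here

set_option autoImplicit false
universe u
open CAlg

namespace Groth.Agent.S9606

/-- Let R → S be a ring map with locally nilpotent kernel such that S is generated over R by elements x
with x² and x³ in the image of R. Then the induced map on spectra is a homeomorphism and every
residue field map κ(p) → κ(q), for q a prime of S with inverse image p, is bijective. -/
theorem result {R S : Type u} [CommRing R] [CommRing S] [Algebra R S]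
    (hgen : Algebra.adjoin R {x : S | x ^ 2 ∈ Set.range (algebraMap R S) ∧ x ^ 3 ∈ Set.range (algebraMap R S)} = ⊤)
    (hker : ∀ r : R, algebraMap R S r = 0 → IsNilpotent r) :
    IsHomeomorph (PrimeSpectrum.comap (algebraMap R S)) ∧
      ∀ (q : Ideal S) [q.IsPrime], Function.Bijective (Ideal.ResidueField.map (q.comap (algebraMap R S)) q (algebraMap R S) rfl) := by
  classical
  have hgen' : ∀ q : Ideal S, ∀ [q.IsPrime], ∀ (K : Type u) [Field K] (ψ ψ' : S →+* K),
      (∀ r, ψ (algebraMap R S r) = ψ' (algebraMap R S r)) → ψ = ψ' := by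
    intro q _ K _ ψ ψ' hR
    refine RingHom.ext fun s => ?_
    have hs : s ∈ Algebra.adjoin R {x : S | x ^ 2 ∈ Set.range (algebraMap R S) ∧ x ^ 3 ∈ Set.range (algebraMap R S)} := by
      rw [hgen]; trivial
    induction hs using Algebra.adjoin_induction with
    | mem x hx =>
      obtain ⟨⟨a, ha⟩, ⟨b, hb⟩⟩ := hx
      have h2 : ψ x ^ 2 = ψ' x ^ 2 := by rw [← map_pow, ← map_pow, ← ha, hR]
      have h3 : ψ x ^ 3 = ψ' x ^ 3 := by rw [← map_pow, ← map_pow, ← hb, hR]
      by_cases h0 : ψ' x = 0
      · rw [h0] at h2 ⊢
        exact (pow_eq_zero_iff two_ne_zero).mp (h2.trans (zero_pow two_ne_zero))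
      · refine mul_left_cancel₀ (pow_ne_zero 2 h0) ?_
        calc ψ' x ^ 2 * ψ x = ψ x ^ 3 := by rw [← h2]; ring
          _ = ψ' x ^ 2 * ψ' x := by rw [h3]; ring
    | algebraMap r => exact hR r
    | add x y _ _ hx hy => rw [map_add, map_add, hx, hy]
    | mul x y _ _ hx hy => rw [map_mul, map_mul, hx, hy]
  have hbij : ∀ (q : Ideal S) [q.IsPrime],
      Function.Bijective (Ideal.ResidueField.map (q.comap (algebraMap R S)) q (algebraMap R S) rfl) := by
    intro q _
    set j := Ideal.ResidueField.map (q.comap (algebraMap R S)) q (algebraMap R S) rfl with hj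
    refine ⟨j.injective, fun z => ?_⟩
    have hS : ∀ s, algebraMap S q.ResidueField s ∈ j.fieldRange := by
      intro s
      have hs : s ∈ Algebra.adjoin R {x : S | x ^ 2 ∈ Set.range (algebraMap R S) ∧ x ^ 3 ∈ Set.range (algebraMap R S)} := by
        rw [hgen]; trivial
      have hr : ∀ r, algebraMap S q.ResidueField (algebraMap R S r) ∈ j.fieldRange :=
        fun r => ⟨algebraMap R _ r, Ideal.ResidueField.map_algebraMap _ _ _ _ r⟩
      induction hs using Algebra.adjoin_induction with
      | mem x hx =>
        obtain ⟨⟨a, ha⟩, ⟨b, hb⟩⟩ := hx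
        by_cases h0 : algebraMap S q.ResidueField x = 0
        · rw [h0]; exact zero_mem _
        · have : algebraMap S q.ResidueField x =
              algebraMap S q.ResidueField (x ^ 3) / algebraMap S q.ResidueField (x ^ 2) := by
            rw [map_pow, map_pow, eq_div_iff (pow_ne_zero 2 h0)]; ring
          rw [this, ← ha, ← hb]
          exact div_mem (hr b) (hr a)
      | algebraMap r => exact hr r
      | add x y _ _ hx hy => rw [map_add]; exact add_mem hx hy
      | mul x y _ _ hx hy => rw [map_mul]; exact mul_mem hx hy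
    obtain ⟨a, b, -, rfl⟩ := IsFractionRing.div_surjective (A := S ⧸ q) z
    obtain ⟨a, rfl⟩ := Ideal.Quotient.mk_surjective a
    obtain ⟨b, rfl⟩ := Ideal.Quotient.mk_surjective b
    exact div_mem (hS a) (hS b)
  refine ⟨?_, hbij⟩
  have hint : (algebraMap R S).IsIntegral := by
    have hle : Algebra.adjoin R {x : S | x ^ 2 ∈ Set.range (algebraMap R S) ∧ x ^ 3 ∈ Set.range (algebraMap R S)} ≤
        integralClosure R S := Algebra.adjoin_le fun x hx => by
      obtain ⟨⟨a, ha⟩, -⟩ := hx
      exact IsIntegral.of_pow two_pos (by rw [← ha]; exact isIntegral_algebraMap)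
    exact fun s => hle (by rw [hgen]; trivial)
  haveI : Algebra.IsIntegral R S := ⟨hint⟩
  have hinj : Function.Injective (PrimeSpectrum.comap (algebraMap R S)) := by
    intro P Q hPQ
    obtain ⟨q, hq⟩ := P
    obtain ⟨q', hq'⟩ := Q
    haveI := hq
    haveI := hq'
    have he : q.comap (algebraMap R S) = q'.comap (algebraMap R S) := congrArg PrimeSpectrum.asIdeal hPQ
    let e := RingEquiv.ofBijective _ (hbij q')
    let j := Ideal.ResidueField.map (q.comap (algebraMap R S)) q (algebraMap R S) rfl
    let e₁ := RingEquiv.ofBijective j (hbij q)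
    let c : (q.comap (algebraMap R S)).ResidueField →+* (q'.comap (algebraMap R S)).ResidueField :=
      Ideal.ResidueField.map _ _ (RingHom.id R) (by rw [Ideal.comap_id]; exact he)
    let ψ : S →+* q'.ResidueField :=
      (e.toRingHom.comp c).comp (e₁.symm.toRingHom.comp (algebraMap S q.ResidueField))
    have hψ : ψ = algebraMap S q'.ResidueField := hgen' q _ ψ _ fun r => by
      show e (c (e₁.symm (algebraMap S q.ResidueField (algebraMap R S r)))) = _
      rw [← Ideal.ResidueField.map_algebraMap (q.comap (algebraMap R S)) q (algebraMap R S) rfl r]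
      rw [show e₁.symm (j (algebraMap R _ r)) = algebraMap R _ r from e₁.symm_apply_apply (algebraMap R _ r)]
      show e (Ideal.ResidueField.map _ _ _ _ _) = _
      rw [Ideal.ResidueField.map_algebraMap, RingHom.id_apply]
      exact Ideal.ResidueField.map_algebraMap _ _ _ _ r
    refine PrimeSpectrum.ext ?_
    show q = q'
    rw [← Ideal.ker_algebraMap_residueField q, ← Ideal.ker_algebraMap_residueField q', ← hψ]
    ext s
    simp [ψ]
  have hnil : RingHom.ker (algebraMap R S) ≤ nilradical R := fun r hr => hker r hr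
  have hsurj : Function.Surjective (PrimeSpectrum.comap (algebraMap R S)) := by
    intro p
    obtain ⟨Q, -, hQ, hQc⟩ := Ideal.exists_ideal_over_prime_of_isIntegral p.asIdeal (⊥ : Ideal S)
      (fun r hr => nilradical_le_prime p.asIdeal (hnil hr))
    exact ⟨⟨Q, hQ⟩, PrimeSpectrum.ext hQc⟩
  exact (isHomeomorph_iff_continuous_isClosedMap_bijective).mpr ⟨PrimeSpectrum.continuous_comap _, PrimeSpectrum.isClosedMap_comap_of_isIntegral _ hint, hinj, hsurj⟩

end Groth.Agent.S9606
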