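import Groth.Statements.S9607
import Mathlib.Data.Nat.Choose.Dvd
import Mathlib.RingTheory.Coprime.Lemmas
import Mathlib.Data.Nat.Factorization.Basic
import Mathlib.Data.Nat.Choose.Sum

set_option autoImplicit false
universe u
open CAlg

namespace Groth.Agent.S9607

theorem dvd_choose {p a n i : ℕ} (hp : p.Prime) (hi : 0 < i) (hin : ¬ p ^ n ∣ i) (hia : i ≤ p ^ a) :
    p ^ (a - n) ∣ (p ^ a).choose i := by
  obtain ⟨v, u, hu, rfl⟩ := Nat.exists_eq_pow_mul_and_not_dvd hi.ne' p hp.ne_one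
  have hv : v < n := by
    by_contra h
    exact hin ((pow_dvd_pow p (not_lt.1 h)).mul_right u)
  obtain ⟨m, hm⟩ : ∃ m, p ^ v * u = m + 1 := Nat.exists_eq_add_one.2 hi
  obtain ⟨N, hN⟩ : ∃ N, p ^ a = N + 1 := Nat.exists_eq_add_one.2 (pow_pos hp.pos a)
  have hdvd : p ^ a ∣ p ^ v * ((p ^ a).choose (p ^ v * u)) * u := by
    refine ⟨N.choose m, ?_⟩
    rw [mul_right_comm, hm, hN, mul_comm (m + 1), ← Nat.add_one_mul_choose_eq]
  have h2 := ((Nat.Coprime.pow_left a ((Nat.Prime.coprime_iff_not_dvd hp).2 hu))).dvd_of_dvd_mul_right hdvd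
  refine (pow_dvd_pow p (show a - n ≤ a - v by omega)).trans ?_
  have hav : v ≤ a := by
    by_contra h
    have h3 : p ^ a < p ^ v * u := by
      calc p ^ a < p ^ v := Nat.pow_lt_pow_right hp.one_lt (not_le.1 h)
        _ ≤ p ^ v * u := Nat.le_mul_of_pos_right _ (Nat.pos_of_ne_zero (by rintro rfl; simp at hu))
    omega
  apply Nat.dvd_of_mul_dvd_mul_left (pow_pos hp.pos v)
  rwa [← pow_add, Nat.add_sub_cancel' hav]

theorem pow_mul_pow_mem {R : Type*} [CommRing R] (A : Subalgebra ℤ R) (p n : ℕ) (x : R)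
    (h1 : x ^ (p ^ n) ∈ A) (h2 : (p : R) ^ n * x ∈ A) (i D : ℕ) (hD : n * (i % p ^ n) ≤ D) :
    (p : R) ^ D * x ^ i ∈ A := by
  have hpR : (p : R) ∈ A := A.natCast_mem p
  have : (p : R) ^ D * x ^ i = (p : R) ^ (D - n * (i % p ^ n)) * (((p : R) ^ n * x) ^ (i % p ^ n) * (x ^ (p ^ n)) ^ (i / p ^ n)) := by
    rw [mul_pow, ← pow_mul, ← pow_mul, mul_assoc ((p : R) ^ (n * (i % p ^ n))), ← pow_add, ← mul_assoc, ← pow_add,
      Nat.sub_add_cancel hD, Nat.mod_add_div]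
  rw [this]
  exact A.mul_mem (A.pow_mem hpR _) (A.mul_mem (A.pow_mem h2 _) (A.pow_mem h1 _))

/-- For a prime number p and integers n, m > 0 there exists an integer a such that (x + y)^(p^a) and p^a
(x + y) both belong to the subring ℤ[x^(p^n), p^n x, y^(p^m), p^m y] of the polynomial ring ℤ[x, y]. -/
theorem result (p : ℕ) (hp : p.Prime) (n m : ℕ) (hn : 0 < n) (hm : 0 < m) :
    ∃ a : ℕ, ((MvPolynomial.X 0 + MvPolynomial.X 1 : MvPolynomial (Fin 2) ℤ) ^ (p ^ a) ∈ Algebra.adjoin ℤ ({MvPolynomial.X 0 ^ (p ^ n), (p : MvPolynomial (Fin 2) ℤ) ^ n * MvPolynomial.X 0, MvPolynomial.X 1 ^ (p ^ m), (p : MvPolynomial (Fin 2) ℤ) ^ m * MvPolynomial.X 1} : Set (MvPolynomial (Fin 2) ℤ)) ∧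
      (p : MvPolynomial (Fin 2) ℤ) ^ a * (MvPolynomial.X 0 + MvPolynomial.X 1) ∈ Algebra.adjoin ℤ ({MvPolynomial.X 0 ^ (p ^ n), (p : MvPolynomial (Fin 2) ℤ) ^ n * MvPolynomial.X 0, MvPolynomial.X 1 ^ (p ^ m), (p : MvPolynomial (Fin 2) ℤ) ^ m * MvPolynomial.X 1} : Set (MvPolynomial (Fin 2) ℤ))) := by
  set A := Algebra.adjoin ℤ ({MvPolynomial.X 0 ^ (p ^ n), (p : MvPolynomial (Fin 2) ℤ) ^ n * MvPolynomial.X 0, MvPolynomial.X 1 ^ (p ^ m), (p : MvPolynomial (Fin 2) ℤ) ^ m * MvPolynomial.X 1} : Set (MvPolynomial (Fin 2) ℤ)) with hA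
  have hx1 : (MvPolynomial.X 0 : MvPolynomial (Fin 2) ℤ) ^ (p ^ n) ∈ A := Algebra.subset_adjoin (by simp)
  have hx2 : (p : MvPolynomial (Fin 2) ℤ) ^ n * MvPolynomial.X 0 ∈ A := Algebra.subset_adjoin (by simp)
  have hy1 : (MvPolynomial.X 1 : MvPolynomial (Fin 2) ℤ) ^ (p ^ m) ∈ A := Algebra.subset_adjoin (by simp)
  have hy2 : (p : MvPolynomial (Fin 2) ℤ) ^ m * MvPolynomial.X 1 ∈ A := Algebra.subset_adjoin (by simp)
  have hp' : (p : MvPolynomial (Fin 2) ℤ) ∈ A := A.natCast_mem p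
  let D₁ := n * p ^ n
  let D₂ := m * p ^ m
  let a := n + m + (D₁ + D₂)
  refine ⟨a, ?_, ?_⟩
  · rw [add_pow]
    refine sum_mem fun i hi => ?_
    have hi' : i ≤ p ^ a := Nat.lt_succ_iff.1 (Finset.mem_range.1 hi)
    by_cases h : p ^ n ∣ i ∧ p ^ m ∣ p ^ a - i
    · refine A.mul_mem (A.mul_mem ?_ ?_) (A.natCast_mem _)
      · obtain ⟨q, rfl⟩ := h.1; rw [pow_mul]; exact A.pow_mem hx1 _
      · obtain ⟨q, hq⟩ := h.2; rw [hq, pow_mul]; exact A.pow_mem hy1 _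
    · have hd : p ^ (D₁ + D₂) ∣ (p ^ a).choose i := by
        rcases not_and_or.1 h with h | h
        · exact (pow_dvd_pow p (show D₁ + D₂ ≤ a - n by omega)).trans (dvd_choose hp (Nat.pos_of_ne_zero (by rintro rfl; exact h (dvd_zero _))) h hi')
        · rw [← Nat.choose_symm hi']
          exact (pow_dvd_pow p (show D₁ + D₂ ≤ a - m by omega)).trans (dvd_choose hp (Nat.pos_of_ne_zero (fun h0 => h (h0 ▸ dvd_zero _))) h (Nat.sub_le _ _))
      obtain ⟨c, hc⟩ := hd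
      rw [hc, Nat.cast_mul, Nat.cast_pow, pow_add (p : MvPolynomial (Fin 2) ℤ) D₁ D₂,
        show ∀ (u v s t c : MvPolynomial (Fin 2) ℤ), u * v * (s * t * c) = (s * u) * (t * v) * c from fun _ _ _ _ _ => by ring]
      refine A.mul_mem (A.mul_mem ?_ ?_) (A.natCast_mem _)
      · exact pow_mul_pow_mem A p n _ hx1 hx2 i D₁ (Nat.mul_le_mul_left n (Nat.mod_lt _ (pow_pos hp.pos n)).le)
      · exact pow_mul_pow_mem A p m _ hy1 hy2 _ D₂ (Nat.mul_le_mul_left m (Nat.mod_lt _ (pow_pos hp.pos m)).le)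
  · rw [mul_add]
    refine A.add_mem ?_ ?_
    · rw [show a = (a - n) + n by omega, pow_add, mul_assoc]; exact A.mul_mem (A.pow_mem hp' _) hx2
    · rw [show a = (a - m) + m by omega, pow_add, mul_assoc]; exact A.mul_mem (A.pow_mem hp' _) hy2

end Groth.Agent.S9607
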