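import Groth.Statements.S9608
import Mathlib.FieldTheory.PurelyInseparable.PerfectClosure

set_option autoImplicit false
universe u
open CAlg

namespace Groth.Agent.S9608

/-- Let k'/k be a field extension and p a prime number. Then k' is generated over k by elements x for
which some n > 0 has x^(p^n) ∈ k and p^n x ∈ k, if and only if either k' = k, or k has
characteristic p and k'/k is purely inseparable. -/
theorem result {k k' : Type u} [Field k] [Field k'] [Algebra k k'] (p : ℕ) (hp : p.Prime) :
    IntermediateField.adjoin k {x : k' | ∃ n : ℕ, 0 < n ∧ x ^ (p ^ n) ∈ Set.range (algebraMap k k') ∧ (p : k') ^ n * x ∈ Set.range (algebraMap k k')} = ⊤ ↔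
      (Function.Surjective (algebraMap k k') ∨ (CharP k p ∧ IsPurelyInseparable k k')) := by
  constructor
  · intro h
    by_cases hp0 : (p : k) = 0
    · have : CharP k p := by
        rcases CharP.exists k with ⟨q, hq⟩
        rcases (Nat.dvd_prime hp).1 ((CharP.cast_eq_zero_iff k q p).1 hp0) with rfl | rfl
        · exact absurd (inferInstance : Nontrivial k) (not_nontrivial_iff_subsingleton.2 CharP.CharOne.subsingleton)
        · exact hq
      have : ExpChar k p := ExpChar.prime hp
      refine Or.inr ⟨‹_›, ?_⟩
      have h2 : IsPurelyInseparable k (IntermediateField.adjoin k {x : k' | ∃ n : ℕ, 0 < n ∧ x ^ (p ^ n) ∈ Set.range (algebraMap k k') ∧ (p : k') ^ n * x ∈ Set.range (algebraMap k k')}) :=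
        (IntermediateField.isPurelyInseparable_adjoin_iff_pow_mem k k' p).2 fun x ⟨n, _, hn, _⟩ => ⟨n, hn⟩
      rw [h] at h2
      exact (IntermediateField.topEquiv (F := k) (E := k')).isPurelyInseparable
    · refine Or.inl fun y => ?_
      have hle : IntermediateField.adjoin k {x : k' | ∃ n : ℕ, 0 < n ∧ x ^ (p ^ n) ∈ Set.range (algebraMap k k') ∧ (p : k') ^ n * x ∈ Set.range (algebraMap k k')} ≤ ⊥ := by
        rw [IntermediateField.adjoin_le_iff]
        rintro x ⟨n, _, _, c, hc⟩
        refine IntermediateField.mem_bot.2 ⟨c / (p : k) ^ n, ?_⟩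
        have : (p : k') ≠ 0 := by rw [← map_natCast (algebraMap k k') p]; exact (map_ne_zero (algebraMap k k')).2 hp0
        rw [map_div₀, map_pow, map_natCast, hc, mul_div_cancel_left₀ _ (pow_ne_zero n this)]
      exact IntermediateField.mem_bot.1 (hle (h ▸ IntermediateField.mem_top))
  · intro h
    rw [eq_top_iff]
    intro y _
    apply IntermediateField.subset_adjoin
    rcases h with h | ⟨hc, hpi⟩
    · exact ⟨1, one_pos, h _, h _⟩
    · have : ExpChar k p := ExpChar.prime hp
      have := charP_of_injective_algebraMap (algebraMap k k').injective p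
      obtain ⟨n, c, hn⟩ := IsPurelyInseparable.pow_mem k p y
      refine ⟨n + 1, Nat.succ_pos _, ⟨c ^ p, ?_⟩, ⟨0, ?_⟩⟩
      · rw [map_pow, hn, ← pow_mul, ← pow_succ]
      · rw [CharP.cast_eq_zero, zero_pow (Nat.succ_ne_zero n), zero_mul, map_zero]

end Groth.Agent.S9608
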