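import Groth.Statements.S9609
import Mathlib.RingTheory.LocalRing.ResidueField.Ideal
import Mathlib.Algebra.CharP.Lemmas
import Mathlib.Algebra.CharP.Algebra

set_option autoImplicit false
universe u
open CAlg

namespace Groth.Agent.S9609

open TensorProduct in
/-- Let R → S be a ring map which is injective on spectra and whose residue field extensions κ(p) → κ(q)
(q a prime of S with inverse image p) are purely inseparable: every element of κ(q) has a power with
exponent a power of the characteristic exponent lying in the image of κ(p). Then, given an arbitrary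
R-algebra R', the induced map R' → R' ⊗_R S is likewise injective on spectra and has purely
inseparable residue field extensions. -/
theorem result {R S R' : Type u} [CommRing R] [CommRing S] [CommRing R'] [Algebra R S] [Algebra R R']
    (hinj : Function.Injective (PrimeSpectrum.comap (algebraMap R S)))
    (hpi : ∀ (q : Ideal S) [q.IsPrime] (x : q.ResidueField), ∃ n : ℕ, x ^ (ringExpChar (q.comap (algebraMap R S)).ResidueField) ^ n ∈ Set.range (Ideal.ResidueField.map (q.comap (algebraMap R S)) q (algebraMap R S) rfl)) :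
    Function.Injective (PrimeSpectrum.comap (algebraMap R' (R' ⊗[R] S))) ∧
      ∀ (q' : Ideal (R' ⊗[R] S)) [q'.IsPrime] (x : q'.ResidueField), ∃ n : ℕ, x ^ (ringExpChar (q'.comap (algebraMap R' (R' ⊗[R] S))).ResidueField) ^ n ∈ Set.range (Ideal.ResidueField.map (q'.comap (algebraMap R' (R' ⊗[R] S))) q' (algebraMap R' (R' ⊗[R] S)) rfl) := by
  classical
  have gen : ∀ (q' : Ideal (R' ⊗[R] S)) [q'.IsPrime] (z : R' ⊗[R] S) (Q : Ideal (R' ⊗[R] S)) [Q.IsPrime],
      Q.comap (algebraMap R' (R' ⊗[R] S)) = q'.comap (algebraMap R' (R' ⊗[R] S)) →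
      ∃ n : ℕ, ∃ a b : R', b ∉ q'.comap (algebraMap R' (R' ⊗[R] S)) ∧
        z ^ (ringExpChar (q'.comap (algebraMap R' (R' ⊗[R] S))).ResidueField) ^ n * algebraMap R' (R' ⊗[R] S) b - algebraMap R' (R' ⊗[R] S) a ∈ q' ⊓ Q := by
    intro q' _ z Q _ hQ
    set P := q'.comap (algebraMap R' (R' ⊗[R] S)) with hP
    set e := ringExpChar P.ResidueField with he
    let ι : S →ₐ[R] R' ⊗[R] S := Algebra.TensorProduct.includeRight
    let q := q'.comap ι.toRingHom
    let p := q.comap (algebraMap R S)
    have hpq : p = P.comap (algebraMap R R') := by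
      simp only [p, q, hP, Ideal.comap_comap]
      congr 1
      exact (ι.comp_algebraMap).trans (IsScalarTower.algebraMap_eq R R' (R' ⊗[R] S))
    have hQq : Q.comap ι.toRingHom = q := by
      have hpr : (Q.comap ι.toRingHom).comap (algebraMap R S) = q.comap (algebraMap R S) := by
        rw [show q.comap (algebraMap R S) = P.comap (algebraMap R R') from hpq, ← hQ, Ideal.comap_comap, Ideal.comap_comap]
        congr 1
        exact (ι.comp_algebraMap).trans (IsScalarTower.algebraMap_eq R R' (R' ⊗[R] S))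
      exact congrArg PrimeSpectrum.asIdeal (hinj (a₁ := ⟨_, Ideal.IsPrime.comap ι.toRingHom⟩) (a₂ := ⟨q, inferInstance⟩) (PrimeSpectrum.ext hpr))
    have hexp : ringExpChar p.ResidueField = e := by
      have : ExpChar P.ResidueField (ringExpChar p.ResidueField) :=
        expChar_of_injective_ringHom (Ideal.ResidueField.map p P (algebraMap R R') hpq).injective _
      exact (ringExpChar.eq P.ResidueField (ringExpChar p.ResidueField)).symm
    let L₁ := q'.ResidueField
    let L₂ := Q.ResidueField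
    let f₁ : P.ResidueField →+* L₁ := Ideal.ResidueField.map P q' (algebraMap R' (R' ⊗[R] S)) rfl
    let f₂ : P.ResidueField →+* L₂ := Ideal.ResidueField.map P Q (algebraMap R' (R' ⊗[R] S)) hQ.symm
    let Φ : R' ⊗[R] S →+* L₁ × L₂ := (algebraMap (R' ⊗[R] S) L₁).prod (algebraMap (R' ⊗[R] S) L₂)
    have : ExpChar L₁ e := expChar_of_injective_ringHom f₁.injective e
    have : ExpChar L₂ e := expChar_of_injective_ringHom f₂.injective e
    let G := f₁.prod f₂
    suffices ∃ n, Φ z ^ e ^ n ∈ G.range by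
      obtain ⟨n, c, hc⟩ := this
      obtain ⟨a', b', hb', rfl⟩ := IsFractionRing.div_surjective (R' ⧸ P) c
      obtain ⟨a, rfl⟩ := Ideal.Quotient.mk_surjective a'
      obtain ⟨b, rfl⟩ := Ideal.Quotient.mk_surjective b'
      have hb : b ∉ P := fun h => nonZeroDivisors.ne_zero hb' (Ideal.Quotient.eq_zero_iff_mem.2 h)
      refine ⟨n, a, b, hb, ?_⟩
      have hb0 : algebraMap R' P.ResidueField b ≠ 0 := by rwa [Ne, Ideal.algebraMap_residueField_eq_zero]
      have hc' : G (algebraMap R' P.ResidueField a) = Φ z ^ e ^ n * G (algebraMap R' P.ResidueField b) := by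
        rw [← hc, ← map_mul]; congr 1
        exact (div_mul_cancel₀ _ hb0).symm
      have hG : ∀ x, G (algebraMap R' P.ResidueField x) = Φ (algebraMap R' (R' ⊗[R] S) x) := fun x =>
        Prod.ext (Ideal.ResidueField.map_algebraMap P q' (algebraMap R' (R' ⊗[R] S)) rfl x)
          (Ideal.ResidueField.map_algebraMap P Q (algebraMap R' (R' ⊗[R] S)) hQ.symm x)
      rw [hG, hG, ← map_pow, ← map_mul] at hc'
      have h1 := congrArg Prod.fst hc'
      have h2 := congrArg Prod.snd hc'
      simp only [Φ, RingHom.prod_apply] at h1 h2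
      rw [eq_comm, ← sub_eq_zero, ← map_sub, Ideal.algebraMap_residueField_eq_zero] at h1 h2
      exact ⟨h1, h2⟩
    induction z using TensorProduct.induction_on with
    | zero => exact ⟨0, 0, by rw [map_zero, map_zero, pow_zero, pow_one]⟩
    | tmul r s =>
      obtain ⟨n, c, hc⟩ := hpi q (algebraMap S q.ResidueField s)
      rw [hexp] at hc
      let g₁ : q.ResidueField →+* L₁ := Ideal.ResidueField.map q q' ι.toRingHom rfl
      let g₂ : q.ResidueField →+* L₂ := Ideal.ResidueField.map q Q ι.toRingHom hQq.symm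
      let h := Ideal.ResidueField.map p P (algebraMap R R') hpq
      let j := Ideal.ResidueField.map p q (algebraMap R S) rfl
      have hcomp : ∀ x, G (h x) = (g₁.prod g₂) (j x) := by
        intro x
        obtain ⟨a', b', hb', rfl⟩ := IsFractionRing.div_surjective (R ⧸ p) x
        obtain ⟨a, rfl⟩ := Ideal.Quotient.mk_surjective a'
        obtain ⟨b, rfl⟩ := Ideal.Quotient.mk_surjective b'
        have key : ∀ a : R, G (h (algebraMap R p.ResidueField a)) = (g₁.prod g₂) (j (algebraMap R p.ResidueField a)) := by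
          intro a
          have e1 : algebraMap R' (R' ⊗[R] S) (algebraMap R R' a) = ι (algebraMap R S a) := by
            rw [AlgHom.commutes, ← IsScalarTower.algebraMap_apply]
          simp only [G, h, g₁, g₂, j, f₁, f₂, RingHom.prod_apply, Ideal.ResidueField.map_algebraMap]
          refine Prod.ext ?_ ?_
          · exact (Ideal.ResidueField.map_algebraMap _ _ _ _ _).trans ((congrArg (algebraMap (R' ⊗[R] S) L₁) e1).trans (Ideal.ResidueField.map_algebraMap q q' ι.toRingHom rfl _).symm)
          · exact (Ideal.ResidueField.map_algebraMap _ _ _ _ _).trans ((congrArg (algebraMap (R' ⊗[R] S) L₂) e1).trans (Ideal.ResidueField.map_algebraMap q Q ι.toRingHom hQq.symm _).symm)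
        have hdiv : ∀ (u v : p.ResidueField), v ≠ 0 → G (h u) = (g₁.prod g₂) (j u) → G (h v) = (g₁.prod g₂) (j v) → G (h (u / v)) = (g₁.prod g₂) (j (u / v)) := by
          intro u v hv hu hv'
          simp only [G, RingHom.prod_apply, map_div₀, Prod.mk.injEq] at hu hv' ⊢
          exact ⟨by rw [hu.1, hv'.1], by rw [hu.2, hv'.2]⟩
        refine hdiv _ _ ?_ (key a) (key b)
        intro h0
        exact nonZeroDivisors.ne_zero hb' (IsFractionRing.injective (R ⧸ p) p.ResidueField (h0.trans (map_zero _).symm))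
      refine ⟨n, algebraMap R' P.ResidueField r ^ e ^ n * h c, ?_⟩
      rw [map_mul, map_pow, hcomp, show j c = algebraMap S q.ResidueField s ^ e ^ n from hc, map_pow, ← mul_pow]
      congr 1
      have e2 : algebraMap R' (R' ⊗[R] S) r * ι s = r ⊗ₜ[R] s := by simp [ι]
      rw [← e2, map_mul]
      simp only [G, f₁, f₂, g₁, g₂, Φ, RingHom.prod_apply]
      refine congrArg₂ (· * ·) (Prod.ext ?_ ?_) (Prod.ext ?_ ?_)
      · exact Ideal.ResidueField.map_algebraMap P q' (algebraMap R' (R' ⊗[R] S)) rfl r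
      · exact Ideal.ResidueField.map_algebraMap P Q (algebraMap R' (R' ⊗[R] S)) hQ.symm r
      · exact Ideal.ResidueField.map_algebraMap q q' ι.toRingHom rfl s
      · exact Ideal.ResidueField.map_algebraMap q Q ι.toRingHom hQq.symm s
    | add x y hx hy =>
      obtain ⟨n, c, hc⟩ := hx
      obtain ⟨m, d, hd⟩ := hy
      refine ⟨n + m, c ^ e ^ m + d ^ e ^ n, ?_⟩
      rw [map_add, map_pow, map_pow, hc, hd, ← pow_mul, ← pow_mul, ← pow_add, ← pow_add, add_comm m n, map_add]
      exact (Prod.ext (add_pow_expChar_pow (Φ x).1 (Φ y).1 e (n + m)) (add_pow_expChar_pow (Φ x).2 (Φ y).2 e (n + m))).symm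
  refine ⟨fun Q₁ Q₂ h => ?_, fun q' _ x => ?_⟩
  · have hc : Q₂.asIdeal.comap (algebraMap R' (R' ⊗[R] S)) = Q₁.asIdeal.comap (algebraMap R' (R' ⊗[R] S)) :=
      congrArg PrimeSpectrum.asIdeal h.symm
    apply PrimeSpectrum.ext
    ext z
    obtain ⟨n, a, b, hb, h12⟩ := gen Q₁.asIdeal z Q₂.asIdeal hc
    have hpos : 0 < (ringExpChar (Q₁.asIdeal.comap (algebraMap R' (R' ⊗[R] S))).ResidueField) ^ n :=
      pow_pos (expChar_pos (Q₁.asIdeal.comap (algebraMap R' (R' ⊗[R] S))).ResidueField _) n
    have iff1 : ∀ (Q : Ideal (R' ⊗[R] S)) [Q.IsPrime], Q.comap (algebraMap R' (R' ⊗[R] S)) = Q₁.asIdeal.comap (algebraMap R' (R' ⊗[R] S)) →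
        z ^ (ringExpChar (Q₁.asIdeal.comap (algebraMap R' (R' ⊗[R] S))).ResidueField) ^ n * algebraMap R' (R' ⊗[R] S) b - algebraMap R' (R' ⊗[R] S) a ∈ Q →
        (z ∈ Q ↔ a ∈ Q₁.asIdeal.comap (algebraMap R' (R' ⊗[R] S))) := by
      intro Q hQp hQ hmem
      rw [← hQ, Ideal.mem_comap]
      constructor
      · intro hz
        have := Q.mul_mem_right (algebraMap R' (R' ⊗[R] S) b) (Q.pow_mem_of_mem hz _ hpos)
        exact (sub_sub_cancel _ (algebraMap R' (R' ⊗[R] S) a)) ▸ Q.sub_mem this hmem
      · intro ha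
        have := Q.add_mem hmem ha
        rw [sub_add_cancel] at this
        rcases hQp.mem_or_mem this with h | h
        · exact hQp.mem_of_pow_mem _ h
        · exact absurd (show b ∈ Q.comap (algebraMap R' (R' ⊗[R] S)) from h) (hQ ▸ hb)
    exact (iff1 Q₁.asIdeal rfl h12.1).trans (iff1 Q₂.asIdeal hc h12.2).symm
  · set e := ringExpChar (q'.comap (algebraMap R' (R' ⊗[R] S))).ResidueField with he
    let f := Ideal.ResidueField.map (q'.comap (algebraMap R' (R' ⊗[R] S))) q' (algebraMap R' (R' ⊗[R] S)) rfl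
    obtain ⟨a', b', hb', rfl⟩ := IsFractionRing.div_surjective ((R' ⊗[R] S) ⧸ q') x
    obtain ⟨u, rfl⟩ := Ideal.Quotient.mk_surjective a'
    obtain ⟨v, rfl⟩ := Ideal.Quotient.mk_surjective b'
    have hf : ∀ z, ∃ n : ℕ, algebraMap (R' ⊗[R] S) q'.ResidueField z ^ e ^ n ∈ Set.range f := by
      intro z
      obtain ⟨n, a, b, hb, h1⟩ := gen q' z q' rfl
      rw [inf_idem, ← Ideal.algebraMap_residueField_eq_zero, map_sub, map_mul, map_pow, sub_eq_zero] at h1
      refine ⟨n, algebraMap _ _ a / algebraMap _ _ b, ?_⟩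
      have hb0 : algebraMap (R' ⊗[R] S) q'.ResidueField (algebraMap R' (R' ⊗[R] S) b) ≠ 0 := by
        rwa [Ne, Ideal.algebraMap_residueField_eq_zero]
      rw [map_div₀, show f (algebraMap _ _ a) = _ from Ideal.ResidueField.map_algebraMap _ _ _ _ a,
        show f (algebraMap _ _ b) = _ from Ideal.ResidueField.map_algebraMap _ _ _ _ b, ← h1, mul_div_cancel_right₀ _ hb0]
    obtain ⟨n, c, hc⟩ := hf u
    obtain ⟨m, d, hd⟩ := hf v
    refine ⟨n + m, c ^ e ^ m / d ^ e ^ n, ?_⟩
    rw [map_div₀, map_pow, map_pow, hc, hd, ← pow_mul, ← pow_mul, ← pow_add, ← pow_add, add_comm m n, ← div_pow]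
    rfl

end Groth.Agent.S9609
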