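import Groth.Statements.S9610
-- import your own Groth.Agent.* helpers here

set_option autoImplicit false
universe u
open CAlg

namespace Groth.Agent.S9610

/-- Let k be a field and V a nonzero k-vector space with dim_k V < #k as cardinals. Then every k-linear
endomorphism T of V admits a monic polynomial P over k for which P(T) is not invertible. -/
theorem result {k V : Type u} [Field k] [AddCommGroup V] [Module k V] [Nontrivial V] (hV : Module.rank k V < Cardinal.mk k) (T : Module.End k V) :
    ∃ P : Polynomial k, P.Monic ∧ ¬ IsUnit (Polynomial.aeval T P) := by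
  by_contra hcon
  push Not at hcon
  have hu : ∀ q : Polynomial k, q ≠ 0 → IsUnit (Polynomial.aeval T q) := fun q hq => by
    have h := hcon _ (Polynomial.monic_mul_leadingCoeff_inv hq)
    rw [map_mul, Polynomial.aeval_C] at h
    have hl : q.leadingCoeff⁻¹ ≠ 0 := inv_ne_zero (Polynomial.leadingCoeff_ne_zero.2 hq)
    exact ((Commute.isUnit_mul_iff (Algebra.commutes q.leadingCoeff⁻¹ (Polynomial.aeval T q)).symm).1 h).1
  obtain ⟨v, hv⟩ := exists_ne (0 : V)
  have hinj : ∀ q : Polynomial k, Polynomial.aeval T q v = 0 → q = 0 := fun q hq => by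
    by_contra h0
    exact hv (((Module.End.isUnit_iff _).1 (hu q h0)).injective (by rw [hq, map_zero]))
  have hua : ∀ a : k, IsUnit (Polynomial.aeval T (Polynomial.X - Polynomial.C a)) := fun a => hu _ (Polynomial.X_sub_C_ne_zero a)
  let w : k → V := fun a => (((hua a).unit⁻¹ : (Module.End k V)ˣ) : Module.End k V) v
  have hli : LinearIndependent k w := by
    classical
    rw [linearIndependent_iff']
    intro s c hc a ha
    let P : k → Polynomial k := fun b => ∏ e ∈ s.erase b, (Polynomial.X - Polynomial.C e)
    have key : ∀ b ∈ s, Polynomial.aeval T (∏ e ∈ s, (Polynomial.X - Polynomial.C e)) (w b) = Polynomial.aeval T (P b) v := fun b hb => by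
      rw [← Finset.prod_erase_mul s _ hb, map_mul, Module.End.mul_apply]
      congr 1
      rw [← Module.End.mul_apply, IsUnit.mul_val_inv, Module.End.one_apply]
    have hz : Polynomial.aeval T (∑ b ∈ s, Polynomial.C (c b) * P b) v = 0 := by
      rw [map_sum, LinearMap.sum_apply, ← map_zero (Polynomial.aeval T (∏ e ∈ s, (Polynomial.X - Polynomial.C e))), ← hc, map_sum]
      refine Finset.sum_congr rfl fun b hb => ?_
      rw [map_smul, key b hb, map_mul, Polynomial.aeval_C, Module.End.mul_apply, Module.algebraMap_end_apply]
    have := congrArg (Polynomial.eval a) (hinj _ hz)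
    rw [Polynomial.eval_finsetSum, Finset.sum_eq_single a, Polynomial.eval_zero] at this
    · simp only [P, Polynomial.eval_mul, Polynomial.eval_C, Polynomial.eval_prod, mul_eq_zero] at this
      refine this.resolve_right (Finset.prod_ne_zero_iff.2 fun e he => ?_)
      simpa [sub_eq_zero] using fun h : a = e => (Finset.mem_erase.1 he).1 h.symm
    · intro b hb hba
      simp only [P, Polynomial.eval_mul, Polynomial.eval_prod, mul_eq_zero]
      exact Or.inr (Finset.prod_eq_zero (Finset.mem_erase.2 ⟨Ne.symm hba, ha⟩) (by simp))
    · exact fun h => absurd ha h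
  exact absurd hli.cardinal_le_rank (not_le.2 hV)

end Groth.Agent.S9610
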