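import Groth.Statements.S9611
-- import your own Groth.Agent.* helpers here

set_option autoImplicit false
universe u
open CAlg

namespace Groth.Agent.S9611

/-- Let R be a Jacobson ring, p a prime ideal of R which is not maximal, and f an element of R not in p.
Then the set of primes of R containing p and not containing f is infinite. -/
theorem result {R : Type u} [CommRing R] [IsJacobsonRing R] (p : Ideal R) [p.IsPrime] (hp : ¬ p.IsMaximal) (f : R) (hf : f ∉ p) :
    {q : PrimeSpectrum R | p ≤ q.asIdeal ∧ f ∉ q.asIdeal}.Infinite := by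
  intro hfin
  have hmem := IsJacobsonRing.out (inferInstance : IsJacobsonRing R) (Ideal.IsPrime.isRadical ‹p.IsPrime›)
  classical
  let t := hfin.toFinset.filter (fun q => ¬ q.asIdeal ≤ p)
  have hprod : ∀ q ∈ t, ∃ g ∈ q.asIdeal, g ∉ p := fun q hq => Set.not_subset.1 (Finset.mem_filter.1 hq).2
  choose g hg hgp using hprod
  let x := f * ∏ q ∈ t.attach, g q.1 q.2
  have hx : x ∉ p := fun hx => (‹p.IsPrime›.mem_or_mem hx).elim hf (fun h => by
    obtain ⟨q, _, hq⟩ := (Ideal.IsPrime.prod_mem_iff).1 h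
    exact hgp q.1 q.2 hq)
  apply hx
  rw [← hmem, Ideal.jacobson, Ideal.mem_sInf]
  rintro J ⟨hpJ, hJ⟩
  by_contra hxJ
  let q : PrimeSpectrum R := ⟨J, hJ.isPrime⟩
  have hfJ : f ∉ J := fun h => hxJ (J.mul_mem_right _ h)
  have hq : q ∈ t := Finset.mem_filter.2 ⟨hfin.mem_toFinset.2 ⟨hpJ, hfJ⟩, fun hle => hp (le_antisymm hpJ hle ▸ hJ)⟩
  exact hxJ (J.mul_mem_left _ (J.prod_mem (Finset.mem_attach _ ⟨q, hq⟩) (hg q hq)))

end Groth.Agent.S9611
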