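import Groth.Statements.S9613
import Groth.Agent.CAlgA.ConsImage
import Mathlib.RingTheory.Localization.Away.Basic
import Mathlib.Tactic.Ring

set_option autoImplicit false
universe u
open CAlg

namespace Groth.Agent.S9613

/-- Let R → K be an injective ring map into a field K which makes K an R-algebra of finite type. Then
for some nonzero f ∈ R the localization R_f is a field over which K is finite; here R_f is realised
as the R-subalgebra of K that is a localization of R away from f. -/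
theorem result {R K : Type u} [CommRing R] [Field K] [Algebra R K] (hinj : Function.Injective (algebraMap R K)) [Algebra.FiniteType R K] :
    ∃ f : R, f ≠ 0 ∧ ∃ Rf : Subalgebra R K, IsLocalization.Away f Rf ∧ IsField Rf ∧ Module.Finite Rf K := by
  classical
  obtain ⟨a, ha, H⟩ := CAlgA.exists_lift hinj (1 : K) one_ne_zero
  have : IsDomain R := hinj.isDomain
  have hp0 : ∀ p : Ideal R, p.IsPrime → a ∉ p → p = ⊥ := by
    intro p hp hap
    obtain ⟨q, hq, rfl, -⟩ := H p hp hap
    rcases Ideal.eq_bot_or_top q with rfl | rfl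
    · exact Ideal.comap_bot_of_injective _ hinj
    · exact absurd rfl hq.ne_top
  let b := algebraMap R K a
  have hb : b ≠ 0 := (map_ne_zero_iff _ hinj).2 ha
  let Rf := Algebra.adjoin R ({b⁻¹} : Set K)
  have hbi : b⁻¹ ∈ Rf := Algebra.subset_adjoin rfl
  have hform : ∀ z ∈ Rf, ∃ (r : R) (n : ℕ), z * b ^ n = algebraMap R K r := by
    intro z hz
    refine Algebra.adjoin_induction (p := fun z _ => ∃ (r : R) (n : ℕ), z * b ^ n = algebraMap R K r) ?_ ?_ ?_ ?_ hz
    · rintro _ rfl; exact ⟨1, 1, by rw [pow_one, inv_mul_cancel₀ hb, map_one]⟩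
    · exact fun r => ⟨r, 0, by rw [pow_zero, mul_one]⟩
    · rintro x y _ _ ⟨r, n, hr⟩ ⟨s, m, hs⟩
      refine ⟨r * a ^ m + s * a ^ n, n + m, ?_⟩
      rw [map_add, map_mul, map_mul, map_pow, map_pow, ← hr, ← hs]; ring
    · rintro x y _ _ ⟨r, n, hr⟩ ⟨s, m, hs⟩
      exact ⟨r * s, n + m, by rw [map_mul, ← hr, ← hs]; ring⟩
  have hba : IsUnit (⟨b, Rf.algebraMap_mem a⟩ : Rf) := IsUnit.of_mul_eq_one ⟨b⁻¹, hbi⟩ (Subtype.ext (mul_inv_cancel₀ hb))
  have hloc : IsLocalization.Away a Rf := by
    refine IsLocalization.Away.mk a hba ?_ ?_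
    · rintro ⟨z, hz⟩
      obtain ⟨r, n, hr⟩ := hform z hz
      exact ⟨n, r, Subtype.ext hr⟩
    · intro x y h
      exact ⟨0, by rw [pow_zero, one_mul, one_mul]; exact hinj (congrArg Subtype.val h)⟩
  have hfield : IsField Rf := by
    refine ⟨exists_pair_ne _, fun x y => mul_comm x y, ?_⟩
    rintro ⟨z, hz⟩ hz0
    obtain ⟨r, n, hr⟩ := hform z hz
    have hr0 : r ≠ 0 := by
      rintro rfl
      rw [map_zero, mul_eq_zero] at hr
      exact hr.elim (fun h => hz0 (Subtype.ext h)) (pow_ne_zero n hb)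
    have : a ∈ (Ideal.span {r}).radical := by
      rw [Ideal.radical_eq_sInf, Submodule.mem_sInf]
      rintro p ⟨hle, hp⟩
      by_contra hap
      exact hr0 (by simpa [hp0 p hp hap] using hle (Ideal.mem_span_singleton_self r))
    obtain ⟨m, hm⟩ := this
    obtain ⟨c, hc⟩ := Ideal.mem_span_singleton.1 hm
    refine ⟨⟨algebraMap R K c * b⁻¹ ^ m * b ^ n, mul_mem (mul_mem (Rf.algebraMap_mem c) (pow_mem hbi m)) (pow_mem (Rf.algebraMap_mem a) n)⟩, Subtype.ext ?_⟩
    show z * (algebraMap R K c * b⁻¹ ^ m * b ^ n) = 1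
    rw [show z * (algebraMap R K c * b⁻¹ ^ m * b ^ n) = (z * b ^ n) * algebraMap R K c * b⁻¹ ^ m by ring, hr, ← map_mul, ← hc, map_pow, ← mul_pow, mul_inv_cancel₀ hb, one_pow]
  refine ⟨a, ha, Rf, hloc, hfield, ?_⟩
  let : Field Rf := hfield.toField
  have : Algebra.FiniteType Rf K := Algebra.FiniteType.of_restrictScalars_finiteType R Rf K
  exact finite_of_finite_type_of_isJacobsonRing Rf K

end Groth.Agent.S9613
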