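import Groth.Statements.S9614
-- import your own Groth.Agent.* helpers here

set_option autoImplicit false
universe u
open CAlg

namespace Groth.Agent.S9614

/-- Let S be an ℕ-graded ring and M a finitely generated graded S-module, graded in nonnegative degrees
(the source allows all integer degrees). If x_1, …, x_n are homogeneous elements of M which generate
M modulo S₊ M (S₊ the irrelevant ideal), then x_1, …, x_n generate M. -/
theorem result {R S : Type u} [CommRing R] [CommRing S] [Algebra R S] (𝒜 : ℕ → Submodule R S) [GradedAlgebra 𝒜]
    (M : Type u) [AddCommGroup M] [Module R M] [Module S M] [IsScalarTower R S M] [Module.Finite S M] (ℳ : ℕ → Submodule R M) [DirectSum.Decomposition ℳ] [SetLike.GradedSMul 𝒜 ℳ]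
    {n : ℕ} (x : Fin n → M) (hx : ∀ i, SetLike.IsHomogeneousElem ℳ (x i))
    (h : Submodule.span S (Set.range x) ⊔ (HomogeneousIdeal.irrelevant 𝒜).toIdeal • (⊤ : Submodule S M) = ⊤) :
    Submodule.span S (Set.range x) = ⊤ := by
  classical
  set N := Submodule.span S (Set.range x) with hN
  have hcomp : ∀ {i j : ℕ} {a : S} {y : M}, a ∈ 𝒜 i → y ∈ ℳ j → ∀ n, (i + j = n → a • y ∈ N) → (DirectSum.decompose ℳ (a • y) n : M) ∈ N := by
    intro i j a y ha hy n hN'
    have hmem : a • y ∈ ℳ (i + j) := by simpa using SetLike.GradedSMul.smul_mem (A := 𝒜) (B := ℳ) ha hy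
    rcases eq_or_ne (i + j) n with rfl | hne
    · rw [DirectSum.decompose_of_mem_same ℳ hmem]; exact hN' rfl
    · rw [DirectSum.decompose_of_mem_ne ℳ hmem hne]; exact zero_mem _
  have hhom : ∀ y ∈ N, ∀ n, (DirectSum.decompose ℳ y n : M) ∈ N := by
    intro y hy
    induction hy using Submodule.closure_induction with
    | zero => intro n; simp
    | add a b _ _ ha hb =>
      intro n
      rw [DirectSum.decompose_add, DirectSum.add_apply, Submodule.coe_add]
      exact add_mem (ha n) (hb n)
    | smul_mem r y hy =>
      obtain ⟨i, rfl⟩ := hy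
      obtain ⟨j, hj⟩ := hx i
      intro n
      induction r using DirectSum.Decomposition.inductionOn 𝒜 with
      | zero => simp
      | homogeneous m => exact hcomp m.2 hj n fun _ => N.smul_mem _ (Submodule.subset_span ⟨i, rfl⟩)
      | add a b ha hb =>
        rw [add_smul, DirectSum.decompose_add, DirectSum.add_apply, Submodule.coe_add]
        exact add_mem ha hb
  have key : ∀ n, ∀ y ∈ ℳ n, y ∈ N := by
    intro n
    induction n using Nat.strong_induction_on with | _ n ih =>
    intro y hy
    obtain ⟨a, ha, b, hb, hab⟩ := Submodule.mem_sup.1 (by rw [h]; exact Submodule.mem_top : y ∈ N ⊔ (HomogeneousIdeal.irrelevant 𝒜).toIdeal • (⊤ : Submodule S M))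
    have hbn : (DirectSum.decompose ℳ b n : M) ∈ N := by
      clear hab
      refine Submodule.smul_induction_on (p := fun b => (DirectSum.decompose ℳ b n : M) ∈ N) hb ?_ ?_
      · intro r hr m hm; clear hm
        induction m using DirectSum.Decomposition.inductionOn ℳ with
        | zero => simp
        | add u v hu hv =>
          rw [smul_add, DirectSum.decompose_add, DirectSum.add_apply, Submodule.coe_add]
          exact add_mem hu hv
        | homogeneous m =>
          rw [← DirectSum.sum_support_decompose 𝒜 r, Finset.sum_smul, DirectSum.decompose_sum, DFinsupp.finsetSum_apply, Submodule.coe_sum]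
          refine sum_mem fun i _ => ?_
          refine hcomp (DirectSum.decompose 𝒜 r i).2 m.2 n fun hin => ?_
          rcases Nat.eq_zero_or_pos i with rfl | hi
          · have : GradedRing.proj 𝒜 0 r = 0 := (HomogeneousIdeal.mem_irrelevant_iff 𝒜 r).1 hr
            rw [GradedRing.proj_apply] at this
            rw [this, zero_smul]; exact zero_mem _
          · exact N.smul_mem _ (ih _ (by omega) _ m.2)
      · intro u v hu hv
        rw [DirectSum.decompose_add, DirectSum.add_apply, Submodule.coe_add]
        exact add_mem hu hv
    rw [← DirectSum.decompose_of_mem_same ℳ hy, ← hab, DirectSum.decompose_add, DirectSum.add_apply, Submodule.coe_add]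
    exact add_mem (hhom a ha n) hbn
  rw [eq_top_iff]
  intro y _
  rw [← DirectSum.sum_support_decompose ℳ y]
  exact sum_mem fun n _ => key n _ (DirectSum.decompose ℳ y n).2

end Groth.Agent.S9614
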