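import Groth.Statements.S9615
import Mathlib.RingTheory.Polynomial.IsIntegral

set_option autoImplicit false
universe u
open CAlg

namespace Groth.Agent.S9615

section
variable {A : Type u} [CommRing A] (𝒜 : ℕ → AddSubgroup A) [GradedRing 𝒜]

/-- `a ↦ ∑ aᵢ Xⁱ`. -/
noncomputable def toPoly : A →+* Polynomial A :=
  (DirectSum.toSemiring (fun i => (Polynomial.monomial i).toAddMonoidHom.comp (𝒜 i).subtype)
    (by simp) (by intros; simp [Polynomial.monomial_mul_monomial])).comp (DirectSum.decomposeRingEquiv 𝒜).toRingHom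

theorem toPoly_of_mem {i : ℕ} {x : A} (hx : x ∈ 𝒜 i) : toPoly 𝒜 x = Polynomial.monomial i x := by
  rw [toPoly, RingHom.comp_apply,
    show (DirectSum.decomposeRingEquiv 𝒜).toRingHom x = DirectSum.of _ i ⟨x, hx⟩ from DirectSum.decompose_of_mem 𝒜 hx,
    ]
  refine (DirectSum.toSemiring_of _ _ _ i _).trans ?_
  rfl

theorem coeff_toPoly (a : A) (i : ℕ) : (toPoly 𝒜 a).coeff i = (DirectSum.decompose 𝒜 a i : A) := by
  induction a using DirectSum.Decomposition.inductionOn 𝒜 with
  | zero => simp
  | homogeneous m =>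
    rename_i j
    rw [toPoly_of_mem 𝒜 m.2, Polynomial.coeff_monomial]
    split_ifs with h
    · subst h; rw [DirectSum.decompose_of_mem_same 𝒜 m.2]
    · rw [DirectSum.decompose_of_mem_ne 𝒜 m.2 h]
  | add a b ha hb => simp [ha, hb, DirectSum.decompose_add]

end

/-- Let R → S be a homomorphism of ℕ-graded rings, i.e. the structure map carries each graded piece R_i
into S_i. If an element s of S is integral over R, then each homogeneous component of s is integral
over R; so the integral closure of R in S is a graded subring of S. -/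
theorem result {R S : Type u} [CommRing R] [CommRing S] [Algebra R S] (ℛ : ℕ → AddSubgroup R) [GradedRing ℛ] (𝒮 : ℕ → AddSubgroup S) [GradedRing 𝒮]
    (hmap : ∀ i : ℕ, ∀ r ∈ ℛ i, algebraMap R S r ∈ 𝒮 i) (s : S) (hs : IsIntegral R s) (i : ℕ) :
    IsIntegral R ((DirectSum.decompose 𝒮 s i : 𝒮 i) : S) := by
  rw [← coeff_toPoly 𝒮]
  let := (Polynomial.algebra (R := R) (A := S))
  refine IsIntegral.coeff ?_ i
  refine hs.map_of_comp_eq (toPoly ℛ) (toPoly 𝒮) ?_
  refine RingHom.ext fun r => ?_
  simp only [RingHom.comp_apply, Polynomial.algebraMap_def, Polynomial.coe_mapRingHom]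
  induction r using DirectSum.Decomposition.inductionOn ℛ with
  | zero => simp
  | homogeneous m => rw [toPoly_of_mem ℛ m.2, Polynomial.map_monomial, toPoly_of_mem 𝒮 (hmap _ _ m.2)]
  | add a b ha hb => simp [ha, hb]

end Groth.Agent.S9615
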