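import Groth.Statements.S9616
-- import your own Groth.Agent.* helpers here

set_option autoImplicit false
universe u
open CAlg

namespace Groth.Agent.S9616

/-- Let S be an ℕ-graded ring, p_1, …, p_r homogeneous prime ideals of S and I ⊆ S₊ a homogeneous ideal
not contained in any p_i. Then there is a homogeneous element x ∈ I of positive degree with x ∉ p_i
for all i. -/
theorem result {R S : Type u} [CommRing R] [CommRing S] [Algebra R S] (𝒜 : ℕ → Submodule R S) [GradedAlgebra 𝒜]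
    {r : ℕ} (p : Fin r → HomogeneousIdeal 𝒜) (hp : ∀ i, (p i).toIdeal.IsPrime) (I : HomogeneousIdeal 𝒜) (hI : I ≤ HomogeneousIdeal.irrelevant 𝒜) (h : ∀ i, ¬ I ≤ p i) :
    ∃ x : S, ∃ d : ℕ, 0 < d ∧ x ∈ 𝒜 d ∧ x ∈ I ∧ ∀ i, x ∉ p i := by
  classical
  have hp' := hp
  suffices ∀ s : Finset (Fin r), ∃ x : S, ∃ d : ℕ, 0 < d ∧ x ∈ 𝒜 d ∧ x ∈ I ∧ ∀ i ∈ s, x ∉ p i by
    obtain ⟨x, d, h1, h2, h3, h4⟩ := this Finset.univ
    exact ⟨x, d, h1, h2, h3, fun i => h4 i (Finset.mem_univ i)⟩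
  intro s
  induction s using Finset.strongInductionOn with | _ s ih =>
  by_cases hred : ∃ i ∈ s, ∃ j ∈ s, i ≠ j ∧ p i ≤ p j
  · obtain ⟨i, hi, j, hj, hij, hle⟩ := hred
    obtain ⟨x, d, h1, h2, h3, h4⟩ := ih _ (Finset.erase_ssubset hi)
    refine ⟨x, d, h1, h2, h3, fun l hl hxl => ?_⟩
    rcases eq_or_ne l i with rfl | hne
    · exact h4 j (Finset.mem_erase.2 ⟨hij.symm, hj⟩) (hle hxl)
    · exact h4 l (Finset.mem_erase.2 ⟨hne, hl⟩) hxl
  push Not at hred
  have hI' : ∀ i, ∃ a : S, ∃ d, 0 < d ∧ a ∈ 𝒜 d ∧ a ∈ I ∧ a ∉ p i := by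
    intro i
    obtain ⟨a, haI, hap⟩ := SetLike.not_le_iff_exists.1 (h i)
    obtain ⟨d, hd⟩ : ∃ d, (DirectSum.decompose 𝒜 a d : S) ∉ p i := by
      by_contra hcon
      push Not at hcon
      apply hap
      rw [← DirectSum.sum_support_decompose 𝒜 a]
      exact sum_mem fun d _ => hcon d
    refine ⟨_, d, Nat.pos_of_ne_zero ?_, (DirectSum.decompose 𝒜 a d).2, I.isHomogeneous d haI, hd⟩
    rintro rfl
    apply hd
    have : GradedRing.proj 𝒜 0 a = 0 := (HomogeneousIdeal.mem_irrelevant_iff 𝒜 a).1 (hI haI)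
    rw [GradedRing.proj_apply] at this
    rw [this]
    exact zero_mem _
  choose a da hda hada haI hap using hI'
  have hz : ∀ i j, i ∈ s → j ∈ s → i ≠ j → ∃ z : S, ∃ e, z ∈ 𝒜 e ∧ z ∈ p j ∧ z ∉ p i := by
    intro i j hi hj hij
    obtain ⟨z, hzj, hzi⟩ := SetLike.not_le_iff_exists.1 (hred j hj i hi hij.symm)
    obtain ⟨d, hd⟩ : ∃ d, (DirectSum.decompose 𝒜 z d : S) ∉ p i := by
      by_contra hcon
      push Not at hcon
      apply hzi
      rw [← DirectSum.sum_support_decompose 𝒜 z]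
      exact sum_mem fun d _ => hcon d
    exact ⟨_, d, (DirectSum.decompose 𝒜 z d).2, (p j).isHomogeneous d hzj, hd⟩
  choose! z ez hze hzj hzi using hz
  let y : Fin r → S := fun i => a i * ∏ j ∈ s.erase i, z i j
  let e : Fin r → ℕ := fun i => da i + ∑ j ∈ s.erase i, ez i j
  have he : ∀ i, 0 < e i := fun i => Nat.add_pos_left (hda i) _
  have hmem : ∀ i ∈ s, y i ∈ 𝒜 (e i) := fun i hi => SetLike.mul_mem_graded (hada i)
    (SetLike.prod_mem_graded _ _ _ fun j hj => hze i j hi (Finset.mem_of_mem_erase hj) (Finset.ne_of_mem_erase hj).symm)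
  let D := ∏ i ∈ s, e i
  have hD : 0 < D := Finset.prod_pos fun i _ => he i
  refine ⟨∑ i ∈ s, y i ^ (D / e i), D, hD, sum_mem fun i hi => ?_, sum_mem fun i hi => ?_, fun i hi hxi => ?_⟩
  · have hm := SetLike.pow_mem_graded (D / e i) (hmem i hi)
    rwa [smul_eq_mul, Nat.div_mul_cancel (Finset.dvd_prod_of_mem _ hi)] at hm
  · have : 0 < D / e i := Nat.div_pos (Nat.le_of_dvd hD (Finset.dvd_prod_of_mem _ hi)) (he i)
    exact I.toIdeal.pow_mem_of_mem (I.toIdeal.mul_mem_right _ (haI i)) _ this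
  · rw [← Finset.add_sum_erase s _ hi] at hxi
    have hrest : ∑ j ∈ s.erase i, y j ^ (D / e j) ∈ p i := sum_mem fun j hj => by
      obtain ⟨hne, hjs⟩ := Finset.mem_erase.1 hj
      have : 0 < D / e j := Nat.div_pos (Nat.le_of_dvd hD (Finset.dvd_prod_of_mem _ hjs)) (he j)
      exact (p i).toIdeal.pow_mem_of_mem ((p i).toIdeal.mul_mem_left _ ((p i).toIdeal.prod_mem (Finset.mem_erase.2 ⟨hne.symm, hi⟩) (hzj j i hjs hi hne))) _ this
    have hy : y i ∈ (p i).toIdeal := (hp i).mem_of_pow_mem _ ((Ideal.add_mem_iff_left _ hrest).1 hxi)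
    refine ((hp i).mem_or_mem hy).elim (hap i) fun hprod => ?_
    obtain ⟨j, hj, hj'⟩ := (hp i).prod_mem_iff.1 hprod
    exact hzi i j hi (Finset.mem_of_mem_erase hj) (Finset.ne_of_mem_erase hj).symm hj'

end Groth.Agent.S9616
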