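import Groth.Statements.S9617
import Mathlib.RingTheory.FiniteType
import Mathlib.Algebra.MvPolynomial.Eval
import Mathlib.RingTheory.Finiteness.Finsupp

set_option autoImplicit false
universe u
open CAlg

namespace Groth.Agent.S9617

/-- Let S be an ℕ-graded ring, presented as a graded algebra over a ring A mapping onto S₀, such that S
is of finite type over A, i.e. over S₀. If M is a finitely generated graded S-module, graded in
nonnegative degrees (the source allows all integer degrees), then each graded piece M_n is a finite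
module over A, i.e. over S₀. -/
theorem result {A S : Type u} [CommRing A] [CommRing S] [Algebra A S] (𝒜 : ℕ → Submodule A S) [GradedAlgebra 𝒜]
    (h0 : ∀ s ∈ 𝒜 0, s ∈ Set.range (algebraMap A S)) [Algebra.FiniteType A S]
    (M : Type u) [AddCommGroup M] [Module A M] [Module S M] [IsScalarTower A S M] [Module.Finite S M] (ℳ : ℕ → Submodule A M) [DirectSum.Decomposition ℳ] [SetLike.GradedSMul 𝒜 ℳ] (n : ℕ) :
    Module.Finite A (ℳ n) := by
  classical
  obtain ⟨G, hG⟩ := (inferInstance : Algebra.FiniteType A S).out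
  let T : Finset (ℕ × S) := G.biUnion fun g => ((DirectSum.decompose 𝒜 g).support.filter (fun d => 0 < d)).image fun d => (d, ((DirectSum.decompose 𝒜 g d : 𝒜 d) : S))
  have hT : ∀ t : T, t.1.2 ∈ 𝒜 t.1.1 ∧ 0 < t.1.1 := by
    rintro ⟨t, ht⟩
    obtain ⟨g, -, h⟩ := Finset.mem_biUnion.1 ht
    obtain ⟨d, hd, rfl⟩ := Finset.mem_image.1 h
    exact ⟨(DirectSum.decompose 𝒜 g d).2, (Finset.mem_filter.1 hd).2⟩
  let φ : MvPolynomial T A →ₐ[A] S := MvPolynomial.aeval fun t : T => t.1.2
  have hφ : Function.Surjective φ := by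
    rw [← AlgHom.range_eq_top, eq_top_iff, ← hG]
    refine Algebra.adjoin_le fun g hg => ?_
    rw [← DirectSum.sum_support_decompose 𝒜 g]
    refine sum_mem fun d hd => ?_
    rcases Nat.eq_zero_or_pos d with rfl | hd0
    · obtain ⟨r, hr⟩ := h0 _ (DirectSum.decompose 𝒜 g 0).2
      exact hr ▸ (φ.range.algebraMap_mem r)
    · exact ⟨MvPolynomial.X ⟨(d, _), Finset.mem_biUnion.2 ⟨g, hg, Finset.mem_image.2 ⟨d, Finset.mem_filter.2 ⟨hd, hd0⟩, rfl⟩⟩⟩, MvPolynomial.aeval_X _ _⟩
  obtain ⟨H, hH⟩ := (inferInstance : Module.Finite S M).fg_top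
  let U : Finset (ℕ × M) := H.biUnion fun h => (DirectSum.decompose ℳ h).support.image fun d => (d, ((DirectSum.decompose ℳ h d : ℳ d) : M))
  have hU : ∀ u : U, u.1.2 ∈ ℳ u.1.1 := by
    rintro ⟨u, hu⟩
    obtain ⟨h, -, h'⟩ := Finset.mem_biUnion.1 hu
    obtain ⟨d, -, rfl⟩ := Finset.mem_image.1 h'
    exact (DirectSum.decompose ℳ h d).2
  let F : Set M := Set.range fun x : (T → Fin (n + 1)) × U => (∏ t : T, t.1.2 ^ (x.1 t : ℕ)) • x.2.1.2
  have hcomp : ∀ y : M, (DirectSum.decompose ℳ y n : M) ∈ Submodule.span A F := by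
    intro y
    have hy : y ∈ Submodule.span S (Set.range fun u : U => u.1.2) := by
      have hle : Submodule.span S (H : Set M) ≤ Submodule.span S (Set.range fun u : U => u.1.2) := by
        refine Submodule.span_le.2 fun h hh => ?_
        rw [SetLike.mem_coe, ← DirectSum.sum_support_decompose ℳ h]
        exact sum_mem fun d hd => Submodule.subset_span ⟨⟨(d, _), Finset.mem_biUnion.2 ⟨h, hh, Finset.mem_image.2 ⟨d, hd, rfl⟩⟩⟩, rfl⟩
      exact hle (hH ▸ Submodule.mem_top)
    induction hy using Submodule.closure_induction with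
    | zero => simp
    | add a b _ _ ha hb => rw [DirectSum.decompose_add, DirectSum.add_apply, Submodule.coe_add]; exact add_mem ha hb
    | smul_mem r z hz =>
      obtain ⟨u, rfl⟩ := hz
      obtain ⟨P, rfl⟩ := hφ r
      induction P using MvPolynomial.induction_on' with
      | add P Q hP hQ => rw [map_add, add_smul, DirectSum.decompose_add, DirectSum.add_apply, Submodule.coe_add]; exact add_mem hP hQ
      | monomial α c =>
        have hmono : φ (MvPolynomial.monomial α c) • u.1.2 = c • ((∏ t : T, t.1.2 ^ α t) • u.1.2) := by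
          rw [MvPolynomial.aeval_monomial, Finsupp.prod_fintype _ _ (fun _ => pow_zero _), mul_smul, algebraMap_smul]
        rw [hmono, DirectSum.decompose_smul, DirectSum.smul_apply, Submodule.coe_smul]
        refine Submodule.smul_mem _ _ ?_
        have hmem : (∏ t : T, t.1.2 ^ α t) • u.1.2 ∈ ℳ ((∑ t : T, α t * t.1.1) + u.1.1) := by
          refine SetLike.GradedSMul.smul_mem (SetLike.prod_mem_graded (A := 𝒜) _ _ fun t _ => ?_) (hU u)
          simpa [mul_comm] using SetLike.pow_mem_graded (A := 𝒜) (α t) (hT t).1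
        rcases eq_or_ne ((∑ t : T, α t * t.1.1) + u.1.1) n with hd | hd
        · rw [← hd, DirectSum.decompose_of_mem_same ℳ hmem]
          refine Submodule.subset_span ⟨(fun t => ⟨α t, Nat.lt_succ_of_le ?_⟩, u), rfl⟩
          calc α t ≤ α t * t.1.1 := Nat.le_mul_of_pos_right _ (hT t).2
            _ ≤ ∑ s : T, α s * s.1.1 := Finset.single_le_sum (f := fun s : T => α s * s.1.1) (fun _ _ => Nat.zero_le _) (Finset.mem_univ t)
            _ ≤ n := by omega
        · rw [DirectSum.decompose_of_mem_ne ℳ hmem hd]; exact zero_mem _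
  have hfin : Module.Finite A (Submodule.span A F) := Module.Finite.span_of_finite A (Set.finite_range _)
  let ψ : Submodule.span A F →ₗ[A] ℳ n :=
    (DirectSum.component A ℕ (fun i => ℳ i) n).comp ((DirectSum.decomposeLinearEquiv ℳ).toLinearMap.comp (Submodule.subtype _))
  refine Module.Finite.of_surjective ψ fun y => ?_
  refine ⟨⟨(y : M), ?_⟩, ?_⟩
  · have := hcomp y; rwa [DirectSum.decompose_of_mem_same ℳ y.2] at this
  · apply Subtype.ext
    exact DirectSum.decompose_of_mem_same ℳ y.2

end Groth.Agent.S9617
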