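import Groth.Statements.S9618
import Groth.Agent.CAlgA.Idempotents

set_option autoImplicit false
universe u
open CAlg

namespace Groth.Agent.S9618

/-- For a ring R and a subset T of Spec R the following are equivalent: (1) T is closed and contains the
connected component of each of its points; (2) T can be written as an intersection of subsets of
Spec R that are both open and closed; (3) T is the common zero locus of some set of idempotent
elements of R (equivalently, of the ideal they generate). -/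
theorem result {R : Type u} [CommRing R] (T : Set (PrimeSpectrum R)) :
    [IsClosed T ∧ ∀ x ∈ T, connectedComponent x ⊆ T,
      ∃ U : Set (Set (PrimeSpectrum R)), (∀ u ∈ U, IsClopen u) ∧ T = ⋂₀ U,
      ∃ E : Set R, (∀ e ∈ E, IsIdempotentElem e) ∧ T = PrimeSpectrum.zeroLocus E].TFAE := by
  tfae_have 1 → 2 := by
    rintro ⟨hT, hc⟩
    refine ⟨{u | IsClopen u ∧ T ⊆ u}, fun u hu => hu.1, Set.Subset.antisymm (fun x hx u hu => hu.2 hx) fun x hx => ?_⟩
    by_contra hxT
    have hdis : T ∩ ⋂ e : {e : R // IsIdempotentElem e ∧ e ∈ x.asIdeal}, PrimeSpectrum.zeroLocus ({e.1} : Set R) = ∅ := by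
      rw [Set.eq_empty_iff_forall_notMem]
      rintro y ⟨hyT, hy⟩
      have hyx : y ∈ connectedComponent x := by
        rw [Groth.Agent.CAlgA.Idempotents.connectedComponent_eq]
        exact fun e he => Set.mem_iInter.1 hy ⟨e, he⟩ rfl
      exact hxT (hc y hyT ((connectedComponent_eq hyx) ▸ mem_connectedComponent))
    obtain ⟨t, ht⟩ := hT.isCompact.elim_finite_subfamily_closed _ (fun e => PrimeSpectrum.isClosed_zeroLocus _) hdis
    let C := ⋂ e ∈ t, PrimeSpectrum.zeroLocus ({e.1} : Set R)
    have hC : IsClopen C := isClopen_biInter_finset fun e _ => PrimeSpectrum.isClopen_iff_zeroLocus.2 ⟨e.1, e.2.1, rfl⟩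
    refine hx Cᶜ ⟨hC.compl, fun y hy hyC => Set.eq_empty_iff_forall_notMem.1 ht y ⟨hy, hyC⟩⟩ ?_
    exact Set.mem_iInter₂.2 fun e _ => by simpa [PrimeSpectrum.mem_zeroLocus] using e.2.2
  tfae_have 2 → 3 := by
    rintro ⟨U, hU, rfl⟩
    refine ⟨{e | IsIdempotentElem e ∧ ⋂₀ U ⊆ PrimeSpectrum.zeroLocus {e}}, fun e he => he.1, Set.Subset.antisymm (fun x hx e he => he.2 hx rfl) fun x hx u hu => ?_⟩
    obtain ⟨e, he, rfl⟩ := PrimeSpectrum.isClopen_iff_zeroLocus.1 (hU u hu)
    exact fun f hf => hf ▸ hx ⟨he, Set.sInter_subset_of_mem hu⟩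
  tfae_have 3 → 1 := by
    rintro ⟨E, hE, rfl⟩
    refine ⟨PrimeSpectrum.isClosed_zeroLocus _, fun x hx y hy e he => ?_⟩
    have := (PrimeSpectrum.isClopen_iff_zeroLocus.2 ⟨e, hE e he, rfl⟩).connectedComponent_subset (x := x) (fun f hf => hf ▸ hx he) hy
    exact this rfl
  tfae_finish

end Groth.Agent.S9618
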