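import Groth.Statements.S9621
-- import your own Groth.Agent.* helpers here

set_option autoImplicit false
universe u
open CAlg

namespace Groth.Agent.S9621

/-- Let R be a ring, p a minimal prime of R and W a quasi-compact open subset of Spec R not containing
p. Then there is an f ∈ R, f ∉ p, whose basic open D(f) is disjoint from W. -/
theorem result {R : Type u} [CommRing R] (p : PrimeSpectrum R) (hp : p.asIdeal ∈ minimalPrimes R) (W : Set (PrimeSpectrum R)) (hWo : IsOpen W) (hWc : IsCompact W) (hpW : p ∉ W) :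
    ∃ f : R, f ∉ p.asIdeal ∧ Disjoint (PrimeSpectrum.basicOpen f : Set (PrimeSpectrum R)) W := by
  have hinc : ∀ g : R, g ∈ p.asIdeal → ∃ h : R, h ∉ p.asIdeal ∧ IsNilpotent (g * h) := by
    intro g hg
    obtain ⟨h, hh, n, hn⟩ : ∃ h ∉ p.asIdeal, ∃ n : ℕ, h * g ^ n = 0 := by
      by_contra hcon
      push Not at hcon
      let T : Submonoid R := p.asIdeal.primeCompl ⊔ Submonoid.powers g
      have h0 : (0:R) ∉ T := by
        rintro h
        obtain ⟨a, ha, b, ⟨n, rfl⟩, hab⟩ := Submonoid.mem_sup.1 h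
        exact hcon a ha n hab
      obtain ⟨q, hq, -, hdis⟩ := Ideal.exists_le_prime_disjoint (⊥ : Ideal R) T (by
        rw [Set.disjoint_left]; rintro x hx hx'; exact h0 ((Ideal.mem_bot.1 hx) ▸ hx'))
      have hqp : q ≤ p.asIdeal := fun x hx => by
        by_contra hxp
        exact Set.disjoint_left.1 hdis hx ((le_sup_left : p.asIdeal.primeCompl ≤ T) hxp)
      have := hp.2 ⟨hq, bot_le⟩ hqp
      exact Set.disjoint_left.1 hdis (this hg) ((le_sup_right : _ ≤ T) (Submonoid.mem_powers g))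
    refine ⟨h, hh, n + 1, ?_⟩
    rw [mul_pow, pow_succ g, pow_succ' h, show g ^ n * g * (h * h ^ n) = (h * g ^ n) * (g * h ^ n) by ring, hn, zero_mul]
  have hcov : ∀ x ∈ W, ∃ g : R, x ∈ (PrimeSpectrum.basicOpen g : Set (PrimeSpectrum R)) ∧ (PrimeSpectrum.basicOpen g : Set (PrimeSpectrum R)) ⊆ W := fun x hx => by
    obtain ⟨_, ⟨g, rfl⟩, h1, h2⟩ := PrimeSpectrum.isTopologicalBasis_basic_opens.exists_subset_of_mem_open hx hWo
    exact ⟨g, h1, h2⟩
  choose! g hg1 hg2 using hcov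
  have hgp : ∀ x ∈ W, g x ∈ p.asIdeal := fun x hx => by
    by_contra h
    exact hpW (hg2 x hx h)
  choose! h hh1 hh2 using fun x (hx : x ∈ W) => hinc _ (hgp x hx)
  obtain ⟨t, htW, ht⟩ := hWc.elim_nhds_subcover (fun x => (PrimeSpectrum.basicOpen (g x) : Set (PrimeSpectrum R)))
    (fun x hx => (PrimeSpectrum.basicOpen (g x)).2.mem_nhds (hg1 x hx))
  refine ⟨∏ x ∈ t, h x, fun hmem => ?_, ?_⟩
  · obtain ⟨x, hx, hx'⟩ := (p.isPrime.prod_mem_iff).1 hmem
    exact hh1 x (htW x hx) hx'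
  · rw [Set.disjoint_left]
    intro q hq hqW
    obtain ⟨x, hx, hqx⟩ := Set.mem_iUnion₂.1 (ht hqW)
    have hn : g x * h x ∈ q.asIdeal := by
      obtain ⟨n, hn⟩ := hh2 x (htW x hx)
      exact q.isPrime.mem_of_pow_mem n (hn ▸ q.asIdeal.zero_mem)
    exact (q.isPrime.mem_or_mem hn).elim hqx fun hm => hq (q.asIdeal.prod_mem hx hm)

end Groth.Agent.S9621
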