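import Groth.Statements.S9622
import Mathlib.RingTheory.HopkinsLevitzki
import Mathlib.RingTheory.Finiteness.Subalgebra
-- import your own Groth.Agent.* helpers here

set_option autoImplicit false
universe u
open CAlg

namespace Groth.Agent.S9622

theorem top_eq_of_sup_eq_top {R S : Type u} [CommRing R] [CommRing S] [Algebra R S]
    (A J : Submodule R S) (h : A ⊔ J * ⊤ = ⊤) (n : ℕ) :
    (⨆ i : Fin n, J ^ (i : ℕ) * A) ⊔ J ^ n * ⊤ = ⊤ := by
  induction n with
  | zero => rw [pow_zero, Submodule.one_mul, sup_top_eq]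
  | succ n ih =>
    rw [eq_top_iff]
    nth_rw 1 [← ih]
    refine sup_le (iSup_le fun i => le_sup_of_le_left (le_iSup_of_le i.castSucc le_rfl)) ?_
    nth_rw 1 [← h]
    rw [Submodule.mul_sup, ← mul_assoc, ← pow_succ]
    exact sup_le_sup (le_iSup_of_le (Fin.last n) le_rfl) le_rfl

/-- Let R → S be a ring map whose target S is a local Artinian ring, and write m for the maximal ideal
of S. Then S is a finite R-module exactly when S/m is, and S is an R-algebra of finite type exactly
when S/m is. -/
theorem result {R S : Type u} [CommRing R] [CommRing S] [Algebra R S] [IsArtinianRing S] [IsLocalRing S] :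
    (Module.Finite R S ↔ Module.Finite R (S ⧸ IsLocalRing.maximalIdeal S)) ∧
      (Algebra.FiniteType R S ↔ Algebra.FiniteType R (S ⧸ IsLocalRing.maximalIdeal S)) := by
  classical
  set m := IsLocalRing.maximalIdeal S with hm
  obtain ⟨N, hN⟩ : IsNilpotent m := by
    rw [hm, ← IsLocalRing.jacobson_eq_maximalIdeal ⊥ bot_ne_top]
    exact IsArtinianRing.isNilpotent_jacobson_bot
  obtain ⟨x, hx⟩ : m.FG := IsNoetherian.noetherian m
  let J : Submodule R S := Submodule.span R (x : Set S)
  have hJN : J ^ N * ⊤ = ⊥ := by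
    have hle : ∀ k, J ^ k ≤ (m ^ k).restrictScalars R := by
      intro k
      induction k with
      | zero => simp
      | succ k ih =>
        rw [pow_succ, Submodule.mul_le]
        intro a ha b hb
        rw [pow_succ]
        refine Ideal.mul_mem_mul (ih ha) ?_
        rw [← hx]
        exact Submodule.span_subset_span R S _ hb
    rw [eq_bot_iff, Submodule.mul_le]
    intro a ha b _
    have := hle N ha
    rw [hN] at this
    simp only [Submodule.restrictScalars_mem] at this
    rw [Ideal.zero_eq_bot, Ideal.mem_bot] at this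
    simp [this]
  have hsup : ∀ A : Submodule R S, (∀ s : S, ∃ a ∈ A, s - a ∈ m) → A ⊔ J * ⊤ = ⊤ := by
    intro A hA
    rw [eq_top_iff]
    intro s _
    obtain ⟨a, ha, hsa⟩ := hA s
    refine Submodule.mem_sup.2 ⟨a, ha, s - a, ?_, add_sub_cancel _ _⟩
    rw [← hx] at hsa
    obtain ⟨f, hf⟩ := Submodule.mem_span_finset.1 hsa
    rw [← hf.2]
    refine sum_mem fun i hi => ?_
    rw [smul_eq_mul, mul_comm]
    exact Submodule.mul_mem_mul Submodule.mem_top (Submodule.subset_span hi)
  refine ⟨⟨fun h => inferInstance, fun h => ?_⟩, ⟨fun h => inferInstance, fun h => ?_⟩⟩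
  · obtain ⟨t, ht⟩ := h.fg_top
    choose l hl using Ideal.Quotient.mk_surjective (I := m)
    let A : Submodule R S := Submodule.span R ((t.image l : Finset S) : Set S)
    have hA : ∀ s : S, ∃ a ∈ A, s - a ∈ m := by
      intro s
      have hmem : Ideal.Quotient.mk m s ∈ A.map (Ideal.Quotient.mkₐ R m).toLinearMap := by
        have : Submodule.span R (t : Set (S ⧸ m)) ≤ A.map (Ideal.Quotient.mkₐ R m).toLinearMap :=
          Submodule.span_le.2 fun y hy => ⟨l y, Submodule.subset_span (by simp only [Finset.coe_image]; exact ⟨y, hy, rfl⟩), hl y⟩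
        exact this (ht ▸ Submodule.mem_top)
      obtain ⟨a, ha, ha'⟩ := hmem
      exact ⟨a, ha, Ideal.Quotient.eq.1 ha'.symm⟩
    have htop := top_eq_of_sup_eq_top A J (hsup A hA) N
    rw [hJN, sup_bot_eq] at htop
    refine ⟨htop ▸ Submodule.fg_iSup _ fun i => ?_⟩
    exact (Submodule.FG.pow ⟨x, rfl⟩ _).mul ⟨_, rfl⟩
  · obtain ⟨t, ht⟩ := h.out
    choose l hl using Ideal.Quotient.mk_surjective (I := m)
    let B := Algebra.adjoin R ((t.image l ∪ x : Finset S) : Set S)
    have hA : ∀ s : S, ∃ a ∈ B.toSubmodule, s - a ∈ m := by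
      intro s
      have hmem : Ideal.Quotient.mk m s ∈ B.map (Ideal.Quotient.mkₐ R m) := by
        have : Algebra.adjoin R (t : Set (S ⧸ m)) ≤ B.map (Ideal.Quotient.mkₐ R m) :=
          Algebra.adjoin_le fun y hy => ⟨l y, Algebra.subset_adjoin (by simp only [Finset.coe_union, Finset.coe_image]; exact Or.inl ⟨y, hy, rfl⟩), hl y⟩
        exact this (ht ▸ Algebra.mem_top)
      obtain ⟨a, ha, ha'⟩ := hmem
      exact ⟨a, ha, Ideal.Quotient.eq.1 ha'.symm⟩
    have htop := top_eq_of_sup_eq_top B.toSubmodule J (hsup _ hA) N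
    rw [hJN, sup_bot_eq] at htop
    have hJB : ∀ k, J ^ k * B.toSubmodule ≤ B.toSubmodule := by
      intro k
      induction k with
      | zero => rw [pow_zero, Submodule.one_mul]
      | succ k ih =>
        rw [pow_succ', mul_assoc, Submodule.mul_le]
        intro a ha b hb
        refine B.mul_mem ?_ (ih hb)
        exact (Submodule.span_le (p := B.toSubmodule)).2 (fun z hz => Algebra.subset_adjoin (by simp only [Finset.coe_union]; exact Or.inr hz)) ha
    refine ⟨⟨t.image l ∪ x, eq_top_iff.2 fun s _ => ?_⟩⟩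
    exact (iSup_le fun i : Fin N => hJB i) (htop ▸ Submodule.mem_top : s ∈ ⨆ i : Fin N, J ^ (i : ℕ) * B.toSubmodule)

end Groth.Agent.S9622
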