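import Groth.Statements.S9624
import Groth.Agent.CAlgA.GeomTensor

set_option autoImplicit false
universe u
open CAlg

namespace Groth.Agent.S9624

open TensorProduct in
/-- Let k be a field, S a geometrically connected k-algebra (the spectrum of k' ⊗_k S is connected for
every field extension k'/k) and R any k-algebra. Then the map R → R ⊗_k S induces a bijection on
idempotents: each idempotent of R ⊗_k S comes from exactly one idempotent of R. Here the test fields
range over field extensions in the universe of k; this is equivalent to the unrestricted notion,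
since an algebraic closure of k suffices as a test. -/
theorem result {k R S : Type u} [Field k] [CommRing R] [CommRing S] [Algebra k R] [Algebra k S]
    (hS : ∀ (k' : Type u) [Field k'] [Algebra k k'], ConnectedSpace (PrimeSpectrum (k' ⊗[k] S)))
    (x : R ⊗[k] S) (hx : IsIdempotentElem x) :
    ∃! e : R, IsIdempotentElem e ∧ algebraMap R (R ⊗[k] S) e = x := by
  have hfib : ∀ p : PrimeSpectrum R, ConnectedSpace (PrimeSpectrum (p.asIdeal.ResidueField ⊗[k] S)) :=
    fun p => hS _
  have : Nontrivial S := by
    have := (hS k).toNonempty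
    have : Nontrivial (k ⊗[k] S) := PrimeSpectrum.nonempty_iff_nontrivial.1 this
    exact (Algebra.TensorProduct.lid k S).symm.toEquiv.nontrivial
  have hinj : Function.Injective (algebraMap R (R ⊗[k] S)) :=
    Algebra.TensorProduct.includeLeft_injective (S := R) (RingHom.injective (algebraMap k S))
  let U : Set (PrimeSpectrum (R ⊗[k] S)) := PrimeSpectrum.basicOpen x
  have hU : IsClopen U := PrimeSpectrum.isClopen_iff.2 ⟨x, hx, rfl⟩
  let f := PrimeSpectrum.comap (algebraMap R (R ⊗[k] S))
  have hf : IsOpenMap f := PrimeSpectrum.isOpenMap_comap_algebraMap_tensorProduct_of_field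
  have hsat : ∀ {a b}, f a = f b → a ∈ U → b ∈ U := fun h =>
    Groth.Agent.CAlgA.GeomTensor.connected_fibre_apart (fun p => (hfib p).toPreconnectedSpace) hU h
  have hcl : IsClopen (f '' U) := by
    refine ⟨⟨?_⟩, hf U hU.isOpen⟩
    convert hf Uᶜ hU.compl.isOpen using 1
    ext p
    constructor
    · intro hp
      obtain ⟨a, ha⟩ := Groth.Agent.CAlgA.GeomTensor.surjective_comap_tensor (k := k) (S := S) p
      exact ⟨a, fun haU => hp ⟨a, haU, ha⟩, ha⟩
    · rintro ⟨a, ha, rfl⟩ ⟨b, hb, hba⟩
      exact ha (hsat hba hb)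
  obtain ⟨e, he, hee⟩ := PrimeSpectrum.isClopen_iff.1 hcl
  refine ⟨e, ⟨he, ?_⟩, fun e' he' => hinj (he'.2.trans ?_)⟩
  swap; symm
  all_goals
    refine PrimeSpectrum.basicOpen_injOn_isIdempotentElem (he.map _) hx (SetLike.coe_injective ?_)
    ext a
    change (algebraMap R (R ⊗[k] S) e ∉ a.asIdeal) ↔ a ∈ U
    have : f a ∈ (PrimeSpectrum.basicOpen e : Set (PrimeSpectrum R)) ↔ a ∈ U := by
      rw [← hee]
      exact ⟨fun ⟨b, hb, hba⟩ => hsat hba hb, fun h => ⟨a, h, rfl⟩⟩
    exact this

end Groth.Agent.S9624
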