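import Groth.Statements.S9626
import Groth.Agent.CAlgA.GeomTensor
import Mathlib.RingTheory.Ideal.GoingDown
import Mathlib.RingTheory.Flat.Stability

set_option autoImplicit false
universe u
open CAlg

namespace Groth.Agent.S9626

open TensorProduct in
/-- Let k be a field, S a k-algebra with Spec(k' ⊗_k S) irreducible for every field extension k'/k, and
R any k-algebra. Then Spec(R ⊗_k S) → Spec(R) induces a bijection on irreducible components: taking
inverse images along R → R ⊗_k S maps the set of minimal primes of R ⊗_k S bijectively onto the set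
of minimal primes of R. Here the test fields range over field extensions in the universe of k; this
is equivalent to the unrestricted notion, since an algebraic closure of k suffices as a test. -/
theorem result {k R S : Type u} [Field k] [CommRing R] [CommRing S] [Algebra k R] [Algebra k S]
    (hS : ∀ (k' : Type u) [Field k'] [Algebra k k'], IrreducibleSpace (PrimeSpectrum (k' ⊗[k] S))) :
    Set.BijOn (Ideal.comap (algebraMap R (R ⊗[k] S))) (minimalPrimes (R ⊗[k] S)) (minimalPrimes R) := by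
  let f := PrimeSpectrum.comap (algebraMap R (R ⊗[k] S))
  have : Nontrivial S := by
    have := (hS k).toNonempty
    have : Nontrivial (k ⊗[k] S) := PrimeSpectrum.nonempty_iff_nontrivial.1 this
    exact (Algebra.TensorProduct.lid k S).symm.toEquiv.nontrivial
  have hleast : ∀ p : PrimeSpectrum R, ∃ q, f q = p ∧ ∀ q', f q' = p → q ≤ q' := by
    intro p
    let e := (Groth.Agent.CAlgA.GeomTensor.fibreHomeo (k := k) (S := S) p)
    have := hS p.asIdeal.ResidueField
    let η : PrimeSpectrum (p.asIdeal.ResidueField ⊗[k] S) :=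
      ⟨nilradical _, PrimeSpectrum.irreducibleSpace_iff_isPrime_nilradical.1 this⟩
    refine ⟨(e.symm η).1, (e.symm η).2, fun q' hq' => ?_⟩
    have h1 : η ≤ e ⟨q', hq'⟩ := nilradical_le_prime _
    rw [PrimeSpectrum.le_iff_specializes] at h1 ⊢
    have := h1.map (continuous_subtype_val.comp e.symm.continuous)
    simpa using this
  refine ⟨?_, ?_, ?_⟩
  · intro Q hQ
    refine ⟨⟨hQ.1.1.comap _, bot_le⟩, fun p hp hle => ?_⟩
    have := hQ.1.1
    have := hp.1
    obtain ⟨Q', hQ'le, hQ', hover⟩ := Ideal.exists_ideal_le_liesOver_of_le (p := p) (q := Q.comap (algebraMap R (R ⊗[k] S))) Q hle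
    have : Q' = Q := le_antisymm hQ'le (hQ.2 ⟨hQ', bot_le⟩ hQ'le)
    rw [hover.over, this]
  · intro Q₁ h1 Q₂ h2 heq
    obtain ⟨q, hq, hqle⟩ := hleast ⟨Q₁.comap (algebraMap R (R ⊗[k] S)), h1.1.1.comap _⟩
    have l1 : q.asIdeal ≤ Q₁ := hqle ⟨Q₁, h1.1.1⟩ rfl
    have l2 : q.asIdeal ≤ Q₂ := hqle ⟨Q₂, h2.1.1⟩ (PrimeSpectrum.ext heq.symm)
    exact (le_antisymm (h1.2 ⟨q.isPrime, bot_le⟩ l1) l1).trans (le_antisymm l2 (h2.2 ⟨q.isPrime, bot_le⟩ l2))
  · intro p hp
    obtain ⟨q, hq, -⟩ := hleast ⟨p, hp.1.1⟩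
    obtain ⟨Q, hQ, hQle⟩ := Ideal.exists_minimalPrimes_le (I := ⊥) (J := q.asIdeal) bot_le
    refine ⟨Q, hQ, ?_⟩
    have hle : Q.comap (algebraMap R (R ⊗[k] S)) ≤ p := by
      have : q.asIdeal.comap (algebraMap R (R ⊗[k] S)) = p := congrArg PrimeSpectrum.asIdeal hq
      exact this ▸ Ideal.comap_mono hQle
    exact le_antisymm hle (hp.2 ⟨hQ.1.1.comap _, bot_le⟩ hle)

end Groth.Agent.S9626
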