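import Groth.Statements.S9627
import Groth.Agent.CAlgA.GeomTensor

set_option autoImplicit false
universe u
open CAlg

namespace Groth.Agent.S9627

open TensorProduct in
/-- Let K/k be a field extension such that Spec(k' ⊗_k K) is irreducible for every field extension k'/k,
and let S be a K-algebra such that Spec(K' ⊗_K S) is irreducible for every field extension K'/K.
Then Spec(k' ⊗_k S) is irreducible for every field extension k'/k: S is geometrically irreducible
over k. Here the test fields k'/k and K'/K range over field extensions in the common universe of k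
and K; this is equivalent to the unrestricted notions, since an algebraic closure of the base field
suffices as a test. -/
theorem result {k K S : Type u} [Field k] [Field K] [Algebra k K] [CommRing S] [Algebra K S] [Algebra k S] [IsScalarTower k K S]
    (hK : ∀ (k' : Type u) [Field k'] [Algebra k k'], IrreducibleSpace (PrimeSpectrum (k' ⊗[k] K)))
    (hS : ∀ (K' : Type u) [Field K'] [Algebra K K'], IrreducibleSpace (PrimeSpectrum (K' ⊗[K] S))) :
    ∀ (k' : Type u) [Field k'] [Algebra k k'], IrreducibleSpace (PrimeSpectrum (k' ⊗[k] S)) := by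
  intro k' _ _
  have := hK k'
  have hfib : ∀ p : PrimeSpectrum (k' ⊗[k] K), True := fun _ => trivial
  let : Algebra K (k' ⊗[k] K) := Algebra.TensorProduct.rightAlgebra
  have h : IrreducibleSpace (PrimeSpectrum ((k' ⊗[k] K) ⊗[K] S)) :=
    Groth.Agent.CAlgA.GeomTensor.irreducibleSpace_tensor fun p => hS p.asIdeal.ResidueField
  let e1 : (k' ⊗[k] K) ⊗[K] S ≃+* S ⊗[K] (K ⊗[k] k') :=
    ((Algebra.TensorProduct.comm K (k' ⊗[k] K) S).toRingEquiv).trans
      (Algebra.TensorProduct.congr (AlgEquiv.refl : S ≃ₐ[K] S)
        ({ (Algebra.TensorProduct.comm k k' K).toRingEquiv with commutes' := fun r => by rfl } : (k' ⊗[k] K) ≃ₐ[K] K ⊗[k] k')).toRingEquiv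
  let e := (e1.trans (Algebra.TensorProduct.cancelBaseChange k K S S k').toRingEquiv).trans (Algebra.TensorProduct.comm k S k').toRingEquiv
  exact (PrimeSpectrum.homeomorphOfRingEquiv e).irreducibleSpace_iff.1 h

end Groth.Agent.S9627
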