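import Groth.Statements.S9634
import Groth.Agent.CAlgA.GeomTensor
import Mathlib.FieldTheory.PurelyInseparable.PerfectClosure

set_option autoImplicit false
universe u
open CAlg

namespace Groth.Agent.S9634

open TensorProduct in
theorem reduced_of_perfect {k S : Type u} [Field k] [CommRing S] [Algebra k S] (E L : Type u) [Field E] [PerfectField E]
    [Field L] [Algebra k E] [Algebra k L] [Algebra E L] [IsScalarTower k E L] [IsReduced (E ⊗[k] S)] :
    IsReduced (L ⊗[k] S) := by
  have : Algebra.IsGeometricallyReduced E (E ⊗[k] S) :=
    Groth.Agent.FBase.TensorAlgClosed.isGeometricallyReduced_of_perfectField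
  have : IsReduced (L ⊗[E] (E ⊗[k] S)) :=
    Groth.Agent.FBase.TensorAlgClosed.isReduced_tensor_of_isGeometricallyReduced
  exact isReduced_of_injective (Algebra.TensorProduct.cancelBaseChange k E L L S).symm (AlgEquiv.injective _)

open TensorProduct in
/-- (1) ⇔ (4) ⇔ (5): for a field k and a k-algebra S the following are equivalent: (1) the ring k' ⊗_k S
is reduced whenever k'/k is a finite purely inseparable field extension; (4) S is geometrically
reduced in Mathlib's sense, which over a field amounts to k̄ ⊗_k S being reduced for an algebraic
closure k̄; (5) K ⊗_k S is reduced for all field extensions K/k. In (1) and (5) the test fields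
range over field extensions in the universe of k; this is equivalent to the unrestricted notion,
since an algebraic closure of k suffices as a test. -/
theorem result {k S : Type u} [Field k] [CommRing S] [Algebra k S] :
    [∀ (k' : Type u) [Field k'] [Algebra k k'] [Module.Finite k k'] [IsPurelyInseparable k k'], IsReduced (k' ⊗[k] S),
      Algebra.IsGeometricallyReduced k S,
      ∀ (K : Type u) [Field K] [Algebra k K], IsReduced (K ⊗[k] S)].TFAE := by
  tfae_have 1 → 2 := by
    intro h
    rw [Algebra.isGeometricallyReduced_field_iff]
    let E := perfectClosure k (AlgebraicClosure k)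
    have : IsReduced (E ⊗[k] S) := Groth.Agent.CAlgA.GeomTensor.isReduced_of_finite fun F hF => by
      have : IsPurelyInseparable k F := IsPurelyInseparable.tower_bot k F E
      exact h F
    exact reduced_of_perfect E (AlgebraicClosure k)
  tfae_have 2 → 3 := fun h K _ _ => Groth.Agent.FBase.TensorAlgClosed.isReduced_tensor_of_isGeometricallyReduced
  tfae_have 3 → 1 := fun h k' _ _ _ _ => h k'
  tfae_finish

end Groth.Agent.S9634
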