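import Groth.Statements.S9635
import Groth.Agent.CAlgA.VNR
import Mathlib.LinearAlgebra.TensorProduct.RightExactness

set_option autoImplicit false
universe u
open CAlg

namespace Groth.Agent.S9635

open TensorProduct in
/-- Let k ⊆ k' be fields with k' separable algebraic over k, and A a k'-algebra. Then A is geometrically
reduced over k (K ⊗_k A reduced for all field extensions K/k) if and only if A is geometrically
reduced over k' (K ⊗_{k'} A reduced for all field extensions K/k'). Here the test fields K range
over field extensions (of k, respectively of k') in the common universe of k and k'; this is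
equivalent to the unrestricted notions, since an algebraic closure of the base field suffices as a
test. -/
theorem result {k k' A : Type u} [Field k] [Field k'] [Algebra k k'] [Algebra.IsSeparable k k'] [CommRing A] [Algebra k' A] [Algebra k A] [IsScalarTower k k' A] :
    (∀ (K : Type u) [Field K] [Algebra k K], IsReduced (K ⊗[k] A)) ↔
      ∀ (K : Type u) [Field K] [Algebra k' K], IsReduced (K ⊗[k'] A) := by
  constructor
  · intro h K _ _
    let : Algebra k K := ((algebraMap k' K).comp (algebraMap k k')).toAlgebra
    have : IsScalarTower k k' K := IsScalarTower.of_algebraMap_eq fun _ => rfl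
    have hP : IsReduced (K ⊗[k] k') := Groth.Agent.CAlgA.VNR.isReduced_tensor_separable K k'
    have hKA : IsReduced (K ⊗[k] A) := h K
    have : IsReduced (A ⊗[k] K) := isReduced_of_injective (Algebra.TensorProduct.comm k A K) (AlgEquiv.injective _)
    have : IsReduced (A ⊗[k'] (k' ⊗[k] K)) :=
      isReduced_of_injective (Algebra.TensorProduct.cancelBaseChange k k' A A K) (AlgEquiv.injective _)
    let π : k' ⊗[k] K →ₐ[k'] K :=
      Algebra.TensorProduct.lift (Algebra.ofId k' K) (AlgHom.id k K) (fun _ _ => Commute.all _ _)
    have hπ : Function.Surjective π := fun x => ⟨1 ⊗ₜ x, by simp [π]⟩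
    let c : K ⊗[k] k' ≃+* k' ⊗[k] K := (Algebra.TensorProduct.comm k K k').toRingEquiv
    let g : K ⊗[k] k' →+* A ⊗[k'] (k' ⊗[k] K) :=
      (Algebra.TensorProduct.includeRight (R := k') (A := A) (B := k' ⊗[k] K)).toRingHom.comp c.toRingHom
    let f := Algebra.TensorProduct.map (AlgHom.id k' A) π
    have hf : Function.Surjective f := by
      intro z
      induction z using TensorProduct.induction_on with
      | zero => exact ⟨0, map_zero f⟩
      | tmul a x => obtain ⟨y, rfl⟩ := hπ x; exact ⟨a ⊗ₜ y, by simp [f]⟩
      | add a b ha hb => obtain ⟨x, rfl⟩ := ha; obtain ⟨y, rfl⟩ := hb; exact ⟨x + y, map_add f x y⟩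
    have hker : RingHom.ker f.toRingHom = ((RingHom.ker π.toRingHom).comap c.toRingHom).map g := by
      rw [← Ideal.map_map, Ideal.map_comap_of_surjective c.toRingHom c.surjective]
      exact Algebra.TensorProduct.lTensor_ker π hπ
    have : IsReduced (A ⊗[k'] K) :=
      Groth.Agent.CAlgA.VNR.isReduced_of_surjective_of_ker (k := K) g f.toRingHom hf _ hker
    exact isReduced_of_injective (Algebra.TensorProduct.comm k' K A) (AlgEquiv.injective _)
  · intro h K _ _
    have : Algebra.IsGeometricallyReduced k' A := by
      rw [Algebra.isGeometricallyReduced_field_iff]; exact h _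
    have : IsReduced (K ⊗[k] k') := Groth.Agent.CAlgA.VNR.isReduced_tensor_separable K k'
    have : IsReduced (k' ⊗[k] K) := isReduced_of_injective (Algebra.TensorProduct.comm k k' K) (AlgEquiv.injective _)
    have : IsReduced ((k' ⊗[k] K) ⊗[k'] A) :=
      Groth.Agent.FBase.TensorAlgClosed.isReduced_tensor_of_isReduced_of_isGeometricallyReduced
    have : IsReduced (A ⊗[k] K) := isReduced_of_injective
      ((Algebra.TensorProduct.cancelBaseChange k k' A A K).symm.toRingEquiv.trans (Algebra.TensorProduct.comm k' A (k' ⊗[k] K)).toRingEquiv)
      (RingEquiv.injective _)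
    exact isReduced_of_injective (Algebra.TensorProduct.comm k K A) (AlgEquiv.injective _)

end Groth.Agent.S9635
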