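import Groth.Statements.S9636
import Groth.Agent.CAlgA.VNR
import Mathlib.RingTheory.IntegralClosure.IsIntegralClosure.Basic
import Mathlib.RingTheory.Localization.Basic

set_option autoImplicit false
universe u
open CAlg

namespace Groth.Agent.S9636

open TensorProduct in
/-- Let k'/k be a separable algebraic field extension. Then for some multiplicative subset S of k' ⊗_k
k' the multiplication map k' ⊗_k k' → k' is a localization at S: there is a ring isomorphism S⁻¹(k'
⊗_k k') ≅ k' carrying the localization map to the multiplication map. -/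
theorem result {k k' : Type u} [Field k] [Field k'] [Algebra k k'] [Algebra.IsSeparable k k'] :
    ∃ (S : Submonoid (k' ⊗[k] k')) (e : Localization S ≃+* k'), ∀ x : k' ⊗[k] k', e (algebraMap (k' ⊗[k] k') (Localization S) x) = Algebra.TensorProduct.lmul' (S := k') k x := by
  classical
  have hred : IsReduced (k' ⊗[k] k') := Groth.Agent.CAlgA.VNR.isReduced_tensor_separable k' k'
  let μ := (Algebra.TensorProduct.lmul' (S := k') k).toRingHom
  let S : Submonoid (k' ⊗[k] k') := (nonZeroDivisors k').comap μ
  let : Algebra (k' ⊗[k] k') k' := μ.toAlgebra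
  have hloc : IsLocalization S k' := by
    refine (isLocalization_iff S k').2 ⟨fun y => isUnit_iff_ne_zero.2 (nonZeroDivisors.ne_zero y.2), fun z => ⟨(z ⊗ₜ 1, 1), ?_⟩, fun {x y} h => ?_⟩
    · change z * μ 1 = μ (z ⊗ₜ[k] (1 : k'))
      rw [map_one, mul_one]
      exact (mul_one z).symm
    · obtain ⟨b, hb⟩ := Groth.Agent.CAlgA.VNR.exists_sq_mul (k := k') (x - y)
      have hμ : μ (x - y) = 0 := by rw [map_sub]; exact sub_eq_zero.2 h
      have he : μ (1 - (x - y) * b) = 1 := by rw [map_sub, map_mul, hμ, zero_mul, sub_zero, map_one]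
      refine ⟨⟨1 - (x - y) * b, ?_⟩, ?_⟩
      · show μ _ ∈ nonZeroDivisors k'
        rw [he]
        exact one_mem _
      · change (1 - (x - y) * b) * x = (1 - (x - y) * b) * y
        linear_combination hb
  refine ⟨S, (IsLocalization.algEquiv S (Localization S) k').toRingEquiv, fun x => ?_⟩
  exact (IsLocalization.algEquiv S (Localization S) k').commutes x

end Groth.Agent.S9636
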