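import Groth.Statements.S9637
import Mathlib.RingTheory.Ideal.AssociatedPrime.Finiteness

set_option autoImplicit false
universe u
open CAlg

namespace Groth.Agent.S9637

/-- Let R be a local Noetherian ring, I an ideal contained in its maximal ideal, and M a finite
R-module. Then I contains an M-regular element (one acting injectively on M) if and only if no
associated prime of M contains I. -/
theorem result {R : Type u} [CommRing R] [IsNoetherianRing R] [IsLocalRing R] (I : Ideal R) (hI : I ≤ IsLocalRing.maximalIdeal R) (M : Type u) [AddCommGroup M] [Module R M] [Module.Finite R M] :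
    (∃ x ∈ I, IsSMulRegular M x) ↔ ∀ q ∈ associatedPrimes R M, ¬ I ≤ q := by
  constructor
  · rintro ⟨x, hx, hreg⟩ q hq hIq
    have : x ∈ ⋃ p ∈ associatedPrimes R M, (p : Set R) := Set.mem_biUnion hq (hIq hx)
    rw [biUnion_associatedPrimes_eq_zero_divisors] at this
    obtain ⟨m, hm, hxm⟩ := this
    exact hm (hreg (by simpa using hxm))
  · intro h
    have hfin := associatedPrimes.finite R M
    have : ¬ ((I : Set R) ⊆ ⋃ p ∈ (↑hfin.toFinset : Set (Ideal R)), (p : Set R)) := by
      rw [Ideal.subset_union_prime (f := fun p => p) ⊥ ⊥ (fun p hp _ _ => (hfin.mem_toFinset.1 hp).isPrime)]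
      rintro ⟨p, hp, hle⟩
      exact h p (hfin.mem_toFinset.1 hp) hle
    obtain ⟨x, hxI, hx⟩ := Set.not_subset.1 this
    refine ⟨x, hxI, fun a b hab => ?_⟩
    by_contra hne
    apply hx
    rw [hfin.coe_toFinset, biUnion_associatedPrimes_eq_zero_divisors]
    exact ⟨a - b, sub_ne_zero.2 hne, by simpa [smul_sub, sub_eq_zero] using hab⟩

end Groth.Agent.S9637
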