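import Groth.Statements.S9638
import Groth.Agent.WeakAss.Basic
import Mathlib.RingTheory.Flat.Basic
import Mathlib.RingTheory.Localization.Ideal

set_option autoImplicit false
universe u
open CAlg

namespace Groth.Agent.S9638

/-- Let R → S be a ring map with R a domain with fraction field K, and N an S-module flat over R.
Writing T for the image in S of the nonzero elements of R, so that T⁻¹S = S ⊗_R K and T⁻¹N = N ⊗_R
K, the associated primes of N over S (primes equal to the annihilator of an element) coincide with
those of T⁻¹N over S, and these are exactly the inverse images in S of the associated primes of T⁻¹N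
over T⁻¹S. -/
theorem result {R S : Type u} [CommRing R] [IsDomain R] [CommRing S] [Algebra R S] (N : Type u) [AddCommGroup N] [Module S N] [Module R N] [IsScalarTower R S N] [Module.Flat R N] :
    FlatCA.ass S N = FlatCA.ass S (LocalizedModule (Algebra.algebraMapSubmonoid S (nonZeroDivisors R)) N) ∧
      FlatCA.ass S N = Ideal.comap (algebraMap S (Localization (Algebra.algebraMapSubmonoid S (nonZeroDivisors R)))) '' FlatCA.ass (Localization (Algebra.algebraMapSubmonoid S (nonZeroDivisors R))) (LocalizedModule (Algebra.algebraMapSubmonoid S (nonZeroDivisors R)) N) := by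
  set T := Algebra.algebraMapSubmonoid S (nonZeroDivisors R) with hT
  have hreg : ∀ s ∈ T, IsSMulRegular N s := by
    rintro _ ⟨r, hr, rfl⟩
    intro a b hab
    simp only [algebraMap_smul] at hab
    have hq : Function.Injective ((r : R) • (LinearMap.id : R →ₗ[R] R)) := by
      intro x y hxy
      exact mul_left_cancel₀ (nonZeroDivisors.ne_zero hr) hxy
    have := Module.Flat.rTensor_preserves_injective_linearMap (M := N) _ hq
    apply (TensorProduct.lid R N).symm.injective
    apply this
    simp only [LinearMap.rTensor_smul, LinearMap.rTensor_id, LinearMap.smul_apply, LinearMap.id_apply, ← map_smul, hab]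
  have heq : FlatCA.ass S N = FlatCA.ass S (LocalizedModule T N) := by
    refine Set.Subset.antisymm (fun q hq => Groth.Agent.WeakAss.mem_ass_localizedModule T hq ?_) (Groth.Agent.WeakAss.ass_localizedModule_subset T hreg)
    obtain ⟨hq, m, rfl⟩ := hq
    rw [Set.disjoint_left]
    intro s hs hs'
    have hm : m = 0 := (hreg s hs).right_eq_zero_of_smul (Groth.Agent.WeakAss.mem_ann.1 hs')
    exact hq.ne_top ((Ideal.eq_top_iff_one _).2 (Groth.Agent.WeakAss.mem_ann.2 (by rw [hm, smul_zero])))
  refine ⟨heq, ?_⟩
  rw [heq]
  ext q
  constructor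
  · rintro ⟨hq, x, rfl⟩
    refine ⟨(Submodule.span (Localization T) {x}).annihilator, ⟨?_, x, rfl⟩, Groth.Agent.WeakAss.comap_ann x⟩
    have hd : Disjoint (T : Set S) ((Submodule.span S {x}).annihilator : Set S) := by
      rw [Set.disjoint_left]
      intro s hs hs'
      have h0 : algebraMap S (Localization T) s • x = 0 := by rw [algebraMap_smul]; exact Groth.Agent.WeakAss.mem_ann.1 hs'
      have hx := (IsLocalization.map_units (Localization T) ⟨s, hs⟩).smul_eq_zero.1 h0
      exact hq.ne_top ((Ideal.eq_top_iff_one _).2 (Groth.Agent.WeakAss.mem_ann.2 (by rw [hx, smul_zero])))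
    rw [← IsLocalization.map_under T (Localization T) (Submodule.span (Localization T) {x}).annihilator, Ideal.under_def, Groth.Agent.WeakAss.comap_ann]
    exact IsLocalization.isPrime_of_isPrime_disjoint T _ _ hq hd
  · rintro ⟨Q, ⟨hQ, x, rfl⟩, rfl⟩
    exact ⟨hQ.comap _, x, Groth.Agent.WeakAss.comap_ann x⟩

end Groth.Agent.S9638
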