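import Groth.Statements.S9640
import Groth.Agent.WeakAss.Basic
import Mathlib.RingTheory.Flat.Basic
import Mathlib.RingTheory.Localization.Ideal

set_option autoImplicit false
universe u
open CAlg

namespace Groth.Agent.S9640

/-- Let R → S be a ring map with R a domain with fraction field K and N an S-module flat over R. Writing
T for the image in S of the nonzero elements of R, so that T⁻¹S = S ⊗_R K and T⁻¹N = N ⊗_R K, the
primes of S weakly associated to N are exactly the inverse images in S of the primes of T⁻¹S weakly
associated to T⁻¹N. -/
theorem result {R S : Type u} [CommRing R] [IsDomain R] [CommRing S] [Algebra R S] (N : Type u) [AddCommGroup N] [Module S N] [Module R N] [IsScalarTower R S N] [Module.Flat R N] :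
    FlatCA.weakAss S N = Ideal.comap (algebraMap S (Localization (Algebra.algebraMapSubmonoid S (nonZeroDivisors R)))) '' FlatCA.weakAss (Localization (Algebra.algebraMapSubmonoid S (nonZeroDivisors R))) (LocalizedModule (Algebra.algebraMapSubmonoid S (nonZeroDivisors R)) N) := by
  set T := Algebra.algebraMapSubmonoid S (nonZeroDivisors R) with hT
  have hreg : ∀ s ∈ T, IsSMulRegular N s := by
    rintro _ ⟨r, hr, rfl⟩
    intro a b hab
    simp only [algebraMap_smul] at hab
    have hq : Function.Injective ((r : R) • (LinearMap.id : R →ₗ[R] R)) := by
      intro x y hxy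
      exact mul_left_cancel₀ (nonZeroDivisors.ne_zero hr) hxy
    have := Module.Flat.rTensor_preserves_injective_linearMap (M := N) _ hq
    apply (TensorProduct.lid R N).symm.injective
    apply this
    simp only [LinearMap.rTensor_smul, LinearMap.rTensor_id, LinearMap.smul_apply, LinearMap.id_apply, ← map_smul, hab]
  rw [← Groth.Agent.WeakAss.weakAss_eq_image_of_isLocalization (R' := Localization T) T]
  ext q
  constructor
  · intro h
    have := Groth.Agent.WeakAss.isPrime_of_mem h
    refine (Groth.Agent.WeakAss.mem_weakAss_localizedModule_iff T ?_).2 h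
    obtain ⟨m, hm, hp⟩ := Groth.Agent.WeakAss.mem_weakAss_iff.1 h
    rw [Set.disjoint_left]
    intro s hs hs'
    obtain ⟨t, ht, n, hn⟩ := hp s hs'
    refine ht (hm t ?_)
    rw [mul_comm, mul_smul] at hn
    exact (hreg _ (T.pow_mem hs n)).right_eq_zero_of_smul hn
  · intro h
    have := Groth.Agent.WeakAss.isPrime_of_mem h
    exact (Groth.Agent.WeakAss.mem_weakAss_localizedModule_iff T (Groth.Agent.WeakAss.disjoint_of_mem (R' := Localization T) T h)).1 h

end Groth.Agent.S9640
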