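import Groth.Statements.S9641
import Mathlib.LinearAlgebra.TensorProduct.Finiteness
import Mathlib.RingTheory.Flat.Basic
import Mathlib.LinearAlgebra.FreeModule.Basic
import Mathlib.LinearAlgebra.Basis.VectorSpace

set_option autoImplicit false
universe u
open CAlg

namespace Groth.Agent.S9641

open TensorProduct in
/-- Let k be a field and R, S two k-algebras. If R ⊗_k S is not reduced then there are finitely
generated k-subalgebras R' ⊆ R and S' ⊆ S such that R' ⊗_k S' is not reduced. -/
theorem result {k R S : Type u} [Field k] [CommRing R] [CommRing S] [Algebra k R] [Algebra k S] (h : ¬ IsReduced (R ⊗[k] S)) :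
    ∃ (R' : Subalgebra k R) (S' : Subalgebra k S), R'.FG ∧ S'.FG ∧ ¬ IsReduced (R' ⊗[k] S') := by
  have hx : ∃ x : R ⊗[k] S, IsNilpotent x ∧ x ≠ 0 := by
    by_contra hcon
    push Not at hcon
    exact h ⟨fun x hx => hcon x hx⟩
  obtain ⟨x, hx, hx0⟩ := hx
  obtain ⟨M', N', hM, hN, hsub⟩ := TensorProduct.exists_finite_submodule_of_setFinite {x} (Set.finite_singleton x)
  obtain ⟨s, hs⟩ := Module.Finite.iff_fg.1 hM
  obtain ⟨t, ht⟩ := Module.Finite.iff_fg.1 hN
  let R' := Algebra.adjoin k (s : Set R)
  let S' := Algebra.adjoin k (t : Set S)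
  refine ⟨R', S', ⟨s, rfl⟩, ⟨t, rfl⟩, fun hred => hx0 ?_⟩
  let F := Algebra.TensorProduct.map R'.val S'.val
  have hF : Function.Injective F := by
    have : ⇑F = ⇑((R'.val.toLinearMap.rTensor S).comp (S'.val.toLinearMap.lTensor R')) := by
      rw [LinearMap.rTensor_comp_lTensor]; rfl
    rw [this, LinearMap.coe_comp]
    exact (Module.Flat.rTensor_preserves_injective_linearMap _ Subtype.val_injective).comp
      (Module.Flat.lTensor_preserves_injective_linearMap _ Subtype.val_injective)
  have hle1 : M' ≤ R'.toSubmodule := hs ▸ Submodule.span_le.2 Algebra.subset_adjoin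
  have hle2 : N' ≤ S'.toSubmodule := ht ▸ Submodule.span_le.2 Algebra.subset_adjoin
  obtain ⟨y, hy⟩ := TensorProduct.range_mapIncl_mono hle1 hle2 (hsub (Set.mem_singleton x))
  have hy' : F y = x := hy
  rw [← hy'] at hx ⊢
  rw [(hred.eq_zero _ ((IsNilpotent.map_iff hF).1 hx)), map_zero]

end Groth.Agent.S9641
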