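import Groth.Statements.S9642
-- import your own Groth.Agent.* helpers here

set_option autoImplicit false
universe u
open CAlg

namespace Groth.Agent.S9642

/-- In the general form stated there: let R → S be a ring map inducing an open map Spec(S) → Spec(R),
with Spec(R) irreducible, such that for a dense set of primes p of R the fibre ring κ(p) ⊗_R S has
irreducible spectrum. Then Spec(S) is irreducible. The flat and finitely presented case is the
special case in which the map on spectra is open by fppf-openness. -/
theorem result {R S : Type u} [CommRing R] [CommRing S] [Algebra R S]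
    (hopen : IsOpenMap (PrimeSpectrum.comap (algebraMap R S))) [IrreducibleSpace (PrimeSpectrum R)]
    (D : Set (PrimeSpectrum R)) (hD : Dense D) (hfib : ∀ p ∈ D, IrreducibleSpace (PrimeSpectrum (p.asIdeal.Fiber S))) :
    IrreducibleSpace (PrimeSpectrum S) := by
  have hne : Nonempty (PrimeSpectrum S) := by
    obtain ⟨p, hp⟩ := hD.nonempty
    have := hfib p hp
    exact ⟨((PrimeSpectrum.preimageHomeomorphFiber R S p).symm (Classical.arbitrary _)).1⟩
  have : PreirreducibleSpace (PrimeSpectrum S) := ⟨by
    intro U V hU hV hU' hV'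
    rw [Set.univ_inter] at hU' hV' ⊢
    obtain ⟨p, hpD, ⟨u, hu, hup⟩, ⟨v, hv, hvp⟩⟩ : ∃ p ∈ D, p ∈ PrimeSpectrum.comap (algebraMap R S) '' U ∧ p ∈ PrimeSpectrum.comap (algebraMap R S) '' V := by
      have := nonempty_preirreducible_inter (hopen U hU) (hopen V hV) (hU'.image _) (hV'.image _)
      obtain ⟨p, hp, hpD⟩ := hD.inter_open_nonempty _ ((hopen U hU).inter (hopen V hV)) this
      exact ⟨p, hpD, hp.1, hp.2⟩
    have := hfib p hpD
    let e := PrimeSpectrum.preimageHomeomorphFiber R S p
    let g : PrimeSpectrum (p.asIdeal.Fiber S) → PrimeSpectrum S := fun z => (e.symm z).1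
    have hg : Continuous g := continuous_subtype_val.comp e.symm.continuous
    have hu' : (g ⁻¹' U).Nonempty := ⟨e ⟨u, hup⟩, by simpa [g] using hu⟩
    have hv' : (g ⁻¹' V).Nonempty := ⟨e ⟨v, hvp⟩, by simpa [g] using hv⟩
    obtain ⟨z, hz⟩ := nonempty_preirreducible_inter (hU.preimage hg) (hV.preimage hg) hu' hv'
    exact ⟨g z, hz⟩⟩
  exact ⟨hne⟩

end Groth.Agent.S9642
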