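import Groth.Statements.S9643
-- import your own Groth.Agent.* helpers here

set_option autoImplicit false
universe u
open CAlg

namespace Groth.Agent.S9643

/-- Let R be a Noetherian ring, M a finite R-module and 0 = M_0 ⊆ M_1 ⊆ ⋯ ⊆ M_n = M a chain of
submodules whose successive quotients M_i/M_{i-1} are isomorphic to R/p_i for prime ideals p_i. Then
the primes minimal among p_1, …, p_n are exactly the primes minimal in the support of M. -/
theorem result {R : Type u} [CommRing R] [IsNoetherianRing R] (M : Type u) [AddCommGroup M] [Module R M] [Module.Finite R M]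
    {n : ℕ} (N : Fin (n + 1) → Submodule R M) (hN : Monotone N) (h0 : N 0 = ⊥) (hlast : N (Fin.last n) = ⊤)
    (p : Fin n → PrimeSpectrum R)
    (hquot : ∀ i : Fin n, Nonempty ((↥(N i.succ) ⧸ Submodule.comap (N i.succ).subtype (N i.castSucc)) ≃ₗ[R] (R ⧸ (p i).asIdeal))) :
    {q : PrimeSpectrum R | Minimal (fun x => x ∈ Set.range p) q} = {q : PrimeSpectrum R | Minimal (fun x => x ∈ Module.support R M) q} := by
  have hsupp : ∀ i : Fin (n + 1), Module.support R (N i) = ⋃ j ∈ {j : Fin n | j.castSucc < i}, PrimeSpectrum.zeroLocus ((p j).asIdeal : Set R) := by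
    intro i
    induction i using Fin.induction with
    | zero =>
      have : Subsingleton (N 0) := by rw [h0]; infer_instance
      rw [Module.support_eq_empty]
      simp
    | succ i ih =>
      have hle : N i.castSucc ≤ N i.succ := hN (Fin.castSucc_le_succ i)
      have hex := LinearMap.exact_subtype_mkQ (Submodule.comap (N i.succ).subtype (N i.castSucc))
      rw [Module.support_of_exact hex Subtype.val_injective (Submodule.mkQ_surjective _),
        (Submodule.comapSubtypeEquivOfLe hle).support_eq, (hquot i).some.support_eq, Module.support_eq_zeroLocus (M := R ⧸ (p i).asIdeal), Ideal.annihilator_quotient, ih]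
      ext q
      simp only [Set.mem_union, Set.mem_iUnion₂, Set.mem_setOf_eq]
      constructor
      · rintro (⟨j, hj, hq⟩ | hq)
        · exact ⟨j, lt_trans hj (Fin.castSucc_lt_succ), hq⟩
        · exact ⟨i, Fin.castSucc_lt_succ, hq⟩
      · rintro ⟨j, hj, hq⟩
        rcases eq_or_ne j i with rfl | hne
        · exact Or.inr hq
        · refine Or.inl ⟨j, ?_, hq⟩
          simp only [Fin.lt_def, Fin.val_castSucc, Fin.val_succ] at hj ⊢
          have : j.val ≠ i.val := fun h => hne (Fin.ext h)
          omega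
  have hM : Module.support R M = ⋃ j, PrimeSpectrum.zeroLocus ((p j).asIdeal : Set R) := by
    rw [← (LinearEquiv.ofTop (N (Fin.last n)) hlast).support_eq, hsupp]
    ext q
    simp [Fin.castSucc_lt_last]
  ext q
  simp only [Set.mem_setOf_eq, hM]
  constructor
  · rintro ⟨⟨j, rfl⟩, hmin⟩
    refine ⟨Set.mem_iUnion.2 ⟨j, fun x hx => hx⟩, fun x hx hxj => ?_⟩
    obtain ⟨l, hl⟩ := Set.mem_iUnion.1 hx
    exact (hmin ⟨l, rfl⟩ (le_trans (show p l ≤ x from hl) hxj)).trans hl
  · rintro ⟨hq, hmin⟩
    obtain ⟨l, hl⟩ := Set.mem_iUnion.1 hq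
    have : p l = q := le_antisymm hl (hmin (Set.mem_iUnion.2 ⟨l, fun x hx => hx⟩) hl)
    exact ⟨⟨l, this⟩, fun x ⟨m, hm⟩ hxq => hmin (Set.mem_iUnion.2 ⟨m, fun y hy => hm ▸ hy⟩) hxq⟩

end Groth.Agent.S9643
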