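import Groth.Statements.S9644
import Groth.Agent.WeakAss.Basic
import Mathlib.RingTheory.Ideal.AssociatedPrime.Localization
import Mathlib.RingTheory.Spectrum.Prime.Module
import Mathlib.RingTheory.Ideal.MinimalPrime.Noetherian

set_option autoImplicit false
universe u
open CAlg

namespace Groth.Agent.S9644

/-- Let R be a Noetherian ring and M a finite R-module. Among the submodules K' of M whose support is
nowhere dense inside Supp(M) there is a largest one, K. The quotient M' = M/K then satisfies
Supp(M') = Supp(M), its associated primes are pairwise incomparable (no embedded ones), and whenever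
f ∈ R belongs to every embedded associated prime of M the localized map M_f → M'_f is bijective. -/
theorem result {R : Type u} [CommRing R] [IsNoetherianRing R] (M : Type u) [AddCommGroup M] [Module R M] [Module.Finite R M] :
    ∃ K : Submodule R M,
      IsGreatest {K' : Submodule R M | ∀ U : Set (PrimeSpectrum R), IsOpen U → U ∩ Module.support R M ⊆ closure (Module.support R ↥K') → U ∩ Module.support R M = ∅} K ∧
      Module.support R (M ⧸ K) = Module.support R M ∧
      (∀ p ∈ associatedPrimes R (M ⧸ K), ∀ q ∈ associatedPrimes R (M ⧸ K), p ≤ q → p = q) ∧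
      ∀ f : R, (∀ p ∈ associatedPrimes R M, ¬ Minimal (fun x => x ∈ associatedPrimes R M) p → f ∈ p) →
        Function.Bijective (LocalizedModule.map (Submonoid.powers f) K.mkQ) := by
  classical
  set Sp := Module.support R M with hSp
  let mins : Set (PrimeSpectrum R) := {q | Minimal (· ∈ Sp) q}
  let K : Submodule R M :=
    { carrier := {m | ∀ q ∈ mins, ∃ s ∉ q.asIdeal, s • m = 0}
      zero_mem' := fun q _ => ⟨1, q.isPrime.one_notMem, smul_zero _⟩
      add_mem' := fun {a b} ha hb q hq => by
        obtain ⟨s, hs, hsa⟩ := ha q hq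
        obtain ⟨t, ht, htb⟩ := hb q hq
        exact ⟨s * t, fun h => (q.isPrime.mem_or_mem h).elim hs ht, by rw [smul_add, mul_smul, mul_smul, htb, smul_zero, add_zero, smul_comm, hsa, smul_zero]⟩
      smul_mem' := fun c a ha q hq => by
        obtain ⟨s, hs, hsa⟩ := ha q hq
        exact ⟨s, hs, by rw [smul_comm, hsa, smul_zero]⟩ }
  have hclosed : IsClosed Sp := Module.isClosed_support
  have hgen : ∀ q ∈ Sp, ∃ q₀ ∈ mins, q₀ ≤ q := by
    intro q hq
    rw [hSp, Module.support_eq_zeroLocus, PrimeSpectrum.mem_zeroLocus] at hq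
    obtain ⟨p₀, hp₀, hle⟩ := Ideal.exists_minimalPrimes_le (J := q.asIdeal) hq
    refine ⟨⟨p₀, hp₀.1.1⟩, ⟨?_, fun y hy hyle => ?_⟩, hle⟩
    · rw [hSp, Module.support_eq_zeroLocus]; exact hp₀.1.2
    · rw [hSp, Module.support_eq_zeroLocus] at hy
      exact hp₀.2 ⟨y.isPrime, hy⟩ hyle
  have hfinmins : mins.Finite := by
    apply Set.Finite.of_finite_image (f := PrimeSpectrum.asIdeal) ?_ (fun a _ b _ h => PrimeSpectrum.ext h)
    refine (Module.annihilator R M).finite_minimalPrimes_of_isNoetherianRing.subset ?_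
    rintro _ ⟨q, hq, rfl⟩
    have hqA : (Module.annihilator R M : Set R) ⊆ q.asIdeal := by
      have := hq.1; rwa [hSp, Module.support_eq_zeroLocus, PrimeSpectrum.mem_zeroLocus] at this
    refine ⟨⟨q.isPrime, hqA⟩, fun y hy hyle => ?_⟩
    exact hq.2 (y := ⟨y, hy.1⟩) (by rw [hSp, Module.support_eq_zeroLocus]; exact hy.2) hyle
  have hKsupp : ∀ q ∈ mins, q ∉ Module.support R K := fun q hq hqK => by
    obtain ⟨m, hm⟩ := Module.mem_support_iff_exists_annihilator.1 hqK
    obtain ⟨s, hs, hsm⟩ := m.2 q hq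
    exact hs (hm ((Submodule.mem_annihilator_span_singleton _ _).2 (Subtype.ext hsm)))
  refine ⟨K, ⟨?_, fun K' hK' m hm q hq => ?_⟩, ?_, ?_, ?_⟩
  · intro U hU hsub
    by_contra hne
    obtain ⟨q, hqU, hqS⟩ := Set.nonempty_iff_ne_empty.2 hne
    obtain ⟨q₀, hq₀, hle⟩ := hgen q hqS
    have hq₀U : q₀ ∈ U := ((PrimeSpectrum.le_iff_specializes q₀ q).1 hle).mem_open hU hqU
    have := hsub ⟨hq₀U, hq₀.1⟩
    rw [(Module.isClosed_support (R := R) (M := K)).closure_eq] at this
    exact hKsupp q₀ hq₀ this
  · by_contra hno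
    push Not at hno
    have hqK : q ∈ Module.support R K' := Module.mem_support_iff_exists_annihilator.2 ⟨⟨m, hm⟩, fun s hs => by
      by_contra hsq
      exact hno s hsq (congrArg Subtype.val ((Submodule.mem_annihilator_span_singleton _ _).1 hs))⟩
    let others := hfinmins.toFinset.erase q
    let U : Set (PrimeSpectrum R) := (⋃ q' ∈ others, PrimeSpectrum.zeroLocus (q'.asIdeal : Set R))ᶜ
    have hUo : IsOpen U := (isClosed_biUnion_finset fun q' _ => PrimeSpectrum.isClosed_zeroLocus _).isOpen_compl
    have hqU : q ∈ U := by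
      intro hmem
      obtain ⟨q', hq', hle⟩ := Set.mem_iUnion₂.1 hmem
      obtain ⟨hne, hq'm⟩ := Finset.mem_erase.1 hq'
      exact hne (le_antisymm hle (hq.2 (hfinmins.mem_toFinset.1 hq'm).1 hle))
    have hUsub : U ∩ Sp ⊆ closure (Module.support R K') := fun x hx => by
      obtain ⟨q₀, hq₀, hle⟩ := hgen x hx.2
      have : q₀ = q := by
        by_contra hne
        exact hx.1 (Set.mem_iUnion₂.2 ⟨q₀, Finset.mem_erase.2 ⟨hne, hfinmins.mem_toFinset.2 hq₀⟩, hle⟩)
      subst this
      exact subset_closure (((PrimeSpectrum.le_iff_specializes _ x).1 hle).mem_closed Module.isClosed_support hqK)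
    exact Set.eq_empty_iff_forall_notMem.1 (hK' U hUo hUsub) q ⟨hqU, hq.1⟩
  · refine Set.Subset.antisymm (Module.support_subset_of_surjective K.mkQ K.mkQ_surjective) fun q hq => ?_
    obtain ⟨q₀, hq₀, hle⟩ := hgen q hq
    have h0 : q₀ ∈ Module.support R (M ⧸ K) := by
      have h := hq₀.1
      rw [hSp, Module.support_of_exact (LinearMap.exact_subtype_mkQ K) Subtype.val_injective K.mkQ_surjective] at h
      exact h.resolve_left (hKsupp q₀ hq₀)
    exact ((PrimeSpectrum.le_iff_specializes q₀ q).1 hle).mem_closed Module.isClosed_support h0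
  · have key : ∀ p ∈ associatedPrimes R (M ⧸ K), ∃ q ∈ mins, p = q.asIdeal := by
      intro p hp
      obtain ⟨hpp, x, hx⟩ := (isAssociatedPrime_iff.1 hp)
      obtain ⟨m, rfl⟩ := K.mkQ_surjective x
      have hmem : ∀ a : R, a ∈ p ↔ a • m ∈ K := fun a => by
        rw [hx, Submodule.mem_colon_singleton, Submodule.mem_bot, ← map_smul]; exact Submodule.Quotient.mk_eq_zero _
      have hmK : m ∉ K := fun h => hpp.one_notMem ((hmem 1).2 (by rwa [one_smul]))
      simp only [K, Submodule.mem_mk, AddSubmonoid.mem_mk, AddSubsemigroup.mem_mk, Set.mem_setOf_eq] at hmK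
      push Not at hmK
      obtain ⟨q, hq, hq'⟩ := hmK
      have hle : p ≤ q.asIdeal := fun a ha => by
        by_contra haq
        obtain ⟨s, hs, hsm⟩ := (hmem a).1 ha q hq
        rw [smul_smul] at hsm
        exact hq' (s * a) (fun h => (q.isPrime.mem_or_mem h).elim hs haq) hsm
      have hpS : (⟨p, hpp⟩ : PrimeSpectrum R) ∈ Sp := by
        refine Module.support_subset_of_surjective K.mkQ K.mkQ_surjective ?_
        refine Module.mem_support_iff_exists_annihilator.2 ⟨K.mkQ m, fun a ha => ?_⟩
        rw [Submodule.mem_annihilator_span_singleton] at ha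
        show a ∈ p
        exact (hmem a).2 ((Submodule.Quotient.mk_eq_zero _).1 ((Submodule.Quotient.mk_smul _ _ _).trans ha))
      exact ⟨q, hq, le_antisymm hle (hq.2 hpS hle)⟩
    intro p hp p' hp' hle
    obtain ⟨q, hq, rfl⟩ := key p hp
    obtain ⟨q', hq', rfl⟩ := key p' hp'
    exact le_antisymm hle (hq'.2 hq.1 hle)
  · intro f hf
    have hf' : ∀ q ∈ Module.support R K, f ∈ q.asIdeal := by
      intro q hq
      rw [Module.support_eq_zeroLocus, PrimeSpectrum.mem_zeroLocus] at hq
      obtain ⟨p₀, hp₀, hle⟩ := Ideal.exists_minimalPrimes_le (J := q.asIdeal) hq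
      have hass := Module.associatedPrimes.minimalPrimes_annihilator_subset_associatedPrimes R K hp₀
      have hassM : p₀ ∈ associatedPrimes R M := associatedPrimes.subset_of_injective K.injective_subtype hass
      refine hle (hf p₀ hassM fun hmin => ?_)
      have hp₀K : (⟨p₀, hp₀.1.1⟩ : PrimeSpectrum R) ∈ Module.support R K := by
        rw [Module.support_eq_zeroLocus]; exact hp₀.1.2
      obtain ⟨q₀, hq₀, hle₀⟩ := hgen _ (Module.support_subset_of_injective K.subtype K.injective_subtype hp₀K)
      have hq₀ass : q₀.asIdeal ∈ associatedPrimes R M := by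
        apply Module.associatedPrimes.minimalPrimes_annihilator_subset_associatedPrimes R M
        have hqA := hq₀.1
        rw [hSp, Module.support_eq_zeroLocus] at hqA
        refine ⟨⟨q₀.isPrime, hqA⟩, fun y hy hyle => hq₀.2 (y := ⟨y, hy.1⟩) (by rw [hSp, Module.support_eq_zeroLocus]; exact hy.2) hyle⟩
      have : q₀ = ⟨p₀, hp₀.1.1⟩ := le_antisymm hle₀ (hmin.2 hq₀ass hle₀)
      exact hKsupp q₀ hq₀ (this ▸ hp₀K)
    have hrad : f ∈ (Module.annihilator R K).radical := by
      rw [← PrimeSpectrum.vanishingIdeal_zeroLocus_eq_radical, PrimeSpectrum.mem_vanishingIdeal, ← Module.support_eq_zeroLocus]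
      exact hf'
    refine ⟨?_, LocalizedModule.map_surjective _ _ K.mkQ_surjective⟩
    rw [injective_iff_map_eq_zero]
    intro x hx
    induction x using LocalizedModule.induction_on with
    | h m s =>
      rw [LocalizedModule.map_mk, Groth.Agent.WeakAss.mk_eq_zero] at hx
      obtain ⟨⟨_, n, rfl⟩, hn⟩ := hx
      rw [← map_smul, Submodule.mkQ_apply, Submodule.Quotient.mk_eq_zero] at hn
      obtain ⟨l, hl⟩ := hrad
      rw [Groth.Agent.WeakAss.mk_eq_zero]
      refine ⟨⟨f ^ (l + n), l + n, rfl⟩, ?_⟩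
      change f ^ (l + n) • m = 0
      rw [pow_add, mul_smul]
      exact congrArg Subtype.val (Module.mem_annihilator.1 hl ⟨_, hn⟩)

end Groth.Agent.S9644
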