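import Groth.Statements.S9645
import Mathlib.RingTheory.Localization.Integral
import Mathlib.RingTheory.IntegralClosure.IsIntegralClosure.Basic

set_option autoImplicit false
universe u
open CAlg

namespace Groth.Agent.S9645

/-- Integral closure commutes with localization. Let A → B be a ring map, S a multiplicative subset of
A, and A_S, B_S the localizations of A at S and of B at the image of S. Then an element x of B_S is
integral over A_S if and only if x·s = b for some s ∈ S and some b ∈ B integral over A (images taken
in B_S); that is, the integral closure of A_S in B_S is S⁻¹B' for B' the integral closure of A in B. -/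
theorem result {A B As Bs : Type u} [CommRing A] [CommRing B] [CommRing As] [CommRing Bs] [Algebra A B] [Algebra A As] [Algebra B Bs] [Algebra As Bs] [Algebra A Bs] [IsScalarTower A B Bs] [IsScalarTower A As Bs]
    (S : Submonoid A) [IsLocalization S As] [IsLocalization (Algebra.algebraMapSubmonoid B S) Bs] (x : Bs) :
    IsIntegral As x ↔ ∃ b : B, IsIntegral A b ∧ ∃ s ∈ S, x * algebraMap A Bs s = algebraMap B Bs b := by
  constructor
  · intro hx
    obtain ⟨⟨m, hm⟩, hint⟩ := IsIntegral.exists_multiple_integral_of_isLocalization S x hx
    obtain ⟨⟨b, _, t, ht, rfl⟩, hb⟩ := IsLocalization.surj (Algebra.algebraMapSubmonoid B S) ((⟨m, hm⟩ : S) • x)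
    simp only [← IsScalarTower.algebraMap_apply, Submonoid.smul_def] at hb hint
    have hb' : IsIntegral A (algebraMap B Bs b) := hb ▸ hint.mul isIntegral_algebraMap
    obtain ⟨m', hm', hm'int⟩ := IsLocalization.exists_isIntegral_smul_of_isIntegral_map S hb'
    refine ⟨m' • b, hm'int, m * t * m', S.mul_mem (S.mul_mem hm ht) hm', ?_⟩
    rw [Algebra.smul_def, map_mul (algebraMap B Bs), ← IsScalarTower.algebraMap_apply, ← hb, Algebra.smul_def, map_mul, map_mul]
    ring
  · rintro ⟨b, hb, s, hs, h⟩
    have hu : IsUnit (algebraMap A As s) := IsLocalization.map_units As ⟨s, hs⟩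
    have : IsIntegral As (x * algebraMap A Bs s) := h ▸ ((hb.map (IsScalarTower.toAlgHom A B Bs)).tower_top)
    have := this.mul (isIntegral_algebraMap (x := (↑hu.unit⁻¹ : As)))
    rwa [mul_assoc, IsScalarTower.algebraMap_apply A As Bs, ← map_mul, IsUnit.mul_val_inv, map_one, mul_one] at this

end Groth.Agent.S9645
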