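import Groth.Statements.S9646
import Mathlib.RingTheory.Localization.Integral
import Mathlib.RingTheory.IntegralClosure.IsIntegralClosure.Basic
import Mathlib.RingTheory.Localization.AtPrime.Basic

set_option autoImplicit false
universe u
open CAlg

namespace Groth.Agent.S9646

/-- (2) ⇒ (1): let R → S be a ring map and x ∈ S. If for every prime ideal p of R the image of x in S_p
(the localization of S at the image of R ∖ p) is integral over R_p, then x is integral over R. Here
R_p and S_p are any rings satisfying the localization universal properties. -/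
theorem result {R S : Type u} [CommRing R] [CommRing S] [Algebra R S] (x : S)
    (h : ∀ (p : Ideal R) [p.IsPrime] (Rp Sp : Type u) [CommRing Rp] [CommRing Sp] [Algebra R Rp] [Algebra S Sp] [Algebra Rp Sp] [Algebra R Sp] [IsScalarTower R S Sp] [IsScalarTower R Rp Sp] [IsLocalization.AtPrime Rp p] [IsLocalization (Algebra.algebraMapSubmonoid S p.primeCompl) Sp], IsIntegral Rp (algebraMap S Sp x)) :
    IsIntegral R x := by
  classical
  let J : Ideal R := Submodule.comap (LinearMap.toSpanSingleton R S x) (integralClosure R S).toSubmodule
  suffices J = ⊤ by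
    have h1 : (1 : R) ∈ J := this ▸ Submodule.mem_top
    simpa [J, LinearMap.toSpanSingleton_apply, mem_integralClosure_iff] using h1
  by_contra hJ
  obtain ⟨m, hm, hle⟩ := Ideal.exists_le_maximal J hJ
  let Sp := Localization (Algebra.algebraMapSubmonoid S m.primeCompl)
  have hmap : ∀ y : m.primeCompl, IsUnit ((algebraMap R Sp) y) := fun y => by
    rw [IsScalarTower.algebraMap_apply R S Sp]
    exact IsLocalization.map_units Sp ⟨_, Algebra.mem_algebraMapSubmonoid_of_mem y⟩
  let : Algebra (Localization.AtPrime m) Sp := (IsLocalization.lift hmap).toAlgebra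
  have : IsScalarTower R (Localization.AtPrime m) Sp :=
    IsScalarTower.of_algebraMap_eq fun r => (IsLocalization.lift_eq hmap r).symm
  obtain ⟨⟨s, hs⟩, hint⟩ := IsIntegral.exists_multiple_integral_of_isLocalization m.primeCompl _ (h m (Localization.AtPrime m) Sp)
  rw [Submonoid.smul_def, Algebra.smul_def, IsScalarTower.algebraMap_apply R S Sp, ← map_mul] at hint
  obtain ⟨s', hs', hint'⟩ := IsLocalization.exists_isIntegral_smul_of_isIntegral_map m.primeCompl hint
  refine mul_mem hs' hs (hle ?_)
  show (s' * s) • x ∈ (integralClosure R S).toSubmodule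
  rw [mul_smul, Algebra.smul_def s x]
  exact hint'

end Groth.Agent.S9646
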