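import Groth.Statements.S9647
import Mathlib.FieldTheory.IsAlgClosed.AlgebraicClosure
import Mathlib.FieldTheory.IsSepClosed
import Mathlib.RingTheory.Localization.FractionRing
import Mathlib.RingTheory.TensorProduct.Maps
import Mathlib.RingTheory.Algebraic.Integral
import Mathlib.RingTheory.Ideal.Quotient.Operations

set_option autoImplicit false
universe u
open CAlg

namespace Groth.Agent.S9647

theorem exists_hom_to_algebraicClosure {K T : Type u} [Field K] [CommRing T] [Algebra K T] [Algebra.IsIntegral K T]
    (P : Ideal T) [P.IsPrime] : ∃ φ : T →ₐ[K] AlgebraicClosure K, RingHom.ker φ.toRingHom = P := by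
  have : IsDomain (T ⧸ P) := Ideal.Quotient.isDomain P
  let Q := T ⧸ P
  have : Algebra.IsIntegral K Q := ⟨fun x => by
    obtain ⟨x, rfl⟩ := Ideal.Quotient.mk_surjective x
    exact (Algebra.IsIntegral.isIntegral x).map (Ideal.Quotient.mkₐ K P)⟩
  have : FaithfulSMul K Q := (faithfulSMul_iff_algebraMap_injective K Q).2 (RingHom.injective _)
  let : Field Q := (isField_of_isIntegral_of_isField' (R := K) (Field.toIsField K)).toField
  have : Algebra.IsAlgebraic K Q := Algebra.IsIntegral.isAlgebraic
  let φ : Q →ₐ[K] AlgebraicClosure K := IsAlgClosed.lift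
  refine ⟨φ.comp (Ideal.Quotient.mkₐ K P), ?_⟩
  ext z
  rw [RingHom.mem_ker]
  change φ (Ideal.Quotient.mk P z) = 0 ↔ _
  rw [map_eq_zero_iff φ φ.injective, Ideal.Quotient.eq_zero_iff_mem]

open TensorProduct in
/-- Let K/k be a field extension and k^sep a separable algebraic closure of k. Then the automorphism
group of k^sep over k acts transitively on the primes of k^sep ⊗_k K: for any two primes P, Q there
is a k-automorphism σ of k^sep with Q the inverse image of P under σ ⊗ id_K. -/
theorem result {k K : Type u} [Field k] [Field K] [Algebra k K]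
    (P Q : Ideal (SeparableClosure k ⊗[k] K)) [P.IsPrime] [Q.IsPrime] :
    ∃ σ : SeparableClosure k ≃ₐ[k] SeparableClosure k, Q = P.comap (Algebra.TensorProduct.map (σ : SeparableClosure k →ₐ[k] SeparableClosure k) (AlgHom.id k K)) := by
  classical
  let Ω := AlgebraicClosure K
  have embed : ∀ (P : Ideal (SeparableClosure k ⊗[k] K)) [P.IsPrime],
      ∃ i : SeparableClosure k →ₐ[k] Ω, RingHom.ker (Algebra.TensorProduct.lift i (IsScalarTower.toAlgHom k K Ω) (fun _ _ => Commute.all _ _)).toRingHom = P := by
    intro P _
    let : Algebra K (SeparableClosure k ⊗[k] K) := Algebra.TensorProduct.rightAlgebra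
    have : IsScalarTower k K (SeparableClosure k ⊗[k] K) :=
      IsScalarTower.of_algebraMap_eq fun r => ((Algebra.TensorProduct.includeRight (R := k) (A := SeparableClosure k) (B := K)).commutes r).symm
    have hint : Algebra.IsIntegral K (SeparableClosure k ⊗[k] K) := by
      constructor
      intro z
      induction z using TensorProduct.induction_on with
      | zero => exact isIntegral_zero
      | tmul a b =>
        rw [show a ⊗ₜ[k] b = (a ⊗ₜ[k] (1 : K)) * ((1 : SeparableClosure k) ⊗ₜ[k] b) by simp]
        refine IsIntegral.mul (R := K) (A := SeparableClosure k ⊗[k] K) ?_ (isIntegral_algebraMap (R := K) (A := SeparableClosure k ⊗[k] K) (x := b))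
        exact ((Algebra.IsIntegral.isIntegral (R := k) a).map (Algebra.TensorProduct.includeLeft (R := k) (S := k) (A := SeparableClosure k) (B := K))).tower_top
      | add a b ha hb => exact IsIntegral.add (R := K) (A := SeparableClosure k ⊗[k] K) ha hb
    obtain ⟨φ, hφ⟩ := exists_hom_to_algebraicClosure (K := K) (T := SeparableClosure k ⊗[k] K) P
    let ψ : SeparableClosure k ⊗[k] K →ₐ[k] Ω := φ.restrictScalars k
    refine ⟨ψ.comp Algebra.TensorProduct.includeLeft, ?_⟩
    have hψ : Algebra.TensorProduct.lift (ψ.comp Algebra.TensorProduct.includeLeft) (IsScalarTower.toAlgHom k K Ω) (fun _ _ => Commute.all _ _) = ψ := by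
      refine Algebra.TensorProduct.ext ?_ ?_
      · ext a; simp
      · ext b
        simp only [AlgHom.comp_apply, AlgHom.restrictScalars_apply, Algebra.TensorProduct.lift_tmul, map_one, one_mul,
          Algebra.TensorProduct.includeRight_apply, IsScalarTower.coe_toAlgHom']
        exact (φ.commutes b).symm
    rw [hψ]
    exact hφ
  obtain ⟨i, hi⟩ := embed P
  obtain ⟨j, hj⟩ := embed Q
  let : Algebra (SeparableClosure k) Ω := i.toRingHom.toAlgebra
  have : IsScalarTower k (SeparableClosure k) Ω := IsScalarTower.of_algHom i
  let σ : SeparableClosure k →ₐ[k] SeparableClosure k := (AlgEquiv.ofInjectiveField i).symm.toAlgHom.comp (j.codRestrict i.range (fun x => by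
    have h : IsSeparable k (j x) := (Algebra.IsSeparable.isSeparable k x).map j j.injective
    have hsplit : ((minpoly k (j x)).map (algebraMap k (SeparableClosure k))).Splits :=
      IsSepClosed.splits_codomain _ h
    have hirr := minpoly.irreducible (h.isIntegral)
    obtain ⟨r, hr⟩ : ∃ r, r ∈ ((minpoly k (j x)).map (algebraMap k (SeparableClosure k))).roots ∧ i r = j x := by
      have hroots := hsplit.roots_map i.toRingHom
      have hmem : j x ∈ (((minpoly k (j x)).map (algebraMap k (SeparableClosure k))).map i.toRingHom).roots := by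
        rw [Polynomial.map_map, show i.toRingHom.comp (algebraMap k (SeparableClosure k)) = algebraMap k Ω from i.comp_algebraMap,
          Polynomial.mem_roots (Polynomial.map_ne_zero hirr.ne_zero), Polynomial.IsRoot, Polynomial.eval_map, ← Polynomial.aeval_def, minpoly.aeval]
      rw [hroots] at hmem
      obtain ⟨r, hr, hr'⟩ := Multiset.mem_map.1 hmem
      exact ⟨r, hr, hr'⟩
    exact ⟨r, hr.2⟩))
  refine ⟨AlgEquiv.ofBijective σ (Algebra.IsAlgebraic.algHom_bijective σ), ?_⟩
  rw [← hi, ← hj]
  ext z
  simp only [RingHom.mem_ker, Ideal.mem_comap]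
  refine iff_of_eq (congrArg (· = 0) ?_)
  change _ = (Algebra.TensorProduct.lift i (IsScalarTower.toAlgHom k K Ω) (fun _ _ => Commute.all _ _))
      (Algebra.TensorProduct.map (σ : SeparableClosure k →ₐ[k] SeparableClosure k) (AlgHom.id k K) z)
  induction z using TensorProduct.induction_on with
  | zero => simp
  | tmul a b =>
    simp only [Algebra.TensorProduct.map_tmul, Algebra.TensorProduct.lift_tmul, AlgHom.coe_id, id, AlgHom.toRingHom_eq_coe, RingHom.coe_coe]
    congr 1
    simp only [σ, AlgHom.comp_apply]
    have key : ∀ y : i.range, i ((AlgEquiv.ofInjectiveField i).symm.toAlgHom y) = (y : Ω) := fun y =>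
      congrArg Subtype.val ((AlgEquiv.ofInjectiveField i).apply_symm_apply y)
    rw [key]
    rfl
  | add a b ha hb => simp only [map_add, ha, hb]

end Groth.Agent.S9647
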