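import Groth.Statements.S9669
import Groth.Agent.CAlgA.FibreMod

set_option autoImplicit false
universe u
open CAlg

namespace Groth.Agent.S9669

theorem ass_quot_eq {R S : Type u} [CommRing R] [CommRing S] [Algebra R S] (N : Type u) [AddCommGroup N] [Module S N] [Module R N] [IsScalarTower R S N] [Module.Flat R N] (p : Ideal R) [p.IsPrime] :
    FlatCA.ass S (N ⧸ (p.map (algebraMap R S)) • (⊤ : Submodule S N)) = FlatCA.ass S (FlatCA.fiberMod p S N) ∧
      ∀ q ∈ FlatCA.ass S (N ⧸ (p.map (algebraMap R S)) • (⊤ : Submodule S N)), q.comap (algebraMap R S) = p := by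
  have hinj : ∀ n : N, FlatCA.toFiberMod p S N n = 0 → n ∈ Groth.Agent.CAlgA.FibreMod.pN (S := S) N p := fun n hn => by
    obtain ⟨r, hr, h⟩ := Groth.Agent.CAlgA.FibreMod.exists_smul_mem N p hn
    exact Groth.Agent.CAlgA.FibreMod.mem_pN_of_smul_mem N p hr h
  have hann : ∀ n : N, (Submodule.span S {(Submodule.Quotient.mk n : N ⧸ (p.map (algebraMap R S)) • (⊤ : Submodule S N))}).annihilator =
      (Submodule.span S {FlatCA.toFiberMod p S N n}).annihilator := fun n => by
    ext a
    rw [Groth.Agent.WeakAss.mem_ann, Groth.Agent.WeakAss.mem_ann, ← map_smul, ← Submodule.Quotient.mk_smul, Submodule.Quotient.mk_eq_zero]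
    exact ⟨Groth.Agent.CAlgA.FibreMod.toFiberMod_eq_zero_of_mem N p, hinj _⟩
  refine ⟨Set.Subset.antisymm ?_ ?_, ?_⟩
  · rintro q ⟨hq, m, hm⟩
    obtain ⟨n, rfl⟩ := Submodule.Quotient.mk_surjective _ m
    exact ⟨hq, _, hm.trans (hann n)⟩
  · rintro q ⟨hq, x, hx⟩
    obtain ⟨r, hr, n, hn⟩ := Groth.Agent.CAlgA.FibreMod.exists_smul_eq N p x
    refine ⟨hq, Submodule.Quotient.mk n, hx.trans ?_⟩
    rw [hann, ← hn]
    ext a
    rw [Groth.Agent.WeakAss.mem_ann, Groth.Agent.WeakAss.mem_ann, smul_comm]
    exact ⟨fun h => by rw [h]; exact smul_zero (A := FlatCA.fiberMod p S N) _,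
      Groth.Agent.CAlgA.FibreMod.eq_zero_of_smul_eq_zero N p hr⟩
  · rintro q ⟨hq, m, hm⟩
    obtain ⟨n, rfl⟩ := Submodule.Quotient.mk_surjective _ m
    ext r
    rw [Ideal.mem_comap, hm, Groth.Agent.WeakAss.mem_ann, ← Submodule.Quotient.mk_smul, Submodule.Quotient.mk_eq_zero]
    refine ⟨fun h => ?_, fun h => Submodule.smul_mem_smul (Ideal.mem_map_of_mem _ h) Submodule.mem_top⟩
    by_contra hr
    apply hq.ne_top
    rw [Ideal.eq_top_iff_one, hm, Groth.Agent.WeakAss.mem_ann, one_smul, Submodule.Quotient.mk_eq_zero]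
    exact Groth.Agent.CAlgA.FibreMod.mem_pN_of_smul_mem N p hr h

/-- Part (4): (A = A_fin = A'_fin): let R → S be a ring map, N an S-module flat over R and p a prime of
R; an associated prime of a module is a prime ideal equal to the annihilator of some element. Then
the set of associated primes of the S-module N/pN equals the set of associated primes of the
S-module N ⊗_R κ(p) (the fibre module over p, an S-module by restriction of scalars), and every
prime in this set lies over p. -/
theorem result {R S : Type u} [CommRing R] [CommRing S] [Algebra R S] (N : Type u) [AddCommGroup N] [Module S N] [Module R N] [IsScalarTower R S N] [Module.Flat R N] (p : Ideal R) [p.IsPrime] :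
    FlatCA.ass S (N ⧸ (p.map (algebraMap R S)) • (⊤ : Submodule S N)) = FlatCA.ass S (FlatCA.fiberMod p S N) ∧
      ∀ q ∈ FlatCA.ass S (N ⧸ (p.map (algebraMap R S)) • (⊤ : Submodule S N)), q.comap (algebraMap R S) = p := by
  exact ass_quot_eq N p

end Groth.Agent.S9669
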