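import Groth.Statements.S9648
import Groth.Agent.CAlgA.AssTensor
import Groth.Agent.S9669

set_option autoImplicit false
universe u
open CAlg

namespace Groth.Agent.S9648

open TensorProduct in
/-- The inclusion, valid for any ring R: let R → S be a ring map, M an R-module and N an S-module which
is flat over R. For an associated prime p of M (a prime equal to the annihilator of an element) and
an associated prime Q of the fibre module N ⊗_R κ(p) over the fibre ring S ⊗_R κ(p), the inverse
image of Q in S is an associated prime of N ⊗_R M. -/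
theorem result {R S : Type u} [CommRing R] [CommRing S] [Algebra R S] (M : Type u) [AddCommGroup M] [Module R M] (N : Type u) [AddCommGroup N] [Module S N] [Module R N] [IsScalarTower R S N] [Module.Flat R N]
    (p : Ideal R) [p.IsPrime] (hp : p ∈ FlatCA.ass R M) (Q : Ideal (p.Fiber S)) (hQ : Q ∈ FlatCA.ass (p.Fiber S) (FlatCA.fiberMod p S N)) :
    Q.comap (Algebra.TensorProduct.includeRight (R := R) (A := p.ResidueField) (B := S)).toRingHom ∈ FlatCA.ass S (N ⊗[R] M) := by
  obtain ⟨_, m, hm⟩ := hp
  let ι := Submodule.liftQ p (LinearMap.toSpanSingleton R M m) (fun r hr => by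
    rw [LinearMap.mem_ker, LinearMap.toSpanSingleton_apply]; exact Groth.Agent.WeakAss.mem_ann.1 (hm ▸ hr))
  have hι : Function.Injective ι := by
    rw [← LinearMap.ker_eq_bot]
    refine Submodule.ker_liftQ_eq_bot _ _ _ fun r hr => ?_
    rw [LinearMap.mem_ker, LinearMap.toSpanSingleton_apply] at hr
    exact hm ▸ Groth.Agent.WeakAss.mem_ann.2 hr
  refine Groth.Agent.WeakAss.ass_mono (f := TensorProduct.AlgebraTensorModule.lTensor S N ι)
    (Module.Flat.lTensor_preserves_injective_linearMap (M := N) ι hι) ?_
  rw [Groth.Agent.CAlgA.AssTensor.ass_tensor_quot, (Groth.Agent.S9669.result N p).1]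
  obtain ⟨hQ', x, hx⟩ := hQ
  refine ⟨hQ'.comap _, x, ?_⟩
  ext a
  simp only [Ideal.mem_comap, hx, Groth.Agent.WeakAss.mem_ann]
  rw [← Groth.Agent.CAlgA.FibreMod.includeRight_smul N p a]
  exact Iff.rfl

end Groth.Agent.S9648
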