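import Groth.Statements.S9649
import Groth.Agent.FieldSep.MacLane
import Mathlib.FieldTheory.SeparablyGenerated

set_option autoImplicit false
universe u
open CAlg

namespace Groth.Agent.S9649

/-- A separably generated field extension is separable. Precisely: let K/k be a field extension
admitting a transcendence basis x over whose generated subfield k(x) the field K is separable
algebraic; then every finitely generated subextension K' of K/k also admits such a transcendence
basis. -/
theorem result {k K : Type u} [Field k] [Field K] [Algebra k K]
    (h : ∃ (ι : Type u) (x : ι → K), IsTranscendenceBasis k x ∧ Algebra.IsSeparable (IntermediateField.adjoin k (Set.range x)) K)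
    (K' : IntermediateField k K) (hK' : ∃ s : Finset K, IntermediateField.adjoin k (s : Set K) = K') :
    ∃ (ι : Type u) (x : ι → K'), IsTranscendenceBasis k x ∧ Algebra.IsSeparable (IntermediateField.adjoin k (Set.range x)) K' := by
  classical
  obtain ⟨ι, x, hx, hsep⟩ := h
  have : Algebra.FormallySmooth k K := Algebra.FormallySmooth.of_algebraicIndependent_of_isSeparable hx.1
  have : Algebra.IsGeometricallyReduced k K := (Groth.Agent.FieldSep.MacLane.formallySmooth_iff k K).1 inferInstance
  have : Algebra.IsGeometricallyReduced k K' := Algebra.IsGeometricallyReduced.of_injective K'.val K'.val.injective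
  have : Algebra.EssFiniteType k K' := IntermediateField.essFiniteType_iff.2 hK'
  suffices ∃ s : Finset K', IsTranscendenceBasis k ((↑) : s → K') ∧ Algebra.IsSeparable (IntermediateField.adjoin k (s : Set K')) K' by
    obtain ⟨s, hs, hsep⟩ := this
    refine ⟨s, Subtype.val, hs, ?_⟩
    convert! hsep <;> simp
  rcases CharP.exists k with ⟨q, hq⟩
  rcases CharP.char_is_prime_or_zero k q with hprime | rfl
  · have : Fact q.Prime := ⟨hprime⟩
    exact exists_isTranscendenceBasis_and_isSeparable_of_linearIndepOn_pow_of_essFiniteType (k := k) (K := K') q hprime
      (Groth.Agent.FieldSep.MacLane.powIndep_of_isGeometricallyReduced q)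
  · have : CharZero k := CharP.charP_to_charZero k
    exact exists_isTranscendenceBasis_and_isSeparable_of_perfectField k K'

end Groth.Agent.S9649
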