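import Groth.Statements.S9650
import Mathlib.FieldTheory.FinTrdeg
import Mathlib.FieldTheory.PrimitiveElement

set_option autoImplicit false
universe u
open CAlg

namespace Groth.Agent.S9650

/-- Let K/k be a finitely generated field extension that is separably generated, i.e. admits a
transcendence basis over whose generated subfield K is separable algebraic. Then K is generated over
k by finitely many elements x_1, …, x_r, y such that the x_i form a transcendence basis of K/k and y
is separable over the subfield k(x_1, …, x_r). -/
theorem result {k K : Type u} [Field k] [Field K] [Algebra k K]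
    (hfg : ∃ s : Finset K, IntermediateField.adjoin k (s : Set K) = ⊤)
    (hsep : ∃ (ι : Type u) (x : ι → K), IsTranscendenceBasis k x ∧ Algebra.IsSeparable (IntermediateField.adjoin k (Set.range x)) K) :
    ∃ (r : ℕ) (x : Fin r → K) (y : K), IsTranscendenceBasis k x ∧ IntermediateField.adjoin k (insert y (Set.range x)) = ⊤ ∧ IsSeparable (IntermediateField.adjoin k (Set.range x)) y := by
  classical
  obtain ⟨s, hs⟩ := hfg
  have : Algebra.EssFiniteType k K := IntermediateField.fg_top_iff.1 ⟨s, hs⟩
  obtain ⟨ι, x, hx, hsep⟩ := hsep
  have : Finite ι := finite_of_isTranscendenceBasis hx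
  obtain ⟨r, ⟨e⟩⟩ := Finite.exists_equiv_fin ι
  refine ⟨r, x ∘ e.symm, ?_⟩
  have hr : Set.range (x ∘ e.symm) = Set.range x := e.symm.surjective.range_comp x
  rw [hr]
  set F := IntermediateField.adjoin k (Set.range x)
  have hfin : FiniteDimensional F K := by
    have h1 : IntermediateField.adjoin F (s : Set K) = ⊤ := by
      apply IntermediateField.restrictScalars_injective k
      rw [IntermediateField.restrictScalars_top, eq_top_iff, ← hs, IntermediateField.adjoin_le_iff]
      exact IntermediateField.subset_adjoin F _
    have h2 := IntermediateField.finiteDimensional_adjoin (K := F) (S := (s : Set K)) fun z _ => (Algebra.IsSeparable.isSeparable F z).isIntegral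
    rw [h1] at h2
    exact IntermediateField.topEquiv.toLinearEquiv.finiteDimensional
  obtain ⟨y, hy⟩ := Field.exists_primitive_element F K
  refine ⟨y, hx.comp_equiv e.symm, ?_, Algebra.IsSeparable.isSeparable F y⟩
  rw [Set.insert_eq, Set.union_comm, ← IntermediateField.adjoin_adjoin_left, hy, IntermediateField.restrictScalars_top]

end Groth.Agent.S9650
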