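import Groth.Statements.S9652
import Groth.Agent.CAlgA.ConsImage

set_option autoImplicit false
universe u
open CAlg

namespace Groth.Agent.S9652

/-- Let R and S be Jacobson rings, R → S a ring map of finite type with induced map f : Spec(S) →
Spec(R), and E ⊆ Spec(S) a constructible subset. Writing T₀ for the set of points of a subspace T
which are closed in T, one has f(E)₀ = f(E₀) = (Spec R)₀ ∩ f(E). -/
theorem result {R S : Type u} [CommRing R] [CommRing S] [Algebra R S] [IsJacobsonRing R] [IsJacobsonRing S] [Algebra.FiniteType R S]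
    (E : Set (PrimeSpectrum S)) (hE : Topology.IsConstructible E) :
    {x | x ∈ PrimeSpectrum.comap (algebraMap R S) '' E ∧ closure {x} ∩ PrimeSpectrum.comap (algebraMap R S) '' E = {x}} =
        PrimeSpectrum.comap (algebraMap R S) '' {y | y ∈ E ∧ closure {y} ∩ E = {y}} ∧
      PrimeSpectrum.comap (algebraMap R S) '' {y | y ∈ E ∧ closure {y} ∩ E = {y}} =
        {x | IsClosed ({x} : Set (PrimeSpectrum R))} ∩ PrimeSpectrum.comap (algebraMap R S) '' E := by
  rw [CAlgA.setOf_closed_in_eq hE, CAlgA.image_closedPoints hE]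
  refine ⟨?_, rfl⟩
  ext x
  constructor
  · rintro ⟨hx, heq⟩
    refine ⟨?_, hx⟩
    obtain ⟨η, hη, rfl⟩ := hx
    obtain ⟨a, ha, H⟩ := CAlgA.exists_open_subset_image (R := R) hE hη
    refine isClosed_singleton_of_isLocallyClosed_singleton ?_
    have e : (PrimeSpectrum.basicOpen a : Set (PrimeSpectrum R)) ∩ closure {PrimeSpectrum.comap (algebraMap R S) η} = {PrimeSpectrum.comap (algebraMap R S) η} :=
      subset_antisymm (fun z hz => heq ▸ ⟨hz.2, H hz⟩) (Set.singleton_subset_iff.2 ⟨ha, subset_closure rfl⟩)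
    rw [← e]
    exact (PrimeSpectrum.basicOpen a).isOpen.isLocallyClosed.inter isClosed_closure.isLocallyClosed
  · rintro ⟨hx, hxE⟩
    refine ⟨hxE, ?_⟩
    rw [(mem_closedPoints_iff.1 hx).closure_eq, Set.inter_eq_left, Set.singleton_subset_iff]
    exact hxE

end Groth.Agent.S9652
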