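import Groth.Statements.S9653
import Groth.Agent.CAlgA.ConsImage

set_option autoImplicit false
universe u
open CAlg

namespace Groth.Agent.S9653

/-- Let R and S be Jacobson rings, R → S a ring map of finite type with induced map f : Spec(S) →
Spec(R), E ⊆ Spec(S) constructible and E₀ the set of points of E closed in E. Then a point ξ of
Spec(R) lies in f(E) if and only if cl{ξ} ∩ f(E₀) is dense in the closure cl{ξ}. -/
theorem result {R S : Type u} [CommRing R] [CommRing S] [Algebra R S] [IsJacobsonRing R] [IsJacobsonRing S] [Algebra.FiniteType R S]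
    (E : Set (PrimeSpectrum S)) (hE : Topology.IsConstructible E) (ξ : PrimeSpectrum R) :
    ξ ∈ PrimeSpectrum.comap (algebraMap R S) '' E ↔
      closure ({ξ} : Set (PrimeSpectrum R)) ⊆ closure (closure {ξ} ∩ PrimeSpectrum.comap (algebraMap R S) '' {y | y ∈ E ∧ closure {y} ∩ E = {y}}) := by
  rw [CAlgA.setOf_closed_in_eq hE, CAlgA.image_closedPoints hE]
  constructor
  · rintro ⟨η, hη, rfl⟩
    obtain ⟨a, ha, H⟩ := CAlgA.exists_open_subset_image (R := R) hE hη
    have hZ : IsLocallyClosed ((PrimeSpectrum.basicOpen a : Set (PrimeSpectrum R)) ∩ closure {PrimeSpectrum.comap (algebraMap R S) η}) :=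
      (PrimeSpectrum.basicOpen a).isOpen.isLocallyClosed.inter isClosed_closure.isLocallyClosed
    refine (closure_mono (t := (PrimeSpectrum.basicOpen a : Set (PrimeSpectrum R)) ∩ closure {PrimeSpectrum.comap (algebraMap R S) η})
      (Set.singleton_subset_iff.2 ⟨ha, subset_closure rfl⟩)).trans ?_
    rw [← JacobsonSpace.closure_inter_closedPoints_eq_closure hZ]
    exact closure_mono fun z hz => ⟨hz.1.2, hz.2, H hz.1⟩
  · intro h
    refine CAlgA.mem_image_of_dense hE ξ (closure_mono ?_ (h (subset_closure rfl)))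
    exact fun z hz => ⟨hz.1, hz.2.2⟩

end Groth.Agent.S9653
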