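import Groth.Statements.S9654
import Mathlib.LinearAlgebra.Matrix.Charpoly.LinearMap
import Mathlib.RingTheory.Localization.Away.Basic
import Mathlib.RingTheory.IntegralClosure.IntegrallyClosed
import Mathlib.RingTheory.Adjoin.Polynomial.Basic
import Mathlib.Tactic.LinearCombination
import Mathlib.Algebra.Group.Submonoid.Membership

set_option autoImplicit false
universe u
open CAlg

namespace Groth.Agent.S9654

theorem exists_mul_pow {R L : Type*} [CommRing R] [CommRing L] [Algebra R L] (a Y : L) (x : R)
    (haY : a * Y = algebraMap R L x) (z : L) (hz : z ∈ Algebra.adjoin R {a})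
    (hY : Y ∈ Set.range (algebraMap R L) := by exact ⟨_, rfl⟩) :
    ∃ (n : ℕ) (r : R), z * Y ^ n = algebraMap R L r := by
  obtain ⟨y, rfl⟩ := hY
  induction hz using Algebra.adjoin_induction with
  | mem w hw => obtain rfl := hw; exact ⟨1, x, by rw [pow_one, haY]⟩
  | algebraMap r => exact ⟨0, r, by rw [pow_zero, mul_one]⟩
  | add u v _ _ hu hv =>
    obtain ⟨n, r, hr⟩ := hu
    obtain ⟨m, s, hs⟩ := hv
    exact ⟨n + m, r * y ^ m + s * y ^ n, by rw [map_add, map_mul, map_mul, map_pow, map_pow, ← hr, ← hs]; ring⟩
  | mul u v _ _ hu hv =>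
    obtain ⟨n, r, hr⟩ := hu
    obtain ⟨m, s, hs⟩ := hv
    exact ⟨n + m, r * s, by rw [map_mul, ← hr, ← hs]; ring⟩

theorem isIntegral_of_mem_adjoin {R L : Type*} [CommRing R] [CommRing L] [Algebra R L] (a b : L) (hab : a * b = 1) (z : L)
    (hza : z ∈ Algebra.adjoin R {a}) (hzb : z ∈ Algebra.adjoin R {b}) : IsIntegral R z := by
  classical
  rw [Algebra.adjoin_singleton_eq_range_aeval] at hza hzb
  obtain ⟨f, hf⟩ := hza
  obtain ⟨g, hg⟩ := hzb
  have hf' : Polynomial.aeval a f = z := hf
  have hg' : Polynomial.aeval b g = z := hg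
  let n := f.natDegree
  let m := g.natDegree
  let F : Fin (m + n + 1) → L := fun k => a ^ (k : ℕ) * b ^ m
  let N := Submodule.span R (Set.range F)
  have hpos : ∀ j, j ≤ n → a ^ j ∈ N := fun j hj => Submodule.subset_span ⟨⟨j + m, by omega⟩, by
    show a ^ (j + m) * b ^ m = a ^ j
    rw [pow_add, mul_assoc, ← mul_pow, hab, one_pow, mul_one]⟩
  have hneg : ∀ j, j ≤ m → b ^ j ∈ N := fun j hj => Submodule.subset_span ⟨⟨m - j, by omega⟩, by
    show a ^ (m - j) * b ^ m = b ^ j
    conv_lhs => rw [show m = (m - j) + j by omega, pow_add]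
    rw [Nat.add_sub_cancel, ← mul_assoc, ← mul_pow, hab, one_pow, one_mul]⟩
  have hN : ∀ v ∈ N, z * v ∈ N := by
    intro v hv
    induction hv using Submodule.span_induction with
    | mem v hv =>
      obtain ⟨⟨k, hk⟩, rfl⟩ := hv
      show z * (a ^ k * b ^ m) ∈ N
      by_cases hkm : k ≤ m
      · rw [← hf', Polynomial.aeval_eq_sum_range, Finset.sum_mul]
        refine sum_mem fun j hj => ?_
        rw [smul_mul_assoc]
        refine N.smul_mem _ (Submodule.subset_span ⟨⟨j + k, by rw [Finset.mem_range] at hj; omega⟩, ?_⟩)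
        show a ^ (j + k) * b ^ m = _
        ring
      · rw [← hg', Polynomial.aeval_eq_sum_range, Finset.sum_mul]
        refine sum_mem fun j hj => ?_
        rw [smul_mul_assoc]
        refine N.smul_mem _ (Submodule.subset_span ⟨⟨k - j, by omega⟩, ?_⟩)
        show a ^ (k - j) * b ^ m = b ^ j * (a ^ k * b ^ m)
        rw [Finset.mem_range] at hj
        conv_rhs => rw [show k = (k - j) + j by omega, pow_add]
        rw [show b ^ j * (a ^ (k - j) * a ^ j * b ^ m) = a ^ (k - j) * b ^ m * (a * b) ^ j by rw [mul_pow]; ring, hab, one_pow, mul_one]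
    | zero => rw [mul_zero]; exact N.zero_mem
    | add u v _ _ hu hv => rw [mul_add]; exact N.add_mem hu hv
    | smul r u _ hu => rw [mul_smul_comm]; exact N.smul_mem r hu
  let e : Module.End R N := (LinearMap.mulLeft R z).restrict hN
  have : Module.Finite R N := Module.Finite.span_of_finite R (Set.finite_range F)
  obtain ⟨p, hp, hpe⟩ := LinearMap.exists_monic_and_aeval_eq_zero R e
  refine ⟨p, hp, ?_⟩
  have key : ∀ (q : Polynomial R) (v : N), ((Polynomial.aeval e q v : N) : L) = Polynomial.aeval z q * (v : L) := by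
    intro q
    induction q using Polynomial.induction_on with
    | C r => intro v; rw [Polynomial.aeval_C, Polynomial.aeval_C]; exact Algebra.smul_def r (v : L)
    | add p q hp hq => intro v; rw [map_add, map_add, LinearMap.add_apply, Submodule.coe_add, hp, hq, add_mul]
    | monomial k r ih =>
      intro v
      rw [pow_succ, ← mul_assoc, map_mul, Polynomial.aeval_X, Module.End.mul_apply, ih, map_mul _ _ Polynomial.X, Polynomial.aeval_X]
      exact (mul_assoc _ _ _).symm
  have h := key p ⟨1, by simpa using hpos 0 (Nat.zero_le n)⟩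
  rw [hpe, LinearMap.zero_apply, Submodule.coe_zero, mul_one] at h
  exact h.symm

theorem descend {R : Type u} [CommRing R] (x y d : R) (hd : x * y = d) (hy : y ∈ nonZeroDivisors R)
    (h : IsIntegrallyClosedIn R (Localization.Away x)) (m : ℕ) (s : R) (z : Localization.Away d) (hz : IsIntegral R z)
    (hs : algebraMap R (Localization.Away d) x ^ m * z = algebraMap R (Localization.Away d) s) :
    ∃ w, algebraMap R (Localization.Away d) w = z := by
  have hu : IsUnit (algebraMap R (Localization.Away d) x) := by
    refine isUnit_of_mul_isUnit_left (y := algebraMap R (Localization.Away d) y) ?_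
    rw [← map_mul, hd]
    exact IsLocalization.Away.algebraMap_isUnit d
  let φ : Localization.Away x →ₐ[R] Localization.Away d :=
    { IsLocalization.Away.lift x (g := algebraMap R (Localization.Away d)) hu with
      commutes' := fun r => IsLocalization.Away.lift_eq x hu r }
  have hφ : Function.Injective φ := by
    rw [injective_iff_map_eq_zero]
    intro q hq
    obtain ⟨⟨r, t, l, rfl⟩, hr⟩ := IsLocalization.surj (Submonoid.powers x) q
    have h0 := congrArg φ hr
    rw [map_mul, hq, zero_mul, φ.commutes] at h0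
    obtain ⟨⟨_, k, rfl⟩, hk⟩ := (IsLocalization.map_eq_zero_iff (Submonoid.powers d) _ r).1 h0.symm
    have hxr : x ^ k * r = 0 := by
      refine (mem_nonZeroDivisors_iff_left.1 (pow_mem hy k)) _ ?_
      rw [← hk]
      show y ^ k * (x ^ k * r) = d ^ k * r
      rw [← hd]; ring
    have hr0 : algebraMap R (Localization.Away x) r = 0 :=
      (IsLocalization.map_eq_zero_iff (Submonoid.powers x) _ r).2 ⟨⟨x ^ k, k, rfl⟩, hxr⟩
    rw [hr0] at hr
    exact (IsLocalization.map_units (Localization.Away x) (⟨x ^ l, l, rfl⟩ : Submonoid.powers x)).mul_left_eq_zero.1 hr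
  let q : Localization.Away x := IsLocalization.mk' _ s (⟨x ^ m, m, rfl⟩ : Submonoid.powers x)
  have hq : φ q = z := by
    apply (hu.pow m).mul_left_cancel
    rw [hs, ← φ.commutes, ← φ.commutes, ← map_pow φ, ← map_mul φ, ← map_pow (algebraMap R (Localization.Away x))]
    congr 1
    exact IsLocalization.mk'_spec' (Localization.Away x) s (⟨x ^ m, m, rfl⟩ : Submonoid.powers x)
  have hqi : IsIntegral R q := (isIntegral_algHom_iff φ hφ).1 (hq ▸ hz)
  obtain ⟨w, hw⟩ := (isIntegrallyClosedIn_iff.1 h).2 hqi
  exact ⟨w, by rw [← φ.commutes, hw, hq]⟩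

/-- Let R be a ring and x, y ∈ R nonzerodivisors. In the localization R_{xy} let a = x/y and b = y/x,
and let R[a], R[b], R[a, b] be the R-subalgebras they generate. If R is integrally closed in R_x or
in R_y, then the sequence 0 → R → R[a] ⊕ R[b] → R[a, b] → 0 (difference map, then sum map) is short
exact; equivalently R[a] ∩ R[b] is the image of R and R[a] + R[b] = R[a, b] inside R_{xy}. -/
theorem result {R : Type u} [CommRing R] (x y : R) (hx : x ∈ nonZeroDivisors R) (hy : y ∈ nonZeroDivisors R)
    (hint : IsIntegrallyClosedIn R (Localization.Away x) ∨ IsIntegrallyClosedIn R (Localization.Away y)) :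
    (Algebra.adjoin R {algebraMap R (Localization.Away (x * y)) (x * x) * IsLocalization.Away.invSelf (x * y)}).toSubmodule ⊓
        (Algebra.adjoin R {algebraMap R (Localization.Away (x * y)) (y * y) * IsLocalization.Away.invSelf (x * y)}).toSubmodule =
        (⊥ : Subalgebra R (Localization.Away (x * y))).toSubmodule ∧
      (Algebra.adjoin R {algebraMap R (Localization.Away (x * y)) (x * x) * IsLocalization.Away.invSelf (x * y)}).toSubmodule ⊔
        (Algebra.adjoin R {algebraMap R (Localization.Away (x * y)) (y * y) * IsLocalization.Away.invSelf (x * y)}).toSubmodule =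
        (Algebra.adjoin R {algebraMap R (Localization.Away (x * y)) (x * x) * IsLocalization.Away.invSelf (x * y), algebraMap R (Localization.Away (x * y)) (y * y) * IsLocalization.Away.invSelf (x * y)}).toSubmodule := by
  classical
  let L := Localization.Away (x * y)
  let X := algebraMap R L x
  let Y := algebraMap R L y
  let i : L := IsLocalization.Away.invSelf (x * y)
  let a := algebraMap R L (x * x) * i
  let b := algebraMap R L (y * y) * i
  have hi : X * Y * i = 1 := by
    show algebraMap R L x * algebraMap R L y * i = 1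
    rw [← map_mul]; exact IsLocalization.Away.mul_invSelf (x * y)
  have hab : a * b = 1 := by
    show algebraMap R L (x * x) * i * (algebraMap R L (y * y) * i) = 1
    rw [map_mul, map_mul]
    linear_combination (X * Y * i + 1) * hi
  have haY : a * Y = X := by
    show algebraMap R L (x * x) * i * Y = X
    rw [map_mul]
    linear_combination X * hi
  have hbX : b * X = Y := by
    show algebraMap R L (y * y) * i * X = Y
    rw [map_mul]
    linear_combination Y * hi
  change (Algebra.adjoin R {a}).toSubmodule ⊓ (Algebra.adjoin R {b}).toSubmodule = _ ∧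
    (Algebra.adjoin R {a}).toSubmodule ⊔ (Algebra.adjoin R {b}).toSubmodule = (Algebra.adjoin R {a, b}).toSubmodule
  refine ⟨le_antisymm ?_ ?_, le_antisymm ?_ ?_⟩
  · rintro z ⟨hza, hzb⟩
    rw [SetLike.mem_coe, Subalgebra.mem_toSubmodule] at hza hzb
    obtain ⟨hint', -⟩ := And.intro (isIntegral_of_mem_adjoin a b hab z hza hzb) trivial
    obtain ⟨n, r, hr⟩ := exists_mul_pow a Y x haY z hza
    obtain ⟨m, s, hs⟩ := exists_mul_pow b X y hbX z hzb
    rw [Subalgebra.mem_toSubmodule, Algebra.mem_bot]
    rcases hint with h | h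
    · obtain ⟨w, hw⟩ := descend x y (x * y) rfl hy h m s z hint' ((mul_comm _ _).trans hs)
      exact ⟨w, hw⟩
    · obtain ⟨w, hw⟩ := descend y x (x * y) (mul_comm y x) hx h n r z hint' ((mul_comm _ _).trans hr)
      exact ⟨w, hw⟩
  · rintro z hz
    obtain ⟨r, rfl⟩ := Algebra.mem_bot.1 hz
    exact ⟨Subalgebra.algebraMap_mem _ r, Subalgebra.algebraMap_mem _ r⟩
  · exact sup_le (Algebra.adjoin_mono (Set.singleton_subset_iff.2 (Set.mem_insert a _)))
      (Algebra.adjoin_mono (Set.singleton_subset_iff.2 (Set.mem_insert_of_mem a rfl)))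
  · rw [Algebra.adjoin_eq_span, Submodule.span_le]
    intro z hz
    obtain ⟨p, q, rfl⟩ := (Submonoid.mem_closure_pair a b z).1 hz
    rcases le_total p q with h | h
    · refine Submodule.mem_sup_right ?_
      rw [← Nat.add_sub_cancel' h, pow_add, ← mul_assoc, ← mul_pow, hab, one_pow, one_mul]
      exact Subalgebra.pow_mem _ (Algebra.self_mem_adjoin_singleton R b) _
    · refine Submodule.mem_sup_left ?_
      rw [← Nat.sub_add_cancel h, pow_add, mul_assoc, ← mul_pow, hab, one_pow, mul_one]
      exact Subalgebra.pow_mem _ (Algebra.self_mem_adjoin_singleton R a) _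

end Groth.Agent.S9654
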