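import Groth.Statements.S9655
import Mathlib.RingTheory.Valuation.LocalSubring
import Mathlib.RingTheory.LocalRing.ResidueField.Basic
import Mathlib.RingTheory.Localization.Basic

set_option autoImplicit false
universe u
open CAlg

namespace Groth.Agent.S9655

/-- Let R and S be local rings and R → S a ring map, not necessarily local, that is essentially of
finite type. Then for some n there is a maximal ideal m of the polynomial ring R[x_1, …, x_n] lying
over the maximal ideal of R, together with an R-algebra map φ : R[x_1, …, x_n]_m → S making S a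
localization of the image of φ; thus S arises from R[x_1, …, x_n]_m by passing to a quotient and
then localizing. -/
theorem result {R S : Type u} [CommRing R] [CommRing S] [Algebra R S] [IsLocalRing R] [IsLocalRing S] [Algebra.EssFiniteType R S] :
    ∃ (n : ℕ) (m : Ideal (MvPolynomial (Fin n) R)) (_ : m.IsMaximal), m.under R = IsLocalRing.maximalIdeal R ∧
      ∃ (φ : Localization.AtPrime m →ₐ[R] S) (T : Submonoid φ.range), IsLocalization T S := by
  classical
  let σ := Algebra.EssFiniteType.finset R S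
  have hσ : ∀ s : S, ∃ t ∈ Algebra.adjoin R (σ : Set S), IsUnit t ∧ s * t ∈ Algebra.adjoin R (σ : Set S) :=
    (Algebra.essFiniteType_cond_iff R S σ).1 (Algebra.EssFiniteType.isLocalization R S)
  let res : S →+* IsLocalRing.ResidueField S := IsLocalRing.residue S
  let ι : R →+* IsLocalRing.ResidueField S := res.comp (algebraMap R S)
  let I : Ideal ι.range := (IsLocalRing.maximalIdeal R).map ι.rangeRestrict
  have hI : I ≠ ⊤ := by
    intro h
    obtain ⟨r, hr, hr1⟩ := (Ideal.mem_map_iff_of_surjective ι.rangeRestrict ι.rangeRestrict_surjective).1 (h ▸ Submodule.mem_top : (1 : ι.range) ∈ I)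
    have hu : IsUnit (1 - r) := (IsLocalRing.isUnit_or_isUnit_one_sub_self r).resolve_left hr
    have := hu.map ι
    rw [map_sub, map_one, show ι r = 1 from congrArg Subtype.val hr1, sub_self] at this
    exact not_isUnit_zero this
  obtain ⟨V, hRV, hIV⟩ := I.image_subset_nonunits_valuationSubring hI
  have hg : ∀ g : S, ∃ g' : S, res g' ∈ V ∧ (g' = g ∨ g * g' = 1) := by
    intro g
    by_cases h : res g ∈ V
    · exact ⟨g, h, Or.inl rfl⟩
    · have hu : IsUnit g := (IsLocalRing.residue_ne_zero_iff_isUnit g).1 fun h0 => h (by rw [show res g = 0 from h0]; exact zero_mem _)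
      refine ⟨↑hu.unit⁻¹, ?_, Or.inr hu.mul_val_inv⟩
      rcases V.mem_or_inv_mem (res g) with h' | h'
      · exact absurd h' h
      · rwa [map_units_inv res hu.unit, IsUnit.unit_spec]
  choose g' hg'V hg' using hg
  let g : Fin σ.card → S := fun i => g' (σ.equivFin.symm i).1
  let F : MvPolynomial (Fin σ.card) R →ₐ[R] S := MvPolynomial.aeval g
  have hFV : ∀ f, res (F f) ∈ V := by
    intro f
    induction f using MvPolynomial.induction_on with
    | C r => rw [MvPolynomial.aeval_C]; exact hRV ⟨r, rfl⟩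
    | add a b ha hb => rw [map_add, map_add]; exact add_mem ha hb
    | mul_X a i ha => rw [map_mul, map_mul, MvPolynomial.aeval_X]; exact mul_mem ha (hg'V _)
  let ψ : MvPolynomial (Fin σ.card) R →+* V := (res.comp F.toRingHom).codRestrict V.toSubring hFV
  obtain ⟨m, hm, hPm⟩ := Ideal.exists_le_maximal ((IsLocalRing.maximalIdeal V).comap ψ) (Ideal.IsPrime.ne_top inferInstance)
  have hRm : ∀ r ∈ IsLocalRing.maximalIdeal R, MvPolynomial.C r ∈ m := fun r hr => by
    refine hPm ?_
    rw [Ideal.mem_comap, IsLocalRing.mem_maximalIdeal]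
    have : ι r ∈ V.nonunits := hIV ⟨ι.rangeRestrict r, Ideal.mem_map_of_mem _ hr, rfl⟩
    have hmem := ValuationSubring.mem_nonunits_iff_exists_mem_maximalIdeal.1 this
    obtain ⟨_, hmax⟩ := hmem
    convert hmax using 3
    simp [ψ, F, ι]
  have hunder : m.under R = IsLocalRing.maximalIdeal R :=
    ((IsLocalRing.maximalIdeal.isMaximal R).eq_of_le (Ideal.IsPrime.ne_top inferInstance) fun r hr => hRm r hr).symm
  have hunit : ∀ f : m.primeCompl, IsUnit (F f) := fun f => by
    apply (IsLocalRing.residue_ne_zero_iff_isUnit _).1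
    intro h0
    refine f.2 (hPm ?_)
    rw [Ideal.mem_comap, show ψ f = 0 from Subtype.ext h0]
    exact zero_mem _
  let φ : Localization.AtPrime m →ₐ[R] S := IsLocalization.liftAlgHom (M := m.primeCompl) (f := F) hunit
  have hrange : ∀ f, F f ∈ φ.range := fun f => ⟨algebraMap _ _ f, IsLocalization.lift_eq hunit f⟩
  refine ⟨σ.card, m, hm, hunder, φ, (IsUnit.submonoid S).comap (algebraMap φ.range S), ?_⟩
  let Fr : Subalgebra R S :=
    { carrier := {s | ∃ t ∈ φ.range, IsUnit t ∧ s * t ∈ φ.range}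
      mul_mem' := fun {a b} ⟨t, ht, hu, hat⟩ ⟨t', ht', hu', hbt⟩ => ⟨t * t', mul_mem ht ht', hu.mul hu', by rw [mul_mul_mul_comm]; exact mul_mem hat hbt⟩
      add_mem' := fun {a b} ⟨t, ht, hu, hat⟩ ⟨t', ht', hu', hbt⟩ => ⟨t * t', mul_mem ht ht', hu.mul hu', by
        rw [show (a + b) * (t * t') = a * t * t' + b * t' * t by ring]; exact add_mem (mul_mem hat ht') (mul_mem hbt ht)⟩
      algebraMap_mem' := fun r => ⟨1, one_mem _, isUnit_one, by rw [mul_one]; exact φ.range.algebraMap_mem r⟩ }
  have hsub : Algebra.adjoin R (σ : Set S) ≤ Fr := Algebra.adjoin_le fun x hx => by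
    have hx' : g' x ∈ φ.range := by
      have := hrange (MvPolynomial.X (σ.equivFin ⟨x, hx⟩))
      rwa [MvPolynomial.aeval_X, show g (σ.equivFin ⟨x, hx⟩) = g' x by simp [g]] at this
    rcases hg' x with h | h
    · exact ⟨1, one_mem _, isUnit_one, by rw [mul_one, ← h]; exact hx'⟩
    · exact ⟨g' x, hx', IsUnit.of_mul_eq_one x (by rw [mul_comm]; exact h), by rw [h]; exact one_mem _⟩
  refine (isLocalization_iff _ _).2 ⟨fun y => y.2, fun z => ?_, fun {x y} h => ⟨1, by simpa using Subtype.ext h⟩⟩
  obtain ⟨t, ht, hu, hzt⟩ := hσ z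
  obtain ⟨t₁, ht₁, hu₁, h₁⟩ := hsub ht
  obtain ⟨t₂, ht₂, hu₂, h₂⟩ := hsub hzt
  refine ⟨(⟨z * t * t₂ * t₁, mul_mem h₂ ht₁⟩, ⟨⟨t * t₁ * t₂, mul_mem h₁ ht₂⟩, (hu.mul hu₁).mul hu₂⟩), ?_⟩
  change z * (t * t₁ * t₂) = z * t * t₂ * t₁
  ring

end Groth.Agent.S9655
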