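import Groth.Statements.S9656
-- import your own Groth.Agent.* helpers here

set_option autoImplicit false
universe u
open CAlg

namespace Groth.Agent.S9656

/-- Let R_i → S_i be ring maps indexed by a finite type ι, with product map R = Π R_i → S = Π S_i. Then
an element (s_i) of S is integral over R exactly when s_i is integral over R_i for every i; so
integral closure in a finite product is computed factor by factor. -/
theorem result {ι : Type u} [Fintype ι] {R S : ι → Type u} [∀ i, CommRing (R i)] [∀ i, CommRing (S i)] (f : ∀ i, R i →+* S i) (s : ∀ i, S i) :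
    (RingHom.pi fun i => (f i).comp (Pi.evalRingHom R i)).IsIntegralElem s ↔ ∀ i, (f i).IsIntegralElem (s i) := by
  classical
  letI : ∀ i, Algebra (R i) (S i) := fun i => (f i).toAlgebra
  constructor
  · rintro ⟨p, hp, hp0⟩ i
    refine ⟨p.map (Pi.evalRingHom R i), hp.map _, ?_⟩
    have := congrFun hp0 i
    rw [Polynomial.eval₂_map]
    rw [show ((f i).comp (Pi.evalRingHom R i)) = (Pi.evalRingHom S i).comp (RingHom.pi fun i => (f i).comp (Pi.evalRingHom R i)) from rfl]
    change Polynomial.eval₂ _ (Pi.evalRingHom S i s) p = 0
    rw [← Polynomial.hom_eval₂]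
    exact this
  · intro h
    choose p hp hp0 using h
    let F : (∀ i, R i) →+* (∀ i, S i) := RingHom.pi fun i => (f i).comp (Pi.evalRingHom R i)
    let N := Finset.univ.sup (fun i => (p i).natDegree)
    let q : ∀ i, Polynomial (R i) := fun i => p i * Polynomial.X ^ (N - (p i).natDegree)
    let P : Polynomial (∀ i, R i) := ∑ n ∈ Finset.range (N + 1), Polynomial.C (fun i => (q i).coeff n) * Polynomial.X ^ n
    have hq : ∀ i, Polynomial.map (Pi.evalRingHom R i) P = q i := fun i => by
      rcases subsingleton_or_nontrivial (R i) with hs | hn
      · exact Subsingleton.elim _ _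
      have hd : (q i).natDegree = N := by
        rw [(hp i).natDegree_mul (Polynomial.monic_X_pow _), Polynomial.natDegree_X_pow]
        have : (p i).natDegree ≤ N := Finset.le_sup (f := fun i => (p i).natDegree) (Finset.mem_univ i)
        omega
      conv_rhs => rw [(q i).as_sum_range_C_mul_X_pow, hd]
      simp [P, Polynomial.map_sum]
    refine ⟨P, ?_, ?_⟩
    · apply Polynomial.monic_of_natDegree_le_of_coeff_eq_one N
      · refine (Polynomial.natDegree_sum_le_of_forall_le _ _ fun n hn => (Polynomial.natDegree_C_mul_X_pow_le _ _).trans (Nat.le_of_lt_succ (Finset.mem_range.1 hn)))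
      · ext i
        have hcoe : P.coeff N i = (q i).coeff N := by rw [← hq i, Polynomial.coeff_map]; rfl
        rw [hcoe]
        rcases subsingleton_or_nontrivial (R i) with hs | hn
        · exact Subsingleton.elim _ _
        have := ((hp i).mul (Polynomial.monic_X_pow (N - (p i).natDegree))).coeff_natDegree
        rw [(hp i).natDegree_mul (Polynomial.monic_X_pow _), Polynomial.natDegree_X_pow] at this
        have hle : (p i).natDegree ≤ N := Finset.le_sup (f := fun i => (p i).natDegree) (Finset.mem_univ i)
        rwa [Nat.add_sub_cancel' hle] at this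
    · funext i
      change Pi.evalRingHom S i (Polynomial.eval₂ F s P) = 0
      rw [Polynomial.hom_eval₂, show (Pi.evalRingHom S i).comp F = (f i).comp (Pi.evalRingHom R i) from rfl, ← Polynomial.eval₂_map, hq i]
      simp [q, Polynomial.eval₂_mul, show Polynomial.eval₂ (f i) (s i) (p i) = 0 from hp0 i]

end Groth.Agent.S9656
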