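import Groth.Statements.S9657
import Groth.Agent.CAlgA.GeomTensor
import Mathlib.RingTheory.Spectrum.Prime.Topology
import Mathlib.RingTheory.Localization.Module
import Mathlib.LinearAlgebra.TensorProduct.Basis
import Mathlib.FieldTheory.RatFunc.Basic

set_option autoImplicit false
universe u
open CAlg

namespace Groth.Agent.S9657

open TensorProduct Groth.Agent.FBase.TensorAlgClosed

/-- `kt ⊗ K → Kt` is injective and every element of `Kt` becomes integral after multiplying by the
image of a nonzero polynomial. -/
theorem exists_hom {k K : Type u} [Field k] [Field K] [Algebra k K] (kt Kt : Type u) [Field kt]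
    [Field Kt] [Algebra (Polynomial k) kt] [IsFractionRing (Polynomial k) kt]
    [Algebra (Polynomial K) Kt] [IsFractionRing (Polynomial K) Kt] [Algebra kt Kt]
    [Algebra k kt] [IsScalarTower k (Polynomial k) kt]
    (hcompat : ∀ p : Polynomial k, algebraMap kt Kt (algebraMap (Polynomial k) kt p) =
      algebraMap (Polynomial K) Kt (Polynomial.map (algebraMap k K) p)) :
    ∃ ψ : kt ⊗[k] K →ₐ[kt] Kt, Function.Injective ψ ∧
      ∀ x : Kt, ∃ (a b : kt ⊗[k] K), ψ b ≠ 0 ∧ x * ψ b = ψ a := by
  classical
  let _ : Algebra k Kt := ((algebraMap kt Kt).comp (algebraMap k kt)).toAlgebra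
  have : IsScalarTower k kt Kt := IsScalarTower.of_algebraMap_eq fun _ => rfl
  have hk : ∀ c : k, algebraMap k Kt c = algebraMap (Polynomial K) Kt (Polynomial.C (algebraMap k K c)) :=
    fun c => by
      rw [← Polynomial.map_C, ← hcompat]
      exact congrArg (algebraMap kt Kt) (IsScalarTower.algebraMap_apply k (Polynomial k) kt c)
  let ι : K →ₐ[k] Kt :=
    { toRingHom := (algebraMap (Polynomial K) Kt).comp Polynomial.C, commutes' := fun c => (hk c).symm }
  let ψ : kt ⊗[k] K →ₐ[kt] Kt := Algebra.TensorProduct.lift (Algebra.ofId kt Kt) ι fun _ _ => Commute.all _ _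
  have hψ : ∀ (f : kt) (x : K), ψ (f ⊗ₜ x) = algebraMap kt Kt f * ι x := fun f x => by
    rw [Algebra.TensorProduct.lift_tmul]; rfl
  refine ⟨ψ, ?_, ?_⟩
  · let b := Module.Basis.ofVectorSpace k K
    let B := b.baseChange kt
    let _ : Algebra (Polynomial k) Kt := ((algebraMap kt Kt).comp (algebraMap (Polynomial k) kt)).toAlgebra
    have : IsScalarTower (Polynomial k) kt Kt := IsScalarTower.of_algebraMap_eq fun _ => rfl
    have hli : LinearIndependent kt fun i => ι (b i) := by
      rw [← LinearIndependent.iff_fractionRing (R := Polynomial k), linearIndependent_iff']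
      intro s g hg i hi
      have hz : ∑ j ∈ s, Polynomial.map (algebraMap k K) (g j) * Polynomial.C (b j) = 0 := by
        apply IsFractionRing.injective (Polynomial K) Kt
        rw [map_sum, map_zero, ← hg]
        refine Finset.sum_congr rfl fun j _ => ?_
        rw [map_mul, Algebra.smul_def]
        exact congrArg (· * _) (hcompat (g j)).symm
      ext n
      have hn := congrArg (fun q : Polynomial K => q.coeff n) hz
      simp only [Polynomial.finsetSum_coeff, Polynomial.coeff_mul_C, Polynomial.coeff_map,
        Polynomial.coeff_zero, ← Algebra.smul_def] at hn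
      rw [Polynomial.coeff_zero]
      exact linearIndependent_iff'.1 b.linearIndependent s (fun j => (g j).coeff n) hn i hi
    rw [injective_iff_map_eq_zero]
    intro x hx
    have h1 : ∀ i, ψ.toLinearMap (B i) = ι (b i) := fun i => by
      rw [AlgHom.toLinearMap_apply, show B i = 1 ⊗ₜ b i from Module.Basis.baseChange_apply _ _ _, hψ, map_one, one_mul]
    have h2 : Finsupp.linearCombination kt (fun i => ι (b i)) (B.repr x) = 0 := by
      rw [← hx]
      conv_rhs => rw [← AlgHom.toLinearMap_apply, ← B.linearCombination_repr x, Finsupp.apply_linearCombination]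
      exact congrArg (fun f => Finsupp.linearCombination kt f (B.repr x)) (funext fun i => (h1 i).symm)
    have h3 : B.repr x = 0 := linearIndependent_iff_injective_finsuppLinearCombination.1 hli
      (h2.trans (map_zero _).symm)
    simpa using congrArg B.repr.symm h3
  · have hpoly : ∀ q : Polynomial K, ∃ a, ψ a = algebraMap (Polynomial K) Kt q := fun q => by
      induction q using Polynomial.induction_on' with
      | add p q hp hq =>
        obtain ⟨a, ha⟩ := hp
        obtain ⟨c, hc⟩ := hq
        exact ⟨a + c, by rw [map_add, map_add, ha, hc]⟩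
      | monomial n x =>
        refine ⟨algebraMap (Polynomial k) kt (Polynomial.X ^ n) ⊗ₜ x, ?_⟩
        rw [hψ, hcompat, Polynomial.map_pow, Polynomial.map_X]
        change algebraMap (Polynomial K) Kt _ * algebraMap (Polynomial K) Kt (Polynomial.C x) = _
        rw [← map_mul, mul_comm, Polynomial.C_mul_X_pow_eq_monomial]
    intro x
    obtain ⟨⟨p, q⟩, h⟩ := IsLocalization.surj (nonZeroDivisors (Polynomial K)) x
    obtain ⟨a, ha⟩ := hpoly p
    obtain ⟨c, hc⟩ := hpoly q
    exact ⟨a, c, by rw [hc]; exact IsFractionRing.to_map_ne_zero_of_mem_nonZeroDivisors q.2,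
      by rw [hc, ha]; exact h⟩

/-- Base change of `ψ` to a field extension of `kt`. -/
theorem exists_baseChange {k K kt Kt : Type u} [Field k] [Field K] [Algebra k K] [Field kt] [Field Kt]
    [Algebra k kt] [Algebra kt Kt] (ψ : kt ⊗[k] K →ₐ[kt] Kt) (hψ : Function.Injective ψ)
    (hfrac : ∀ x : Kt, ∃ (a b : kt ⊗[k] K), ψ b ≠ 0 ∧ x * ψ b = ψ a)
    (L : Type u) [Field L] [Algebra kt L] [Algebra k L] [IsScalarTower k kt L] :
    ∃ θ : L ⊗[k] K →+* L ⊗[kt] Kt, Function.Injective θ ∧
      ∀ z, ∃ a q, IsUnit (θ q) ∧ z * θ q = θ a := by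
  let e := Algebra.TensorProduct.cancelBaseChange k kt L L K
  let θ : L ⊗[k] K →+* L ⊗[kt] Kt :=
    (Algebra.TensorProduct.map (AlgHom.id L L) ψ).toRingHom.comp e.symm.toRingEquiv.toRingHom
  have hinj : Function.Injective θ :=
    (Module.Flat.lTensor_preserves_injective_linearMap (M := L) ψ.toLinearMap hψ).comp e.symm.injective
  have hθ : ∀ (l : L) (b : kt ⊗[k] K), θ (e (l ⊗ₜ b)) = l ⊗ₜ ψ b := fun l b => by
    change Algebra.TensorProduct.map (AlgHom.id L L) ψ (e.symm (e (l ⊗ₜ b))) = _
    rw [e.symm_apply_apply, Algebra.TensorProduct.map_tmul]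
    rfl
  refine ⟨θ, hinj, fun z => ?_⟩
  induction z using TensorProduct.induction_on with
  | zero => exact ⟨0, 1, by rw [map_one]; exact isUnit_one, by rw [map_zero, zero_mul]⟩
  | tmul l x =>
    obtain ⟨a, b, hb, h⟩ := hfrac x
    refine ⟨e (l ⊗ₜ a), e (1 ⊗ₜ b), ?_, ?_⟩
    · rw [hθ]
      exact (Ne.isUnit hb).map (Algebra.TensorProduct.includeRight : Kt →ₐ[kt] L ⊗[kt] Kt)
    · rw [hθ, hθ, Algebra.TensorProduct.tmul_mul_tmul, mul_one, h]
  | add z w hz hw =>
    obtain ⟨a, q, hq, ha⟩ := hz
    obtain ⟨c, r, hr, hc⟩ := hw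
    refine ⟨a * r + c * q, q * r, by rw [map_mul]; exact hq.mul hr, ?_⟩
    rw [map_add, map_mul, map_mul, map_mul, ← ha, ← hc]
    ring

open TensorProduct in
/-- Let K/k be a field extension and let k(t) ⊆ K(t) be the purely transcendental extensions in one
variable, realised as fraction fields of k[t] and K[t] compatibly with k[t] → K[t]. Then K is
geometrically irreducible over k (Spec(k' ⊗_k K) irreducible for every field extension k'/k) if and
only if K(t) is geometrically irreducible over k(t). Here the test fields range over field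
extensions of k, respectively of k(t), in the universe of k; this is equivalent to the unrestricted
notions, since an algebraic closure of the base field suffices as a test. -/
theorem result {k K : Type u} [Field k] [Field K] [Algebra k K]
    (kt Kt : Type u) [Field kt] [Field Kt] [Algebra (Polynomial k) kt] [IsFractionRing (Polynomial k) kt] [Algebra (Polynomial K) Kt] [IsFractionRing (Polynomial K) Kt]
    [Algebra kt Kt] (hcompat : ∀ p : Polynomial k, algebraMap kt Kt (algebraMap (Polynomial k) kt p) = algebraMap (Polynomial K) Kt (Polynomial.map (algebraMap k K) p)) :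
    (∀ (k' : Type u) [Field k'] [Algebra k k'], IrreducibleSpace (PrimeSpectrum (k' ⊗[k] K))) ↔
      ∀ (L : Type u) [Field L] [Algebra kt L], IrreducibleSpace (PrimeSpectrum (L ⊗[kt] Kt)) := by
  let _ : Algebra k kt := ((algebraMap (Polynomial k) kt).comp Polynomial.C).toAlgebra
  have : IsScalarTower k (Polynomial k) kt := IsScalarTower.of_algebraMap_eq fun _ => rfl
  obtain ⟨ψ, hψ, hfrac⟩ := exists_hom (k := k) (K := K) kt Kt hcompat
  simp only [PrimeSpectrum.irreducibleSpace_iff_isPrime_nilradical]
  constructor
  · intro h L _ _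
    let _ : Algebra k L := ((algebraMap kt L).comp (algebraMap k kt)).toAlgebra
    have : IsScalarTower k kt L := IsScalarTower.of_algebraMap_eq fun _ => rfl
    obtain ⟨θ, hθ, hsurj⟩ := exists_baseChange ψ hψ hfrac L
    have hp := h L
    refine ⟨(Ideal.ne_top_iff_one _).2 fun h1 => hp.ne_top ?_, fun {z w} hzw => ?_⟩
    · rw [Ideal.eq_top_iff_one, mem_nilradical, ← IsNilpotent.map_iff hθ, map_one]
      exact mem_nilradical.1 h1
    obtain ⟨a, q, hq, ha⟩ := hsurj z
    obtain ⟨c, r, hr, hc⟩ := hsurj w
    have hac : a * c ∈ nilradical (L ⊗[k] K) := by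
      rw [mem_nilradical, ← IsNilpotent.map_iff hθ, map_mul, ← ha, ← hc,
        show z * θ q * (w * θ r) = (z * w) * (θ q * θ r) by ring]
      exact (Commute.all _ _).isNilpotent_mul_right (mem_nilradical.1 hzw)
    exact (hp.mem_or_mem hac).imp
      (fun h2 => by
        rw [mem_nilradical, ← IsNilpotent.map_iff hθ, ← ha] at h2
        exact (Ideal.mul_unit_mem_iff_mem _ hq).1 (mem_nilradical.2 h2))
      (fun h2 => by
        rw [mem_nilradical, ← IsNilpotent.map_iff hθ, ← hc] at h2
        exact (Ideal.mul_unit_mem_iff_mem _ hr).1 (mem_nilradical.2 h2))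
  · intro h k' _ _
    let f : Polynomial k →+* FractionRing (Polynomial k') :=
      (algebraMap (Polynomial k') (FractionRing (Polynomial k'))).comp (Polynomial.mapRingHom (algebraMap k k'))
    have hf : Function.Injective f := (IsFractionRing.injective _ _).comp (Polynomial.map_injective _ (algebraMap k k').injective)
    let _ : Algebra kt (FractionRing (Polynomial k')) := (IsFractionRing.lift hf).toAlgebra
    let L := FractionRing (Polynomial k')
    have hk : ∀ c : k, algebraMap k L c = algebraMap kt L (algebraMap k kt c) := fun c => by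
      change _ = IsFractionRing.lift hf (algebraMap (Polynomial k) kt (Polynomial.C c))
      rw [IsFractionRing.lift_algebraMap, RingHom.comp_apply, Polynomial.coe_mapRingHom, Polynomial.map_C,
        IsScalarTower.algebraMap_apply k (Polynomial k') L]
      rfl
    have : IsScalarTower k kt L := IsScalarTower.of_algebraMap_eq hk
    obtain ⟨θ, hθ, -⟩ := exists_baseChange ψ hψ hfrac L
    have hp := h L
    let i : k' →ₐ[k] L := IsScalarTower.toAlgHom k k' L
    exact isPrime_nilradical_of_injective
      (θ.comp (Algebra.TensorProduct.map i (AlgHom.id k K)).toRingHom)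
      (hθ.comp (Groth.Agent.CAlgA.GeomTensor.injective_map_left (S := K) i i.toRingHom.injective))


end Groth.Agent.S9657
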