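import Groth.Statements.S9658
import Mathlib.RingTheory.Ideal.Maps
import Mathlib.RingTheory.Finiteness.Basic

set_option autoImplicit false
universe u
open CAlg

namespace Groth.Agent.S9658

/-- Let R be a ring, f_1, …, f_n ∈ R generating the unit ideal and M an R-module. With M_i = M_{f_i},
M_ij = M_{f_i f_j} (any localizations, with the canonical compatible maps M → M_i → M_ij), the
sequence 0 → M → ⊕ M_i → ⊕ M_ij is exact: an element of M whose image vanishes in every M_i is zero,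
and every family (m_i ∈ M_i) such that m_i and m_j have the same image in M_ij for all i, j is the
image of an element of M. -/
theorem result {R : Type u} [CommRing R] {ι : Type u} [Fintype ι] (f : ι → R) (hf : Ideal.span (Set.range f) = ⊤)
    (M : Type u) [AddCommGroup M] [Module R M]
    (Mi : ι → Type u) [∀ i, AddCommGroup (Mi i)] [∀ i, Module R (Mi i)] (g : ∀ i, M →ₗ[R] Mi i) [∀ i, IsLocalizedModule (Submonoid.powers (f i)) (g i)]
    (Mij : ι → ι → Type u) [∀ i j, AddCommGroup (Mij i j)] [∀ i j, Module R (Mij i j)] (gij : ∀ i j, M →ₗ[R] Mij i j) [∀ i j, IsLocalizedModule (Submonoid.powers (f i * f j)) (gij i j)]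
    (ρ₁ : ∀ i j, Mi i →ₗ[R] Mij i j) (hρ₁ : ∀ i j, ρ₁ i j ∘ₗ g i = gij i j) (ρ₂ : ∀ i j, Mi j →ₗ[R] Mij i j) (hρ₂ : ∀ i j, ρ₂ i j ∘ₗ g j = gij i j) :
    (∀ m : M, (∀ i, g i m = 0) → m = 0) ∧
      ∀ s : ∀ i, Mi i, (∀ i j, ρ₁ i j (s i) = ρ₂ i j (s j)) → ∃ m : M, ∀ i, g i m = s i := by
  classical
  refine ⟨fun m hm => ?_, fun s hs => ?_⟩
  · have h : ∀ i, ∃ n : ℕ, f i ^ n • m = 0 := fun i => by
      obtain ⟨⟨_, n, rfl⟩, hn⟩ := (IsLocalizedModule.eq_zero_iff (Submonoid.powers (f i)) (g i)).1 (hm i)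
      exact ⟨n, hn⟩
    choose n hn using h
    have hspan : Ideal.span (Set.range fun i => f i ^ n i) = ⊤ := by
      rw [← Ideal.radical_eq_top, eq_top_iff, ← hf, Ideal.span_le]
      rintro _ ⟨i, rfl⟩
      exact ⟨n i, Ideal.subset_span ⟨i, rfl⟩⟩
    have : Ideal.span (Set.range fun i => f i ^ n i) ≤ (Submodule.span R {m}).annihilator := by
      rw [Ideal.span_le]
      rintro _ ⟨i, rfl⟩
      exact (Submodule.mem_annihilator_span_singleton _ _).2 (hn i)
    rw [hspan] at this
    simpa using (Submodule.mem_annihilator_span_singleton _ _).1 (this (Submodule.mem_top (x := (1:R))))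
  · have h : ∀ i, ∃ n : ℕ, ∃ m : M, f i ^ n • s i = g i m := fun i => by
      obtain ⟨⟨m, _, n, rfl⟩, hm⟩ := IsLocalizedModule.surj (Submonoid.powers (f i)) (g i) (s i)
      exact ⟨n, m, hm⟩
    choose n m₀ hm₀ using h
    let N := Finset.univ.sup n
    obtain ⟨m, hmd⟩ : ∃ m : ι → M, ∀ i, m i = f i ^ (N - n i) • m₀ i := ⟨_, fun _ => rfl⟩
    have hm : ∀ i, f i ^ N • s i = g i (m i) := fun i => by
      rw [hmd, map_smul, ← hm₀, smul_smul, ← pow_add, Nat.sub_add_cancel (Finset.le_sup (Finset.mem_univ i))]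
    have hK : ∀ p : ι × ι, ∃ k : ℕ, (f p.1 * f p.2) ^ k • (f p.2 ^ N • m p.1 - f p.1 ^ N • m p.2) = 0 := by
      rintro ⟨i, j⟩
      have hz : gij i j (f j ^ N • m i - f i ^ N • m j) = 0 := by
        rw [map_sub, map_smul, map_smul]
        nth_rw 1 [← hρ₁ i j]
        rw [← hρ₂ i j, LinearMap.comp_apply, LinearMap.comp_apply, ← hm, ← hm, map_smul, map_smul, hs i j, smul_smul, smul_smul, mul_comm, sub_self]
      obtain ⟨⟨_, k, rfl⟩, hk⟩ := (IsLocalizedModule.eq_zero_iff (Submonoid.powers (f i * f j)) (gij i j)).1 hz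
      exact ⟨k, hk⟩
    choose k hk using hK
    let K := Finset.univ.sup k
    have hcomp : ∀ i j, f j ^ (N + K) • (f i ^ K • m i) = f i ^ (N + K) • (f j ^ K • m j) := by
      intro i j
      have hle : k (i, j) ≤ K := Finset.le_sup (Finset.mem_univ (i, j))
      have hz : (f i * f j) ^ K • (f j ^ N • m i - f i ^ N • m j) = 0 := by
        rw [← Nat.sub_add_cancel hle, pow_add, mul_smul, hk (i, j), smul_zero]
      rw [smul_sub, sub_eq_zero, smul_smul, smul_smul] at hz
      rw [smul_smul, smul_smul]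
      convert! hz using 2 <;> ring
    have hspan : Ideal.span (Set.range fun i => f i ^ (N + K)) = ⊤ := by
      rw [← Ideal.radical_eq_top, eq_top_iff, ← hf, Ideal.span_le]
      rintro _ ⟨i, rfl⟩
      exact ⟨N + K, Ideal.subset_span ⟨i, rfl⟩⟩
    obtain ⟨a, ha⟩ := (Submodule.mem_span_range_iff_exists_fun R).1 (hspan ▸ Submodule.mem_top : (1 : R) ∈ Ideal.span (Set.range fun i => f i ^ (N + K)))
    refine ⟨∑ i, a i • f i ^ K • m i, fun j => ?_⟩
    have h1 : f j ^ (N + K) • ∑ i, a i • f i ^ K • m i = f j ^ K • m j := by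
      conv_rhs => rw [← one_smul R (f j ^ K • m j), ← ha, Finset.sum_smul]
      rw [Finset.smul_sum]
      exact Finset.sum_congr rfl fun i _ => by rw [smul_comm, hcomp i j, smul_assoc]
    have h2 := congrArg (g j) h1
    rw [map_smul, map_smul, ← hm, smul_smul, ← pow_add, add_comm K N] at h2
    exact ((Module.End.isUnit_iff _).1 (IsLocalizedModule.map_units (S := Submonoid.powers (f j)) (g j) ⟨f j ^ (N + K), N + K, rfl⟩)).injective h2

end Groth.Agent.S9658
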