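import Groth.Statements.S9659
import Mathlib.RingTheory.GradedAlgebra.Radical
import Mathlib.RingTheory.Spectrum.Prime.RingHom
import Mathlib.Tactic.Ring

set_option autoImplicit false
universe u
open CAlg

namespace Groth.Agent.S9659

theorem inv_mem {R S : Type u} [CommRing R] [CommRing S] [Algebra R S] (𝒜 : ℤ → Submodule R S) [GradedAlgebra 𝒜]
    (w : Sˣ) {d : ℤ} (hw : (w : S) ∈ 𝒜 d) : ((w⁻¹ : Sˣ) : S) ∈ 𝒜 (-d) := by
  have h : ((w : S) * (DirectSum.decompose 𝒜 ((w⁻¹ : Sˣ) : S) (-d) : S)) = 1 := by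
    rw [← DirectSum.coe_decompose_mul_add_of_left_mem 𝒜 hw, add_neg_cancel, Units.mul_inv,
      DirectSum.decompose_of_mem_same 𝒜 SetLike.GradedOne.one_mem]
  rw [Units.inv_eq_of_mul_eq_one_right h]
  exact SetLike.coe_mem _

theorem comap_map_eq {R S : Type u} [CommRing R] [CommRing S] [Algebra R S] (𝒜 : ℤ → Submodule R S) [GradedAlgebra 𝒜]
    (I : Ideal (SetLike.GradeZero.subring 𝒜)) :
    (I.map (SetLike.GradeZero.subring 𝒜).subtype).comap (SetLike.GradeZero.subring 𝒜).subtype = I := by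
  refine le_antisymm ?_ Ideal.le_comap_map
  intro x hx
  rw [Ideal.mem_comap] at hx
  have key : ∀ t ∈ I.map (SetLike.GradeZero.subring 𝒜).subtype, ∀ s : S,
      (⟨(DirectSum.decompose 𝒜 (s * t) 0 : S), SetLike.coe_mem _⟩ : SetLike.GradeZero.subring 𝒜) ∈ I := by
    intro t ht
    induction ht using Submodule.span_induction with
    | mem t ht =>
      obtain ⟨a, ha, rfl⟩ := ht
      intro s
      have : (⟨(DirectSum.decompose 𝒜 (s * a.1) 0 : S), SetLike.coe_mem _⟩ : SetLike.GradeZero.subring 𝒜) =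
          ⟨(DirectSum.decompose 𝒜 s 0 : S), SetLike.coe_mem _⟩ * a :=
        Subtype.ext (DirectSum.coe_decompose_mul_of_right_mem_zero 𝒜 a.2)
      show (⟨(DirectSum.decompose 𝒜 (s * a.1) 0 : S), SetLike.coe_mem _⟩ : SetLike.GradeZero.subring 𝒜) ∈ I
      rw [this]
      exact I.mul_mem_left _ ha
    | zero =>
      intro s
      convert I.zero_mem using 1
      exact Subtype.ext (by simp)
    | add a b _ _ ha hb =>
      intro s
      convert I.add_mem (ha s) (hb s) using 1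
      exact Subtype.ext (by simp only [mul_add, DirectSum.decompose_add, DirectSum.add_apply]; rfl)
    | smul r a _ ha =>
      intro s
      convert ha (s * r) using 1
      exact Subtype.ext (by rw [smul_eq_mul, mul_assoc])
  convert key _ hx 1 using 1
  exact Subtype.ext (by rw [one_mul]; exact (DirectSum.decompose_of_mem_same 𝒜 x.2).symm)

/-- Let S be a ℤ-graded ring which contains an invertible homogeneous element of positive degree. Then
the set of homogeneous prime ideals of S, with the topology induced from Spec(S), maps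
homeomorphically onto Spec(S₀) by p ↦ p ∩ S₀. -/
theorem result {R S : Type u} [CommRing R] [CommRing S] [Algebra R S] (𝒜 : ℤ → Submodule R S) [GradedAlgebra 𝒜]
    (f : S) (d : ℤ) (hd : 0 < d) (hf : f ∈ 𝒜 d) (hu : IsUnit f) :
    IsHomeomorph (fun p : {p : PrimeSpectrum S // p.asIdeal.IsHomogeneous 𝒜} => PrimeSpectrum.comap (SetLike.GradeZero.subring 𝒜).subtype p.1) := by
  classical
  obtain ⟨D, rfl⟩ : ∃ D : ℕ, (D : ℤ) = d := ⟨d.toNat, Int.toNat_of_nonneg hd.le⟩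
  have hD : 0 < D := by exact_mod_cast hd
  obtain ⟨w, rfl⟩ := hu
  have hwinv : ((w⁻¹ : Sˣ) : S) ∈ 𝒜 (-(D : ℤ)) := inv_mem 𝒜 w hf
  have hz : ∀ n : ℤ, ((w ^ n : Sˣ) : S) ∈ 𝒜 (n * D) := by
    intro n
    rcases Int.eq_nat_or_neg n with ⟨m, rfl | rfl⟩
    · rw [zpow_natCast, Units.val_pow_eq_pow_val]
      simpa using SetLike.pow_mem_graded (A := 𝒜) m hf
    · rw [zpow_neg, zpow_natCast, ← inv_pow, Units.val_pow_eq_pow_val]
      simpa using SetLike.pow_mem_graded (A := 𝒜) m hwinv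
  have hφ : ∀ (x : S) (j : ℤ), x ∈ 𝒜 j → x ^ D * ((w ^ (-j) : Sˣ) : S) ∈ 𝒜 0 := by
    intro x j hx
    have := SetLike.GradedMul.mul_mem (SetLike.pow_mem_graded (A := 𝒜) D hx) (hz (-j))
    rwa [show D • j + -j * (D : ℤ) = 0 by simp; ring] at this
  have hmem : ∀ (P : Ideal S), P.IsPrime → ∀ (x : S) (j : ℤ), x ∈ P ↔ x ^ D * ((w ^ (-j) : Sˣ) : S) ∈ P := by
    intro P hP x j
    rw [Ideal.mul_unit_mem_iff_mem _ (Units.isUnit _)]
    exact ⟨fun h => P.pow_mem_of_mem h D hD, fun h => hP.mem_of_pow_mem D h⟩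
  set c := fun p : {p : PrimeSpectrum S // p.asIdeal.IsHomogeneous 𝒜} => PrimeSpectrum.comap (SetLike.GradeZero.subring 𝒜).subtype p.1 with hc
  have hinj : Function.Injective c := by
    have key : ∀ p q : {p : PrimeSpectrum S // p.asIdeal.IsHomogeneous 𝒜}, c p = c q → p.1.asIdeal ≤ q.1.asIdeal := by
      intro p q hpq x hx
      rw [Ideal.IsHomogeneous.mem_iff 𝒜 q.2]
      intro j
      have hxj : (DirectSum.decompose 𝒜 x j : S) ∈ p.1.asIdeal := (Ideal.IsHomogeneous.mem_iff 𝒜 p.2).1 hx j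
      rw [hmem _ q.1.2 _ j]
      rw [hmem _ p.1.2 _ j] at hxj
      have h1 : (⟨_, hφ _ j (DirectSum.decompose 𝒜 x j).2⟩ : SetLike.GradeZero.subring 𝒜) ∈ (c p).asIdeal := hxj
      rw [hpq] at h1
      exact h1
    intro p q h
    exact Subtype.ext (PrimeSpectrum.ext (le_antisymm (key p q h) (key q p h.symm)))
  have hsurj : Function.Surjective c := by
    intro p₀
    obtain ⟨P, hP⟩ : p₀ ∈ Set.range (PrimeSpectrum.comap (SetLike.GradeZero.subring 𝒜).subtype) := by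
      rw [PrimeSpectrum.mem_range_comap_iff]
      exact comap_map_eq 𝒜 p₀.asIdeal
    refine ⟨⟨⟨(P.asIdeal.homogeneousCore 𝒜).toIdeal, P.2.homogeneousCore⟩, HomogeneousIdeal.isHomogeneous _⟩, ?_⟩
    rw [← hP]
    apply PrimeSpectrum.ext
    ext x
    exact ⟨fun h => Ideal.toIdeal_homogeneousCore_le 𝒜 _ h, fun h => Ideal.mem_homogeneousCore_of_homogeneous_of_mem ⟨0, x.2⟩ h⟩
  refine ⟨(PrimeSpectrum.continuous_comap _).comp continuous_subtype_val, ?_, hinj, hsurj⟩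
  intro U hU
  obtain ⟨V, hV, rfl⟩ := isOpen_induced_iff.1 hU
  rw [isOpen_iff_forall_mem_open]
  rintro _ ⟨p, hp, rfl⟩
  obtain ⟨_, ⟨g, rfl⟩, hpg, hgV⟩ := PrimeSpectrum.isTopologicalBasis_basic_opens.exists_subset_of_mem_open hp hV
  obtain ⟨j, hj⟩ : ∃ j, (DirectSum.decompose 𝒜 g j : S) ∉ p.1.asIdeal := by
    by_contra hcon
    push Not at hcon
    exact hpg ((Ideal.IsHomogeneous.mem_iff 𝒜 p.2).2 hcon)
  let e : SetLike.GradeZero.subring 𝒜 := ⟨_, hφ _ j (DirectSum.decompose 𝒜 g j).2⟩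
  refine ⟨PrimeSpectrum.basicOpen e, ?_, (PrimeSpectrum.basicOpen e).isOpen, fun h => hj ((hmem _ p.1.2 _ j).2 h)⟩
  intro q₀ hq
  obtain ⟨q, rfl⟩ := hsurj q₀
  refine ⟨q, hgV fun h => hq ?_, rfl⟩
  exact (hmem _ q.1.2 _ j).1 ((Ideal.IsHomogeneous.mem_iff 𝒜 q.2).1 h j)

end Groth.Agent.S9659
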