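import Groth.Statements.S9660
import Mathlib.RingTheory.GradedAlgebra.Radical

set_option autoImplicit false
universe u
open CAlg

namespace Groth.Agent.S9660

/-- Let S be an ℕ-graded ring and I a homogeneous ideal of S. Then V₊(I) ⊆ Proj(S) is empty if and only
if S₊ ⊆ √I. -/
theorem result {R S : Type u} [CommRing R] [CommRing S] [Algebra R S] (𝒜 : ℕ → Submodule R S) [GradedAlgebra 𝒜] (I : HomogeneousIdeal 𝒜) :
    ProjectiveSpectrum.zeroLocus 𝒜 (I : Set S) = ∅ ↔ (HomogeneousIdeal.irrelevant 𝒜).toIdeal ≤ I.toIdeal.radical := by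
  constructor
  · intro h x hx
    rw [Ideal.radical_eq_sInf, Ideal.mem_sInf]
    rintro P ⟨hIP, hP⟩
    by_contra hxP
    let Q := P.homogeneousCore 𝒜
    have hQp : Q.toIdeal.IsPrime := hP.homogeneousCore
    have hnot : ¬ HomogeneousIdeal.irrelevant 𝒜 ≤ Q := fun hle => hxP (Ideal.toIdeal_homogeneousCore_le 𝒜 P (hle hx))
    have : (⟨Q, hQp, hnot⟩ : ProjectiveSpectrum 𝒜) ∈ ProjectiveSpectrum.zeroLocus 𝒜 (I : Set S) := by
      intro y hy
      exact (Ideal.homogeneousCore.gc 𝒜).le_u hIP hy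
    rw [h] at this
    exact this
  · intro h
    rw [Set.eq_empty_iff_forall_notMem]
    intro q hq
    apply q.not_irrelevant_le
    intro x hx
    obtain ⟨n, hn⟩ := h hx
    exact q.isPrime.mem_of_pow_mem n (hq hn)

end Groth.Agent.S9660
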