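import Groth.Statements.S9661
import Groth.Agent.CAlgA.GradedK0
import Mathlib.RingTheory.MvPolynomial.Ideal
import Mathlib.Analysis.Polynomial.Basic
import Mathlib.RingTheory.Polynomial.Pochhammer
import Mathlib.RingTheory.Polynomial.Basic
import Mathlib.LinearAlgebra.FiniteDimensional.Lemmas
import Mathlib.Algebra.GradedMulAction

set_option autoImplicit false
universe u
attribute [local instance] MvPolynomial.gradedAlgebra
open CAlg

namespace Groth.Agent.S9661

attribute [local instance] MvPolynomial.gradedAlgebra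

open CategoryTheory Polynomial in
theorem poly_of_num {k : Type u} [Field k] (d : ℕ) {M : Type u} [AddCommGroup M] [Module k M] (U W : ℕ → Submodule k M)
    (hU : ∀ n, (U n).FG) (hW : ∀ n, (W n).FG)
    (h : Groth.Agent.CAlgA.GradedK0.Num d fun n =>
      Groth.Agent.CAlgA.GradedK0.kcl (A := k) (U n) - Groth.Agent.CAlgA.GradedK0.kcl (A := k) (W n)) :
    ∃ P : Polynomial ℚ, P.degree < (d : WithBot ℕ) ∧ ∃ N : ℕ, ∀ n, N ≤ n →
      (Module.finrank k (U n) : ℚ) - (Module.finrank k (W n) : ℚ) = P.eval (n : ℚ) := by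
  classical
  let φ₀ : FreeAbelianGroup (Subtype (fun X : ModuleCat.{u} k => Module.Finite k X)) →+ ℤ :=
    FreeAbelianGroup.lift fun X => (Module.finrank k X.1 : ℤ)
  let φ : KZero.K0sub (fun X : ModuleCat.{u} k => Module.Finite k X) →+ ℤ := QuotientAddGroup.lift _ φ₀ (by
    refine (AddSubgroup.closure_le _).2 ?_
    rintro _ ⟨S, h₁, h₂, h₃, hS, rfl⟩
    rw [SetLike.mem_coe, AddMonoidHom.mem_ker, map_sub, map_sub]
    simp only [φ₀, FreeAbelianGroup.lift_apply_of]
    have hinj : Function.Injective S.f.hom := (ModuleCat.mono_iff_injective S.f).1 hS.mono_f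
    have hsurj : Function.Surjective S.g.hom := (ModuleCat.epi_iff_surjective S.g).1 hS.epi_g
    have hex := (ShortComplex.ShortExact.moduleCat_exact_iff_function_exact _).1 hS.exact
    have := LinearMap.finrank_range_add_finrank_ker S.g.hom
    rw [LinearMap.range_eq_top.2 hsurj, finrank_top, LinearMap.exact_iff.1 hex, LinearMap.finrank_range_of_inj hinj] at this
    omega)
  have hφ : ∀ (V : Submodule k M), V.FG → φ (Groth.Agent.CAlgA.GradedK0.kcl (A := k) V) = (Module.finrank k V : ℤ) := fun V hV => by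
    have hf : Module.Finite k (ModuleCat.of k V) := Module.Finite.iff_fg.2 hV
    simp only [Groth.Agent.CAlgA.GradedK0.kcl, KZero.clSub, dif_pos hf]
    exact FreeAbelianGroup.lift_apply_of _ _
  obtain ⟨a, N, hN⟩ := h
  refine ⟨∑ i : Fin d, Polynomial.C ((φ (a i) : ℚ) / ((i : ℕ).factorial : ℚ)) * descPochhammer ℚ i, ?_, N, fun n hn => ?_⟩
  · rw [← Polynomial.mem_degreeLT]
    refine sum_mem fun i _ => Polynomial.mem_degreeLT.2 (lt_of_le_of_lt (((Polynomial.degree_mul_le _ _).trans (add_le_of_nonpos_left Polynomial.degree_C_le)).trans Polynomial.degree_le_natDegree) ?_)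
    rw [descPochhammer_natDegree]
    exact Nat.cast_lt.2 i.2
  · have h := congrArg φ (hN n hn)
    rw [map_sub, hφ _ (hU n), hφ _ (hW n), map_sum] at h
    have h' := congrArg (fun z : ℤ => (z : ℚ)) h
    push_cast at h'
    rw [h', Polynomial.eval_finsetSum]
    refine Finset.sum_congr rfl fun i _ => ?_
    rw [map_zsmul, smul_eq_mul, Int.cast_mul, Int.cast_natCast, Nat.cast_choose_eq_descPochhammer_div,
      Polynomial.eval_mul, Polynomial.eval_C]
    ring

open Polynomial Filter in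
theorem lc_nonneg (P : Polynomial ℚ) (hdeg : 0 < P.degree) (N : ℕ) (h : ∀ n : ℕ, N ≤ n → 0 ≤ P.eval (n : ℚ)) :
    0 ≤ P.leadingCoeff := by
  by_contra hneg
  have ht := (P.tendsto_atBot_of_leadingCoeff_nonpos hdeg (not_le.1 hneg).le).comp tendsto_natCast_atTop_atTop
  obtain ⟨n, hn⟩ := (tendsto_atBot.1 ht (-1)).and (eventually_ge_atTop N) |>.exists
  have := h n hn.2
  have := hn.1
  simp only [Function.comp_apply] at this
  linarith

open Polynomial in
theorem degree_lt (P Q : Polynomial ℚ) (d e : ℕ) (hd : 0 < d) (hQ : Q.degree < (d : WithBot ℕ)) (N : ℕ)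
    (h1 : ∀ n : ℕ, N ≤ n → 0 ≤ P.eval (n : ℚ))
    (h2 : ∀ n : ℕ, N ≤ n → P.eval (n : ℚ) ≤ Q.eval (n : ℚ) - Q.eval ((n : ℚ) - (e : ℚ))) :
    P.degree < ((d - 1 : ℕ) : WithBot ℕ) := by
  set R := Q - Q.comp (X - C (e : ℚ)) with hRdef
  have hR : R.degree < ((d - 1 : ℕ) : WithBot ℕ) := by
    by_cases hQ0 : Q = 0
    · simp [R, hQ0, WithBot.bot_lt_coe]
    have hn : (Q.comp (X - C (e : ℚ))).natDegree = Q.natDegree := by rw [natDegree_comp, natDegree_X_sub_C, mul_one]
    have hne : Q.comp (X - C (e : ℚ)) ≠ 0 := by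
      intro h0
      have hl := congrArg leadingCoeff h0
      rw [leadingCoeff_comp (by rw [natDegree_X_sub_C]; exact one_ne_zero), leadingCoeff_X_sub_C, one_pow, mul_one, leadingCoeff_zero] at hl
      exact leadingCoeff_ne_zero.2 hQ0 hl
    have h := degree_sub_lt (p := Q) (q := Q.comp (X - C (e : ℚ)))
      (by rw [degree_eq_natDegree hQ0, degree_eq_natDegree hne, hn]) hQ0
      (by rw [leadingCoeff_comp (by rw [natDegree_X_sub_C]; exact one_ne_zero), leadingCoeff_X_sub_C, one_pow, mul_one])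
    refine lt_of_lt_of_le h ?_
    rw [degree_eq_natDegree hQ0] at hQ ⊢
    have := Nat.cast_lt.1 hQ
    exact Nat.cast_le.2 (by omega)
  by_contra hP
  have hlt : R.degree < P.degree := hR.trans_le (not_lt.1 hP)
  have hP0 : P ≠ 0 := fun h => by rw [h, degree_zero] at hlt; exact not_lt_bot hlt
  have hev : ∀ n : ℕ, N ≤ n → 0 ≤ (R - P).eval (n : ℚ) := fun n hn => by
    have := h2 n hn
    simp only [R, eval_sub, eval_comp, eval_X, eval_C]
    linarith
  by_cases hdeg : 0 < P.degree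
  · have hd2 : (R - P).degree = P.degree := degree_sub_eq_right_of_degree_lt hlt
    have a := lc_nonneg P hdeg N h1
    have b := lc_nonneg (R - P) (hd2 ▸ hdeg) N hev
    have : (R - P).leadingCoeff = -P.leadingCoeff := by
      rw [leadingCoeff, natDegree_eq_of_degree_eq hd2, coeff_sub, coeff_natDegree,
        coeff_eq_zero_of_degree_lt (by rwa [← degree_eq_natDegree hP0]), zero_sub]
    exact leadingCoeff_ne_zero.2 hP0 (by linarith)
  · have hPC := eq_C_of_degree_le_zero (not_lt.1 hdeg)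
    have hR0 : R = 0 := by
      by_contra hne
      have h3 : P.degree = 0 := le_antisymm (not_lt.1 hdeg) (by rw [degree_eq_natDegree hP0]; exact_mod_cast Nat.zero_le _)
      rw [h3, degree_eq_natDegree hne] at hlt
      exact absurd hlt (not_lt.2 (by exact_mod_cast Nat.zero_le _))
    have e1 := h1 N le_rfl
    have e2 := hev N le_rfl
    rw [hR0, zero_sub, eval_neg, neg_nonneg] at e2
    apply hP0
    rw [hPC, eval_C] at e1 e2
    rw [hPC, le_antisymm e2 e1, C_0]

/-- Let k be a field, d ≥ 1, and I a nonzero homogeneous ideal of the standard-graded polynomial ring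
k[X_1, …, X_d]; put M = k[X_1, …, X_d]/I. Then the function n ↦ dim_k M_n (equal to dim_k of the
degree-n part of the polynomial ring minus dim_k of the degree-n part of I) coincides for all large
n with a polynomial of degree < d - 1, the zero polynomial if d = 1. -/
theorem result {k : Type u} [Field k] (d : ℕ) (hd : 0 < d)
    (I : HomogeneousIdeal (MvPolynomial.homogeneousSubmodule (Fin d) k)) (hI : I ≠ ⊥) :
    ∃ P : Polynomial ℚ, P.degree < ((d - 1 : ℕ) : WithBot ℕ) ∧ ∃ N : ℕ, ∀ n : ℕ, N ≤ n →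
      ((Module.finrank k ↥(MvPolynomial.homogeneousSubmodule (Fin d) k n) : ℚ) -
        (Module.finrank k ↥(I.toIdeal.restrictScalars k ⊓ MvPolynomial.homogeneousSubmodule (Fin d) k n) : ℚ)) = P.eval (n : ℚ) := by
  classical
  let 𝒜 := MvPolynomial.homogeneousSubmodule (Fin d) k
  have h0 : ∀ s ∈ 𝒜 0, s ∈ Set.range (algebraMap k (MvPolynomial (Fin d) k)) := fun s hs => by
    refine ⟨MvPolynomial.coeff 0 s, ?_⟩
    rw [MvPolynomial.algebraMap_eq]
    ext m
    rw [MvPolynomial.coeff_C]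
    split_ifs with h
    · rw [h]
    · refine (((MvPolynomial.mem_homogeneousSubmodule _ _).1 hs).coeff_eq_zero ?_).symm
      intro h2
      exact h (((Finsupp.degree_eq_zero_iff m).1 h2).symm)
  have hpos : ∀ j, 0 < j → ∀ s ∈ 𝒜 j, s ∈ Ideal.span (Set.range (MvPolynomial.X : Fin d → MvPolynomial (Fin d) k)) := by
    intro j hj s hs
    rw [← Set.image_univ, MvPolynomial.mem_ideal_span_X_image]
    intro m hm
    by_contra hc
    push Not at hc
    have h1 := ((MvPolynomial.mem_homogeneousSubmodule _ _).1 hs) (MvPolynomial.mem_support_iff.1 hm)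
    obtain rfl : m = 0 := Finsupp.ext fun i => hc i trivial
    simp at h1
    omega
  have hX : ∀ i : Fin d, (MvPolynomial.X i : MvPolynomial (Fin d) k) ∈ 𝒜 1 := fun i =>
    (MvPolynomial.mem_homogeneousSubmodule _ _).2 (MvPolynomial.isHomogeneous_X k i)
  have hIhom : Groth.Agent.CAlgA.GradedK0.Hom 𝒜 I.toIdeal := fun y hy n => I.isHomogeneous n hy
  have := Fin.pos_iff_nonempty.1 hd
  have hpoly : ∀ L : Submodule (MvPolynomial (Fin d) k) (MvPolynomial (Fin d) k), Groth.Agent.CAlgA.GradedK0.Hom 𝒜 L →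
      ∃ P : Polynomial ℚ, P.degree < (d : WithBot ℕ) ∧ ∃ N : ℕ, ∀ n, N ≤ n →
        (Module.finrank k (Groth.Agent.CAlgA.GradedK0.piece 𝒜 (⊤ : Submodule (MvPolynomial (Fin d) k) (MvPolynomial (Fin d) k)) n) : ℚ) -
          (Module.finrank k (Groth.Agent.CAlgA.GradedK0.piece 𝒜 L n) : ℚ) = P.eval (n : ℚ) := fun L hL =>
    poly_of_num (k := k) d
      (fun n => Groth.Agent.CAlgA.GradedK0.piece 𝒜 (⊤ : Submodule (MvPolynomial (Fin d) k) (MvPolynomial (Fin d) k)) n)
      (fun n => Groth.Agent.CAlgA.GradedK0.piece 𝒜 L n)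
      (fun n => Groth.Agent.CAlgA.GradedK0.piece_fg (𝒜 := 𝒜) 𝒜 h0 _ n) (fun n => Groth.Agent.CAlgA.GradedK0.piece_fg (𝒜 := 𝒜) 𝒜 h0 _ n)
      (Groth.Agent.CAlgA.GradedK0.num_cls_sub (𝒜 := 𝒜) 𝒜 h0 MvPolynomial.X hX hpos d le_rfl L ⊤ le_top hL
        (Groth.Agent.CAlgA.GradedK0.hom_top 𝒜) (fun i hi => absurd i.2 (not_lt.2 hi)))
  obtain ⟨P, hP, N, hN⟩ := hpoly I.toIdeal hIhom
  obtain ⟨Q, hQ, N', hN'⟩ := hpoly ⊥ (Groth.Agent.CAlgA.GradedK0.hom_bot 𝒜)
  have htop : ∀ n, Groth.Agent.CAlgA.GradedK0.piece 𝒜 (⊤ : Submodule (MvPolynomial (Fin d) k) (MvPolynomial (Fin d) k)) n = 𝒜 n := fun n => by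
    simp [Groth.Agent.CAlgA.GradedK0.piece]
  have hbot : ∀ n, Groth.Agent.CAlgA.GradedK0.piece 𝒜 (⊥ : Submodule (MvPolynomial (Fin d) k) (MvPolynomial (Fin d) k)) n = ⊥ := fun n => by
    simp [Groth.Agent.CAlgA.GradedK0.piece]
  have hN0 : ∀ n, N' ≤ n → (Module.finrank k (𝒜 n) : ℚ) = Q.eval (n : ℚ) := fun n hn => by
    have := hN' n hn
    rw [htop n, hbot n, finrank_bot, Nat.cast_zero, sub_zero] at this
    exact this
  have hfin : ∀ n, Module.Finite k (𝒜 n) := fun n =>
    Module.Finite.iff_fg.2 (htop n ▸ Groth.Agent.CAlgA.GradedK0.piece_fg (𝒜 := 𝒜) 𝒜 h0 ⊤ n)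
  -- a nonzero homogeneous element of the ideal
  obtain ⟨y, hy, hy0⟩ := Submodule.exists_mem_ne_zero_of_ne_bot (p := I.toIdeal) (fun h => hI ((HomogeneousIdeal.eq_bot_iff I).2 h))
  obtain ⟨e, hfe⟩ : ∃ e, Groth.Agent.CAlgA.GradedK0.comp 𝒜 e y ≠ 0 := by
    by_contra hc
    push Not at hc
    apply hy0
    rw [← DirectSum.sum_support_decompose 𝒜 y]
    exact Finset.sum_eq_zero fun i _ => hc i
  set f := Groth.Agent.CAlgA.GradedK0.comp 𝒜 e y with hf
  have hfI : f ∈ I.toIdeal := hIhom y hy e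
  have hineq : ∀ m, Module.finrank k (𝒜 m) ≤ Module.finrank k ↥(I.toIdeal.restrictScalars k ⊓ 𝒜 (m + e)) := fun m => by
    let φ : 𝒜 m →ₗ[k] ↥(I.toIdeal.restrictScalars k ⊓ 𝒜 (m + e)) :=
      ((LinearMap.mulRight k f).comp (𝒜 m).subtype).codRestrict _ fun z =>
        ⟨I.toIdeal.mul_mem_left _ hfI, SetLike.GradedMul.mul_mem z.2 (SetLike.coe_mem _)⟩
    have : Module.Finite k ↥(I.toIdeal.restrictScalars k ⊓ 𝒜 (m + e)) := Module.Finite.iff_fg.2 (Groth.Agent.CAlgA.GradedK0.piece_fg (𝒜 := 𝒜) 𝒜 h0 I.toIdeal (m + e))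
    exact LinearMap.finrank_le_finrank_of_injective (f := φ) fun a b h => Subtype.ext (mul_right_cancel₀ hfe (congrArg Subtype.val h))
  have hmono : ∀ m, Module.finrank k ↥(I.toIdeal.restrictScalars k ⊓ 𝒜 m) ≤ Module.finrank k (𝒜 m) := fun m => by
    have := hfin m
    exact Submodule.finrank_mono inf_le_right
  refine ⟨P, degree_lt P Q d e hd hQ (N + N' + e) (fun n hn => ?_) (fun n hn => ?_), N, fun n hn => ?_⟩
  · rw [← hN n (by omega), htop n, sub_nonneg]
    exact Nat.cast_le.2 (hmono n)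
  · rw [← hN n (by omega), htop n, ← hN0 n (by omega),
      show ((n : ℚ) - (e : ℚ)) = ((n - e : ℕ) : ℚ) by rw [Nat.cast_sub (by omega)], ← hN0 (n - e) (by omega)]
    have := hineq (n - e)
    rw [Nat.sub_add_cancel (by omega)] at this
    exact sub_le_sub_left (Nat.cast_le.2 this) _
  · have := hN n hn
    rw [htop n] at this
    exact this

end Groth.Agent.S9661
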