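import Groth.Statements.S9662
import Groth.Agent.CAlgA.GradedK0

set_option autoImplicit false
universe u
open CategoryTheory
open CAlg

namespace Groth.Agent.S9662

/-- Let S be a Noetherian ℕ-graded ring, presented as a graded algebra over a ring A mapping onto S₀,
whose irrelevant ideal S₊ is generated as an ideal by the degree-1 part S₁, and let M be a finitely
generated graded S-module, graded in nonnegative degrees. (The published statement allows modules
graded in all integer degrees; this row takes modules graded in degrees ≥ 0, which loses nothing for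
large n.) Write K'₀(A) for the Grothendieck group of finite A-modules (the free abelian group on the
finite A-modules modulo the relations given by short exact sequences) and [M_n] for the class of the
finite A-module M_n. Then n ↦ [M_n] is a numerical polynomial: there are a_0, …, a_{r-1} in K'₀(A)
with [M_n] = Σ_i C(n, i) · a_i for all large n. (When A → S₀ is bijective K'₀(A) is K'₀(S₀), the
group of the published statement; in general the classes are taken after restricting scalars along A
→ S₀.) -/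
theorem result {A S : Type u} [CommRing A] [CommRing S] [Algebra A S] [IsNoetherianRing S] (𝒜 : ℕ → Submodule A S) [GradedAlgebra 𝒜]
    (h0 : ∀ s ∈ 𝒜 0, s ∈ Set.range (algebraMap A S))
    (h1 : (HomogeneousIdeal.irrelevant 𝒜).toIdeal = Ideal.span (𝒜 1 : Set S))
    (M : Type u) [AddCommGroup M] [Module A M] [Module S M] [IsScalarTower A S M] [Module.Finite S M] (ℳ : ℕ → Submodule A M) [DirectSum.Decomposition ℳ] [SetLike.GradedSMul 𝒜 ℳ] :
    ∃ (r : ℕ) (a : Fin r → KZero.K0sub (fun X : ModuleCat.{u} A => Module.Finite A X)) (N : ℕ), ∀ n : ℕ, N ≤ n →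
      KZero.clSub (fun X : ModuleCat.{u} A => Module.Finite A X) (ModuleCat.of A ↥(ℳ n)) = ∑ i : Fin r, ((n.choose (i : ℕ) : ℕ) : ℤ) • a i := by
  classical
  obtain ⟨t, ht, hspan⟩ := (Submodule.fg_span_iff_fg_span_finset_subset (R := S) (𝒜 1 : Set S)).1 (IsNoetherian.noetherian _)
  let g : Fin t.card → S := fun i => (t.equivFin.symm i : S)
  have hrange : Set.range g = (t : Set S) := by
    ext z
    exact ⟨fun ⟨i, hi⟩ => hi ▸ (t.equivFin.symm i).2, fun hz => ⟨t.equivFin ⟨z, hz⟩, by simp [g]⟩⟩
  have hpos : ∀ j, 0 < j → ∀ s ∈ 𝒜 j, s ∈ Ideal.span (Set.range g) := by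
    intro j hj s hs
    have h : s ∈ (HomogeneousIdeal.irrelevant 𝒜).toIdeal := by
      rw [HomogeneousIdeal.mem_iff, HomogeneousIdeal.mem_irrelevant_iff, GradedRing.proj_apply]
      exact DirectSum.decompose_of_mem_ne 𝒜 hs hj.ne'
    rw [h1] at h
    rw [hrange]
    exact (hspan ▸ h : s ∈ Submodule.span S (t : Set S))
  have : IsNoetherian S M := isNoetherian_of_isNoetherianRing_of_finite S M
  obtain ⟨a, N, hN⟩ := Groth.Agent.CAlgA.GradedK0.num_cls_sub (𝒜 := 𝒜) ℳ h0 g (fun i => ht (t.equivFin.symm i).2) hpos t.card le_rfl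
    ⊥ ⊤ bot_le (Groth.Agent.CAlgA.GradedK0.hom_bot ℳ) (Groth.Agent.CAlgA.GradedK0.hom_top ℳ) (fun i hi => absurd i.2 (not_lt.2 hi))
  refine ⟨t.card, a, N, fun n hn => ?_⟩
  rw [← hN n hn]
  have e : Groth.Agent.CAlgA.GradedK0.piece ℳ (⊤ : Submodule S M) n = ℳ n := by simp [Groth.Agent.CAlgA.GradedK0.piece]
  have hs : Subsingleton (Groth.Agent.CAlgA.GradedK0.piece ℳ (⊥ : Submodule S M) n) :=
    ⟨fun a b => Subtype.ext (((Submodule.mem_bot S).1 a.2.1).trans ((Submodule.mem_bot S).1 b.2.1).symm)⟩
  have := Module.Finite.iff_fg.2 (Groth.Agent.CAlgA.GradedK0.piece_fg (𝒜 := 𝒜) ℳ h0 (⊤ : Submodule S M) n)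
  simp only [Groth.Agent.CAlgA.GradedK0.cls]
  rw [Groth.Agent.CAlgA.GradedK0.kcl_zero (A := A) (Groth.Agent.CAlgA.GradedK0.piece ℳ (⊥ : Submodule S M) n), sub_zero,
    Groth.Agent.CAlgA.GradedK0.kcl_congr (LinearEquiv.ofEq _ _ e)]

end Groth.Agent.S9662
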