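import Groth.Statements.S9663
-- import your own Groth.Agent.* helpers here

set_option autoImplicit false
universe u
open CAlg

namespace Groth.Agent.S9663

/-- Let R be a ring and f_i, i in a finite index set, elements of R (no condition on the ideal they
generate). Suppose given for each i an R-module M_i on which f_i acts invertibly, for each pair (i,
j) an R-linear isomorphism ψ_ij : (M_i)_{f_j} → (M_j)_{f_i}, and suppose the cocycle condition ψ_jk
∘ ψ_ij = ψ_ik holds as maps (M_i)_{f_j f_k} → (M_k)_{f_i f_j} for all triples (i, j, k). All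
localizations are given through their universal properties: (M_i)_{f_j} with its map g from M_i;
(M_i)_{f_j f_k} with its map t from M_i and the compatible maps u from (M_i)_{f_j} and v from
(M_i)_{f_k}; and the three localized isomorphisms Ψ₁ (ψ_ij on (M_i)_{f_j f_k}), Ψ₂ (ψ_jk on
(M_j)_{f_i f_k}) and Ψ₃ (ψ_ik on (M_i)_{f_j f_k}) are given as maps compatible with the ψ's. Let M ⊆
Π_i M_i be the submodule of families (m_i) with m_i/1 = ψ_ji(m_j/1) in (M_i)_{f_j} for all i, j.
Then for each i the projection M → M_i exhibits M_i as the localization of M at f_i. -/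
theorem result {R : Type u} [CommRing R] {ι : Type u} [Finite ι] (f : ι → R)
    (Mi : ι → Type u) [∀ i, AddCommGroup (Mi i)] [∀ i, Module R (Mi i)]
    (hMi : ∀ i, IsUnit (algebraMap R (Module.End R (Mi i)) (f i)))
    (Mij : ι → ι → Type u) [∀ i j, AddCommGroup (Mij i j)] [∀ i j, Module R (Mij i j)]
    (g : ∀ i j, Mi i →ₗ[R] Mij i j) [∀ i j, IsLocalizedModule (Submonoid.powers (f j)) (g i j)]
    (ψ : ∀ i j, Mij i j ≃ₗ[R] Mij j i)
    (T : ι → ι → ι → Type u) [∀ i j k, AddCommGroup (T i j k)] [∀ i j k, Module R (T i j k)]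
    (t : ∀ i j k, Mi i →ₗ[R] T i j k) [∀ i j k, IsLocalizedModule (Submonoid.powers (f j * f k)) (t i j k)]
    (u : ∀ i j k, Mij i j →ₗ[R] T i j k) (hu : ∀ i j k, u i j k ∘ₗ g i j = t i j k)
    (v : ∀ i j k, Mij i k →ₗ[R] T i j k) (hv : ∀ i j k, v i j k ∘ₗ g i k = t i j k)
    (Ψ₁ : ∀ i j k, T i j k →ₗ[R] T j i k) (hΨ₁ : ∀ i j k, Ψ₁ i j k ∘ₗ u i j k = u j i k ∘ₗ (ψ i j).toLinearMap)
    (Ψ₂ : ∀ i j k, T j i k →ₗ[R] T k i j) (hΨ₂ : ∀ i j k, Ψ₂ i j k ∘ₗ v j i k = v k i j ∘ₗ (ψ j k).toLinearMap)
    (Ψ₃ : ∀ i j k, T i j k →ₗ[R] T k i j) (hΨ₃ : ∀ i j k, Ψ₃ i j k ∘ₗ v i j k = u k i j ∘ₗ (ψ i k).toLinearMap)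
    (hcoc : ∀ i j k, Ψ₂ i j k ∘ₗ Ψ₁ i j k = Ψ₃ i j k)
    (M : Submodule R (∀ i, Mi i)) (hM : ∀ m : ∀ i, Mi i, m ∈ M ↔ ∀ i j, g i j (m i) = ψ j i (g j i (m j))) (i : ι) :
    IsLocalizedModule (Submonoid.powers (f i)) ((LinearMap.proj i).comp M.subtype : ↥M →ₗ[R] Mi i) := by
  classical
  have hpow : ∀ (a : ι) (n : ℕ), Function.Injective fun x : Mi a => f a ^ n • x := fun a n => by
    have := ((Module.End.isUnit_iff _).1 ((map_pow (algebraMap R (Module.End R (Mi a))) (f a) n).symm ▸ (hMi a).pow n)).injective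
    exact this
  have hid : ∀ a (x : Mi a), ψ a a (g a a x) = g a a x := by
    intro a x
    have huv : u a a a = v a a a := by
      apply IsLocalizedModule.ext (Submonoid.powers (f a)) (g a a)
      · rintro ⟨_, n, rfl⟩
        have h := IsLocalizedModule.map_units (S := Submonoid.powers (f a * f a)) (t a a a) ⟨(f a * f a) ^ n, n, rfl⟩
        simp only [mul_pow, map_mul] at h
        exact (Commute.isUnit_mul_iff (Commute.refl _)).1 h |>.1
      · rw [hu, hv]
    have hinj : Function.Injective (t a a a) := by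
      rw [injective_iff_map_eq_zero]
      intro y hy
      obtain ⟨⟨_, n, rfl⟩, hn⟩ := (IsLocalizedModule.eq_zero_iff (Submonoid.powers (f a * f a)) (t a a a)).1 hy
      apply hpow a (2 * n)
      change f a ^ (2 * n) • y = f a ^ (2 * n) • 0
      rw [smul_zero, ← hn, Submonoid.smul_def, pow_mul, sq]
    obtain ⟨⟨y, _, n, rfl⟩, hy⟩ := IsLocalizedModule.surj (Submonoid.powers (f a)) (g a a) (ψ a a (g a a x))
    simp only [Submonoid.smul_def] at hy
    have h3 := LinearMap.congr_fun (hcoc a a a) (u a a a (g a a x))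
    simp only [LinearMap.comp_apply] at h3
    have e1 := LinearMap.congr_fun (hΨ₁ a a a) (g a a x)
    have e3 := LinearMap.congr_fun (hΨ₃ a a a) (g a a x)
    simp only [LinearMap.comp_apply, LinearEquiv.coe_coe] at e1 e3
    rw [e1] at h3
    nth_rw 2 [huv] at h3
    have e2 := LinearMap.congr_fun (hΨ₂ a a a) (ψ a a (g a a x))
    simp only [LinearMap.comp_apply, LinearEquiv.coe_coe] at e2
    rw [huv] at h3 e3
    rw [e2, e3] at h3
    have h4 := congrArg (fun z => f a ^ n • z) h3
    have hgsurj : Function.Injective (v a a a) := by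
      rw [injective_iff_map_eq_zero]
      intro z hz
      obtain ⟨⟨w, _, k, rfl⟩, hw⟩ := IsLocalizedModule.surj (Submonoid.powers (f a)) (g a a) z
      have hw0 : t a a a w = 0 := by
        rw [← hv, LinearMap.comp_apply, ← hw, Submonoid.smul_def, map_smul, hz, smul_zero]
      rw [hinj (hw0.trans (map_zero _).symm), map_zero] at hw
      exact ((Module.End.isUnit_iff _).1 (IsLocalizedModule.map_units (S := Submonoid.powers (f a)) (g a a) ⟨f a ^ k, k, rfl⟩)).injective (hw.trans (map_zero _).symm)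
    exact (ψ a a).injective (hgsurj h3)
  have hinv : ∀ a b (z : Mij a b), ψ b a (ψ a b z) = z := by
    intro a b
    have huv : u b a a = v b a a := by
      apply IsLocalizedModule.ext (Submonoid.powers (f a)) (g b a)
      · rintro ⟨_, n, rfl⟩
        have h := IsLocalizedModule.map_units (S := Submonoid.powers (f a * f a)) (t b a a) ⟨(f a * f a) ^ n, n, rfl⟩
        simp only [mul_pow, map_mul] at h
        exact (Commute.isUnit_mul_iff (Commute.refl _)).1 h |>.1
      · rw [hu, hv]
    have hvinj : Function.Injective (v a a b) := by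
      rw [injective_iff_map_eq_zero]
      intro z hz
      obtain ⟨⟨w, _, k, rfl⟩, hw⟩ := IsLocalizedModule.surj (Submonoid.powers (f b)) (g a b) z
      have hw0 : t a a b w = 0 := by
        rw [← hv, LinearMap.comp_apply, ← hw, Submonoid.smul_def, map_smul, hz, smul_zero]
      obtain ⟨⟨_, l, rfl⟩, hl⟩ := (IsLocalizedModule.eq_zero_iff (Submonoid.powers (f a * f b)) (t a a b)).1 hw0
      have hl' : f b ^ l • w = 0 := hpow a l (by
        change f a ^ l • (f b ^ l • w) = f a ^ l • 0
        rw [smul_zero, smul_smul, ← mul_pow, ← hl, Submonoid.smul_def])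
      have hgw : g a b w = 0 := (IsLocalizedModule.eq_zero_iff (Submonoid.powers (f b)) (g a b)).2 ⟨⟨_, l, rfl⟩, hl'⟩
      rw [hgw] at hw
      exact ((Module.End.isUnit_iff _).1 (IsLocalizedModule.map_units (S := Submonoid.powers (f b)) (g a b) ⟨f b ^ k, k, rfl⟩)).injective (hw.trans (map_zero _).symm)
    have key : ((ψ b a).toLinearMap.comp (ψ a b).toLinearMap).comp (g a b) = LinearMap.id.comp (g a b) := by
      ext x
      simp only [LinearMap.comp_apply, LinearEquiv.coe_coe, LinearMap.id_apply]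
      apply hvinj
      have h3 := LinearMap.congr_fun (hcoc a b a) (u a b a (g a b x))
      simp only [LinearMap.comp_apply] at h3
      have e1 := LinearMap.congr_fun (hΨ₁ a b a) (g a b x)
      have e2 := LinearMap.congr_fun (hΨ₂ a b a) (ψ a b (g a b x))
      have e3 := LinearMap.congr_fun (hΨ₃ a b a) (g a a x)
      simp only [LinearMap.comp_apply, LinearEquiv.coe_coe] at e1 e2 e3
      rw [e1, huv, e2] at h3
      rw [h3]
      have hu' : u a b a (g a b x) = v a b a (g a a x) := (LinearMap.congr_fun (hu a b a) x).trans (LinearMap.congr_fun (hv a b a) x).symm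
      rw [hu', e3, hid]
      exact (LinearMap.congr_fun (hu a a b) x).trans (LinearMap.congr_fun (hv a a b) x).symm
    have := IsLocalizedModule.ext (Submonoid.powers (f b)) (g a b) (fun s => IsLocalizedModule.map_units (g a b) s) key
    exact fun z => LinearMap.congr_fun this z
  let := Fintype.ofFinite ι
  refine IsLocalizedModule.mk ?_ ?_ ?_
  · rintro ⟨_, n, rfl⟩
    simpa using (hMi i).pow n
  · intro m
    have h : ∀ j, ∃ n : ℕ, ∃ y : Mi j, f i ^ n • ψ i j (g i j m) = g j i y := fun j => by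
      obtain ⟨⟨y, _, n, rfl⟩, hy⟩ := IsLocalizedModule.surj (Submonoid.powers (f i)) (g j i) (ψ i j (g i j m))
      exact ⟨n, y, hy⟩
    choose n y₀ hy₀ using h
    let N := Finset.univ.sup n
    obtain ⟨y, hy0⟩ : ∃ y : ∀ j, Mi j, ∀ j, y j = f i ^ (N - n j) • y₀ j := ⟨_, fun _ => rfl⟩
    have hy : ∀ j, g j i (y j) = f i ^ N • ψ i j (g i j m) := fun j => by
      rw [hy0, map_smul, ← hy₀, smul_smul, ← pow_add, Nat.sub_add_cancel (Finset.le_sup (Finset.mem_univ j))]
    have hK : ∀ p : ι × ι, ∃ k : ℕ, f i ^ k • (g p.1 p.2 (y p.1) - ψ p.2 p.1 (g p.2 p.1 (y p.2))) = 0 := by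
      rintro ⟨j, k⟩
      simp only
      have ha : u j k i (g j k (y j)) = f i ^ N • v j k i (ψ i j (g i j m)) := by
        rw [show u j k i (g j k (y j)) = v j k i (g j i (y j)) from (LinearMap.congr_fun (hu j k i) _).trans (LinearMap.congr_fun (hv j k i) _).symm, hy, map_smul]
      have e1 := LinearMap.congr_fun (hΨ₁ k i j) (g k i (y k))
      have e2 := LinearMap.congr_fun (hΨ₂ k i j) (g i j m)
      have e3 := LinearMap.congr_fun (hΨ₃ k i j) (g k j (y k))
      simp only [LinearMap.comp_apply, LinearEquiv.coe_coe] at e1 e2 e3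
      have hb : u j k i (ψ k j (g k j (y k))) = f i ^ N • v j k i (ψ i j (g i j m)) := by
        rw [← e3, show v k i j (g k j (y k)) = u k i j (g k i (y k)) from (LinearMap.congr_fun (hv k i j) _).trans (LinearMap.congr_fun (hu k i j) _).symm,
          ← hcoc, LinearMap.comp_apply, e1, hy, map_smul, hinv, map_smul, map_smul]
        rw [show u i k j (g i k m) = v i k j (g i j m) from (LinearMap.congr_fun (hu i k j) _).trans (LinearMap.congr_fun (hv i k j) _).symm, e2]
      have hz : u j k i (g j k (y j) - ψ k j (g k j (y k))) = 0 := by rw [map_sub, ha, hb, sub_self]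
      generalize g j k (y j) - ψ k j (g k j (y k)) = z at hz ⊢
      obtain ⟨⟨w, _, l, rfl⟩, hw⟩ := IsLocalizedModule.surj (Submonoid.powers (f k)) (g j k) z
      simp only [Submonoid.smul_def] at hw
      have hw0 : t j k i w = 0 := by rw [← hu, LinearMap.comp_apply, ← hw, map_smul, hz, smul_zero]
      obtain ⟨⟨_, e, rfl⟩, he⟩ := (IsLocalizedModule.eq_zero_iff (Submonoid.powers (f k * f i)) (t j k i)).1 hw0
      refine ⟨e, ?_⟩
      have h1 : f k ^ (e + l) • f i ^ e • z = 0 := by
        rw [smul_smul, show f k ^ (e + l) * f i ^ e = (f k * f i) ^ e * f k ^ l by ring, mul_smul, hw, ← map_smul]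
        exact (congrArg (g j k) he).trans (map_zero _)
      exact ((Module.End.isUnit_iff _).1 (IsLocalizedModule.map_units (S := Submonoid.powers (f k)) (g j k) ⟨f k ^ (e + l), e + l, rfl⟩)).injective (h1.trans (map_zero _).symm)
    choose k hk using hK
    let K := Finset.univ.sup k
    have hmem : (fun j => f i ^ K • y j) ∈ M := by
      rw [hM]
      intro a b
      have hle : k (a, b) ≤ K := Finset.le_sup (Finset.mem_univ (a, b))
      rw [← sub_eq_zero, map_smul, map_smul, map_smul, ← smul_sub, ← Nat.sub_add_cancel hle, pow_add, mul_smul, hk (a, b), smul_zero]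
    refine ⟨(⟨_, hmem⟩, ⟨f i ^ (N + K), N + K, rfl⟩), ?_⟩
    change f i ^ (N + K) • m = f i ^ K • y i
    have hgi : Function.Injective (g i i) := by
      rw [injective_iff_map_eq_zero]
      intro z hz
      obtain ⟨⟨_, l, rfl⟩, hl⟩ := (IsLocalizedModule.eq_zero_iff (Submonoid.powers (f i)) (g i i)).1 hz
      exact hpow i l (hl.trans (smul_zero _).symm)
    apply hgi
    rw [map_smul, map_smul, hy, hid, smul_smul, ← pow_add, add_comm K N]
  · intro x₁ x₂ hx
    have h : ∀ j, ∃ n : ℕ, f i ^ n • x₁.1 j = f i ^ n • x₂.1 j := fun j => by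
      have h1 := (hM x₁.1).1 x₁.2 j i
      have h2 := (hM x₂.1).1 x₂.2 j i
      have hx' : x₁.1 i = x₂.1 i := hx
      rw [hx'] at h1
      obtain ⟨⟨_, n, rfl⟩, hn⟩ := IsLocalizedModule.exists_of_eq (S := Submonoid.powers (f i)) (h1.trans h2.symm)
      exact ⟨n, hn⟩
    choose n hn using h
    refine ⟨⟨f i ^ Finset.univ.sup n, _, rfl⟩, Subtype.ext (funext fun j => ?_)⟩
    change f i ^ Finset.univ.sup n • x₁.1 j = f i ^ Finset.univ.sup n • x₂.1 j
    rw [← Nat.sub_add_cancel (Finset.le_sup (f := n) (Finset.mem_univ j)), pow_add, mul_smul, mul_smul, hn j]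

end Groth.Agent.S9663
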