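import Groth.Statements.S9664
import Groth.Agent.CAlgA.FibreMod

set_option autoImplicit false
universe u
open CAlg

namespace Groth.Agent.S9664

/-- Let R → S be a ring map, N an S-module, q a prime of S and p the prime of R below q; an associated
prime of a module is a prime ideal equal to the annihilator of some element. Then q is an associated
prime of the S-module N ⊗_R κ(p) (the fibre module of N over p, an S-module by restriction of
scalars along S → S ⊗_R κ(p)) if and only if q is the inverse image in S of an associated prime of N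
⊗_R κ(p) regarded as a module over the fibre ring S ⊗_R κ(p). -/
theorem result {R S : Type u} [CommRing R] [CommRing S] [Algebra R S] (N : Type u) [AddCommGroup N] [Module S N] [Module R N] [IsScalarTower R S N]
    (p : Ideal R) [p.IsPrime] (q : Ideal S) [q.IsPrime] (hq : q.comap (algebraMap R S) = p) :
    q ∈ FlatCA.ass S (FlatCA.fiberMod p S N) ↔
      ∃ Q ∈ FlatCA.ass (p.Fiber S) (FlatCA.fiberMod p S N),
        Q.comap (Algebra.TensorProduct.includeRight (R := R) (A := p.ResidueField) (B := S)).toRingHom = q := by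
  constructor
  · rintro ⟨_, m, hm⟩
    refine ⟨(Submodule.span (p.Fiber S) {m}).annihilator, ⟨?_, m, rfl⟩, ?_⟩
    · refine ⟨fun htop => ?_, fun {x y} hxy => ?_⟩
      · apply ‹q.IsPrime›.ne_top
        rw [Ideal.eq_top_iff_one, hm, Groth.Agent.WeakAss.mem_ann]
        have h1 : (1 : p.Fiber S) • m = 0 := Groth.Agent.WeakAss.mem_ann.1 (htop ▸ Submodule.mem_top)
        rw [one_smul] at h1 ⊢; exact h1
      · obtain ⟨r, hr, a, ha⟩ := Ideal.Fiber.exists_smul_eq_one_tmul p x
        obtain ⟨r', hr', b, hb⟩ := Ideal.Fiber.exists_smul_eq_one_tmul p y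
        have hiff : ∀ (r : R) (_ : r ∉ p) (z : p.Fiber S) (c : S), r • z = (1 : p.ResidueField) ⊗ₜ[R] c →
            (z ∈ (Submodule.span (p.Fiber S) {m}).annihilator ↔ c ∈ q) := by
          intro r hr z c hz
          rw [hm, Groth.Agent.WeakAss.mem_ann, Groth.Agent.WeakAss.mem_ann, ← Groth.Agent.CAlgA.FibreMod.includeRight_smul N p c,
            show (Algebra.TensorProduct.includeRight (R := R) (A := p.ResidueField) c : p.Fiber S) = r • z from hz.symm,
            Algebra.smul_def, mul_smul, ← Algebra.TensorProduct.includeRight.commutes,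
            (Groth.Agent.CAlgA.FibreMod.isUnit_of_notMem p hr).smul_eq_zero]
        rw [hiff r hr x a ha, hiff r' hr' y b hb]
        refine ‹q.IsPrime›.mem_or_mem ((hiff (r * r') (fun h => (‹p.IsPrime›.mem_or_mem h).elim hr hr') (x * y) (a * b) ?_).1 hxy)
        rw [← smul_mul_smul_comm, ha, hb, Algebra.TensorProduct.tmul_mul_tmul, one_mul]
    · ext a
      simp only [Ideal.mem_comap, hm, Groth.Agent.WeakAss.mem_ann]
      rw [← Groth.Agent.CAlgA.FibreMod.includeRight_smul N p a]
      exact Iff.rfl
  · rintro ⟨Q, ⟨_, m, hm⟩, rfl⟩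
    refine ⟨inferInstance, m, ?_⟩
    ext a
    simp only [Ideal.mem_comap, hm, Groth.Agent.WeakAss.mem_ann]
    rw [← Groth.Agent.CAlgA.FibreMod.includeRight_smul N p a]
    exact Iff.rfl

end Groth.Agent.S9664
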