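import Groth.Statements.S9666
import Groth.Agent.CAlgA.FibreMod

set_option autoImplicit false
universe u
open CAlg

namespace Groth.Agent.S9666

/-- Part (3): (A ⊆ A_fin): let R → S be a ring map with S Noetherian, N an S-module, q a prime of S and
p the prime of R below q; an associated prime of a module is a prime ideal equal to the annihilator
of some element. If q is an associated prime of the S-module N ⊗_R κ(p) (the fibre module over p, an
S-module by restriction of scalars), then q is an associated prime of the S-module N/pN. -/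
theorem result {R S : Type u} [CommRing R] [CommRing S] [Algebra R S] (N : Type u) [AddCommGroup N] [Module S N] [Module R N] [IsScalarTower R S N] [IsNoetherianRing S]
    (p : Ideal R) [p.IsPrime] (q : Ideal S) [q.IsPrime] (hq : q.comap (algebraMap R S) = p)
    (h : q ∈ FlatCA.ass S (FlatCA.fiberMod p S N)) :
    q ∈ FlatCA.ass S (N ⧸ (p.map (algebraMap R S)) • (⊤ : Submodule S N)) := by
  classical
  obtain ⟨_, x, hx⟩ := h
  obtain ⟨r₀, hr₀, n, hn⟩ := Groth.Agent.CAlgA.FibreMod.exists_smul_eq N p x
  have hnot : ∀ r ∉ p, algebraMap R S r ∉ q := fun r hr h => hr (hq ▸ h)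
  obtain ⟨G, hG⟩ := IsNoetherian.noetherian q
  have hG' : ∀ g ∈ G, ∃ r ∉ p, algebraMap R S r • g • n ∈ Groth.Agent.CAlgA.FibreMod.pN (S := S) N p := fun g hg => by
    refine Groth.Agent.CAlgA.FibreMod.exists_smul_mem N p ?_
    have hgx : g • x = 0 := Groth.Agent.WeakAss.mem_ann.1 (hx ▸ hG ▸ Submodule.subset_span hg)
    rw [map_smul, ← hn, smul_smul, mul_comm, mul_smul, hgx]
    exact smul_zero (A := FlatCA.fiberMod p S N) _
  choose! c hc hc' using hG'
  let t := ∏ g ∈ G, algebraMap R S (c g)
  have ht : t ∉ q := fun h => by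
    obtain ⟨g, hg, hg'⟩ := ‹q.IsPrime›.prod_mem_iff.1 h
    exact hnot _ (hc g hg) hg'
  refine ⟨inferInstance, Submodule.Quotient.mk (t • n), le_antisymm ?_ fun a ha => ?_⟩
  · rw [← hG]
    refine Submodule.span_le.2 fun g hg => ?_
    rw [SetLike.mem_coe, Groth.Agent.WeakAss.mem_ann, ← Submodule.Quotient.mk_smul, Submodule.Quotient.mk_eq_zero]
    obtain ⟨d, hd⟩ := Finset.dvd_prod_of_mem (fun g => algebraMap R S (c g)) hg
    rw [smul_smul, show g * t = d * (algebraMap R S (c g) * g) by rw [show t = _ from hd]; ring, mul_smul, mul_smul]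
    exact Submodule.smul_mem _ _ (hc' g hg)
  · rw [Groth.Agent.WeakAss.mem_ann, ← Submodule.Quotient.mk_smul, Submodule.Quotient.mk_eq_zero, smul_smul] at ha
    have h0 := Groth.Agent.CAlgA.FibreMod.toFiberMod_eq_zero_of_mem N p ha
    rw [map_smul, ← hn, smul_smul] at h0
    have : a * t * algebraMap R S r₀ ∈ q := hx ▸ Groth.Agent.WeakAss.mem_ann.2 h0
    exact (‹q.IsPrime›.mem_or_mem ((‹q.IsPrime›.mem_or_mem this).resolve_right (hnot _ hr₀))).resolve_right ht

end Groth.Agent.S9666
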