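import Groth.Statements.S9667
import Groth.Agent.CAlgA.FibreMod

set_option autoImplicit false
universe u
open CAlg

namespace Groth.Agent.S9667

open TensorProduct in
theorem exists_fg {R S : Type u} [CommRing R] [CommRing S] [Algebra R S] (N : Type u) [AddCommGroup N] [Module S N] [Module R N]
    [IsScalarTower R S N] {M : Type u} [AddCommGroup M] [Module R M] (q : Ideal S) (hqfg : q.FG) [q.IsPrime]
    (h : q ∈ FlatCA.ass S (N ⊗[R] M)) : ∃ M' : Submodule R M, M'.FG ∧ q ∈ FlatCA.ass S (N ⊗[R] ↥M') := by
  classical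
  obtain ⟨_, x, hx⟩ := h
  obtain ⟨M₀, hM₀, hsub⟩ := TensorProduct.exists_finite_submodule_right_of_setFinite {x} (Set.finite_singleton x)
  obtain ⟨y, hy⟩ := hsub rfl
  have hlin : ∀ {A B : Submodule R M} (f : ↥A →ₗ[R] ↥B) (a : S) (z : N ⊗[R] ↥A), f.lTensor N (a • z) = a • f.lTensor N z :=
    fun f a z => (TensorProduct.AlgebraTensorModule.lTensor S N f).map_smul a z
  have hlin' : ∀ {A : Submodule R M} (a : S) (z : N ⊗[R] ↥A), A.subtype.lTensor N (a • z) = a • A.subtype.lTensor N z :=
    fun a z => (TensorProduct.AlgebraTensorModule.lTensor S N _).map_smul a z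
  obtain ⟨G, hG⟩ := hqfg
  have hG' : ∀ g ∈ G, g • x = 0 := fun g hg => Groth.Agent.WeakAss.mem_ann.1 (hx ▸ hG ▸ Submodule.subset_span hg)
  choose! M'' hle hfg h0 using fun g (hg : g ∈ G) =>
    Groth.Agent.CAlgA.FibreMod.exists_fg_lTensor_eq_zero N M₀ (Module.Finite.iff_fg.1 hM₀) (g • y) (by rw [hlin', hy, hG' g hg])
  let M' := M₀ ⊔ G.sup M''
  have hle0 : M₀ ≤ M' := le_sup_left
  refine ⟨M', (Module.Finite.iff_fg.1 hM₀).sup (Submodule.fg_finset_sup _ _ hfg), inferInstance, (Submodule.inclusion hle0).lTensor N y, le_antisymm ?_ fun a ha => ?_⟩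
  · rw [← hG]
    refine Submodule.span_le.2 fun g hg => ?_
    rw [SetLike.mem_coe, Groth.Agent.WeakAss.mem_ann, ← hlin]
    have hle' : M'' g ≤ M' := (Finset.le_sup hg).trans le_sup_right
    rw [show Submodule.inclusion hle0 = (Submodule.inclusion hle').comp (Submodule.inclusion (hle g hg)) from rfl,
      LinearMap.lTensor_comp_apply, h0 g hg, map_zero]
  · rw [hx, Groth.Agent.WeakAss.mem_ann, ← hy, ← hlin']
    rw [Groth.Agent.WeakAss.mem_ann, ← hlin] at ha
    have := congrArg (M'.subtype.lTensor N) ha
    rw [map_zero, ← LinearMap.lTensor_comp_apply] at this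
    exact this

open TensorProduct in
/-- Part (3): (B = B_fin): let R → S be a ring map with S Noetherian, N an S-module, M an R-module and q
a prime of S; an associated prime of a module is a prime ideal equal to the annihilator of some
element. If q is an associated prime of the S-module N ⊗_R M, then there is a finitely generated
R-submodule M' ⊆ M such that q is an associated prime of the S-module N ⊗_R M'. -/
theorem result {R S : Type u} [CommRing R] [CommRing S] [Algebra R S] (N : Type u) [AddCommGroup N] [Module S N] [Module R N] [IsScalarTower R S N] [IsNoetherianRing S]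
    (M : Type u) [AddCommGroup M] [Module R M] (q : Ideal S) [q.IsPrime] (h : q ∈ FlatCA.ass S (N ⊗[R] M)) :
    ∃ M' : Submodule R M, M'.FG ∧ q ∈ FlatCA.ass S (N ⊗[R] ↥M') := by
  exact exists_fg N q (IsNoetherian.noetherian q) h

end Groth.Agent.S9667
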