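import Groth.Statements.S9668
import Groth.Agent.WeakAss.Basic
import Mathlib.RingTheory.Flat.Basic
import Mathlib.LinearAlgebra.TensorProduct.Finiteness

set_option autoImplicit false
universe u
open CAlg

namespace Groth.Agent.S9668

open TensorProduct in
/-- Part (4): (B = B_fin): let R → S be a ring map, N an S-module flat over R, M an R-module and q a
prime of S; an associated prime of a module is a prime ideal equal to the annihilator of some
element. If q is an associated prime of the S-module N ⊗_R M, then there is a finitely generated
R-submodule M' ⊆ M such that q is an associated prime of the S-module N ⊗_R M'. -/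
theorem result {R S : Type u} [CommRing R] [CommRing S] [Algebra R S] (N : Type u) [AddCommGroup N] [Module S N] [Module R N] [IsScalarTower R S N] [Module.Flat R N]
    (M : Type u) [AddCommGroup M] [Module R M] (q : Ideal S) [q.IsPrime] (h : q ∈ FlatCA.ass S (N ⊗[R] M)) :
    ∃ M' : Submodule R M, M'.FG ∧ q ∈ FlatCA.ass S (N ⊗[R] ↥M') := by
  obtain ⟨_, x, hx⟩ := h
  obtain ⟨M₀, hM₀, hsub⟩ := TensorProduct.exists_finite_submodule_right_of_setFinite {x} (Set.finite_singleton x)
  obtain ⟨y, hy⟩ := hsub rfl
  refine ⟨M₀, Module.Finite.iff_fg.1 hM₀, inferInstance, y, ?_⟩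
  rw [hx, ← hy]
  exact Groth.Agent.WeakAss.ann_map (f := TensorProduct.AlgebraTensorModule.lTensor S N M₀.subtype)
    (Module.Flat.lTensor_preserves_injective_linearMap (M := N) M₀.subtype Subtype.val_injective) y

end Groth.Agent.S9668
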