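import Groth.Statements.S9671
import Mathlib.Algebra.Polynomial.AlgebraMap
import Mathlib.RingTheory.GradedAlgebra.Basic
import Mathlib.Algebra.Algebra.Prod

set_option autoImplicit false
universe u
open CAlg

namespace Groth.Agent.S9671

section
open Polynomial
variable (R : Type u) {R' : Type u} [CommRing R] [CommRing R'] [Algebra R R']

/-- The projection of `R'[X] × R` to degree `i`. -/
noncomputable def comp : ℕ → (R'[X] × R →ₗ[R] R'[X] × R)
  | 0 => (Algebra.linearMap R (R'[X] × R)).comp (LinearMap.snd R R'[X] R)
  | (i + 1) => (LinearMap.inl R R'[X] R).comp (((monomial (i + 1)).restrictScalars R).comp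
      (((lcoeff R' (i + 1)).restrictScalars R).comp (LinearMap.fst R R'[X] R)))

theorem comp_zero_apply (p : R'[X] × R) : comp R 0 p = algebraMap R (R'[X] × R) p.2 := rfl

theorem comp_succ_apply (i : ℕ) (p : R'[X] × R) :
    comp R (i + 1) p = (monomial (i + 1) (p.1.coeff (i + 1)), 0) := rfl

theorem eq_of_pos {i : ℕ} {p : R'[X] × R} (hi : 0 < i) (h : comp R i p = p) :
    ∃ v, p = (monomial i v, 0) := by
  obtain ⟨j, rfl⟩ := Nat.exists_eq_add_of_lt hi
  simp only [zero_add] at h ⊢
  exact ⟨_, h.symm.trans (comp_succ_apply R j p)⟩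

theorem comp_monomial {i : ℕ} (hi : 0 < i) (v : R') :
    comp R i ((monomial i v, 0) : R'[X] × R) = (monomial i v, 0) := by
  obtain ⟨j, rfl⟩ := Nat.exists_eq_add_of_lt hi
  simp [comp_succ_apply]

theorem comp_of_ne {i j : ℕ} {p : R'[X] × R} (h : comp R i p = p) (hij : i ≠ j) : comp R j p = 0 := by
  rcases Nat.eq_zero_or_pos i with rfl | hi
  · obtain ⟨k, rfl⟩ : ∃ k, j = k + 1 := Nat.exists_eq_succ_of_ne_zero (Ne.symm hij)
    rw [← h, comp_zero_apply, comp_succ_apply]
    simp [Prod.algebraMap_apply, Polynomial.algebraMap_apply]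
  · obtain ⟨v, rfl⟩ := eq_of_pos R hi h
    cases j with
    | zero => simp [comp_zero_apply]
    | succ k => simp [comp_succ_apply, coeff_monomial, hij]

theorem comp_mul {i j : ℕ} {p q : R'[X] × R} (hp : comp R i p = p) (hq : comp R j q = q) :
    comp R (i + j) (p * q) = p * q := by
  rcases Nat.eq_zero_or_pos i with rfl | hi
  · rw [← hp, comp_zero_apply, ← Algebra.smul_def, zero_add, map_smul, hq]
  rcases Nat.eq_zero_or_pos j with rfl | hj
  · rw [← hq, comp_zero_apply, mul_comm, ← Algebra.smul_def, add_zero, map_smul, hp]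
  obtain ⟨v, rfl⟩ := eq_of_pos R hi hp
  obtain ⟨w, rfl⟩ := eq_of_pos R hj hq
  rw [Prod.mk_mul_mk, monomial_mul_monomial, mul_zero]
  exact comp_monomial R (by omega) _

variable (G : Set R')

/-- The homogenised algebra inside `R'[X] × R`. -/
noncomputable abbrev homog : Subalgebra R (R'[X] × R) :=
  Algebra.adjoin R (insert ((X : R'[X]), (0 : R)) ((fun g => ((monomial 1 g : R'[X]), (0 : R))) '' G))

/-- Its grading. -/
noncomputable def piece (i : ℕ) : Submodule R (homog R G) :=
  LinearMap.eqLocus ((comp R i).comp (homog R G).val.toLinearMap) (homog R G).val.toLinearMap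

theorem mem_piece {i : ℕ} {x : homog R G} : x ∈ piece R G i ↔ comp R i x.1 = x.1 := Iff.rfl

instance piece_gradedMonoid : SetLike.GradedMonoid (piece R G) where
  one_mem := by
    rw [mem_piece, comp_zero_apply]
    show algebraMap R (R'[X] × R) (1 : R) = _
    rw [map_one]; rfl
  mul_mem _ _ _ _ hp hq := comp_mul R hp hq

theorem mem_piece_one {g : R'} : comp R 1 ((monomial 1 g, 0) : R'[X] × R) = (monomial 1 g, 0) :=
  comp_monomial R Nat.one_pos g

theorem gen_mem {y : R'[X] × R} (hy : y ∈ insert ((X : R'[X]), (0 : R)) ((fun g => ((monomial 1 g : R'[X]), (0 : R))) '' G)) :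
    comp R 1 y = y := by
  rcases hy with rfl | ⟨g, _, rfl⟩
  · rw [← monomial_one_one_eq_X]; exact mem_piece_one R
  · exact mem_piece_one R

theorem piece_isInternal : DirectSum.IsInternal (piece R G) := by
  classical
  have hcoe : ∀ z, DirectSum.coeAddMonoidHom (piece R G) z = DirectSum.coeAlgHom (piece R G) z := by
    intro z
    induction z using DirectSum.induction_on with
    | zero => simp
    | of i x => rw [DirectSum.coeAddMonoidHom_of, DirectSum.coeAlgHom_of]
    | add a b ha hb => rw [map_add, map_add, ha, hb]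
  constructor
  · have key : ∀ z j, comp R j (DirectSum.coeAddMonoidHom (piece R G) z).1 = (z j).1.1 := by
      intro z j
      induction z using DirectSum.induction_on with
      | zero => simp
      | of i x =>
        rw [DirectSum.coeAddMonoidHom_of]
        rcases eq_or_ne i j with rfl | hij
        · rw [DirectSum.of_eq_same]; exact x.2
        · rw [DirectSum.of_eq_of_ne _ _ _ (Ne.symm hij), comp_of_ne R ((mem_piece R G).1 x.2) hij]; rfl
      | add a b ha hb => simp [ha, hb]
    intro z w h
    refine DFinsupp.ext fun j => Subtype.ext (Subtype.ext ?_)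
    rw [← key z j, ← key w j, h]
  · intro a
    have hle : homog R G ≤ (DirectSum.coeAlgHom (piece R G)).range.map (homog R G).val := by
      refine Algebra.adjoin_le fun y hy => ?_
      exact ⟨⟨y, Algebra.subset_adjoin hy⟩, ⟨DirectSum.of (fun i => piece R G i) 1 ⟨⟨y, Algebra.subset_adjoin hy⟩, gen_mem R G hy⟩, DirectSum.coeAlgHom_of _ _ _⟩, rfl⟩
    obtain ⟨b, ⟨z, hz⟩, hb⟩ := hle a.2
    exact ⟨z, (hcoe z).trans (hz.trans (Subtype.ext hb))⟩

/-- The graded algebra structure. -/
@[implicit_reducible]
noncomputable def gradedAlgebra : GradedAlgebra (piece R G) :=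
  { piece_gradedMonoid R G, (piece_isInternal R G).chooseDecomposition _ with }

end

/-- Let R be a ring and R' an R-algebra of finite type. Then there are an ℕ-graded R-algebra S such that
R → S₀ is bijective and S is generated as an R-algebra by a finite set of degree-1 elements, an
element f ∈ S₁, and a ring isomorphism e between the degree-zero part S_(f) of the localization S_f
and R' which matches r/1 with the image of r in R' for every r ∈ R (so R' is identified with S_(f)
as an R-algebra). The published statement also produces, from a finite R'-module, a finite graded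
S-module whose degree-zero localization at f recovers it; that half is not part of this row. -/
theorem result (R R' : Type u) [CommRing R] [CommRing R'] [Algebra R R'] [Algebra.FiniteType R R'] :
    ∃ (S : Type u) (_ : CommRing S) (_ : Algebra R S) (𝒜 : ℕ → Submodule R S) (_ : GradedAlgebra 𝒜) (f : S) (_ : f ∈ 𝒜 1) (s : Finset S)
      (e : HomogeneousLocalization.Away 𝒜 f ≃+* R'),
      Function.Injective (algebraMap R S) ∧ (∀ x ∈ 𝒜 0, x ∈ Set.range (algebraMap R S)) ∧
      (↑s ⊆ (𝒜 1 : Set S)) ∧ Algebra.adjoin R (s : Set S) = ⊤ ∧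
      ∀ r : R, (e.symm (algebraMap R R' r)).val = algebraMap S (Localization.Away f) (algebraMap R S r) := by
  classical
  obtain ⟨G, hG⟩ := (inferInstance : Algebra.FiniteType R R').out
  let := gradedAlgebra R (G : Set R')
  let f : homog R (G : Set R') := ⟨(Polynomial.X, 0), Algebra.subset_adjoin (Set.mem_insert _ _)⟩
  have hf : f ∈ piece R (G : Set R') 1 := (mem_piece R (G : Set R')).2 (gen_mem R (G : Set R') (y := ((Polynomial.X : Polynomial R'), (0 : R))) (Set.mem_insert _ _))
  let ev : homog R (G : Set R') →ₐ[R] R' := (((Polynomial.aeval (1 : R')).restrictScalars R).comp (AlgHom.fst R (Polynomial R') R)).comp (homog R (G : Set R')).val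
  have hevf : ev f = 1 := by simp [ev, f]
  have hunit : IsUnit (ev.toRingHom f) := by rw [show ev.toRingHom f = 1 from hevf]; exact isUnit_one
  let L : Localization.Away f →+* R' := IsLocalization.Away.lift f hunit
  have hL : ∀ (n : ℕ) (x : homog R (G : Set R')), L (Localization.mk x ⟨f ^ n, n, rfl⟩) = ev x := by
    intro n x
    have := congrArg L (IsLocalization.mk'_spec (Localization.Away f) x (⟨f ^ n, n, rfl⟩ : Submonoid.powers f))
    rw [map_mul, IsLocalization.Away.lift_eq, IsLocalization.Away.lift_eq] at this
    simpa [Localization.mk_eq_mk', hevf] using this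
  let ψ : HomogeneousLocalization.Away (piece R (G : Set R')) f →+* R' := L.comp (algebraMap _ (Localization.Away f))
  have hψ : ∀ (n : ℕ) x (hx : x ∈ piece R (G : Set R') (n • 1)), ψ (HomogeneousLocalization.Away.mk _ hf n x hx) = ev x := by
    intro n x hx
    change L (HomogeneousLocalization.Away.mk _ hf n x hx).val = _
    rw [HomogeneousLocalization.Away.val_mk]
    exact hL n x
  have hinj : Function.Injective ψ := by
    rw [injective_iff_map_eq_zero]
    intro y hy
    obtain ⟨n, x, hx, rfl⟩ := HomogeneousLocalization.Away.mk_surjective (piece R (G : Set R')) hf y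
    rw [hψ] at hy
    apply HomogeneousLocalization.val_injective
    rw [HomogeneousLocalization.Away.val_mk, HomogeneousLocalization.val_zero, Localization.mk_eq_mk', IsLocalization.mk'_eq_zero_iff]
    refine ⟨⟨f, 1, pow_one f⟩, Subtype.ext ?_⟩
    have hx' : comp R (n • 1) x.1 = x.1 := hx
    simp only [smul_eq_mul, mul_one] at hx'
    change ((Polynomial.X : Polynomial R'), (0 : R)) * x.1 = 0
    change Polynomial.aeval (1 : R') x.1.1 = 0 at hy
    rcases Nat.eq_zero_or_pos n with rfl | hn
    · rw [comp_zero_apply] at hx'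
      rw [← hx'] at hy
      rw [← hx']
      simp only [Prod.algebraMap_apply, Polynomial.algebraMap_apply, Polynomial.aeval_C, Algebra.algebraMap_self, RingHom.id_apply] at hy
      simp [Prod.algebraMap_apply, Polynomial.algebraMap_apply, hy]
    · obtain ⟨v, hv⟩ := eq_of_pos R hn hx'
      rw [hv] at hy ⊢
      simp only [Polynomial.aeval_monomial, one_pow, mul_one, Algebra.algebraMap_self, RingHom.id_apply] at hy
      simp [hy]
  have hsurj : Function.Surjective ψ := by
    have hrange : ∀ a, ev a ∈ Set.range ψ := by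
      intro a
      induction a using DirectSum.Decomposition.inductionOn (piece R (G : Set R')) with
      | zero => exact ⟨0, by rw [map_zero, map_zero]⟩
      | homogeneous m =>
        rename_i j
        exact ⟨_, hψ j m.1 (by simp)⟩
      | add a b ha hb =>
        obtain ⟨⟨u, hu⟩, ⟨w, hw⟩⟩ := And.intro ha hb
        exact ⟨u + w, by rw [map_add, map_add, hu, hw]⟩
    intro r
    obtain ⟨a, rfl⟩ : r ∈ ev.range := by
      have hle : Algebra.adjoin R (G : Set R') ≤ ev.range := Algebra.adjoin_le fun g hg =>
        ⟨⟨(Polynomial.monomial 1 g, 0), Algebra.subset_adjoin (Set.mem_insert_of_mem _ ⟨g, hg, rfl⟩)⟩, by simp [ev]⟩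
      exact hle (hG ▸ Algebra.mem_top)
    exact hrange a
  let gens : Finset (homog R (G : Set R')) := insert f (G.attach.image fun g => ⟨(Polynomial.monomial 1 g.1, 0), Algebra.subset_adjoin (Set.mem_insert_of_mem _ ⟨g.1, g.2, rfl⟩)⟩)
  refine ⟨homog R (G : Set R'), inferInstance, inferInstance, piece R (G : Set R'), inferInstance, f, hf, gens, RingEquiv.ofBijective ψ ⟨hinj, hsurj⟩, ?_, ?_, ?_, ?_, ?_⟩
  · intro a b h
    simpa using congrArg (fun z : homog R (G : Set R') => z.1.2) h
  · intro x hx
    exact ⟨x.1.2, Subtype.ext ((comp_zero_apply R x.1).symm.trans hx)⟩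
  · intro y hy
    simp only [gens, Finset.coe_insert, Finset.coe_image, Set.mem_insert_iff, Set.mem_image] at hy
    rcases hy with rfl | ⟨g, _, rfl⟩
    · exact hf
    · exact mem_piece_one R
  · rw [eq_top_iff]
    intro a _
    have hle : homog R (G : Set R') ≤ (Algebra.adjoin R (gens : Set (homog R (G : Set R')))).map (homog R (G : Set R')).val := by
      refine Algebra.adjoin_le ?_
      rintro y (rfl | ⟨g, hg, rfl⟩)
      · exact ⟨f, Algebra.subset_adjoin (Finset.mem_insert_self _ _), rfl⟩
      · exact ⟨_, Algebra.subset_adjoin (Finset.mem_insert_of_mem (Finset.mem_image.2 ⟨⟨g, hg⟩, Finset.mem_attach _ _, rfl⟩)), rfl⟩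
    obtain ⟨b, hb, hb'⟩ := hle a.2
    rwa [← show b = a from Subtype.ext hb']
  · intro r
    have hmem : algebraMap R (homog R (G : Set R')) r ∈ piece R (G : Set R') (0 • 1) := by
      rw [zero_smul]
      exact SetLike.algebraMap_mem_graded _ r
    have : (RingEquiv.ofBijective ψ ⟨hinj, hsurj⟩).symm (algebraMap R R' r) = HomogeneousLocalization.Away.mk _ hf 0 _ hmem := by
      rw [RingEquiv.symm_apply_eq]
      exact ((hψ 0 _ hmem).trans (AlgHom.commutes ev r)).symm
    rw [this, HomogeneousLocalization.Away.val_mk, ← Localization.mk_one_eq_algebraMap]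
    congr 1
    exact Subtype.ext (pow_zero f)

end Groth.Agent.S9671
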