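import Groth.Statements.S9676
import Groth.Agent.S9675
import Groth.Agent.NormNormal.Rel
import Groth.Agent.DimOneStalk.Algebra
import Groth.Agent.DimOneStalk.Geometry

set_option autoImplicit false
universe u
open CategoryTheory CategoryTheory.Limits AlgebraicGeometry
open Mor

namespace Groth.Agent.S9676

/-- Let f : Y ⟶ X be of finite type with Y reduced and every affine open of X having Nagata coordinate
ring, and let X' be the normalization of X in Y. If x' is a point of X' whose local ring has
dimension 1 and over which the fibre of Y ⟶ X' is empty, then the local ring of X' at x' is a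
discrete valuation ring. (Such an f is automatically quasi-separated; the binder is carried only to
form the relative normalization.) -/
theorem result {X Y : Scheme.{u}} (f : Y ⟶ X)
    [LocallyOfFiniteType f] [QuasiCompact f] [QuasiSeparated f] [IsReduced Y]
    (hX : ∀ U : X.affineOpens, CAlg.IsNagata Γ(X, U))
    (x' : ↥f.normalization) (hdim : ringKrullDim (f.normalization.presheaf.stalk x') = 1)
    (hx' : x' ∉ Set.range f.toNormalization.base) :
    ∃ _ : IsDomain (f.normalization.presheaf.stalk x'),
      IsDiscreteValuationRing (f.normalization.presheaf.stalk x') := by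
  haveI : IsFinite f.fromNormalization := Groth.Agent.S9675.result f hX
  obtain ⟨U, hU, hxU, -⟩ := exists_isAffineOpen_mem_and_subset
    (x := f.fromNormalization x') (U := ⊤) trivial
  have hW : IsAffineOpen (f.fromNormalization ⁻¹ᵁ U) := hU.preimage _
  have hle : f ⁻¹ᵁ U ≤ f.toNormalization ⁻¹ᵁ f.fromNormalization ⁻¹ᵁ U := by
    rw [← Scheme.Hom.comp_preimage, f.toNormalization_fromNormalization]
  let A := Γ(f.normalization, f.fromNormalization ⁻¹ᵁ U)
  let C := Γ(Y, f ⁻¹ᵁ U)
  letI : Algebra A C := (f.toNormalization.appLE (f.fromNormalization ⁻¹ᵁ U) (f ⁻¹ᵁ U) hle).hom.toAlgebra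
  have hic : IsIntegrallyClosedIn A C := Groth.Agent.NormNormal.isIntegrallyClosedIn_sections f hU hle
  have hAC : Function.Injective (algebraMap A C) := (isIntegrallyClosedIn_iff.1 hic).1
  haveI : IsReduced A := isReduced_of_injective (algebraMap A C) hAC
  haveI : IsNoetherianRing Γ(X, U) := (hX ⟨U, hU⟩).1
  haveI : IsNoetherianRing A := by
    letI := (f.fromNormalization.app U).hom.toAlgebra
    haveI : Module.Finite Γ(X, U) A := IsFinite.finite_app (f := f.fromNormalization) U hU
    exact IsNoetherianRing.of_finite Γ(X, U) A
  let x₀ : (f.fromNormalization ⁻¹ᵁ U) := ⟨x', hxU⟩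
  let p := (hW.primeIdealOf x₀).asIdeal
  let R := f.normalization.presheaf.stalk x'
  letI : Algebra A R := TopCat.Presheaf.algebra_section_stalk f.normalization.presheaf x₀
  haveI hloc : IsLocalization.AtPrime R p := hW.isLocalization_stalk x₀
  haveI : IsNoetherianRing R := IsLocalization.isNoetherianRing p.primeCompl R inferInstance
  haveI : IsReduced R := isReduced_localizationPreserves p.primeCompl R inferInstance
  let C' := Localization (Algebra.algebraMapSubmonoid C p.primeCompl)
  letI : Algebra R C' := (IsLocalization.lift (M := p.primeCompl) (S := R) (g := algebraMap A C') fun s => by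
    rw [IsScalarTower.algebraMap_apply A C C']
    exact IsLocalization.map_units C' (⟨algebraMap A C s, s.1, s.2, rfl⟩ : Algebra.algebraMapSubmonoid C p.primeCompl)).toAlgebra
  haveI : IsScalarTower A R C' := IsScalarTower.of_algebraMap_eq fun z => (IsLocalization.lift_eq _ z).symm
  refine Groth.Agent.DimOneStalk.main (R := R) (C := C') hdim
    (Groth.Agent.DimOneStalk.isIntegrallyClosedIn_localization (A := A) (C := C) (R := R) (C' := C') p.primeCompl hic)
    fun t ht htmin => ?_
  obtain ⟨a, s₀, rfl⟩ := IsLocalization.exists_mk'_eq p.primeCompl t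
  have hqc : IsCompact ((f ⁻¹ᵁ U : Y.Opens) : Set Y) := f.isCompact_preimage hU.isCompact
  have hqs : IsQuasiSeparated ((f ⁻¹ᵁ U : Y.Opens) : Set Y) := f.isQuasiSeparated_preimage hU.isQuasiSeparated
  obtain ⟨s, hs, N, c, hc⟩ := Groth.Agent.DimOneStalk.exists_dvd_pow f.toNormalization hW hqc hqs hle x₀ hx' a
    (fun q hq hqp haq => by
      have hd : Disjoint (p.primeCompl : Set A) q := Set.disjoint_left.2 fun z hz hzq => hz (hqp hzq)
      haveI := IsLocalization.isPrime_of_isPrime_disjoint p.primeCompl R q hq hd
      have hmem : IsLocalization.mk' R a s₀ ∈ q.map (algebraMap A R) := by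
        rw [IsLocalization.mk'_eq_mul_mk'_one]
        exact Ideal.mul_mem_right _ _ (Ideal.mem_map_of_mem _ haq)
      rcases Groth.Agent.DimOneStalk.mem_minimalPrimes_or_eq_maximalIdeal hdim.le (q.map (algebraMap A R))
        with h | h
      · exact absurd hmem (htmin _ h)
      · rw [← IsLocalization.comap_map_of_isPrime_disjoint p.primeCompl R hq hd, h]
        exact IsLocalization.AtPrime.under_maximalIdeal R p)
  have hu : IsUnit (algebraMap A C' a) := by
    refine isUnit_of_mul_isUnit_left (y := algebraMap C C' c) ?_
    rw [IsScalarTower.algebraMap_apply A C C', ← map_mul,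
      show algebraMap A C a * c = algebraMap A C s ^ N from hc, map_pow]
    exact (IsLocalization.map_units C'
      (⟨algebraMap A C s, s, hs, rfl⟩ : Algebra.algebraMapSubmonoid C p.primeCompl)).pow N
  have he := congrArg (algebraMap R C') (IsLocalization.mk'_spec R a s₀)
  rw [map_mul, ← IsScalarTower.algebraMap_apply, ← IsScalarTower.algebraMap_apply] at he
  exact isUnit_of_mul_isUnit_left (he ▸ hu)

end Groth.Agent.S9676
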