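import Groth.Statements.S9677
import Groth.Agent.SpreadOutFP.Birational
import Groth.Agent.GenFinite.Basic
import Mathlib.AlgebraicGeometry.Morphisms.Preimmersion
import Mathlib.AlgebraicGeometry.Limits
-- import your own Groth.Agent.* helpers here

set_option autoImplicit false
universe u
open CategoryTheory CategoryTheory.Limits AlgebraicGeometry
open Mor

namespace Groth.Agent.S9677
set_option backward.isDefEq.respectTransparency.types false
lemma isLocalRing_of_spec (R : CommRingCat.{u}) (h : Subsingleton (Spec R)) (h' : Nonempty (Spec R)) :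
    IsLocalRing R := by
  haveI : Nontrivial R := by
    obtain ⟨p⟩ := h'
    by_contra hn
    haveI := not_nontrivial_iff_subsingleton.mp hn
    exact p.isPrime.ne_top (Subsingleton.elim _ _)
  obtain ⟨m, hm⟩ := Ideal.exists_maximal R
  refine IsLocalRing.of_unique_max_ideal ⟨m, hm, fun I hI => ?_⟩
  exact congrArg PrimeSpectrum.asIdeal (Subsingleton.elim (α := Spec R) ⟨I, hI.isPrime⟩ ⟨m, hm.isPrime⟩)

/-- If `ξ ⤳ x`, `f ξ = f x` and `f` induces an iso on local rings at `ξ`, then `x = ξ`
when `f ξ` is a generic point. -/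
lemma eq_of_retraction {X Y : Scheme.{u}} (f : X ⟶ Y) {ξ x : X} [IsIso (f.stalkMap ξ)] (h : ξ ⤳ x)
    (hx : f.base x = f.base ξ) : x = ξ := by
  let σ := Y.presheaf.stalkSpecializes (Inseparable.of_eq hx).specializes
  haveI : IsIso σ := (Y.presheaf.stalkCongr (Inseparable.of_eq hx.symm)).isIso_hom
  have key : f.stalkMap x ≫ X.presheaf.stalkSpecializes h =
      Y.presheaf.stalkSpecializes (f.base.hom.map_specializes h) ≫ f.stalkMap ξ := by
    exact (Scheme.Hom.stalkSpecializes_stalkMap f ξ x h).symm
  have hiso : IsIso (f.stalkMap x ≫ X.presheaf.stalkSpecializes h) := by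
    rw [key]
    haveI : IsIso (Y.presheaf.stalkSpecializes (f.base.hom.map_specializes h)) :=
      (Y.presheaf.stalkCongr (Inseparable.of_eq hx)).isIso_hom
    infer_instance
  have hsurj : Function.Surjective (X.presheaf.stalkSpecializes h) := by
    intro z
    obtain ⟨w, hw⟩ := (ConcreteCategory.bijective_of_isIso
      (f.stalkMap x ≫ X.presheaf.stalkSpecializes h)).2 z
    exact ⟨f.stalkMap x w, hw⟩
  haveI : IsClosedImmersion (Spec.map (X.presheaf.stalkSpecializes h)) :=
    IsClosedImmersion.spec_of_surjective _ hsurj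
  have hc := (Spec.map (X.presheaf.stalkSpecializes h)).isClosedEmbedding.isClosed_range
  obtain ⟨p, hp⟩ : IsLocalRing.closedPoint (X.presheaf.stalk x) ∈
      Set.range (Spec.map (X.presheaf.stalkSpecializes h)) :=
    (IsLocalRing.specializes_closedPoint
      (Spec.map (X.presheaf.stalkSpecializes h) (IsLocalRing.closedPoint _))).mem_closed hc ⟨_, rfl⟩
  have h2 := congrArg (X.fromSpecStalk x) hp
  rw [Scheme.fromSpecStalk_closedPoint, ← Scheme.Hom.comp_apply,
    Scheme.SpecMap_stalkSpecializes_fromSpecStalk] at h2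
  have h3 : X.fromSpecStalk ξ p ⤳ ξ := (Scheme.range_fromSpecStalk (X := X)).le ⟨p, rfl⟩
  rw [h2] at h3
  exact (h3.antisymm h).eq


/-- Suppose X and Y have finitely many irreducible components and f : X ⟶ Y is birational, i.e. f
restricts to a bijection between the generic points of the irreducible components of X and those of
Y and induces an isomorphism of local rings at every generic point of an irreducible component of X.
Then for any generic point y of a component of Y, pulling f back along the canonical map Spec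
O_{Y,y} ⟶ Y gives an isomorphism onto Spec O_{Y,y}. -/
theorem result {X Y : Scheme.{u}} (f : X ⟶ Y)
    (hXfin : (irreducibleComponents ↥X).Finite) (hYfin : (irreducibleComponents ↥Y).Finite)
    (hbij : Set.BijOn (fun x : X => f.base x) {x : X | closure {x} ∈ irreducibleComponents ↥X}
      {y : Y | closure {y} ∈ irreducibleComponents ↥Y})
    (hiso : ∀ x : X, closure {x} ∈ irreducibleComponents ↥X → IsIso (f.stalkMap x))
    (y : Y) (hy : closure {y} ∈ irreducibleComponents ↥Y) :
    IsIso (pullback.snd f (Y.fromSpecStalk y)) := by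
  obtain ⟨x₀, hx₀, rfl⟩ := hbij.2.2 hy
  haveI := hiso x₀ hx₀
  -- all points over `f x₀` equal `x₀`
  have hpts : ∀ x : X, f.base x = f.base x₀ → x = x₀ := by
    intro x hx
    obtain ⟨ξ, hξ, hξx⟩ := Groth.Agent.FlatMor.GenericPts.exists_generic_specializes x
    have hfξ : f.base ξ = f.base x₀ :=
      Groth.Agent.GenFinite.eq_of_specializes_generic hy (hx ▸ hξx.map f.continuous)
    obtain rfl : ξ = x₀ := hbij.2.1 hξ hx₀ hfξ
    exact eq_of_retraction f hξx hx
  let j := Y.fromSpecStalk (f.base x₀)
  set P := pullback f j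
  let L : Spec (Y.presheaf.stalk (f.base x₀)) ⟶ P :=
    pullback.lift (Spec.map (inv (f.stalkMap x₀)) ≫ X.fromSpecStalk x₀) (𝟙 _) (by
      rw [Category.assoc, ← Scheme.SpecMap_stalkMap_fromSpecStalk, ← Spec.map_comp_assoc,
        IsIso.hom_inv_id, Spec.map_id])
  haveI : Mono j := inferInstance
  haveI : IsPreimmersion (pullback.fst f j) := MorphismProperty.pullback_fst _ _ inferInstance
  have hP : ∀ p : P, (pullback.fst f j).base p = x₀ := by
    intro p
    apply hpts
    show (pullback.fst f j ≫ f) p = f x₀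
    rw [pullback.condition]
    exact Groth.Agent.GenFinite.eq_of_specializes_generic hy
      ((Scheme.range_fromSpecStalk (X := Y)).le ⟨_, rfl⟩)
  haveI : Subsingleton P :=
    ⟨fun a b => (pullback.fst f j).isEmbedding.injective ((hP a).trans (hP b).symm)⟩
  haveI : Nonempty P := ⟨L.base (IsLocalRing.closedPoint _)⟩
  haveI : IsAffine P := inferInstance
  haveI : Subsingleton (Spec Γ(P, ⊤)) :=
    P.isoSpec.inv.isOpenEmbedding.injective.subsingleton
  haveI : Nonempty (Spec Γ(P, ⊤)) := ‹Nonempty P›.map P.isoSpec.hom.base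
  haveI : IsLocalRing Γ(P, ⊤) := isLocalRing_of_spec Γ(P, ⊤) inferInstance inferInstance
  obtain ⟨a, ha⟩ := Groth.Agent.SpreadOutFP.exists_SpecMap_fromSpecStalk
    (P.isoSpec.inv ≫ pullback.fst f j) (x := x₀) (hP _)
  have hsnd : pullback.snd f j = P.isoSpec.hom ≫ Spec.map a ≫ Spec.map (f.stalkMap x₀) := by
    rw [← cancel_mono j, ← pullback.condition]
    simp only [Category.assoc, j]
    rw [Scheme.SpecMap_stalkMap_fromSpecStalk, reassoc_of% ha, P.isoSpec.hom_inv_id_assoc]
  refine ⟨L, ?_, pullback.lift_snd _ _ _⟩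
  rw [← cancel_mono (pullback.fst f j), Category.assoc, pullback.lift_fst, hsnd]
  simp only [Category.assoc, Category.id_comp]
  rw [← Spec.map_comp_assoc (inv (f.stalkMap x₀)), IsIso.inv_hom_id, Spec.map_id, Category.id_comp,
    ha, P.isoSpec.hom_inv_id_assoc]

end Groth.Agent.S9677
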