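import Groth.Statements.S9679
import Groth.Agent.BirLib.Basic
import Groth.Agent.S9677
import Mathlib.AlgebraicGeometry.IdealSheaf.Subscheme
-- import your own Groth.Agent.* helpers here

set_option autoImplicit false
universe u
open CategoryTheory CategoryTheory.Limits AlgebraicGeometry
open Mor

namespace Groth.Agent.S9679
set_option backward.isDefEq.respectTransparency.types false

/-- Suppose X and Y have finitely many irreducible components and f : X ⟶ Y is birational, i.e. f
restricts to a bijection between the generic points of the irreducible components of X and those of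
Y and induces an isomorphism of local rings at every generic point of an irreducible component of X.
Assume that f is quasi-compact or separated, and moreover that f is locally of finite presentation,
or else Y is reduced and f is locally of finite type. Under these hypotheses, some dense open V ⊆ Y
has the property that the restriction f⁻¹(V) ⟶ V of f is an isomorphism. -/
theorem result {X Y : Scheme.{u}} (f : X ⟶ Y)
    (hXfin : (irreducibleComponents ↥X).Finite) (hYfin : (irreducibleComponents ↥Y).Finite)
    (hbij : Set.BijOn (fun x : X => f.base x) {x : X | closure {x} ∈ irreducibleComponents ↥X}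
      {y : Y | closure {y} ∈ irreducibleComponents ↥Y})
    (hiso : ∀ x : X, closure {x} ∈ irreducibleComponents ↥X → IsIso (f.stalkMap x))
    (hf₁ : QuasiCompact f ∨ IsSeparated f)
    (hf₂ : (LocallyOfFiniteType f ∧ IsReduced Y) ∨ LocallyOfFinitePresentation f) :
    ∃ V : Y.Opens, Dense (V : Set ↥Y) ∧ IsIso (f ∣_ V) := by
  obtain ⟨U, V, hUV, -, hV, hi, hgen⟩ :=
    Groth.Agent.BirLib.exists_dense_isIso_resLE f hXfin hYfin hbij hiso hf₂
  rcases hf₁ with hqc | hsep
  · -- remove the closure of the image of the complement of `U`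
    let C : TopologicalSpace.Closeds X := ⟨(U : Set X)ᶜ, U.2.isClosed_compl⟩
    let I := Scheme.IdealSheafData.vanishingIdeal C
    have hr : Set.range I.subschemeι.base = (U : Set X)ᶜ := by
      rw [Scheme.IdealSheafData.range_subschemeι]; simp [I, C]
    have hn : ∀ η, closure {η} ∈ irreducibleComponents ↥Y →
        η ∉ closure (Set.range (I.subschemeι ≫ f).base) := by
      intro η hη hcl
      obtain ⟨z, hz⟩ := Groth.Agent.SchPoints.exists_specializes_of_mem_closure_range _ hcl
      have hfz : f.base (I.subschemeι.base z) = η :=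
        Groth.Agent.GenFinite.eq_of_specializes_generic hη hz
      obtain ⟨ξ, hξ, hξz⟩ := Groth.Agent.FlatMor.GenericPts.exists_generic_specializes (I.subschemeι.base z)
      have hfξ : f.base ξ = η :=
        Groth.Agent.GenFinite.eq_of_specializes_generic hη (hfz ▸ hξz.map f.continuous)
      haveI := hiso ξ hξ
      have := Groth.Agent.S9677.eq_of_retraction f hξz (hfz.trans hfξ.symm)
      exact (hr.le ⟨z, rfl⟩) (this ▸ hgen ξ hξ)
    let V' : Y.Opens := V ⊓ ⟨(closure (Set.range (I.subschemeι ≫ f).base))ᶜ,
      isClosed_closure.isOpen_compl⟩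
    refine ⟨V', ?_, ?_⟩
    · rw [dense_iff_inter_open]
      rintro O hO ⟨z, hz⟩
      obtain ⟨η, hη, hηz⟩ := Groth.Agent.FlatMor.GenericPts.exists_generic_specializes z
      exact ⟨η, hηz.mem_open hO hz,
        Groth.Agent.FlatMor.GenericPts.mem_of_dense_of_finite hYfin V.2 hV hη, hn η hη⟩
    · have heq : U ⊓ f ⁻¹ᵁ V' = f ⁻¹ᵁ V' := by
        refine le_antisymm inf_le_right (le_inf (fun z hz => by_contra fun hzU => ?_) le_rfl)
        obtain ⟨c, hc⟩ := hr.ge hzU
        exact hz.2 (subset_closure ⟨c, show f.base (I.subschemeι.base c) = f.base z by rw [hc]⟩)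
      rw [← f.resLE_eq_morphismRestrict]
      exact (Scheme.Hom.resLE_congr f _ rfl heq (MorphismProperty.isomorphisms Scheme.{u})).mp
        (Groth.Agent.BirLib.isIso_resLE_of_le f hUV hi inf_le_left)
  · refine ⟨V, hV, ?_⟩
    have e : f.resLE V U hUV = X.homOfLE hUV ≫ (f ∣_ V) := by
      rw [← f.resLE_eq_morphismRestrict, Scheme.Hom.map_resLE]
    rw [e] at hi
    haveI : IsClosedImmersion (X.homOfLE hUV ≫ (f ∣_ V)) := inferInstance
    haveI : IsClosedImmersion (X.homOfLE hUV) := IsClosedImmersion.of_comp _ (f ∣_ V)
    haveI : Surjective (X.homOfLE hUV) := by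
      refine ⟨fun z => ?_⟩
      obtain ⟨ξ, hξ, hξz⟩ := Groth.Agent.FlatMor.GenericPts.exists_generic_specializes z.1
      let w : U.toScheme := ⟨ξ, hgen ξ hξ⟩
      have h1 : X.homOfLE hUV w ⤳ z := by
        rw [← (f ⁻¹ᵁ V).ι.isOpenEmbedding.isInducing.specializes_iff,
          show (f ⁻¹ᵁ V).ι (X.homOfLE hUV w) = ξ from
            congrArg (fun ψ : U.toScheme ⟶ X => ψ w) (X.homOfLE_ι hUV)]
        exact hξz
      exact h1.mem_closed (X.homOfLE hUV).isClosedEmbedding.isClosed_range ⟨w, rfl⟩
    haveI : IsIso (X.homOfLE hUV) :=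
      (isIso_iff_isOpenImmersion_and_surjective _).mpr ⟨inferInstance, ‹_›⟩
    exact IsIso.of_isIso_comp_left (X.homOfLE hUV) (f ∣_ V)

end Groth.Agent.S9679
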