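import Groth.Statements.S9681
import Groth.Agent.SpreadOutFP.Birational
import Mathlib.AlgebraicGeometry.FunctionField
-- import your own Groth.Agent.* helpers here

set_option autoImplicit false
universe u
open CategoryTheory CategoryTheory.Limits AlgebraicGeometry
open Mor

namespace Groth.Agent.S9681
set_option backward.isDefEq.respectTransparency.types false
lemma isIso_residue (X : Scheme.{u}) [IsIntegral X] : IsIso (X.residue (genericPoint ↥X)) := by
  rw [ConcreteCategory.isIso_iff_bijective]
  letI := (Field.toIsField X.functionField : IsField (X.presheaf.stalk (genericPoint ↥X))).toField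
  exact ⟨RingHom.injective (X.residue (genericPoint ↥X)).hom, X.residue_surjective _⟩

@[reassoc]
lemma residue_eqToHom {S : Scheme.{u}} {a b : S} (h : a = b) :
    eqToHom (congrArg S.presheaf.stalk h) ≫ S.residue b =
      S.residue a ≫ eqToHom (congrArg S.residueField h) := by
  subst h; simp


/-- Suppose X and Y are integral S-schemes, each locally of finite type over S, with generic points x
and y. Then X and Y are S-birational (they admit S-isomorphic nonempty opens) if and only if x and y
map to the same point s of S and the residue fields of x and y are isomorphic as extensions of the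
residue field of s. -/
theorem result {S X Y : Scheme.{u}}
    [IsIntegral X] [IsIntegral Y] (sX : X ⟶ S) (sY : Y ⟶ S)
    [LocallyOfFiniteType sX] [LocallyOfFiniteType sY] :
    Scheme.BirationalOver sX sY ↔
      ∃ (hs : sX.base (genericPoint ↥X) = sY.base (genericPoint ↥Y))
        (e : X.residueField (genericPoint ↥X) ≅ Y.residueField (genericPoint ↥Y)),
        sX.residueFieldMap (genericPoint ↥X) ≫ e.hom =
          eqToHom (congrArg S.residueField hs) ≫ sY.residueFieldMap (genericPoint ↥Y) := by
  haveI := isIso_residue X
  haveI := isIso_residue Y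
  let rX := asIso (X.residue (genericPoint ↥X))
  let rY := asIso (Y.residue (genericPoint ↥Y))
  constructor
  · intro h
    obtain ⟨hs, e, he⟩ := Groth.Agent.SpreadOutFP.stalk_iso_of_birationalOver sX sY h
    refine ⟨hs, rX.symm ≪≫ e ≪≫ rY, ?_⟩
    rw [← cancel_epi (S.residue _)]
    show S.residue (sX (genericPoint ↥X)) ≫ sX.residueFieldMap _ ≫ rX.inv ≫ e.hom ≫ rY.hom = _
    rw [← Category.assoc, Scheme.residue_residueFieldMap]
    show (sX.stalkMap _ ≫ rX.hom) ≫ rX.inv ≫ e.hom ≫ rY.hom = _
    rw [Category.assoc, rX.hom_inv_id_assoc, reassoc_of% he]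
    show eqToHom _ ≫ sY.stalkMap _ ≫ Y.residue _ = _
    rw [← Scheme.residue_residueFieldMap, residue_eqToHom_assoc hs]
  · rintro ⟨hs, e, he⟩
    refine Groth.Agent.SpreadOutFP.birationalOver_of_stalk_iso sX sY
      (fun φ h => spread_out_of_isGermInjective' sX sY φ h)
      (fun φ h => spread_out_of_isGermInjective' sY sX φ h) hs (rX ≪≫ e ≪≫ rY.symm) ?_
    show sX.stalkMap _ ≫ rX.hom ≫ e.hom ≫ rY.inv = _
    show sX.stalkMap _ ≫ X.residue _ ≫ e.hom ≫ rY.inv = _
    rw [← Category.assoc, ← Scheme.residue_residueFieldMap, Category.assoc, reassoc_of% he,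
      ← residue_eqToHom_assoc hs, ← Category.assoc (S.residue _),
      Scheme.residue_residueFieldMap, Category.assoc]
    show eqToHom _ ≫ sY.stalkMap _ ≫ rY.hom ≫ rY.inv = _
    rw [rY.hom_inv_id, Category.comp_id]

end Groth.Agent.S9681
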