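import Groth.Statements.S9685
import Groth.Agent.DimIneq.ClosedMap
-- import your own Groth.Agent.* helpers here

set_option autoImplicit false
universe u
open CategoryTheory CategoryTheory.Limits AlgebraicGeometry
open Mor

namespace Groth.Agent.S9685

/-- Let X and Y be integral schemes with Y locally Noetherian and f : X ⟶ Y dominant and locally of
finite type. If n is the transcendence degree of the function field of X over the function field of
Y (computed on residue fields at the generic points), then dim X ≤ dim Y + n, and equality holds
when the underlying map of f is closed. -/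
theorem result {X Y : Scheme.{u}} [IsIntegral X] [IsIntegral Y]
    [IsLocallyNoetherian Y] (f : X ⟶ Y) [IsDominant f] [LocallyOfFiniteType f] (n : ℕ)
    (hn : letI := (f.residueFieldMap (genericPoint ↥X)).hom.toAlgebra
      Algebra.trdeg (Y.residueField (f.base (genericPoint ↥X))) (X.residueField (genericPoint ↥X)) = n) :
    topologicalKrullDim ↥X ≤ topologicalKrullDim ↥Y + n ∧
      (IsClosedMap f.base → topologicalKrullDim ↥X = topologicalKrullDim ↥Y + n) := by
  refine ⟨DimIneq.topologicalKrullDim_le f n fun ξ hξ => ?_, fun hf => le_antisymm ?_ ?_⟩
  · obtain rfl := DimIneq.closure_singleton_eq_genericPoint hξ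
    exact hn.le
  · exact DimIneq.topologicalKrullDim_le f n fun ξ hξ => by
      obtain rfl := DimIneq.closure_singleton_eq_genericPoint hξ
      exact hn.le
  · exact DimIneq.add_le_topologicalKrullDim f n hn hf

end Groth.Agent.S9685
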