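import Groth.Statements.S9689
import Groth.Agent.UH.Unibranch
import Groth.Agent.WN.Scheme
import Groth.Prelude.Def_Curv2
import Mathlib.AlgebraicGeometry.Normalization
import Mathlib.AlgebraicGeometry.FunctionField
-- import your own Groth.Agent.* helpers here

set_option autoImplicit false
universe u
open CategoryTheory CategoryTheory.Limits AlgebraicGeometry
open Mor

namespace Groth.Agent.S9689
set_option backward.isDefEq.respectTransparency.types false

/-- Field valued points of the normalization of a geometrically unibranch scheme are determined by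
their images. -/
lemma eq_of_comp_eq (X : Scheme.{u}) [IsIntegral X]
    [QuasiCompact (X.fromSpecStalk (genericPoint ↥X))]
    [QuasiSeparated (X.fromSpecStalk (genericPoint ↥X))]
    (hX : ∀ x : X, CAlg2.IsGeomUnibranch (X.presheaf.stalk x)) (F : Type u) [Field F]
    (t₁ t₂ : Spec (CommRingCat.of F) ⟶ (X.fromSpecStalk (genericPoint ↥X)).normalization)
    (h : t₁ ≫ (X.fromSpecStalk (genericPoint ↥X)).fromNormalization =
      t₂ ≫ (X.fromSpecStalk (genericPoint ↥X)).fromNormalization) : t₁ = t₂ := by
  let f := X.fromSpecStalk (genericPoint ↥X)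
  obtain ⟨z⟩ : Nonempty ↥(Spec (CommRingCat.of F)) := inferInstance
  obtain ⟨U, hU, hxU, -⟩ := exists_isAffineOpen_mem_and_subset
    (x := (t₁ ≫ f.fromNormalization) z) (U := ⊤) trivial
  haveI : Nonempty U := ⟨⟨_, hxU⟩⟩
  have hW : IsAffineOpen (f.fromNormalization ⁻¹ᵁ U) := hU.preimage _
  have hfac : ∀ t : Spec (CommRingCat.of F) ⟶ f.normalization, (t ≫ f.fromNormalization) z ∈ U →
      ∃ φ, Spec.map φ ≫ hW.fromSpec = t := by
    intro t ht
    have hsub : Set.range t ⊆ Set.range hW.fromSpec := by
      rw [hW.range_fromSpec]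
      rintro _ ⟨w, rfl⟩
      rw [Subsingleton.elim w z]
      exact ht
    obtain ⟨φ, hφ⟩ := Spec.map_surjective (IsOpenImmersion.lift hW.fromSpec t hsub)
    exact ⟨φ, by rw [hφ, IsOpenImmersion.lift_fac]⟩
  obtain ⟨φ₁, hφ₁⟩ := hfac t₁ hxU
  obtain ⟨φ₂, hφ₂⟩ := hfac t₂ (by rw [← h]; exact hxU)
  have hagree : f.fromNormalization.app U ≫ φ₁ = f.fromNormalization.app U ≫ φ₂ := by
    apply Spec.map_injective
    rw [← cancel_mono hU.fromSpec]
    simp only [Spec.map_comp, Category.assoc, Scheme.Hom.app_eq_appLE,
      IsAffineOpen.SpecMap_appLE_fromSpec _ hU hW]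
    rw [← Category.assoc, ← Category.assoc, hφ₁, hφ₂]
    exact h
  -- sections over `U` form the integral closure in the function field
  letI := (f.app U).hom.toAlgebra
  have hgen : genericPoint ↥X ∈ U := (genericPoint_specializes _).mem_open U.2 hxU
  have htop : f ⁻¹ᵁ U = ⊤ := by
    refine top_le_iff.mp fun w _ => ?_
    have hw : f w ⤳ genericPoint ↥X := X.range_fromSpecStalk.le ⟨w, rfl⟩
    exact hw.mem_open U.2 hgen
  let ei := (Spec X.functionField).presheaf.mapIso (eqToIso htop.symm).op ≪≫
    Scheme.ΓSpecIso X.functionField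
  have hei : f.app U ≫ ei.hom = X.presheaf.germ U (genericPoint ↥X) hgen := by
    rw [Scheme.fromSpecStalk_app hgen]
    simp only [ei, Category.assoc, Iso.trans_hom, Functor.mapIso_hom]
    erw [← Functor.map_comp_assoc]
    simp
  let e : Γ(Spec X.functionField, f ⁻¹ᵁ U) ≃ₐ[Γ(X, U)] X.functionField :=
    AlgEquiv.ofRingEquiv (f := ei.commRingCatIsoToRingEquiv) fun r => congr($(hei).hom r)
  have := functionField_isFractionRing_of_isAffineOpen X U hU
  let i := (f.normalizationObjIso hU).commRingCatIsoToRingEquiv.trans
    e.mapIntegralClosure.toRingEquiv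
  let g₁ : integralClosure Γ(X, U) X.functionField →+* F := φ₁.hom.comp i.symm.toRingHom
  let g₂ : integralClosure Γ(X, U) X.functionField →+* F := φ₂.hom.comp i.symm.toRingHom
  have happ : ∀ r, i (f.fromNormalization.app U r) =
      algebraMap Γ(X, U) (integralClosure Γ(X, U) X.functionField) r := fun r => by
    have h1 : (f.normalizationObjIso hU).commRingCatIsoToRingEquiv (f.fromNormalization.app U r) =
        algebraMap _ _ r :=
      (congrArg _ congr($(f.fromNormalization_app hU).hom r)).trans
        ((f.normalizationObjIso hU).commRingCatIsoToRingEquiv.apply_symm_apply _)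
    refine (congrArg e.mapIntegralClosure h1).trans ?_
    exact e.mapIntegralClosure.commutes r
  let aK := algebraMap Γ(X, U) (integralClosure Γ(X, U) X.functionField)
  have hg : g₁.comp aK = g₂.comp aK := RingHom.ext fun r => by
    show φ₁.hom (i.symm (aK r)) = φ₂.hom (i.symm (aK r))
    rw [← happ, i.symm_apply_apply]
    exact congr($(hagree).hom r)
  let p : PrimeSpectrum Γ(X, U) :=
    ⟨RingHom.ker (g₁.comp aK), RingHom.ker_isPrime _⟩
  haveI : p.asIdeal.IsPrime := RingHom.ker_isPrime _
  have hp : hU.fromSpec p ∈ U := by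
    have : hU.fromSpec p ∈ Set.range hU.fromSpec := ⟨p, rfl⟩
    rwa [hU.range_fromSpec] at this
  letI := TopCat.Presheaf.algebra_section_stalk X.presheaf ⟨hU.fromSpec p, hp⟩
  have : IsLocalization.AtPrime (X.presheaf.stalk (hU.fromSpec p)) p.asIdeal :=
    hU.isLocalization_stalk' p hp
  have hgg := Groth.Agent.UH.eq_of_isGeomUnibranch X.functionField p.asIdeal
    (hX (hU.fromSpec p)) g₁ g₂ hg rfl
  have : φ₁ = φ₂ := CommRingCat.hom_ext (RingHom.ext fun x => by
    have := DFunLike.congr_fun hgg (i x)
    simpa [g₁, g₂] using this)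
  rw [← hφ₁, ← hφ₂, this]


/-- For an integral scheme X: if every local ring of X is geometrically unibranch, then the
normalization morphism X^ν ⟶ X is a universal homeomorphism. (The published statement assumes only X
irreducible; this row takes X integral, which loses nothing since the normalization of X equals that
of its reduction.) (The quasi-compactness and quasi-separatedness binders on Spec K(X) ⟶ X always
hold; they are only needed to form the normalization.) -/
theorem result (X : Scheme.{u}) [IsIntegral X] [QuasiCompact (X.fromSpecStalk (genericPoint ↥X))] [QuasiSeparated (X.fromSpecStalk (genericPoint ↥X))]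
    (hX : ∀ x : X, CAlg2.IsGeomUnibranch (X.presheaf.stalk x)) :
    FlatMor.IsUnivHomeo (Curv2.normalizationι X) := by
  haveI : IsIntegralHom (Curv2.normalizationι X) :=
    inferInstanceAs (IsIntegralHom (X.fromSpecStalk (genericPoint ↥X)).fromNormalization)
  rw [Groth.Agent.WN.isUnivHomeo_iff]
  refine ⟨inferInstance, ?_, ⟨fun x => ?_⟩⟩
  · exact ((tfae_universallyInjective (Curv2.normalizationι X)).out 0 1 rfl rfl).mpr
      fun K _ t₁ t₂ h => eq_of_comp_eq X hX K t₁ t₂ h
  · let f := X.fromSpecStalk (genericPoint ↥X)
    have hη : genericPoint ↥X ∈ Set.range (Curv2.normalizationι X) := by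
      refine ⟨f.toNormalization (IsLocalRing.closedPoint _), ?_⟩
      show f.fromNormalization (f.toNormalization _) = _
      rw [← Scheme.Hom.comp_apply, f.toNormalization_fromNormalization]
      exact Scheme.fromSpecStalk_closedPoint
    have hcl : IsClosed (Set.range (Curv2.normalizationι X)) :=
      (Curv2.normalizationι X).isClosedMap.isClosed_range
    exact (genericPoint_specializes x).mem_closed hcl hη

end Groth.Agent.S9689
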