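import Groth.Statements.S9696
import Groth.Agent.S9697
import Groth.Agent.EtStruct.Scheme
import Mathlib.AlgebraicGeometry.Morphisms.Etale
-- import your own Groth.Agent.* helpers here

set_option autoImplicit false
universe u
open CategoryTheory CategoryTheory.Limits AlgebraicGeometry
open Mor

namespace Groth.Agent.S9696
set_option backward.isDefEq.respectTransparency.types false

/-- Let f : X ⟶ S be flat and locally of finite presentation and g : S' ⟶ S any morphism, with base
change f' : X ×_S S' ⟶ S' and projection g' : X ×_S S' ⟶ X. Then the open set of points where f' is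
etale is the inverse image under g' of the open set of points where f is etale. -/
theorem result {X S S' : Scheme.{u}} (f : X ⟶ S) [Flat f]
    [LocallyOfFinitePresentation f] (g : S' ⟶ S) (x' : ↑(pullback f g)) :
    (∃ U' : (pullback f g).Opens, x' ∈ U' ∧ Etale (U'.ι ≫ pullback.snd f g)) ↔
      (∃ U : X.Opens, (pullback.fst f g).base x' ∈ U ∧ Etale (U.ι ≫ f)) := by
  have hf' : LocallyOfFinitePresentation (pullback.snd f g) := MorphismProperty.pullback_snd _ _ inferInstance
  have hflat : Flat (pullback.snd f g) := MorphismProperty.pullback_snd _ _ ‹Flat f›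
  rw [Groth.Agent.EtStruct.etale_nhd_iff, Groth.Agent.EtStruct.etale_nhd_iff,
    ← Groth.Agent.EtStruct.formallyUnramified_nhd_iff, ← Groth.Agent.EtStruct.formallyUnramified_nhd_iff,
    Groth.Agent.S9697.result f g x']
  exact and_congr_right fun _ => iff_of_true (Flat.stalkMap _ x') (Flat.stalkMap _ _)

end Groth.Agent.S9696
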