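import Groth.Statements.S9700
import Groth.Agent.LimLib.DVRGeneric
import Groth.Agent.SchPoints.Basic
import Mathlib.AlgebraicGeometry.ValuativeCriterion
-- import your own Groth.Agent.* helpers here

set_option autoImplicit false
universe u
open CategoryTheory CategoryTheory.Limits AlgebraicGeometry
open Mor

namespace Groth.Agent.S9700

open DVRCrit LimLib.DVR IsLocalRing

set_option backward.isDefEq.respectTransparency.types false

/-- Existence in the valuative criterion from unique lifts at points of a dense quasi-compact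
source. -/
theorem existence_of_dense {U X S : Scheme.{u}} (f : X ⟶ S) (h : U ⟶ X) [QuasiCompact h]
    (hd : DenseRange h.base)
    (H : ∀ sq : ValuativeCommSq f, (∃ i : Spec (.of sq.K) ⟶ U, i ≫ h = sq.i₁) →
      Nonempty (Unique sq.commSq.LiftStruct)) :
    ValuativeCriterion.Existence f := by
  refine existence_of_centers f fun x O hO hx V hV => ?_
  obtain ⟨w, hspec⟩ := SchPoints.exists_specializes_of_mem_closure_range h (y := x) (hd x)
  let i : Spec (U.residueField w) ⟶ X := U.fromSpecResidueField w ≫ h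
  let k₀ : X.presheaf.stalk x ⟶ U.residueField w :=
    X.presheaf.stalkSpecializes hspec ≫ X.residue (h w) ≫ h.residueFieldMap w
  have hψ : Spec.map k₀ ≫ X.fromSpecStalk x = i := by
    rw [Spec.map_comp, Category.assoc, Scheme.SpecMap_stalkSpecializes_fromSpecStalk,
      Spec.map_comp, Category.assoc]
    exact h.SpecMap_residueFieldMap_fromSpecResidueField w
  obtain ⟨W, hW, hloc⟩ := IsLocalRing.exists_factor_valuationRing k₀.hom
  let ψ : X.presheaf.stalk x →+* W := k₀.hom.codRestrict W.toSubring hW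
  haveI : IsLocalHom ψ := hloc
  let l₂ : Spec (CommRingCat.of W) ⟶ X := Spec.map (CommRingCat.ofHom ψ) ≫ X.fromSpecStalk x
  have hl₂ : Spec.map (CommRingCat.ofHom W.subtype) ≫ l₂ = i := by
    rw [← hψ, ← Category.assoc, ← Spec.map_comp]
    rfl
  have hl₂c : l₂ (closedPoint W) = x := by
    show X.fromSpecStalk x (Spec.map (CommRingCat.ofHom ψ) (closedPoint W)) = x
    rw [map_closedPoint]
    exact Scheme.fromSpecStalk_closedPoint
  let j : X.residueField x →+* ResidueField W := IsLocalRing.ResidueField.map ψ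
  have hj : Spec.map (CommRingCat.ofHom (IsLocalRing.residue W)) ≫ l₂ =
      Spec.map (CommRingCat.ofHom j) ≫ X.fromSpecResidueField x := by
    show _ ≫ _ ≫ _ = _ ≫ Spec.map (X.residue x) ≫ X.fromSpecStalk x
    rw [← Category.assoc, ← Category.assoc, ← Spec.map_comp, ← Spec.map_comp]
    rfl
  obtain ⟨B, hB⟩ := exists_valuation_extension j V
  let W' := composite W B
  have hfx : f x ∈ O := by simpa using hx default
  have hl₂O : ∀ p, (l₂ ≫ f) p ∈ O :=
    forall_mem_of_closedPoint (R := CommRingCat.of W) (l₂ ≫ f)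
      (by show f (l₂ (closedPoint W)) ∈ O; rw [hl₂c]; exact hfx)
  have hiO : ∀ p, (i ≫ f) p ∈ O := fun p => by
    rw [← hl₂, Category.assoc, Scheme.Hom.comp_apply]
    exact hl₂O _
  have hW' : ∀ a, (ev (i ≫ f) O hiO).hom a ∈ W' := by
    intro a
    let b : W := (ev (l₂ ≫ f) O hl₂O).hom a
    have hb : (b : U.residueField w) = (ev (i ≫ f) O hiO).hom a := by
      refine (ConcreteCategory.congr_hom ((ev_comp (CommRingCat.ofHom W.subtype) (l₂ ≫ f) O
        hl₂O).symm.trans (ev_congr ?_ O _ hiO)) a :)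
      rw [← Category.assoc, hl₂]
    have hres : IsLocalRing.residue W b = j ((ev (X.fromSpecResidueField x ≫ f) O hx).hom a) := by
      refine (ConcreteCategory.congr_hom ((ev_comp (CommRingCat.ofHom (IsLocalRing.residue W))
        (l₂ ≫ f) O hl₂O).symm.trans ((ev_congr ?_ O _ (fun p => ?_)).trans
          (ev_comp (CommRingCat.ofHom j) (X.fromSpecResidueField x ≫ f) O hx))) a :)
      · rw [← Category.assoc, hj, Category.assoc]
      · rw [Scheme.Hom.comp_apply]; exact hx _
    rw [← hb, mem_composite]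
    refine ⟨b.2, ?_⟩
    rw [show (⟨(b : U.residueField w), b.2⟩ : W) = b from rfl, hres]
    exact (SetLike.ext_iff.mp hB _).mpr (hV a)
  obtain ⟨y, hy, hyO⟩ := exists_lift_of_ev_mem W' (i ≫ f) hO hiO hW'
  let sq : ValuativeCommSq f :=
    { R := W'
      K := U.residueField w
      i₁ := i
      i₂ := y
      commSq := ⟨hy.symm⟩ }
  obtain ⟨hu⟩ := H sq ⟨U.fromSpecResidueField w, rfl⟩
  obtain ⟨l', hl', hl'f⟩ := hu.default
  replace hl' : Spec.map (CommRingCat.ofHom W'.subtype) ≫ l' = i := hl'
  replace hl'f : l' ≫ f = y := hl'f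
  let l₁ : Spec (CommRingCat.of W) ⟶ X :=
    Spec.map (CommRingCat.ofHom (compositeIncl W B)) ≫ l'
  have hl₁ : Spec.map (CommRingCat.ofHom W.subtype) ≫ l₁ = i := by
    rw [← hl', ← Category.assoc, ← Spec.map_comp]
    rfl
  have hl₁₂ : l₁ ≫ f = l₂ ≫ f := by
    refine hom_ext_of_mem W.subtype Subtype.val_injective _ _ ?_ hO ?_ (hl₂O _)
    · exact (Category.assoc _ _ _).symm.trans
        ((congrArg (· ≫ f) (hl₁.trans hl₂.symm)).trans (Category.assoc _ _ _))
    · show (l₁ ≫ f) (closedPoint W) ∈ O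
      rw [Category.assoc, hl'f, Scheme.Hom.comp_apply]
      exact hyO _
  have heq : l₁ = l₂ := by
    let sq' : ValuativeCommSq f :=
      { R := W
        K := U.residueField w
        i₁ := i
        i₂ := l₁ ≫ f
        commSq := ⟨by
          show _ = Spec.map (CommRingCat.ofHom W.subtype) ≫ l₁ ≫ f
          rw [← Category.assoc, hl₁]⟩ }
    obtain ⟨hu'⟩ := H sq' ⟨U.fromSpecResidueField w, rfl⟩
    let a₁ : sq'.commSq.LiftStruct := ⟨l₁, hl₁, rfl⟩
    let a₂ : sq'.commSq.LiftStruct := ⟨l₂, hl₂, hl₁₂.symm⟩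
    exact congrArg CommSq.LiftStruct.l ((hu'.uniq a₁).trans (hu'.uniq a₂).symm)
  let m : Spec (CommRingCat.of B) ⟶ X := Spec.map (CommRingCat.ofHom (compositeRes W B)) ≫ l'
  have hm : Spec.map (CommRingCat.ofHom B.subtype) ≫ m =
      Spec.map (CommRingCat.ofHom j) ≫ X.fromSpecResidueField x := by
    rw [← hj, ← heq]
    show _ ≫ _ ≫ l' = _ ≫ _ ≫ l'
    rw [← Category.assoc, ← Category.assoc, ← Spec.map_comp, ← Spec.map_comp]
    rfl
  have hmO : m (closedPoint B) ∈ f ⁻¹ᵁ O := by
    show (m ≫ f) (closedPoint B) ∈ O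
    rw [Category.assoc, hl'f, Scheme.Hom.comp_apply]
    exact hyO _
  obtain ⟨N, hN, hmN, hNO⟩ := exists_isAffineOpen_mem_and_subset hmO
  obtain ⟨hxN, hmemx⟩ := ev_mem_comap j B (X.fromSpecResidueField x) m hm (O := N) hmN
  exact ⟨N, hN, hNO, hxN, fun b => hB ▸ hmemx b⟩

/-- Let f : X ⟶ S and h : U ⟶ X be quasi-compact with h(U) dense in X. Suppose each valuative square
over f, whose map Spec K ⟶ X factors through h, has a unique diagonal lift. Then f is universally
closed, and f is also separated provided it is quasi-separated. -/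
theorem result {U X S : Scheme.{u}} (f : X ⟶ S) (h : U ⟶ X)
    [QuasiCompact f] [QuasiCompact h] (hd : DenseRange h.base)
    (H : ∀ sq : ValuativeCommSq f, (∃ i : Spec (.of sq.K) ⟶ U, i ≫ h = sq.i₁) →
      Nonempty (Unique sq.commSq.LiftStruct)) :
    UniversallyClosed f ∧ (QuasiSeparated f → IsSeparated f) := by
  refine ⟨UniversallyClosed.of_valuativeCriterion f (existence_of_dense f h hd H), fun _ => ?_⟩
  refine ⟨?_⟩
  have hΔ : ValuativeCriterion.Existence (pullback.diagonal f) := by
    refine existence_of_dense (pullback.diagonal f) h hd fun sq hi => ?_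
    let sq' : ValuativeCommSq f :=
      { R := sq.R
        K := sq.K
        i₁ := sq.i₁
        i₂ := sq.i₂ ≫ pullback.fst f f ≫ f
        commSq := ⟨by simp [← sq.commSq.w_assoc]⟩ }
    obtain ⟨hu⟩ := H sq' hi
    let a₁ : sq'.commSq.LiftStruct := ⟨sq.i₂ ≫ pullback.fst f f,
      by simp [sq', ← sq.commSq.w_assoc], by simp [sq']⟩
    let a₂ : sq'.commSq.LiftStruct := ⟨sq.i₂ ≫ pullback.snd f f,
      by simp [sq', ← sq.commSq.w_assoc], by simp [sq', pullback.condition]⟩
    have h₁₂ : sq.i₂ ≫ pullback.fst f f = sq.i₂ ≫ pullback.snd f f :=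
      congrArg CommSq.LiftStruct.l ((hu.uniq a₁).trans (hu.uniq a₂).symm)
    exact ⟨{
      default := ⟨sq.i₂ ≫ pullback.fst f f, by simp [← sq.commSq.w_assoc],
        pullback.hom_ext (by simp) (by simp [h₁₂])⟩
      uniq := fun a => CommSq.LiftStruct.ext (by
        show a.l = sq.i₂ ≫ pullback.fst f f
        simpa using congrArg (· ≫ pullback.fst f f) a.fac_right) }⟩
  have := UniversallyClosed.of_valuativeCriterion (pullback.diagonal f) hΔ
  exact .of_isPreimmersion _ (pullback.diagonal f).isClosedMap.isClosed_range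

end Groth.Agent.S9700
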