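import Groth.Statements.S9701
import Mathlib.AlgebraicGeometry.ValuativeCriterion
import Mathlib.AlgebraicGeometry.SpreadingOut
import Mathlib.AlgebraicGeometry.FunctionField
import Mathlib.AlgebraicGeometry.Morphisms.Separated
import Mathlib.AlgebraicGeometry.Morphisms.Proper
import Groth.Agent.RatMapExt.Sections
-- import your own Groth.Agent.* helpers here

set_option autoImplicit false
universe u
open CategoryTheory CategoryTheory.Limits AlgebraicGeometry
open Mor

namespace Groth.Agent.S9701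
set_option backward.isDefEq.respectTransparency.types false
open TopologicalSpace

/-- The generic point of the stalk at `x`. -/
noncomputable abbrev genPt {X : Scheme.{u}} (x : X) [IsDomain (X.presheaf.stalk x)] : X :=
  X.fromSpecStalk x (⟨⊥, Ideal.isPrime_bot⟩ : PrimeSpectrum (X.presheaf.stalk x))

/-- An integral neighbourhood of a point with domain stalk. -/
lemma exists_integral_nhd {X : Scheme.{u}} (x : X) [IsDomain (X.presheaf.stalk x)]
    (hX : (IsReduced X ∧ (irreducibleComponents ↥X).Finite) ∨ IsNoetherian X) :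
    ∃ V : X.Opens, x ∈ V ∧ IsIntegral (V : Scheme.{u}) ∧ X.IsGermInjectiveAt x := by
  rcases hX with ⟨hr, hfin⟩ | hN
  · haveI := hr
    set w := genPt x with hw
    let T : Set X := ⋃ Z ∈ irreducibleComponents ↥X \ {closure {w}}, Z
    have hT : IsClosed T := (hfin.subset Set.sdiff_subset).isClosed_biUnion
      fun Z hZ => isClosed_of_mem_irreducibleComponents Z hZ.1
    have hxT : x ∉ T := by
      intro hxT
      obtain ⟨Z, ⟨hZ, hZne⟩, hxZ⟩ := Set.mem_iUnion₂.mp hxT
      obtain ⟨ζ, hζ⟩ := QuasiSober.sober hZ.1 (isClosed_of_mem_irreducibleComponents Z hZ)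
      have hζx : ζ ∈ Set.range (X.fromSpecStalk x) := by
        rw [Scheme.range_fromSpecStalk]; exact hζ.specializes hxZ
      obtain ⟨q, rfl⟩ := hζx
      have hwz : w ⤳ X.fromSpecStalk x q :=
        ((PrimeSpectrum.le_iff_specializes (⟨⊥, Ideal.isPrime_bot⟩ : PrimeSpectrum (X.presheaf.stalk x)) q).mp
          (bot_le : (⊥ : Ideal (X.presheaf.stalk x)) ≤ q.asIdeal)).map (X.fromSpecStalk x).continuous
      apply hZne
      have h1 : Z ⊆ closure {w} := hζ.def ▸ hwz.closure_subset
      exact le_antisymm h1 (hZ.2 isIrreducible_singleton.closure h1)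
    obtain ⟨V, hV, hxV, hVT⟩ := exists_isAffineOpen_mem_and_subset
      (U := (⟨Tᶜ, hT.isOpen_compl⟩ : X.Opens)) hxT
    have hsub : (V : Set X) ⊆ closure {w} := fun v hv => by
      obtain ⟨Z, hZ, hvZ⟩ : ∃ Z ∈ irreducibleComponents ↥X, v ∈ Z :=
        ⟨_, irreducibleComponent_mem_irreducibleComponents v, mem_irreducibleComponent⟩
      by_cases h : Z = closure {w}
      · exact h ▸ hvZ
      · exact absurd (Set.mem_iUnion₂.mpr ⟨Z, ⟨hZ, h⟩, hvZ⟩) (hVT hv)
    have hwV : w ∈ V := ((Scheme.range_fromSpecStalk (X := X) (x := x)).le (Set.mem_range_self _) :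
      w ⤳ x).mem_open V.isOpen hxV
    haveI : IrreducibleSpace V := by
      rw [irreducibleSpace_def]
      have : IsGenericPoint (⟨w, hwV⟩ : V) Set.univ := by
        rw [isGenericPoint_iff_specializes]
        exact fun v => iff_of_true
          ((subtype_specializes_iff _ _).mpr (specializes_iff_mem_closure.mpr (hsub v.2))) trivial
      exact this.isIrreducible
    haveI : IsReduced (V : Scheme.{u}) := isReduced_of_isOpenImmersion V.ι
    haveI : IsIntegral (V : Scheme.{u}) := isIntegral_of_irreducibleSpace_of_isReduced _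
    exact ⟨V, hxV, inferInstance,
      (isGermInjectiveAt_iff_of_isOpenImmersion (f := V.ι) (x := (⟨x, hxV⟩ : V))).mpr inferInstance⟩
  · haveI := hN
    obtain ⟨V, hV, hdom, hxV, -⟩ :=
      Groth.Agent.RatMapExt.exists_affine_domain_nhd x ⊤ (Set.mem_univ x)
    haveI := hdom
    haveI : IsIntegral (Spec Γ(X, V)) := inferInstance
    haveI : Nonempty V := ⟨⟨x, hxV⟩⟩
    exact ⟨V, hxV, isIntegral_of_isOpenImmersion hV.isoSpec.hom, inferInstance⟩

/-- Let p : X ⟶ S and q : Y ⟶ S with q proper, let x be a point of X whose local ring is a valuation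
ring, U ⊆ X an open with x in the closure of U, and f : U ⟶ Y a morphism over S. Assume that X is
Noetherian, or else that X is reduced and has only finitely many irreducible components. Then there
are an open U' of X containing U and x and a morphism f' : U' ⟶ Y over S extending f. -/
theorem result {X Y S : Scheme.{u}} (p : X ⟶ S) (q : Y ⟶ S)
    [IsProper q] (x : X) (U : X.Opens) (f : (U : Scheme.{u}) ⟶ Y) (hf : f ≫ q = U.ι ≫ p)
    (hx : x ∈ closure (U : Set ↥X))
    (hX : (IsReduced X ∧ (irreducibleComponents ↥X).Finite) ∨ IsNoetherian X)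
    (hdom : IsDomain (X.presheaf.stalk x)) (hval : @ValuationRing (X.presheaf.stalk x) _ hdom) :
    ∃ (U' : X.Opens) (hUU' : U ≤ U'), x ∈ U' ∧
      ∃ f' : (U' : Scheme.{u}) ⟶ Y, f' ≫ q = U'.ι ≫ p ∧ X.homOfLE hUU' ≫ f' = f := by
  haveI := hdom
  haveI := hval
  obtain ⟨V, hxV, hVint, hgi⟩ := exists_integral_nhd x hX
  haveI := hVint
  haveI := hgi
  set w := genPt x with hw
  have hwx : w ⤳ x := (Scheme.range_fromSpecStalk (X := X) (x := x)).le (Set.mem_range_self _)
  have hwV : w ∈ V := hwx.mem_open V.isOpen hxV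
  -- `w` is the generic point of `V`
  have hgen : ∀ v ∈ V, w ⤳ v := by
    intro v hv
    have hη := genericPoint_spec (V : Scheme.{u})
    have h1 : (genericPoint (V : Scheme.{u})).1 ⤳ x :=
      (hη.specializes (show (⟨x, hxV⟩ : V) ∈ (⊤ : Set V) from trivial)).map continuous_subtype_val
    have h2 : (genericPoint (V : Scheme.{u})).1 ∈ Set.range (X.fromSpecStalk x) := by
      rw [Scheme.range_fromSpecStalk]; exact h1
    obtain ⟨r, hr⟩ := h2
    have h3 : w ⤳ (genericPoint (V : Scheme.{u})).1 := hr ▸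
      ((PrimeSpectrum.le_iff_specializes (⟨⊥, Ideal.isPrime_bot⟩ : PrimeSpectrum (X.presheaf.stalk x)) r).mp
        (bot_le : (⊥ : Ideal (X.presheaf.stalk x)) ≤ r.asIdeal)).map (X.fromSpecStalk x).continuous
    exact h3.trans ((hη.specializes (show (⟨v, hv⟩ : V) ∈ (⊤ : Set V) from trivial)).map continuous_subtype_val)
  have hwU : w ∈ U := by
    obtain ⟨v, hvV, hvU⟩ := mem_closure_iff.mp hx V V.isOpen hxV
    exact (hgen v hvV).mem_open U.isOpen hvU
  let K := FractionRing (X.presheaf.stalk x)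
  let gen : Spec (CommRingCat.of K) ⟶ X :=
    Spec.map (CommRingCat.ofHom (algebraMap (X.presheaf.stalk x) K)) ≫ X.fromSpecStalk x
  have hgenrange : ∀ t, gen t = w := fun t => by
    show X.fromSpecStalk x (Spec.map (CommRingCat.ofHom (algebraMap (X.presheaf.stalk x) K)) t) = w
    congr 1
    apply PrimeSpectrum.ext
    show Ideal.comap (algebraMap (X.presheaf.stalk x) K) t.asIdeal = ⊥
    rw [(eq_bot_or_eq_top t.asIdeal).resolve_right t.isPrime.ne_top]
    exact (RingHom.injective_iff_ker_eq_bot _).mp (IsFractionRing.injective _ K)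
  let i₁ : Spec (CommRingCat.of K) ⟶ U := IsOpenImmersion.lift U.ι gen (by
    rintro _ ⟨t, rfl⟩; rw [Scheme.Opens.range_ι, hgenrange]; exact hwU)
  have hi₁ : i₁ ≫ U.ι = gen := IsOpenImmersion.lift_fac _ _ _
  let sq : ValuativeCommSq q :=
    { R := X.presheaf.stalk x
      domain := hdom
      valuationRing := hval
      K := K
      i₁ := i₁ ≫ f
      i₂ := X.fromSpecStalk x ≫ p
      commSq := ⟨by rw [Category.assoc, hf, ← Category.assoc, hi₁, Category.assoc]⟩ }
  have hex : ValuativeCriterion.Existence q := by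
    have h := (inferInstance : UniversallyClosed q)
    rw [UniversallyClosed.eq_valuativeCriterion] at h
    exact h.1
  obtain ⟨⟨⟨(l : Spec (X.presheaf.stalk x) ⟶ Y), hl₁, hl₂⟩⟩⟩ := hex sq
  obtain ⟨W, hxW, g, hg, hgq⟩ := spread_out_of_isGermInjective' p q l hl₂
  let W' : X.Opens := W ⊓ V
  let g' : (W' : Scheme.{u}) ⟶ Y := X.homOfLE inf_le_left ≫ g
  have hg'q : g' ≫ q = W'.ι ≫ p := by
    simp only [g', Category.assoc, hgq, Scheme.homOfLE_ι_assoc]
  let O : X.Opens := U ⊓ W'
  have hwO : w ∈ O := ⟨hwU, hwx.mem_open W.isOpen hxW, hwV⟩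
  haveI : IsReduced (O : Scheme.{u}) := by
    haveI : IsReduced (V : Scheme.{u}) := inferInstance
    exact isReduced_of_isOpenImmersion (X.homOfLE (inf_le_right.trans inf_le_right : O ≤ V))
  let j : Spec (CommRingCat.of K) ⟶ O := IsOpenImmersion.lift O.ι gen (by
    rintro _ ⟨t, rfl⟩; rw [Scheme.Opens.range_ι, hgenrange]; exact hwO)
  have hj : j ≫ O.ι = gen := IsOpenImmersion.lift_fac _ _ _
  haveI : IsDominant j := ⟨by
    intro v
    obtain ⟨t⟩ := (inferInstance : Nonempty (Spec (CommRingCat.of K)))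
    refine closure_mono (Set.singleton_subset_iff.mpr (Set.mem_range_self t)) ?_
    rw [← specializes_iff_mem_closure]
    refine (subtype_specializes_iff _ _).mpr ?_
    have : (j t).1 = w := by
      rw [show (j t).1 = (j ≫ O.ι) t from rfl, hj, hgenrange]
    rw [this]
    exact hgen v.1 v.2.2.2⟩
  have key : X.homOfLE (inf_le_right : U ⊓ W' ≤ W') ≫ g' = X.homOfLE (inf_le_left : U ⊓ W' ≤ U) ≫ f := by
    refine ext_of_isDominant_of_isSeparated q ?_ j ?_
    · rw [Category.assoc, hg'q, Category.assoc, hf, Scheme.homOfLE_ι_assoc, Scheme.homOfLE_ι_assoc]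
    · have hU : j ≫ X.homOfLE (inf_le_left : U ⊓ W' ≤ U) = i₁ := by
        rw [← cancel_mono U.ι, Category.assoc, Scheme.homOfLE_ι, hj, hi₁]
      have hW : j ≫ X.homOfLE (inf_le_right.trans inf_le_left : O ≤ W) =
          Spec.map (CommRingCat.ofHom (algebraMap (X.presheaf.stalk x) K)) ≫ W.fromSpecStalkOfMem x hxW := by
        rw [← cancel_mono W.ι, Category.assoc, Scheme.homOfLE_ι, hj, Category.assoc,
          Scheme.Opens.fromSpecStalkOfMem_ι]
      rw [← Category.assoc j (X.homOfLE (inf_le_left : U ⊓ W' ≤ U)) f, hU]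
      simp only [g']
      rw [Scheme.homOfLE_homOfLE_assoc, ← Category.assoc, hW, Category.assoc, ← hg]
      exact hl₁
  obtain ⟨U', hU, hW', c, hU'eq, hcU, -, hc⟩ := Groth.Agent.RatMapExt.exists_glue U W' f g' key
  exact ⟨U', hU, hW' ⟨hxW, hxV⟩, c, hc q p hf hg'q, hcU⟩

end Groth.Agent.S9701
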