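import Groth.Statements.S9703
import Mathlib
import Groth.Agent.CAlg48.SplitCover

set_option autoImplicit false
universe u
set_option linter.style.haveILetI false
set_option backward.isDefEq.respectTransparency false
open CategoryTheory CategoryTheory.Limits AlgebraicGeometry
open Mor

namespace Groth.Agent.S9703

open scoped TensorProduct

/-- The universal algebra generated by roots of given monic polynomials. -/
theorem exists_univ (A : Type u) [CommRing A] : ∀ (r : ℕ) (p : Fin r → Polynomial A), (∀ k, (p k).Monic) →
    ∃ (C : Type u) (_ : CommRing C) (_ : Algebra A C) (_ : Module.Finite A C) (_ : Module.Free A C)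
      (c : Fin r → C), (∀ k, Polynomial.aeval (c k) (p k) = 0) ∧
      Algebra.adjoin A (Set.range c) = ⊤ ∧
      ∀ (D : Type u) [CommRing D] [Algebra A D] (d : Fin r → D),
        (∀ k, Polynomial.aeval (d k) (p k) = 0) → ∃ φ : C →ₐ[A] D, ∀ k, φ (c k) = d k
  | 0, p, _ => by
    refine ⟨A, inferInstance, inferInstance, inferInstance, inferInstance, Fin.elim0, fun k => k.elim0,
      ?_, fun D _ _ d _ => ⟨Algebra.ofId A D, fun k => k.elim0⟩⟩
    exact Subsingleton.elim _ _
  | r + 1, p, hp => by
    obtain ⟨C₀, _, _, _, _, c₀, h₀, hgen, huniv⟩ :=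
      exists_univ A r (fun k => p k.castSucc) (fun k => hp _)
    let q : Polynomial C₀ := (p (Fin.last r)).map (algebraMap A C₀)
    have hq : q.Monic := (hp _).map _
    haveI : Module.Finite C₀ (AdjoinRoot q) := hq.finite_adjoinRoot
    haveI : Module.Free C₀ (AdjoinRoot q) := hq.free_adjoinRoot
    haveI : Module.Finite A (AdjoinRoot q) := Module.Finite.trans C₀ _
    haveI : Module.Free A (AdjoinRoot q) := Module.Free.trans (S := C₀)
    let incl : C₀ →ₐ[A] AdjoinRoot q := IsScalarTower.toAlgHom A C₀ (AdjoinRoot q)
    let c : Fin (r + 1) → AdjoinRoot q := Fin.lastCases (AdjoinRoot.root q) (fun k => incl (c₀ k))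
    have hlast : c (Fin.last r) = AdjoinRoot.root q := Fin.lastCases_last
    have hcast : ∀ k : Fin r, c k.castSucc = incl (c₀ k) := fun k => Fin.lastCases_castSucc k
    refine ⟨AdjoinRoot q, inferInstance, inferInstance, inferInstance, inferInstance, c, fun k => ?_,
      ?_, fun D _ _ d hd => ?_⟩
    · induction k using Fin.lastCases with
      | last =>
        rw [hlast, ← Polynomial.aeval_map_algebraMap C₀]
        exact AdjoinRoot.eval₂_root q
      | cast k => rw [hcast, Polynomial.aeval_algHom_apply, h₀, map_zero]
    · rw [eq_top_iff]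
      rintro x -
      have hC : ∀ a : C₀, incl a ∈ Algebra.adjoin A (Set.range c) := fun a => by
        have : incl a ∈ (Algebra.adjoin A (Set.range c₀)).map incl :=
          ⟨a, hgen ▸ Algebra.mem_top, rfl⟩
        rw [AlgHom.map_adjoin] at this
        refine Algebra.adjoin_mono ?_ this
        rintro _ ⟨_, ⟨k, rfl⟩, rfl⟩
        exact ⟨k.castSucc, hcast k⟩
      induction x using AdjoinRoot.induction_on with
      | ih g =>
        induction g using Polynomial.induction_on' with
        | add g g' hg hg' => rw [map_add]; exact add_mem hg hg'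
        | monomial m a =>
          rw [← Polynomial.C_mul_X_pow_eq_monomial, map_mul, map_pow, AdjoinRoot.mk_C, AdjoinRoot.mk_X]
          exact mul_mem (hC a) (pow_mem (Algebra.subset_adjoin (s := Set.range c) (Set.mem_range.2 ⟨Fin.last r, hlast⟩)) _)
    · obtain ⟨φ₀, hφ₀⟩ := huniv D (fun k => d k.castSucc) (fun k => hd _)
      letI := φ₀.toRingHom.toAlgebra
      haveI : IsScalarTower A C₀ D := IsScalarTower.of_algebraMap_eq fun a => (φ₀.commutes a).symm
      have hroot : Polynomial.aeval (d (Fin.last r)) q = 0 := by
        rw [Polynomial.aeval_map_algebraMap]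
        exact hd _
      refine ⟨AdjoinRoot.liftAlgHom q φ₀ (d (Fin.last r)) hroot, fun k => ?_⟩
      induction k using Fin.lastCases with
      | last => rw [hlast]; exact AdjoinRoot.liftAlgHom_root q φ₀ (d (Fin.last r)) hroot
      | cast k =>
        rw [hcast]
        exact (AdjoinRoot.liftAlgHom_of q φ₀ (d (Fin.last r)) hroot (c₀ k)).trans (hφ₀ k)

/-- A finite free algebra over which given monic polynomials become products of linear factors. -/
theorem exists_split (A : Type u) [CommRing A] {r : ℕ} (p : Fin r → Polynomial A)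
    (hp : ∀ k, (p k).Monic) :
    ∃ (A' : Type u) (_ : CommRing A') (_ : Algebra A A') (_ : Module.Finite A A') (_ : Module.Free A A'),
      Function.Surjective (PrimeSpectrum.comap (algebraMap A A')) ∧
      ∀ k, ∃ m : Multiset A', (p k).map (algebraMap A A') = (m.map fun a => Polynomial.X - Polynomial.C a).prod := by
  classical
  rcases subsingleton_or_nontrivial A with hA | hA
  · exact ⟨A, inferInstance, inferInstance, inferInstance, inferInstance,
      fun P => isEmptyElim P, fun k => ⟨0, Subsingleton.elim _ _⟩⟩
  obtain ⟨A', _, _, _, _, _, hs⟩ := Groth.Agent.CAlg48.SplitCover.exists_splits_finset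
    (Finset.univ.image p) (by simpa using hp)
  haveI : Module.FaithfullyFlat A A' := inferInstance
  refine ⟨A', inferInstance, inferInstance, inferInstance, inferInstance,
    PrimeSpectrum.comap_surjective_of_faithfullyFlat, fun k => ?_⟩
  obtain ⟨m, hm⟩ := Polynomial.splits_iff_exists_multiset.mp
    (hs (p k) (Finset.mem_image_of_mem _ (Finset.mem_univ k)))
  refine ⟨m, ?_⟩
  rw [((hp k).map _).leadingCoeff, Polynomial.C_1, one_mul] at hm
  exact hm

theorem isFinLocFree_Spec {A B : Type u} [CommRing A] [CommRing B] [Algebra A B] [Module.Finite A B]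
    [Module.Free A B] : Mor2.IsFinLocFree (Spec.map (CommRingCat.ofHom (algebraMap A B))) := by
  haveI : Module.FinitePresentation A B := Module.finitePresentation_of_projective A B
  haveI : Algebra.FinitePresentation A B :=
    Algebra.FinitePresentation.of_finitePresentation A B
  refine ⟨(IsFinite.SpecMap_iff _).2 (RingHom.finite_algebraMap.2 inferInstance),
    (HasRingHomProperty.Spec_iff (P := @Flat)).2 (RingHom.flat_algebraMap_iff.2 inferInstance),
    (HasRingHomProperty.Spec_iff (P := @LocallyOfFinitePresentation)).2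
      (RingHom.finitePresentation_algebraMap.2 inferInstance)⟩

/-- Let f : Y ⟶ X be finite with X affine. Then there exist a surjective finite locally free b : X' ⟶ X,
a finite locally free c : Z' ⟶ X' and a closed immersion i of Y' = X' ×_X Y into Z' over X' such
that Z' is, as a set, the union of finitely many closed subschemes each mapping isomorphically onto
X'. (The published statement also records that Y' ⟶ Y is surjective finite locally free, which
follows by base change; this row omits it.) -/
theorem result {X Y : Scheme.{u}} [IsAffine X] (f : Y ⟶ X)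
    [IsFinite f] :
    ∃ (X' : Scheme.{u}) (b : X' ⟶ X) (Z' : Scheme.{u}) (c : Z' ⟶ X') (i : pullback f b ⟶ Z'),
      Mor2.IsFinLocFree b ∧ Surjective b ∧ Mor2.IsFinLocFree c ∧ IsClosedImmersion i ∧
      i ≫ c = pullback.snd f b ∧
      ∃ (m : ℕ) (Zj : Fin m → Scheme.{u}) (ιj : ∀ j, Zj j ⟶ Z'),
        (∀ j, IsClosedImmersion (ιj j)) ∧ (∀ j, IsIso (ιj j ≫ c)) ∧
        (⋃ j, Set.range (ιj j).base) = Set.univ := by
  classical
  haveI : IsAffine Y := isAffine_of_isAffineHom f
  algebraize [f.appTop.hom]
  let A := Γ(X, ⊤)
  let B := Γ(Y, ⊤)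
  have hfin : f.appTop.hom.Finite := by
    have := f.finite_app ⊤ (isAffineOpen_top X)
    exact this
  haveI : Module.Finite A B := hfin
  obtain ⟨r, v, hv⟩ := Module.Finite.exists_fin (R := A) (M := B)
  choose p hp hpv using fun k => (Algebra.IsIntegral.isIntegral (R := A) (v k))
  obtain ⟨A', _, _, _, _, hsurjA, hsplit⟩ := exists_split A p hp
  obtain ⟨C, _, _, _, _, c, hc, hgen, huniv⟩ :=
    exists_univ A' r (fun k => (p k).map (algebraMap A A')) (fun k => (hp k).map _)
  let D := A' ⊗[A] B
  obtain ⟨φ, hφ⟩ := huniv D (fun k => (1 : A') ⊗ₜ[A] v k) (fun k => by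
    rw [Polynomial.aeval_map_algebraMap,
      show (1 : A') ⊗ₜ[A] v k = Algebra.TensorProduct.includeRight (v k) from rfl,
      Polynomial.aeval_algHom_apply, Polynomial.aeval_def, hpv k, map_zero])
  have hφs : Function.Surjective φ := by
    intro x
    induction x using TensorProduct.induction_on with
    | zero => exact ⟨0, map_zero _⟩
    | tmul a y =>
      have hy : y ∈ Submodule.span A (Set.range v) := hv ▸ Submodule.mem_top
      induction hy using Submodule.span_induction generalizing a with
      | mem y hy =>
        obtain ⟨k, rfl⟩ := hy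
        refine ⟨algebraMap A' C a * c k, ?_⟩
        rw [map_mul, φ.commutes, hφ, Algebra.TensorProduct.algebraMap_apply,
          Algebra.TensorProduct.tmul_mul_tmul, one_mul, Algebra.algebraMap_self_apply, mul_one]
      | zero => exact ⟨0, by rw [map_zero, TensorProduct.tmul_zero]⟩
      | add y z _ _ hy hz =>
        obtain ⟨y', hy'⟩ := hy a
        obtain ⟨z', hz'⟩ := hz a
        exact ⟨y' + z', by rw [map_add, hy', hz', TensorProduct.tmul_add]⟩
      | smul t y _ hy =>
        obtain ⟨y', hy'⟩ := hy (t • a)
        exact ⟨y', by rw [hy', TensorProduct.smul_tmul]⟩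
    | add x y hx hy =>
      obtain ⟨x', rfl⟩ := hx
      obtain ⟨y', rfl⟩ := hy
      exact ⟨x' + y', map_add _ _ _⟩
  let α : Spec (CommRingCat.of A') ⟶ Spec A := Spec.map (CommRingCat.ofHom (algebraMap A A'))
  let b : Spec (CommRingCat.of A') ⟶ X := α ≫ X.isoSpec.inv
  haveI : Surjective α := ⟨hsurjA⟩
  have hbfree : Mor2.IsFinLocFree b := by
    obtain ⟨h1, h2, h3⟩ := isFinLocFree_Spec (A := A) (B := A')
    haveI : IsFinite α := h1
    haveI : Flat α := h2
    haveI : LocallyOfFinitePresentation α := h3
    exact ⟨inferInstance, inferInstance, inferInstance⟩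
  have hβ : CommRingCat.ofHom (algebraMap A B) = f.appTop := by
    rw [RingHom.algebraMap_toAlgebra]
    rfl
  let β : Spec (CommRingCat.of B) ⟶ Spec (CommRingCat.of A) :=
    Spec.map (CommRingCat.ofHom (algebraMap A B))
  have hβ' : β = Spec.map f.appTop := congrArg Spec.map hβ
  have hsq : IsPullback Y.isoSpec.hom f β X.isoSpec.hom :=
    IsPullback.of_horiz_isIso ⟨by rw [hβ']; exact Scheme.isoSpec_hom_naturality f⟩
  have h1 : IsPullback (pullback.fst f b ≫ Y.isoSpec.hom) (pullback.snd f b) β α := by
    have := (IsPullback.of_hasPullback f b).paste_horiz hsq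
    rwa [show b ≫ X.isoSpec.hom = α by simp [b]] at this
  let e : pullback f b ≅ Spec (CommRingCat.of D) :=
    h1.isoPullback ≪≫ pullbackSymmetry _ _ ≪≫ pullbackSpecIso A A' B
  have he : e.hom ≫ Spec.map (CommRingCat.ofHom
      (Algebra.TensorProduct.includeLeftRingHom : A' →+* D)) = pullback.snd f b := by
    simp only [e, Iso.trans_hom, Category.assoc]
    rw [pullbackSpecIso_hom_fst, pullbackSymmetry_hom_comp_fst, h1.isoPullback_hom_snd]
  let cmap : Spec (CommRingCat.of C) ⟶ Spec (CommRingCat.of A') :=
    Spec.map (CommRingCat.ofHom (algebraMap A' C))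
  let i : pullback f b ⟶ Spec (CommRingCat.of C) := e.hom ≫ Spec.map (CommRingCat.ofHom φ.toRingHom)
  choose m hm using hsplit
  let N : ℕ := Fintype.card ((k : Fin r) → {x // x ∈ (m k).toFinset})
  let σ : Fin N ≃ ((k : Fin r) → {x // x ∈ (m k).toFinset}) := (Fintype.equivFin _).symm
  have hsec : ∀ j : Fin N, ∃ ψ : C →ₐ[A'] A', ∀ k, ψ (c k) = (σ j k).1 := fun j =>
    huniv A' (fun k => (σ j k).1) (fun k => by
      rw [hm k, map_multiset_prod, Multiset.map_map]
      exact Multiset.prod_eq_zero (Multiset.mem_map.2
        ⟨(σ j k).1, Multiset.mem_toFinset.1 (σ j k).2, by simp⟩))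
  choose ψ hψ using hsec
  have hψs : ∀ j, Function.Surjective (ψ j) := fun j a => ⟨algebraMap A' C a, (ψ j).commutes a⟩
  refine ⟨Spec (CommRingCat.of A'), b, Spec (CommRingCat.of C), cmap, i, hbfree, inferInstance,
    isFinLocFree_Spec, ?_, ?_, N, fun _ => Spec (CommRingCat.of A'),
    fun j => Spec.map (CommRingCat.ofHom (ψ j).toRingHom), fun j => ?_, fun j => ?_, ?_⟩
  · haveI : IsClosedImmersion (Spec.map (CommRingCat.ofHom φ.toRingHom)) :=
      IsClosedImmersion.spec_of_surjective _ hφs
    infer_instance
  · rw [← he, Category.assoc, ← Spec.map_comp]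
    congr 2
    exact CommRingCat.hom_ext (RingHom.ext fun a => φ.commutes a)
  · exact IsClosedImmersion.spec_of_surjective _ (hψs j)
  · have : Spec.map (CommRingCat.ofHom (ψ j).toRingHom) ≫ cmap = 𝟙 _ := by
      rw [← Spec.map_comp, ← Spec.map_id]
      congr 1
      exact CommRingCat.hom_ext (RingHom.ext fun a => (ψ j).commutes a)
    rw [this]
    infer_instance
  · refine Set.eq_univ_of_forall fun P => ?_
    have hroot : ∀ k, ∃ a ∈ m k, c k - algebraMap A' C a ∈ P.asIdeal := by
      intro k
      have h0 : ((m k).map fun a => c k - algebraMap A' C a).prod = 0 := by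
        have := hc k
        rw [hm k, map_multiset_prod, Multiset.map_map] at this
        simpa [Function.comp_def] using this
      obtain ⟨x, hx, hxP⟩ := P.isPrime.multiset_prod_mem_iff_exists_mem _ |>.1
        (h0 ▸ P.asIdeal.zero_mem)
      obtain ⟨a, ha, rfl⟩ := Multiset.mem_map.1 hx
      exact ⟨a, ha, hxP⟩
    choose a ha haP using hroot
    let j : Fin N := σ.symm fun k => ⟨a k, Multiset.mem_toFinset.2 (ha k)⟩
    refine Set.mem_iUnion.2 ⟨j, ?_⟩
    have hker : RingHom.ker (ψ j).toRingHom ≤ P.asIdeal := by
      intro x hx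
      have hd : ∀ y : C, y - algebraMap A' C (ψ j y) ∈ P.asIdeal := by
        intro y
        have hy : y ∈ Algebra.adjoin A' (Set.range c) := hgen ▸ Algebra.mem_top
        induction hy using Algebra.adjoin_induction with
        | mem y hy =>
          obtain ⟨k, rfl⟩ := hy
          rw [hψ, show (σ j k).1 = a k by simp [j]]
          exact haP k
        | algebraMap t => simp
        | add y z _ _ hy hz =>
          rw [map_add, map_add, add_sub_add_comm]
          exact add_mem hy hz
        | mul y z _ _ hy hz =>
          rw [map_mul, map_mul, show y * z - algebraMap A' C (ψ j y) * algebraMap A' C (ψ j z) =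
            (y - algebraMap A' C (ψ j y)) * z + algebraMap A' C (ψ j y) * (z - algebraMap A' C (ψ j z)) by ring]
          exact add_mem (Ideal.mul_mem_right _ _ hy) (Ideal.mul_mem_left _ _ hz)
      have hx0 : ψ j x = 0 := hx
      have := hd x
      rwa [hx0, map_zero, sub_zero] at this
    show P ∈ Set.range (PrimeSpectrum.comap (ψ j).toRingHom)
    rw [range_comap_of_surjective _ _ (hψs j)]
    exact hker

end Groth.Agent.S9703
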