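import Groth.Statements.S9714
import Groth.Agent.UnramFib.Field
-- import your own Groth.Agent.* helpers here

set_option autoImplicit false
universe u
open CategoryTheory CategoryTheory.Limits AlgebraicGeometry
open Mor

namespace Groth.Agent.S9714
set_option backward.isDefEq.respectTransparency.types false

/-- Let k be a field and X a scheme over k. The structure morphism X ⟶ Spec k is unramified (formally
unramified and locally of finite type) if and only if X is isomorphic over k to a disjoint union of
spectra of finite separable field extensions of k. -/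
theorem result (k : Type u) [Field k] {X : Scheme.{u}}
    (f : X ⟶ Spec (CommRingCat.of k)) :
    (FormallyUnramified f ∧ LocallyOfFiniteType f) ↔
      ∃ (ι : Type u) (K : ι → Type u) (_ : ∀ i, Field (K i)) (_ : ∀ i, Algebra k (K i)),
        (∀ i, FiniteDimensional k (K i) ∧ Algebra.IsSeparable k (K i)) ∧
        ∃ e : X ≅ ∐ (fun i => Spec (CommRingCat.of (K i))),
          e.hom ≫ Sigma.desc (fun i => Spec.map (CommRingCat.ofHom (algebraMap k (K i)))) = f := by
  constructor
  · rintro ⟨_, _⟩
    have := Groth.Agent.UnramFib.discreteTopology_of_unramified f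
    have := Groth.Agent.UnramFib.isReduced_of_unramified f
    choose ψ hψ using fun x : X => Spec.map_surjective (X.fromSpecResidueField x ≫ f)
    refine ⟨X, fun x => X.residueField x, fun x => inferInstance, fun x => (ψ x).hom.toAlgebra,
      fun x => Groth.Agent.UnramFib.residue_finite_separable f x (ψ x) (hψ x), ?_⟩
    have := Groth.Agent.UnramFib.isIso_sigmaDesc_fromSpecResidueField X
    refine ⟨(asIso (Sigma.desc fun x : X => X.fromSpecResidueField x)).symm, ?_⟩
    rw [Iso.symm_hom, asIso_inv, IsIso.inv_comp_eq]
    exact Sigma.hom_ext _ _ fun x => by rw [Sigma.ι_desc, Sigma.ι_desc_assoc]; exact hψ x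
  · rintro ⟨ι, K, _, _, hK, e, rfl⟩
    have := fun i => (hK i).1
    have := fun i => (hK i).2
    have h := Groth.Agent.UnramFib.formallyUnramified_sigmaDesc (k := k) K
    exact ⟨(MorphismProperty.cancel_left_of_respectsIso @FormallyUnramified _ _).mpr h.1,
      (MorphismProperty.cancel_left_of_respectsIso @LocallyOfFiniteType _ _).mpr h.2⟩

end Groth.Agent.S9714
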