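import Groth.Statements.S9715
import Groth.Agent.DiffExt93.Affine
import Groth.Agent.Omega.PPNec

set_option autoImplicit false
universe u
open CategoryTheory CategoryTheory.Limits AlgebraicGeometry
open Opposite
open Mor

namespace Groth.Agent.S9715

open scoped Groth.Agent.Omega.PPOp

/-- Let f : X ⟶ S be a morphism of affine schemes, R = Γ(S, O_S) → A = Γ(X, O_X) the corresponding ring
map, F a quasi-coherent O_X-module and G an O_X-module, with global sections M and N. Every
differential operator M → N of order at most k relative to A over R is induced on global sections by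
a differential operator F → G of order at most k relative to X over S. (The published statement
asserts that D ↦ Γ(X, D) is a bijection between the two sets of operators of order at most k; its
injectivity is not verified in the published proof and is not claimed here. Differential operators
on X/S are taken in the principal-parts sense, those of A/R in the commutator sense.) -/
theorem result {X S : Scheme.{u}} [IsAffine X] [IsAffine S] (f : X ⟶ S)
    (F G : X.Modules) (hF : Coh.IsQCoh F) (k : ℕ) :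
    letI : Algebra Γ(S, ⊤) Γ(X, ⊤) := f.appTop.hom.toAlgebra
    letI : Module Γ(S, ⊤) Γ(F, ⊤) := Module.compHom Γ(F, ⊤) f.appTop.hom
    letI : Module Γ(S, ⊤) Γ(G, ⊤) := Module.compHom Γ(G, ⊤) f.appTop.hom
    haveI : IsScalarTower Γ(S, ⊤) Γ(X, ⊤) Γ(F, ⊤) := IsScalarTower.of_algebraMap_smul fun _ _ => rfl
    haveI : IsScalarTower Γ(S, ⊤) Γ(X, ⊤) Γ(G, ⊤) := IsScalarTower.of_algebraMap_smul fun _ _ => rfl
    ∀ D' : Γ(F, ⊤) →ₗ[Γ(S, ⊤)] Γ(G, ⊤), Diff16.IsDiffOpLE Γ(S, ⊤) Γ(X, ⊤) Γ(F, ⊤) Γ(G, ⊤) k D' →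
      ∃ D : F.presheaf ⟶ G.presheaf, PrinPart.IsDiffOpLE f F G k D ∧
        ∀ m : Γ(F, ⊤), (D.app (op ⊤)).hom m = D' m := by
  letI : Algebra Γ(S, ⊤) Γ(X, ⊤) := f.appTop.hom.toAlgebra
  letI : Module Γ(S, ⊤) Γ(F, ⊤) := Module.compHom Γ(F, ⊤) f.appTop.hom
  letI : Module Γ(S, ⊤) Γ(G, ⊤) := Module.compHom Γ(G, ⊤) f.appTop.hom
  haveI : IsScalarTower Γ(S, ⊤) Γ(X, ⊤) Γ(F, ⊤) := IsScalarTower.of_algebraMap_smul fun _ _ => rfl
  haveI : IsScalarTower Γ(S, ⊤) Γ(X, ⊤) Γ(G, ⊤) := IsScalarTower.of_algebraMap_smul fun _ _ => rfl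
  intro D' hD'
  haveI : F.IsQuasicoherent := hF
  let D₂ : Γ(F, ⊤) →ₗ[Groth.Agent.Omega.PPOp.Zu.{u}] Γ(G, ⊤) :=
    { toFun := D'
      map_add' := D'.map_add
      map_smul' := fun c t => map_zsmul D' c.down t }
  have hD₂ : Diff16.IsDiffOpLE Groth.Agent.Omega.PPOp.Zu.{u} Γ(X, ⊤) Γ(F, ⊤) Γ(G, ⊤) k D₂ :=
    Groth.Agent.DiffExt93.isDiffOpLE_congr_base k D' D₂ (fun _ => rfl) hD'
  obtain ⟨D, hDtop, hord, hlin⟩ := Groth.Agent.DiffExt93.exists_sheafHom k D₂ hD₂
  refine ⟨D, Groth.Agent.Omega.PPOp.exists_factor f k D ?_ ?_, fun m => hDtop m⟩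
  · intro x c t
    letI := (S.presheaf.germ ⊤ (f x) trivial).hom.toAlgebra
    haveI : IsLocalization.AtPrime (S.presheaf.stalk (f x))
        ((isAffineOpen_top S).primeIdealOf ⟨f x, trivial⟩).asIdeal :=
      (isAffineOpen_top S).isLocalization_stalk ⟨f x, trivial⟩
    have hglob : ∀ (s : Γ(S, ⊤)) (t : F.presheaf.stalk x),
        Groth.Agent.Omega.PPOp.stalkD D x (f.stalkMap x (S.presheaf.germ ⊤ (f x) trivial s) • t) =
          f.stalkMap x (S.presheaf.germ ⊤ (f x) trivial s) • Groth.Agent.Omega.PPOp.stalkD D x t := by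
      intro s t
      rw [Scheme.Hom.germ_stalkMap_apply]
      exact hlin (f.appTop s) (fun m => D'.map_smul s m) x t
    obtain ⟨⟨s, r⟩, hsr⟩ := IsLocalization.surj
      ((isAffineOpen_top S).primeIdealOf ⟨f x, trivial⟩).asIdeal.primeCompl c
    have hu := (IsLocalization.map_units (S.presheaf.stalk (f x)) r).map (f.stalkMap x).hom
    apply hu.smul_left_cancel.1
    have h1 : f.stalkMap x (S.presheaf.germ ⊤ (f x) trivial r.1) * f.stalkMap x c =
        f.stalkMap x (S.presheaf.germ ⊤ (f x) trivial s) := by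
      rw [← map_mul, mul_comm]
      exact congrArg (f.stalkMap x) hsr
    show f.stalkMap x (S.presheaf.germ ⊤ (f x) trivial r.1) • _ =
      f.stalkMap x (S.presheaf.germ ⊤ (f x) trivial r.1) • _
    rw [← hglob, smul_smul, smul_smul, h1, hglob]
  · intro x
    letI := Groth.Agent.DiffExt93.topModStalk F x
    letI := Groth.Agent.DiffExt93.topModStalk G x
    letI : Algebra Γ(X, ⊤) (X.presheaf.stalk x) := (X.presheaf.germ ⊤ x trivial).hom.toAlgebra
    haveI : IsLocalization.AtPrime (X.presheaf.stalk x)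
        ((isAffineOpen_top X).primeIdealOf ⟨x, trivial⟩).asIdeal :=
      (isAffineOpen_top X).isLocalization_stalk ⟨x, trivial⟩
    haveI : IsScalarTower Γ(X, ⊤) (X.presheaf.stalk x) (F.presheaf.stalk x) :=
      IsScalarTower.of_algebraMap_smul fun _ _ => rfl
    haveI : IsScalarTower Γ(X, ⊤) (X.presheaf.stalk x) (G.presheaf.stalk x) :=
      IsScalarTower.of_algebraMap_smul fun _ _ => rfl
    haveI : IsScalarTower Groth.Agent.Omega.PPOp.Zu.{u} Γ(X, ⊤) (X.presheaf.stalk x) :=
      Groth.Agent.Omega.PPOp.zuTower _ _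
    exact Groth.Agent.DiffExt93.isDiffOpLE_of_localization
      ((isAffineOpen_top X).primeIdealOf ⟨x, trivial⟩).asIdeal.primeCompl k _ (hord x)

end Groth.Agent.S9715
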