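import Groth.Statements.S9722
import Groth.Agent.EtChart.Basic
import Mathlib.RingTheory.Unramified.LocalStructure
-- import your own Groth.Agent.* helpers here

set_option autoImplicit false
universe u
open CategoryTheory AlgebraicGeometry
open Mor

namespace Groth.Agent.S9722
set_option backward.isDefEq.respectTransparency.types false

/-- Let f : X ⟶ S be a morphism, x a point of X and V an affine open neighbourhood of f(x) in S. Then f
is étale on some open neighbourhood of x if and only if there is an affine open neighbourhood U of x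
with f(U) ⊆ V such that Γ(X, U) is a standard étale algebra over Γ(S, V) through the induced ring
map. -/
theorem result {X S : Scheme.{u}} (f : X ⟶ S) (x : X)
    (V : S.Opens) (hV : IsAffineOpen V) (hxV : f x ∈ V) :
    (∃ W : X.Opens, x ∈ W ∧ Etale (W.ι ≫ f)) ↔
      ∃ (U : X.Opens) (_ : IsAffineOpen U) (_ : x ∈ U) (e : U ≤ f ⁻¹ᵁ V),
        letI := (f.appLE V U e).hom.toAlgebra
        Algebra.IsStandardEtale Γ(S, V) Γ(X, U) := by
  constructor
  · rintro ⟨W, hxW, hW⟩
    obtain ⟨U₀, hU₀, hxU₀, e₀, hq⟩ :=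
      Groth.Agent.EtChart.exists_appLE f (P := @Etale) hV hxV hxW hW
    algebraize [(f.appLE V U₀ e₀).hom]
    have : Algebra.Etale Γ(S, V) Γ(X, U₀) := ‹_›
    have : Algebra.IsEtaleAt Γ(S, V) (hU₀.primeIdealOf ⟨x, hxU₀⟩).asIdeal :=
      Algebra.FormallyEtale.comp Γ(S, V) Γ(X, U₀) _
    obtain ⟨r, hr, hs⟩ := Algebra.IsEtaleAt.exists_isStandardEtale (R := Γ(S, V))
      (hU₀.primeIdealOf ⟨x, hxU₀⟩).asIdeal
    refine ⟨X.basicOpen r, hU₀.basicOpen r,
      Groth.Agent.EtChart.mem_basicOpen_of_notMem hU₀ hxU₀ hr, (X.basicOpen_le r).trans e₀, ?_⟩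
    letI := (f.appLE V (X.basicOpen r) ((X.basicOpen_le r).trans e₀)).hom.toAlgebra
    have : IsScalarTower Γ(S, V) Γ(X, U₀) Γ(X, X.basicOpen r) := IsScalarTower.of_algebraMap_eq fun a =>
      (congr($(Groth.Agent.EtChart.appLE_basicOpen f e₀ r).hom a)).symm
    have := hU₀.isLocalization_basicOpen r
    let el : Localization.Away r ≃ₐ[Γ(S, V)] Γ(X, X.basicOpen r) :=
      (IsLocalization.algEquiv (.powers r) (Localization.Away r) Γ(X, X.basicOpen r)).restrictScalars _
    exact Algebra.IsStandardEtale.of_equiv el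
  · rintro ⟨U, hU, hxU, e, h⟩
    refine ⟨U, hxU, Groth.Agent.EtChart.of_appLE f (P := @Etale) hV hU e ?_ inferInstance⟩
    letI := (f.appLE V U e).hom.toAlgebra
    have : Algebra.IsStandardEtale Γ(S, V) Γ(X, U) := h
    show Algebra.Etale Γ(S, V) Γ(X, U)
    infer_instance

end Groth.Agent.S9722
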