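import Groth.Statements.S9724
import Groth.Agent.FlatMor.SmoothCartierScheme
import Groth.Agent.FlatMor.SepDiff

set_option autoImplicit false
universe u
open FlatMor

namespace Groth.Agent.S9724

open AlgebraicGeometry CategoryTheory Limits in
/-- Let f : X ⟶ S be a morphism and x a point such that f is smooth on an open neighbourhood of x, the
residue field extension κ(x)/κ(f x) is separable (formally smooth), and x is not the generic point
of any irreducible component of the fibre over f x, i.e. (the fibre being smooth over a field near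
x) the maximal ideal of the local ring of the fibre at x is nonzero. Then there are an affine open U
∋ x and a nonzerodivisor h' of Γ(X, U) vanishing at x such that the closed subscheme V(h') of U, an
effective Cartier divisor through x, is smooth over S. -/
theorem result {X S : Scheme.{u}} (f : X ⟶ S) (x : X)
    (W : X.Opens) (hxW : x ∈ W) (hW : Smooth (W.ι ≫ f))
    (hsep : letI := (f.residueFieldMap x).hom.toAlgebra
      Algebra.FormallySmooth (S.residueField (f x)) (X.residueField x))
    (hgen : IsLocalRing.maximalIdeal ↑((f.fiber (f x)).presheaf.stalk (f.asFiber x)) ≠ ⊥) :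
    ∃ (U : X.Opens) (hU : IsAffineOpen U) (hx : x ∈ U) (h' : Γ(X, U)), h' ∈ nonZeroDivisors Γ(X, U) ∧
      X.presheaf.germ U x hx h' ∈ IsLocalRing.maximalIdeal ↑(X.presheaf.stalk x) ∧
      Smooth (Spec.map (CommRingCat.ofHom (Ideal.Quotient.mk (Ideal.span {h'}))) ≫ hU.fromSpec ≫ f) := by
  have : LocallyOfFiniteType (W.ι ≫ f) := inferInstance
  have := Groth.Agent.FlatMor.SepDiff.isNoetherianRing_fibre_stalk f x hxW
  have key : ∃ φ : X.presheaf.stalk x →+* (f.fiber (f x)).presheaf.stalk (f.asFiber x),
      Function.Surjective φ ∧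
      ∀ a ∈ IsLocalRing.maximalIdeal (S.presheaf.stalk (f x)), φ ((f.stalkMap x).hom a) = 0 := by
    have : ∀ (x' : X) (s : S) (y : f.fiber s), f.fiberι s y = x' →
        ∃ φ : X.presheaf.stalk x' →+* (f.fiber s).presheaf.stalk y, Function.Surjective φ ∧
          ∀ a ∈ IsLocalRing.maximalIdeal (S.presheaf.stalk (f x')), φ ((f.stalkMap x').hom a) = 0 := by
      rintro _ s y rfl
      exact ⟨((f.fiberι s).stalkMap y).hom, (f.fiberι s).stalkMap_surjective y,
        Groth.Agent.FlatMor.SepDiff.stalkMap_fiberι_kills f s y⟩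
    exact this x (f x) (f.asFiber x) (f.fiberι_asFiber x)
  obtain ⟨φ, hφ, hker⟩ := key
  let _ := (f.stalkMap x).hom.toAlgebra
  have : IsLocalHom (algebraMap (S.presheaf.stalk (f x)) (X.presheaf.stalk x)) :=
    inferInstanceAs (IsLocalHom (f.stalkMap x).hom)
  obtain ⟨h, hm, hd⟩ := Groth.Agent.FlatMor.SepDiff.exists_D_ne_zero
    (R := S.presheaf.stalk (f x)) (L := X.presheaf.stalk x) hsep φ hφ hker hgen
  obtain ⟨U, hU, hx, h', he, hn, hs⟩ :=
    Groth.Agent.FlatMor.SmoothCartier.exists_cartier_scheme f x W hxW hW h hm hd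
  exact ⟨U, hU, hx, h', hn, he.symm ▸ hm, hs⟩

end Groth.Agent.S9724
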