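import Groth.Statements.S9726
import Groth.Agent.Desc44.IndQAEff
import Groth.Agent.FpqcCov27.MaxOpen
import Groth.Agent.AlgSp.DescentLqf

set_option autoImplicit false
open CategoryTheory CategoryTheory.Limits AlgebraicGeometry Opposite
universe u
open Desc

namespace Groth.Agent.S9726

/-- Single flat, surjective, locally finitely presented cover; a general fppf covering reduces to this
by taking the disjoint union: Let p : X ⟶ S be flat, surjective and locally of finite presentation.
Every descent datum for schemes relative to p whose underlying scheme is separated, locally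
quasi-finite and locally of finite type over X is effective: it is isomorphic to the canonical
descent datum of some scheme over S. (Descent data are in functor-of-points form; locally of finite
type is part of the book's notion of locally quasi-finite.) -/
theorem result {X S : Scheme.{u}} (p : X ⟶ S) [Flat p] [Surjective p] [LocallyOfFinitePresentation p]
    (D : Desc.SchDD p) [IsSeparated D.obj.hom] [LocallyQuasiFinite D.obj.hom] [LocallyOfFiniteType D.obj.hom] :
    ∃ U : Over S, Nonempty ((Desc.toDD p).obj U ≅ D) := by
  haveI : MorphismProperty.IsStableUnderBaseChange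
      (fun X Y g => MoreMor.IsIndQuasiAffineHom g : MorphismProperty Scheme.{u}) :=
    Groth.Agent.Desc44.IndQA.isStableUnderBaseChange
  have hfam : Presieve.ofArrows (fun _ : PUnit.{u + 1} => X) (fun _ => p) ∈ Scheme.fpqcPrecoverage S := by
    rw [Presieve.ofArrows_pUnit]
    exact Groth.Agent.FpqcCov27.singleton_mem
      (Groth.Agent.FpqcCov27.liftsAffines_of_isOpenMap p p.isOpenMap p.surjective)
  have hind : MoreMor.IsIndQuasiAffineHom D.obj.hom := by
    rw [Groth.Agent.Wt.IndQA.iff_forall]
    intro V hV U hUV hU
    haveI : IsAffine V.toScheme := hV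
    haveI : CompactSpace U.toScheme := isCompact_iff_compactSpace.mp hU
    haveI : IsSeparated (D.obj.hom.resLE V U hUV) := by delta Scheme.Hom.resLE; infer_instance
    haveI : LocallyQuasiFinite (D.obj.hom.resLE V U hUV) := by delta Scheme.Hom.resLE; infer_instance
    haveI : LocallyOfFiniteType (D.obj.hom.resLE V U hUV) := by delta Scheme.Hom.resLE; infer_instance
    exact Groth.Agent.AlgSp.isQuasiAffine_of_lqf (D.obj.hom.resLE V U hUV)
  obtain ⟨U, ⟨e⟩⟩ := Groth.Agent.Desc44.isEffective_of_affine_case
    (fun X Y g => MoreMor.IsIndQuasiAffineHom g : MorphismProperty Scheme.{u})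
    (fun m Y V q hq => Groth.Agent.Desc44.IndQA.sigma_map m Y V q hq)
    (fun X S p _ _ _ _ D hD => Groth.Agent.Desc44.IndQA.effective D hD) hfam
    ((Desc.SchDDFam.ofSchDD.{u} p).obj D) (fun _ => hind)
  exact ⟨U, ⟨(Desc.SchDDFam.toSchDD.{u} p).mapIso e⟩⟩

end Groth.Agent.S9726
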