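import Groth.Statements.S9727
import Groth.Agent.FlatMor.EtaleFibreLift

set_option autoImplicit false
universe u
open FlatMor

namespace Groth.Agent.S9727

open Groth.Agent.FlatMor.EtaleFibreLift

open AlgebraicGeometry CategoryTheory Limits in
/-- Let f : X ⟶ S be a morphism, x a point of X with image s, and (V, v) ⟶ (X_s, x) an étale
neighbourhood of x in its fibre. Then there is an étale neighbourhood (U, u) ⟶ (X, x) whose fibre
U_s over s admits a morphism of étale neighbourhoods (U_s, u) ⟶ (V, v) over X_s which is an open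
immersion. -/
theorem result {X S V : Scheme.{u}} (f : X ⟶ S) (x : X)
    (g : V ⟶ f.fiber (f x)) [Etale g] (v : V) (hv : g v = f.asFiber x) :
    ∃ (U : Scheme.{u}) (p : U ⟶ X) (u : U) (m : (p ≫ f).fiber (f x) ⟶ V) (u' : ↑((p ≫ f).fiber (f x))),
      Etale p ∧ p u = x ∧ IsOpenImmersion m ∧ m ≫ g = MoreMor.fiberMap p f (f x) ∧
      (p ≫ f).fiberι (f x) u' = u ∧ m u' = v := by
  obtain ⟨_, ⟨W, hW, rfl⟩, hsW, -⟩ := S.isBasis_affineOpens.exists_subset_of_mem_open
    (Set.mem_univ (f x)) isOpen_univ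
  obtain ⟨_, ⟨U0, hU0, rfl⟩, hxU, hle⟩ := X.isBasis_affineOpens.exists_subset_of_mem_open
    (show x ∈ (f ⁻¹ᵁ W : Set X) from hsW) (f ⁻¹ᵁ W).isOpen
  obtain ⟨p, hp⟩ : ∃ p : Spec Γ(S, W), hW.fromSpec p = f x :=
    ⟨hW.primeIdealOf ⟨f x, hsW⟩, hW.fromSpec_primeIdealOf _⟩
  let φ := f.appLE W U0 hle
  let jS := hW.fromSpec
  let jX := hU0.fromSpec
  have hsq : Spec.map φ ≫ jS = jX ≫ f := IsAffineOpen.SpecMap_appLE_fromSpec f hW hU0 hle
  let _ : Algebra Γ(S, W) Γ(X, U0) := φ.hom.toAlgebra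
  let e : S.residueField (f x) ⟶ CommRingCat.of p.asIdeal.ResidueField :=
    (S.residueFieldCongr hp).inv ≫ jS.residueFieldMap p ≫ (Scheme.Spec.residueFieldIso Γ(S, W) p).hom
  have : IsIso e := by dsimp [e, jS]; infer_instance
  have he : Spec.map e ≫ S.fromSpecResidueField (f x) =
      Spec.map (CommRingCat.ofHom (algebraMap Γ(S, W) p.asIdeal.ResidueField)) ≫ jS := by
    rw [← cancel_epi (Spec.map (Scheme.Spec.residueFieldIso Γ(S, W) p).inv),
      ← Category.assoc _ (Spec.map (CommRingCat.ofHom _)),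
      Scheme.Spec.map_residueFieldIso_inv_eq_fromSpecResidueField]
    refine Eq.trans ?_ (Scheme.Hom.SpecMap_residueFieldMap_fromSpecResidueField jS p)
    simp only [e, Spec.map_comp, Category.assoc, Scheme.residueFieldCongr_inv,
      Scheme.residueFieldCongr_fromSpecResidueField]
    rw [← Spec.map_comp_assoc, Iso.hom_inv_id, Spec.map_id, Category.id_comp]
  let A' := p.asIdeal.Fiber Γ(X, U0)
  let a : Spec (.of A') ⟶ Spec Γ(X, U0) :=
    Spec.map (CommRingCat.ofHom (Algebra.TensorProduct.includeRight (R := Γ(S, W))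
      (A := p.asIdeal.ResidueField) (B := Γ(X, U0))).toRingHom)
  let b : Spec (.of A') ⟶ Spec (.of p.asIdeal.ResidueField) :=
    Spec.map (CommRingCat.ofHom (algebraMap p.asIdeal.ResidueField A'))
  have h1 : IsPullback a b (Spec.map φ)
      (Spec.map (CommRingCat.ofHom (algebraMap Γ(S, W) p.asIdeal.ResidueField))) :=
    isPullback_SpecMap_of_isPushout (CommRingCat.ofHom (algebraMap Γ(S, W) Γ(X, U0)))
      (CommRingCat.ofHom (algebraMap Γ(S, W) p.asIdeal.ResidueField)) _ _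
      (CommRingCat.isPushout_tensorProduct Γ(S, W) p.asIdeal.ResidueField Γ(X, U0)).flip
  -- `Spec A'` is open in the fibre
  have h2 : IsPullback a (b ≫ Spec.map e) (jX ≫ f) (S.fromSpecResidueField (f x)) := by
    have hm : IsPullback (Spec.map (CommRingCat.ofHom (algebraMap Γ(S, W) p.asIdeal.ResidueField)))
        (𝟙 _) jS (Spec.map (CommRingCat.ofHom (algebraMap Γ(S, W) p.asIdeal.ResidueField)) ≫ jS) :=
      IsPullback.of_vert_isIso_mono ⟨by simp⟩
    refine (h1.paste_vert hm).of_iso (Iso.refl _) (Iso.refl _) (asIso (Spec.map e)) (Iso.refl _)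
      ?_ ?_ ?_ ?_
    · simp
    · simp
    · simp [← hsq]
    · simp [he]
  let i0 : Spec (.of A') ⟶ f.fiber (f x) := pullback.lift (a ≫ jX) (b ≫ Spec.map e)
    (by rw [Category.assoc]; exact h2.w)
  have hi0 : IsPullback a i0 jX (f.fiberι (f x)) := by
    refine IsPullback.of_bot ?_ (pullback.lift_fst _ _ _).symm (IsPullback.of_hasPullback _ _)
    have hb : i0 ≫ pullback.snd f (S.fromSpecResidueField (f x)) = b ≫ Spec.map e :=
      pullback.lift_snd _ _ _
    exact hb.symm ▸ h2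
  have : IsOpenImmersion i0 := MorphismProperty.of_isPullback hi0 (inferInstanceAs (IsOpenImmersion hU0.fromSpec))
  have hxr : f.asFiber x ∈ Set.range i0 := by
    obtain ⟨z, -, hz⟩ := Scheme.exists_preimage_of_isPullback hi0 (hU0.primeIdealOf ⟨x, hxU⟩)
      (f.asFiber x) ((hU0.fromSpec_primeIdealOf _).trans (f.fiberι_asFiber x).symm)
    exact ⟨z, hz⟩
  -- an affine neighbourhood of `v`
  obtain ⟨_, ⟨V1, hV1, rfl⟩, hv1, hV1le⟩ := V.isBasis_affineOpens.exists_subset_of_mem_open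
    (show v ∈ (g ⁻¹ᵁ i0.opensRange : Set V) from by show g v ∈ Set.range i0; rw [hv]; exact hxr)
    (g ⁻¹ᵁ i0.opensRange).isOpen
  let t := hV1.fromSpec
  have htle : Set.range (t ≫ g) ⊆ Set.range i0 := by
    rintro _ ⟨y, rfl⟩
    have : t y ∈ (V1 : Set V) := hV1.range_fromSpec ▸ ⟨y, rfl⟩
    exact hV1le this
  let gB := IsOpenImmersion.lift i0 (t ≫ g) htle
  have hgB : gB ≫ i0 = t ≫ g := IsOpenImmersion.lift_fac _ _ _
  have hgBe : Etale gB := Groth.Agent.Thick.Topo.of_comp_mono (P := @Etale) gB i0 (hgB ▸ inferInstance)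
  obtain ⟨ψ, hψ⟩ := Spec.map_surjective gB
  let _ : Algebra Γ(X, U0) A' := (Algebra.TensorProduct.includeRight (R := Γ(S, W))
      (A := p.asIdeal.ResidueField) (B := Γ(X, U0))).toRingHom.toAlgebra
  let _ : Algebra A' Γ(V, V1) := ψ.hom.toAlgebra
  let _ : Algebra Γ(X, U0) Γ(V, V1) := (ψ.hom.comp (algebraMap Γ(X, U0) A')).toAlgebra
  have : IsScalarTower Γ(X, U0) A' Γ(V, V1) := .of_algebraMap_eq fun _ => rfl
  have : Algebra.Etale A' Γ(V, V1) := by
    rw [← hψ, HasRingHomProperty.Spec_iff (P := @Etale)] at hgBe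
    exact RingHom.etale_algebraMap.mp hgBe
  obtain ⟨C, _, _, _, ψC, hC⟩ := exists_etale_isPushout (A := Γ(X, U0)) (A' := A') (B := Γ(V, V1))
    (unitSurjective_fiber (A := Γ(X, U0)) p.asIdeal)
  let jC : Spec (.of C) ⟶ Spec Γ(X, U0) := Spec.map (CommRingCat.ofHom (algebraMap Γ(X, U0) C))
  have : Etale jC := (HasRingHomProperty.Spec_iff (P := @Etale)).mpr
    (RingHom.etale_algebraMap.mpr inferInstance)
  let cB : Spec Γ(V, V1) ⟶ Spec (.of C) := Spec.map (CommRingCat.ofHom ψC.toRingHom)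
  have hcB : IsPullback cB gB jC a := hψ ▸ isPullback_SpecMap_of_isPushout
    (CommRingCat.ofHom (algebraMap Γ(X, U0) C)) (CommRingCat.ofHom (algebraMap Γ(X, U0) A'))
    (CommRingCat.ofHom ψC.toRingHom) (CommRingCat.ofHom (algebraMap A' Γ(V, V1))) hC.flip
  have h3 : IsPullback cB (gB ≫ i0) (jC ≫ jX) (f.fiberι (f x)) := hcB.paste_vert hi0
  have h4 : IsPullback cB (gB ≫ i0 ≫ f.fiberToSpecResidueField (f x)) ((jC ≫ jX) ≫ f)
      (S.fromSpecResidueField (f x)) := by
    have := h3.paste_vert (IsPullback.of_hasPullback f (S.fromSpecResidueField (f x)))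
    rwa [Category.assoc] at this
  let ε : Spec Γ(V, V1) ≅ ((jC ≫ jX) ≫ f).fiber (f x) := h4.isoPullback
  have hεf : ε.hom ≫ ((jC ≫ jX) ≫ f).fiberι (f x) = cB := h4.isoPullback_hom_fst
  have hεs : ε.hom ≫ ((jC ≫ jX) ≫ f).fiberToSpecResidueField (f x) =
      gB ≫ i0 ≫ f.fiberToSpecResidueField (f x) := h4.isoPullback_hom_snd
  obtain ⟨v0, hv0⟩ : ∃ v0, t v0 = v := ⟨hV1.primeIdealOf ⟨v, hv1⟩, hV1.fromSpec_primeIdealOf _⟩
  have hmf : MoreMor.fiberMap (jC ≫ jX) f (f x) ≫ f.fiberι (f x) =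
      ((jC ≫ jX) ≫ f).fiberι (f x) ≫ jC ≫ jX := pullback.lift_fst _ _ _
  have hms : MoreMor.fiberMap (jC ≫ jX) f (f x) ≫ f.fiberToSpecResidueField (f x) =
      ((jC ≫ jX) ≫ f).fiberToSpecResidueField (f x) := pullback.lift_snd _ _ _
  refine ⟨Spec (.of C), jC ≫ jX, cB v0, ε.inv ≫ t, ε.hom v0, inferInstance, ?_,
    inferInstance, ?_, ?_, ?_⟩
  · rw [← Scheme.Hom.comp_apply, h3.w, hgB, Scheme.Hom.comp_apply, Scheme.Hom.comp_apply, hv0, hv,
      f.fiberι_asFiber]
  · refine (Category.assoc _ _ _).trans ((Iso.inv_comp_eq ε).mpr ?_)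
    rw [← hgB]
    apply pullback.hom_ext
    · refine Eq.trans ?_ ((congrArg (ε.hom ≫ ·) hmf).trans
        ((reassoc_of% hεf) (jC ≫ jX))).symm |>.trans (Category.assoc _ _ _).symm
      exact h3.w.symm
    · refine Eq.trans ?_ ((congrArg (ε.hom ≫ ·) hms).trans hεs).symm |>.trans
        (Category.assoc _ _ _).symm
      exact Category.assoc _ _ _
  · exact congrArg (fun (m : Spec Γ(V, V1) ⟶ Spec (.of C)) => m v0) hεf
  · exact (congrArg (fun (m : Spec Γ(V, V1) ⟶ V) => m v0) (ε.hom_inv_id_assoc t)).trans hv0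

end Groth.Agent.S9727
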