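import Groth.Statements.S9728
import Groth.Agent.RegImm44.Local

set_option autoImplicit false
universe u
open FlatMor

namespace Groth.Agent.S9728

open AlgebraicGeometry CategoryTheory Limits in
/-- Given S-schemes U, P, P' with P and P' smooth over S, immersions i : U ⟶ P and i' : U ⟶ P'
compatible with the structure maps to S, and a point u of U, some restriction of i to an open
neighbourhood of u is a Koszul-regular immersion exactly when some restriction of i' to an open
neighbourhood of u is. -/
theorem result {S U P P' : Scheme.{u}} (q : U ⟶ S)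
    (p : P ⟶ S) (p' : P' ⟶ S) [Smooth p] [Smooth p'] (i : U ⟶ P) (i' : U ⟶ P') [IsImmersion i] [IsImmersion i']
    (hi : i ≫ p = q) (hi' : i' ≫ p' = q) (u : U) :
    (∃ V : U.Opens, u ∈ V ∧ RegImm.IsRegularImmersion RegImm.Kind.koszul (V.ι ≫ i)) ↔
      (∃ V : U.Opens, u ∈ V ∧ RegImm.IsRegularImmersion RegImm.Kind.koszul (V.ι ≫ i')) := by
  have key : ∀ {A B : Scheme.{u}} (a : A ⟶ S) (b : B ⟶ S) (j : U ⟶ A) (j' : U ⟶ B),
      Smooth a → Smooth b → IsImmersion j → IsImmersion j' → j ≫ a = q → j' ≫ b = q →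
      (∃ V : U.Opens, u ∈ V ∧ RegImm.IsRegularImmersion RegImm.Kind.koszul (V.ι ≫ j)) →
      ∃ V : U.Opens, u ∈ V ∧ RegImm.IsRegularImmersion RegImm.Kind.koszul (V.ι ≫ j') := by
    intro A B a b j j' _ _ _ _ ha hb ⟨V, hu, hreg⟩
    refine ⟨V, hu, Groth.Agent.RegImm44.isRegularImmersion_of_isKoszulAt (f := V.ι ≫ q) (fun z => ?_) b
      (V.ι ≫ j') (by rw [Category.assoc, hb])⟩
    refine ⟨⊤, A, (⊤ : V.toScheme.Opens).ι ≫ V.ι ≫ j, a, trivial, ?_,
      Groth.Agent.RegImm44.isRegularImmersion_open_comp _ _ hreg, inferInstance, by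
        rw [Category.assoc, Category.assoc, ha]⟩
    rw [← ha]
    infer_instance
  exact ⟨key p p' i i' inferInstance inferInstance inferInstance inferInstance hi hi',
    key p' p i' i inferInstance inferInstance inferInstance inferInstance hi' hi⟩

end Groth.Agent.S9728
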