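import Groth.Statements.S9733
import Groth.Agent.Omega.Thick

set_option autoImplicit false
universe u
open OmegaSh

namespace Groth.Agent.S9733

open AlgebraicGeometry CategoryTheory Limits in
/-- Let h : Z ⟶ X and f : Z ⟶ W make Z the fibre product of g : X ⟶ Y and a formally unramified h' : W ⟶
Y, and let (j : W ⟶ W', k : W' ⟶ Y) be universal first-order thickening data for h'. Then the map Z
⟶ X ×_Y W' with components h and f ≫ j, together with the first projection X ×_Y W' ⟶ X, is a
universal first-order thickening for h. The published statement also asserts that h is formally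
unramified and that the pullback along f of the conormal sheaf of W relative to Y surjects onto the
conormal sheaf of Z relative to X; this row states neither. -/
theorem result {Z X W Y W' : Scheme.{u}} (h : Z ⟶ X) (f : Z ⟶ W) (g : X ⟶ Y) (h' : W ⟶ Y)
    [FormallyUnramified h'] (hc : IsPullback h f g h') (j : W ⟶ W') (k : W' ⟶ Y) (hu : OmegaSh.IsUnivThickening h' j k) :
    OmegaSh.IsUnivThickening h (pullback.lift h (f ≫ j) (hc.w.trans (congrArg (f ≫ ·) hu.2.1).symm)) (pullback.fst g k) := by
  obtain ⟨hj, hjk, huniv⟩ := hu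
  have e : h ≫ g = (f ≫ j) ≫ k := by rw [hc.w, Category.assoc, hjk]
  have hc' : IsPullback (pullback.lift h (f ≫ j) e) f (pullback.snd g k) j := by
    refine IsPullback.of_right (h₁₂ := pullback.fst g k) ?_ (pullback.lift_snd _ _ _)
      (IsPullback.of_hasPullback g k)
    rw [pullback.lift_fst, hjk]
    exact hc
  refine ⟨Groth.Agent.Omega.Thick.isFOT_of_isPullback hj hc', pullback.lift_fst _ _ _,
    fun T T' t b a ht hcomm => ?_⟩
  have w : t ≫ b ≫ g = (a ≫ f) ≫ h' := by
    rw [← Category.assoc, hcomm, Category.assoc, hc.w, Category.assoc]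
  obtain ⟨a₂, ⟨h₁, h₂⟩, hun⟩ := huniv T T' t (b ≫ g) (a ≫ f) ht w
  refine ⟨pullback.lift b a₂ h₂.symm, ⟨?_, pullback.lift_fst _ _ _⟩, fun m hm => ?_⟩
  · ext
    · simp [pullback.lift_fst, pullback.lift_snd, pullback.lift_fst_assoc, pullback.lift_snd_assoc, hcomm]
    · simp [pullback.lift_fst, pullback.lift_snd, pullback.lift_fst_assoc, pullback.lift_snd_assoc, h₁]
  · obtain ⟨hm₁, hm₂⟩ := hm
    ext
    · simp [pullback.lift_fst, hm₂]
    · rw [pullback.lift_snd]
      refine hun _ ⟨?_, ?_⟩
      · rw [← Category.assoc, hm₁]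
        simp [pullback.lift_fst, pullback.lift_snd, pullback.lift_fst_assoc, pullback.lift_snd_assoc]
      · rw [Category.assoc, ← pullback.condition, ← Category.assoc, hm₂]

end Groth.Agent.S9733
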