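import Groth.Statements.S9734
import Groth.Agent.S9435

set_option autoImplicit false
universe u
open FlatMor

namespace Groth.Agent.S9734

open AlgebraicGeometry CategoryTheory Limits in
/-- Let S be a scheme, s a point of S and k a finite separable field extension of the residue field
κ(s). Then there is an étale neighbourhood (U, u) ⟶ (S, s) whose residue field extension κ(u)/κ(s)
is isomorphic to k/κ(s). -/
theorem result (S : Scheme.{u}) (s : S) (k : Type u) [Field k]
    [Algebra (S.residueField s) k] [FiniteDimensional (S.residueField s) k] [Algebra.IsSeparable (S.residueField s) k] :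
    ∃ (U : Scheme.{u}) (g : U ⟶ S) (u : U) (hu : g u = s), Etale g ∧
      letI := ((S.residueFieldCongr hu).inv ≫ g.residueFieldMap u).hom.toAlgebra
      Nonempty (k ≃ₐ[S.residueField s] U.residueField u) := by
  -- an affine open around `s`
  obtain ⟨_, ⟨W, hW, rfl⟩, hsW, -⟩ := S.isBasis_affineOpens.exists_subset_of_mem_open
    (Set.mem_univ s) isOpen_univ
  obtain ⟨p, hp⟩ : ∃ p : Spec Γ(S, W), hW.fromSpec p = s :=
    ⟨hW.primeIdealOf ⟨s, hsW⟩, hW.fromSpec_primeIdealOf _⟩
  let R := Γ(S, W)
  let j : Spec R ⟶ S := hW.fromSpec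
  -- the residue field of `p` is that of `s`
  let e : S.residueField s ⟶ CommRingCat.of p.asIdeal.ResidueField :=
    (S.residueFieldCongr hp).inv ≫ j.residueFieldMap p ≫ (Scheme.Spec.residueFieldIso R p).hom
  have : IsIso e := by dsimp [e, j]; infer_instance
  let a : CommRingCat.of p.asIdeal.ResidueField ⟶ CommRingCat.of k :=
    inv e ≫ CommRingCat.ofHom (algebraMap (S.residueField s) k)
  have hea : e ≫ a = CommRingCat.ofHom (algebraMap (S.residueField s) k) := IsIso.hom_inv_id_assoc e _
  let _ : Algebra p.asIdeal.ResidueField k := a.hom.toAlgebra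
  let _ : Algebra R k := (a.hom.comp (algebraMap R p.asIdeal.ResidueField)).toAlgebra
  have : IsScalarTower R p.asIdeal.ResidueField k := .of_algebraMap_eq fun _ => rfl
  let ε : S.residueField s ≃+* p.asIdeal.ResidueField := (asIso e).commRingCatIsoToRingEquiv
  have hε : RingHom.comp (algebraMap p.asIdeal.ResidueField k) ↑ε =
      RingHom.comp ↑(RingEquiv.refl k) (algebraMap (S.residueField s) k) :=
    congrArg CommRingCat.Hom.hom hea
  have : Module.Finite p.asIdeal.ResidueField k := Module.Finite.of_equiv_equiv ε (RingEquiv.refl k) hε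
  have : Algebra.IsSeparable p.asIdeal.ResidueField k :=
    Algebra.IsSeparable.of_equiv_equiv ε (RingEquiv.refl k) hε
  obtain ⟨R', _, _, _, ψ, hψ⟩ := Groth.Agent.S9435.result R p.asIdeal k
  let ι : Spec (.of R') ⟶ Spec R := Spec.map (CommRingCat.ofHom (algebraMap R R'))
  let τ : Spec (.of k) ⟶ Spec (.of R') := Spec.map (CommRingCat.ofHom ψ.toRingHom)
  have hι : Etale ι := (HasRingHomProperty.Spec_iff (P := @Etale)).mpr
    (RingHom.etale_algebraMap.mpr inferInstance)
  have h1 : τ ≫ ι ≫ j =
      Spec.map (CommRingCat.ofHom (algebraMap (S.residueField s) k)) ≫ S.fromSpecResidueField s := by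
    rw [← hea, Spec.map_comp]
    have h2 : τ ≫ ι = Spec.map a ≫ Spec.map (CommRingCat.ofHom (algebraMap R p.asIdeal.ResidueField)) := by
      rw [← Spec.map_comp, ← Spec.map_comp]
      congr 1
      ext x
      exact ψ.commutes x
    rw [reassoc_of% h2]
    have h3 : Spec.map e ≫ S.fromSpecResidueField s =
        Spec.map (CommRingCat.ofHom (algebraMap R p.asIdeal.ResidueField)) ≫ j := by
      rw [← cancel_epi (Spec.map (Scheme.Spec.residueFieldIso R p).inv),
        ← Category.assoc _ (Spec.map (CommRingCat.ofHom _)),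
        Scheme.Spec.map_residueFieldIso_inv_eq_fromSpecResidueField]
      refine Eq.trans ?_ (Scheme.Hom.SpecMap_residueFieldMap_fromSpecResidueField j p)
      simp only [e, Spec.map_comp, Category.assoc, Scheme.residueFieldCongr_inv,
        Scheme.residueFieldCongr_fromSpecResidueField]
      rw [← Spec.map_comp_assoc, Iso.hom_inv_id, Spec.map_id, Category.id_comp]
    rw [Category.assoc, h3]
  set u := τ (IsLocalRing.closedPoint k) with hu0
  have hu : (ι ≫ j) u = s := by
    rw [hu0, ← Scheme.Hom.comp_apply, h1, Scheme.Hom.comp_apply]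
    exact S.fromSpecResidueField_apply s _
  refine ⟨Spec (.of R'), ι ≫ j, u, hu, inferInstance, ?_⟩
  let θ := (Spec (CommRingCat.of R')).descResidueField (Scheme.stalkClosedPointTo τ)
  have hθ : Spec.map θ ≫ (Spec (CommRingCat.of R')).fromSpecResidueField u = τ :=
    Scheme.descResidueField_stalkClosedPointTo_fromSpecResidueField k _ τ
  let ν := (S.residueFieldCongr hu).inv ≫ (ι ≫ j).residueFieldMap u
  have hν : ν ≫ θ = CommRingCat.ofHom (algebraMap (S.residueField s) k) := by
    rw [← Spec.map_inj, ← cancel_mono (S.fromSpecResidueField s), ← h1, ← hθ]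
    simp [ν]
  -- `θ` is surjective
  have hθs : Function.Surjective θ.hom := by
    have h4 : θ.hom.fieldRange = ⊤ := by
      refine top_unique (hψ ▸ (Subfield.closure_le.mpr ?_))
      rintro _ ⟨x, rfl⟩
      have h5 : CommRingCat.ofHom (algebraMap R' ((⟨u.asIdeal, u.isPrime⟩ : PrimeSpectrum R').asIdeal.ResidueField)) ≫
          (Scheme.Spec.residueFieldIso (.of R') u).inv ≫ θ = CommRingCat.ofHom ψ.toRingHom := by
        rw [← Spec.map_inj, Spec.map_comp, Spec.map_comp, Category.assoc,
          Scheme.Spec.map_residueFieldIso_inv_eq_fromSpecResidueField, hθ]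
      have h6 := congrArg (fun m => m.hom x) h5
      simp only [CommRingCat.hom_comp, RingHom.comp_apply, CommRingCat.hom_ofHom] at h6
      exact RingHom.mem_fieldRange.mpr ⟨_, h6⟩
    intro x
    exact (h4.symm ▸ Subfield.mem_top x : x ∈ θ.hom.fieldRange)
  letI := ν.hom.toAlgebra
  refine ⟨(AlgEquiv.ofBijective ({ θ.hom with commutes' := fun x => congr($(hν) x) } :
    (Spec (CommRingCat.of R')).residueField u →ₐ[S.residueField s] k) ⟨θ.hom.injective, hθs⟩).symm⟩

end Groth.Agent.S9734
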