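import Groth.Statements.S9737
import Groth.Agent.LimLib.FGSub
import Groth.Agent.S1460

set_option autoImplicit false
universe u
open FlatMor

namespace Groth.Agent.S9737

open AlgebraicGeometry CategoryTheory Limits Opposite

/-- Projections from the stages to an affine scheme below the base ring. -/
theorem exists_proj {S T : Scheme.{u}} [IsAffine S] [IsAffine T] (g : S ⟶ T) (R : Type u) [CommRing R]
    [Algebra R Γ(S, ⊤)] (ψ : Γ(T, ⊤) →+* R)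
    (hψ : (algebraMap R Γ(S, ⊤)).comp ψ = g.appTop.hom) :
    ∃ p : ∀ k, (LimLib.fgDiagram R Γ(S, ⊤)).obj k ⟶ T,
      (∀ k, (LimLib.fgCone R Γ(S, ⊤)).π.app k ≫ p k = S.isoSpec.inv ≫ g) := by
  refine ⟨fun k => Spec.map (CommRingCat.ofHom ((algebraMap R
    (Algebra.adjoin R (k.unop : Set Γ(S, ⊤)))).comp ψ)) ≫ T.isoSpec.inv, fun k => ?_⟩
  refine (Spec.map_comp_assoc _ ((LimLib.fgCocone _ _).ι.app k.unop) T.isoSpec.inv).symm.trans ?_
  refine Eq.trans (congrArg (fun w => Spec.map w ≫ T.isoSpec.inv)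
    (show _ = g.appTop from CommRingCat.hom_ext hψ)) ?_
  refine (Iso.eq_inv_comp _).2 ?_
  exact (Scheme.isoSpec_hom_naturality_assoc g T.isoSpec.inv).trans
    (by rw [Iso.hom_inv_id, Category.comp_id])

theorem locallyOfFinitePresentation_of_finiteType {X S : Scheme.{u}} [IsAffine S] (f : X ⟶ S)
    (hS : Algebra.FiniteType ℤ Γ(S, ⊤)) [LocallyOfFiniteType f] : LocallyOfFinitePresentation f := by
  haveI : IsNoetherianRing Γ(S, ⊤) := Algebra.FiniteType.isNoetherianRing ℤ _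
  haveI : IsLocallyNoetherian S := isLocallyNoetherian_of_isOpenImmersion S.isoSpec.hom
  exact LocallyOfFinitePresentation.iff_locallyOfFiniteType.2 ‹_›

/-- Two models over a common ring of definition coincide at some stage. -/
theorem aux (P Q : MorphismProperty Scheme.{u}) [P.IsStableUnderBaseChange] [Q.IsStableUnderBaseChange]
    {X S : Scheme.{u}} (f : X ⟶ S) [IsAffine X] [IsAffine S] [LocallyOfFinitePresentation f]
    {X₁ S₁ X₂ S₂ : Scheme.{u}} [IsAffine X₁] [IsAffine S₁] [IsAffine X₂] [IsAffine S₂]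
    (f₁ : X₁ ⟶ S₁) (g₁ : S ⟶ S₁) (g₁' : X ⟶ X₁) (h₁ : IsPullback g₁' f f₁ g₁)
    (f₂ : X₂ ⟶ S₂) (g₂ : S ⟶ S₂) (g₂' : X ⟶ X₂) (h₂ : IsPullback g₂' f f₂ g₂)
    [LocallyOfFinitePresentation f₁] [LocallyOfFinitePresentation f₂] (hP : P f₁) (hQ : Q f₂)
    (R : Type u) [CommRing R] [Algebra.FiniteType ℤ R] [Algebra R Γ(S, ⊤)]
    (ψ₁ : Γ(S₁, ⊤) →+* R) (hψ₁ : (algebraMap R Γ(S, ⊤)).comp ψ₁ = g₁.appTop.hom)
    (ψ₂ : Γ(S₂, ⊤) →+* R) (hψ₂ : (algebraMap R Γ(S, ⊤)).comp ψ₂ = g₂.appTop.hom) :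
    ∃ (X₀ S₀ : Scheme.{u}) (f₀ : X₀ ⟶ S₀) (g : S ⟶ S₀) (g' : X ⟶ X₀), IsAffine X₀ ∧ IsAffine S₀ ∧ IsPullback g' f f₀ g ∧
      Algebra.FiniteType ℤ Γ(S₀, ⊤) ∧ LocallyOfFiniteType f₀ ∧ P f₀ ∧ Q f₀ := by
  classical
  obtain ⟨p₁, hp₁⟩ := exists_proj g₁ R ψ₁ hψ₁
  obtain ⟨p₂, hp₂⟩ := exists_proj g₂ R ψ₂ hψ₂
  let c := LimLib.fgCone R Γ(S, ⊤)
  let D := LimLib.fgDiagram R Γ(S, ⊤)
  let i : (Finset Γ(S, ⊤))ᵒᵖ := op ∅
  have key : ∀ {X₀ S₀ : Scheme.{u}} (f₀ : X₀ ⟶ S₀) (g₀ : S ⟶ S₀) (g₀' : X ⟶ X₀)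
      (_ : IsPullback g₀' f f₀ g₀) (p : D.obj i ⟶ S₀) (_ : c.π.app i ≫ p = S.isoSpec.inv ≫ g₀),
      ∃ q, IsPullback q (f ≫ S.isoSpec.hom) (pullback.snd f₀ p) (c.π.app i) := by
    intro X₀ S₀ f₀ g₀ g₀' h p hp
    have h' : IsPullback g₀' (f ≫ S.isoSpec.hom) f₀ (c.π.app i ≫ p) := by
      refine hp.symm ▸ ?_
      exact h.of_iso (Iso.refl _) (Iso.refl _) S.isoSpec (Iso.refl _) (by simp) (by simp) (by simp) (by simp)
    exact ⟨pullback.lift g₀' ((f ≫ S.isoSpec.hom) ≫ c.π.app i) (h'.w.trans (Category.assoc _ _ _).symm),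
      IsPullback.of_right (by rw [pullback.lift_fst]; exact h') (pullback.lift_snd _ _ _)
        (IsPullback.of_hasPullback f₀ p)⟩
  obtain ⟨q₁, k₁⟩ := key f₁ g₁ g₁' h₁ (p₁ i) (hp₁ i)
  obtain ⟨q₂, k₂⟩ := key f₂ g₂ g₂' h₂ (p₂ i) (hp₂ i)
  have : ∀ (a b : (Finset Γ(S, ⊤))ᵒᵖ) (φ : a ⟶ b), IsAffineHom (D.map φ) := fun _ _ _ => inferInstance
  obtain ⟨j, φ, e, he, -⟩ := LimLib.exists_iso_stage (LimLib.isLimitFgCone R Γ(S, ⊤))
    (pullback.snd f₁ (p₁ i)) (pullback.snd f₂ (p₂ i)) k₁ k₂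
  obtain ⟨-, -, -, hsq⟩ := LimLib.HasModel.at_finer (c := c) (f := (f ≫ S.isoSpec.hom : X ⟶ c.pt))
    (fi := pullback.snd f₁ (p₁ i)) inferInstance inferInstance inferInstance k₁ φ
  refine ⟨pullback (pullback.snd f₁ (p₁ i)) (D.map φ), D.obj j, pullback.snd _ _,
    S.isoSpec.hom ≫ c.π.app j, _, inferInstance, inferInstance,
    hsq.of_iso (Iso.refl _) (Iso.refl _) S.isoSpec.symm (Iso.refl _)
      ((Category.comp_id _).trans (Category.id_comp _).symm)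
      (((Category.assoc _ _ _).trans ((congrArg (fun w => f ≫ w) S.isoSpec.hom_inv_id).trans
        (Category.comp_id f))).trans (Category.id_comp f).symm) ((Category.comp_id _).trans (Category.id_comp _).symm)
      ((Category.comp_id _).trans (Iso.inv_hom_id_assoc S.isoSpec _).symm), ?_, inferInstance,
    P.pullback_snd _ _ (P.pullback_snd _ _ hP), ?_⟩
  · haveI : Algebra.FiniteType R (Algebra.adjoin R (j.unop : Set Γ(S, ⊤))) :=
      (Subalgebra.fg_iff_finiteType _).1 ⟨j.unop, rfl⟩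
    have h2 : Algebra.FiniteType ℤ (Algebra.adjoin R (j.unop : Set Γ(S, ⊤))) :=
      Algebra.FiniteType.trans (S := R) ‹_› ‹_›
    have h3 : Algebra.FiniteType ℤ (CommRingCat.of (Algebra.adjoin R (j.unop : Set Γ(S, ⊤)))) := h2
    exact Algebra.FiniteType.equiv h3
      (Scheme.ΓSpecIso (CommRingCat.of (Algebra.adjoin R (j.unop : Set Γ(S, ⊤))))).symm.commRingCatIsoToRingEquiv.toIntAlgEquiv
  · have hQ' := Q.pullback_snd _ (D.map φ) (Q.pullback_snd f₂ (p₂ i) hQ)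
    rw [← he] at hQ'
    exact (Q.cancel_left_of_respectsIso e.hom _).1 hQ'

open AlgebraicGeometry CategoryTheory Limits in
/-- Suppose P and Q are classes of morphisms of schemes preserved by arbitrary pullback, and f : X ⟶ S
is a finitely presented morphism of affine schemes. If f arises by pullback from a finite-type
morphism f₁ : X₁ ⟶ S₁ satisfying P, and also from a finite-type morphism f₂ : X₂ ⟶ S₂ satisfying Q,
where all four schemes are affine and Γ(S₁), Γ(S₂) are finitely generated ℤ-algebras, then f arises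
by pullback from a single finite-type morphism f₀ : X₀ ⟶ S₀ of affine schemes, with Γ(S₀) finitely
generated over ℤ, satisfying both P and Q. -/
theorem result (P Q : MorphismProperty Scheme.{u}) [P.IsStableUnderBaseChange] [Q.IsStableUnderBaseChange]
    {X S : Scheme.{u}} (f : X ⟶ S) [IsAffine X] [IsAffine S] [LocallyOfFinitePresentation f]
    {X₁ S₁ X₂ S₂ : Scheme.{u}} [IsAffine X₁] [IsAffine S₁] [IsAffine X₂] [IsAffine S₂]
    (f₁ : X₁ ⟶ S₁) (g₁ : S ⟶ S₁) (g₁' : X ⟶ X₁) (h₁ : IsPullback g₁' f f₁ g₁)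
    (f₂ : X₂ ⟶ S₂) (g₂ : S ⟶ S₂) (g₂' : X ⟶ X₂) (h₂ : IsPullback g₂' f f₂ g₂)
    (hS₁ : Algebra.FiniteType ℤ Γ(S₁, ⊤)) (hS₂ : Algebra.FiniteType ℤ Γ(S₂, ⊤))
    [LocallyOfFiniteType f₁] [LocallyOfFiniteType f₂] (hP : P f₁) (hQ : Q f₂) :
    ∃ (X₀ S₀ : Scheme.{u}) (f₀ : X₀ ⟶ S₀) (g : S ⟶ S₀) (g' : X ⟶ X₀), IsAffine X₀ ∧ IsAffine S₀ ∧ IsPullback g' f f₀ g ∧
      Algebra.FiniteType ℤ Γ(S₀, ⊤) ∧ LocallyOfFiniteType f₀ ∧ P f₀ ∧ Q f₀ := by
  classical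
  haveI := locallyOfFinitePresentation_of_finiteType f₁ hS₁
  haveI := locallyOfFinitePresentation_of_finiteType f₂ hS₂
  let R : Type u := TensorProduct ℤ Γ(S₁, ⊤) Γ(S₂, ⊤)
  let α : R →ₐ[ℤ] Γ(S, ⊤) := Algebra.TensorProduct.lift g₁.appTop.hom.toIntAlgHom
    g₂.appTop.hom.toIntAlgHom (fun _ _ => Commute.all _ _)
  letI : Algebra R Γ(S, ⊤) := α.toRingHom.toAlgebra
  have hR0 : Algebra.FiniteType ℤ R := Algebra.FiniteType.trans (S := Γ(S₁, ⊤)) hS₁ inferInstance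
  have : ∀ (a : Algebra ℤ R), @Algebra.FiniteType ℤ R _ _ a := fun a => by
    convert! hR0
    exact Subsingleton.elim _ _
  haveI := this (Ring.toIntAlgebra R)
  refine aux P Q f f₁ g₁ g₁' h₁ f₂ g₂ g₂' h₂ hP hQ R Algebra.TensorProduct.includeLeftRingHom
    (RingHom.ext fun x => by
      show α (x ⊗ₜ 1) = _
      exact (Algebra.TensorProduct.lift_tmul _ _ _ x 1).trans
        ((congrArg (fun b => g₁.appTop.hom x * b) (map_one g₂.appTop.hom)).trans (mul_one _)))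
    (Algebra.TensorProduct.includeRight (R := ℤ) (A := Γ(S₁, ⊤))).toRingHom
    (RingHom.ext fun x => by
      show α (1 ⊗ₜ x) = _
      exact (Algebra.TensorProduct.lift_tmul _ _ _ 1 x).trans
        ((congrArg (fun b => b * g₂.appTop.hom x) (map_one g₁.appTop.hom)).trans (one_mul _)))

end Groth.Agent.S9737
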