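import Groth.Statements.S9738
import Groth.Agent.FlatMor.FlatInfNbhd
import Groth.Agent.Thick.Unram
import Groth.Agent.EtStruct.Scheme

set_option autoImplicit false
universe u
open FlatMor

namespace Groth.Agent.S9738

open AlgebraicGeometry CategoryTheory Limits in
/-- For a morphism f : X ⟶ S between locally Noetherian schemes, an ideal sheaf I on S with closed
subscheme Z, and Z_n the closed subscheme cut out by I^(n+1): if each base change X ×_S Z_n ⟶ Z_n is
flat, then f is flat at each point of X lying over Z. -/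
theorem result {X S : Scheme.{u}} (f : X ⟶ S) [IsLocallyNoetherian X] [IsLocallyNoetherian S]
    (I : S.IdealSheafData) (h : ∀ n : ℕ, Flat (pullback.snd f (I ^ (n + 1)).subschemeι)) (x : X) (hx : f x ∈ I.support) :
    (f.stalkMap x).hom.Flat := by
  obtain ⟨W, hW, U, hU, hle, hxU⟩ := Groth.Agent.EtStruct.exists_chart f x
  rw [Groth.Agent.EtStruct.flat_stalkMap_iff f hW hU hle hxU]
  let := (f.appLE W U hle).hom.toAlgebra
  have : IsNoetherianRing Γ(S, W) := IsLocallyNoetherian.component_noetherian ⟨W, hW⟩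
  have : IsNoetherianRing Γ(X, U) := IsLocallyNoetherian.component_noetherian ⟨U, hU⟩
  refine Groth.Agent.FlatMor.FlatInfNbhd.flat_atPrime (I.ideal ⟨W, hW⟩) _ ?_ fun n => ?_
  · intro a ha
    have h1 : f x ∉ S.basicOpen a := by
      have := (I.mem_support_iff_of_mem (U := ⟨W, hW⟩) (show f x ∈ W from hle hxU)).mp hx
      rw [Scheme.zeroLocus_def, Set.mem_iInter₂] at this
      exact this a ha
    have h2 : hW.fromSpec (hW.primeIdealOf ⟨f x, hle hxU⟩) ∉ S.basicOpen a := by
      rw [hW.fromSpec_primeIdealOf]; exact h1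
    have h3 : a ∈ (hW.primeIdealOf ⟨f x, hle hxU⟩).asIdeal := by
      by_contra hc
      refine h2 ?_
      show hW.primeIdealOf ⟨f x, hle hxU⟩ ∈ hW.fromSpec ⁻¹ᵁ S.basicOpen a
      rw [hW.fromSpec_preimage_basicOpen]
      exact hc
    rw [← IsAffineOpen.comap_primeIdealOf_appLE W hW U hU hle hxU] at h3
    exact h3
  · let ι := (I ^ (n + 1)).subschemeι
    obtain ⟨h', hp⟩ := Groth.Agent.Thick.Unram.isPushout_appLE
      (IsPullback.of_hasPullback f ι) hW hU hle
    have hfl := HasRingHomProperty.appLE @Flat _ (h n) ⟨_, hW.preimage ι⟩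
      ⟨_, hU.preimage (pullback.fst f ι)⟩ h'
    let T := Γ((I ^ (n + 1)).subscheme, ι ⁻¹ᵁ W)
    let P := Γ(pullback f ι, (pullback.fst f ι) ⁻¹ᵁ U)
    let _ : Algebra Γ(S, W) T := (ι.app W).hom.toAlgebra
    let _ : Algebra Γ(X, U) P := ((pullback.fst f ι).app U).hom.toAlgebra
    let _ : Algebra T P := ((pullback.snd f ι).appLE (ι ⁻¹ᵁ W) ((pullback.fst f ι) ⁻¹ᵁ U) h').hom.toAlgebra
    let _ : Algebra Γ(S, W) P := ((algebraMap T P).comp (algebraMap Γ(S, W) T)).toAlgebra
    have : IsScalarTower Γ(S, W) T P := .of_algebraMap_eq fun _ => rfl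
    have : IsScalarTower Γ(S, W) Γ(X, U) P := .of_algebraMap_eq' (congrArg CommRingCat.Hom.hom hp.w).symm
    have : Algebra.IsPushout Γ(S, W) T Γ(X, U) P := CommRingCat.isPushout_iff_isPushout.mp hp.flip
    have : Module.Flat T P := hfl
    refine ⟨T, inferInstance, inferInstance, (I ^ (n + 1)).subschemeι_app_surjective ⟨W, hW⟩, ?_,
      Module.Flat.of_linearEquiv (Algebra.IsPushout.equiv Γ(S, W) T Γ(X, U) P).toLinearEquiv⟩
    exact ((I ^ (n + 1)).ker_subschemeι_app ⟨W, hW⟩).trans rfl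

end Groth.Agent.S9738
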