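import Groth.Statements.S9739
import Groth.Agent.FlatOpen.FibreGeneric

set_option autoImplicit false
universe u
open FlatMor

namespace Groth.Agent.S9739

open AlgebraicGeometry CategoryTheory Limits in
/-- Let f : X ⟶ S be flat and locally of finite presentation, and let x' ⤳ x be points of X. Assume the
closure of x in its fibre is one of that fibre's irreducible components. Then the fibre through x'
has the same local dimension at x' as the fibre through x has at x. -/
theorem result {X S : Scheme.{u}} (f : X ⟶ S) [Flat f] [LocallyOfFinitePresentation f]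
    (x x' : X) (hsp : x' ⤳ x) (hgen : ∃ Z ∈ irreducibleComponents ↥(f.fiber (f x)), IsGenericPoint (f.asFiber x) Z) :
    FlatMor.fibreDimAt f x' = FlatMor.fibreDimAt f x := by
  obtain ⟨Z, hZ, hgp⟩ := hgen
  have hcm : MoreMor.IsCMAt f x := FlatOpen.FibreGeneric.isCMAt_of_fibre_maximal f x fun y hy hfy => by
    obtain ⟨z, rfl⟩ := (f.range_fiberι (f x)).ge (show y ∈ f ⁻¹' {f x} from hfy)
    have hzz : z ⤳ f.asFiber x := (f.fiberι (f x)).isEmbedding.specializes_iff.1
      (by rw [f.fiberι_asFiber]; exact hy)
    rw [FlatOpen.FibreGeneric.eq_of_isGenericPoint_component hZ hgp hzz, f.fiberι_asFiber]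
  obtain ⟨n, hn⟩ := FlatOpen.CMLocus.exists_fibreDimAt_eq f x
  exact (hsp.mem_open (FlatOpen.CMLocus.isOpen_isCMAt_fibreDim f n) ⟨hcm, hn⟩).2.trans hn.symm

end Groth.Agent.S9739
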