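import Groth.Statements.S9740
import Groth.Agent.Omega.Thick

set_option autoImplicit false
universe u
open OmegaSh

namespace Groth.Agent.S9740

open AlgebraicGeometry CategoryTheory Limits in
/-- Let h : Z ⟶ X be formally unramified with universal first order thickening (i : Z ⟶ Z', h' : Z' ⟶
X), let V ⊆ Z and U ⊆ X be opens with h(V) ⊆ U, and let V' ⊆ Z' be the open with i⁻¹(V') = V (so
h'(V') ⊆ U). Then the restricted pair (V ⟶ V', V' ⟶ U) is a universal first-order thickening for the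
restriction V ⟶ U of h. The published statement also asserts that this restriction is formally
unramified and that the conormal sheaf of Z over X restricts on V to that of V over U; this row
states only the thickening part. -/
theorem result {Z Z' X : Scheme.{u}} (h : Z ⟶ X) [FormallyUnramified h] (i : Z ⟶ Z') (h' : Z' ⟶ X)
    (hu : OmegaSh.IsUnivThickening h i h') (V : Z.Opens) (U : X.Opens) (hVU : V ≤ h ⁻¹ᵁ U)
    (V' : Z'.Opens) (hV' : i ⁻¹ᵁ V' = V) (hV'U : V' ≤ h' ⁻¹ᵁ U) :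
    OmegaSh.IsUnivThickening (h.resLE U V hVU) (i.resLE V' V hV'.ge) (h'.resLE U V' hV'U) := by
  obtain ⟨hi, hih, huniv⟩ := hu
  subst hV'
  have hsq : IsPullback (i.resLE V' (i ⁻¹ᵁ V') le_rfl) (i ⁻¹ᵁ V').ι V'.ι i := by
    rw [Scheme.Hom.resLE_eq_morphismRestrict]
    exact isPullback_morphismRestrict i V'
  refine ⟨Groth.Agent.Omega.Thick.isFOT_of_isPullback hi hsq, ?_, fun T T' t b a ht hcomm => ?_⟩
  · rw [← cancel_mono U.ι]
    simp [hih]
  have w : t ≫ b ≫ U.ι = (a ≫ (i ⁻¹ᵁ V').ι) ≫ h := by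
    rw [← Category.assoc, hcomm, Category.assoc, Category.assoc, Scheme.Hom.resLE_comp_ι]
  obtain ⟨a', ⟨h₁, h₂⟩, hun⟩ := huniv T T' t (b ≫ U.ι) (a ≫ (i ⁻¹ᵁ V').ι) ht w
  have hr : Set.range a' ⊆ Set.range V'.ι := by
    rintro _ ⟨p, rfl⟩
    obtain ⟨q, rfl⟩ := ht.1.2.surj p
    rw [Scheme.Opens.range_ι, ← Scheme.Hom.comp_apply, h₁]
    exact (a q).2
  refine ⟨IsOpenImmersion.lift V'.ι a' hr, ⟨?_, ?_⟩, fun m hm => ?_⟩
  · rw [← cancel_mono V'.ι]
    simp [h₁]
  · rw [← cancel_mono U.ι]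
    simp [h₂]
  · obtain ⟨hm₁, hm₂⟩ := hm
    rw [← cancel_mono V'.ι, IsOpenImmersion.lift_fac]
    refine hun _ ⟨?_, ?_⟩
    · have := congr($hm₁ ≫ V'.ι)
      simpa using this
    · have := congr($hm₂ ≫ U.ι)
      simpa using this

end Groth.Agent.S9740
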