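import Groth.Statements.S9741
import Groth.Agent.Omega.Thick

set_option autoImplicit false
universe u
open OmegaSh

namespace Groth.Agent.S9741

open AlgebraicGeometry CategoryTheory Limits in
/-- Let a : Z ⟶ Y and b : Y ⟶ X be formally unramified, let (i : Z ⟶ Z', c : Z' ⟶ X) be universal among
first order thickenings of Z relative to X (for a ≫ b), and (j : Y ⟶ Y', d : Y' ⟶ X) likewise for Y
relative to X (for b). Then there is a morphism of thickenings m : Z' ⟶ Y' over X (i ≫ m = a ≫ j and
m ≫ d = c) such that Z ⟶ Y ×_{Y'} Z' (components a and i), together with the projection to Y, is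
universal among first order thickenings of Z relative to Y (for a). The published statement also
asserts an exact sequence of conormal sheaves; this row states only the thickening assertion. -/
theorem result {Z Y X Z' Y' : Scheme.{u}} (a : Z ⟶ Y) (b : Y ⟶ X)
    [FormallyUnramified a] [FormallyUnramified b] (i : Z ⟶ Z') (c : Z' ⟶ X) (hZ : OmegaSh.IsUnivThickening (a ≫ b) i c)
    (j : Y ⟶ Y') (d : Y' ⟶ X) (hY : OmegaSh.IsUnivThickening b j d) :
    ∃ (m : Z' ⟶ Y') (hm : i ≫ m = a ≫ j), m ≫ d = c ∧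
      OmegaSh.IsUnivThickening a (pullback.lift a i hm.symm) (pullback.fst j m) := by
  obtain ⟨hi, hic, huZ⟩ := hZ
  obtain ⟨hj, hjd, huY⟩ := hY
  obtain ⟨m, ⟨hm, hmd⟩, -⟩ := huY Z Z' i c a hi hic
  refine ⟨m, hm, hmd, ?_⟩
  let s := pullback.snd j m
  have : IsClosedImmersion j := hj.1.1
  have hsq : IsPullback (pullback.lift a i hm.symm) (𝟙 Z) s i :=
    ⟨⟨by simp [s, pullback.lift_snd]⟩, ⟨PullbackCone.IsLimit.mk _ (fun c => c.snd)
      (fun c => by
        rw [← cancel_mono s]
        simp [s, pullback.lift_snd, c.condition])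
      (fun c => Category.comp_id _)
      (fun c m' _ h₂ => by simpa using h₂)⟩⟩
  refine ⟨Groth.Agent.Omega.Thick.isFOT_of_isPullback hi hsq, pullback.lift_fst _ _ _,
    fun T T' t y z ht hcomm => ?_⟩
  have w : t ≫ y ≫ b = z ≫ a ≫ b := by
    rw [← Category.assoc, hcomm, Category.assoc]
  obtain ⟨z', ⟨h₁, h₂⟩, hun⟩ := huZ T T' t (y ≫ b) z ht w
  obtain ⟨q, -, hunY⟩ := huY T T' t (y ≫ b) (z ≫ a) ht (by rw [Category.assoc]; exact w)
  have key : y ≫ j = z' ≫ m := (hunY _ ⟨by rw [← Category.assoc, hcomm], by rw [Category.assoc, hjd]⟩).trans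
    (hunY _ ⟨by rw [← Category.assoc, h₁, Category.assoc, hm, Category.assoc],
      by rw [Category.assoc, hmd, h₂]⟩).symm
  refine ⟨pullback.lift y z' key, ⟨?_, pullback.lift_fst _ _ _⟩, fun n hn => ?_⟩
  · ext
    · simp [pullback.lift_fst, pullback.lift_snd, pullback.lift_fst_assoc, pullback.lift_snd_assoc, hcomm]
    · simp [pullback.lift_fst, pullback.lift_snd, pullback.lift_fst_assoc, pullback.lift_snd_assoc, h₁]
  · obtain ⟨hn₁, hn₂⟩ := hn
    ext
    · simp [pullback.lift_fst, hn₂]
    · rw [pullback.lift_snd]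
      refine hun _ ⟨?_, ?_⟩
      · rw [← Category.assoc, hn₁]
        simp [pullback.lift_fst, pullback.lift_snd, pullback.lift_fst_assoc, pullback.lift_snd_assoc]
      · rw [Category.assoc, ← hmd, ← pullback.condition_assoc, hjd, ← Category.assoc, hn₂]

end Groth.Agent.S9741
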