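import Groth.Statements.S9743
import Groth.Agent.RelFP.Modules
-- import your own Groth.Agent.* helpers here

set_option autoImplicit false
universe u
open Flatn

namespace Groth.Agent.S9743

open AlgebraicGeometry CategoryTheory Limits in
/-- Suppose π : X ⟶ Y is finite, g : Y ⟶ S is locally of finite type, and F is a quasi-coherent
O_X-module. Then F is relatively finitely presented over S via π ≫ g exactly when the direct image
π_*F is relatively finitely presented over S via g. -/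
theorem result {X Y S : Scheme.{u}} (π : X ⟶ Y) (g : Y ⟶ S) [IsFinite π] [LocallyOfFiniteType g]
    (F : X.Modules) [Coh.IsQCoh F] : Flatn.IsRelFP (π ≫ g) F ↔ Flatn.IsRelFP g ((Coh.push π).obj F) := by
  constructor
  · intro hF
    refine ⟨Set.univ, ?_, fun W _ => ⟨{V | (V : Y.Opens) ≤ g ⁻¹ᵁ (W : S.Opens)}, ?_,
      fun V _ h => ?_⟩⟩
    · refine top_le_iff.mp fun y _ => ?_
      obtain ⟨_, ⟨W, hW, rfl⟩, hy, -⟩ := S.isBasis_affineOpens.exists_subset_of_mem_open
        (Set.mem_univ y) isOpen_univ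
      exact TopologicalSpace.Opens.mem_iSup.mpr
        ⟨⟨W, hW⟩, TopologicalSpace.Opens.mem_iSup.mpr ⟨trivial, hy⟩⟩
    · refine le_antisymm (iSup₂_le fun V hV => hV) fun y hy => ?_
      obtain ⟨_, ⟨V, hV, rfl⟩, hyV, hle⟩ := Y.isBasis_affineOpens.exists_subset_of_mem_open
        hy (g ⁻¹ᵁ (W : S.Opens)).2
      exact TopologicalSpace.Opens.mem_iSup.mpr
        ⟨⟨V, hV⟩, TopologicalSpace.Opens.mem_iSup.mpr ⟨hle, hyV⟩⟩
    · exact (Groth.Agent.RelFP.rp_push (π := π) V.2 W.2 h).1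
        (Groth.Agent.RelFP.rp_of_isRelFP (π ≫ g) F hF (V.2.preimage π) W.2 (π.preimage_mono h))
  · intro hF
    refine Groth.Agent.RelFP.isRelFP_of_goodAt _ _ fun x => ?_
    obtain ⟨V, W, h, hV, hW, hxV, hr⟩ := Groth.Agent.RelFP.goodAt_of_isRelFP g _ hF (π x)
    exact ⟨π ⁻¹ᵁ V, W, _, hV.preimage π, hW, hxV, (Groth.Agent.RelFP.rp_push hV hW h).2 hr⟩

end Groth.Agent.S9743
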