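import Groth.Statements.S9744
import Groth.Agent.RelFP.Modules
-- import your own Groth.Agent.* helpers here

set_option autoImplicit false
universe u
open Flatn

namespace Groth.Agent.S9744

open AlgebraicGeometry CategoryTheory Limits in
/-- Let f : X ⟶ S be locally of finite type and F a quasi-coherent O_X-module of finite presentation
relative to S. For a base change f' : X' ⟶ S' of f along S' ⟶ S with projection g' : X' ⟶ X, the
pullback (g')^*F is of finite presentation relative to S'. -/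
theorem result {X S X' S' : Scheme.{u}} (f : X ⟶ S) [LocallyOfFiniteType f] (F : X.Modules) [Coh.IsQCoh F]
    (g : S' ⟶ S) (f' : X' ⟶ S') (g' : X' ⟶ X) (hc : IsPullback g' f' f g) (hF : Flatn.IsRelFP f F) :
    Flatn.IsRelFP f' ((Scheme.Modules.pullback g').obj F) := by
  haveI : LocallyOfFiniteType f' := MorphismProperty.of_isPullback hc ‹_›
  refine Groth.Agent.RelFP.isRelFP_of_goodAt _ _ fun x => ?_
  obtain ⟨U, V, h, hU, hV, hxU, hr⟩ := Groth.Agent.RelFP.goodAt_of_isRelFP f F hF (g' x)
  have hgx : g (f' x) ∈ V := by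
    rw [show g (f' x) = f (g' x) by rw [← Scheme.Hom.comp_apply, ← Scheme.Hom.comp_apply, hc.w]]
    exact h hxU
  obtain ⟨_, ⟨V', hV', rfl⟩, hxV', hle⟩ := S'.isBasis_affineOpens.exists_subset_of_mem_open
    (show f' x ∈ g ⁻¹ᵁ V from hgx) (g ⁻¹ᵁ V).2
  obtain ⟨hW, hr'⟩ := Groth.Agent.RelFP.rp_baseChange hc hU hV hV' hle hr
  exact ⟨_, V', inf_le_right, hW, hV', ⟨hxU, hxV'⟩, hr'⟩

end Groth.Agent.S9744
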