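import Groth.Statements.S9745
import Groth.Agent.RelFP.Modules
-- import your own Groth.Agent.* helpers here

set_option autoImplicit false
universe u
open Flatn

namespace Groth.Agent.S9745

open AlgebraicGeometry CategoryTheory Limits in
/-- Let f : X ⟶ Y be locally of finite presentation and g : Y ⟶ S locally of finite type, and let G be a
quasi-coherent O_Y-module that is finitely presented relative to S. Then the pullback f^*G is
finitely presented relative to S along f ≫ g. -/
theorem result {X Y S : Scheme.{u}} (f : X ⟶ Y) (g : Y ⟶ S) [LocallyOfFinitePresentation f] [LocallyOfFiniteType g]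
    (G : Y.Modules) [Coh.IsQCoh G] (hG : Flatn.IsRelFP g G) : Flatn.IsRelFP (f ≫ g) ((Scheme.Modules.pullback f).obj G) := by
  refine Groth.Agent.RelFP.isRelFP_of_goodAt _ _ fun x => ?_
  obtain ⟨V, W, hV, hW, hx, h'⟩ := Groth.Agent.RelFP.exists_affine_pair g (f x)
  obtain ⟨_, ⟨U, hU, rfl⟩, hxU, hle⟩ := X.isBasis_affineOpens.exists_subset_of_mem_open
    (show x ∈ f ⁻¹ᵁ V from hx) (f ⁻¹ᵁ V).2
  exact ⟨U, W, _, hU, hW, hxU, Groth.Agent.RelFP.rp_pullback hU hV hle
    (Groth.Agent.RelFP.rp_of_isRelFP g G hG hV hW h')⟩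

end Groth.Agent.S9745
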