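import Groth.Statements.S9750
import Groth.Agent.FlatMor.ConormalZero
import Groth.Agent.InfLift.Etale
import Groth.Agent.S1516

set_option autoImplicit false
universe u
open FlatMor

namespace Groth.Agent.S9750

open AlgebraicGeometry CategoryTheory Limits in
theorem fu_of_fe {X S : Scheme.{u}} (f : X ⟶ S) (hf : MoreMor.IsFormallyEtaleHom f) : FormallyUnramified f := by
  rw [HasRingHomProperty.iff_appLE (P := @FormallyUnramified)]
  intro V U e
  have := Groth.Agent.InfLift.Etale.formallyEtale_appLE_of_isFormallyEtaleHom hf U.1 V.1 U.2 V.2 e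
  let _ := (f.appLE V.1 U.1 e).hom.toAlgebra
  exact RingHom.formallyUnramified_algebraMap.mpr inferInstance

open AlgebraicGeometry CategoryTheory Limits in
theorem univ_of_fe {X S : Scheme.{u}} (f : X ⟶ S) (hf : MoreMor.IsFormallyEtaleHom f) :
    OmegaSh.IsUnivThickening f (𝟙 X) f := by
  refine ⟨⟨⟨inferInstance, inferInstance⟩, ?_⟩, Category.id_comp f, fun T T' j b a hj w => ?_⟩
  · rw [Scheme.Hom.ker_eq_bot_of_isIso]
    ext U : 2
    simp
  · simpa using Groth.Agent.S1516.result f hf j hj a b w

open AlgebraicGeometry CategoryTheory Limits in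
theorem fe_of_univ {X S : Scheme.{u}} (f : X ⟶ S) (hu : OmegaSh.IsUnivThickening f (𝟙 X) f) :
    MoreMor.IsFormallyEtaleHom f := by
  intro A _ I hI a b w
  have hj := Groth.Agent.Omega.Thick.isFOT_spec (CommRingCat.ofHom (Ideal.Quotient.mk I))
    Ideal.Quotient.mk_surjective (by rw [CommRingCat.hom_ofHom, Ideal.mk_ker]; exact hI)
  simpa using hu.2.2 _ _ _ b a hj w

open AlgebraicGeometry CategoryTheory Limits in
/-- (1) ⇔ (2) ⇔ (3): a morphism f : X ⟶ S is formally étale (unique infinitesimal lifting against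
square-zero thickenings of affine schemes) if and only if f is formally unramified and X, through
the identity and f, is its own universal square-zero (first order) thickening relative to f; and,
for f formally unramified with universal first order thickening data (i : X ⟶ X', h' : X' ⟶ S), f is
formally étale if and only if the conormal sheaf of i (the conormal sheaf of f) is zero. The
published statement also lists a fourth equivalent condition, the vanishing of both the sheaf of
differentials and the conormal sheaf; this row omits it. -/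
theorem result {X S : Scheme.{u}} (f : X ⟶ S) :
    (MoreMor.IsFormallyEtaleHom f ↔ FormallyUnramified f ∧ OmegaSh.IsUnivThickening f (𝟙 X) f) ∧
    (∀ {X' : Scheme.{u}} (i : X ⟶ X') (h' : X' ⟶ S) [QuasiCompact i], FormallyUnramified f →
      OmegaSh.IsUnivThickening f i h' → (MoreMor.IsFormallyEtaleHom f ↔ IsZero (Omega.conormal i))) := by
  refine ⟨⟨fun hf => ⟨fu_of_fe f hf, univ_of_fe f hf⟩, fun h => fe_of_univ f h.2⟩, ?_⟩
  intro X' i h' _ _ hu
  obtain ⟨⟨⟨hcl, hsurj⟩, hsq⟩, hi, huniv⟩ := hu
  constructor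
  · intro hf
    have hiso : IsIso i := by
      obtain ⟨l, ⟨hl1, hl2⟩, -⟩ := Groth.Agent.S1516.result f hf i ⟨⟨hcl, hsurj⟩, hsq⟩ (𝟙 X) h'
        (by rw [Category.id_comp, hi])
      obtain ⟨a', ha', hau⟩ := huniv X X' i h' (𝟙 X) ⟨⟨hcl, hsurj⟩, hsq⟩ (by rw [Category.id_comp, hi])
      have h1 : 𝟙 X' = a' := hau _ ⟨by simp, by simp⟩
      have h2 : l ≫ i = a' := hau _ ⟨by simp [reassoc_of% hl1], by rw [Category.assoc, hi, hl2]⟩
      exact ⟨l, hl1, h2.trans h1.symm⟩
    exact Groth.Agent.FlatMor.ConormalZero.isZero_conormal i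
  · intro h0
    have hiso := Groth.Agent.FlatMor.ConormalZero.isIso_of_isZero i hsq h0
    refine fe_of_univ f ⟨⟨⟨inferInstance, inferInstance⟩, ?_⟩, Category.id_comp f, fun T T' j b a hj w => ?_⟩
    · rw [Scheme.Hom.ker_eq_bot_of_isIso]
      ext U : 2
      simp
    · obtain ⟨a', ⟨ha1, ha2⟩, hau⟩ := huniv T T' j b a hj w
      refine ⟨a' ≫ inv i, ⟨by rw [reassoc_of% ha1, IsIso.hom_inv_id], ?_⟩, fun m hm => ?_⟩
      · rw [Category.assoc, show inv i ≫ f = h' from (IsIso.inv_comp_eq i).mpr hi.symm, ha2]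
      · rw [IsIso.eq_comp_inv]
        refine hau _ ⟨?_, ?_⟩
        · rw [← Category.assoc, hm.1, Category.comp_id]
        · rw [Category.assoc, hi, hm.2]

end Groth.Agent.S9750
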