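import Groth.Statements.S9756
import Groth.Agent.FlatOpen.SliceScheme
import Groth.Agent.FlatMor.FibreStalk
import Groth.Agent.Depth.Basic

set_option autoImplicit false
universe u
open FlatMor

namespace Groth.Agent.S9756

open AlgebraicGeometry CategoryTheory Limits in
/-- Let f : X ⟶ S be locally of finite presentation and flat at a point x, and assume the local ring of
the fibre X_{f x} at x has depth at least 1. Then there are an affine open U ∋ x and a
nonzerodivisor h' of Γ(X, U) vanishing at x such that the closed subscheme V(h') of U, an effective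
Cartier divisor through x, is flat and locally of finite presentation over S. The published
statement concludes that V(h') ⟶ S is of finite presentation; this row concludes only that it is
flat and locally of finite presentation, which is what the published argument (slicing by a lift of
a fibrewise nonzerodivisor) yields, and which is equivalent when S is quasi-separated, V(h') being
affine. -/
theorem result {X S : Scheme.{u}} (f : X ⟶ S) [LocallyOfFinitePresentation f] (x : X)
    (hflat : (f.stalkMap x).hom.Flat)
    (hdepth : 1 ≤ LocCoh.depth ↑((f.fiber (f x)).presheaf.stalk (f.asFiber x)) ↑((f.fiber (f x)).presheaf.stalk (f.asFiber x))) :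
    ∃ (U : X.Opens) (hU : IsAffineOpen U) (hx : x ∈ U) (h' : Γ(X, U)), h' ∈ nonZeroDivisors Γ(X, U) ∧
      X.presheaf.germ U x hx h' ∈ IsLocalRing.maximalIdeal ↑(X.presheaf.stalk x) ∧
      Flat (Spec.map (CommRingCat.ofHom (Ideal.Quotient.mk (Ideal.span {h'}))) ≫ hU.fromSpec ≫ f) ∧
      LocallyOfFinitePresentation (Spec.map (CommRingCat.ofHom (Ideal.Quotient.mk (Ideal.span {h'}))) ≫ hU.fromSpec ≫ f) := by
  obtain ⟨φ, hφ, hker⟩ := Groth.Agent.FlatMor.FibreStalk.exists_fibre_stalk f x
  let A := (f.fiber (f x)).presheaf.stalk (f.asFiber x)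
  obtain ⟨rs, hrs, hmem, hlen⟩ := Groth.Agent.Depth.exists_isWeaklyRegular_of_le_idealDepth
    (M := A) (Groth.Agent.Depth.smul_top_ne_top_of_le_maximalIdeal le_rfl) (n := 1)
    (by rw [Nat.cast_one]; exact hdepth)
  obtain ⟨r, rfl⟩ := List.length_eq_one_iff.1 hlen
  obtain ⟨h, rfl⟩ := hφ r
  obtain ⟨hr, -⟩ := (RingTheory.Sequence.isWeaklyRegular_cons_iff A _ _).1 hrs
  have hm : h ∈ IsLocalRing.maximalIdeal (X.presheaf.stalk x) := by
    intro hu
    exact hmem (φ h) (List.mem_singleton_self _) (hu.map φ)
  obtain ⟨U, hU, hx, h', hh', hnzd, hfl, hfp⟩ :=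
    Groth.Agent.FlatOpen.Scheme.exists_slice f x hflat h fun m hmem' => by
      rw [← hker, RingHom.mem_ker, map_mul] at hmem'
      rw [← hker, RingHom.mem_ker]
      exact hr (show φ h • φ m = φ h • 0 by rw [smul_zero]; exact hmem')
  exact ⟨U, hU, hx, h', hnzd, hh' ▸ hm, hfl, hfp⟩

end Groth.Agent.S9756
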