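import Groth.Statements.S9757
import Groth.Agent.FlatOpen.FibreGeneric

set_option autoImplicit false
universe u
open FlatMor

namespace Groth.Agent.S9757

open AlgebraicGeometry CategoryTheory Limits in
/-- Suppose the morphism f : X ⟶ S is flat and locally of finite presentation. Then X contains open
subsets U_d, indexed by d ∈ ℕ, such that for every s ∈ S the union of all U_d intersects the fibre
X_s in a dense subset of X_s, and each U_d ⟶ S is of relative dimension d. Because U_d is open in X,
this is the same as requiring that at every point x of U_d the fibre of f containing x has local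
dimension d at x; that pointwise form is the one this row uses. -/
theorem result {X S : Scheme.{u}} (f : X ⟶ S) [Flat f] [LocallyOfFinitePresentation f] :
    ∃ U : ℕ → X.Opens, (∀ s : S, Dense ((f.fiberι s) ⁻¹' ((⨆ d, U d : X.Opens) : Set ↑X))) ∧
      ∀ (d : ℕ) (x : ↑X), x ∈ U d → FlatMor.fibreDimAt f x = d := by
  refine ⟨fun d => ⟨_, FlatOpen.CMLocus.isOpen_isCMAt_fibreDim f d⟩, fun s => ?_, fun d x hx => hx.2⟩
  intro z
  have hgp : IsGenericPoint (isIrreducible_irreducibleComponent (x := z)).genericPoint
      (irreducibleComponent z) := by
    simpa [isClosed_irreducibleComponent.closure_eq] using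
      (isIrreducible_irreducibleComponent (x := z)).isGenericPoint_genericPoint_closure
  set η := (isIrreducible_irreducibleComponent (x := z)).genericPoint
  have hz : η ⤳ z := hgp.specializes mem_irreducibleComponent
  refine closure_mono (Set.singleton_subset_iff.2 ?_) hz.mem_closure
  have hfη : f (f.fiberι s η) = s :=
    (f.range_fiberι s).le (Set.mem_range_self η)
  have hcm : MoreMor.IsCMAt f (f.fiberι s η) :=
    FlatOpen.FibreGeneric.isCMAt_of_fibre_maximal f _ fun y hy hfy => by
      obtain ⟨w, rfl⟩ := (f.range_fiberι s).ge (show y ∈ f ⁻¹' {s} from hfy.trans hfη)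
      rw [FlatOpen.FibreGeneric.eq_of_isGenericPoint_component
        (irreducibleComponent_mem_irreducibleComponents z) hgp
        ((f.fiberι s).isEmbedding.specializes_iff.1 hy)]
  obtain ⟨n, hn⟩ := FlatOpen.CMLocus.exists_fibreDimAt_eq f (f.fiberι s η)
  exact TopologicalSpace.Opens.mem_iSup.2 ⟨n, hcm, hn⟩

end Groth.Agent.S9757
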