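import Groth.Statements.S9758
import Groth.Agent.FlatMor.LCIChart
import Groth.Agent.Synt44.Mor
import Groth.Agent.Synt44.FlatLCI

set_option autoImplicit false
universe u
open FlatMor

namespace Groth.Agent.S9758

open AlgebraicGeometry CategoryTheory Limits in
/-- A morphism of schemes f : X ⟶ S is flat and a local complete intersection morphism (Koszul at every
point) if and only if it is syntomic. -/
theorem result {X S : Scheme.{u}} (f : X ⟶ S) :
    (Flat f ∧ ∀ x : X, Synt.IsKoszulAt f x) ↔ Synt.IsSyntomicMor f := by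
  rw [Groth.Agent.Synt44.isSyntomicMor_iff_appLE f]
  constructor
  · rintro ⟨hfl, hk⟩ V U e
    letI := (f.appLE V.1 U.1 e).hom.toAlgebra
    exact (Groth.Agent.Synt44.isSyntomic_iff_flat_and_isLCI (R := Γ(S, V.1)) (S := Γ(X, U.1))).2
      ⟨HasRingHomProperty.appLE @Flat f hfl V U e,
        FlatMor.LCIChart.isLCI_of_isKoszulAt f hk U.1 V.1 U.2 V.2 e⟩
  · intro h
    refine ⟨(HasRingHomProperty.iff_appLE (P := @Flat)).2 fun {V U} e => (h V U e).1, ?_⟩
    refine FlatMor.LCIChart.forall_isKoszulAt_of_charts f fun U V hU hV e => ?_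
    letI := (f.appLE V U e).hom.toAlgebra
    exact ((Groth.Agent.Synt44.isSyntomic_iff_flat_and_isLCI (R := Γ(S, V)) (S := Γ(X, U))).1
      (h ⟨V, hV⟩ ⟨U, hU⟩ e)).2

end Groth.Agent.S9758
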