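import Groth.Statements.S9759
import Groth.Agent.FlatDescends.Basic
-- import your own Groth.Agent.* helpers here

set_option autoImplicit false
universe u
open FlatMor

namespace Groth.Agent.S9759

open AlgebraicGeometry CategoryTheory Limits in
/-- Let f : X ⟶ S be a flat morphism of finite presentation between affine schemes. Then f is the base
change of a morphism of finite type f₀ : X₀ ⟶ S₀ between affine schemes with S₀ of finite type over
ℤ and f₀ flat. -/
theorem result {X S : Scheme.{u}} (f : X ⟶ S) [IsAffine X] [IsAffine S] [LocallyOfFinitePresentation f] [Flat f] :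
    ∃ (X₀ S₀ : Scheme.{u}) (f₀ : X₀ ⟶ S₀) (g : S ⟶ S₀) (g' : X ⟶ X₀), IsAffine X₀ ∧ IsAffine S₀ ∧ IsPullback g' f f₀ g ∧
      Algebra.FiniteType ℤ Γ(S₀, ⊤) ∧ LocallyOfFiniteType f₀ ∧ Flat f₀ := by
  classical
  obtain ⟨T, T₁, h, b, m, hT, hT₁, hfl, hlfp, hlfpT, hsq⟩ := Groth.Agent.FlatDescends.exists_flat_model_scheme f
  refine ⟨T₁, T, h, b, m, hT₁, hT, hsq, ?_, inferInstance, hfl⟩
  have h1 : (specULiftZIsTerminal.from T).appTop.hom.FinitePresentation :=
    HasRingHomProperty.appTop (P := @LocallyOfFinitePresentation) _ hlfpT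
  let φ : ℤ →+* Γ(Spec (CommRingCat.of (ULift.{u} ℤ)), ⊤) :=
    (Scheme.ΓSpecIso (CommRingCat.of (ULift.{u} ℤ))).inv.hom.comp (ULift.ringEquiv : ULift.{u} ℤ ≃+* ℤ).symm.toRingHom
  have hφ : φ.FiniteType := RingHom.FiniteType.of_surjective _
    (((Scheme.ΓSpecIso (CommRingCat.of (ULift.{u} ℤ))).symm.commRingCatIsoToRingEquiv.surjective).comp
      (ULift.ringEquiv : ULift.{u} ℤ ≃+* ℤ).symm.surjective)
  have h2 := (RingHom.FiniteType.of_finitePresentation h1).comp hφ
  rw [RingHom.ext_int ((specULiftZIsTerminal.from T).appTop.hom.comp φ) (algebraMap ℤ Γ(T, ⊤))] at h2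
  exact RingHom.finiteType_algebraMap.mp h2

end Groth.Agent.S9759
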