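import Groth.Statements.S9760
import Groth.Agent.FlatMor.PullTilde
import Groth.Agent.FlatMor.ModelSquare
import Groth.Agent.Props.QFP
-- import your own Groth.Agent.* helpers here

set_option autoImplicit false
universe u
open FlatMor

namespace Groth.Agent.S9760

open scoped TensorProduct

open AlgebraicGeometry CategoryTheory Limits in
/-- Given affine schemes X and S, a finitely presented morphism f : X ⟶ S, and a finitely presented
quasi-coherent O_X-module F, the morphism f is a pullback, along some g' : X ⟶ X₀, of a finite type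
morphism f₀ : X₀ ⟶ S₀ of affine schemes with Γ(S₀) of finite type over ℤ, and there is a coherent
O_{X₀}-module F₀ whose pullback along g' is isomorphic to F. -/
theorem result {X S : Scheme.{u}} (f : X ⟶ S) [IsAffine X] [IsAffine S] [LocallyOfFinitePresentation f]
    (F : X.Modules) [Coh.IsQCoh F] (hF : CohB1.IsFP F) :
    ∃ (X₀ S₀ : Scheme.{u}) (f₀ : X₀ ⟶ S₀) (g : S ⟶ S₀) (g' : X ⟶ X₀), IsAffine X₀ ∧ IsAffine S₀ ∧ IsPullback g' f f₀ g ∧
      Algebra.FiniteType ℤ Γ(S₀, ⊤) ∧ LocallyOfFiniteType f₀ ∧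
      ∃ F₀ : X₀.Modules, Coh.IsCoh F₀ ∧ Nonempty ((Scheme.Modules.pullback g').obj F₀ ≅ F) := by
  classical
  let A := Γ(S, ⊤)
  let B := Γ(X, ⊤)
  let := f.appTop.hom.toAlgebra
  have : Algebra.FinitePresentation A B :=
    (HasRingHomProperty.iff_of_isAffine (P := @LocallyOfFinitePresentation)).mp ‹_›
  let P := Algebra.Presentation.ofFinitePresentation A B
  have : SheafOfModules.IsFinitePresentation.{u} F := hF
  have : Module.FinitePresentation B Γ(F, ⊤) :=
    Groth.Agent.Props.QFP.finitePresentation_sections_of_isFP F (isAffineOpen_top X)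
  obtain ⟨n, p, hp⟩ := Module.Finite.exists_fin' B Γ(F, ⊤)
  obtain ⟨m, a, ha⟩ := Submodule.fg_iff_exists_fin_generating_family.mp
    (Module.FinitePresentation.fg_ker p hp)
  let q : Fin m → Fin n → MvPolynomial _ A := fun k j => P.σ (a k j)
  let T : Set A := P.coeffs ∪ ⋃ (k : Fin m) (j : Fin n), ((q k j).coeffs : Set A)
  have hT : T.Finite := P.finite_coeffs.union
    (Set.finite_iUnion fun k => Set.finite_iUnion fun j => Finset.finite_toSet _)
  let A₀ := Algebra.adjoin ℤ T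
  have hrange : ∀ t ∈ T, t ∈ Set.range (algebraMap A₀ A) :=
    fun t ht => ⟨⟨t, Algebra.subset_adjoin ht⟩, rfl⟩
  have : P.HasCoeffs A₀ := ⟨fun t ht => hrange t (Or.inl ht)⟩
  let B₀ := P.ModelOfHasCoeffs A₀
  let e := P.tensorModelOfHasCoeffsEquiv A₀
  let φ : B₀ →+* B := Groth.Agent.FlatMor.ModelSquare.modelMap e
  have hq : ∀ k j, ∃ b : B₀, φ b = a k j := by
    intro k j
    obtain ⟨q₀, hq₀⟩ : q k j ∈ Set.range (MvPolynomial.map (algebraMap A₀ A)) := by
      rw [MvPolynomial.mem_range_map_iff_coeffs_subset]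
      exact fun t ht => hrange t (Or.inr (Set.mem_iUnion.mpr ⟨k, Set.mem_iUnion.mpr ⟨j, ht⟩⟩))
    refine ⟨Ideal.Quotient.mk _ q₀, ?_⟩
    show P.tensorModelOfHasCoeffsEquiv A₀ (1 ⊗ₜ Ideal.Quotient.mk _ q₀) = a k j
    rw [Algebra.Presentation.tensorModelOfHasCoeffsEquiv_tmul, map_one, one_mul,
      ← MvPolynomial.aeval_map_algebraMap A, hq₀]
    exact P.aeval_val_σ (a k j)
  choose a₀ ha₀ using hq
  let K₀ : Submodule B₀ (Fin n → B₀) := Submodule.span B₀ (Set.range a₀)
  let M₀ : ModuleCat.{u} (CommRingCat.of B₀) := ModuleCat.of B₀ ((Fin n → B₀) ⧸ K₀)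
  let : Algebra B₀ B := φ.toAlgebra
  let : Module B₀ Γ(F, ⊤) := Module.compHom _ φ
  have : IsScalarTower B₀ B Γ(F, ⊤) := IsScalarTower.of_algebraMap_smul fun _ _ => rfl
  let s : Fin n → Γ(F, ⊤) := fun j => p (Pi.single j 1)
  have hps : ∀ v : Fin n → B, p v = ∑ j, v j • s j := fun v => by
    conv_lhs => rw [pi_eq_sum_univ' v]
    rw [map_sum]
    simp only [map_smul]
    rfl
  let p₀ : (Fin n → B₀) →ₗ[B₀] Γ(F, ⊤) := Fintype.linearCombination B₀ s
  have hp₀ : ∀ v : Fin n → B₀, p₀ v = p (fun j => φ (v j)) := fun v => by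
    rw [hps]
    exact Fintype.linearCombination_apply B₀ s v
  have hK₀ : K₀ ≤ LinearMap.ker p₀ := by
    rw [Submodule.span_le]
    rintro _ ⟨k, rfl⟩
    rw [SetLike.mem_coe, LinearMap.mem_ker, hp₀, funext (ha₀ k)]
    exact LinearMap.mem_ker.mp (ha ▸ Submodule.subset_span ⟨k, rfl⟩)
  let L : B ⊗[B₀] ((Fin n → B₀) ⧸ K₀) →ₗ[B] Γ(F, ⊤) := (K₀.liftQ p₀ hK₀).liftBaseChange B
  let w : Fin n → B ⊗[B₀] ((Fin n → B₀) ⧸ K₀) := fun j => 1 ⊗ₜ K₀.mkQ (Pi.single j 1)
  let G : (Fin n → B) →ₗ[B] B ⊗[B₀] ((Fin n → B₀) ⧸ K₀) := Fintype.linearCombination B w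
  have hG₀ : ∀ v : Fin n → B₀, G (fun j => φ (v j)) = 1 ⊗ₜ K₀.mkQ v := fun v => by
    conv_rhs => rw [pi_eq_sum_univ' v, map_sum, TensorProduct.tmul_sum]
    rw [Fintype.linearCombination_apply]
    refine Finset.sum_congr rfl fun j _ => ?_
    rw [map_smul]
    exact (algebraMap_smul B (v j) (w j)).trans (TensorProduct.tmul_smul (v j) (1 : B) _).symm
  have hkerG : LinearMap.ker p ≤ LinearMap.ker G := by
    rw [← ha, Submodule.span_le]
    rintro _ ⟨k, rfl⟩
    rw [SetLike.mem_coe, LinearMap.mem_ker, ← funext (ha₀ k), hG₀,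
      show K₀.mkQ (a₀ k) = 0 from (Submodule.Quotient.mk_eq_zero _).mpr (Submodule.subset_span ⟨k, rfl⟩),
      TensorProduct.tmul_zero]
  have hLG : ∀ v, L (G v) = p v := fun v => by
    rw [Fintype.linearCombination_apply, map_sum, hps]
    refine Finset.sum_congr rfl fun j _ => ?_
    rw [map_smul, LinearMap.liftBaseChange_tmul, one_smul]
    show v j • p₀ (Pi.single j 1) = _
    rw [Fintype.linearCombination_apply_single, one_smul]
  have hGsurj : Function.Surjective G := fun z => by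
    induction z using TensorProduct.induction_on with
    | zero => exact ⟨0, map_zero _⟩
    | tmul b y =>
      obtain ⟨v, rfl⟩ := K₀.mkQ_surjective y
      refine ⟨b • fun j => φ (v j), ?_⟩
      rw [map_smul, hG₀, TensorProduct.smul_tmul', smul_eq_mul, mul_one]
    | add z z' hz hz' =>
      obtain ⟨v, rfl⟩ := hz
      obtain ⟨v', rfl⟩ := hz'
      exact ⟨v + v', map_add _ _ _⟩
  have hL : Function.Bijective L := by
    refine ⟨(injective_iff_map_eq_zero L).mpr fun z hz => ?_, fun y => ?_⟩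
    · obtain ⟨v, rfl⟩ := hGsurj z
      exact hkerG (by rwa [LinearMap.mem_ker, ← hLG])
    · obtain ⟨v, rfl⟩ := hp y
      exact ⟨G v, hLG v⟩
  let hT' := isAffineOpen_top X
  have := hT'.isOpenImmersion_fromSpec
  let N := Groth.Agent.QCoh.toSpec hT' F
  have : N.IsQuasicoherent := Scheme.Modules.isQuasicoherent_restrictFunctor _ F
  obtain ⟨i⟩ := Groth.Agent.FlatMor.PullTilde.nonempty_pullback_tilde (CommRingCat.ofHom φ) M₀ N
    ((LinearEquiv.ofBijective L hL).trans (Groth.Agent.QCoh.toSpecTopLinearEquiv hT' F).symm)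
  refine ⟨_, _, Spec.map (CommRingCat.ofHom (algebraMap A₀ B₀)),
    S.isoSpec.hom ≫ Spec.map (CommRingCat.ofHom (algebraMap A₀ A)),
    X.isoSpec.hom ≫ Spec.map (CommRingCat.ofHom φ), inferInstance, inferInstance,
    Groth.Agent.FlatMor.ModelSquare.isPullback f A₀ B₀ e, ?_, ?_, tilde M₀, ⟨inferInstance, ?_⟩, ⟨?_⟩⟩
  · exact Algebra.FiniteType.equiv (Algebra.FiniteType.adjoin_of_finite hT)
      (Scheme.ΓSpecIso (CommRingCat.of A₀)).commRingCatIsoToRingEquiv.symm.toIntAlgEquiv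
  · rw [HasRingHomProperty.Spec_iff (P := @LocallyOfFiniteType), CommRingCat.hom_ofHom,
      RingHom.finiteType_algebraMap]
    infer_instance
  · exact (Groth.Agent.Props.QTilde.isFT_iff M₀).mpr
      (inferInstanceAs (Module.Finite B₀ ((Fin n → B₀) ⧸ K₀)))
  · exact ((Scheme.Modules.pullbackComp X.isoSpec.hom (Spec.map (CommRingCat.ofHom φ))).app _).symm ≪≫
      (Scheme.Modules.pullback X.isoSpec.hom).mapIso
        (i ≪≫ (Scheme.Modules.restrictFunctorIsoPullback hT'.fromSpec).app F) ≪≫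
      (Scheme.Modules.pullbackComp X.isoSpec.hom hT'.fromSpec).app F ≪≫
      (Scheme.Modules.pullbackCongr (by rw [IsAffineOpen.fromSpec_top, Iso.hom_inv_id])).app F ≪≫
      (Scheme.Modules.pullbackId X).app F

end Groth.Agent.S9760
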