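import Groth.Statements.S9761
import Groth.Agent.S2394
import Groth.Agent.FlatOpen.Descend
import Groth.Agent.FlatSect.Basic
import Groth.Agent.FlatMor.PullTilde
import Groth.Agent.FlatMor.ModelSquare
import Groth.Agent.Props.QFP
import Mathlib
-- import your own Groth.Agent.* helpers here

set_option autoImplicit false
universe u
open FlatMor

namespace Groth.Agent.S9761

open scoped TensorProduct

attribute [local instance] Algebra.TensorProduct.rightAlgebra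

open Groth.Agent.FlatMor.ModelSquare in
/-- Flatness of the model module after base change. -/
theorem flat_tensor {A₀ A B₀ B M₀ N : Type u} [CommRing A₀] [CommRing A] [CommRing B₀] [CommRing B]
    [Algebra A₀ A] [Algebra A₀ B₀] [Algebra A B] (e : A ⊗[A₀] B₀ ≃ₐ[A] B)
    [AddCommGroup M₀] [Module B₀ M₀] [Module A₀ M₀] [IsScalarTower A₀ B₀ M₀]
    [AddCommGroup N] [Module B N] [Module A N] [IsScalarTower A B N] [Module.Flat A N]
    (LL : letI := (modelMap e).toAlgebra; B ⊗[B₀] M₀ ≃ₗ[B] N) : Module.Flat A (A ⊗[A₀] M₀) := by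
  letI := (modelMap e).toAlgebra
  letI : Algebra A₀ B := ((algebraMap A B).comp (algebraMap A₀ A)).toAlgebra
  haveI : IsScalarTower A₀ A B := IsScalarTower.of_algebraMap_eq' rfl
  haveI : IsScalarTower A₀ B₀ B := IsScalarTower.of_algebraMap_eq fun a => by
    show algebraMap A₀ B a = e (1 ⊗ₜ algebraMap A₀ B₀ a)
    rw [show ((1 : A) ⊗ₜ[A₀] algebraMap A₀ B₀ a) = algebraMap A (A ⊗[A₀] B₀) (algebraMap A₀ A a) from
      (Algebra.TensorProduct.algebraMap_apply' (R := A₀) (A := A) (B := B₀) a).symm.trans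
        (IsScalarTower.algebraMap_apply A₀ A (A ⊗[A₀] B₀) a), e.commutes]
    rfl
  haveI : Algebra.IsPushout A₀ A B₀ B :=
    Algebra.IsPushout.of_equiv (S' := A ⊗[A₀] B₀) e (RingHom.ext fun _ => rfl)
  exact Module.Flat.of_linearEquiv
    ((Algebra.IsPushout.cancelBaseChange A₀ A B₀ B M₀).symm.trans (LL.restrictScalars A))

open Groth.Agent.FlatMor.ModelSquare in
/-- Moving the model to a stage. -/
theorem exists_stage_model {A₀ A₁ A B₀ B M₀ N : Type u} [CommRing A₀] [CommRing A₁] [CommRing A] [CommRing B₀]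
    [CommRing B] [Algebra A₀ A₁] [Algebra A₁ A] [Algebra A₀ A] [IsScalarTower A₀ A₁ A] [Algebra A₀ B₀]
    [Algebra A B] (e : A ⊗[A₀] B₀ ≃ₐ[A] B) [AddCommGroup M₀] [Module B₀ M₀] [AddCommGroup N] [Module B N]
    (LL : letI := (modelMap e).toAlgebra; B ⊗[B₀] M₀ ≃ₗ[B] N) :
    ∃ e₁ : A ⊗[A₁] (A₁ ⊗[A₀] B₀) ≃ₐ[A] B,
      letI := (modelMap e₁).toAlgebra
      Nonempty (B ⊗[A₁ ⊗[A₀] B₀] ((A₁ ⊗[A₀] B₀) ⊗[B₀] M₀) ≃ₗ[B] N) := by
  let e₁ := (Algebra.TensorProduct.cancelBaseChange A₀ A₁ A A B₀).trans e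
  refine ⟨e₁, ?_⟩
  letI := (modelMap e).toAlgebra
  letI := (modelMap e₁).toAlgebra
  haveI : IsScalarTower B₀ (A₁ ⊗[A₀] B₀) B := IsScalarTower.of_algebraMap_eq fun b => by
    show e (1 ⊗ₜ b) = e₁ (1 ⊗ₜ ((1 : A₁) ⊗ₜ[A₀] b))
    simp only [e₁, AlgEquiv.trans_apply, Algebra.TensorProduct.cancelBaseChange_tmul, one_smul]
  exact ⟨(TensorProduct.AlgebraTensorModule.cancelBaseChange B₀ (A₁ ⊗[A₀] B₀) B B M₀).trans LL⟩

/-- The stage module is flat. -/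
theorem flat_stage {A₀ A₁ B₀ M₀ : Type u} [CommRing A₀] [CommRing A₁] [CommRing B₀] [Algebra A₀ A₁]
    [Algebra A₀ B₀] [AddCommGroup M₀] [Module B₀ M₀] [Module A₀ M₀] [IsScalarTower A₀ B₀ M₀]
    [Module.Flat A₁ (A₁ ⊗[A₀] M₀)] : Module.Flat A₁ ((A₁ ⊗[A₀] B₀) ⊗[B₀] M₀) :=
  Module.Flat.of_linearEquiv (Algebra.IsPushout.cancelBaseChange A₀ A₁ B₀ (A₁ ⊗[A₀] B₀) M₀)

set_option backward.isDefEq.respectTransparency false in
open AlgebraicGeometry CategoryTheory Limits in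
/-- From a flat model of rings and modules to schemes. -/
theorem assemble {X S : Scheme.{u}} (f : X ⟶ S) [IsAffine X] [IsAffine S]
    (F : X.Modules) [Coh.IsQCoh F] {A₁ B₁ M : Type u} [CommRing A₁] [CommRing B₁] [Algebra A₁ Γ(S, ⊤)]
    [Algebra A₁ B₁] [Algebra.FiniteType ℤ A₁] [Algebra.FiniteType A₁ B₁] [IsNoetherianRing B₁]
    [AddCommGroup M] [Module B₁ M] [Module A₁ M] [IsScalarTower A₁ B₁ M] [Module.Finite B₁ M] [Module.Flat A₁ M]
    (e₁ : letI := f.appTop.hom.toAlgebra; Γ(S, ⊤) ⊗[A₁] B₁ ≃ₐ[Γ(S, ⊤)] Γ(X, ⊤))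
    (L₁ : letI := f.appTop.hom.toAlgebra
      letI := (Groth.Agent.FlatMor.ModelSquare.modelMap e₁).toAlgebra
      Γ(X, ⊤) ⊗[B₁] M ≃ₗ[Γ(X, ⊤)] Γ(F, ⊤)) :
    ∃ (X₀ S₀ : Scheme.{u}) (f₀ : X₀ ⟶ S₀) (g : S ⟶ S₀) (g' : X ⟶ X₀), IsAffine X₀ ∧ IsAffine S₀ ∧ IsPullback g' f f₀ g ∧
      Algebra.FiniteType ℤ Γ(S₀, ⊤) ∧ LocallyOfFiniteType f₀ ∧
      ∃ F₀ : X₀.Modules, Coh.IsCoh F₀ ∧ FlatMod.IsFlatOver f₀ F₀ ∧ Nonempty ((Scheme.Modules.pullback g').obj F₀ ≅ F) := by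
  let A := Γ(S, ⊤)
  let B := Γ(X, ⊤)
  letI := f.appTop.hom.toAlgebra
  let φ₁ : B₁ →+* B := Groth.Agent.FlatMor.ModelSquare.modelMap e₁
  let M₁ : ModuleCat.{u} (CommRingCat.of B₁) := ModuleCat.of B₁ M
  let hT' := isAffineOpen_top X
  have := hT'.isOpenImmersion_fromSpec
  let N := Groth.Agent.QCoh.toSpec hT' F
  have : N.IsQuasicoherent := Scheme.Modules.isQuasicoherent_restrictFunctor _ F
  obtain ⟨i⟩ := Groth.Agent.FlatMor.PullTilde.nonempty_pullback_tilde (CommRingCat.ofHom φ₁) M₁ N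
    (L₁.trans (Groth.Agent.QCoh.toSpecTopLinearEquiv hT' F).symm)
  refine ⟨_, _, Spec.map (CommRingCat.ofHom (algebraMap A₁ B₁)),
    S.isoSpec.hom ≫ Spec.map (CommRingCat.ofHom (algebraMap A₁ A)),
    X.isoSpec.hom ≫ Spec.map (CommRingCat.ofHom φ₁), inferInstance, inferInstance,
    Groth.Agent.FlatMor.ModelSquare.isPullback f A₁ B₁ e₁, ?_, ?_, tilde M₁, ⟨inferInstance, ?_⟩, ?_, ⟨?_⟩⟩
  · exact Algebra.FiniteType.equiv ‹Algebra.FiniteType ℤ A₁›
      (Scheme.ΓSpecIso (CommRingCat.of A₁)).commRingCatIsoToRingEquiv.symm.toIntAlgEquiv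
  · rw [HasRingHomProperty.Spec_iff (P := @LocallyOfFiniteType), CommRingCat.hom_ofHom,
      RingHom.finiteType_algebraMap]
    infer_instance
  · exact (Groth.Agent.Props.QTilde.isFT_iff M₁).mpr (inferInstanceAs (Module.Finite B₁ M))
  · exact (Groth.Agent.S2394.result A₁ B₁ M).2 inferInstance
  · exact ((Scheme.Modules.pullbackComp X.isoSpec.hom (Spec.map (CommRingCat.ofHom φ₁))).app _).symm ≪≫
      (Scheme.Modules.pullback X.isoSpec.hom).mapIso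
        (i ≪≫ (Scheme.Modules.restrictFunctorIsoPullback hT'.fromSpec).app F) ≪≫
      (Scheme.Modules.pullbackComp X.isoSpec.hom hT'.fromSpec).app F ≪≫
      (Scheme.Modules.pullbackCongr (by rw [IsAffineOpen.fromSpec_top, Iso.hom_inv_id])).app F ≪≫
      (Scheme.Modules.pullbackId X).app F

open AlgebraicGeometry CategoryTheory Limits in
/-- The conclusion from a stage where the model is flat. -/
theorem finish {X S : Scheme.{u}} (f : X ⟶ S) [IsAffine X] [IsAffine S]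
    (F : X.Modules) [Coh.IsQCoh F] {A₀ A₁ B₀ M₀ : Type u} [CommRing A₀] [CommRing A₁] [CommRing B₀]
    [Algebra A₀ A₁] [Algebra A₁ Γ(S, ⊤)] [Algebra A₀ Γ(S, ⊤)] [IsScalarTower A₀ A₁ Γ(S, ⊤)] [Algebra A₀ B₀]
    [Algebra.FiniteType A₀ B₀] (hA₁ : Algebra.FiniteType ℤ A₁)
    [AddCommGroup M₀] [Module B₀ M₀] [Module A₀ M₀] [IsScalarTower A₀ B₀ M₀] [Module.Finite B₀ M₀]
    (hflat : Module.Flat A₁ (A₁ ⊗[A₀] M₀))
    (e : letI := f.appTop.hom.toAlgebra; Γ(S, ⊤) ⊗[A₀] B₀ ≃ₐ[Γ(S, ⊤)] Γ(X, ⊤))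
    (LL : letI := f.appTop.hom.toAlgebra
      letI := (Groth.Agent.FlatMor.ModelSquare.modelMap e).toAlgebra
      Γ(X, ⊤) ⊗[B₀] M₀ ≃ₗ[Γ(X, ⊤)] Γ(F, ⊤)) :
    ∃ (X₀ S₀ : Scheme.{u}) (f₀ : X₀ ⟶ S₀) (g : S ⟶ S₀) (g' : X ⟶ X₀), IsAffine X₀ ∧ IsAffine S₀ ∧ IsPullback g' f f₀ g ∧
      Algebra.FiniteType ℤ Γ(S₀, ⊤) ∧ LocallyOfFiniteType f₀ ∧
      ∃ F₀ : X₀.Modules, Coh.IsCoh F₀ ∧ FlatMod.IsFlatOver f₀ F₀ ∧ Nonempty ((Scheme.Modules.pullback g').obj F₀ ≅ F) := by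
  letI := f.appTop.hom.toAlgebra
  obtain ⟨e₁, ⟨L₁⟩⟩ := exists_stage_model (A₁ := A₁) e LL
  haveI := hflat
  haveI : Module.Flat A₁ ((A₁ ⊗[A₀] B₀) ⊗[B₀] M₀) := flat_stage
  haveI : IsNoetherianRing A₁ := Algebra.FiniteType.isNoetherianRing ℤ A₁
  haveI : IsNoetherianRing (A₁ ⊗[A₀] B₀) := Algebra.FiniteType.isNoetherianRing A₁ _
  exact assemble f F e₁ L₁

open AlgebraicGeometry CategoryTheory Limits in
/-- For a finitely presented morphism f : X ⟶ S of affine schemes and a quasi-coherent, finitely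
presented O_X-module F that is flat over S, f is the base change along some g' : X ⟶ X₀ of a finite
type morphism f₀ : X₀ ⟶ S₀ of affine schemes with S₀ of finite type over ℤ, and some coherent
O_{X₀}-module F₀, flat over S₀, satisfies g'^*F₀ ≅ F. -/
theorem result {X S : Scheme.{u}} (f : X ⟶ S) [IsAffine X] [IsAffine S] [LocallyOfFinitePresentation f]
    (F : X.Modules) [Coh.IsQCoh F] (hF : CohB1.IsFP F) (hfl : FlatMod.IsFlatOver f F) :
    ∃ (X₀ S₀ : Scheme.{u}) (f₀ : X₀ ⟶ S₀) (g : S ⟶ S₀) (g' : X ⟶ X₀), IsAffine X₀ ∧ IsAffine S₀ ∧ IsPullback g' f f₀ g ∧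
      Algebra.FiniteType ℤ Γ(S₀, ⊤) ∧ LocallyOfFiniteType f₀ ∧
      ∃ F₀ : X₀.Modules, Coh.IsCoh F₀ ∧ FlatMod.IsFlatOver f₀ F₀ ∧ Nonempty ((Scheme.Modules.pullback g').obj F₀ ≅ F) := by
  classical
  let A := Γ(S, ⊤)
  let B := Γ(X, ⊤)
  let := f.appTop.hom.toAlgebra
  have : Algebra.FinitePresentation A B :=
    (HasRingHomProperty.iff_of_isAffine (P := @LocallyOfFinitePresentation)).mp ‹_›
  let P := Algebra.Presentation.ofFinitePresentation A B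
  have : SheafOfModules.IsFinitePresentation.{u} F := hF
  have : Module.FinitePresentation B Γ(F, ⊤) :=
    Groth.Agent.Props.QFP.finitePresentation_sections_of_isFP F (isAffineOpen_top X)
  obtain ⟨n, p, hp⟩ := Module.Finite.exists_fin' B Γ(F, ⊤)
  obtain ⟨m, a, ha⟩ := Submodule.fg_iff_exists_fin_generating_family.mp
    (Module.FinitePresentation.fg_ker p hp)
  let q : Fin m → Fin n → MvPolynomial _ A := fun k j => P.σ (a k j)
  let T : Set A := P.coeffs ∪ ⋃ (k : Fin m) (j : Fin n), ((q k j).coeffs : Set A)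
  have hT : T.Finite := P.finite_coeffs.union
    (Set.finite_iUnion fun k => Set.finite_iUnion fun j => Finset.finite_toSet _)
  let A₀ := Algebra.adjoin ℤ T
  have hrange : ∀ t ∈ T, t ∈ Set.range (algebraMap A₀ A) :=
    fun t ht => ⟨⟨t, Algebra.subset_adjoin ht⟩, rfl⟩
  have : P.HasCoeffs A₀ := ⟨fun t ht => hrange t (Or.inl ht)⟩
  let B₀ := P.ModelOfHasCoeffs A₀
  let e := P.tensorModelOfHasCoeffsEquiv A₀
  let φ : B₀ →+* B := Groth.Agent.FlatMor.ModelSquare.modelMap e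
  have hq : ∀ k j, ∃ b : B₀, φ b = a k j := by
    intro k j
    obtain ⟨q₀, hq₀⟩ : q k j ∈ Set.range (MvPolynomial.map (algebraMap A₀ A)) := by
      rw [MvPolynomial.mem_range_map_iff_coeffs_subset]
      exact fun t ht => hrange t (Or.inr (Set.mem_iUnion.mpr ⟨k, Set.mem_iUnion.mpr ⟨j, ht⟩⟩))
    refine ⟨Ideal.Quotient.mk _ q₀, ?_⟩
    show P.tensorModelOfHasCoeffsEquiv A₀ (1 ⊗ₜ Ideal.Quotient.mk _ q₀) = a k j
    rw [Algebra.Presentation.tensorModelOfHasCoeffsEquiv_tmul, map_one, one_mul,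
      ← MvPolynomial.aeval_map_algebraMap A, hq₀]
    exact P.aeval_val_σ (a k j)
  choose a₀ ha₀ using hq
  let K₀ : Submodule B₀ (Fin n → B₀) := Submodule.span B₀ (Set.range a₀)
  let : Algebra B₀ B := φ.toAlgebra
  let : Module B₀ Γ(F, ⊤) := Module.compHom _ φ
  have : IsScalarTower B₀ B Γ(F, ⊤) := IsScalarTower.of_algebraMap_smul fun _ _ => rfl
  let s : Fin n → Γ(F, ⊤) := fun j => p (Pi.single j 1)
  have hps : ∀ v : Fin n → B, p v = ∑ j, v j • s j := fun v => by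
    conv_lhs => rw [pi_eq_sum_univ' v]
    rw [map_sum]
    simp only [map_smul]
    rfl
  let p₀ : (Fin n → B₀) →ₗ[B₀] Γ(F, ⊤) := Fintype.linearCombination B₀ s
  have hp₀ : ∀ v : Fin n → B₀, p₀ v = p (fun j => φ (v j)) := fun v => by
    rw [hps]
    exact Fintype.linearCombination_apply B₀ s v
  have hK₀ : K₀ ≤ LinearMap.ker p₀ := by
    rw [Submodule.span_le]
    rintro _ ⟨k, rfl⟩
    rw [SetLike.mem_coe, LinearMap.mem_ker, hp₀, funext (ha₀ k)]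
    exact LinearMap.mem_ker.mp (ha ▸ Submodule.subset_span ⟨k, rfl⟩)
  let L : B ⊗[B₀] ((Fin n → B₀) ⧸ K₀) →ₗ[B] Γ(F, ⊤) := (K₀.liftQ p₀ hK₀).liftBaseChange B
  let w : Fin n → B ⊗[B₀] ((Fin n → B₀) ⧸ K₀) := fun j => 1 ⊗ₜ K₀.mkQ (Pi.single j 1)
  let G : (Fin n → B) →ₗ[B] B ⊗[B₀] ((Fin n → B₀) ⧸ K₀) := Fintype.linearCombination B w
  have hG₀ : ∀ v : Fin n → B₀, G (fun j => φ (v j)) = 1 ⊗ₜ K₀.mkQ v := fun v => by
    conv_rhs => rw [pi_eq_sum_univ' v, map_sum, TensorProduct.tmul_sum]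
    rw [Fintype.linearCombination_apply]
    refine Finset.sum_congr rfl fun j _ => ?_
    rw [map_smul]
    exact (algebraMap_smul B (v j) (w j)).trans (TensorProduct.tmul_smul (v j) (1 : B) _).symm
  have hkerG : LinearMap.ker p ≤ LinearMap.ker G := by
    rw [← ha, Submodule.span_le]
    rintro _ ⟨k, rfl⟩
    rw [SetLike.mem_coe, LinearMap.mem_ker, ← funext (ha₀ k), hG₀,
      show K₀.mkQ (a₀ k) = 0 from (Submodule.Quotient.mk_eq_zero _).mpr (Submodule.subset_span ⟨k, rfl⟩),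
      TensorProduct.tmul_zero]
  have hLG : ∀ v, L (G v) = p v := fun v => by
    rw [Fintype.linearCombination_apply, map_sum, hps]
    refine Finset.sum_congr rfl fun j _ => ?_
    rw [map_smul, LinearMap.liftBaseChange_tmul, one_smul]
    show v j • p₀ (Pi.single j 1) = _
    rw [Fintype.linearCombination_apply_single, one_smul]
  have hGsurj : Function.Surjective G := fun z => by
    induction z using TensorProduct.induction_on with
    | zero => exact ⟨0, map_zero _⟩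
    | tmul b y =>
      obtain ⟨v, rfl⟩ := K₀.mkQ_surjective y
      refine ⟨b • fun j => φ (v j), ?_⟩
      rw [map_smul, hG₀, TensorProduct.smul_tmul', smul_eq_mul, mul_one]
    | add z z' hz hz' =>
      obtain ⟨v, rfl⟩ := hz
      obtain ⟨v', rfl⟩ := hz'
      exact ⟨v + v', map_add _ _ _⟩
  have hL : Function.Bijective L := by
    refine ⟨(injective_iff_map_eq_zero L).mpr fun z hz => ?_, fun y => ?_⟩
    · obtain ⟨v, rfl⟩ := hGsurj z
      exact hkerG (by rwa [LinearMap.mem_ker, ← hLG])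
    · obtain ⟨v, rfl⟩ := hp y
      exact ⟨G v, hLG v⟩
  let M₀ := (Fin n → B₀) ⧸ K₀
  haveI : Module.FinitePresentation B₀ M₀ :=
    Module.finitePresentation_of_surjective K₀.mkQ K₀.mkQ_surjective (by
      rw [Submodule.ker_mkQ]; exact Submodule.fg_span (Set.finite_range a₀))
  let LL : B ⊗[B₀] M₀ ≃ₗ[B] Γ(F, ⊤) := LinearEquiv.ofBijective L hL
  let : Module A Γ(F, ⊤) := Module.compHom _ f.appTop.hom
  have : IsScalarTower A B Γ(F, ⊤) := IsScalarTower.of_algebraMap_smul fun _ _ => rfl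
  have hM : Module.Flat A Γ(F, ⊤) := by
    have h := Groth.Agent.FlatSect.flat_sections_of_isFlatOverAt f (isAffineOpen_top S) (isAffineOpen_top X)
      (le_top : (⊤ : X.Opens) ≤ f ⁻¹ᵁ ⊤) F fun x _ => hfl x
    have he : f.appLE ⊤ ⊤ le_top = f.appTop := (Scheme.Hom.app_eq_appLE _).symm
    rw [he] at h
    exact h
  haveI : Module.Flat A (A ⊗[A₀] M₀) :=
    haveI := hM
    flat_tensor e LL
  let ι := {A₁ : Subalgebra ℤ A // A₁.FG ∧ A₀ ≤ A₁}
  letI : ∀ i : ι, Algebra A₀ i.1 := fun i => (Subalgebra.inclusion i.2.2).toRingHom.toAlgebra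
  haveI : ∀ i : ι, IsScalarTower A₀ i.1 A := fun i => IsScalarTower.of_algebraMap_eq fun _ => rfl
  have hA₀ : A₀.FG := Subalgebra.fg_def.2 ⟨T, hT, rfl⟩
  obtain ⟨⟨A₁, hA₁, h01⟩, hflat⟩ := Groth.Agent.FlatOpen.exists_stage_flat (A₀ := A₀) (fun i : ι => i.1)
    (fun _ _ h => (Subalgebra.inclusion h).toRingHom) (fun _ _ _ => rfl) A
    (by
      refine ⟨⟨fun i j => ⟨⟨i.1 ⊔ j.1, i.2.1.sup j.2.1, i.2.2.trans le_sup_left⟩,
        le_sup_left (a := i.1) (b := j.1), le_sup_right (a := i.1) (b := j.1)⟩⟩,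
        ⟨⟨A₀, hA₀, le_rfl⟩⟩, fun _ => rfl, fun _ _ _ _ _ => rfl, fun _ _ _ => rfl, fun a => ?_,
        fun i x hx => ⟨i, le_rfl, ?_⟩⟩
      · exact ⟨⟨A₀ ⊔ Algebra.adjoin ℤ {a}, hA₀.sup ⟨{a}, by simp⟩, le_sup_left⟩,
          ⟨a, (le_sup_right : _ ≤ A₀ ⊔ Algebra.adjoin ℤ {a}) (Algebra.subset_adjoin rfl)⟩, rfl⟩
      · have : x = 0 := Subtype.ext hx
        simp [this])
    (B₀ := B₀) M₀
  letI : Algebra A₀ A₁ := (Subalgebra.inclusion h01).toRingHom.toAlgebra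
  haveI : IsScalarTower A₀ A₁ A := IsScalarTower.of_algebraMap_eq fun _ => rfl
  exact finish f F ((Subalgebra.fg_iff_finiteType A₁).mp hA₁) hflat e LL

end Groth.Agent.S9761
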