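import Groth.Statements.S9763
-- import your own Groth.Agent.* helpers here

set_option autoImplicit false
universe u
open FlatMor

namespace Groth.Agent.S9763

open AlgebraicGeometry CategoryTheory

/-- `Spec (A ⧸ I) → Spec A` is surjective on points when `I ^ 2 = ⊥`. -/
theorem surj_of_sq {A : Type u} [CommRing A] {I : Ideal A} (hI : I ^ 2 = ⊥) :
    Function.Surjective (Spec.map (CommRingCat.ofHom (Ideal.Quotient.mk I))).base := by
  intro p
  have hp : I ≤ p.asIdeal := p.2.le_of_pow_le (n := 2) (hI ▸ bot_le)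
  have : p ∈ Set.range (PrimeSpectrum.comap (Ideal.Quotient.mk I)) := by
    rw [range_comap_of_surjective _ _ Ideal.Quotient.mk_surjective, Ideal.mk_ker]
    exact hp
  obtain ⟨q, hq⟩ := this
  exact ⟨q, hq⟩

/-- A morphism from `Spec A` which, on `Spec (A ⧸ I)`, factors through an open `U` does so. -/
theorem range_le {A : Type u} [CommRing A] {I : Ideal A} (hI : I ^ 2 = ⊥) {X : Scheme.{u}} (U : X.Opens)
    (l : Spec (CommRingCat.of A) ⟶ X) (a : Spec (CommRingCat.of (A ⧸ I)) ⟶ U)
    (ha : Spec.map (CommRingCat.ofHom (Ideal.Quotient.mk I)) ≫ l = a ≫ U.ι) :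
    Set.range l.base ⊆ Set.range U.ι.base := by
  rintro _ ⟨p, rfl⟩
  obtain ⟨q, rfl⟩ := surj_of_sq hI p
  refine ⟨a.base q, ?_⟩
  rw [← Scheme.Hom.comp_apply, ← Scheme.Hom.comp_apply, ha]


open AlgebraicGeometry CategoryTheory Limits in
/-- Let f : X ⟶ S be formally smooth (infinitesimal lifting against square-zero thickenings of affine
schemes), and let U be an open of X and V an open of S with U contained in the preimage of V under
f. Then the induced morphism U ⟶ V is formally smooth. -/
theorem result {X S : Scheme.{u}} (f : X ⟶ S) (hf : MoreMor.IsFormallySmoothHom f)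
    (U : X.Opens) (V : S.Opens) (h : U ≤ f ⁻¹ᵁ V) : MoreMor.IsFormallySmoothHom (f.resLE V U h) := by
  intro A _ I hI a b hab
  have hab' : Spec.map (CommRingCat.ofHom (Ideal.Quotient.mk I)) ≫ b ≫ V.ι = (a ≫ U.ι) ≫ f := by
    rw [← Category.assoc, hab, Category.assoc, Scheme.Hom.resLE_comp_ι, Category.assoc]
  obtain ⟨l, hl1, hl2⟩ := hf A I hI (a ≫ U.ι) (b ≫ V.ι) hab'
  refine ⟨IsOpenImmersion.lift U.ι l (range_le hI U l a hl1), ?_, ?_⟩
  · rw [← cancel_mono U.ι, Category.assoc, IsOpenImmersion.lift_fac, hl1]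
  · rw [← cancel_mono V.ι, Category.assoc, Scheme.Hom.resLE_comp_ι, ← Category.assoc,
      IsOpenImmersion.lift_fac, hl2]

end Groth.Agent.S9763
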