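import Groth.Statements.S9770
import Groth.Agent.HTopUltra.OpenStage
import Groth.Agent.S10837
import Groth.Agent.S9194

set_option autoImplicit false
universe u
open CategoryTheory AlgebraicGeometry
open FlatMor

namespace Groth.Agent.S9770

/-- Let S = lim S_i be a cofiltered limit of schemes with affine transition morphisms, i₀ an index with
S_{i₀} quasi-compact and quasi-separated, and f₀ : X₀ ⟶ Y₀ a morphism of schemes over S_{i₀} with X₀
and Y₀ quasi-compact and quasi-separated and f₀ locally of finite presentation. Write f : X ⟶ Y for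
the pullback of f₀ along S ⟶ S_{i₀} (all base changes given by pullback squares). Assuming f is
universally open and locally quasi-finite (with locally of finite type, as the book's notion
includes), there is a stage S_i over S_{i₀} where the pulled-back morphism f_i : X_i ⟶ Y_i already
has both properties. -/
theorem result {I : Type u} [SmallCategory I] [IsCofiltered I]
    (D : I ⥤ Scheme.{u}) (c : Limits.Cone D) (hc : Limits.IsLimit c)
    [∀ (i j : I) (φ : i ⟶ j), IsAffineHom (D.map φ)] (i₀ : I) [CompactSpace (D.obj i₀)] [QuasiSeparatedSpace (D.obj i₀)]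
    {X₀ Y₀ : Scheme.{u}} (f₀ : X₀ ⟶ Y₀) (g₀ : Y₀ ⟶ D.obj i₀) [CompactSpace X₀] [QuasiSeparatedSpace X₀]
    [CompactSpace Y₀] [QuasiSeparatedSpace Y₀] [LocallyOfFinitePresentation f₀]
    {X Y : Scheme.{u}} (f : X ⟶ Y) (g : Y ⟶ c.pt) (qY : Y ⟶ Y₀) (qX : X ⟶ X₀)
    (hY : IsPullback qY g g₀ (c.π.app i₀)) (hX : IsPullback qX f f₀ qY)
    [LocallyQuasiFinite f] [LocallyOfFiniteType f] [UniversallyOpen f] :
    ∃ (i : I) (φ : i ⟶ i₀) (Xi Yi : Scheme.{u}) (fi : Xi ⟶ Yi) (gi : Yi ⟶ D.obj i) (pY : Yi ⟶ Y₀) (pX : Xi ⟶ X₀),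
      IsPullback pY gi g₀ (D.map φ) ∧ IsPullback pX fi f₀ pY ∧ LocallyQuasiFinite fi ∧ LocallyOfFiniteType fi ∧ UniversallyOpen fi := by
  open CategoryTheory.Limits in
  haveI : QuasiCompact f₀ := quasiCompact_of_compactSpace f₀
  haveI : LocallyOfFiniteType f₀ := inferInstance
  obtain ⟨i₁, φ₁, X₁, Y₁, f₁, g₁, pY₁, pX₁, hY₁, hX₁, hq₁⟩ :=
    Groth.Agent.S9194.result D c hc i₀ f₀ g₀ f g qY qX hY hX
  obtain ⟨i₂, φ₂, X₂, Y₂, f₂, g₂, pY₂, pX₂, hY₂, hX₂, ho₂⟩ :=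
    Groth.Agent.HTopUltra.exists_universallyOpen_descend D c hc i₀ f₀ g₀ f g qY qX hY hX
      (Groth.Agent.HTopUltra.genLift_of_universallyOpen f fun f' hf' => Groth.Agent.S10837.result f' hf')
  obtain ⟨k, a₁, a₂, ha⟩ := IsCofiltered.cospan φ₁ φ₂
  let pY : pullback g₀ (D.map (a₁ ≫ φ₁)) ⟶ Y₀ := pullback.fst _ _
  let fk : pullback f₀ pY ⟶ pullback g₀ (D.map (a₁ ≫ φ₁)) := pullback.snd _ _
  have key : ∀ {i : I} (φ : i ⟶ i₀) (a : k ⟶ i), a ≫ φ = a₁ ≫ φ₁ →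
      ∀ {Xi Yi : Scheme.{u}} (fi : Xi ⟶ Yi) (gi : Yi ⟶ D.obj i) (pYi : Yi ⟶ Y₀) (pXi : Xi ⟶ X₀),
        IsPullback pYi gi g₀ (D.map φ) → IsPullback pXi fi f₀ pYi →
        ∃ (t : pullback g₀ (D.map (a₁ ≫ φ₁)) ⟶ Yi) (s : pullback f₀ pY ⟶ Xi), IsPullback s fk fi t := by
    intro i φ a e Xi Yi fi gi pYi pXi hYi hXi
    let t := hYi.lift pY (pullback.snd g₀ (D.map (a₁ ≫ φ₁)) ≫ D.map a) (by
      rw [Category.assoc, ← D.map_comp, e]; exact pullback.condition)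
    have ht : t ≫ pYi = pY := hYi.lift_fst _ _ _
    let s := hXi.lift (pullback.fst f₀ pY) (fk ≫ t) (by
      rw [Category.assoc, ht]; exact pullback.condition)
    refine ⟨t, s, IsPullback.of_right ?_ (hXi.lift_snd _ _ _) hXi⟩
    rw [ht, hXi.lift_fst]
    exact IsPullback.of_hasPullback f₀ pY
  obtain ⟨t₁, s₁, h₁⟩ := key φ₁ a₁ rfl f₁ g₁ pY₁ pX₁ hY₁ hX₁
  obtain ⟨t₂, s₂, h₂⟩ := key φ₂ a₂ ha.symm f₂ g₂ pY₂ pX₂ hY₂ hX₂
  haveI : LocallyOfFiniteType fk := MorphismProperty.pullback_snd _ _ ‹LocallyOfFiniteType f₀›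
  exact ⟨k, a₁ ≫ φ₁, _, _, fk, pullback.snd _ _, pY, pullback.fst _ _, IsPullback.of_hasPullback _ _,
    IsPullback.of_hasPullback _ _, MorphismProperty.of_isPullback h₁ hq₁, inferInstance,
    MorphismProperty.of_isPullback h₂ ho₂⟩

end Groth.Agent.S9770
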