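import Groth.Statements.S9771
import Groth.Agent.EtStruct.Core
import Groth.Agent.InfLift.Etale
import Mathlib.RingTheory.Etale.Locus

set_option autoImplicit false
universe u
open FlatMor

namespace Groth.Agent.S9771

open AlgebraicGeometry CategoryTheory Limits in
/-- An unramified (formally unramified and locally of finite type) flat morphism of schemes is formally
étale. (When the morphism is moreover locally of finite presentation this is the statement that flat
unramified morphisms are étale; the content here is the case without finite presentation.) -/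
theorem result {X S : Scheme.{u}} (f : X ⟶ S)
    [Flat f] [FormallyUnramified f] [LocallyOfFiniteType f] : MoreMor.IsFormallyEtaleHom f := by
  refine Groth.Agent.InfLift.Etale.isFormallyEtaleHom_of_local fun x => ?_
  obtain ⟨_, ⟨V, hV, rfl⟩, hxV, -⟩ := S.isBasis_affineOpens.exists_subset_of_mem_open
    (Set.mem_univ (f x)) isOpen_univ
  obtain ⟨_, ⟨U, hU, rfl⟩, hxU, hle⟩ := X.isBasis_affineOpens.exists_subset_of_mem_open
    (show x ∈ (f ⁻¹ᵁ V : Set X) from hxV) (f ⁻¹ᵁ V).isOpen
  refine ⟨U, V, hU, hV, hle, hxU, ?_⟩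
  have h1 := HasRingHomProperty.appLE @Flat f ‹_› ⟨V, hV⟩ ⟨U, hU⟩ hle
  have h2 := HasRingHomProperty.appLE @FormallyUnramified f ‹_› ⟨V, hV⟩ ⟨U, hU⟩ hle
  have h3 := HasRingHomProperty.appLE @LocallyOfFiniteType f ‹_› ⟨V, hV⟩ ⟨U, hU⟩ hle
  algebraize [(f.appLE V U hle).hom]
  rw [← Algebra.etaleLocus_eq_univ_iff, Set.eq_univ_iff_forall]
  intro q
  have : Module.Flat Γ(S, V) (Localization.AtPrime q.asIdeal) := Module.Flat.trans _ Γ(X, U) _
  exact Groth.Agent.EtStruct.isEtaleAt_of_isUnramifiedAt_of_flat q.asIdeal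

end Groth.Agent.S9771
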