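import Groth.Statements.S9775
import Groth.Agent.CInt77.LCITarget
import Groth.Agent.S1493
import Groth.Agent.FlatMor.PC.Regular

set_option autoImplicit false
universe u
open FlatMor

namespace Groth.Agent.S9775

open AlgebraicGeometry CategoryTheory Limits in
/-- Let S be a locally Noetherian scheme, g : Y ⟶ S locally of finite type with Y regular (all local
rings regular), f : X ⟶ Y a morphism, and assume the composite f ≫ g is Koszul at every point of X
(a local complete intersection morphism). Then f is Koszul at every point of X, and g is Koszul at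
the point f x for each x ∈ X. -/
theorem result {X Y S : Scheme.{u}} (f : X ⟶ Y) (g : Y ⟶ S) [IsLocallyNoetherian S] [LocallyOfFiniteType g]
    (hY : Models.IsRegularScheme Y) (h : ∀ x : X, Synt.IsKoszulAt (f ≫ g) x) :
    (∀ x : X, Synt.IsKoszulAt f x) ∧ ∀ x : X, Synt.IsKoszulAt g (f x) := by
  haveI : IsLocallyNoetherian Y := LocallyOfFiniteType.isLocallyNoetherian g
  refine CInt77.lci_and_koszulAt_target f g (fun U V hU hV e hft => ?_) h
  letI := (f.appLE V U e).hom.toAlgebra
  haveI : Algebra.FiniteType Γ(Y, V) Γ(X, U) := hft
  haveI := S1493.isRegularRing_section hY hV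
  exact FlatMor.PC.perfectHom_of_regular.2

end Groth.Agent.S9775
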