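import Groth.Statements.S9779
import Groth.Agent.Goldman.Basic
import Groth.Agent.RatMapExt.Valuative
-- import your own Groth.Agent.* helpers here

set_option autoImplicit false
universe u
open FlatMor

namespace Groth.Agent.S9779

open AlgebraicGeometry CategoryTheory

/-- A point `z` of an open `U` specializing to `x` with only `z`, `x` between them. -/
theorem exists_oneStep {X : Scheme.{u}} [IsLocallyNoetherian X] (x : X) (U : X.Opens) (hxU : x ∉ U)
    (hx : x ∈ closure (U : Set X)) :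
    ∃ z ∈ U, z ⤳ x ∧ ∀ w, z ⤳ w → w ⤳ x → w = z ∨ w = x := by
  let R := X.presheaf.stalk x
  let j := X.fromSpecStalk x
  obtain ⟨W, hW, hxW, -⟩ := exists_isAffineOpen_mem_and_subset (x := x) (U := ⊤) trivial
  haveI : IsNoetherianRing Γ(X, W) := IsLocallyNoetherian.component_noetherian ⟨W, hW⟩
  haveI : IsNoetherian W.toScheme := by
    haveI : IsAffine W.toScheme := hW
    haveI : CompactSpace W.toScheme := isCompact_iff_compactSpace.mp hW.isCompact
    exact ⟨⟩
  haveI : TopologicalSpace.NoetherianSpace (W : Set X) :=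
    inferInstanceAs (TopologicalSpace.NoetherianSpace W.toScheme)
  obtain ⟨ζ, hζ, hζx⟩ := Groth.Agent.RatMapExt.exists_specializes_of_mem_closure_inter
    W.2 U.2 isClosed_univ hxW (by simpa using hx)
  obtain ⟨q0, rfl⟩ : ζ ∈ Set.range j := by rw [Scheme.range_fromSpecStalk]; exact hζx
  obtain ⟨_, ⟨g, rfl⟩, hq0, hg⟩ := PrimeSpectrum.isTopologicalBasis_basic_opens.exists_subset_of_mem_open
    (show q0 ∈ j ⁻¹' (U : Set X) from hζ.1) (U.2.preimage j.continuous)
  obtain ⟨P, ⟨hP, hgP⟩, hmax⟩ := set_has_maximal_iff_noetherian.mpr (inferInstance : IsNoetherianRing R)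
    {P : Ideal R | P.IsPrime ∧ g ∉ P} ⟨q0.asIdeal, q0.2, hq0⟩
  let z0 : Spec (X.presheaf.stalk x) := ⟨P, hP⟩
  have hz : j z0 ∈ U := hg hgP
  refine ⟨j z0, hz, (show j z0 ∈ {y | y ⤳ x} from Scheme.range_fromSpecStalk ▸ ⟨z0, rfl⟩), ?_⟩
  intro w hzw hwx
  obtain ⟨w0, rfl⟩ : w ∈ Set.range j := by rw [Scheme.range_fromSpecStalk]; exact hwx
  have hPw : P ≤ w0.asIdeal := (PrimeSpectrum.le_iff_specializes z0 w0).mpr
    (j.isEmbedding.isInducing.specializes_iff.mp hzw)
  by_cases hw : w0.asIdeal = P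
  · exact Or.inl (congrArg j (PrimeSpectrum.ext hw))
  haveI := hP
  let π := Ideal.Quotient.mk P
  have hg0 : π g ≠ 0 := fun h => hgP (Ideal.Quotient.eq_zero_iff_mem.mp h)
  have hall : ∀ Q : Ideal (R ⧸ P), Q.IsPrime → Q ≠ ⊥ → π g ∈ Q := by
    intro Q hQ hQb
    by_contra hgQ
    refine hmax (Q.comap π) ⟨hQ.comap π, hgQ⟩ (lt_of_le_of_ne ?_ ?_)
    · exact fun r hr => show π r ∈ Q by rw [Ideal.Quotient.eq_zero_iff_mem.mpr hr]; exact Q.zero_mem
    · intro h
      apply hQb
      rw [← Ideal.map_comap_of_surjective π Ideal.Quotient.mk_surjective Q, ← h]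
      exact Ideal.map_quotient_self P
  obtain ⟨-, hdim⟩ := Groth.Agent.Goldman.finite_and_dimLE_one_of_forall_mem hg0 hall
  have hker : RingHom.ker π ≤ w0.asIdeal := by rw [Ideal.mk_ker]; exact hPw
  haveI := Ideal.map_isPrime_of_surjective (f := π) Ideal.Quotient.mk_surjective hker
  have hne : w0.asIdeal.map π ≠ ⊥ := by
    intro h
    refine hw (le_antisymm (fun r hr => ?_) hPw)
    have := h ▸ Ideal.mem_map_of_mem π hr
    exact Ideal.Quotient.eq_zero_iff_mem.mp ((Submodule.mem_bot _).mp this)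
  have hmaxl : (w0.asIdeal.map π).IsMaximal :=
    (Ring.krullDimLE_one_iff_of_noZeroDivisors.mp hdim) _ hne inferInstance
  have : w0.asIdeal.IsMaximal := by
    rw [show w0.asIdeal = (w0.asIdeal.map π).comap π by
      rw [Ideal.comap_map_of_surjective π Ideal.Quotient.mk_surjective, ← RingHom.ker_eq_comap_bot,
        sup_eq_left.mpr hker]]
    exact Ideal.comap_isMaximal_of_surjective π Ideal.Quotient.mk_surjective
  right
  have : w0 = IsLocalRing.closedPoint R := PrimeSpectrum.ext (IsLocalRing.eq_maximalIdeal this)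
  rw [this]
  exact Scheme.fromSpecStalk_closedPoint


open AlgebraicGeometry CategoryTheory Limits in
/-- Suppose S is locally Noetherian and the morphism f : X ⟶ S is locally of finite type; take x a point
of X closed in its fibre, and U ⊆ X an open subscheme not meeting the fibre through x but with x in
the closure of U. Then there is a closed subscheme Z of X passing through x such that Z ⟶ S is
quasi-finite at x and Z contains a point z of U specializing to x with f z ≠ f x. -/
theorem result {X S : Scheme.{u}} (f : X ⟶ S) [LocallyOfFiniteType f] [IsLocallyNoetherian S] (x : X)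
    (hcl : IsClosed (Subtype.val ⁻¹' {x} : Set ↑(f ⁻¹' {f x}))) (U : X.Opens)
    (hU : ∀ x' ∈ U, f x' ≠ f x) (hxU : x ∈ closure (U : Set ↑X)) :
    ∃ (I : X.IdealSheafData) (z₀ x₀ : ↑I.subscheme), I.subschemeι x₀ = x ∧ (I.subschemeι ≫ f).QuasiFiniteAt x₀ ∧
      I.subschemeι z₀ ∈ U ∧ I.subschemeι z₀ ⤳ x ∧ f (I.subschemeι z₀) ≠ f x := by
  haveI : IsLocallyNoetherian X := LocallyOfFiniteType.isLocallyNoetherian f
  obtain ⟨z, hzU, hzx, hbetween⟩ := exists_oneStep x U (fun h => hU x h rfl) hxU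
  let I := Scheme.IdealSheafData.vanishingIdeal (TopologicalSpace.Closeds.closure {z})
  have hr : Set.range I.subschemeι = closure {z} := by
    rw [Scheme.IdealSheafData.range_subschemeι]
    exact Scheme.IdealSheafData.coe_support_vanishingIdeal _
  obtain ⟨z₀, hz₀⟩ : z ∈ Set.range I.subschemeι := hr ▸ subset_closure rfl
  obtain ⟨x₀, hx₀⟩ : x ∈ Set.range I.subschemeι := hr ▸ hzx.mem_closure
  refine ⟨I, z₀, x₀, hx₀, ?_, hz₀ ▸ hzU, hz₀ ▸ hzx, hz₀ ▸ hU z hzU⟩
  let g := I.subschemeι ≫ f
  let a := g.asFiber x₀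
  let F := g.fiber (g x₀)
  rw [Scheme.Hom.quasiFiniteAt_iff_isOpen_singleton_asFiber]
  show IsOpen ({a} : Set F)
  haveI : IsLocallyNoetherian F :=
    @LocallyOfFiniteType.isLocallyNoetherian _ _ (g.fiberToSpecResidueField (g x₀))
      (MorphismProperty.pullback_snd _ _ inferInstance) inferInstance
  let ψ : F → X := fun b => I.subschemeι (g.fiberι (g x₀) b)
  have hψ : Topology.IsEmbedding ψ :=
    I.subschemeι.isEmbedding.comp (g.fiberι (g x₀)).isEmbedding
  have hψa : ψ a = x := by
    show I.subschemeι (g.fiberι (g x₀) (g.asFiber x₀)) = x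
    rw [g.fiberι_asFiber, hx₀]
  have hψf : ∀ b, f (ψ b) = f x := fun b => by
    have : g.fiberι (g x₀) b ∈ g ⁻¹' {g x₀} := g.range_fiberι _ ▸ Set.mem_range_self b
    have h2 : f (ψ b) = f (I.subschemeι x₀) := this
    exact h2.trans (congrArg f hx₀)
  have hgen : ∀ b, b ⤳ a → b = a := by
    intro b hb
    have hbx : ψ b ⤳ x := hψa ▸ hb.map hψ.continuous
    have hzb : z ⤳ ψ b := specializes_iff_mem_closure.mpr (hr ▸ Set.mem_range_self _)
    rcases hbetween _ hzb hbx with h | h
    · exact absurd (h ▸ hψf b) (hU z hzU)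
    · exact hψ.injective (h.trans hψa.symm)
  have hclosed : IsClosed ({a} : Set F) := by
    refine isClosed_of_closure_subset fun b hb => hψ.injective ?_
    rw [hψa]
    have hxb : x ⤳ ψ b := hψa ▸ (specializes_iff_mem_closure.mpr hb).map hψ.continuous
    have h1 : (⟨x, rfl⟩ : f ⁻¹' {f x}) ⤳ ⟨ψ b, hψf b⟩ :=
      (subtype_specializes_iff _ _).mpr hxb
    exact h1.mem_closed hcl (show (⟨x, rfl⟩ : f ⁻¹' {f x}).1 ∈ ({x} : Set X) from rfl)
  obtain ⟨W, hW, haW, -⟩ := exists_isAffineOpen_mem_and_subset (X := F) (x := a) (U := ⊤) trivial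
  haveI : IsNoetherianRing Γ(F, W) := IsLocallyNoetherian.component_noetherian ⟨W, hW⟩
  haveI : IsNoetherian W.toScheme := by
    haveI : IsAffine W.toScheme := hW
    haveI : CompactSpace W.toScheme := isCompact_iff_compactSpace.mp hW.isCompact
    exact ⟨⟩
  haveI : TopologicalSpace.NoetherianSpace (W : Set F) :=
    inferInstanceAs (TopologicalSpace.NoetherianSpace W.toScheme)
  rw [← isClosed_compl_iff]
  refine isClosed_of_closure_subset fun b hb (hba : b = a) => ?_
  subst hba
  obtain ⟨c, hc, hcb⟩ := Groth.Agent.RatMapExt.exists_specializes_of_mem_closure_inter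
    W.2 hclosed.isOpen_compl isClosed_univ haW (by simpa using hb)
  exact hc.1 (hgen c hcb)

end Groth.Agent.S9779
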