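import Groth.Statements.S9787
import Groth.Agent.BlowUpSmooth.Scheme
import Groth.Agent.BlowPerf.Exceptional
import Groth.Agent.S1677
import Groth.Agent.S9699
import Groth.Agent.CIntCI.Syntomic

set_option autoImplicit false
set_option backward.isDefEq.respectTransparency.types false
universe u
open CategoryTheory CategoryTheory.Limits AlgebraicGeometry TopologicalSpace
open FlatMor

namespace Groth.Agent.S9787

/-- For a smooth q : X ⟶ S and a closed immersion i : Z ⟶ X whose composite with q is smooth, any
blowing up b : X' ⟶ X of the ideal sheaf of Z (given by its universal property) is smooth over S,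
and so is its exceptional divisor. The published statement also identifies the exceptional divisor
over Z with the projective bundle of the conormal sheaf, with O(1) the restriction of O_{X'}(−E);
this row proves only the two smoothness claims. -/
theorem result {Z X X' S : Scheme.{u}} (q : X ⟶ S) [Smooth q] (i : Z ⟶ X) [IsClosedImmersion i]
    [Smooth (i ≫ q)] (b : X' ⟶ X) (hb : BlowUp.IsBlowUp b i.ker) :
    Smooth (b ≫ q) ∧ Smooth ((BlowUp.exceptional b i.ker).subschemeι ≫ b ≫ q) := by
  have hi : Mor2.IsRegularClosedImmersion i :=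
    S1677.result q i ((CIntCI.isCIMorphism_iff _).2 (S9699.result (i ≫ q)))
  let E := BlowUp.exceptional b i.ker
  have hle : i.ker ≤ (E.subschemeι ≫ b).ker := by
    have h := i.ker.le_map_comap b
    simpa using! h
  let φ : E.subscheme ⟶ Z := IsClosedImmersion.lift i (E.subschemeι ≫ b) hle
  have hφ : φ ≫ i = E.subschemeι ≫ b := IsClosedImmersion.lift_fac _ _ _
  haveI hφs : Smooth φ := by
    haveI := BlowPerf.Exceptional.smooth_snd_ker i hi b hb
    have sq := isPullback_of_isClosedImmersion E.subschemeι i φ b hφ.symm (Scheme.IdealSheafData.ker_subschemeι E).symm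
    rw [← sq.isoPullback_hom_snd]
    infer_instance
  haveI hE : Smooth (E.subschemeι ≫ b ≫ q) := by
    rw [← reassoc_of% hφ]
    infer_instance
  refine ⟨?_, hE⟩
  haveI : IsIso i.toImage := inferInstance
  haveI : LocallyOfFinitePresentation (i.ker.subschemeι ≫ q) := by
    rw [show i.ker.subschemeι ≫ q = inv i.toImage ≫ i ≫ q by rw [IsIso.eq_inv_comp, Scheme.Hom.toImage_imageι_assoc]]
    infer_instance
  have hloc : ∀ x : X', ∃ W : X'.Opens, x ∈ W ∧ Smooth (W.ι ≫ b ≫ q) := by
    intro x
    by_cases hx : x ∈ E.support
    · obtain ⟨e, rfl⟩ := E.range_subschemeι.ge hx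
      exact BlowUpSmooth.smooth_blowUp_near q i.ker b hb e ⊤ trivial inferInstance
    · let W : X'.Opens := E.support.compl
      haveI := BlowUp.Basic.isOpenImmersion_ι_comp hb W disjoint_compl_left
      refine ⟨W, hx, ?_⟩
      rw [← Category.assoc]
      infer_instance
  choose W hxW hW using hloc
  exact (IsZariskiLocalAtSource.iff_of_iSup_eq_top (P := @Smooth) W
    (eq_top_iff.2 fun x _ => TopologicalSpace.Opens.mem_iSup.2 ⟨x, hxW x⟩)).2 hW

end Groth.Agent.S9787
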