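import Groth.Statements.S9790
import Groth.Agent.FlatMor62.AssDim

set_option autoImplicit false
universe u
open FlatMor

namespace Groth.Agent.S9790

open AlgebraicGeometry CategoryTheory Limits in
/-- Let f : X ⟶ S be locally of finite type, F a quasi-coherent O_X-module of finite type and y a point
of the relative assassin of F over S. Let Y ⊆ X be the closure of y with its reduced induced
(integral) closed subscheme structure. Suppose F is S-flat at every point of Y that is a generic
point of an irreducible component of its fibre over S (e.g. F flat over S everywhere). Then Y ⟶ S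
has constant fibre dimension: there is d ≥ 0 with dim_x(Y_{f x}) = d for every point x of Y, i.e. Y
has relative dimension d over the closure of f y. The published statement also contains a part (1),
that such generic points are again relative associated points of F; this row states only part (2),
the relative-dimension clause. -/
theorem result {X S : Scheme.{u}} (f : X ⟶ S) [LocallyOfFiniteType f] (F : X.Modules) [Coh.IsQCoh F]
    (hF : CohB1.IsFT F) (y : X) (hy : y ∈ MoreMor.relAss f F)
    (hflat : ∀ x : ↑(Scheme.IdealSheafData.vanishingIdeal (TopologicalSpace.Closeds.closure {y})).subscheme,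
      (∃ Z ∈ irreducibleComponents ↥(((Scheme.IdealSheafData.vanishingIdeal (TopologicalSpace.Closeds.closure {y})).subschemeι ≫ f).fiber (f ((Scheme.IdealSheafData.vanishingIdeal (TopologicalSpace.Closeds.closure {y})).subschemeι x))),
        IsGenericPoint (((Scheme.IdealSheafData.vanishingIdeal (TopologicalSpace.Closeds.closure {y})).subschemeι ≫ f).asFiber x) Z) →
      FlatMod.IsFlatOverAt f F ((Scheme.IdealSheafData.vanishingIdeal (TopologicalSpace.Closeds.closure {y})).subschemeι x)) :
    ∃ d : ℕ, ∀ x : ↑(Scheme.IdealSheafData.vanishingIdeal (TopologicalSpace.Closeds.closure {y})).subscheme, FlatMor.fibreDimAt ((Scheme.IdealSheafData.vanishingIdeal (TopologicalSpace.Closeds.closure {y})).subschemeι ≫ f) x = d := by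
  haveI : F.IsQuasicoherent := ‹Coh.IsQCoh F›
  set I := Scheme.IdealSheafData.vanishingIdeal (TopologicalSpace.Closeds.closure {y}) with hIdef
  have hrange : Set.range I.subschemeι = closure {y} := by
    rw [Scheme.IdealSheafData.range_subschemeι, hIdef, Scheme.IdealSheafData.coe_support_vanishingIdeal,
      TopologicalSpace.Closeds.coe_closure]
  obtain ⟨y₀, hy₀⟩ : y ∈ Set.range I.subschemeι := hrange.ge (subset_closure rfl)
  let g := I.subschemeι ≫ f
  obtain ⟨n, d, -, hd, -⟩ := Groth.Agent.FibSemi.fibreDimAt_eq_add g y₀
  refine ⟨d, fun x => ?_⟩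
  have hspec : ∀ z : I.subscheme, y₀ ⤳ z := fun z => by
    refine I.subschemeι.isClosedEmbedding.isEmbedding.specializes_iff.mp ?_
    rw [hy₀, specializes_iff_mem_closure]
    exact hrange.le ⟨z, rfl⟩
  refine le_antisymm (Groth.Agent.FlatMor62.AssDim.fibreDimAt_le g x d fun w _ hwmax => ?_)
    (hd ▸ Groth.Agent.FlatMor62.AssDim.le_fibreDimAt g (hspec x))
  rw [← hd, Groth.Agent.FlatMor62.AssDim.krullDim_specs_closed f I.subschemeι w,
    Groth.Agent.FlatMor62.AssDim.krullDim_specs_closed f I.subschemeι y₀, hy₀]
  refine Groth.Agent.FlatMor62.AssDim.krullDim_specs_le f F hF hy (hy₀ ▸ (hspec w).map I.subschemeι.continuous) (hflat w ?_)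
  have hm : Groth.Agent.FlatOpen.EquiDim.Max ((g.asFiber w)) :=
    (Groth.Agent.FlatOpen.EquiDim.fMax_fiberι_iff g (g w) _).mpr (by
      rw [g.fiberι_asFiber]
      exact fun v hv hgv => hwmax v hv hgv)
  exact ⟨_, Groth.Agent.FlatOpen.EquiDim.closure_mem_irreducibleComponents hm, rfl⟩

end Groth.Agent.S9790
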