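import Groth.Statements.S9792
import Groth.Agent.Props.Heights
-- import your own Groth.Agent.* helpers here

set_option autoImplicit false
universe u
open CategoryTheory AlgebraicGeometry TopologicalSpace
open Props

namespace Groth.Agent.S9792

/-- In a Noetherian scheme, every infinite set of points contains an infinite subset no two distinct
members of which are related by specialization. -/
theorem result (S : Scheme.{u}) [IsNoetherian S]
    (T : Set S) (hT : T.Infinite) :
    ∃ T' : Set S, T' ⊆ T ∧ T'.Infinite ∧ ∀ a ∈ T', ∀ b ∈ T', a ⤳ b → a = b := by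
  classical
  obtain ⟨Z, hZ, hZmin⟩ := (wellFounded_lt (α := TopologicalSpace.Closeds S)).has_min
    {Z | ((Z : Set S) ∩ T).Infinite} ⟨⊤, by simpa using hT⟩
  have hprop : ∀ C : Set S, IsClosed C → C ⊂ (Z : Set S) → (C ∩ T).Finite := by
    intro C hC hlt
    by_contra h
    exact hZmin ⟨C, hC⟩ h hlt
  have hirr : IsIrreducible (Z : Set S) := by
    refine ⟨hZ.nonempty.mono Set.inter_subset_left, isPreirreducible_iff_isClosed_union_isClosed.mpr
      fun z₁ z₂ h1 h2 hsub => ?_⟩
    by_contra hcon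
    push Not at hcon
    have f1 := hprop (z₁ ∩ Z) (h1.inter Z.isClosed)
      (HasSubset.Subset.ssubset_of_ne Set.inter_subset_right
        fun e => hcon.1 (e ▸ Set.inter_subset_left))
    have f2 := hprop (z₂ ∩ Z) (h2.inter Z.isClosed)
      (HasSubset.Subset.ssubset_of_ne Set.inter_subset_right
        fun e => hcon.2 (e ▸ Set.inter_subset_left))
    refine hZ ((f1.union f2).subset ?_)
    rintro x ⟨hxZ, hxT⟩
    rcases hsub hxZ with h | h
    · exact Or.inl ⟨⟨h, hxZ⟩, hxT⟩
    · exact Or.inr ⟨⟨h, hxZ⟩, hxT⟩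
  set η := hirr.genericPoint
  have hη : IsGenericPoint η (Z : Set S) := hirr.isGenericPoint_genericPoint Z.isClosed
  set A := ((Z : Set S) ∩ T) \ {η}
  have hA : A.Infinite := hZ.sdiff (Set.finite_singleton η)
  have hspec : ∀ a ∈ A, (A ∩ {b | a ⤳ b}).Finite := by
    intro a ha
    refine (hprop (closure {a}) isClosed_closure ?_).subset
      fun b hb => ⟨hb.2.mem_closure, hb.1.1.2⟩
    refine HasSubset.Subset.ssubset_of_ne (closure_minimal (by simpa using ha.1.1) Z.isClosed)
      fun e => ha.2 ?_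
    exact IsGenericPoint.eq e hη
  by_cases hlev : ∃ n : ℕ∞, {a ∈ A | Order.coheight a = n}.Infinite
  · obtain ⟨n, hn⟩ := hlev
    refine ⟨_, fun a ha => ha.1.1.2, hn, fun a ha b hb hab => ?_⟩
    by_contra hne
    have := Props.Heights.coheight_lt S (Props.Heights.lt_of_specializes S hab hne)
    rw [ha.2, hb.2] at this
    exact lt_irrefl _ this
  push Not at hlev
  have hgen : ∀ a ∈ A, (A ∩ {b | b ⤳ a}).Finite := by
    intro a ha
    obtain ⟨n, hn⟩ := ENat.ne_top_iff_exists.mp (Props.Heights.coheight_lt_top S a).ne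
    refine ((Set.finite_Iic n).biUnion fun (m : ℕ) _ => hlev m).subset ?_
    rintro b ⟨hbA, hba⟩
    obtain ⟨m, hm⟩ := ENat.ne_top_iff_exists.mp (Props.Heights.coheight_lt_top S b).ne
    have hle : Order.coheight b ≤ Order.coheight a := by
      by_cases e : b = a
      · rw [e]
      · exact (Props.Heights.coheight_lt S (Props.Heights.lt_of_specializes S hba e)).le
    rw [← hm, ← hn, Nat.cast_le] at hle
    exact Set.mem_biUnion (show m ∈ Set.Iic n from hle) ⟨hbA, hm.symm⟩
  -- a maximal antichain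
  obtain ⟨M, hM⟩ := zorn_subset {M : Set S | M ⊆ A ∧ ∀ a ∈ M, ∀ b ∈ M, a ⤳ b → a = b} (by
    intro c hc hchain
    refine ⟨⋃₀ c, ⟨Set.sUnion_subset fun s hs => (hc hs).1, ?_⟩,
      fun s hs => Set.subset_sUnion_of_mem hs⟩
    rintro a ⟨s, hs, has⟩ b ⟨t, ht, hbt⟩
    rcases hchain.total hs ht with h | h
    · exact (hc ht).2 a (h has) b hbt
    · exact (hc hs).2 a has b (h hbt))
  obtain ⟨⟨hMA, hM1⟩, hMmax⟩ := hM
  refine ⟨M, fun a ha => (hMA ha).1.2, fun hfin => hA ?_, hM1⟩
  refine (hfin.biUnion fun m hm => (hspec m (hMA hm)).union (hgen m (hMA hm))).subset fun a ha => ?_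
  by_contra hcon
  simp only [Set.mem_iUnion, Set.mem_union, Set.mem_inter_iff, Set.mem_ofPred_eq, not_exists,
    not_or, not_and] at hcon
  have := hMmax (y := insert a M) ⟨Set.insert_subset ha hMA, ?_⟩ (Set.subset_insert a M)
    (Set.mem_insert a M)
  · exact (hcon a this).1 ha specializes_rfl
  · rintro x (rfl | hx) y (rfl | hy) hxy
    · rfl
    · exact absurd hxy ((hcon y hy).2 ha)
    · exact absurd hxy ((hcon x hx).1 ha)
    · exact hM1 x hx y hy hxy

end Groth.Agent.S9792
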