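import Groth.Statements.S9793
import Groth.Agent.Props.Heights
-- import your own Groth.Agent.* helpers here

set_option autoImplicit false
universe u
open CategoryTheory AlgebraicGeometry TopologicalSpace
open Props

namespace Groth.Agent.S9793

/-- Let S be a Noetherian scheme and T a set of points of S. Every point of T is a specialization of
some point of T which admits no non-trivial generization lying in T. -/
theorem result (S : Scheme.{u}) [IsNoetherian S]
    (T : Set S) (t : S) (ht : t ∈ T) :
    ∃ t₀ ∈ T, (∀ t' ∈ T, t' ⤳ t₀ → t' = t₀) ∧ t₀ ⤳ t := by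
  obtain ⟨t₀, ⟨h1, h2⟩, hmin⟩ := (Props.Heights.wellFounded_gt S).has_min
    {t' : S | t' ∈ T ∧ t' ⤳ t} ⟨t, ht, specializes_rfl⟩
  refine ⟨t₀, h1, fun t' ht' hs => ?_, h2⟩
  by_contra hne
  exact hmin t' ⟨ht', hs.trans h2⟩ (Props.Heights.lt_of_specializes S hs hne)

end Groth.Agent.S9793
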