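import Groth.Statements.S9794
import Groth.Agent.Props.Heights
-- import your own Groth.Agent.* helpers here

set_option autoImplicit false
universe u
open CategoryTheory AlgebraicGeometry TopologicalSpace
open Props

namespace Groth.Agent.S9794

/-- In a Noetherian scheme, an infinite dense set of points contains a countable subset which is dense. -/
theorem result (S : Scheme.{u}) [IsNoetherian S]
    (T : Set S) (hT : T.Infinite) (hd : Dense T) :
    ∃ E : Set S, E ⊆ T ∧ E.Countable ∧ Dense E := by
  classical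
  let M : Set S := {g | ∃ E : Set S, E ⊆ T ∧ E.Countable ∧ g ∈ closure E}
  have hMT : ∀ t ∈ T, t ∈ M := fun t ht =>
    ⟨{t}, by simpa using ht, Set.countable_singleton t, subset_closure rfl⟩
  let Mx : Set S := {g ∈ M | ∀ g' ∈ M, g' ⤳ g → g' = g}
  have htop : ∀ g ∈ M, ∃ m ∈ Mx, m ⤳ g := by
    intro g hg
    obtain ⟨m, ⟨h1, h2⟩, hmin⟩ := (Props.Heights.wellFounded_gt S).has_min
      {g' | g' ∈ M ∧ g' ⤳ g} ⟨g, hg, specializes_rfl⟩
    refine ⟨m, ⟨h1, fun g' hg' hs => ?_⟩, h2⟩
    by_contra hne
    exact hmin g' ⟨hg', hs.trans h2⟩ (Props.Heights.lt_of_specializes S hs hne)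
  -- finitely many maximal points: otherwise a countable union produces a bigger one
  have hfin : Mx.Finite := by
    by_contra hinf
    obtain ⟨c, hc, hcsub⟩ : ∃ c, c ⊆ Mx ∧ c.Countable ∧ c.Infinite :=
      ⟨Set.range fun n => ((Set.Infinite.natEmbedding Mx hinf) n).1,
        Set.range_subset_iff.mpr fun n => ((Set.Infinite.natEmbedding Mx hinf) n).2, Set.countable_range _,
        Set.infinite_range_of_injective fun a b h => (Set.Infinite.natEmbedding Mx hinf).injective (Subtype.ext h)⟩
    choose E hET hEc hgE using fun g : c => (hc g.2).1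
    have : Countable c := hcsub.1.to_subtype
    let U : Set S := closure (⋃ g : c, E g)
    obtain ⟨F, hFf, hFc, hFirr, hFu⟩ :=
      TopologicalSpace.NoetherianSpace.exists_finite_set_isClosed_irreducible
        (α := S) (s := U) isClosed_closure
    refine hcsub.2 ((hFf.biUnion (t := fun s => {g | ∃ h : IsIrreducible s, g = h.genericPoint})
      fun s hs => (Set.finite_singleton (hFirr s hs).genericPoint).subset
        (by rintro g ⟨_, rfl⟩; rfl)).subset fun g hg => ?_)
    have hgU : g ∈ U := closure_mono (Set.subset_iUnion E ⟨g, hg⟩) (hgE ⟨g, hg⟩)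
    rw [hFu] at hgU
    obtain ⟨s, hs, hgs⟩ := Set.mem_sUnion.mp hgU
    have hgen := (hFirr s hs).isGenericPoint_genericPoint (hFc s hs)
    have hgM : (hFirr s hs).genericPoint ∈ M :=
      ⟨_, Set.iUnion_subset hET, Set.countable_iUnion hEc,
        ((Set.ext_iff.mp hFu _).mpr (Set.mem_sUnion.mpr ⟨s, hs, hgen.mem⟩) : _ ∈ U)⟩
    exact Set.mem_biUnion hs ⟨hFirr s hs, ((hc hg).2 _ hgM (hgen.specializes hgs)).symm⟩
  choose E hET hEc hgE using fun g : Mx => g.2.1
  have : Countable Mx := hfin.countable.to_subtype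
  refine ⟨⋃ g : Mx, E g, Set.iUnion_subset hET, Set.countable_iUnion hEc, ?_⟩
  refine (dense_closure).mp (hd.mono fun t ht => ?_)
  obtain ⟨m, hm, hmt⟩ := htop t (hMT t ht)
  exact hmt.mem_closed isClosed_closure (closure_mono (Set.subset_iUnion E ⟨m, hm⟩) (hgE ⟨m, hm⟩))

end Groth.Agent.S9794
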