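import Groth.Statements.S9795
import Groth.Agent.Props.DimZero
-- import your own Groth.Agent.* helpers here

set_option autoImplicit false
universe u
open CategoryTheory AlgebraicGeometry TopologicalSpace
open Props

namespace Groth.Agent.S9795

/-- A quasi-separated scheme of dimension at most zero is separated. -/
theorem result (X : Scheme.{u}) [QuasiSeparatedSpace X]
    (h : topologicalKrullDim X ≤ 0) : X.IsSeparated := by
  haveI : T1Space X := Props.DimZero.t1Space_of_topologicalKrullDim_le_zero h
  haveI : T2Space X := Props.DimZero.t2Space_of_quasiSeparated_t1 X
  exact Props.DimZero.isSeparated_of_t2 X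

end Groth.Agent.S9795
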