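import Groth.Statements.S9803
import Groth.Agent.Props.JouRing
import Mathlib.AlgebraicGeometry.QuasiAffine
import Mathlib.AlgebraicGeometry.AffineSpace

set_option autoImplicit false
universe u
open CategoryTheory AlgebraicGeometry TopologicalSpace
open Props

namespace Groth.Agent.S9803

/-- A quasi-affine scheme X admits a morphism from an affine scheme T which, after base change to any
affine scheme over X, becomes isomorphic over that affine scheme to an affine space of fixed
dimension n. -/
theorem result (X : Scheme.{u}) [X.IsQuasiAffine] :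
    ∃ (n : ℕ) (T : Scheme.{u}) (_ : IsAffine T) (p : T ⟶ X),
      ∀ (X' : Scheme.{u}) [IsAffine X'] (g : X' ⟶ X),
        ∃ e : Limits.pullback g p ≅ 𝔸(ULift.{u} (Fin n); X'),
          e.hom ≫ (𝔸(ULift.{u} (Fin n); X') ↘ X') = Limits.pullback.fst g p := by
  classical
  let A := Γ(X, ⊤)
  let j := X.toSpecΓ
  -- a finite cover of `X` by basic opens of `Spec A`
  have hex : ∀ x : X, ∃ a : A, j x ∈ PrimeSpectrum.basicOpen a ∧
      (PrimeSpectrum.basicOpen a : Set (PrimeSpectrum A)) ⊆ Set.range j := by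
    intro x
    obtain ⟨_, ⟨_, ⟨a, rfl⟩, rfl⟩, hxa, ha⟩ := (PrimeSpectrum.isBasis_basic_opens
      (R := A)).exists_subset_of_mem_open (show j x ∈ Set.range j from ⟨x, rfl⟩) j.isOpenEmbedding.isOpen_range
    exact ⟨a, hxa, ha⟩
  choose a₀ hxa ha using hex
  obtain ⟨F, hF⟩ := isCompact_univ.elim_finite_subcover
    (fun x : X => j ⁻¹' (PrimeSpectrum.basicOpen (a₀ x) : Set (PrimeSpectrum A)))
    (fun x => (PrimeSpectrum.basicOpen (a₀ x)).2.preimage j.continuous)
    fun x _ => Set.mem_iUnion.mpr ⟨x, hxa x⟩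
  let r := F.card
  let f : Fin r → A := fun i => a₀ (F.equivFin.symm i)
  let B := Groth.Agent.Props.JouRing.B f
  let ψ : A ⟶ CommRingCat.of B := CommRingCat.ofHom (algebraMap A B)
  have hψ : Set.range (Spec.map ψ) ⊆ Set.range j := by
    rintro _ ⟨t, rfl⟩
    by_contra hc
    have hz : ∀ i, algebraMap A B (f i) ∈ t.asIdeal := fun i => by
      by_contra hi
      exact hc (ha _ hi)
    refine t.isPrime.ne_top ((Ideal.eq_top_iff_one _).mpr ?_)
    have := Ideal.sum_mem (t := (Finset.univ : Finset (Fin r))) t.asIdeal fun i _ =>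
      Ideal.mul_mem_right (Groth.Agent.Props.JouRing.gen f (some i)) _ (hz i)
    rwa [Groth.Agent.Props.JouRing.sum_gen] at this
  refine ⟨r, Spec (CommRingCat.of B), inferInstance, IsOpenImmersion.lift j (Spec.map ψ) hψ,
    fun X' _ g => ?_⟩
  let p := IsOpenImmersion.lift j (Spec.map ψ) hψ
  have hp : p ≫ j = Spec.map ψ := IsOpenImmersion.lift_fac _ _ _
  let R := Γ(X', ⊤)
  let φ : A ⟶ R := g.appTop
  have hg : g ≫ j = X'.isoSpec.hom ≫ Spec.map φ := Scheme.toSpecΓ_naturality g
  letI : Algebra A R := φ.hom.toAlgebra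
  have hspan : Ideal.span (Set.range fun i => algebraMap A R (f i)) = ⊤ := by
    by_contra hne
    obtain ⟨M, hM, hle⟩ := Ideal.exists_le_maximal _ hne
    let q : PrimeSpectrum R := ⟨M, hM.isPrime⟩
    have e : Spec.map φ q = j (g (X'.isoSpec.inv q)) := by
      rw [← Scheme.Hom.comp_apply g j, hg, Scheme.Hom.comp_apply, ← Scheme.Hom.comp_apply X'.isoSpec.inv,
        Iso.inv_hom_id, ]
      rfl
    obtain ⟨y, hy, hxy⟩ := Set.mem_iUnion₂.mp (hF (Set.mem_univ (g (X'.isoSpec.inv q))))
    rw [Set.mem_preimage, ← e] at hxy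
    refine hxy (hle (Ideal.subset_span ⟨F.equivFin ⟨y, hy⟩, ?_⟩))
    simp only [f, Equiv.symm_apply_apply]
    rfl
  obtain ⟨c, hc⟩ := Ideal.mem_span_range_iff_exists_fun.mp
    (show (1 : R) ∈ Ideal.span (Set.range fun i => algebraMap A R (f i)) by rw [hspan]; trivial)
  have hc' : ∑ i, algebraMap A R (f i) * c i = 1 := by
    rw [← hc]; exact Finset.sum_congr rfl fun i _ => mul_comm _ _
  let θ := Groth.Agent.Props.JouRing.equiv f c hc'
  let E₁ : Limits.pullback g p ≅
      Limits.pullback (Spec.map (CommRingCat.ofHom (algebraMap A R))) (Spec.map (CommRingCat.ofHom (algebraMap A B))) :=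
    { hom := Limits.pullback.lift (Limits.pullback.fst g p ≫ X'.isoSpec.hom) (Limits.pullback.snd g p) (by
        change (_ ≫ _) ≫ Spec.map φ = _ ≫ Spec.map ψ
        rw [Category.assoc, ← hg, ← hp, Limits.pullback.condition_assoc])
      inv := Limits.pullback.lift (Limits.pullback.fst _ _ ≫ X'.isoSpec.inv) (Limits.pullback.snd _ _) (by
        rw [← cancel_mono j, Category.assoc, Category.assoc, Category.assoc, hg,
          Iso.inv_hom_id_assoc, hp]
        exact Limits.pullback.condition)
      hom_inv_id := Limits.pullback.hom_ext (by rw [Category.assoc, Category.id_comp, Limits.pullback.lift_fst, Limits.pullback.lift_fst_assoc, Category.assoc, Iso.hom_inv_id, Category.comp_id]) (by rw [Category.assoc, Category.id_comp, Limits.pullback.lift_snd, Limits.pullback.lift_snd])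
      inv_hom_id := Limits.pullback.hom_ext (by rw [Category.assoc, Category.id_comp, Limits.pullback.lift_fst, Limits.pullback.lift_fst_assoc, Category.assoc, Iso.inv_hom_id, Category.comp_id]) (by rw [Category.assoc, Category.id_comp, Limits.pullback.lift_snd, Limits.pullback.lift_snd]) }
  let E₂ : Spec (CommRingCat.of (TensorProduct A R B)) ≅
      Spec (CommRingCat.of (MvPolynomial (ULift.{u} (Fin r)) R)) :=
    Scheme.Spec.mapIso θ.symm.toRingEquiv.toCommRingCatIso.op
  refine ⟨E₁ ≪≫ pullbackSpecIso A R B ≪≫ E₂ ≪≫ (AffineSpace.isoOfIsAffine _ X').symm, ?_⟩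
  have h2 : E₂.hom ≫ Spec.map (CommRingCat.ofHom (MvPolynomial.C (R := R) (σ := ULift.{u} (Fin r)))) =
      Spec.map (CommRingCat.ofHom (algebraMap R (TensorProduct A R B))) := by
    change Spec.map _ ≫ _ = _
    rw [← Spec.map_comp]
    refine congrArg Spec.map (CommRingCat.hom_ext (RingHom.ext fun x => ?_))
    exact θ.symm.commutes x
  simp only [Iso.trans_hom, Iso.symm_hom, Category.assoc, AffineSpace.isoOfIsAffine_inv_over]
  rw [reassoc_of% h2, pullbackSpecIso_hom_fst'_assoc]
  dsimp only [E₁]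
  rw [Limits.pullback.lift_fst_assoc, Category.assoc, Iso.hom_inv_id, Category.comp_id]

end Groth.Agent.S9803
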