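import Groth.Statements.S9804
import Groth.Agent.Props.QAff

set_option autoImplicit false
universe u
open CategoryTheory AlgebraicGeometry TopologicalSpace
open Props

namespace Groth.Agent.S9804

/-- For quasi-affine schemes U and V and an open immersion j : U → V, the scheme U is the fibre product
of the composite U → V → Spec Γ(V, O_V) and the morphism Spec Γ(U, O_U) → Spec Γ(V, O_V) induced by
restriction of sections along j: the square whose sides are the identity of U, the canonical
morphism U → Spec Γ(U, O_U), that composite and that induced morphism is cartesian. -/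
theorem result {U V : Scheme.{u}} (j : U ⟶ V)
    [IsOpenImmersion j] [U.IsQuasiAffine] [V.IsQuasiAffine] :
    IsPullback (𝟙 U) U.toSpecΓ (j ≫ V.toSpecΓ) (Spec.map j.appTop) := by
  refine IsOpenImmersion.isPullback (𝟙 U) U.toSpecΓ (j ≫ V.toSpecΓ) (Spec.map j.appTop) ?_ ?_
  · rw [Category.id_comp, Scheme.toSpecΓ_naturality]
  refine le_antisymm ?_ ?_
  · rintro q ⟨u, hu⟩
    obtain ⟨_, ⟨_, ⟨h, hh, rfl⟩, rfl⟩, huh, hle⟩ :=
      (Scheme.IsQuasiAffine.isBasis_basicOpen V).exists_subset_of_mem_open
        (show j u ∈ (j.opensRange : Set V) from ⟨u, rfl⟩) j.opensRange.2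
    have haff : IsAffineOpen (U.basicOpen (j.appTop h)) := by
      rw [← Scheme.preimage_basicOpen_top]
      exact hh.preimage_of_isOpenImmersion j hle
    refine Groth.Agent.Props.QAff.basicOpen_le_opensRange (j.appTop h) haff ?_
    have h1 : V.toSpecΓ (j u) ∈ PrimeSpectrum.basicOpen h :=
      (V.toSpecΓ_preimage_basicOpen h).ge huh
    rw [show V.toSpecΓ (j u) = Spec.map j.appTop q from hu] at h1
    exact h1
  · rintro _ ⟨u, rfl⟩
    refine ⟨u, ?_⟩
    rw [← Scheme.Hom.comp_apply U.toSpecΓ (Spec.map j.appTop), ← Scheme.toSpecΓ_naturality]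

end Groth.Agent.S9804
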