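import Groth.Statements.S9807
import Groth.Agent.S4713
import Groth.Agent.Props.StalkLoc
import Groth.Agent.RegLoc.Homological
-- import your own Groth.Agent.* helpers here

set_option autoImplicit false
universe u
open CategoryTheory AlgebraicGeometry TopologicalSpace
open Props

namespace Groth.Agent.S9807

/-- A locally Noetherian scheme is regular (all local rings regular) as soon as its local rings at
closed points are regular, and conversely. -/
theorem result (X : Scheme.{u}) [IsLocallyNoetherian X] :
    (∀ x : X, IsRegularLocalRing (X.presheaf.stalk x)) ↔
      ∀ x : X, IsClosed ({x} : Set X) → IsRegularLocalRing (X.presheaf.stalk x) := by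
  refine ⟨fun h x _ => h x, fun h x => ?_⟩
  obtain ⟨c, hc, hcc⟩ :=
    S4713.result X (closure {x}) isClosed_closure ⟨x, subset_closure rfl⟩
  obtain ⟨P, hP, ⟨e⟩⟩ := Props.StalkLoc.exists_prime_equiv (specializes_iff_mem_closure.mpr hc)
  haveI := h c hcc
  haveI := RegLoc.Homological.isRegularLocalRing_localization P
  exact IsRegularLocalRing.of_ringEquiv e

end Groth.Agent.S9807
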