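import Groth.Statements.S9808
import Groth.Agent.S4713
import Groth.Agent.Props.StalkLoc
import Groth.Agent.Depth.CM
-- import your own Groth.Agent.* helpers here

set_option autoImplicit false
universe u
open CategoryTheory AlgebraicGeometry TopologicalSpace
open Props

namespace Groth.Agent.S9808

/-- A locally Noetherian scheme is Cohen-Macaulay (all local rings Cohen-Macaulay) as soon as its local
rings at closed points are Cohen-Macaulay, and conversely. -/
theorem result (X : Scheme.{u}) [IsLocallyNoetherian X] :
    (∀ x : X, LocCoh.IsCohenMacaulayLocalRing (X.presheaf.stalk x)) ↔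
      ∀ x : X, IsClosed ({x} : Set X) → LocCoh.IsCohenMacaulayLocalRing (X.presheaf.stalk x) := by
  refine ⟨fun h x _ => h x, fun h x => ?_⟩
  obtain ⟨c, hc, hcc⟩ :=
    S4713.result X (closure {x}) isClosed_closure ⟨x, subset_closure rfl⟩
  obtain ⟨P, hP, ⟨e⟩⟩ := Props.StalkLoc.exists_prime_equiv (specializes_iff_mem_closure.mpr hc)
  haveI := h c hcc
  haveI := Depth.isCohenMacaulayLocalRing_localization P
  haveI : IsNoetherianRing (X.presheaf.stalk x) := isNoetherianRing_of_ringEquiv _ e
  letI : Algebra (Localization.AtPrime P) (X.presheaf.stalk x) := e.toRingHom.toAlgebra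
  haveI : Module.Finite (Localization.AtPrime P) (X.presheaf.stalk x) :=
    Module.Finite.of_surjective (Algebra.linearMap _ _) e.surjective
  refine Depth.isCohenMacaulayLocalRing_iff.mpr ?_
  exact (Depth.isCohenMacaulayModule_iff_of_surjective (R := Localization.AtPrime P)
    (S := X.presheaf.stalk x) (N := X.presheaf.stalk x) e.surjective).mpr
    ((Depth.isCohenMacaulayModule_congr (LinearEquiv.ofBijective (Algebra.linearMap _ _) e.bijective)).mp
      (Depth.isCohenMacaulayModule_self _))

end Groth.Agent.S9808
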