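import Groth.Statements.S9809
import Groth.Agent.Hens51.Unibranch
import Groth.Agent.CycLib.SpecPt
import Groth.Agent.Hens.Construction
-- import your own Groth.Agent.* helpers here

set_option autoImplicit false
universe u
open CategoryTheory AlgebraicGeometry TopologicalSpace
open Props

namespace Groth.Agent.S9809

open IsLocalRing in
lemma closure_singleton_mem_irreducibleComponents_iff {X : Scheme.{u}} {x : X} :
    closure ({x} : Set X) ∈ irreducibleComponents X ↔ ∀ ζ : X, ζ ⤳ x → ζ = x := by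
  constructor
  · intro h ζ hζ
    have hle : closure ({x} : Set X) ⊆ closure {ζ} := by
      rw [← specializes_iff_closure_subset]
      exact hζ
    have := h.2 (isIrreducible_singleton (x := ζ)).closure hle
    exact (specializes_iff_mem_closure.mpr (this (subset_closure rfl))).antisymm hζ |>.eq.symm
  · intro h
    let Z := irreducibleComponent x
    have hZ : IsIrreducible Z := isIrreducible_irreducibleComponent
    have hg := hZ.isGenericPoint_genericPoint_closure
    have hZc : closure Z = Z := isClosed_irreducibleComponent.closure_eq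
    have hgx : hZ.genericPoint ⤳ x := by
      refine specializes_iff_mem_closure.mpr ?_
      rw [hg.def, hZc]
      exact mem_irreducibleComponent
    have he := h _ hgx
    have hd : closure ({x} : Set X) = Z := by
      rw [← he, hg.def, hZc]
    rw [hd]
    exact irreducibleComponent_mem_irreducibleComponents x

open IsLocalRing in
lemma ptPrime_eq_closedPoint_iff {X : Scheme.{u}} {x ζ : X} (h : ζ ⤳ x) :
    Groth.Agent.CycLib.ptPrime x ζ h = closedPoint (X.presheaf.stalk x) ↔ ζ = x := by
  constructor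
  · intro e
    rw [← Groth.Agent.CycLib.fromSpecStalk_ptPrime x ζ h, e, Scheme.fromSpecStalk_closedPoint]
  · intro e
    refine (X.fromSpecStalk x).isEmbedding.injective ?_
    rw [Groth.Agent.CycLib.fromSpecStalk_ptPrime, Scheme.fromSpecStalk_closedPoint, e]

open IsLocalRing in
lemma connectedSpace_punctured {R : Type u} [CommRing R] [IsLocalRing R] {P : Ideal R}
    (hP : P ∈ minimalPrimes R) (hu : ∀ Q ∈ minimalPrimes R, Q = P) (hne : P ≠ maximalIdeal R) :
    ConnectedSpace ↥({closedPoint R}ᶜ : Set (PrimeSpectrum R)) := by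
  haveI := hP.1.1
  let η : PrimeSpectrum R := ⟨P, inferInstance⟩
  have hη : η ∈ ({closedPoint R}ᶜ : Set (PrimeSpectrum R)) := fun h =>
    hne (congrArg PrimeSpectrum.asIdeal (Set.mem_singleton_iff.mp h))
  refine isConnected_iff_connectedSpace.mp
    ⟨⟨η, hη⟩, isPreconnected_singleton.subset_closure (Set.singleton_subset_iff.mpr hη) fun q _ => ?_⟩
  rw [← specializes_iff_mem_closure, ← PrimeSpectrum.le_iff_specializes]
  obtain ⟨Q, hQ, hle⟩ := Ideal.exists_minimalPrimes_le (bot_le : (⊥ : Ideal R) ≤ q.asIdeal)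
  exact (hu Q hQ).symm.le.trans hle

open IsLocalRing in
lemma hasUniqueMinimalPrime_of_connected {R : Type u} [CommRing R] [IsLocalRing R]
    [IsNoetherianRing R] (hc : ConnectedSpace ↥({closedPoint R}ᶜ : Set (PrimeSpectrum R)))
    (h : ∀ r : Ideal R, r.IsPrime → r ≠ maximalIdeal R → ∀ q₁ ∈ minimalPrimes R,
      ∀ q₂ ∈ minimalPrimes R, q₁ ≤ r → q₂ ≤ r → q₁ = q₂) :
    CAlgX.HasUniqueMinimalPrime R := by
  obtain ⟨P₀, hP₀, -⟩ := Ideal.exists_minimalPrimes_le
    (bot_le : (⊥ : Ideal R) ≤ maximalIdeal R)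
  refine ⟨P₀, hP₀, fun P hP => ?_⟩
  by_contra hne
  haveI := hP.1.1
  haveI := hP₀.1.1
  have hcase : ∀ Q Q' : Ideal R, Q ∈ minimalPrimes R → Q' ∈ minimalPrimes R → Q' ≠ Q →
      Q ≠ maximalIdeal R := fun Q Q' hQ hQ' hne e => hne (le_antisymm
        (e ▸ IsLocalRing.le_maximalIdeal hQ'.1.1.ne_top)
        (hQ.2 ⟨hQ'.1.1, bot_le⟩ (e ▸ IsLocalRing.le_maximalIdeal hQ'.1.1.ne_top)))
  let a : PrimeSpectrum R := ⟨P₀, inferInstance⟩
  let b : PrimeSpectrum R := ⟨P, inferInstance⟩
  have ha : a ∈ ({closedPoint R}ᶜ : Set (PrimeSpectrum R)) := fun h =>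
    hcase P₀ P hP₀ hP hne (congrArg PrimeSpectrum.asIdeal (Set.mem_singleton_iff.mp h))
  have hb : b ∈ ({closedPoint R}ᶜ : Set (PrimeSpectrum R)) := fun h =>
    hcase P P₀ hP hP₀ (Ne.symm hne) (congrArg PrimeSpectrum.asIdeal (Set.mem_singleton_iff.mp h))
  let t' : Set (PrimeSpectrum R) :=
    ⋃ Q ∈ minimalPrimes R \ {P₀}, PrimeSpectrum.zeroLocus (Q : Set R)
  have hpre : _root_.IsPreconnected ({closedPoint R}ᶜ : Set (PrimeSpectrum R)) :=
    (isConnected_iff_connectedSpace.mpr hc).isPreconnected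
  obtain ⟨q, hqU, hq₁, hq₂⟩ := isPreconnected_closed_iff.mp hpre
    (PrimeSpectrum.zeroLocus (P₀ : Set R)) t' (PrimeSpectrum.isClosed_zeroLocus _)
    (((minimalPrimes.finite_of_isNoetherianRing R).subset Set.sdiff_subset).isClosed_biUnion
      fun Q _ => PrimeSpectrum.isClosed_zeroLocus _)
    (fun q _ => by
      obtain ⟨Q, hQ, hle⟩ := Ideal.exists_minimalPrimes_le (bot_le : (⊥ : Ideal R) ≤ q.asIdeal)
      by_cases e : Q = P₀
      · exact Or.inl (e ▸ hle)
      · exact Or.inr (Set.mem_biUnion ⟨hQ, e⟩ hle))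
    ⟨a, ha, show (P₀ : Set R) ⊆ P₀ from subset_rfl⟩
    ⟨b, hb, Set.mem_biUnion ⟨hP, hne⟩ (show (P : Set R) ⊆ P from subset_rfl)⟩
  obtain ⟨Q, ⟨hQ, hQne⟩, hQq⟩ := Set.mem_iUnion₂.mp hq₂
  exact hQne (h q.asIdeal q.2 (fun e => hqU (Set.mem_singleton_iff.mpr (PrimeSpectrum.ext e)))
    Q hQ P₀ hP₀ hQq hq₁)

/-- A Noetherian scheme is geometrically unibranch (all local rings geometrically unibranch) if and only
if at every point which is not the generic point of an irreducible component, the punctured spectrum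
of a strict henselization of the local ring is connected. -/
theorem result
    (X : Scheme.{u}) [IsNoetherian X] :
    (∀ x : X, CAlg2.IsGeomUnibranch (X.presheaf.stalk x)) ↔
      ∀ (x : X), closure ({x} : Set X) ∉ irreducibleComponents X →
        ∀ (Ash : Type u) [CommRing Ash] [IsLocalRing Ash] [Algebra (X.presheaf.stalk x) Ash]
          [IsLocalHom (algebraMap (X.presheaf.stalk x) Ash)]
          [Hensel.IsStrictHenselization (X.presheaf.stalk x) Ash],
          ConnectedSpace ↥({IsLocalRing.closedPoint Ash}ᶜ : Set (PrimeSpectrum Ash)) := by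
  constructor
  · intro hX x hx Ash _ _ _ _ _
    obtain ⟨P, hP, hu⟩ := (S2135.result (A := X.presheaf.stalk x) (Ash := Ash)).mp (hX x)
    refine connectedSpace_punctured hP hu fun hPm => ?_
    rw [closure_singleton_mem_irreducibleComponents_iff] at hx
    push Not at hx
    obtain ⟨ζ, hζ, hne⟩ := hx
    refine hne ((ptPrime_eq_closedPoint_iff hζ).mp (PrimeSpectrum.ext ?_))
    have h := Groth.Agent.Hensel.isEtLike_of_isStrictHenselization (X.presheaf.stalk x) Ash
    obtain ⟨⟨Q, hQ⟩, e⟩ := h.comap_surjective (Groth.Agent.CycLib.ptPrime x ζ hζ)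
    haveI := hQ
    obtain ⟨Q', hQ', hle⟩ := Ideal.exists_minimalPrimes_le (bot_le : (⊥ : Ideal Ash) ≤ Q)
    have hQm : Q = IsLocalRing.maximalIdeal Ash :=
      le_antisymm (IsLocalRing.le_maximalIdeal hQ.ne_top) (hPm ▸ hu Q' hQ' ▸ hle)
    rw [← e]
    show Q.comap (algebraMap _ Ash) = IsLocalRing.maximalIdeal _
    rw [hQm]
    exact IsLocalRing.maximalIdeal_comap (algebraMap (X.presheaf.stalk x) Ash)
  · intro hX x
    suffices H : ∀ n : ℕ∞, ∀ p : PrimeSpectrum (X.presheaf.stalk x), p.asIdeal.height = n →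
        CAlg2.IsGeomUnibranch (X.presheaf.stalk (X.fromSpecStalk x p)) by
      have := H _ (IsLocalRing.closedPoint (X.presheaf.stalk x)) rfl
      rwa [Scheme.fromSpecStalk_closedPoint] at this
    intro n
    induction n using WellFoundedLT.induction with
    | _ n IH =>
      intro p hp
      obtain ⟨ζ, hζ, hpe⟩ := Groth.Agent.CycLib.exists_ptPrime x p
      subst hpe
      rw [Groth.Agent.CycLib.fromSpecStalk_ptPrime]
      let A := X.presheaf.stalk ζ
      let Ash := Groth.Agent.Hens.StrictHenselization A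
      have h := Groth.Agent.Hensel.isEtLike_of_isStrictHenselization A Ash
      rw [S2135.result (A := A) (Ash := Ash)]
      by_cases hgen : closure ({ζ} : Set X) ∈ irreducibleComponents X
      · rw [closure_singleton_mem_irreducibleComponents_iff] at hgen
        refine Groth.Agent.Hens51.hasUniqueMinimalPrime_of_forall_eq h fun q hq => ?_
        obtain ⟨ξ, hξ, e⟩ := Groth.Agent.CycLib.exists_ptPrime ζ ⟨q, hq⟩
        have := (ptPrime_eq_closedPoint_iff hξ).mpr (hgen ξ hξ)
        exact congrArg PrimeSpectrum.asIdeal (e.symm.trans this)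
      · haveI : IsNoetherianRing Ash := h.isNoetherianRing_of_base
        refine hasUniqueMinimalPrime_of_connected (hX ζ hgen Ash) fun r hr hrm q₁ hq₁ q₂ hq₂ l₁ l₂ => ?_
        haveI := hr
        obtain ⟨ξ, hξ, e⟩ := Groth.Agent.CycLib.exists_ptPrime ζ
          ⟨r.comap (algebraMap A Ash), inferInstance⟩
        have hξne : ξ ≠ ζ := fun he => by
          have h1 := congrArg PrimeSpectrum.asIdeal
            (e.symm.trans ((ptPrime_eq_closedPoint_iff hξ).mpr he))
          refine hrm (h.eq_of_le_of_comap_eq (IsLocalRing.le_maximalIdeal hr.ne_top) ?_)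
          exact (show r.comap (algebraMap A Ash) = IsLocalRing.maximalIdeal A from h1).trans
            (IsLocalRing.maximalIdeal_comap (algebraMap A Ash)).symm
        have hξx : ξ ⤳ x := hξ.trans hζ
        have hlt : (Groth.Agent.CycLib.ptPrime x ξ hξx).asIdeal <
            (Groth.Agent.CycLib.ptPrime x ζ hζ).asIdeal := by
          refine lt_of_le_not_ge ((Groth.Agent.CycLib.ptPrime_le_iff hξx hζ).mpr hξ) fun hge => hξne ?_
          exact (hξ.antisymm ((Groth.Agent.CycLib.ptPrime_le_iff hζ hξx).mp hge)).eq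
        have hu := IH _ (hp ▸ Ideal.height_strict_mono_of_isPrime hlt)
          (Groth.Agent.CycLib.ptPrime x ξ hξx) rfl
        rw [Groth.Agent.CycLib.fromSpecStalk_ptPrime] at hu
        letI := (X.presheaf.stalkSpecializes hξ).hom.toAlgebra
        haveI := Groth.Agent.CycLib.isLocalization_stalkSpecializes hξ
        haveI : (RingHom.ker (Cyc.specMap ζ ξ hξ)).IsPrime := RingHom.ker_isPrime _
        exact Groth.Agent.Hens51.eq_of_le r (RingHom.ker (Cyc.specMap ζ ξ hξ))
          (congrArg PrimeSpectrum.asIdeal e).symm (X.presheaf.stalk ξ) hu hq₁ hq₂ l₁ l₂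

end Groth.Agent.S9809
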