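import Groth.Statements.S9811
import Groth.Agent.Hens.BranchSum
import Groth.Agent.S9238

set_option linter.style.haveILetI false

set_option autoImplicit false
universe u
open Brnch

namespace Groth.Agent.S9811

/-- Geometric branches, in terms of the local ring: for a local ring A with finitely many minimal prime
ideals, the number of geometric branches of A is the sum over the minimal primes p of the numbers of
geometric branches of the local domains A/p. -/
theorem result (A : Type u) [CommRing A] [IsLocalRing A]
    (h : (minimalPrimes A).Finite) :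
    Brnch.numGeomBranches A =
      ∑ᶠ p : minimalPrimes A,
        haveI : p.1.IsPrime := p.2.1.1
        Brnch.numGeomBranches (A ⧸ p.1) := by
  let Sh := Groth.Agent.Hens.StrictHenselization A
  have hEt := Groth.Agent.Hensel.isEtLike_of_isStrictHenselization A Sh
  classical
  haveI := h.fintype
  haveI : ∀ p : minimalPrimes A, IsLocalRing (A ⧸ p.1) := fun p =>
    haveI := p.2.1.1
    inferInstance
  haveI hne : ∀ p : minimalPrimes A, Nontrivial (Sh ⧸ p.1.map (algebraMap A Sh)) := fun p => by
    refine Ideal.Quotient.nontrivial_iff.2 fun htop => ?_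
    have h1 := congrArg (Ideal.comap (algebraMap A Sh)) htop
    rw [hEt.comap_map_eq, Ideal.comap_top] at h1
    exact p.2.1.1.ne_top h1
  haveI : ∀ p : minimalPrimes A, IsLocalRing (Sh ⧸ p.1.map (algebraMap A Sh)) := fun p =>
    IsLocalRing.of_surjective' (Ideal.Quotient.mk _) Ideal.Quotient.mk_surjective
  haveI : ∀ p : minimalPrimes A,
      IsLocalHom (algebraMap (A ⧸ p.1) (Sh ⧸ p.1.map (algebraMap A Sh))) := fun p => ⟨fun x hx => by
    obtain ⟨a, rfl⟩ := Ideal.Quotient.mk_surjective x
    haveI : IsLocalHom (Ideal.Quotient.mk (p.1.map (algebraMap A Sh))) :=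
      .of_surjective _ Ideal.Quotient.mk_surjective
    exact (isUnit_of_map_unit (algebraMap A Sh) a
      (isUnit_of_map_unit (Ideal.Quotient.mk (p.1.map (algebraMap A Sh))) _ hx)).map _⟩
  rw [← Groth.Agent.S9238.result A Sh, Groth.Agent.Hens.card_minimalPrimes_eq_finsum hEt h]
  refine finsum_congr fun p => ?_
  haveI : Hensel.IsStrictHenselization (A ⧸ p.1) (Sh ⧸ p.1.map (algebraMap A Sh)) :=
    Groth.Agent.Hens.isStrictHenselization_quotient p.1
  exact Groth.Agent.S9238.result (A ⧸ p.1) (Sh ⧸ p.1.map (algebraMap A Sh))

end Groth.Agent.S9811
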