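import Groth.Statements.S9817
import Groth.Agent.S9814
import Groth.Agent.Props.ProjFrame
import Mathlib.Algebra.BigOperators.Associated

set_option autoImplicit false
universe u
open CategoryTheory CategoryTheory.Limits AlgebraicGeometry TopologicalSpace
open Props

namespace Groth.Agent.S9817

/-- For a quasi-compact scheme X admitting an open immersion j into Proj of a graded ring, some positive
twist O(d) pulls back along j to an ample invertible module on X. -/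
theorem result {R A : Type u} [CommRing R] [CommRing A]
    [Algebra R A] (𝒜 : ℕ → Submodule R A) [GradedAlgebra 𝒜] (X : Scheme.{u}) [CompactSpace X]
    (j : X ⟶ Proj 𝒜) [IsOpenImmersion j] :
    ∃ d : ℕ, 0 < d ∧ CohB1.IsAmple ((Scheme.Modules.pullback j).obj (Twist.twist 𝒜 (d : ℤ))) := by
  classical
  -- finitely many `D₊(f)` cover the image
  choose m₀ f₀ hf₀ hxf₀ hle₀ using fun x : X =>
    Groth.Agent.Props.ProjFrame.exists_basicOpen_le (𝒜 := 𝒜) (U := (⊤ : (Proj 𝒜).Opens)) (x := j x) trivial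
  obtain ⟨Fs, hFs⟩ := isCompact_univ.elim_finite_subcover
    (fun x : X => ((j ⁻¹ᵁ Proj.basicOpen 𝒜 (f₀ x) : X.Opens) : Set X))
    (fun x => (j ⁻¹ᵁ _).2) fun x _ => Set.mem_iUnion.mpr ⟨x, hxf₀ x⟩
  let D := ∏ x ∈ Fs, (m₀ x + 1)
  have hD : 0 < D := Finset.prod_pos fun x _ => Nat.succ_pos _
  have hex : ∀ i : Fs, ∃ F : A, F ∈ 𝒜 D ∧ Proj.basicOpen 𝒜 F = Proj.basicOpen 𝒜 (f₀ i) := by
    intro i
    obtain ⟨c, hc⟩ : m₀ i + 1 ∣ D := Finset.dvd_prod_of_mem (fun x => m₀ x + 1) i.2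
    have hc0 : 0 < c := Nat.pos_of_ne_zero fun h => by simp [h] at hc; omega
    refine ⟨f₀ i ^ c, ?_, Proj.basicOpen_pow 𝒜 _ c hc0⟩
    rw [hc, mul_comm, ← smul_eq_mul]
    exact SetLike.pow_mem_graded c (hf₀ i)
  choose F hFD hF using hex
  let L := (Scheme.Modules.pullback j).obj (Twist.twist 𝒜 (D : ℤ))
  let e : ∀ i : Fs, Γ(L, j ⁻¹ᵁ Proj.basicOpen 𝒜 (F i)) := fun i =>
    Groth.Agent.Props.GenPull.pb j (Groth.Agent.Props.ProjFrame.frac (hFD i) _)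
  have he : ∀ i : Fs, Groth.Agent.Props.GenLocus.IsGen L _ (e i) := fun i =>
    Groth.Agent.Props.GenPull.isGen_pb j (Groth.Agent.Props.ProjFrame.isGen_frac (hFD i))
  have hcov : ∀ x : X, ∃ i : Fs, x ∈ j ⁻¹ᵁ Proj.basicOpen 𝒜 (F i) := by
    intro x
    obtain ⟨y, hy, hxy⟩ := Set.mem_iUnion₂.mp (hFs (Set.mem_univ x))
    exact ⟨⟨y, hy⟩, by rw [hF]; exact hxy⟩
  have hinv : PicF.IsInvertible L := fun x =>
    let ⟨i, hi⟩ := hcov x
    ⟨_, hi, ((Groth.Agent.Props.GenLocus.isGen_iff_isFrame _).mp (he i)).nonempty_restrict_iso⟩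
  suffices hB : Opens.IsBasis {U : X.Opens | ∃ (n : ℕ) (s : Coh.structureModule X ⟶
      CohB1.tensorPow L (n + 1)), U = CohB1.genLocus _ s} by
    refine ⟨D, hD, hinv, inferInstance, fun x => ?_⟩
    obtain ⟨_, ⟨haff, n, s, rfl⟩, hx, -⟩ := Opens.isBasis_iff_nbhd.mp
      (S9814.result _ _ hinv hB) (U := ⊤) (x := x) trivial
    exact ⟨n, s, hx, haff⟩
  rw [Opens.isBasis_iff_nbhd]
  intro O z hz
  obtain ⟨m, g, hg, hzg, hgO⟩ := Groth.Agent.Props.ProjFrame.exists_basicOpen_le (𝒜 := 𝒜)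
    (U := j ''ᵁ O) (x := j z) ⟨z, hz, rfl⟩
  have hgD : g ^ D ∈ 𝒜 (D * (m + 1)) := by
    rw [← smul_eq_mul]; exact SetLike.pow_mem_graded D hg
  have hFm : ∀ i : Fs, F i ^ (m + 1) ∈ 𝒜 (D * (m + 1)) := fun i => by
    rw [mul_comm, ← smul_eq_mul]; exact SetLike.pow_mem_graded _ (hFD i)
  have hle : ∀ i : Fs, Proj.basicOpen 𝒜 (F i) ≤ Proj.basicOpen 𝒜 (F i ^ (m + 1)) := fun i =>
    (Proj.basicOpen_pow 𝒜 _ _ (Nat.succ_pos m)).ge
  let c : ∀ i : Fs, Γ(Proj 𝒜, Proj.basicOpen 𝒜 (F i)) := fun i =>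
    Groth.Agent.Props.ProjFrame.coeff hgD (hFm i) _ (hle i)
  obtain ⟨s, hs⟩ := Groth.Agent.Props.GenExt.exists_hom_of_cover (L := L)
    (fun i : Fs => j ⁻¹ᵁ Proj.basicOpen 𝒜 (F i))
    (fun x _ => Opens.mem_iSup.mpr (hcov x)) e he (m + 1) (fun i => j.app _ (c i)) (by
      intro i k u' hu'
      obtain ⟨u, -, hu⟩ := Groth.Agent.Props.GenProd.exists_unit_smul
        ((Groth.Agent.Props.ProjFrame.isGen_frac (hFD i)).restrict
          (inf_le_left : Proj.basicOpen 𝒜 (F i) ⊓ Proj.basicOpen 𝒜 (F k) ≤ _))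
        ((Groth.Agent.Props.ProjFrame.isGen_frac (hFD k)).restrict
          (inf_le_right : Proj.basicOpen 𝒜 (F i) ⊓ Proj.basicOpen 𝒜 (F k) ≤ _))
      have h1 := congrArg (Groth.Agent.LFFrame.unitSec j (Twist.twist 𝒜 (D : ℤ))
        (Proj.basicOpen 𝒜 (F i) ⊓ Proj.basicOpen 𝒜 (F k))) hu
      rw [Groth.Agent.LFFrame.unitSec_smul, Groth.Agent.LFFrame.unitSec_res,
        Groth.Agent.LFFrame.unitSec_res] at h1
      have h2 : u' = j.app _ u :=
        ((he i).restrict (j.preimage_mono (inf_le_left :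
          Proj.basicOpen 𝒜 (F i) ⊓ Proj.basicOpen 𝒜 (F k) ≤ _))).injective le_rfl
          (by rw [Groth.Agent.QCoh.res_self]; exact hu'.symm.trans h1)
      have h3 := congrArg (j.app (Proj.basicOpen 𝒜 (F i) ⊓ Proj.basicOpen 𝒜 (F k)))
        (Groth.Agent.Props.ProjFrame.coeff_change (hFD i) (hFD k) hgD hu (hFm i) (hFm k) (hle i) (hle k))
      rw [map_mul, map_pow, Groth.Agent.Props.GenPull.app_rres,
        Groth.Agent.Props.GenPull.app_rres, ← h2] at h3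
      exact h3)
  have hgen : CohB1.genLocus _ s = j ⁻¹ᵁ Proj.basicOpen 𝒜 g := by
    ext x
    obtain ⟨i, hi⟩ := hcov x
    have h1 := (hs i).2
    rw [← Scheme.preimage_basicOpen j, Groth.Agent.Props.ProjFrame.basicOpen_coeff,
      Proj.basicOpen_pow 𝒜 _ _ hD] at h1
    have h2 := congrArg (fun U : X.Opens => x ∈ U) h1
    have e1 : x ∈ j ⁻¹ᵁ (Proj.basicOpen 𝒜 (F i) ⊓ Proj.basicOpen 𝒜 g) ↔
        x ∈ j ⁻¹ᵁ Proj.basicOpen 𝒜 (F i) ∧ x ∈ j ⁻¹ᵁ Proj.basicOpen 𝒜 g := Iff.rfl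
    simp only [Opens.mem_inf, eq_iff_iff, SetLike.mem_coe, e1] at h2 ⊢
    tauto
  refine ⟨_, ⟨m, s, rfl⟩, ?_, ?_⟩
  · rw [hgen]; exact hzg
  · rw [hgen]
    intro y hy
    exact (j.preimage_image_eq O).le (hgO hy)

end Groth.Agent.S9817
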