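import Groth.Statements.S9822
import Mathlib.AlgebraicGeometry.Limits
-- import your own Groth.Agent.* helpers here

set_option autoImplicit false
universe u
open CategoryTheory CategoryTheory.Limits AlgebraicGeometry TopologicalSpace Opposite
open Props

namespace Groth.Agent.S9822

/-- A scheme is irreducible if and only if it is nonempty and every nonempty affine open subset is
irreducible. -/
theorem result (X : Scheme.{u}) :
    IrreducibleSpace X ↔ Nonempty X ∧ ∀ U : X.Opens, IsAffineOpen U → (U : Set X).Nonempty → IsIrreducible (U : Set X) := by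
  constructor
  · intro h
    exact ⟨inferInstance, fun U _ hne =>
      ⟨hne, (PreirreducibleSpace.isPreirreducible_univ (X := X)).open_subset U.2 (Set.subset_univ _)⟩⟩
  · rintro ⟨hne, h⟩
    refine @IrreducibleSpace.mk _ _ ⟨?_⟩ hne
    rintro u v hu hv ⟨a, -, ha⟩ ⟨b, -, hb⟩
    obtain ⟨_, ⟨A, hA, rfl⟩, haA, hAu⟩ :=
      X.isBasis_affineOpens.exists_subset_of_mem_open ha hu
    obtain ⟨_, ⟨B, hB, rfl⟩, hbB, hBv⟩ :=
      X.isBasis_affineOpens.exists_subset_of_mem_open hb hv
    by_contra hcon
    rw [Set.univ_inter, Set.not_nonempty_iff_eq_empty] at hcon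
    have hdisj : Disjoint A B := by
      rw [disjoint_iff, ← TopologicalSpace.Opens.coe_inj, TopologicalSpace.Opens.coe_inf,
        TopologicalSpace.Opens.coe_bot, ← Set.subset_empty_iff, ← hcon]
      exact Set.inter_subset_inter hAu hBv
    have hAB : IsAffineOpen (A ⊔ B) := IsAffineOpen.sup_of_disjoint hA hB hdisj
    obtain ⟨y, -, hyA, hyB⟩ := (h _ hAB ⟨a, Or.inl haA⟩).2 A B A.2 B.2
      ⟨a, Or.inl haA, haA⟩ ⟨b, Or.inr hbB, hbB⟩
    exact Set.eq_empty_iff_forall_notMem.mp hcon y ⟨hAu hyA, hBv hyB⟩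

end Groth.Agent.S9822
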