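import Groth.Statements.S9832
import Groth.Agent.S3432
-- import your own Groth.Agent.* helpers here

set_option autoImplicit false
universe u
open Props

namespace Groth.Agent.S9832

/-- For a Noetherian ring R and an ideal I inside the Jacobson radical of R, the complement of V(I) in
Spec R is a Jacobson topological space. -/
theorem result (R : Type u) [CommRing R] [IsNoetherianRing R]
    (I : Ideal R) (hI : I ≤ (⊥ : Ideal R).jacobson) :
    JacobsonSpace ↥((PrimeSpectrum.zeroLocus (I : Set R))ᶜ) := by
  refine S3432.result (AlgebraicGeometry.Spec (CommRingCat.of R)) (PrimeSpectrum.zeroLocus (I : Set R))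
    (PrimeSpectrum.isClosed_zeroLocus _) fun Z hZ hne => ?_
  obtain ⟨J, rfl⟩ := (PrimeSpectrum.isClosed_iff_zeroLocus_ideal Z).mp hZ
  obtain ⟨M, hM, hJM⟩ := J.exists_le_maximal fun h => by
    rw [h] at hne; simp at hne; exact Set.not_nonempty_empty hne
  exact ⟨⟨M, hM.isPrime⟩, hJM, hI.trans (sInf_le ⟨bot_le, hM⟩)⟩

end Groth.Agent.S9832
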