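import Groth.Statements.S9834
import Groth.Agent.Props.N2Local
import Mathlib.RingTheory.Localization.InvSubmonoid
-- import your own Groth.Agent.* helpers here

set_option autoImplicit false
universe u
open CategoryTheory AlgebraicGeometry TopologicalSpace
open Props

namespace Groth.Agent.S9834

/-- If a scheme has an affine open covering by spectra of universally Japanese rings, then the
coordinate ring of every affine open is universally Japanese. -/
theorem result (X : Scheme.{u}) {ι : Type u} (U : ι → X.Opens)
    (hU : iSup U = ⊤) (haff : ∀ i, IsAffineOpen (U i)) (hJ : ∀ i, CAlg.IsUniversallyJapanese Γ(X, U i))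
    (V : X.Opens) (hV : IsAffineOpen V) : CAlg.IsUniversallyJapanese Γ(X, V) := by
  have key : ∀ V : X.affineOpens, CAlg.IsUniversallyJapanese Γ(X, V) := by
    intro V
    induction V using of_affine_open_cover (fun i => (⟨U i, haff i⟩ : X.affineOpens)) hU with
    | basicOpen W f hW =>
      haveI := W.2.isLocalization_basicOpen f
      haveI : Algebra.FiniteType Γ(X, W) Γ(X, X.basicOpen f) :=
        IsLocalization.finiteType_of_monoid_fg (Submonoid.powers f) _
      exact Props.N2Local.isUniversallyJapanese_of_finiteType hW Γ(X, X.basicOpen f)
    | openCover W s hs hW =>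
      haveI : ∀ f, IsLocalization.Away f Γ(X, X.basicOpen (U := (W : X.Opens)) f) :=
        fun f => W.2.isLocalization_basicOpen f
      exact Props.N2Local.isUniversallyJapanese_of_span s hs
        (fun f => Γ(X, X.basicOpen (U := (W : X.Opens)) f)) fun f hf => hW ⟨f, hf⟩
    | hU i => exact hJ i
  exact key ⟨V, hV⟩

end Groth.Agent.S9834
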