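import Groth.Statements.S9835
import Groth.Agent.Props.N2Local
-- import your own Groth.Agent.* helpers here

set_option autoImplicit false
universe u
open CategoryTheory AlgebraicGeometry TopologicalSpace
open Props

namespace Groth.Agent.S9835

/-- If an integral scheme has an affine open covering by spectra of Japanese (N-2) domains, then the
coordinate ring of every nonempty affine open is a Japanese domain. -/
theorem result (X : Scheme.{u}) [IsIntegral X] {ι : Type u}
    (U : ι → X.Opens) [∀ i, Nonempty (U i)] (hU : iSup U = ⊤) (haff : ∀ i, IsAffineOpen (U i))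
    (hJ : ∀ i, CAlg.IsN2 Γ(X, U i)) (V : X.Opens) [Nonempty V] (hV : IsAffineOpen V) :
    CAlg.IsN2 Γ(X, V) := by
  have key : ∀ V : X.affineOpens, ∀ [Nonempty (V : X.Opens)], CAlg.IsN2 Γ(X, V) := by
    intro V
    induction V using of_affine_open_cover (fun i => (⟨U i, haff i⟩ : X.affineOpens)) hU with
    | basicOpen W f hW =>
      intro hne
      haveI : Nonempty (W : X.Opens) := ⟨⟨hne.some.1, X.basicOpen_le f hne.some.2⟩⟩
      haveI := W.2.isLocalization_basicOpen f
      haveI : Nonempty (X.basicOpen f) := hne
      refine Props.N2Local.isN2_localization hW (Submonoid.powers f) Γ(X, X.basicOpen f)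
        (powers_le_nonZeroDivisors_of_noZeroDivisors ?_)
      rintro rfl
      exact (Scheme.basicOpen_zero X (W : X.Opens) ▸ hne.some.2 : hne.some.1 ∈ (⊥ : X.Opens))
    | openCover W s hs hW =>
      intro _
      haveI : ∀ f, IsLocalization.Away f Γ(X, X.basicOpen (U := (W : X.Opens)) f) :=
        fun f => W.2.isLocalization_basicOpen f
      refine Props.N2Local.isN2_of_span s hs
        (fun f => Γ(X, X.basicOpen (U := (W : X.Opens)) f)) fun f hf hf0 _ => ?_
      haveI : Nonempty (X.basicOpen (U := (W : X.Opens)) f) := by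
        by_contra hemp
        exact hf0 ((basicOpen_eq_bot_iff f).mp (TopologicalSpace.Opens.ext
          (Set.eq_empty_iff_forall_notMem.mpr fun x hx => hemp ⟨⟨x, hx⟩⟩)))
      exact @hW ⟨f, hf⟩ ‹Nonempty (X.basicOpen (U := (W : X.Opens)) f)›
    | hU i => intro _; exact hJ i
  exact key ⟨V, hV⟩

end Groth.Agent.S9835
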