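import Groth.Statements.S9836
import Groth.Agent.Props.KilledQCoh

set_option autoImplicit false
universe u
open CategoryTheory CategoryTheory.Limits AlgebraicGeometry
open Props

namespace Groth.Agent.S9836

/-- For a closed immersion i : Z → X with ideal sheaf of finite type and a quasi-coherent O_X-module F,
the subsheaf of sections of F annihilated by the ideal, namely i_* Hom(O_Z, F) for the right adjoint
Hom(O_Z, -) of i_*, is a quasi-coherent O_X-module. -/
theorem result {Z X : Scheme.{u}} (i : Z ⟶ X)
    [IsClosedImmersion i] [LocallyOfFinitePresentation i] [Dual3.HasHomO i] (F : X.Modules) [Coh.IsQCoh F] :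
    Coh.IsQCoh ((Scheme.Modules.pushforward i).obj ((Dual3.homO i).obj F)) := by
  obtain ⟨e, -⟩ := Groth.Agent.Props.KilledSub.exists_iso_counit i F
  have : F.IsQuasicoherent := ‹Coh.IsQCoh F›
  have := Groth.Agent.Props.KilledSub.isQuasicoherent_A i F
  exact Groth.Agent.QCoh.isQuasicoherent_of_iso e.symm

end Groth.Agent.S9836
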