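import Groth.Statements.S9837
import Groth.Agent.LocPres.Conv
import Groth.Agent.LFFrame.Basic
import Groth.Agent.HomShEval.Basic
import Mathlib.RingTheory.Flat.FaithfullyFlat.Algebra
import Mathlib.AlgebraicGeometry.Morphisms.Flat

set_option autoImplicit false
set_option backward.isDefEq.respectTransparency false
set_option backward.isDefEq.respectTransparency.types false
open CategoryTheory CategoryTheory.Limits AlgebraicGeometry Opposite
universe u
open Desc Groth.Agent.PullStalk.Sky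

namespace Groth.Agent.S9837

open Groth.Agent.PullStalk.Sky Groth.Agent.LFFrame Opposite TopologicalSpace in
/-- an equality on a stalk with a combination of germs holds nearby -/
theorem exists_comb_nhd {X : Scheme.{u}} (M : X.Modules) {U T : X.Opens} {n : ℕ} (e : Fin n → Γ(M, U))
    (h : T ≤ U) (m : Γ(M, T)) (x : X) (hx : x ∈ T)
    (hm : germM M T x hx m ∈ Submodule.span (X.presheaf.stalk x) (Set.range fun i => germM M U x (h hx) (e i))) :
    ∃ (V : X.Opens) (hV : V ≤ T) (_ : x ∈ V) (a : Fin n → Γ(X, V)),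
      comb M e (hV.trans h) a = M.presheaf.map (homOfLE hV).op m := by
  obtain ⟨a, ha⟩ := (Submodule.mem_span_range_iff_exists_fun _).1 hm
  choose W hxW r hr using fun i => X.presheaf.exists_germ_eq (x := x) (a i)
  let W₀ : X.Opens := ⟨(T : Set X) ∩ ⋂ i, (W i : Set X),
    T.2.inter (isOpen_iInter_of_finite fun i => (W i).2)⟩
  have hxW₀ : x ∈ W₀ := ⟨hx, Set.mem_iInter.2 hxW⟩
  have hW₀T : W₀ ≤ T := Set.inter_subset_left
  have hW₀ : ∀ i, W₀ ≤ W i := fun i => Set.inter_subset_right.trans (Set.iInter_subset _ i)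
  let r' : Fin n → Γ(X, W₀) := fun i => X.presheaf.map (homOfLE (hW₀ i)).op (r i)
  have hr' : ∀ i, X.presheaf.germ W₀ x hxW₀ (r' i) = a i := fun i => by
    rw [← hr i]
    exact X.presheaf.germ_res_apply (homOfLE (hW₀ i)) x hxW₀ (r i)
  have h0 : germM M W₀ x hxW₀ (comb M e (hW₀T.trans h) r') =
      germM M W₀ x hxW₀ (M.presheaf.map (homOfLE hW₀T).op m) := by
    rw [germ_comb]
    simp only [hr']
    exact ha.trans (M.presheaf.germ_res_apply (homOfLE hW₀T) x hxW₀ m).symm
  obtain ⟨W₁, hxW₁, i₁, i₂, h1⟩ := M.presheaf.germ_eq x hxW₀ hxW₀ _ _ h0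
  refine ⟨W₁, i₁.le.trans hW₀T, hxW₁, fun i => X.presheaf.map (homOfLE i₁.le).op (r' i), ?_⟩
  rw [← res_comb M e (hW₀T.trans h) i₁.le, ← res_res M hW₀T i₁.le]
  exact h1

open Groth.Agent.PullStalk.Sky Groth.Agent.LFFrame Opposite TopologicalSpace in
/-- sections spanning all stalks give finite type -/
theorem isFiniteType_of_span {Y : Scheme.{u}} (F : Y.Modules)
    (H : ∀ y : Y, ∃ (W : Y.Opens) (_ : y ∈ W) (n : ℕ) (s : Fin n → Γ(F, W)), ∀ z (hz : z ∈ W),
      Submodule.span (Y.presheaf.stalk z) (Set.range fun i => germM F W z hz (s i)) = ⊤) :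
    SheafOfModules.IsFiniteType (R := Y.ringCatSheaf) F := by
  choose W hW n s hs using H
  refine LocPres.isFiniteType_of_cover (C := Y.Opens) (J := Opens.grothendieckTopology Y)
    (O := Y.sheaf) (F := F) fun U => ⟨⟨fun V g => ∃ y, V ≤ W y, fun {V V'} g ⟨y, hy⟩ h => ⟨y, h.le.trans hy⟩⟩,
      fun x hx => ⟨U ⊓ W x, homOfLE inf_le_left, ⟨x, inf_le_right⟩, ⟨hx, hW x⟩⟩, fun V g ⟨y, hy⟩ => ⟨?_⟩⟩
  refine ⟨n y, fun i => F.presheaf.map (homOfLE hy).op (s y i), fun {T} a m => ?_⟩
  refine ⟨⟨fun V' g' => ∃ c : Fin (n y) → Γ(Y, V'), comb F (s y) (g'.le.trans (a.le.trans hy)) c =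
      F.presheaf.map g'.op m, fun {V₁ V₂} g₁ ⟨c, hc⟩ h => ⟨fun i => Y.presheaf.map h.op (c i), ?_⟩⟩,
    fun x hx => ?_, fun V' g' ⟨c, hc⟩ => ⟨c, ?_⟩⟩
  · have h1 := res_comb F (s y) (g₁.le.trans (a.le.trans hy)) h.le c
    rw [hc] at h1
    exact h1.symm.trans (res_res F g₁.le h.le m)
  · obtain ⟨V', hV', hxV', c, hc⟩ := exists_comb_nhd F (s y) (a.le.trans hy) m x hx
      (by rw [hs y x ((a.le.trans hy) hx)]; trivial)
    exact ⟨V', homOfLE hV', ⟨c, hc⟩, hxV'⟩
  · refine Eq.trans (Finset.sum_congr rfl fun i _ => congrArg (c i • ·) ?_) hc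
    exact res_res F hy (g'.le.trans a.le) (s y i)

/-- Let f : X ⟶ Y be a morphism of schemes which is flat and surjective and whose underlying map of
topological spaces is open, and let F be an arbitrary O_Y-module (not assumed quasi-coherent). If
the pullback f^*F is an O_X-module of finite type, then F is of finite type. (The published
statement is for a morphism of locally ringed spaces; this row is its case of schemes.) -/
theorem result {X Y : Scheme.{u}} (f : X ⟶ Y) [Flat f] [Surjective f]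
    (hf : IsOpenMap f.base) (F : Y.Modules)
    (h : SheafOfModules.IsFiniteType (R := X.ringCatSheaf) ((Scheme.Modules.pullback f).obj F)) :
    SheafOfModules.IsFiniteType (R := Y.ringCatSheaf) F := by
  refine isFiniteType_of_span F fun y => ?_
  obtain ⟨x, rfl⟩ := f.surjective y
  let P := (Scheme.Modules.pullback f).obj F
  obtain ⟨U, hxU, n, t, ht⟩ := HomShEval.exists_span_germ P h x
  let := (f.stalkMap x).hom.toAlgebra
  let := PullStalk.Basic.moduleOver f F x
  have : IsScalarTower (Y.presheaf.stalk (f x)) (X.presheaf.stalk x) (P.presheaf.stalk x) :=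
    IsScalarTower.of_algebraMap_smul fun _ _ => rfl
  have hbc := PullStalk.Basic.isBaseChange_unitStalk f F x
  let ι := PullStalk.Basic.unitStalk f F x
  have hι : Submodule.span (X.presheaf.stalk x) (Set.range ι) = ⊤ := by
    refine eq_top_iff.2 fun z hz => ?_
    clear hz
    induction z using hbc.inductionOn with
    | zero => exact zero_mem _
    | tmul m => exact Submodule.subset_span ⟨m, rfl⟩
    | smul s m hm => exact Submodule.smul_mem _ s hm
    | add a b ha hb => exact add_mem ha hb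
  classical
  have hfin : ∀ i, ∃ σ : Finset (F.presheaf.stalk (f x)),
      germM P U x hxU (t i) ∈ Submodule.span (X.presheaf.stalk x) (ι '' σ) := fun i => by
    obtain ⟨τ, hτ, hmem⟩ := Submodule.mem_span_finite_of_mem_span
      (show germM P U x hxU (t i) ∈ Submodule.span (X.presheaf.stalk x) (Set.range ι) by rw [hι]; trivial)
    choose g hg using fun (a : τ) => hτ a.2
    refine ⟨Finset.univ.image g, Submodule.span_mono (fun a ha => ?_) hmem⟩
    exact ⟨g ⟨a, ha⟩, by simp, hg ⟨a, ha⟩⟩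
  choose σ hσ using hfin
  let σ' := Finset.univ.biUnion σ
  let v : Fin σ'.card → F.presheaf.stalk (f x) := fun j => (σ'.equivFin.symm j).1
  choose W₀ hW₀ s₀ hs₀ using fun j => exists_germM_eq F (f x) (v j)
  let W : Y.Opens := ⟨⋂ j, (W₀ j : Set Y), isOpen_iInter_of_finite fun j => (W₀ j).2⟩
  have hxW : f x ∈ W := Set.mem_iInter.2 hW₀
  let s : Fin σ'.card → Γ(F, W) := fun j =>
    F.presheaf.map (homOfLE (fun _ hz => Set.mem_iInter.1 hz j : W ≤ W₀ j)).op (s₀ j)
  let G : Fin σ'.card → Γ(P, f ⁻¹ᵁ W) := fun j => LFFrame.unitSec f F W (s j)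
  have hG : ∀ i, germM P U x hxU (t i) ∈
      Submodule.span (X.presheaf.stalk x) (Set.range fun j => germM P (f ⁻¹ᵁ W) x hxW (G j)) := fun i => by
    refine Submodule.span_mono ?_ (hσ i)
    rintro _ ⟨w, hw, rfl⟩
    obtain ⟨j, hj⟩ := σ'.equivFin.symm.surjective ⟨w, Finset.mem_biUnion.2 ⟨i, Finset.mem_univ i, hw⟩⟩
    refine ⟨j, ?_⟩
    have h1 : germM F W (f x) hxW (s j) = w := by
      refine (F.presheaf.germ_res_apply _ (f x) hxW (s₀ j)).trans ?_
      exact (hs₀ j).trans (congrArg Subtype.val hj)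
    exact (PullStalk.Basic.unitStalkHom_germ f F x W hxW (s j)).symm.trans (congrArg ι h1)
  let T : X.Opens := U ⊓ f ⁻¹ᵁ W
  have hxT : x ∈ T := ⟨hxU, hxW⟩
  have hnear : ∀ i, ∃ (V : X.Opens) (hV : V ≤ T) (_ : x ∈ V) (a : Fin σ'.card → Γ(X, V)),
      LFFrame.comb P G (hV.trans inf_le_right) a =
        P.presheaf.map (homOfLE hV).op (P.presheaf.map (homOfLE (inf_le_left : T ≤ U)).op (t i)) :=
    fun i => exists_comb_nhd P G inf_le_right _ x hxT (by
      refine Eq.mpr (congrArg (· ∈ _) ?_) (hG i)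
      exact P.presheaf.germ_res_apply _ x hxT (t i))
  choose V hVT hxV a ha using hnear
  let U' : X.Opens := ⟨(T : Set X) ∩ ⋂ i, (V i : Set X), T.2.inter (isOpen_iInter_of_finite fun i => (V i).2)⟩
  refine ⟨⟨f.base '' U', hf _ U'.2⟩ ⊓ W, ⟨⟨x, ⟨hxT, Set.mem_iInter.2 hxV⟩, rfl⟩, hxW⟩, σ'.card,
    fun j => F.presheaf.map (homOfLE inf_le_right).op (s j), ?_⟩
  rintro z ⟨⟨x', hx', rfl⟩, hz⟩
  let := (f.stalkMap x').hom.toAlgebra
  let := PullStalk.Basic.moduleOver f F x'
  have : IsScalarTower (Y.presheaf.stalk (f x')) (X.presheaf.stalk x') (P.presheaf.stalk x') :=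
    IsScalarTower.of_algebraMap_smul fun _ _ => rfl
  have hspan : Submodule.span (X.presheaf.stalk x')
      (Set.range fun j => germM P (f ⁻¹ᵁ W) x' hx'.1.2 (G j)) = ⊤ := by
    refine eq_top_iff.2 ((ht x' hx'.1.1).ge.trans (Submodule.span_le.2 ?_))
    rintro _ ⟨i, rfl⟩
    have hxi : x' ∈ V i := Set.mem_iInter.1 hx'.2 i
    have h1 := congrArg (germM P (V i) x' hxi) (ha i)
    rw [LFFrame.germ_comb, LFFrame.res_res] at h1
    have h2 : germM P U x' hx'.1.1 (t i) = _ :=
      ((P.presheaf.germ_res_apply _ x' hxi (t i)).symm.trans h1.symm)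
    simp only [SetLike.mem_coe]
    rw [h2]
    exact Submodule.sum_mem _ fun j _ => Submodule.smul_mem _ _ (Submodule.subset_span ⟨j, rfl⟩)
  have hflat : Module.Flat (Y.presheaf.stalk (f x')) (X.presheaf.stalk x') := Flat.stalkMap f x'
  have : IsLocalHom (algebraMap (Y.presheaf.stalk (f x')) (X.presheaf.stalk x')) :=
    inferInstanceAs (IsLocalHom (f.stalkMap x').hom)
  have : Module.FaithfullyFlat (Y.presheaf.stalk (f x')) (X.presheaf.stalk x') :=
    Module.FaithfullyFlat.of_flat_of_isLocalHom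
  refine eq_top_iff.2 fun u _ => ?_
  have hmem : f x' ∈ (⟨f.base '' U', hf _ U'.2⟩ ⊓ W : Y.Opens) := ⟨⟨x', hx', rfl⟩, hz⟩
  let S' := Submodule.span (Y.presheaf.stalk (f x'))
    (Set.range fun j => germM F (⟨f.base '' U', hf _ U'.2⟩ ⊓ W) (f x') hmem (F.presheaf.map (homOfLE inf_le_right).op (s j)))
  refine (Submodule.Quotient.mk_eq_zero S').1 ?_
  let ψ := (TensorProduct.mk (Y.presheaf.stalk (f x')) (X.presheaf.stalk x') (F.presheaf.stalk (f x') ⧸ S') 1) ∘ₗ
    S'.mkQ
  have hbc' := PullStalk.Basic.isBaseChange_unitStalk f F x'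
  have h0 : hbc'.lift ψ = 0 := LinearMap.ext_on_range hspan fun j => by
    rw [LinearMap.zero_apply, show germM P (f ⁻¹ᵁ W) x' hx'.1.2 (G j) =
      PullStalk.Basic.unitStalk f F x' (germM F W (f x') hz (s j)) from
        (PullStalk.Basic.unitStalkHom_germ f F x' W hz (s j)).symm]
    refine (hbc'.lift_eq ψ _).trans ?_
    have : germM F W (f x') hz (s j) ∈ S' := Submodule.subset_span ⟨j, F.presheaf.germ_res_apply _ _ _ (s j)⟩
    simp [ψ, (Submodule.Quotient.mk_eq_zero S').2 this]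
  refine Module.FaithfullyFlat.tensorProduct_mk_injective (A := Y.presheaf.stalk (f x'))
    (B := X.presheaf.stalk x') (F.presheaf.stalk (f x') ⧸ S') ?_
  rw [map_zero]
  exact (hbc'.lift_eq ψ u).symm.trans (LinearMap.congr_fun h0 _)

end Groth.Agent.S9837
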