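import Groth.Statements.S9838
import Groth.Agent.QCoh.FiniteType
import Groth.Agent.QCoh.Qcqs

set_option autoImplicit false
open CategoryTheory CategoryTheory.Limits AlgebraicGeometry Opposite
universe u
open Desc

namespace Groth.Agent.S9838


open Groth.Agent.QCoh in
theorem finite_iff {X Y : Scheme.{u}} (f : X ⟶ Y) [IsFinite f] (F : X.Modules) {U : Y.Opens} (hU : IsAffineOpen U) :
    Module.Finite Γ(X, f ⁻¹ᵁ U) Γ(F, f ⁻¹ᵁ U) ↔
      Module.Finite Γ(Y, U) Γ((Scheme.Modules.pushforward f).obj F, U) := by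
  letI : Algebra Γ(Y, U) Γ(X, f ⁻¹ᵁ U) := (f.app U).hom.toAlgebra
  haveI : Module.Finite Γ(Y, U) Γ(X, f ⁻¹ᵁ U) := IsFinite.finite_app f U hU
  letI : Module Γ(X, f ⁻¹ᵁ U) Γ((Scheme.Modules.pushforward f).obj F, U) :=
    inferInstanceAs (Module Γ(X, f ⁻¹ᵁ U) Γ(F, f ⁻¹ᵁ U))
  haveI : IsScalarTower Γ(Y, U) Γ(X, f ⁻¹ᵁ U) Γ((Scheme.Modules.pushforward f).obj F, U) :=
    IsScalarTower.of_algebraMap_smul fun r m => (push_smul f F r m).symm
  constructor
  · intro h
    haveI : Module.Finite Γ(X, f ⁻¹ᵁ U) Γ((Scheme.Modules.pushforward f).obj F, U) := h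
    exact Module.Finite.trans Γ(X, f ⁻¹ᵁ U) _
  · intro h
    exact Module.Finite.of_restrictScalars_finite Γ(Y, U) Γ(X, f ⁻¹ᵁ U) Γ((Scheme.Modules.pushforward f).obj F, U)


/-- Let f : X ⟶ Y be a finite morphism of schemes and F a quasi-coherent O_X-module. The pushforward
f_*F is of finite type as an O_Y-module exactly when F itself is of finite type as an O_X-module. -/
theorem result {X Y : Scheme.{u}} (f : X ⟶ Y) [IsFinite f]
    (F : X.Modules) [F.IsQuasicoherent] :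
    SheafOfModules.IsFiniteType (R := X.ringCatSheaf) F ↔
      SheafOfModules.IsFiniteType (R := Y.ringCatSheaf) ((Scheme.Modules.pushforward f).obj F) := by
  rw [Groth.Agent.QCoh.isFiniteType_iff F, Groth.Agent.QCoh.isFiniteType_iff ((Scheme.Modules.pushforward f).obj F)]
  refine ⟨fun h U hU => (finite_iff f F hU).1 (h _ (hU.preimage f)), fun h => (Groth.Agent.QCoh.isFiniteType_iff F).1
    (Groth.Agent.QCoh.isFiniteType_of_forall_exists F fun x => ?_)⟩
  obtain ⟨_, ⟨U, hU, rfl⟩, hxU, -⟩ := Y.isBasis_affineOpens.exists_subset_of_mem_open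
    (Set.mem_univ (f.base x)) isOpen_univ
  exact ⟨f ⁻¹ᵁ U, hU.preimage f, hxU, (finite_iff f F hU).2 (h U hU)⟩

end Groth.Agent.S9838
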