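import Groth.Statements.S9839
import Groth.Agent.Thick.Topo

set_option autoImplicit false
open CategoryTheory CategoryTheory.Limits AlgebraicGeometry Opposite
universe u
open Desc

namespace Groth.Agent.S9839

/-- Let f i : T i ⟶ T be an fpqc covering family of a scheme T (a family in the fpqc precoverage) and W
i ⊆ T i open subsets such that for all i, j the inverse images of W i and W j under the two
projections of T i ×_T T j coincide. Then there is a unique open subset W ⊆ T with (f i)⁻¹(W) = W i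
for every i. -/
theorem result {ι : Type u} {T : Scheme.{u}} {Ti : ι → Scheme.{u}}
    (f : ∀ i, Ti i ⟶ T) (hf : Presieve.ofArrows Ti f ∈ Scheme.fpqcPrecoverage T)
    (W : ∀ i, (Ti i).Opens)
    (hW : ∀ i j, (pullback.fst (f i) (f j)) ⁻¹ᵁ (W i) = (pullback.snd (f i) (f j)) ⁻¹ᵁ (W j)) :
    ∃! V : T.Opens, ∀ i, (f i) ⁻¹ᵁ V = W i := by
  let E : PreZeroHypercover.{u} T := ⟨ι, Ti, f⟩
  have hqc : QuasiCompactCover E := by
    rw [← Scheme.presieve₀_mem_qcPrecoverage_iff]
    exact hf.1
  obtain ⟨hsurj, hflat⟩ := (Scheme.ofArrows_mem_precoverage_iff _).1 hf.2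
  let V0 : Set T := ⋃ i, (f i).base '' (W i : Set (Ti i))
  have hpre : ∀ i, (f i).base ⁻¹' V0 = (W i : Set (Ti i)) := by
    intro j
    refine Set.Subset.antisymm (fun x hx => ?_) fun x hx => Set.mem_iUnion.2 ⟨j, x, hx, rfl⟩
    obtain ⟨i, w, hw, hwx⟩ := Set.mem_iUnion.1 hx
    obtain ⟨z, hz1, hz2⟩ := Scheme.Pullback.exists_preimage_pullback w x hwx
    have : z ∈ pullback.fst (f i) (f j) ⁻¹ᵁ W i := by
      change (pullback.fst (f i) (f j)).base z ∈ W i
      rw [show (pullback.fst (f i) (f j)).base z = w from hz1]; exact hw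
    rw [hW i j] at this
    have h2 : (pullback.snd (f i) (f j)).base z ∈ W j := this
    rwa [show (pullback.snd (f i) (f j)).base z = x from hz2] at h2
  have hopen : IsOpen V0 := by
    rw [isOpen_iff_forall_mem_open]
    intro y hy
    obtain ⟨_, ⟨U, hU, rfl⟩, hyU, -⟩ :=
      T.isBasis_affineOpens.exists_subset_of_mem_open (Set.mem_univ y) isOpen_univ
    obtain ⟨n, a, V, hV, heq⟩ := QuasiCompactCover.exists_isAffineOpen_of_isCompact E hU.isCompact
    have hle : ∀ i, Set.range ((hV i).fromSpec ≫ f (a i)).base ⊆ Set.range (Scheme.Opens.ι U).base := by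
      intro i
      rintro _ ⟨z, rfl⟩
      have hz : (hV i).fromSpec.base z ∈ (V i : Set (Ti (a i))) := by
        rw [← (hV i).range_fromSpec]; exact ⟨z, rfl⟩
      rw [Scheme.Opens.range_ι]
      exact heq.le (Set.mem_iUnion.2 ⟨i, ⟨_, hz, rfl⟩⟩)
    let l : ∀ i, Spec Γ(Ti (a i), V i) ⟶ (Scheme.Opens.toScheme U) :=
      fun i => IsOpenImmersion.lift (Scheme.Opens.ι U) ((hV i).fromSpec ≫ f (a i)) (hle i)
    have hl : ∀ i, l i ≫ (Scheme.Opens.ι U) = (hV i).fromSpec ≫ f (a i) := fun i => IsOpenImmersion.lift_fac _ _ _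
    let I := ULift.{u} (Fin n)
    let S' : I → Scheme.{u} := fun i => Spec Γ(Ti (a i.down), V i.down)
    let p : (∐ S') ⟶ (Scheme.Opens.toScheme U) := Sigma.desc fun i => l i.down
    have hp : ∀ i, Sigma.ι S' i ≫ p = l i.down := fun i => Sigma.ι_desc _ _
    have hps : Surjective p := ⟨fun v => by
      have hv : (Scheme.Opens.ι U).base v ∈ (U : Set T) := v.2
      rw [← heq, Set.mem_iUnion] at hv
      obtain ⟨i, z, hz, hzy⟩ := hv
      rw [← (hV i).range_fromSpec] at hz
      obtain ⟨w, rfl⟩ := hz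
      refine ⟨(Sigma.ι S' ⟨i⟩).base w, (Scheme.Opens.ι U).isOpenEmbedding.injective ?_⟩
      change (Sigma.ι S' ⟨i⟩ ≫ p ≫ (Scheme.Opens.ι U)).base w = _
      rw [← Category.assoc, hp, hl]
      exact hzy⟩
    have hpf : Flat p := (IsZariskiLocalAtSource.iff_of_openCover (P := @Flat) (sigmaOpenCover S')).2
      fun i => by
        change Flat (Sigma.ι S' i ≫ p)
        rw [hp]
        refine Groth.Agent.Thick.Topo.of_comp_mono (P := @Flat) _ (Scheme.Opens.ι U) ?_
        rw [hl]
        have := hflat (a i.down)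
        infer_instance
    have hpq : QuasiCompact p := by
      have : IsAffine (Scheme.Opens.toScheme U) := hU
      rw [HasAffineProperty.iff_of_isAffine (P := @QuasiCompact)]
      infer_instance
    have hop : IsOpen ((Scheme.Opens.ι U).base ⁻¹' V0) := by
      rw [← (Flat.isQuotientMap_of_surjective p).isOpen_preimage, ← Set.preimage_comp]
      refine (sigmaOpenCover S').isOpenCover_opensRange.isOpen_iff_inter.2 fun i => ?_
      have key : (p.base ≫ (Scheme.Opens.ι U).base) ⁻¹' V0 ∩ Set.range (Sigma.ι S' i).base =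
          (Sigma.ι S' i).base '' ((hV i.down).fromSpec.base ⁻¹' (W (a i.down) : Set _)) := by
        rw [← Set.image_preimage_eq_inter_range]
        congr 1
        rw [← hpre, ← Set.preimage_comp, ← Set.preimage_comp]
        congr 1
        change ⇑(Sigma.ι S' i ≫ p ≫ (Scheme.Opens.ι U)).base = ⇑((hV i.down).fromSpec ≫ f (a i.down)).base
        rw [← Category.assoc, hp, hl]
      exact key ▸ (Sigma.ι S' i).isOpenEmbedding.isOpenMap _
        ((W (a i.down)).2.preimage (hV i.down).fromSpec.continuous)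
    exact ⟨_, Set.image_preimage_subset _ _, (Scheme.Opens.ι U).isOpenEmbedding.isOpenMap _ hop, ⟨⟨y, hyU⟩, hy, rfl⟩⟩
  refine ⟨⟨V0, hopen⟩, fun i => TopologicalSpace.Opens.ext (hpre i), fun V hV => ?_⟩
  refine TopologicalSpace.Opens.ext (Set.ext fun y => ?_)
  obtain ⟨i, x, rfl⟩ := hsurj y
  rw [show (f i).base x ∈ (V : Set T) ↔ x ∈ f i ⁻¹ᵁ V from Iff.rfl, hV i]
  exact (Set.ext_iff.1 (hpre i) x).symm

end Groth.Agent.S9839
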