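import Groth.Statements.S9841
import Groth.Agent.Omega.SmoothNormalScheme

set_option autoImplicit false
open CategoryTheory CategoryTheory.Limits AlgebraicGeometry Opposite
universe u
open Desc

namespace Groth.Agent.S9841

/-- Being reduced is local in the smooth topology: for a jointly surjective family of smooth morphisms f
i : X i ⟶ S, the scheme S is reduced if and only if every X i is reduced. -/
theorem result {ι : Type u} {S : Scheme.{u}} {X : ι → Scheme.{u}} (f : ∀ i, X i ⟶ S)
    (hf : Presieve.ofArrows X f ∈ Scheme.precoverage @Smooth S) :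
    IsReduced S ↔ ∀ i, IsReduced (X i) := by
  obtain ⟨hsurj, hsm⟩ := (AlgebraicGeometry.Scheme.ofArrows_mem_precoverage_iff (P := @Smooth)).1 hf
  have key : ∀ (i : ι) (x : X i), _root_.IsReduced ((X i).presheaf.stalk x) ↔
      _root_.IsReduced (S.presheaf.stalk ((f i).base x)) := fun i x => by
    haveI : Smooth (f i) := hsm i
    exact Omega.SmoothNormal.stalk_isReduced_iff (f i) (x := x) (by rw [Scheme.Hom.smoothLocus_eq_top]; trivial)
  refine ⟨fun h i => ?_, fun h => ?_⟩
  · haveI := h
    haveI : ∀ x : X i, _root_.IsReduced ((X i).presheaf.stalk x) := fun x => (key i x).2 inferInstance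
    exact isReduced_of_isReduced_stalk _
  · haveI : ∀ s : S, _root_.IsReduced (S.presheaf.stalk s) := fun s => by
      obtain ⟨i, x, rfl⟩ := hsurj s
      haveI := h i
      exact (key i x).1 inferInstance
    exact isReduced_of_isReduced_stalk _

end Groth.Agent.S9841
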