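import Groth.Statements.S9842
import Mathlib.AlgebraicGeometry.Morphisms.UniversallyOpen
import Mathlib.AlgebraicGeometry.Morphisms.UnderlyingMap
import Mathlib.AlgebraicGeometry.PullbackCarrier

set_option autoImplicit false
open CategoryTheory CategoryTheory.Limits AlgebraicGeometry Opposite
universe u
open Desc

namespace Groth.Agent.S9842

/-- Let E/k be a field extension, Y a scheme over k and f : X ⟶ Y a morphism. Writing Y_E = Y ×_k Spec
E, the morphism f is dominant if and only if its base change X ×_Y Y_E ⟶ Y_E is dominant. -/
theorem result {k E : Type u} [Field k] [Field E] [Algebra k E]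
    {X Y : Scheme.{u}} (f : X ⟶ Y) (q : Y ⟶ Spec (.of k)) :
    IsDominant f ↔
      IsDominant (pullback.snd f (pullback.fst q (Spec.map (CommRingCat.ofHom (algebraMap k E))))) := by
  set j := Spec.map (CommRingCat.ofHom (algebraMap k E))
  haveI : Surjective j := ⟨fun x => ⟨(inferInstance : Nonempty (PrimeSpectrum E)).some, Subsingleton.elim (α := PrimeSpectrum k) _ _⟩⟩
  haveI hj : UniversallyOpen j := inferInstance
  let g := pullback.fst q j
  haveI : UniversallyOpen g := inferInstance
  haveI : Surjective g := inferInstance
  constructor
  · intro h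
    refine ⟨?_⟩
    rw [DenseRange, Scheme.Pullback.range_snd]
    exact Dense.preimage h.denseRange g.isOpenMap
  · intro h
    refine ⟨fun x => ?_⟩
    obtain ⟨u, rfl⟩ := g.surjective x
    have h1 := h.denseRange u
    rw [Scheme.Pullback.range_snd] at h1
    exact g.continuous.closure_preimage_subset _ h1


end Groth.Agent.S9842
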