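import Groth.Statements.S9843
import Mathlib.AlgebraicGeometry.Sites.Fpqc
import Mathlib.AlgebraicGeometry.PullbackCarrier

set_option autoImplicit false
open CategoryTheory CategoryTheory.Limits AlgebraicGeometry Opposite
universe u
open Desc

namespace Groth.Agent.S9843

/-- Being dominant is fppf local on the base: for every fppf covering family Y i ⟶ Y (flat, locally of
finite presentation, jointly surjective), a morphism X ⟶ Y is dominant if and only if all its base
changes X ×_Y Y i ⟶ Y i are. -/
theorem result :
    MorphismProperty.IsLocalAtTarget (@IsDominant : MorphismProperty Scheme.{u}) Scheme.fppfPrecoverage := by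
  refine { pullbackSnd := ?_, of_forall_pullbackSnd := ?_ }
  · intro X Y f R U g hR hg hf _
    obtain ⟨_, _⟩ : Flat g ∧ LocallyOfFinitePresentation g := hR.2 hg
    refine ⟨?_⟩
    rw [DenseRange, Scheme.Pullback.range_snd]
    exact Dense.preimage hf.denseRange g.isOpenMap
  · intro X Y f R hR h
    refine ⟨fun x => ?_⟩
    obtain ⟨U, g, hg, u, rfl⟩ := Scheme.JointlySurjective.exists_eq (K := Scheme.precoverage (@Flat ⊓ @LocallyOfFinitePresentation : MorphismProperty Scheme.{u})) R hR x
    haveI : HasPullback f g := inferInstance
    have h1 := (h hg).denseRange u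
    rw [Scheme.Pullback.range_snd] at h1
    exact g.continuous.closure_preimage_subset _ h1


end Groth.Agent.S9843
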