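import Groth.Statements.S9845
import Groth.Agent.AlgSpCov.SchemeSourceLocal

set_option autoImplicit false
open CategoryTheory CategoryTheory.Limits AlgebraicGeometry Opposite
universe u
open Desc

namespace Groth.Agent.S9845

/-- Being an open morphism (open underlying map) is fppf local on the source: for every fppf covering
family g i : X i ⟶ X, a morphism f : X ⟶ Y has open underlying map if and only if every composite g
i ≫ f does. -/
theorem result :
    MorphismProperty.IsLocalAtSource (topologically (fun f => IsOpenMap f) : MorphismProperty Scheme.{u})
      Scheme.fppfPrecoverage := by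
  refine Groth.Agent.AlgSpCov.isLocalAtSource_of_surjective (fun R W Y r k hr hk => ?_)
    (fun R U Y r h hr hs hh => ?_)
  · have : Flat r := hr.1
    have : LocallyOfFinitePresentation r := hr.2
    change IsOpenMap k.base at hk
    change IsOpenMap (r ≫ k).base
    simpa using hk.comp r.isOpenMap
  · change IsOpenMap (r ≫ h).base at hh
    change IsOpenMap h.base
    intro V hV
    rw [← hs.surj.image_preimage V, ← Set.image_comp, ← TopCat.coe_comp, ← Scheme.Hom.comp_base]
    exact hh _ (hV.preimage r.continuous)

end Groth.Agent.S9845
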