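import Groth.Statements.S9846
import Groth.Agent.AlgSpCov.SchemeSourceLocal
import Groth.Agent.Thick.Topo

set_option autoImplicit false
open CategoryTheory CategoryTheory.Limits AlgebraicGeometry Opposite
universe u
open Desc

namespace Groth.Agent.S9846

/-- Being universally open is fppf local on the source: for every fppf covering family g i : X i ⟶ X, a
morphism f : X ⟶ Y is universally open if and only if every composite g i ≫ f is. -/
theorem result :
    MorphismProperty.IsLocalAtSource (@UniversallyOpen : MorphismProperty Scheme.{u}) Scheme.fppfPrecoverage := by
  refine Groth.Agent.AlgSpCov.isLocalAtSource_of_surjective (fun R W Y r k hr hk => ?_)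
    (fun R U Y r h hr hs hh => ?_)
  · have : Flat r := hr.1
    have : LocallyOfFinitePresentation r := hr.2
    exact MorphismProperty.comp_mem _ r k inferInstance hk
  · exact Groth.Agent.Thick.Topo.universallyOpen_of_comp_surjective r h

end Groth.Agent.S9846
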