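import Groth.Statements.S9858
import Groth.Agent.Desc44.FamEff

set_option autoImplicit false
open CategoryTheory CategoryTheory.Limits AlgebraicGeometry Opposite
universe u
open Desc

namespace Groth.Agent.S9858

/-- Case τ = fpqc: let P be a property of morphisms of schemes which is stable under base change and
under finite disjoint unions, and such that for every flat surjective morphism of affine schemes p :
X ⟶ S, every descent datum relative to p whose structure morphism to X has P is effective. Then for
every fpqc covering family u i : U i ⟶ S of a scheme S, every descent datum for schemes relative to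
(u i) all of whose structure morphisms have P is effective. -/
theorem result (P : MorphismProperty Scheme.{u}) [P.IsStableUnderBaseChange]
    (h2 : ∀ (m : ℕ) (Y V : Fin m → Scheme.{u}) (q : ∀ j, Y j ⟶ V j), (∀ j, P (q j)) → P (Limits.Sigma.map q))
    (h3 : ∀ (X S : Scheme.{u}) (p : X ⟶ S), IsAffine X → IsAffine S → Flat p → Surjective p →
      ∀ D : Desc.SchDD p, P D.obj.hom → ∃ U : Over S, Nonempty ((Desc.toDD p).obj U ≅ D))
    {ι : Type u} {S : Scheme.{u}} {U : ι → Scheme.{u}} (u : ∀ i, U i ⟶ S)
    (hu : Presieve.ofArrows U u ∈ Scheme.fpqcPrecoverage S) (D : Desc.SchDDFam u) (hD : ∀ i, P (D.obj i).hom) :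
    D.IsEffective := by
  exact Groth.Agent.Desc44.isEffective_of_affine_case P h2 h3 hu D hD

end Groth.Agent.S9858
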