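import Groth.Statements.S9860
import Mathlib.AlgebraicGeometry.Gluing
import Mathlib.AlgebraicGeometry.Cover.Open

set_option autoImplicit false
open CategoryTheory CategoryTheory.Limits AlgebraicGeometry Opposite
universe u
open Desc

namespace Groth.Agent.S9860

lemma glue {Y : Scheme.{u}} (S : Sieve Y) (W : Scheme.{u})
    (hV : ∀ (V : Scheme.{u}) (k : V ⟶ Y), IsAffine V →
      Presieve.IsSheafFor (yoneda.obj W) (S.pullback k).arrows) :
    Presieve.IsSheafFor (yoneda.obj W) S.arrows := by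
  intro x hx
  let Am : ∀ {V : Scheme.{u}}, (V ⟶ Y) → (V ⟶ W) → Prop := fun {V} k y =>
    ∀ (Z : Scheme.{u}) (m : Z ⟶ V) (hm : S (m ≫ k)), m ≫ y = x (m ≫ k) hm
  have hpre : ∀ {V V' : Scheme.{u}} (k : V ⟶ Y) (p : V' ⟶ V) (y : V ⟶ W),
      Am k y → Am (p ≫ k) (p ≫ y) := by
    intro V V' k p y hy Z m hm
    have := hy Z (m ≫ p) (by simpa using hm)
    rw [← Category.assoc, this]
    congr 1
  have hex : ∀ (V : Scheme.{u}) (k : V ⟶ Y), IsAffine V → ∃! y : V ⟶ W, Am k y := by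
    intro V k hk
    exact hV V k hk (fun Z m hm => x (m ≫ k) hm)
      (fun Z₁ Z₂ Z p₁ p₂ m₁ m₂ h₁ h₂ e => hx p₁ p₂ h₁ h₂ (by rw [reassoc_of% e]))
  let 𝒰 := Y.affineCover
  have haff : ∀ i, IsAffine (𝒰.X i) := fun i => inferInstance
  choose y hy hyu using fun i => hex (𝒰.X i) (𝒰.f i) (haff i)
  have hglue : ∀ i j, pullback.fst (𝒰.f i) (𝒰.f j) ≫ y i = pullback.snd (𝒰.f i) (𝒰.f j) ≫ y j := by
    intro i j
    refine (pullback (𝒰.f i) (𝒰.f j)).affineCover.hom_ext _ _ fun k => ?_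
    let m := (pullback (𝒰.f i) (𝒰.f j)).affineCover.f k
    have e1 := hpre _ (m ≫ pullback.fst (𝒰.f i) (𝒰.f j)) _ (hy i)
    have e2 := hpre _ (m ≫ pullback.snd (𝒰.f i) (𝒰.f j)) _ (hy j)
    rw [show (m ≫ pullback.snd (𝒰.f i) (𝒰.f j)) ≫ 𝒰.f j
      = (m ≫ pullback.fst (𝒰.f i) (𝒰.f j)) ≫ 𝒰.f i by simp [pullback.condition]] at e2
    simpa [m] using (hex _ _ inferInstance).unique e1 e2
  refine ⟨Scheme.Cover.glueMorphisms 𝒰 y hglue, ?_, ?_⟩
  · intro Z q hq
    show q ≫ Scheme.Cover.glueMorphisms 𝒰 y hglue = x q hq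
    refine Scheme.Cover.hom_ext (𝒰.pullback₁ q) _ _ fun i => ?_
    have hsq : pullback.snd q (𝒰.f i) ≫ 𝒰.f i = pullback.fst q (𝒰.f i) ≫ q := pullback.condition.symm
    show pullback.fst q (𝒰.f i) ≫ q ≫ _ = pullback.fst q (𝒰.f i) ≫ _
    have hm : S (pullback.snd q (𝒰.f i) ≫ 𝒰.f i) := by rw [hsq]; exact S.downward_closed hq _
    calc pullback.fst q (𝒰.f i) ≫ q ≫ Scheme.Cover.glueMorphisms 𝒰 y hglue
        = pullback.snd q (𝒰.f i) ≫ 𝒰.f i ≫ Scheme.Cover.glueMorphisms 𝒰 y hglue := by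
          rw [← Category.assoc, ← hsq, Category.assoc]
      _ = pullback.snd q (𝒰.f i) ≫ y i := by rw [Scheme.Cover.ι_glueMorphisms]
      _ = x _ hm := hy i _ _ hm
      _ = pullback.fst q (𝒰.f i) ≫ x q hq := by
          simpa using hx (𝟙 _) (pullback.fst q (𝒰.f i)) hm hq (by simpa using hsq)
  · intro y' hy'
    refine 𝒰.hom_ext _ _ fun i => ?_
    rw [Scheme.Cover.ι_glueMorphisms]
    refine hyu i _ fun Z m hm => ?_
    have := hy' (m ≫ 𝒰.f i) hm
    simpa using this


/-- Consider morphisms of schemes f i : X i ⟶ X indexed by i. Suppose that, whenever Y is an affine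
scheme and g : Y ⟶ X is a morphism, the sieve on Y obtained by pulling back along g (generated by
the base changes X i ×_X Y ⟶ Y) is effective epimorphic. Then the pulled-back sieve along every
morphism Y ⟶ X of schemes is effective epimorphic; in other words, within schemes the family forms a
universal effective epimorphism. -/
theorem result {ι : Type u} {X : Scheme.{u}} {Xi : ι → Scheme.{u}} (f : ∀ i, Xi i ⟶ X)
    (h : ∀ (Y : Scheme.{u}) (g : Y ⟶ X), IsAffine Y → ((Sieve.ofArrows Xi f).pullback g).EffectiveEpimorphic)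
    {Y : Scheme.{u}} (g : Y ⟶ X) : ((Sieve.ofArrows Xi f).pullback g).EffectiveEpimorphic := by
  classical
  have hV : ∀ (V : Scheme.{u}) (k : V ⟶ Y), IsAffine V → ∀ W : Scheme.{u},
      Presieve.IsSheafFor (yoneda.obj W)
        (((Sieve.ofArrows Xi f).pullback g).pullback k).arrows := by
    intro V k hV W
    have := h V (k ≫ g) hV
    rw [Sieve.EffectiveEpimorphic.iff_forall_isSheafFor_yoneda] at this
    rw [← Sieve.pullback_comp]
    exact this W
  rw [Sieve.EffectiveEpimorphic.iff_forall_isSheafFor_yoneda]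
  exact fun W => glue ((Sieve.ofArrows Xi f).pullback g) W (fun V k hk => hV V k hk W)

end Groth.Agent.S9860
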