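import Groth.Statements.S9861
import Groth.Agent.GenDesc52.Basic
import Mathlib.AlgebraicGeometry.Sites.Fpqc

set_option autoImplicit false
set_option backward.isDefEq.respectTransparency false
set_option backward.isDefEq.respectTransparency.types false
open CategoryTheory CategoryTheory.Limits AlgebraicGeometry Opposite
universe u
open Desc Groth.Agent.PullStalk.Sky

namespace Groth.Agent.S9861

/-- Let F be a quasi-coherent O_X-module, r a natural number and f i : X i ⟶ X an fpqc covering family
such that every pullback (f i)^* F is locally generated by at most r sections. Then F is locally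
generated by at most r sections. ('Locally generated by at most r sections' is written as: there are
local generators data for the module, indexed in the universe of the scheme, all of whose generating
families are indexed by finite types of cardinality at most r.) -/
theorem result {ι : Type u} {X : Scheme.{u}} {Xi : ι → Scheme.{u}} (f : ∀ i, Xi i ⟶ X)
    (hf : Presieve.ofArrows Xi f ∈ Scheme.fpqcPrecoverage X) (F : X.Modules) [F.IsQuasicoherent] (r : ℕ)
    (h : ∀ i, ∃ σ : SheafOfModules.LocalGeneratorsData.{u} (R := (Xi i).ringCatSheaf) ((Scheme.Modules.pullback (f i)).obj F),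
      ∀ k, Finite (σ.generators k).I ∧ Nat.card (σ.generators k).I ≤ r) :
    ∃ σ : SheafOfModules.LocalGeneratorsData.{u} (R := X.ringCatSheaf) F,
      ∀ k, Finite (σ.generators k).I ∧ Nat.card (σ.generators k).I ≤ r := by
  classical
  rw [Scheme.fpqcPrecoverage] at hf
  have hflat : ∀ i, Flat (f i) := ((Scheme.ofArrows_mem_precoverage_iff (P := @Flat)).1 hf.2).2
  have hsurj : ∀ z : X, ∃ (i : ι) (x : Xi i), f i x = z := fun z => by
    obtain ⟨i, x, hx⟩ := ((Scheme.ofArrows_mem_precoverage_iff (P := @Flat)).1 hf.2).1 z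
    exact ⟨i, x, hx⟩
  have : QuasiCompactCover ({ I₀ := ι, X := Xi, f := f } : PreZeroHypercover.{u} X) :=
    Scheme.presieve₀_mem_qcPrecoverage_iff.1 hf.1
  have hFT : ∀ i, CohB1.IsFT ((Scheme.Modules.pullback (f i)).obj F) := fun i => by
    obtain ⟨σ, hσ⟩ := h i
    exact SheafOfModules.IsFiniteType.mk.{u} (R := (Xi i).ringCatSheaf)
      (M := (Scheme.Modules.pullback (f i)).obj F) ⟨σ, SheafOfModules.LocalGeneratorsData.IsFiniteType.mk
      (p := σ) fun k => SheafOfModules.GeneratingSections.IsFiniteType.mk (σ := σ.generators k) (hσ k).1⟩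
  have hrank : ∀ z : X, Props.QRank.fibreRank F z ≤ r := fun z => by
    obtain ⟨i, x, rfl⟩ := hsurj z
    obtain ⟨σ, hσ⟩ := h i
    obtain ⟨k, hk⟩ := TopologicalSpace.Opens.mem_iSup.mp
      (((Opens.coversTop_iff (U := σ.X)).mp σ.coversTop).ge
        (trivial : x ∈ (⊤ : (Xi i).Opens)))
    have := (hσ k).1
    rw [← RankLocus.fibreRank_pullback (f i) F x]
    exact (GenDesc52.fibreRank_le_of_span _ x _ (HomShEval.span_germ_over _ (σ.X k) (σ.generators k) hk)).trans
      (hσ k).2
  have hF : CohB1.IsFT F := by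
    refine QCoh.isFiniteType_of_forall_exists _ fun x₀ => ?_
    obtain ⟨_, ⟨W, hW, rfl⟩, hxW, -⟩ :=
      X.isBasis_affineOpens.exists_subset_of_mem_open (Set.mem_univ x₀) isOpen_univ
    have hW : IsAffineOpen W := hW
    refine ⟨W, hW, hxW, ?_⟩
    obtain ⟨n, c, V, hV, heq⟩ := QuasiCompactCover.exists_isAffineOpen_of_isCompact
      ({ I₀ := ι, X := Xi, f := f } : PreZeroHypercover.{u} X) hW.isCompact
    have hmem : ∀ m (x : Xi (c m)), x ∈ V m → f (c m) x ∈ W := fun m x hx => by
      have : f (c m) x ∈ (W : Set X) := heq ▸ Set.mem_iUnion.2 ⟨m, x, hx, rfl⟩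
      exact this
    choose G U' hU' hxU' hspan using fun m (x : V m) =>
      GenDesc52.exists_finset_nhd (f (c m)) F (hFT (c m)) hW x.1 (hmem m x.1 x.2)
    have hcov : ∀ m, ∃ t : Finset (V m), (V m : Set (Xi (c m))) ⊆ ⋃ x ∈ t, (U' m x : Set (Xi (c m))) := fun m =>
      (hV m).isCompact.elim_finite_subcover _ (fun x => (U' m x).2)
        fun y hy => Set.mem_iUnion.2 ⟨⟨y, hy⟩, hxU' m _⟩
    choose t ht using hcov
    let S : Finset Γ(F, W) := Finset.univ.biUnion fun m => (t m).biUnion (G m)
    refine ⟨⟨S, ZClosLib.CohDescent.eq_top_of_germSpan F hW _ fun z hz => ?_⟩⟩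
    obtain ⟨m, x, hx, rfl⟩ := Set.mem_iUnion.1 (heq.ge (show z ∈ (W : Set X) from hz))
    obtain ⟨y, hy, hxy⟩ := Set.mem_iUnion₂.1 (ht m hx)
    have := hflat (c m)
    refine top_le_iff.1 ((GenDesc52.germSpan_eq_top (f (c m)) F (G m y : Set Γ(F, W)) x hz
      (hspan m y x hxy)).ge.trans (Submodule.span_mono (Set.image_mono ?_)))
    refine Set.Subset.trans ?_ Submodule.subset_span
    intro s hs
    exact Finset.mem_biUnion.2 ⟨m, Finset.mem_univ _, Finset.mem_biUnion.2 ⟨y, hy, hs⟩⟩
  refine GenDesc52.exists_data F r fun y => ?_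
  obtain ⟨W, m, hyW, hm⟩ := RankLocus.mem_genLocus.1 (RankLocus.mem_genLocus_of_fibreRank_le hF (hrank y))
  exact ⟨W.1, hyW, m, fun z hz => Props.QRank.span_germ_eq_top F W.2 hm hz⟩

end Groth.Agent.S9861
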