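import Groth.Statements.S9862
import Groth.Agent.Desc77.SyntomicCover
import Groth.Agent.Depth.CM

set_option autoImplicit false
open CategoryTheory CategoryTheory.Limits AlgebraicGeometry Opposite
universe u
open Desc

namespace Groth.Agent.S9862

/-- A Noetherian local ring is Cohen-Macaulay iff it is `(S_k)` for every `k`. -/
theorem isCMLocal_iff (R : Type u) [CommRing R] [IsLocalRing R] [IsNoetherianRing R] :
    LocCoh.IsCohenMacaulayLocalRing R ↔ ∀ k, LocCoh.HasSk k R R := by
  constructor
  · intro h k
    haveI := h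
    exact GeomFieldLib.hasSk_of_isCohenMacaulayRing Depth.isCohenMacaulayRing_of_isCohenMacaulayLocalRing k
  · intro h
    have hloc : LocCoh.IsCohenMacaulayLocalRing (Localization.AtPrime (IsLocalRing.maximalIdeal R)) :=
      (GeomFieldLib.isCohenMacaulayRing_of_forall_hasSk h).isCohenMacaulayLocalRing_localization _
    let e : R ≃+* Localization.AtPrime (IsLocalRing.maximalIdeal R) :=
      (IsLocalization.atUnits R (IsLocalRing.maximalIdeal R).primeCompl
        (fun x hx => IsLocalRing.notMem_maximalIdeal.mp hx)).toRingEquiv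
    obtain ⟨h1, h2⟩ := EGA4Lib.depth_supportDim_ringEquiv e
    exact { supportDim_eq_depth := by rw [h1, h2]; exact hloc.supportDim_eq_depth }

/-- Being Cohen-Macaulay is local in the syntomic topology: for a jointly surjective family of syntomic
morphisms f i : X i ⟶ S, the scheme S is locally Noetherian with Cohen-Macaulay local rings if and
only if every X i is. -/
theorem result {ι : Type u} {S : Scheme.{u}} {X : ι → Scheme.{u}} (f : ∀ i, X i ⟶ S)
    (hsurj : ∀ s : S, ∃ i, s ∈ Set.range (f i).base) (hsyn : ∀ i, Synt.IsSyntomicMor (f i)) :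
    (IsLocallyNoetherian S ∧ ∀ s : S, LocCoh.IsCohenMacaulayLocalRing (S.presheaf.stalk s)) ↔
      ∀ i, IsLocallyNoetherian (X i) ∧ ∀ x : X i, LocCoh.IsCohenMacaulayLocalRing ((X i).presheaf.stalk x) := by
  constructor
  · rintro ⟨hS, hcm⟩ i
    have h := fun k => (Desc77.hasSk_iff_of_syntomic_cover f hsurj hsyn k).1
      ⟨hS, fun s => (isCMLocal_iff _).1 (hcm s) k⟩ i
    haveI := (h 0).1
    exact ⟨(h 0).1, fun x => (isCMLocal_iff _).2 fun k => (h k).2 x⟩
  · intro hX
    have h := fun k => (Desc77.hasSk_iff_of_syntomic_cover f hsurj hsyn k).2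
      fun i => ⟨(hX i).1, fun x => haveI := (hX i).1; (isCMLocal_iff _).1 ((hX i).2 x) k⟩
    haveI := (h 0).1
    exact ⟨(h 0).1, fun s => (isCMLocal_iff _).2 fun k => (h k).2 s⟩

end Groth.Agent.S9862
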