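import Groth.Statements.S9865
import Groth.Agent.Desc44.FamRefine

set_option autoImplicit false
open CategoryTheory CategoryTheory.Limits AlgebraicGeometry Opposite
universe u
open Desc

namespace Groth.Agent.S9865

/-- Let f : X' ⟶ X be a morphism of schemes over S, with structure morphisms a' : X' ⟶ S and a : X ⟶ S,
and assume there exists a morphism g : X ⟶ X' over S (for instance a section of f). Then the
pullback functor along f, from descent data for schemes relative to X ⟶ S to descent data relative
to X' ⟶ S, is an equivalence of categories. (Descent data relative to a single morphism are written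
as descent data relative to the corresponding one-member family.) -/
theorem result {X X' S : Scheme.{u}} (a : X ⟶ S) (a' : X' ⟶ S) (f : X' ⟶ X)
    (h : f ≫ a = a') (hg : ∃ g : X ⟶ X', g ≫ a' = a) :
    (Desc.pullDDFam (f := fun _ : PUnit.{u + 1} => a) (f' := fun _ : PUnit.{u + 1} => a') (α := fun j => j)
        (p := 𝟙 S) (p' := fun _ => f) (fun _ => (h).trans (Category.comp_id a').symm)).IsEquivalence := by
  obtain ⟨g, hg⟩ := hg
  have hC : Groth.Agent.Desc44.Covers (fun _ : PUnit.{u + 1} => a') (fun _ : PUnit.{u + 1} => a) :=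
    fun j W x => ⟨PUnit, fun _ => W, fun _ => 𝟙 W, Groth.Agent.Desc44.isDescFam_fpqc (𝟙 W),
      fun _ => ⟨⟨⟩, x ≫ g, by rw [Category.id_comp, Category.assoc, hg]⟩⟩
  haveI := Groth.Agent.Desc44.pull_faithful (α := fun j => j) (fun _ : PUnit.{u + 1} => h.trans (Category.comp_id a').symm) hC.epiCovers
  haveI := Groth.Agent.Desc44.pull_full (α := fun j => j) (fun _ : PUnit.{u + 1} => h.trans (Category.comp_id a').symm) hC
  haveI := Groth.Agent.Desc44.pull_essSurj (α := fun j => j) (fun _ : PUnit.{u + 1} => h.trans (Category.comp_id a').symm) fun D' j => by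
    show ∃ (Y : Over X) (z : Groth.Agent.Desc44.Fam D' (Y.hom ≫ a)), Groth.Agent.Desc44.IsUniv D' a Y z
    rw [← hg]
    exact ⟨_, _, (Groth.Agent.Desc44.isUniv_member D' ⟨⟩).baseChange g⟩
  exact { }

end Groth.Agent.S9865
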