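import Groth.Statements.S9866
import Groth.Agent.SGA1Desc.Glue

set_option autoImplicit false
set_option backward.isDefEq.respectTransparency false
open CategoryTheory CategoryTheory.Limits AlgebraicGeometry Opposite
universe u
open Desc

namespace Groth.Agent.S9866

/-- Let p : X ⟶ S be a surjective, flat, quasi-compact morphism of schemes and D = (V, φ) a descent
datum for schemes relative to p. Suppose every point v of V lies in the image of some morphism of
descent data D' ⟶ D whose underlying morphism of schemes over X is an open immersion and whose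
source D' is effective (isomorphic to the canonical descent datum of a scheme over S). Then D is
effective. (A φ-stable open W ⊆ V with its restricted descent datum, as in the published statement,
is the same thing as such a morphism D' ⟶ D up to isomorphism.) -/
theorem result {X S : Scheme.{u}} (p : X ⟶ S) [Surjective p] [Flat p] [QuasiCompact p]
    (D : Desc.SchDD p)
    (h : ∀ v : D.obj.left, ∃ (D' : Desc.SchDD p) (j : D' ⟶ D), IsOpenImmersion j.hom.left ∧
      v ∈ Set.range j.hom.left.base ∧ ∃ U' : Over S, Nonempty ((Desc.toDD p).obj U' ≅ D')) :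
    ∃ U : Over S, Nonempty ((Desc.toDD p).obj U ≅ D) := by
  open Groth.Agent.SGA1Desc in
  refine effective_of_pieces D fun v => ?_
  obtain ⟨D', j, hj, hv, U', ⟨e⟩⟩ := h v
  have key : ∀ ⦃T : Scheme.{u}⦄ (a : T ⟶ D'.obj.left) (x : T ⟶ X)
      (hx : (a ≫ D'.obj.hom) ≫ p = x ≫ p),
      ∃ b : T ⟶ D'.obj.left, Groth.Agent.SGA1Desc.Rel D' a b ∧ b ≫ D'.obj.hom = x ∧
        Groth.Agent.SGA1Desc.Rel D (a ≫ j.hom.left) (b ≫ j.hom.left) := by
    intro T a x hx
    obtain ⟨b, hb, hbx⟩ := Groth.Agent.SGA1Desc.exists_rel (D := D') a x hx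
    refine ⟨b, hb, hbx, ?_⟩
    subst hbx
    have hc := j.comm _ _ hb.1 ⟨a, rfl⟩ (j.push ⟨a, rfl⟩) rfl
    have := Groth.Agent.SGA1Desc.rel_of_phi _ _ hb.1 (j.push ⟨a, rfl⟩)
    rw [hc, hb.2] at this
    exact this
  let W := j.hom.left.opensRange
  have hW : W.ι.opensRange = j.hom.left.opensRange := Scheme.Opens.opensRange_ι _
  let i : D'.obj.left ≅ W.toScheme :=
    IsOpenImmersion.isoOfRangeEq j.hom.left W.ι (congrArg SetLike.coe hW).symm
  have hi : i.hom ≫ W.ι = j.hom.left := IsOpenImmersion.isoOfRangeEq_hom_fac _ _ _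
  have hback : ∀ ⦃T : Scheme.{u}⦄ (a b : T ⟶ D'.obj.left),
      Groth.Agent.SGA1Desc.Rel D (a ≫ j.hom.left) (b ≫ j.hom.left) →
        Groth.Agent.SGA1Desc.Rel D' a b := by
    intro T a b hab
    obtain ⟨c, hc, hcx, hcD⟩ := key a (b ≫ D'.obj.hom) (by
      have := hab.1
      simpa [Category.assoc, Over.w j.hom] using this)
    have := Groth.Agent.SGA1Desc.rel_unique hcD hab (by
      simpa [Category.assoc, Over.w j.hom] using hcx)
    rwa [(cancel_mono j.hom.left).1 this] at hc
  let E : D'.obj ≅ ((Desc.toDD p).obj U').obj :=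
    { hom := e.inv.hom, inv := e.hom.hom
      hom_inv_id := congrArg Desc.SchDD.Hom.hom e.inv_hom_id
      inv_hom_id := congrArg Desc.SchDD.Hom.hom e.hom_inv_id }
  let q : D'.obj.left ⟶ U'.left := E.hom.left ≫ pullback.snd p U'.hom
  have hsq : IsPullback q D'.obj.hom U'.hom p :=
    IsPullback.of_iso (IsPullback.of_hasPullback p U'.hom).flip
      ((Over.forget _).mapIso E).symm (Iso.refl _) (Iso.refl _) (Iso.refl _)
      (by
        change pullback.snd p U'.hom = E.inv.left ≫ E.hom.left ≫ pullback.snd p U'.hom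
        rw [← Category.assoc, ← Over.comp_left, E.inv_hom_id]
        exact (Category.id_comp _).symm)
      (by
        change pullback.fst p U'.hom ≫ 𝟙 _ = E.inv.left ≫ D'.obj.hom
        rw [Over.w E.inv, Category.comp_id]
        rfl)
      (by simp) (by simp)
  have hq : ∀ ⦃T : Scheme.{u}⦄ (a b : T ⟶ D'.obj.left),
      Groth.Agent.SGA1Desc.Rel D' a b → a ≫ q = b ≫ q := by
    intro T a b hab
    have h2 := e.inv.comm _ _ hab.1 ⟨a, rfl⟩ (e.inv.push ⟨a, rfl⟩) rfl
    rw [hab.2] at h2
    have h3 : b ≫ q = (a ≫ q) := by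
      change b ≫ e.inv.hom.left ≫ pullback.snd _ _ = a ≫ e.inv.hom.left ≫ pullback.snd _ _
      refine ((Category.assoc _ _ _).symm.trans ?_)
      refine (congrArg (· ≫ pullback.snd p U'.hom) h2.symm).trans ?_
      exact (pullback.lift_snd _ _ _).trans (Category.assoc _ _ _)
    exact h3.symm
  refine ⟨W, hv, ⟨{
    stable := ?_
    base := U'.left
    str := U'.hom
    q := i.inv ≫ q
    isPullback := ?_
    compat := ?_ }⟩⟩
  · intro T a b hab t ht
    let V := a ⁻¹ᵁ W
    have hr : Set.range (V.ι ≫ a).base ⊆ Set.range j.hom.left.base := by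
      rintro _ ⟨s, rfl⟩
      exact s.2
    let a' := IsOpenImmersion.lift j.hom.left (V.ι ≫ a) hr
    have ha' : a' ≫ j.hom.left = V.ι ≫ a := IsOpenImmersion.lift_fac _ _ _
    obtain ⟨b', -, hb'x, hb'⟩ := key a' (V.ι ≫ b ≫ D.obj.hom) (by
      rw [← Over.w j.hom, reassoc_of% ha', Category.assoc, Category.assoc, Category.assoc]
      have := hab.1
      simp only [Category.assoc] at this ⊢
      rw [this])
    rw [ha'] at hb'
    have hbb : b' ≫ j.hom.left = V.ι ≫ b := by
      refine Groth.Agent.SGA1Desc.rel_unique hb' (Groth.Agent.SGA1Desc.rel_comp _ hab) ?_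
      rw [Category.assoc, Over.w j.hom, hb'x, Category.assoc]
    have : (V.ι ≫ b).base ⟨t, ht⟩ ∈ Set.range j.hom.left.base := by
      rw [← hbb]
      exact ⟨_, rfl⟩
    exact this
  · exact IsPullback.of_iso hsq i (Iso.refl _) (Iso.refl _) (Iso.refl _) (by simp)
      (by simp [reassoc_of% hi]) (by simp) (by simp)
  · intro T a b hab
    simp only [← Category.assoc]
    refine hq _ _ (hback _ _ ?_)
    simpa [Category.assoc, ← hi] using hab

end Groth.Agent.S9866
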