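import Groth.Statements.S9867
import Groth.Agent.FpqcDesc.Props
import Groth.Agent.AlgSpCov.SchemeDescent

set_option autoImplicit false
open CategoryTheory CategoryTheory.Limits AlgebraicGeometry Opposite
universe u
open Desc

namespace Groth.Agent.S9867

/-- Being finite locally free (finite, flat and locally of finite presentation), and being finite
locally free of a given degree d, are fpqc local on the base; the descent directions, stated as
descent along surjective flat quasi-compact morphisms: if the base change of f along such a morphism
is finite locally free then so is f, and if moreover that base change has constant rank d (Mathlib's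
rank function of a finite flat morphism) then f has constant rank d. (With Zariski-locality on the
target these give the statements for arbitrary fpqc coverings; stability under base change is the
other direction.) -/
theorem result :
    MorphismProperty.DescendsAlong (fun _ _ f => Mor2.IsFinLocFree f : MorphismProperty Scheme.{u})
      (@Surjective ⊓ @Flat ⊓ @QuasiCompact : MorphismProperty Scheme.{u}) ∧
    ∀ d : ℕ, MorphismProperty.DescendsAlong (fun _ _ f => Mor2.IsFinLocFreeOfDeg d f : MorphismProperty Scheme.{u})
      (@Surjective ⊓ @Flat ⊓ @QuasiCompact : MorphismProperty Scheme.{u}) := by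
  have key : ∀ {A X Y Z : Scheme.{u}} {fst : A ⟶ X} {snd : A ⟶ Y} {f : X ⟶ Z} {g : Y ⟶ Z},
      IsPullback fst snd f g → (@Surjective ⊓ @Flat ⊓ @QuasiCompact : MorphismProperty Scheme.{u}) f →
      Mor2.IsFinLocFree fst → Mor2.IsFinLocFree g := by
    intro A X Y Z fst snd f g h hf hfst
    obtain ⟨h1, h2, h3⟩ := hfst
    refine ⟨?_, ?_, ?_⟩
    · exact FpqcDesc.descendsAlong_isFinite.of_isPullback h hf h1
    · exact AlgSpCov.descendsAlong_flat_fpqc.of_isPullback h hf h2
    · exact MorphismProperty.of_isPullback_of_descendsAlong h hf h3
  refine ⟨⟨fun h hf hfst => key h hf hfst⟩, fun d => ⟨fun {A X Y Z fst snd f g} h hf hfst => ?_⟩⟩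
  have hg := key h hf hfst.1
  obtain ⟨hfin, hflat, -⟩ := hg
  refine ⟨key h hf hfst.1, fun y => ?_⟩
  obtain ⟨⟨hs, -⟩, -⟩ := hf
  obtain ⟨x, rfl⟩ := hs.surj y
  haveI := hfin
  haveI := hflat
  rw [← hfst.2 x, Scheme.Hom.finrank_of_isPullback snd fst g f h.flip x]


end Groth.Agent.S9867
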