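import Groth.Statements.S9871
import Groth.Agent.AlgSp.Quot
import Groth.Agent.AlgSp.Space
-- import your own Groth.Agent.* helpers here

set_option autoImplicit false
set_option backward.isDefEq.respectTransparency.types false
universe u
open CategoryTheory CategoryTheory.Limits AlgebraicGeometry
open AlgSp

namespace Groth.Agent.S9871

/-- Let `s, t : R ⟶ U` be an etale equivalence relation on a scheme `U` over `S` and let `g : U' ⟶ U` be
an etale morphism over `S`. Let `s', t' : R' ⟶ U'` be the restriction to `U'`: `R'`, with `(t', s')`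
and `R' ⟶ R`, is the fibre product of `U' ×_S U'` and `R` over `U ×_S U`. Then `s', t'` is again an
etale equivalence relation. -/
theorem result (S : Scheme.{u}) {R U R' U' : Over S} (s t : R ⟶ U)
    (g : U' ⟶ U) (s' t' : R' ⟶ U') (r : R' ⟶ R)
    (hsq : IsPullback (prod.lift t' s') r (prod.map g g) (prod.lift t s))
    (h : AlgSp.IsEtaleEqvRel s t) [Etale g.left] :
    AlgSp.IsEtaleEqvRel s' t' := by
  have hT : r ≫ t = t' ≫ g := by
    have := congrArg (· ≫ prod.fst) hsq.w
    simpa [prod.lift_fst, prod.lift_fst_assoc] using this.symm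
  have hS : r ≫ s = s' ≫ g := by
    have := congrArg (· ≫ prod.snd) hsq.w
    simpa [prod.lift_snd, prod.lift_snd_assoc] using this.symm
  have lift : ∀ (T : Over S) (a b : T ⟶ U'), (∃ q : T ⟶ R, q ≫ t = a ≫ g ∧ q ≫ s = b ≫ g) ↔
      ∃ q : T ⟶ R', q ≫ t' = a ∧ q ≫ s' = b := by
    intro T a b
    constructor
    · rintro ⟨q, h1, h2⟩
      have w : prod.lift a b ≫ prod.map g g = q ≫ prod.lift t s := by
        apply prod.hom_ext <;> simp [prod.lift_fst, prod.lift_snd, prod.lift_fst_assoc, prod.lift_snd_assoc, h1, h2]
      have h3 := hsq.lift_fst _ _ w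
      refine ⟨hsq.lift _ _ w, ?_, ?_⟩
      · simpa [prod.lift_fst] using congrArg (· ≫ prod.fst) h3
      · simpa [prod.lift_snd] using congrArg (· ≫ prod.snd) h3
    · rintro ⟨q, h1, h2⟩
      exact ⟨q ≫ r, by rw [Category.assoc, hT, ← Category.assoc, h1],
        by rw [Category.assoc, hS, ← Category.assoc, h2]⟩
  have hsl : Etale (prod.map g g).left := by
    have hg : MorphismProperty.inverseImage @Etale (Over.forget S) g := ‹Etale g.left›
    exact Groth.Agent.AlgSp.prodMap_mem _ hg hg
  have hr : Etale r.left := MorphismProperty.of_isPullback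
    (P := MorphismProperty.inverseImage @Etale (Over.forget S)) hsq hsl
  have hs : Etale s.left := h.etale_left
  have ht : Etale t.left := h.etale_right
  refine { injective := fun T q q' h1 h2 => ?_, equivalence := fun T => ?_, etale_left := ?_, etale_right := ?_ }
  · refine hsq.hom_ext ?_ (h.injective T _ _ ?_ ?_)
    · apply prod.hom_ext <;> simp [prod.lift_fst, prod.lift_snd, h1, h2]
    · rw [Category.assoc, Category.assoc, hT, reassoc_of% h1]
    · rw [Category.assoc, Category.assoc, hS, reassoc_of% h2]
  · exact ⟨fun a => (lift T a a).1 ((h.equivalence T).refl _),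
      fun {a b} e => (lift T b a).1 ((h.equivalence T).symm ((lift T a b).2 e)),
      fun {a b c} e e' => (lift T a c).1 ((h.equivalence T).trans ((lift T a b).2 e) ((lift T b c).2 e'))⟩
  · have : Etale (s'.left ≫ g.left) := by rw [← Over.comp_left, ← hS, Over.comp_left]; infer_instance
    exact Etale.of_comp s'.left g.left
  · have : Etale (t'.left ≫ g.left) := by rw [← Over.comp_left, ← hT, Over.comp_left]; infer_instance
    exact Etale.of_comp t'.left g.left

end Groth.Agent.S9871
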