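import Groth.Statements.S9878
import Groth.Agent.AlgSp.Coprod
-- import your own Groth.Agent.* helpers here

set_option autoImplicit false
universe u
open CategoryTheory CategoryTheory.Limits AlgebraicGeometry
open AlgSp

set_option backward.isDefEq.respectTransparency.types false

namespace Groth.Agent.S9878

/-- Let `F`, `G` be fppf sheaves of sets over `S` and let `F ⨿ G` be their coproduct in sheaves (any
colimit binary cofan). Then the coprojection `F ⟶ F ⨿ G` is representable by schemes, by morphisms
that are both open immersions and closed immersions. -/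
theorem result (S : Scheme.{u}) (F G : AlgSp.Sp S) (c : BinaryCofan F G)
    (hc : IsColimit c) :
    AlgSp.RepWith (@IsOpenImmersion ⊓ @IsClosedImmersion) c.inl := by
  let X : ULift.{u} WalkingPair → AlgSp.Sp S := fun k => (pair F G).obj ⟨k.down⟩
  let d : Cofan X := Cofan.mk c.pt fun k => c.ι.app ⟨k.down⟩
  have hd : IsColimit d := Cofan.IsColimit.mk _
    (fun s => hc.desc (BinaryCofan.mk (s.inj ⟨WalkingPair.left⟩) (s.inj ⟨WalkingPair.right⟩)))
    (fun s k => by
      obtain ⟨k⟩ := k
      cases k <;> simp [d] <;> exact hc.fac _ _)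
    (fun s m h => BinaryCofan.IsColimit.hom_ext hc
      ((h ⟨WalkingPair.left⟩).trans (hc.fac (BinaryCofan.mk (s.inj ⟨WalkingPair.left⟩) (s.inj ⟨WalkingPair.right⟩)) ⟨WalkingPair.left⟩).symm)
      ((h ⟨WalkingPair.right⟩).trans (hc.fac (BinaryCofan.mk (s.inj ⟨WalkingPair.left⟩) (s.inj ⟨WalkingPair.right⟩)) ⟨WalkingPair.right⟩).symm))
  exact Groth.Agent.AlgSp.repWith_cofan_inj hd ⟨WalkingPair.left⟩

end Groth.Agent.S9878
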