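import Groth.Statements.S9879
import Groth.Agent.AlgSp.Coprod
-- import your own Groth.Agent.* helpers here

set_option autoImplicit false
universe u
open CategoryTheory CategoryTheory.Limits AlgebraicGeometry
open AlgSp

set_option backward.isDefEq.respectTransparency.types false

namespace Groth.Agent.S9879

/-- Let `U` be a scheme over `S` and `F_i` a family of fppf sheaves of sets over `S` whose coproduct in
sheaves is isomorphic to `h_U`. Then each `F_i` is representable by a scheme `V_i` over `S` such
that `V_i ⟶ U` (the morphism inducing `h_{V_i} ≅ F_i ⟶ ∐ F_i ≅ h_U`) is an open and closed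
immersion, and `U` is the coproduct of the `V_i` in schemes. -/
theorem result (S : Scheme.{u}) (U : Over S) {ι : Type u}
    (F : ι → AlgSp.Sp S) (c : Cofan F) (hc : IsColimit c) (e : c.pt ≅ (AlgSp.yon S).obj U) :
    ∃ (V : ι → Over S) (g : ∀ i, V i ⟶ U) (ei : ∀ i, (AlgSp.yon S).obj (V i) ≅ F i),
      (∀ i, IsOpenImmersion (g i).left ∧ IsClosedImmersion (g i).left) ∧
      (∀ i, (ei i).hom ≫ c.inj i ≫ e.hom = (AlgSp.yon S).map (g i)) ∧
      Nonempty (IsColimit (Cofan.mk U.left (fun i => (g i).left))) := by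
  obtain ⟨O, hdis, hcov, hpb⟩ := Groth.Agent.AlgSp.exists_open_decomp hc e.inv
  choose l hl using hpb
  have hiso : ∀ i, IsIso (l i) := fun i => (hl i).isIso_fst_of_isIso
  refine ⟨fun i => Groth.Agent.AlgSp.openOver U (O i), fun i => Groth.Agent.AlgSp.openι U (O i),
    fun i => (have := hiso i; asIso (l i)), fun i => ⟨inferInstanceAs (IsOpenImmersion (O i).ι), ?_⟩,
    fun i => ?_, ?_⟩
  · have h := (Groth.Agent.AlgSp.repWith_cofan_inj hc i).2 e.inv (l i) (Groth.Agent.AlgSp.openι U (O i)) (hl i)
    exact h.2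
  · change l i ≫ c.inj i ≫ e.hom = _
    rw [← Category.assoc, (hl i).w, Category.assoc, e.inv_hom_id, Category.comp_id]
  · refine nonempty_isColimit_cofanMk_of (fun i => (O i).ι) ?_ fun i j hij => ?_
    · refine eq_top_iff.2 fun x _ => ?_
      obtain ⟨i, hi⟩ := hcov x
      exact TopologicalSpace.Opens.mem_iSup.2 ⟨i, by simpa using hi⟩
    · simp only [Function.onFun, Scheme.Opens.opensRange_ι]
      rw [disjoint_iff, eq_bot_iff]
      intro x hx
      exact absurd (hdis i j x hx.1 hx.2) hij

end Groth.Agent.S9879
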