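import Groth.Statements.S9881
import Groth.Agent.AlgSp.CoprodCover
import Groth.Agent.AlgSp.Coprod
-- import your own Groth.Agent.* helpers here

set_option autoImplicit false
universe u
open CategoryTheory CategoryTheory.Limits AlgebraicGeometry
open AlgSp

set_option backward.isDefEq.respectTransparency.types false

namespace Groth.Agent.S9881

/-- Let `F_i` be a family of algebraic spaces over `S` indexed by a type in the universe of `S`, so that
the coproduct of any chosen atlases exists as a scheme (this realizes the size condition of the
published statement). Then the coproduct `∐ F_i` in fppf sheaves of sets over `S` (any colimit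
cofan) is an algebraic space over `S`. -/
theorem result (S : Scheme.{u}) {ι : Type u} (F : ι → AlgSp.Sp S)
    (h : ∀ i, AlgSp.IsAlgSpace (F i)) (c : Cofan F) (hc : IsColimit c) : AlgSp.IsAlgSpace c.pt := by
  exact Groth.Agent.AlgSp.isAlgSpace_of_etale_epi_family c.inj h
    (fun i => Groth.Agent.AlgSp.repWith_mono (Q := @Etale)
      (fun g hg => have : IsOpenImmersion g := hg.1; inferInstance) (Groth.Agent.AlgSp.repWith_cofan_inj hc i))
    fun Q a b hab => Cofan.IsColimit.hom_ext hc _ _ hab

end Groth.Agent.S9881
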