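import Groth.Statements.S9886
import Groth.Agent.AlgSp.Basic
-- import your own Groth.Agent.* helpers here

set_option autoImplicit false
universe u
open CategoryTheory CategoryTheory.Limits AlgebraicGeometry
open AlgSp

namespace Groth.Agent.S9886

/-- Let `F` be an fppf sheaf of sets over `S` and `P` a property of morphisms of schemes stable under
base change. Assume that for all schemes `U`, `V` over `S` and all `a : h_U ⟶ F`, `b : h_V ⟶ F` the
fibre product `h_U ×_F h_V` is represented by some scheme `W` over `S` with its projections induced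
by morphisms `W ⟶ U`, `W ⟶ V`, and that for every such represented fibre product the morphism `W ⟶ U
×_S V` has `P`. Then the diagonal `F ⟶ F × F` is representable by schemes and has `P`. (The
published statement is for a presheaf of sets `F` and a property `P` that is also fppf local on the
base; this row takes `F` an fppf sheaf and `P` only stable under base change.) -/
theorem result (S : Scheme.{u}) (F : AlgSp.Sp S) (P : MorphismProperty Scheme.{u})
    [P.IsStableUnderBaseChange]
    (h₁ : ∀ ⦃U V : Over S⦄ (a : (AlgSp.yon S).obj U ⟶ F) (b : (AlgSp.yon S).obj V ⟶ F),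
      ∃ (W : Over S) (fst : W ⟶ U) (snd : W ⟶ V), IsPullback ((AlgSp.yon S).map fst) ((AlgSp.yon S).map snd) a b)
    (h₂ : ∀ ⦃U V W : Over S⦄ (a : (AlgSp.yon S).obj U ⟶ F) (b : (AlgSp.yon S).obj V ⟶ F) (fst : W ⟶ U)
      (snd : W ⟶ V), IsPullback ((AlgSp.yon S).map fst) ((AlgSp.yon S).map snd) a b → P (prod.lift fst snd).left) :
    AlgSp.RepWith P (Limits.diag F) := by
  refine MorphismProperty.relative.of_exists fun U g => ?_
  let a := g ≫ prod.fst
  let b := g ≫ prod.snd
  obtain ⟨W, p, q, sq⟩ := h₁ a b
  have hP : P (prod.lift p q).left := h₂ a b p q sq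
  let sqE := IsPullback.of_hasPullback (prod.lift p q) (Limits.diag U)
  refine ⟨pullback (prod.lift p q) (Limits.diag U),
    (AlgSp.yon S).map (pullback.snd (prod.lift p q) (Limits.diag U)) ≫ a,
    pullback.snd (prod.lift p q) (Limits.diag U), ?_,
    MorphismProperty.of_isPullback (P := P.inverseImage (Over.forget S)) sqE hP⟩
  set e₁ := pullback.fst (prod.lift p q) (Limits.diag U)
  set e₂ := pullback.snd (prod.lift p q) (Limits.diag U)
  have h12 := pullback.condition (f := prod.lift p q) (g := Limits.diag U)
  have hp : e₁ ≫ p = e₂ := by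
    have h := congrArg (· ≫ prod.fst) h12
    simp only [Category.assoc, prod.lift_fst, Category.comp_id] at h
    exact h
  have hq : e₁ ≫ q = e₂ := by
    have h := congrArg (· ≫ prod.snd) h12
    simp only [Category.assoc, prod.lift_snd, Category.comp_id] at h
    exact h
  have hab : (AlgSp.yon S).map e₂ ≫ a = (AlgSp.yon S).map e₂ ≫ b := by
    conv_lhs => rw [← hp, Functor.map_comp, Category.assoc, sq.w, ← Category.assoc, ← Functor.map_comp, hq]
  have sqy := sqE.map (AlgSp.yon S)
  refine IsPullback.of_isLimit' ⟨?_⟩ (PullbackCone.IsLimit.mk _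
    (fun s => sqy.lift (sq.lift s.snd s.snd ?_) s.snd ?_) (fun s => ?_) (fun s => ?_) (fun s m _ hm => ?_))
  · apply prod.hom_ext
    · rw [Category.assoc, prod.lift_fst, Category.comp_id, Category.assoc]
    · rw [Category.assoc, prod.lift_snd, Category.comp_id, Category.assoc]
      exact hab
  · have h1 := congrArg (· ≫ prod.fst) s.condition
    have h2 := congrArg (· ≫ prod.snd) s.condition
    simp only [Category.assoc, prod.lift_fst, prod.lift_snd, Category.comp_id] at h1 h2
    exact h1.symm.trans h2
  · have : IsIso (prodComparison (AlgSp.yon S) U U) := inferInstance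
    rw [← cancel_mono (prodComparison (AlgSp.yon S) U U)]
    apply prod.hom_ext
    · simp only [Category.assoc, prodComparison_fst, ← Functor.map_comp, prod.lift_fst]
      rw [sq.lift_fst, (AlgSp.yon S).map_id, Category.comp_id]
    · simp only [Category.assoc, prodComparison_snd, ← Functor.map_comp, prod.lift_snd]
      rw [sq.lift_snd, (AlgSp.yon S).map_id, Category.comp_id]
  · have h1 := congrArg (· ≫ prod.fst) s.condition
    simp only [Category.assoc, prod.lift_fst, Category.comp_id] at h1
    rw [sqy.lift_snd_assoc]
    exact h1.symm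
  · exact sqy.lift_snd _ _ _
  · apply sqy.hom_ext
    · rw [sqy.lift_fst]
      apply sq.hom_ext
      · rw [sq.lift_fst, Category.assoc, ← Functor.map_comp, hp, hm]
      · rw [sq.lift_snd, Category.assoc, ← Functor.map_comp, hq, hm]
    · rw [sqy.lift_snd, hm]

end Groth.Agent.S9886
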