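import Groth.Statements.S9890
import Groth.Agent.AlgSp.GroupQuot
import Groth.Agent.AlgSp.DescentSepLqf
import Groth.Agent.AlgSp.Quot
-- import your own Groth.Agent.* helpers here

set_option autoImplicit false
universe u
open CategoryTheory CategoryTheory.Limits AlgebraicGeometry
open AlgSp

set_option backward.isDefEq.respectTransparency.types false

namespace Groth.Agent.S9890

/-- Let a finite group `G` act freely (no non-identity element fixes a point together with its residue
field) by `S`-automorphisms on a scheme `U` over `S`, and let `s, t : R = ∐_{g ∈ G} U ⟶ U` be the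
identity and the action. When `U ⟶ S` is quasi-separated, so is the quotient sheaf `U/G = U/R` over
`S`; when `U ⟶ S` is separated, `U/G` is also separated over `S`. -/
theorem result (S : Scheme.{u}) (U : Over S) (G : Type u) [Group G] [Finite G]
    (ρ : G →* Aut U)
    (hfree : ∀ (g : G) (x : U.left), g ≠ 1 →
      U.left.fromSpecResidueField x ≫ (ρ g).hom.left ≠ U.left.fromSpecResidueField x)
    (c : Cofan (fun _ : G => U)) (hc : IsColimit c) (s t : c.pt ⟶ U)
    (hs : ∀ g, c.inj g ≫ s = 𝟙 U) (ht : ∀ g, c.inj g ≫ t = (ρ g).hom) :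
    (QuasiSeparated U.hom → AlgSp.IsQuasiSeparatedSp (QuotSh.quot Scheme.fppfPrecoverage s t)) ∧
      (IsSeparated U.hom → AlgSp.IsSeparatedSp (QuotSh.quot Scheme.fppfPrecoverage s t)) := by
  have hE := Groth.Agent.AlgSp.isEtaleEqvRel_of_free ρ hfree hc hs ht
  obtain ⟨ho, hcov, -⟩ := Groth.Agent.AlgSp.cofan_over_props hc
  have := Groth.Agent.AlgSp.isLocallySurjective_yπ s t
  let p := Groth.Agent.AlgSp.yπ s t
  have sq := Groth.Agent.AlgSp.isPullback_yπ s t hE.toIsEqvRel
  have hd := (Groth.Agent.AlgSp.isAlgSpace_of_kernelPair p sq hE.etale_left).1.diag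
  have := Groth.Agent.AlgSp.isLocallySurjective_prodMap p p
  have hstep : ∀ (P : MorphismProperty Scheme.{u}) [P.IsStableUnderBaseChange]
      [P.IsLocalAtTarget Scheme.fppfPrecoverage], P (prod.lift t s).left →
      AlgSp.RepWith P (Limits.diag (QuotSh.quot Scheme.fppfPrecoverage s t)) := fun P _ _ hP => by
    refine Groth.Agent.AlgSp.repWith_of_isPullback_of_isLocallySurjective _ hd (prod.map p p) _ _
      (Groth.Agent.AlgSp.isPullback_diag_prodMap p sq) P ?_
    rw [Groth.Agent.AlgSp.prodLift_map]
    exact (MorphismProperty.cancel_right_of_respectsIso _ _ _).2 ((AlgSp.repWith_yon_map_iff _ _).2 hP)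
  have hsq : QuasiCompact s.left := by
    refine ⟨fun V hV hVc => ?_⟩
    have e : s.left ⁻¹' V = ⋃ g : G, (c.inj g).left '' V := by
      ext x
      simp only [Set.mem_preimage, Set.mem_iUnion, Set.mem_image]
      constructor
      · intro hx
        obtain ⟨g, y, rfl⟩ := hcov x
        refine ⟨g, y, ?_, rfl⟩
        rwa [show s.left ((c.inj g).left y) = y from congrArg (fun k : U ⟶ U => k.left y) (hs g)] at hx
      · rintro ⟨g, y, hy, rfl⟩
        rwa [show s.left ((c.inj g).left y) = y from congrArg (fun k : U ⟶ U => k.left y) (hs g)]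
    rw [e]
    exact isCompact_iUnion fun g => hVc.image (c.inj g).left.continuous
  have e2 : (prod.lift t s).left ≫ (prod.snd : U ⨯ U ⟶ U).left = s.left := by
    rw [← Over.comp_left, prod.lift_snd]
  have hsnd : ∀ (P : MorphismProperty Scheme.{u}) [P.IsStableUnderBaseChange], P U.hom →
      P (prod.snd : U ⨯ U ⟶ U).left := fun P _ hP => by
    have : P.RespectsIso := MorphismProperty.IsStableUnderBaseChange.respectsIso
    rw [← Over.prodLeftIsoPullback_hom_snd, MorphismProperty.cancel_left_of_respectsIso P]
    exact P.pullback_snd _ _ hP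
  refine ⟨fun hq => hstep _ ?_, fun hq => hstep _ ?_⟩
  · have := hsnd @QuasiSeparated hq
    have : QuasiCompact ((prod.lift t s).left ≫ (prod.snd : U ⨯ U ⟶ U).left) := e2 ▸ hsq
    exact QuasiCompact.of_comp _ (prod.snd : U ⨯ U ⟶ U).left
  · have := hsnd @IsSeparated hq
    have : Etale s.left := hE.etale_left
    have hlft : LocallyOfFiniteType (prod.lift t s).left := by
      have : LocallyOfFiniteType ((prod.lift t s).left ≫ (prod.snd : U ⨯ U ⟶ U).left) := e2 ▸ inferInstance
      exact locallyOfFiniteType_of_comp _ (prod.snd : U ⨯ U ⟶ U).left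
    have hm : Mono (prod.lift t s).left := by
      have : Mono (prod.lift t s) := ⟨fun a b w => hE.injective _ _ _
        (by simpa [prod.lift_fst] using congrArg (· ≫ prod.fst) w)
        (by simpa [prod.lift_snd] using congrArg (· ≫ prod.snd) w)⟩
      infer_instance
    have huc : UniversallyClosed (prod.lift t s).left := by
      refine Groth.Agent.AlgSp.universallyClosed_of_finite_family _ (fun g => (c.inj g).left) hcov fun g => ?_
      have e : ((c.inj g).left ≫ (prod.lift t s).left) ≫ (prod.snd : U ⨯ U ⟶ U).left = 𝟙 U.left := by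
        rw [Category.assoc, e2, ← Over.comp_left, hs, Over.id_left]
      have : UniversallyClosed (((c.inj g).left ≫ (prod.lift t s).left) ≫ (prod.snd : U ⨯ U ⟶ U).left) :=
        e ▸ inferInstance
      exact UniversallyClosed.of_comp_of_isSeparated _ (prod.snd : U ⨯ U ⟶ U).left
    exact (IsClosedImmersion.iff_isProper_and_mono _).2 ⟨{}, hm⟩

end Groth.Agent.S9890
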