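import Groth.Statements.S9898
import Groth.Agent.AlgSp.JshriekEquiv
-- import your own Groth.Agent.* helpers here

set_option autoImplicit false
universe u
open CategoryTheory CategoryTheory.Limits AlgebraicGeometry
open AlgSp

set_option backward.isDefEq.respectTransparency.types false

namespace Groth.Agent.S9898

/-- Let `g : S ⟶ S'` be a morphism of schemes and `j_!` the left adjoint of the restriction functor from
fppf sheaves of sets on schemes over `S'` to those on schemes over `S`. Then there is an equivalence
between the category of algebraic spaces over `S` and the category of pairs (an algebraic space `F'`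
over `S'`, a morphism `F' ⟶ h_S` of algebraic spaces over `S'`), i.e. the over category of `h_S` in
algebraic spaces over `S'`, sending `F` to `j_! F`: the equivalence composed with the forgetful
functor to sheaves over `S'` is isomorphic to `j_!` on underlying sheaves. (Only this compatibility
is pinned; the structure maps `j_! F ⟶ h_S` are not.) -/
theorem result {S S' : Scheme.{u}} (g : S ⟶ S') :
    ∃ E : AlgSp.Space S ≌ Over ((AlgSp.ofScheme S').obj (Over.mk g)),
      Nonempty (E.functor ⋙ Over.forget _ ⋙ ObjectProperty.ι (AlgSp.IsAlgSpace (S := S')) ≅
        ObjectProperty.ι (AlgSp.IsAlgSpace (S := S)) ⋙ ((Over.map g).sheafPullback (Type (u + 1)) (AlgSp.J S) (AlgSp.J S'))) := by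
  exact ⟨(Groth.Agent.AlgSp.Jshriek.toOver g).asEquivalence,
    ⟨NatIso.ofComponents (fun F => Iso.refl _) (fun {F F'} f => by
      simp only [Iso.refl_hom, Category.comp_id, Category.id_comp]; rfl)⟩⟩

end Groth.Agent.S9898
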