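import Groth.Statements.S9929
import Groth.Agent.AlgSp.Space
import Groth.Agent.AlgSpB.FieldPoints
import Groth.Agent.AlgSpB.RedInduced
-- import your own Groth.Agent.* helpers here

set_option autoImplicit false
universe u
open CategoryTheory CategoryTheory.Limits AlgebraicGeometry
open AlgSp

set_option backward.isDefEq.respectTransparency.types false

namespace Groth.Agent.S9929

/-- A monomorphism from an algebraic space to the spectrum of a field is either the empty space or an
isomorphism. -/
theorem result {S : Scheme.{u}} {k : Type u} [Field k] (str : Spec (CommRingCat.of k) ⟶ S)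
    (Z : AlgSp.Space S) (f : Z ⟶ (AlgSp.ofScheme S).obj (Over.mk str)) [Mono f.hom] :
    IsEmpty (AlgSp.Points Z.obj) ∨ IsIso f := by
  rcases isEmpty_or_nonempty (AlgSp.Points Z.obj) with h | h
  · exact Or.inl h
  right
  obtain ⟨U, a, ha, has⟩ := Z.property.atlas
  let T : Over S := Over.mk str
  let fh : Z.obj ⟶ (AlgSp.yon S).obj T := f.hom
  have : Mono fh := inferInstanceAs (Mono f.hom)
  obtain ⟨m, hm⟩ := (AlgSp.yon S).map_surjective (a ≫ fh)
  obtain ⟨u⟩ : Nonempty U.left := by
    obtain ⟨z⟩ := h
    obtain ⟨u, -⟩ := Groth.Agent.AlgSpB.surjective_ofPt has z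
    exact ⟨u⟩
  have hP := (IsPullback.of_hasPullback m m).map (AlgSp.yon S)
  rw [hm] at hP
  have sq : IsPullback ((AlgSp.yon S).map (pullback.fst m m)) ((AlgSp.yon S).map (pullback.snd m m)) a a := by
    refine IsPullback.of_isLimit' ⟨(cancel_mono fh).1 (by rw [Category.assoc, Category.assoc]; exact hP.w)⟩
      (PullbackCone.IsLimit.mk _ (fun c => hP.lift c.fst c.snd (by rw [← Category.assoc, c.condition, Category.assoc]))
        (fun c => hP.lift_fst _ _ _) (fun c => hP.lift_snd _ _ _)
        (fun c n h1 h2 => hP.hom_ext (by rw [h1, hP.lift_fst]) (by rw [h2, hP.lift_snd])))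
  have hfst : Etale (pullback.fst m m).left := ha.2 _ _ _ sq.flip
  have hfst' : Etale (pullback.fst m.left m.left) := by
    have h2 := ((IsPullback.of_hasPullback m m).map (Over.forget S)).isoPullback_inv_fst
    change Etale (pullback.fst ((Over.forget S).map m) ((Over.forget S).map m))
    rw [← h2]
    exact (MorphismProperty.cancel_left_of_respectsIso @Etale _ _).2 hfst
  obtain ⟨O, hO, huO, -⟩ := exists_isAffineOpen_mem_and_subset (x := u) (U := ⊤) trivial
  have : IsAffine (O : Scheme.{u}) := hO
  let c : O.toScheme ⟶ Spec (CommRingCat.of k) := O.ι ≫ m.left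
  have : Flat c := Groth.Agent.AlgSpB.flat_of_field c
  have : Surjective c := ⟨fun y => ⟨⟨u, huO⟩, Subsingleton.elim (α := Spec (CommRingCat.of k)) _ _⟩⟩
  have : QuasiCompact c := quasiCompact_of_compactSpace _
  have hc : Etale (pullback.fst c m.left) := by
    rw [← (pullbackRightPullbackFstIso m.left m.left O.ι).inv_hom_id_assoc (pullback.fst c m.left),
      pullbackRightPullbackFstIso_hom_fst]
    exact (MorphismProperty.cancel_left_of_respectsIso @Etale _ _).2
      (MorphismProperty.pullback_fst _ _ hfst')
  have hme : Etale m.left :=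
    MorphismProperty.of_pullback_fst_of_descendsAlong (P := @Etale) (Q := @Surjective ⊓ @Flat ⊓ @QuasiCompact)
      ⟨⟨‹Surjective c›, ‹Flat c›⟩, ‹QuasiCompact c›⟩ hc
  have hms : Surjective m.left := ⟨fun y => ⟨u, Subsingleton.elim (α := Spec (CommRingCat.of k)) _ _⟩⟩
  have := Groth.Agent.AlgSp.isLocallySurjective_of_etale_surjective ((AlgSp.yon S).map m)
    ((AlgSp.repWith_yon_map_iff _ m).2 hme) ((AlgSp.repWith_yon_map_iff _ m).2 hms)
  have : Epi ((AlgSp.yon S).map m) := (Sheaf.isLocallySurjective_iff_epi _).1 inferInstance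
  have : Epi fh := by
    have : Epi (a ≫ fh) := hm ▸ inferInstance
    exact epi_of_epi a fh
  have : IsIso fh := isIso_of_mono_of_epi _
  have : IsIso ((ObjectProperty.ι _).map f) := this
  exact isIso_of_reflects_iso f (ObjectProperty.ι _)

end Groth.Agent.S9929
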