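import Groth.Statements.S9930
import Groth.Agent.AlgSp.PointsMor
-- import your own Groth.Agent.* helpers here

set_option autoImplicit false
set_option backward.isDefEq.respectTransparency.types false
universe u
open CategoryTheory CategoryTheory.Limits AlgebraicGeometry
open AlgSp

namespace Groth.Agent.S9930

/-- For a morphism of algebraic spaces representable by schemes, representable universal submersiveness
is equivalent to |Z x_Y X| -> |Z| being a quotient map after every base change along a morphism of
algebraic spaces. -/
theorem result {S : Scheme.{u}} {X Y : AlgSp.Space S} (f : X ⟶ Y)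
    (hf : AlgSp.Representable f.hom) :
    AlgSp.RepWith SGA1.UnivSubmersive f.hom ↔ AlgSp.IsUnivSubmersiveMor f.hom := by
  constructor
  · intro h Z Z' hZ g fst snd sq
    have h' := MorphismProperty.of_isPullback sq h
    have hs : Function.Surjective (AlgSp.Points.map snd) := by
      rw [← Groth.Agent.AlgSp.repWith_surjective_iff snd h'.1]
      refine ⟨h'.1, fun U V g' fst' snd' sq' => ⟨?_⟩⟩
      have := MorphismProperty.universally_le (P := topologically fun f => Topology.IsQuotientMap f) _
        (h'.2 g' fst' snd' sq')
      exact this.surjective
    refine Topology.isQuotientMap_iff_isClosed.2 ⟨hs, fun W => ⟨fun hW => hW.preimage (AlgSp.Points.continuous_map snd),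
      fun hW => Groth.Agent.AlgSp.isClosed_iff_ofPt.2 fun T t => ?_⟩⟩
    have hq := (Groth.Agent.AlgSp.isQuotientMap_map_iff_of_schemes (h'.1.snd t)).2
      (MorphismProperty.universally_le (P := topologically fun f => Topology.IsQuotientMap f) _
        (h'.2 t _ _ (h'.1.isPullback t)))
    rw [Groth.Agent.AlgSp.ofPt_preimage_eq]
    refine (hq.isClosed_preimage.1 ?_).preimage (AlgSp.Points.schemeHomeo T).continuous
    have := hW.preimage (AlgSp.Points.continuous_map (h'.1.fst t))
    convert this using 1
    ext x
    simp only [Set.mem_preimage, ← AlgSp.Points.map_comp, h'.1.w t]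
  · intro h
    exact Groth.Agent.AlgSp.universally_of_points hf
      (Q := topologically fun f => Topology.IsQuotientMap f)
      (fun φ hφ => (Groth.Agent.AlgSp.isQuotientMap_map_iff_of_schemes φ).1 hφ) h

end Groth.Agent.S9930
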