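import Groth.Statements.S9934
import Groth.Agent.AlgSp.PointsMor
-- import your own Groth.Agent.* helpers here

set_option autoImplicit false
set_option backward.isDefEq.respectTransparency.types false
universe u
open CategoryTheory CategoryTheory.Limits AlgebraicGeometry
open AlgSp

namespace Groth.Agent.S9934

/-- An immersion of algebraic spaces is a closed immersion exactly when its image on points is closed. -/
theorem result {S : Scheme.{u}} {Z X : AlgSp.Space S} (i : Z ⟶ X)
    (hi : AlgSp.RepWith @IsImmersion i.hom) :
    AlgSp.RepWith @IsClosedImmersion i.hom ↔ IsClosed (Set.range (AlgSp.Points.map i.hom)) := by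
  refine ⟨fun h => ?_, fun h => ⟨hi.1, fun U V g fst snd sq => ?_⟩⟩
  · have h' := Groth.Agent.AlgSp.isClosedMap_map_of_repWith (Groth.Agent.AlgSp.repWith_mono
      (Q := @UniversallyClosed) (fun g hg => have : IsClosedImmersion g := hg; inferInstance) h)
    exact h'.isClosed_range
  · have : IsImmersion snd.left := hi.2 g fst snd sq
    refine IsClosedImmersion.of_isPreimmersion snd.left ?_
    have h1 := h.preimage (AlgSp.Points.continuous_map g)
    rw [← Set.image_univ, Groth.Agent.AlgSp.preimage_image_map sq, Set.preimage_univ, Set.image_univ,
      AlgSp.Points.map_yon_map_eq, Set.range_comp, Set.range_comp,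
      (AlgSp.Points.schemeHomeo V).symm.surjective.range_eq, Set.image_univ,
      Homeomorph.isClosed_image] at h1
    exact h1

end Groth.Agent.S9934
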