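import Groth.Statements.S9944
import Groth.Agent.AlgSp.AffineMor
import Groth.Agent.AlgSp.Sep
import Groth.Agent.AlgSp.Diag
-- import your own Groth.Agent.* helpers here

set_option autoImplicit false
universe u
open CategoryTheory CategoryTheory.Limits AlgebraicGeometry
open AlgSp

set_option backward.isDefEq.respectTransparency.types false

namespace Groth.Agent.S9944

/-- Let g : X -> Y be a morphism over a base algebraic space B with X affine over B. Then g is affine as
soon as the diagonal of Y over B is affine, and in particular as soon as Y is B-separated. (The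
published lemma also has two versions with the absolute diagonal of Y; this row states the versions
over B.) -/
theorem result {S : Scheme.{u}} {X Y B : AlgSp.Space S} (g : X ⟶ Y) (p : X ⟶ B)
    (q : Y ⟶ B) (comm : g ≫ q = p) (hp : AlgSp.IsAffineMor p.hom) :
    (AlgSp.IsAffineMor (pullback.diagonal q.hom) → AlgSp.IsAffineMor g.hom) ∧
    (AlgSp.IsSeparatedMor q.hom → AlgSp.IsAffineMor g.hom) := by
  have e : g.hom ≫ q.hom = p.hom := congrArg InducedCategory.Hom.hom comm
  rw [← e] at hp
  refine ⟨fun h => Groth.Agent.AlgSp.isAffineMor_over_base g.hom q.hom hp ((Groth.Agent.AlgSp.isAffineMor_iff _).1 h), fun h =>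
    Groth.Agent.AlgSp.isAffineMor_over_base g.hom q.hom hp (Groth.Agent.AlgSp.repWith_mono (fun k hk => ?_) h)⟩
  have : IsClosedImmersion k := hk
  infer_instance

end Groth.Agent.S9944
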