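import Groth.Statements.S9945
import Groth.Agent.AlgSpCov.Listed
import Groth.Agent.AlgSp.AffineMor
import Groth.Agent.AlgSpD.DecentCrit
import Groth.Agent.AlgSp.Space
-- import your own Groth.Agent.* helpers here

set_option autoImplicit false
universe u
open CategoryTheory CategoryTheory.Limits AlgebraicGeometry
open AlgSp

set_option backward.isDefEq.respectTransparency.types false

namespace Groth.Agent.S9945

/-- Over a base scheme with quasi-separated underlying space, every morphism from the spectrum of an
Artinian ring to an algebraic space quasi-separated over S is affine. (The published statement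
assumes X quasi-separated in the absolute sense over any base; this row assumes the base
quasi-separated and X quasi-separated over it, which on such bases is the same condition.) -/
theorem result {S : Scheme.{u}} [QuasiSeparatedSpace ↥S] (X : AlgSp.Space S)
    (hX : AlgSp.IsQuasiSeparatedSp X.obj) (A : Type u) [CommRing A] [IsArtinianRing A]
    (str : Spec (CommRingCat.of A) ⟶ S) (a : (AlgSp.yon S).obj (Over.mk str) ⟶ X.obj) :
    AlgSp.IsAffineMor a := by
  refine Groth.Agent.AlgSp.isAffineMor_of_etale_affine X.property a fun V hV b hb P fst snd sq => ?_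
  obtain ⟨W, q₁, q₂, sqW⟩ := Groth.Agent.AlgSp.exists_isPullback_yon X.property.diag a b
  refine ⟨W, ?_, ⟨sqW.isoIsPullback _ _ sq⟩⟩
  have : QuasiCompact (Groth.Agent.AlgSpB.pairHom q₁ q₂) := Groth.Agent.AlgSpB.prop_pairHom hX sqW
  have : IsArtinianRing (CommRingCat.of A) := inferInstanceAs (IsArtinianRing A)
  have : IsLocallyArtinian (Over.mk str).left := inferInstanceAs (IsLocallyArtinian (Spec (CommRingCat.of A)))
  have : Finite ↥(Over.mk str).left := inferInstanceAs (Finite (PrimeSpectrum A))
  have : QuasiCompact (Over.mk str).hom := Groth.Agent.AlgSpD.quasiCompact_of_finite _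
  have h : Groth.Agent.AlgSpB.pairHom q₁ q₂ ≫ pullback.snd (Over.mk str).hom V.hom = q₂.left :=
    pullback.lift_snd _ _ _
  have : QuasiCompact q₂.left := by rw [← h]; infer_instance
  have : CompactSpace ↥W.left := QuasiCompact.compactSpace_of_compactSpace q₂.left
  have : Etale q₁.left := hb.2 _ _ _ sqW.flip
  have : IsAffine (Over.mk str).left := inferInstanceAs (IsAffine (Spec (CommRingCat.of A)))
  have : QuasiCompact q₁.left := (HasAffineProperty.iff_of_isAffine (P := @QuasiCompact)).2 ‹CompactSpace ↥W.left›
  have : LocallyQuasiFinite q₁.left := Groth.Agent.AlgSpCov.etale_le_locallyQuasiFinite _ _ _ ‹Etale q₁.left›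
  have : IsFinite q₁.left := IsFinite.of_locallyQuasiFinite _
  exact isAffine_of_isAffineHom q₁.left

end Groth.Agent.S9945
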