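import Groth.Statements.S9946
import Groth.Agent.AlgSp.AffineMor
import Groth.Agent.AlgSp.DescentQAffine
import Groth.Agent.ConsPairLib.QuasiAffine
-- import your own Groth.Agent.* helpers here

set_option autoImplicit false
universe u
open CategoryTheory CategoryTheory.Limits AlgebraicGeometry
open AlgSp

set_option backward.isDefEq.respectTransparency.types false

namespace Groth.Agent.S9946

/-- (3) ⇒ (1): if the base change of f along a surjective etale map from a scheme is quasi-affine, then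
f is representable by schemes and quasi-affine. -/
theorem result {S : Scheme.{u}} {X Y : AlgSp.Space S} (f : X ⟶ Y)
    (V : Over S) (p : (AlgSp.yon S).obj V ⟶ Y.obj) (hp : AlgSp.RepWith @Etale p) (hps : AlgSp.RepWith @Surjective p)
    {P : AlgSp.Sp S} (fst : P ⟶ X.obj) (snd : P ⟶ (AlgSp.yon S).obj V) (sq : IsPullback fst snd f.hom p)
    (h : AlgSp.IsQuasiAffineMor snd) : AlgSp.Representable f.hom ∧ AlgSp.IsQuasiAffineMor f.hom := by
  have := Groth.Agent.AlgSp.isLocallySurjective_of_etale_surjective p hp hps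
  have hqa : AlgSp.IsQuasiAffineMor f.hom := by
    intro Z hZ g
    obtain ⟨V', p', l, hV', _, _, _, hl⟩ := Groth.Agent.AlgSp.exists_affine_lift_fppf p g
    obtain ⟨W, w, fst', sW, hW⟩ := h hV' l
    have s1 := sW.paste_horiz sq
    rw [hl] at s1
    have s0 := IsPullback.of_hasPullback f.hom g
    obtain ⟨c, hc1, hc2⟩ := s0.exists_lift (fst' ≫ fst) ((AlgSp.yon S).map w ≫ (AlgSp.yon S).map p')
      (by rw [s1.w, Category.assoc])
    have s2 : IsPullback c ((AlgSp.yon S).map w) (pullback.snd f.hom g) ((AlgSp.yon S).map p') :=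
      IsPullback.of_right (by rw [hc1]; exact s1) hc2 s0
    obtain ⟨W₀, hW₀, ⟨e⟩⟩ := Groth.Agent.AlgSp.exists_iso_of_fppf_quasiAffine' p' _ c w s2
    obtain ⟨i, hi⟩ := (AlgSp.yon S).map_surjective (e.hom ≫ pullback.snd f.hom g)
    exact ⟨W₀, i, e.hom ≫ pullback.fst f.hom g, IsPullback.of_iso s0 e.symm (Iso.refl _) (Iso.refl _)
      (Iso.refl _) (by simp) (by simp [hi]) (by simp) (by simp), hW₀⟩
  refine ⟨(Groth.Agent.AlgSp.repWith_of_affine_baseChange (P := Groth.Agent.ConsPairLib.qaMor) f.hom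
    fun Z hZ g Q fst' snd' sq' => ?_).1, hqa⟩
  obtain ⟨W, i, fst'', sW, hW⟩ := hqa hZ g
  rw [← sq'.isoIsPullback_hom_snd _ _ sW]
  refine (MorphismProperty.cancel_left_of_respectsIso _ _ _).2 ((AlgSp.repWith_yon_map_iff _ i).2 ?_)
  exact (HasAffineProperty.iff_of_isAffine (P := Groth.Agent.ConsPairLib.qaMor)).2 hW

end Groth.Agent.S9946
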