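import Groth.Statements.S9948
import Groth.Agent.AlgSpCov.Listed

set_option autoImplicit false
universe u
open CategoryTheory CategoryTheory.Limits AlgebraicGeometry
open AlgSp Groth.Agent

namespace Groth.Agent.S9948

/-- Representable clause, for the listed classes P: for f representable by schemes, P etale locally on
the source-and-target agrees with P in the representable sense. -/
theorem result {S : Scheme.{u}} (P : MorphismProperty Scheme.{u})
    (hP : P = @LocallyOfFiniteType ∨ P = @LocallyOfFinitePresentation ∨ P = @Flat ∨ P = @Smooth ∨ P = @Etale ∨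
      (∀ ⦃A B : Scheme.{u}⦄ (g : A ⟶ B), P g ↔ (LocallyQuasiFinite g ∧ LocallyOfFiniteType g)) ∨
      (∀ ⦃A B : Scheme.{u}⦄ (g : A ⟶ B), P g ↔ (LocallyOfFiniteType g ∧ FormallyUnramified g)))
    {X Y : AlgSp.Space S} (f : X ⟶ Y) (hf : AlgSp.Representable f.hom) :
    AlgSp.LocP P f.hom ↔ AlgSp.RepWith P f.hom := by
  obtain ⟨h1, -, h3, -⟩ := AlgSpCov.standard_of_listed hP
  exact AlgSpCov.locP_iff_repWith h3 X.property Y.property hf

end Groth.Agent.S9948
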