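import Groth.Statements.S9954
import Groth.Agent.AlgSp.FTPoints
-- import your own Groth.Agent.* helpers here

set_option autoImplicit false
universe u
open CategoryTheory CategoryTheory.Limits AlgebraicGeometry
open AlgSp

set_option backward.isDefEq.respectTransparency.types false

namespace Groth.Agent.S9954

/-- A morphism locally of finite type is surjective if and only if it is surjective on k-valued points
for every algebraically closed field k over the base. -/
theorem result {S : Scheme.{u}} {X Y : AlgSp.Space S} (f : X ⟶ Y)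
    (hf : AlgSp.LocP @LocallyOfFiniteType f.hom) :
    AlgSp.IsSurjectiveMor f.hom ↔
      ∀ (k : Type u) [Field k] [IsAlgClosed k] (str : Spec (CommRingCat.of k) ⟶ S)
        (y : (AlgSp.yon S).obj (Over.mk str) ⟶ Y.obj),
        ∃ x : (AlgSp.yon S).obj (Over.mk str) ⟶ X.obj, x ≫ f.hom = y := by
  constructor
  · intro hs k _ _ str y
    have sq := IsPullback.of_hasPullback f.hom y
    have hQ : AlgSp.IsAlgSpace (pullback f.hom y) :=
      Groth.Agent.AlgSp.isAlgSpace_pullback Y.property X.property (AlgSp.IsAlgSpace.yon_obj _) f.hom y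
    obtain ⟨U, a, ha, has⟩ := hQ.atlas
    obtain ⟨h, hh⟩ := (AlgSp.yon S).map_surjective (a ≫ pullback.snd f.hom y)
    have : LocallyOfFiniteType h.left := Groth.Agent.AlgSpCov.chart_of_locP
      Groth.Agent.AlgSpCov.etaleLocal_locallyOfFiniteType X.property Y.property hf y sq ha h hh.symm
    obtain ⟨x, hx⟩ := hs (AlgSp.Points.ofPt y (IsLocalRing.closedPoint k))
    obtain ⟨q, -, -⟩ := Groth.Agent.AlgSpB.exists_of_isPullback sq x
      (AlgSp.Points.ofScheme (Over.mk str) (IsLocalRing.closedPoint k)) (hx.trans (AlgSp.Points.ofPt_eq_map_ofScheme y _))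
    obtain ⟨r, -⟩ := Groth.Agent.AlgSpB.surjective_ofPt has q
    have : Nonempty U.left := ⟨r⟩
    obtain ⟨σ, hσ⟩ := Groth.Agent.AlgSp.FTPoints.exists_section_of_isAlgClosed (k := k) h.left
    let σ' : Over.mk str ⟶ U := Over.homMk σ (by
      rw [← Over.w h, ← Category.assoc]
      exact (congrArg (fun e => e ≫ str) hσ).trans (Category.id_comp _))
    refine ⟨(AlgSp.yon S).map σ' ≫ a ≫ pullback.fst f.hom y, ?_⟩
    rw [Category.assoc, Category.assoc, pullback.condition, ← Category.assoc a, ← hh, ← Category.assoc,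
      ← Functor.map_comp, show σ' ≫ h = 𝟙 _ from Over.OverMorphism.ext hσ, CategoryTheory.Functor.map_id,
      Category.id_comp]
  · intro h y
    obtain ⟨U, p, hp, hps⟩ := Y.property.atlas
    obtain ⟨u, rfl⟩ := Groth.Agent.AlgSpB.surjective_ofPt hps y
    let K := AlgebraicClosure (U.left.residueField u)
    let b : Spec (CommRingCat.of K) ⟶ U.left :=
      Spec.map (CommRingCat.ofHom (algebraMap (U.left.residueField u) K)) ≫ U.left.fromSpecResidueField u
    obtain ⟨x, hx⟩ := h K (b ≫ U.hom) ((AlgSp.yon S).map (Over.homMk b rfl : Over.mk (b ≫ U.hom) ⟶ U) ≫ p)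
    refine ⟨AlgSp.Points.ofPt x (IsLocalRing.closedPoint K), ?_⟩
    rw [AlgSp.Points.map_ofPt, hx, Groth.Agent.AlgSpB.ofPt_map_comp]
    refine congrArg _ ?_
    change b _ = u
    simp only [b, Scheme.Hom.comp_apply]
    exact Scheme.fromSpecResidueField_apply _ _

end Groth.Agent.S9954
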