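import Groth.Statements.S9963
import Groth.Agent.AlgSp.Submersive
-- import your own Groth.Agent.* helpers here

set_option autoImplicit false
universe u
open CategoryTheory CategoryTheory.Limits AlgebraicGeometry
open AlgSp

set_option backward.isDefEq.respectTransparency.types false

namespace Groth.Agent.S9963

/-- A morphism of algebraic spaces that is flat, quasi-compact and surjective is submersive, and
universally submersive. -/
theorem result {S : Scheme.{u}} {X Y : AlgSp.Space S} (f : X ⟶ Y)
    (hfl : AlgSp.LocP @Flat f.hom) (hqc : AlgSp.IsQuasiCompactMor f.hom) (hs : AlgSp.IsSurjectiveMor f.hom) :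
    AlgSp.IsSubmersiveMor f.hom ∧ AlgSp.IsUnivSubmersiveMor f.hom := by
  refine ⟨Groth.Agent.AlgSp.Submersive.isQuotientMap_points X.property Y.property f.hom hfl hqc hs,
    fun Z Z' hZ g fst snd sq => ?_⟩
  refine Groth.Agent.AlgSp.Submersive.isQuotientMap_points
    (Groth.Agent.AlgSp.isAlgSpace_of_isPullback' Y.property X.property hZ sq) hZ snd
    (Groth.Agent.AlgSpCov.locP_baseChange Groth.Agent.AlgSpCov.etaleLocal_flat X.property Y.property sq hfl)
    (Groth.Agent.AlgSp.isQuasiCompactMor_baseChange sq hqc) fun z => ?_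
  obtain ⟨x, hx⟩ := hs (AlgSp.Points.map g z)
  obtain ⟨q, -, hq⟩ := Groth.Agent.AlgSpB.exists_of_isPullback sq x z hx
  exact ⟨q, hq⟩

end Groth.Agent.S9963
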