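import Groth.Statements.S9965
import Groth.Agent.AlgSp.SchImageQC
import Groth.Agent.AlgSpCov.Listed
-- import your own Groth.Agent.* helpers here

set_option autoImplicit false
universe u
open CategoryTheory CategoryTheory.Limits AlgebraicGeometry
open AlgSp

set_option backward.isDefEq.respectTransparency.types false

namespace Groth.Agent.S9965

/-- For a quasi-compact morphism of algebraic spaces, forming the scheme theoretic image commutes with
etale base change, and the image of the morphism is dense in the scheme theoretic image. -/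
theorem result {S : Scheme.{u}} {X Y Z : AlgSp.Space S} (f : X ⟶ Y) (i : Z ⟶ Y)
    (hq : AlgSp.IsQuasiCompactMor f.hom) (hZ : AlgSp.IsSchImage f.hom i.hom) :
    (∀ (V XV ZV : AlgSp.Space S) (b : V ⟶ Y), AlgSp.IsEtaleMor b.hom →
      ∀ (f₁ : XV ⟶ X) (fV : XV ⟶ V) (i₁ : ZV ⟶ Z) (iV : ZV ⟶ V),
        IsPullback f₁.hom fV.hom f.hom b.hom → IsPullback i₁.hom iV.hom i.hom b.hom →
        AlgSp.IsSchImage fV.hom iV.hom) ∧
    Set.range (AlgSp.Points.map i.hom) ⊆ closure (Set.range (AlgSp.Points.map f.hom)) := by
  refine ⟨fun V XV ZV b hb f₁ fV i₁ iV sqX sqZ => ?_, Groth.Agent.AlgSp.SchImageQC.range_subset_closure X.property Y.property hq hZ⟩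
  refine Groth.Agent.AlgSp.SchImageQC.flat_base_change X.property Y.property V.property hq hZ b.hom ?_ sqX sqZ
  intro A B a c h ha hc w
  have : Etale h.left := Groth.Agent.AlgSpCov.locP_etale_of_isEtaleMor hb a c h ha hc w
  exact inferInstance

end Groth.Agent.S9965
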