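import Groth.Statements.S9967
import Groth.Agent.AlgSp.SchImageQC
import Groth.Agent.AlgSpCov.Listed
import Groth.Agent.AlgSp.Diag
-- import your own Groth.Agent.* helpers here

set_option autoImplicit false
universe u
open CategoryTheory CategoryTheory.Limits AlgebraicGeometry
open AlgSp

set_option backward.isDefEq.respectTransparency.types false

namespace Groth.Agent.S9967

/-- For a separated f : X -> Y and a section s of f over a quasi-compact open V of Y, the scheme
theoretic image of s maps isomorphically to Y over V. -/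
theorem result {S : Scheme.{u}} {X Y V Y' : AlgSp.Space S} (f : X ⟶ Y) (j : V ⟶ Y)
    (hj : AlgSp.RepWith @IsOpenImmersion j.hom) (hjq : AlgSp.IsQuasiCompactMor j.hom) (hf : AlgSp.IsSeparatedMor f.hom)
    (s : V ⟶ X) (hs : s ≫ f = j) (c : Y' ⟶ X) (hc : AlgSp.IsSchImage s.hom c.hom)
    {P : AlgSp.Sp S} (fst : P ⟶ Y'.obj) (snd : P ⟶ V.obj) (sq : IsPullback fst snd (c ≫ f).hom j.hom) :
    IsIso snd := by
  subst hs
  have hjq' : AlgSp.IsQuasiCompactMor (s.hom ≫ f.hom) := hjq
  have hqs : AlgSp.IsQuasiSeparatedMor f.hom :=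
    Groth.Agent.AlgSp.repWith_mono (P := @IsClosedImmersion) (fun g hg => have : IsClosedImmersion g := hg; (inferInstance : QuasiCompact g)) hf
  have hsq : AlgSp.IsQuasiCompactMor s.hom :=
    Groth.Agent.AlgSp.isQuasiCompactMor_of_comp V.property X.property Y.property s.hom f.hom hjq' hqs
  let j := s.hom ≫ f.hom
  let pr₁ := pullback.fst j f.hom
  let pr₂ := pullback.snd j f.hom
  let σ : V.obj ⟶ pullback j f.hom := pullback.lift (𝟙 _) s.hom (by simp [j])
  have hσ : AlgSp.RepWith @IsClosedImmersion σ :=
    MorphismProperty.of_isPullback (pullback_lift_diagonal_isPullback s.hom f.hom) hf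
  have hopen : AlgSp.RepWith @IsOpenImmersion pr₂ := MorphismProperty.pullback_snd _ _ hj
  have := Groth.Agent.AlgSpB.mono_of_isOpenImmersion hopen
  have hflat : AlgSp.LocP @Flat pr₂ :=
    Groth.Agent.AlgSpCov.locP_of_repWith Groth.Agent.AlgSpCov.etaleLocal_flat
      (Groth.Agent.AlgSp.repWith_mono (P := @IsOpenImmersion) (fun g hg => have : IsOpenImmersion g := hg; (inferInstance : Flat g)) hopen)
  have hXV : AlgSp.IsAlgSpace (pullback j f.hom) :=
    Groth.Agent.AlgSp.isAlgSpace_pullback Y.property V.property X.property j f.hom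
  have sqX : IsPullback (𝟙 V.obj) σ s.hom pr₂ := by
    refine IsPullback.of_isLimit' ⟨(Category.id_comp _).trans (pullback.lift_snd _ _ _).symm⟩ (PullbackCone.IsLimit.mk _ (fun z => z.fst)
      (fun z => by simp) (fun z => ?_) (fun z q h _ => by simpa using h))
    rw [← cancel_mono pr₂, Category.assoc, pullback.lift_snd]
    exact z.condition
  let l : P ⟶ pullback j f.hom := pullback.lift snd (fst ≫ c.hom) (by
    rw [Category.assoc]; exact sq.w.symm)
  have sqZ : IsPullback fst l c.hom pr₂ := by
    refine IsPullback.of_bot ?_ (pullback.lift_snd _ _ _).symm (IsPullback.of_hasPullback j f.hom).flip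
    rw [pullback.lift_fst]
    exact sq
  have himg := Groth.Agent.AlgSp.SchImageQC.flat_base_change V.property X.property hXV hsq hc pr₂ hflat sqX sqZ
  obtain ⟨k, hk⟩ := himg.2.2 σ V.property hσ ⟨𝟙 _, Category.id_comp _⟩
  obtain ⟨k', hk'⟩ := himg.2.1
  have := Groth.Agent.AlgSpB.mono_of_isClosedImmersion hσ
  have := Groth.Agent.AlgSpB.mono_of_isClosedImmersion himg.1
  have e : snd = k := by
    have h1 := congrArg (fun q => q ≫ pr₁) hk
    simp only [l, σ, pr₁, Category.assoc, pullback.lift_fst, Category.comp_id] at h1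
    exact h1.symm
  rw [e]
  exact ⟨k', by rw [← cancel_mono l, Category.assoc, hk', hk, Category.id_comp],
    by rw [← cancel_mono σ, Category.assoc, hk, hk', Category.id_comp]⟩

end Groth.Agent.S9967
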