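import Groth.Statements.S9970
import Groth.Agent.AlgSp.SchDense
-- import your own Groth.Agent.* helpers here

set_option autoImplicit false
universe u
open CategoryTheory CategoryTheory.Limits AlgebraicGeometry
open AlgSp

set_option backward.isDefEq.respectTransparency.types false

namespace Groth.Agent.S9970

/-- The intersection of two scheme theoretically dense open subspaces is scheme theoretically dense. -/
theorem result {S : Scheme.{u}} {U V X P : AlgSp.Space S} (jU : U ⟶ X) (jV : V ⟶ X)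
    (hU : AlgSp.IsSchDense jU.hom) (hV : AlgSp.IsSchDense jV.hom) (fst : P ⟶ U) (snd : P ⟶ V)
    (sq : IsPullback fst.hom snd.hom jU.hom jV.hom) : AlgSp.IsSchDense (fst ≫ jU).hom := by
  obtain ⟨hju, V₀, φ, W, fu, hφ, hφs, squ, hdu⟩ := hU
  obtain ⟨W', fv, sqv⟩ := Groth.Agent.AlgSp.SchDense.exists_open_chart hV.1 φ
  have hdv := Groth.Agent.AlgSp.SchDense.every_chart X.property hV φ hφ W'
    (Groth.Agent.AlgSp.SchDense.coe_eq_preimage sqv)
  have hfst : AlgSp.RepWith @IsOpenImmersion fst.hom := MorphismProperty.of_isPullback sq.flip hV.1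
  have hrange : Set.range (AlgSp.Points.map (fst ≫ jU).hom) =
      Set.range (AlgSp.Points.map jU.hom) ∩ Set.range (AlgSp.Points.map jV.hom) := by
    ext x
    constructor
    · rintro ⟨p, rfl⟩
      refine ⟨⟨AlgSp.Points.map fst.hom p, (AlgSp.Points.map_comp _ _ _).symm⟩, AlgSp.Points.map snd.hom p, ?_⟩
      rw [← AlgSp.Points.map_comp, ← sq.w]
      rfl
    · rintro ⟨⟨u, hu⟩, v, hv⟩
      obtain ⟨p, hp, -⟩ := Groth.Agent.AlgSpB.exists_of_isPullback sq u v (hu.trans hv.symm)
      refine ⟨p, ?_⟩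
      rw [show (fst ≫ jU).hom = fst.hom ≫ jU.hom from rfl, AlgSp.Points.map_comp, hp, hu]
  refine Groth.Agent.AlgSp.SchDense.isSchDense_of_chart (MorphismProperty.comp_mem _ _ _ hfst hju) φ hφ hφs
    (W ⊓ W') ?_ (Groth.Agent.AlgSp.SchDense.inf W W' hdu hdv)
  rw [hrange, Set.preimage_inter, ← Groth.Agent.AlgSp.SchDense.coe_eq_preimage squ,
    ← Groth.Agent.AlgSp.SchDense.coe_eq_preimage sqv]
  rfl

end Groth.Agent.S9970
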