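import Groth.Statements.S9976
import Groth.Agent.AlgSp.FTPoints
-- import your own Groth.Agent.* helpers here

set_option autoImplicit false
universe u
open CategoryTheory CategoryTheory.Limits AlgebraicGeometry
open AlgSp

set_option backward.isDefEq.respectTransparency.types false

namespace Groth.Agent.S9976

/-- Under a surjective morphism locally of finite type, every finite type point of the target is the
image of a finite type point of the source. (The published lemma states that the two sets of finite
type points correspond exactly; the inclusion of the image in the finite type points of the target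
holds for every morphism locally of finite type and is omitted here.) -/
theorem result {S : Scheme.{u}} {X Y : AlgSp.Space S} (f : X ⟶ Y)
    (hf : AlgSp.LocP @LocallyOfFiniteType f.hom) (hs : AlgSp.IsSurjectiveMor f.hom) (y : AlgSp.Points Y.obj)
    (hy : ∃ (k : Type u) (_ : Field k) (str : Spec (CommRingCat.of k) ⟶ S) (ξ : (AlgSp.yon S).obj (Over.mk str) ⟶ Y.obj),
        AlgSp.LocP @LocallyOfFiniteType ξ ∧ AlgSp.Points.ofPt ξ (IsLocalRing.closedPoint k) = y) :
    ∃ x : AlgSp.Points X.obj, AlgSp.Points.map f.hom x = y ∧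
      ∃ (k : Type u) (_ : Field k) (str : Spec (CommRingCat.of k) ⟶ S) (ξ : (AlgSp.yon S).obj (Over.mk str) ⟶ X.obj),
        AlgSp.LocP @LocallyOfFiniteType ξ ∧ AlgSp.Points.ofPt ξ (IsLocalRing.closedPoint k) = x := by
  obtain ⟨k, _, str, ξ, hξ, rfl⟩ := hy
  have sq := IsPullback.of_hasPullback f.hom ξ
  have hQ : AlgSp.IsAlgSpace (pullback f.hom ξ) :=
    Groth.Agent.AlgSp.isAlgSpace_pullback Y.property X.property (AlgSp.IsAlgSpace.yon_obj _) f.hom ξ
  have hne : (Set.univ : Set (AlgSp.Points (pullback f.hom ξ))).Nonempty := by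
    obtain ⟨x, hx⟩ := hs (AlgSp.Points.ofPt ξ (IsLocalRing.closedPoint k))
    obtain ⟨q, -, -⟩ := Groth.Agent.AlgSpB.exists_of_isPullback sq x
      (AlgSp.Points.ofScheme (Over.mk str) (IsLocalRing.closedPoint k)) (hx.trans (AlgSp.Points.ofPt_eq_map_ofScheme ξ _))
    exact ⟨q, trivial⟩
  obtain ⟨q, -, k', _, str', η, hη, rfl⟩ :=
    Groth.Agent.AlgSp.FTPoints.exists_ft_of_locallyClosed hQ Set.univ isOpen_univ.isLocallyClosed hne
  have hfst : AlgSp.LocP @LocallyOfFiniteType (pullback.fst f.hom ξ) :=
    Groth.Agent.AlgSpCov.locP_baseChange Groth.Agent.AlgSpCov.etaleLocal_locallyOfFiniteType (AlgSp.IsAlgSpace.yon_obj _) Y.property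
      sq.flip hξ
  refine ⟨_, ?_, k', inferInstance, str', η ≫ pullback.fst f.hom ξ,
    Groth.Agent.AlgSpCov.locP_comp Groth.Agent.AlgSpCov.etaleLocal_locallyOfFiniteType hQ X.property hη hfst, rfl⟩
  rw [AlgSp.Points.map_ofPt, Category.assoc, pullback.condition]
  obtain ⟨m, hm⟩ := (AlgSp.yon S).map_surjective (η ≫ pullback.snd f.hom ξ)
  rw [← Category.assoc, ← hm, Groth.Agent.AlgSpB.ofPt_map_comp]
  exact congrArg _ (Subsingleton.elim (α := Spec (CommRingCat.of k)) _ _)

end Groth.Agent.S9976
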