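import Groth.Statements.S9978
import Groth.Agent.S9833
import Groth.Agent.S0566
import Groth.Agent.AlgSp.Space
-- import your own Groth.Agent.* helpers here

set_option autoImplicit false
universe u
open CategoryTheory CategoryTheory.Limits AlgebraicGeometry
open AlgSp

set_option backward.isDefEq.respectTransparency.types false

namespace Groth.Agent.S9978

/-- An algebraic space locally of finite type over a Nagata algebraic space is Nagata. -/
theorem result {S : Scheme.{u}} {X Y : AlgSp.Space S} (f : X ⟶ Y)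
    (hf : AlgSp.LocP @LocallyOfFiniteType f.hom)
    (hY : AlgSp.EtaleLocally (fun U => ∀ V : U.Opens, IsAffineOpen V → CAlg.IsNagata ↑Γ(U, V)) Y.obj) :
    AlgSp.EtaleLocally (fun U => ∀ V : U.Opens, IsAffineOpen V → CAlg.IsNagata ↑Γ(U, V)) X.obj := by
  obtain ⟨V, b, hb, hbs, hN⟩ := hY
  obtain ⟨U, a, m, ha, has, w⟩ := Groth.Agent.AlgSp.exists_chart_lift X.property Y.property f.hom b hb hbs
  have : LocallyOfFiniteType m.left := hf a b m ha hb w
  refine ⟨U, a, ha, has, fun O hO => ?_⟩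
  have key : ∀ u : U.left, ∃ Ω : U.left.Opens, u ∈ Ω ∧ IsAffineOpen Ω ∧ CAlg.IsNagata Γ(U.left, Ω) := by
    intro u
    obtain ⟨_, ⟨A, hA, rfl⟩, huA, -⟩ :=
      V.left.isBasis_affineOpens.exists_subset_of_mem_open (Set.mem_univ (m.left u)) isOpen_univ
    obtain ⟨_, ⟨Ω, hΩ, rfl⟩, huΩ, hle⟩ :=
      U.left.isBasis_affineOpens.exists_subset_of_mem_open (show u ∈ m.left ⁻¹ᵁ A from huA) (m.left ⁻¹ᵁ A).2
    have hft := m.left.finiteType_appLE hA hΩ hle
    algebraize [(m.left.appLE A Ω hle).hom]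
    exact ⟨Ω, huΩ, hΩ, Groth.Agent.S0566.result Γ(V.left, A) (hN A hA) Γ(U.left, Ω)⟩
  choose Ω hu hΩ hΩN using key
  exact Groth.Agent.S9833.result U.left Ω
    (eq_top_iff.2 fun u _ => TopologicalSpace.Opens.mem_iSup.2 ⟨u, hu u⟩) hΩ hΩN O hO

end Groth.Agent.S9978
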