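import Groth.Statements.S9979
import Groth.Agent.AlgSp.SchImageRep
import Groth.Agent.SchPoints.Basic
-- import your own Groth.Agent.* helpers here

set_option autoImplicit false
universe u
open CategoryTheory CategoryTheory.Limits AlgebraicGeometry
open AlgSp

set_option backward.isDefEq.respectTransparency.types false

namespace Groth.Agent.S9979

/-- Every point of the scheme theoretic image of a quasi-compact morphism is reached by a valuation ring
whose generic point lifts to the source. -/
theorem result {S : Scheme.{u}} {X Y Z : AlgSp.Space S} (f : X ⟶ Y) (i : Z ⟶ Y)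
    (hq : AlgSp.IsQuasiCompactMor f.hom) (hZ : AlgSp.IsSchImage f.hom i.hom) (z : AlgSp.Points Z.obj) :
    ∃ (A : Type u) (_ : CommRing A) (_ : IsDomain A) (_ : ValuationRing A) (str : Spec (CommRingCat.of A) ⟶ S)
      (a : (AlgSp.yon S).obj (Over.mk str) ⟶ Z.obj)
      (x : (AlgSp.yon S).obj (Over.mk (Spec.map (CommRingCat.ofHom (algebraMap A (FractionRing A))) ≫ str)) ⟶ X.obj),
      AlgSp.Points.ofPt a (IsLocalRing.closedPoint A) = z ∧
      x ≫ f.hom = (AlgSp.yon S).map (Over.homMk (Spec.map (CommRingCat.ofHom (algebraMap A (FractionRing A)))) rfl) ≫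
        a ≫ i.hom := by
  obtain ⟨U, W, p, r, m, hp, hps, hre, hrs, hqc, hm⟩ :=
    Groth.Agent.AlgSp.SchImageQC.exists_qc_chart X.property Y.property f.hom hq
  obtain ⟨I, fst, sq⟩ := Groth.Agent.AlgSp.CartierDesc.exists_ideal hZ.1 p
  have hI : I = m.left.ker :=
    Groth.Agent.AlgSp.SchImageQC.ideal_eq_ker X.property Y.property hp hps hre hrs hm sq hZ
  obtain ⟨w, rfl⟩ := Groth.Agent.AlgSpB.surjective_ofPt (MorphismProperty.of_isPullback sq.flip hps) z
  let u := (Groth.Agent.AlgSp.CartierDesc.subι U I).left w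
  have hu : u ∈ closure (Set.range m.left) := by
    rw [← Scheme.Hom.support_ker, ← hI, ← Scheme.IdealSheafData.range_subschemeι]
    exact ⟨w, rfl⟩
  obtain ⟨v, hv⟩ := Groth.Agent.SchPoints.exists_specializes_of_mem_closure_range m.left hu
  let φ : U.left.presheaf.stalk u ⟶ W.left.residueField v :=
    U.left.presheaf.stalkSpecializes hv ≫ U.left.residue (m.left v) ≫ m.left.residueFieldMap v
  obtain ⟨A, hA, hAloc⟩ := IsLocalRing.exists_factor_valuationRing φ.hom
  let ψ : U.left.presheaf.stalk u ⟶ CommRingCat.of A := CommRingCat.ofHom (φ.hom.codRestrict _ hA)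
  let g : Spec (CommRingCat.of A) ⟶ U.left := Spec.map ψ ≫ U.left.fromSpecStalk u
  have hcl : g (IsLocalRing.closedPoint A) = u := by
    have : Spec.map ψ (IsLocalRing.closedPoint A) = IsLocalRing.closedPoint (U.left.presheaf.stalk u) :=
      IsLocalRing.comap_closedPoint (S := A) (φ.hom.codRestrict A.toSubring hA)
    simp only [g, Scheme.Hom.comp_apply, this, Scheme.fromSpecStalk_closedPoint]
  have hgen : Spec.map (CommRingCat.ofHom A.subtype) ≫ g = W.left.fromSpecResidueField v ≫ m.left := by
    rw [← Scheme.Hom.SpecMap_residueFieldMap_fromSpecResidueField, Scheme.fromSpecResidueField,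
      ← Scheme.SpecMap_stalkSpecializes_fromSpecStalk hv, ← Spec.map_comp_assoc, ← Spec.map_comp_assoc,
      ← Spec.map_comp_assoc]
    rfl
  -- the generic point lifts
  let e : FractionRing A ≃ₐ[A] W.left.residueField v := FractionRing.algEquiv A (W.left.residueField v)
  let b : Spec (CommRingCat.of (FractionRing A)) ⟶ Spec (W.left.residueField v) :=
    Spec.map (CommRingCat.ofHom e.symm.toAlgHom.toRingHom)
  have hb : Spec.map (CommRingCat.ofHom (algebraMap A (FractionRing A))) =
      b ≫ Spec.map (CommRingCat.ofHom A.subtype) := by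
    rw [← Spec.map_comp]
    congr 1
    ext a
    exact (e.symm.commutes a).symm
  let str : Spec (CommRingCat.of A) ⟶ S := g ≫ U.hom
  let T : Over S := Over.mk str
  let gT : T ⟶ U := Over.homMk g rfl
  have hker : I ≤ gT.left.ker := by
    have h1 : (Spec.map (CommRingCat.ofHom A.subtype)).ker = ⊥ := by
      have : IsDominant (Spec.map (CommRingCat.ofHom A.subtype)) := by
        rw [isDominant_iff]
        exact (PrimeSpectrum.denseRange_comap_iff_ker_le_nilRadical A.subtype).2
          (by rw [(RingHom.injective_iff_ker_eq_bot _).1 Subtype.val_injective]; exact bot_le)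
      exact (IsSchemeTheoreticallyDominant.of_isDominant _).ker_eq_bot
    have h2 : m.left.ker ≤ (Spec.map (CommRingCat.ofHom A.subtype) ≫ g).ker := by
      rw [hgen]; exact Scheme.Hom.le_ker_comp _ _
    rw [Scheme.Hom.ker_comp, h1, Scheme.IdealSheafData.map_bot, ← hI] at h2
    exact h2
  obtain ⟨a, ha⟩ := (Groth.Agent.AlgSp.ClosedSub.exists_factor_yon_iff sq gT).2 hker
  let K : Over S := Over.mk (Spec.map (CommRingCat.ofHom (algebraMap A (FractionRing A))) ≫ str)
  let c : K ⟶ W := Over.homMk (b ≫ W.left.fromSpecResidueField v) (by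
    change (b ≫ W.left.fromSpecResidueField v) ≫ W.hom = Spec.map _ ≫ g ≫ U.hom
    rw [hb, Category.assoc, Category.assoc, ← Category.assoc _ g]
    refine Eq.trans ?_ (congrArg (fun k => b ≫ k ≫ U.hom) hgen).symm
    rw [Category.assoc, Over.w m])
  refine ⟨A, inferInstance, inferInstance, inferInstance, str, a,
    (AlgSp.yon S).map c ≫ r ≫ pullback.fst f.hom p, ?_, ?_⟩
  · have := Groth.Agent.AlgSpB.mono_of_isClosedImmersion hZ.1
    apply Groth.Agent.AlgSpB.injective_map_of_mono i.hom
    change AlgSp.Points.map i.hom (AlgSp.Points.ofPt (T := T) a (IsLocalRing.closedPoint A)) = _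
    rw [AlgSp.Points.map_ofPt, ha, Groth.Agent.AlgSpB.ofPt_map_comp, AlgSp.Points.map_ofPt, sq.w,
      Groth.Agent.AlgSpB.ofPt_map_comp]
    exact congrArg _ hcl
  · rw [ha, Category.assoc, Category.assoc, pullback.condition, reassoc_of% hm, ← Functor.map_comp_assoc,
      ← Functor.map_comp_assoc]
    congr 2
    ext1
    change (b ≫ W.left.fromSpecResidueField v) ≫ m.left = Spec.map _ ≫ g
    rw [hb, Category.assoc, Category.assoc]
    exact (congrArg (fun k => b ≫ k) hgen).symm

end Groth.Agent.S9979
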