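import Groth.Statements.S9980
import Groth.Agent.AlgSp.FTQuot
-- import your own Groth.Agent.* helpers here

set_option autoImplicit false
universe u
open CategoryTheory CategoryTheory.Limits AlgebraicGeometry
open AlgSp

set_option backward.isDefEq.respectTransparency.types false

namespace Groth.Agent.S9980

/-- Characterizations of finite type points via one-point algebraic spaces locally of finite type over X
and via monomorphisms from quotients of spectra of fields. -/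
theorem result {S : Scheme.{u}} (X : AlgSp.Space S) (x : AlgSp.Points X.obj) :
    ((∃ (k : Type u) (_ : Field k) (str : Spec (CommRingCat.of k) ⟶ S) (ξ : (AlgSp.yon S).obj (Over.mk str) ⟶ X.obj),
        AlgSp.LocP @LocallyOfFiniteType ξ ∧ AlgSp.Points.ofPt ξ (IsLocalRing.closedPoint k) = x) ↔
      ∃ (Z : AlgSp.Space S) (f : Z ⟶ X), Nonempty (Unique (AlgSp.Points Z.obj)) ∧
        AlgSp.LocP @LocallyOfFiniteType f.hom ∧ Set.range (AlgSp.Points.map f.hom) = {x}) ∧
    ((∃ (k : Type u) (_ : Field k) (str : Spec (CommRingCat.of k) ⟶ S) (ξ : (AlgSp.yon S).obj (Over.mk str) ⟶ X.obj),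
        AlgSp.LocP @LocallyOfFiniteType ξ ∧ AlgSp.Points.ofPt ξ (IsLocalRing.closedPoint k) = x) ↔
      ∃ (Z : AlgSp.Space S) (f : Z ⟶ X) (k : Type u) (_ : Field k) (str : Spec (CommRingCat.of k) ⟶ S)
        (z : (AlgSp.yon S).obj (Over.mk str) ⟶ Z.obj), AlgSp.RepWith @Etale z ∧ AlgSp.RepWith @Surjective z ∧
        AlgSp.LocP @LocallyOfFiniteType f.hom ∧ Mono f.hom ∧
        AlgSp.Points.ofPt (z ≫ f.hom) (IsLocalRing.closedPoint k) = x) := by
  refine ⟨⟨?_, ?_⟩, ⟨?_, ?_⟩⟩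
  · rintro ⟨k, _, str, ξ, hξ, rfl⟩
    let T : AlgSp.Space S := (AlgSp.ofScheme S).obj (Over.mk str)
    have hu : ∀ a : AlgSp.Points T.obj, a = AlgSp.Points.ofScheme (Over.mk str) (IsLocalRing.closedPoint k) := fun a => by
      rw [← AlgSp.Points.ofScheme_toScheme (Over.mk str) a]
      exact congrArg _ (Subsingleton.elim (α := Spec (CommRingCat.of k)) _ _)
    refine ⟨T, ⟨ξ⟩, ⟨⟨⟨AlgSp.Points.ofScheme (Over.mk str) (IsLocalRing.closedPoint k)⟩, hu⟩⟩, hξ, ?_⟩
    refine Set.eq_singleton_iff_unique_mem.2 ⟨⟨AlgSp.Points.ofScheme (Over.mk str) (IsLocalRing.closedPoint k),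
      (AlgSp.Points.ofPt_eq_map_ofScheme _ _).symm⟩, ?_⟩
    rintro _ ⟨a, rfl⟩
    rw [hu a]
    exact (AlgSp.Points.ofPt_eq_map_ofScheme _ _).symm
  · rintro ⟨Z, f, ⟨hu⟩, hf, hr⟩
    obtain ⟨z, -, k, _, str, ξ, hξ, rfl⟩ := Groth.Agent.AlgSp.FTPoints.exists_ft_of_locallyClosed Z.property Set.univ
      isOpen_univ.isLocallyClosed ⟨hu.default, trivial⟩
    refine ⟨k, inferInstance, str, ξ ≫ f.hom,
      Groth.Agent.AlgSpCov.locP_comp Groth.Agent.AlgSpCov.etaleLocal_locallyOfFiniteType Z.property X.property hξ hf, ?_⟩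
    have h : AlgSp.Points.map f.hom (AlgSp.Points.ofPt ξ (IsLocalRing.closedPoint k)) ∈ ({x} : Set _) := hr.le ⟨_, rfl⟩
    rwa [AlgSp.Points.map_ofPt] at h
  · rintro ⟨k, _, str, ξ, hξ, rfl⟩
    obtain ⟨U, φ, u, hφ, hu, he⟩ := Groth.Agent.AlgSp.FTPoints.exists_closed_chart X.property ξ hξ
    obtain ⟨Z, f, k', _, str', z, h1, h2, h3, h4, h5⟩ := Groth.Agent.AlgSp.FTQuot.exists_mono_quotient X φ hφ u hu
    exact ⟨Z, f, k', inferInstance, str', z, h1, h2, h3, h4, h5.trans he⟩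
  · rintro ⟨Z, f, k, _, str, z, hz, -, hf, -, rfl⟩
    have hzl : AlgSp.LocP @LocallyOfFiniteType z :=
      Groth.Agent.AlgSpCov.locP_of_repWith Groth.Agent.AlgSpCov.etaleLocal_locallyOfFiniteType
        (Groth.Agent.AlgSp.repWith_mono (P := @Etale) (Q := @LocallyOfFiniteType)
          (fun g hg => have : Etale g := hg; (inferInstance : LocallyOfFiniteType g)) hz)
    exact ⟨k, inferInstance, str, z ≫ f.hom,
      Groth.Agent.AlgSpCov.locP_comp Groth.Agent.AlgSpCov.etaleLocal_locallyOfFiniteType Z.property X.property hzl hf, rfl⟩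

end Groth.Agent.S9980
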