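import Groth.Statements.S9981
import Groth.Agent.AlgSpB.Charts
import Groth.Agent.AlgSp.Space
-- import your own Groth.Agent.* helpers here

set_option autoImplicit false
universe u
open CategoryTheory CategoryTheory.Limits AlgebraicGeometry
open AlgSp

set_option backward.isDefEq.respectTransparency.types false

namespace Groth.Agent.S9981

/-- The inverse image of an etale locally constructible subset under a morphism of algebraic spaces is
etale locally constructible. -/
theorem result {S : Scheme.{u}} {X Y : AlgSp.Space S} (f : X ⟶ Y)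
    (E : Set (AlgSp.Points Y.obj))
    (hE : (∀ (U : Over S) (φ : (AlgSp.yon S).obj U ⟶ Y.obj), AlgSp.RepWith @Etale φ →
        Topology.IsLocallyConstructible (AlgSp.Points.ofPt φ ⁻¹' E))) :
    (∀ (U : Over S) (φ : (AlgSp.yon S).obj U ⟶ X.obj), AlgSp.RepWith @Etale φ →
        Topology.IsLocallyConstructible (AlgSp.Points.ofPt φ ⁻¹' (AlgSp.Points.map f.hom ⁻¹' E))) := by
  intro U φ hφ
  obtain ⟨V, p, hp, hps⟩ := Y.property.atlas
  obtain ⟨R, s, t, sq⟩ := Groth.Agent.AlgSp.exists_isPullback_yon Y.property.diag (φ ≫ f.hom) p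
  have : Etale s.left := hp.2 _ _ _ sq.flip
  have : Surjective s.left := hps.2 _ _ _ sq.flip
  refine Groth.Agent.AlgSpB.isLocallyConstructible_of_preimage s.left s.left.isOpenMap ?_
  have e : s.left ⁻¹' (AlgSp.Points.ofPt φ ⁻¹' (AlgSp.Points.map f.hom ⁻¹' E)) =
      t.left ⁻¹' (AlgSp.Points.ofPt p ⁻¹' E) := by
    ext r
    change AlgSp.Points.map f.hom (AlgSp.Points.ofPt φ (s.left r)) ∈ E ↔ AlgSp.Points.ofPt p (t.left r) ∈ E
    rw [AlgSp.Points.map_ofPt, ← Groth.Agent.AlgSpB.ofPt_map_comp, sq.w, Groth.Agent.AlgSpB.ofPt_map_comp]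
  rw [e]
  exact Groth.Agent.AlgSpB.isLocallyConstructible_preimage t.left (hE V p hp)

end Groth.Agent.S9981
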