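import Groth.Statements.S9982
import Groth.Agent.AlgSpB.Charts
import Groth.Agent.AlgSp.QCMor
import Groth.Agent.AlgSpCov.Listed
-- import your own Groth.Agent.* helpers here

set_option autoImplicit false
universe u
open CategoryTheory CategoryTheory.Limits AlgebraicGeometry
open AlgSp

set_option backward.isDefEq.respectTransparency.types false

namespace Groth.Agent.S9982

/-- A quasi-compact morphism locally of finite presentation between algebraic spaces maps etale locally
constructible sets to etale locally constructible sets. -/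
theorem result {S : Scheme.{u}} {X Y : AlgSp.Space S} (f : X ⟶ Y)
    (hq : AlgSp.IsQuasiCompactMor f.hom) (hfp : AlgSp.LocP @LocallyOfFinitePresentation f.hom)
    (E : Set (AlgSp.Points X.obj))
    (hE : (∀ (U : Over S) (φ : (AlgSp.yon S).obj U ⟶ X.obj), AlgSp.RepWith @Etale φ →
        Topology.IsLocallyConstructible (AlgSp.Points.ofPt φ ⁻¹' E))) :
    (∀ (U : Over S) (φ : (AlgSp.yon S).obj U ⟶ Y.obj), AlgSp.RepWith @Etale φ →
        Topology.IsLocallyConstructible (AlgSp.Points.ofPt φ ⁻¹' (AlgSp.Points.map f.hom '' E))) := by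
  intro U φ hφ
  have hcov := U.left.affineCover.isOpenCover_opensRange
  refine Topology.IsLocallyConstructible.of_isOpenCover hcov fun i => ?_
  let c := U.left.affineCover.f i
  let A : Over S := Over.mk (c ≫ U.hom)
  let ι : A ⟶ U := Over.homMk c rfl
  have : IsAffine A.left := inferInstanceAs (IsAffine (U.left.affineCover.X i))
  have : Etale ι.left := inferInstanceAs (Etale c)
  have hA : AlgSp.RepWith @Etale ((AlgSp.yon S).map ι ≫ φ) := Groth.Agent.AlgSpB.repWith_etale_map_comp ι hφ
  have sq := IsPullback.of_hasPullback f.hom ((AlgSp.yon S).map ι ≫ φ)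
  obtain ⟨W, w, hw, hws, hWc⟩ :=
    hq (AlgSp.IsAlgSpace.yon_obj A) (Groth.Agent.AlgSp.isQuasiCompactSp_yon A) _ _ _ sq
  obtain ⟨h, hh⟩ := (AlgSp.yon S).map_surjective (w ≫ pullback.snd f.hom ((AlgSp.yon S).map ι ≫ φ))
  have : LocallyOfFinitePresentation h.left :=
    Groth.Agent.AlgSpCov.chart_of_locP Groth.Agent.AlgSpCov.etaleLocal_locallyOfFinitePresentation X.property Y.property
      hfp _ sq hw h hh.symm
  have : QuasiCompact h.left := (HasAffineProperty.iff_of_isAffine (P := @QuasiCompact)).2 hWc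
  let a := w ≫ pullback.fst f.hom ((AlgSp.yon S).map ι ≫ φ)
  have ha : AlgSp.RepWith @Etale a :=
    MorphismProperty.comp_mem (AlgSp.RepWith @Etale) _ _ hw (MorphismProperty.pullback_fst _ _ hA)
  have key := h.left.isLocallyConstructible_image (hE W a ha)
  have himg : h.left '' (AlgSp.Points.ofPt a ⁻¹' E) = c ⁻¹' (AlgSp.Points.ofPt φ ⁻¹' (AlgSp.Points.map f.hom '' E)) := by
    ext z
    constructor
    · rintro ⟨v, hv, rfl⟩
      refine ⟨_, hv, ?_⟩
      change AlgSp.Points.map f.hom (AlgSp.Points.ofPt a v) = AlgSp.Points.ofPt φ (ι.left (h.left v))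
      rw [AlgSp.Points.map_ofPt, Category.assoc, pullback.condition, ← Category.assoc, ← hh,
        Groth.Agent.AlgSpB.ofPt_map_comp, Groth.Agent.AlgSpB.ofPt_map_comp]
    · rintro ⟨x, hx, hxz⟩
      obtain ⟨q, hq1, hq2⟩ := Groth.Agent.AlgSpB.exists_of_isPullback sq x (AlgSp.Points.ofScheme A z)
        (by rw [hxz, ← AlgSp.Points.ofPt_eq_map_ofScheme, Groth.Agent.AlgSpB.ofPt_map_comp]; rfl)
      obtain ⟨v, rfl⟩ := Groth.Agent.AlgSpB.surjective_ofPt hws q
      refine ⟨v, ?_, ?_⟩
      · change AlgSp.Points.ofPt a v ∈ E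
        rw [← hq1, AlgSp.Points.map_ofPt] at hx
        exact hx
      · have e1 : AlgSp.Points.ofScheme A (h.left v) = AlgSp.Points.ofScheme A z := by
          rw [← hq2, AlgSp.Points.map_ofPt, ← hh]
          exact ((Groth.Agent.AlgSpB.ofPt_map_comp h (𝟙 _) v).symm.trans (by rw [Category.comp_id]))
        simpa [AlgSp.Points.toScheme_ofScheme] using congrArg (AlgSp.Points.toScheme A) e1
  rw [himg] at key
  -- transport to the open range
  let e : (c.opensRange : Set U.left) ≃ₜ U.left.affineCover.X i :=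
    c.isOpenEmbedding.isEmbedding.toHomeomorph.symm
  convert! key.preimage_of_isOpenEmbedding e.isOpenEmbedding using 1
  ext ⟨z, v, rfl⟩
  have : e ⟨c v, v, rfl⟩ = v := c.isOpenEmbedding.isEmbedding.toHomeomorph.symm_apply_apply v
  simp only [Set.mem_preimage]
  rw [this]

end Groth.Agent.S9982
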