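import Groth.Statements.S9986
import Groth.Agent.AlgSp.IdealRep
-- import your own Groth.Agent.* helpers here

set_option autoImplicit false
universe u
open CategoryTheory CategoryTheory.Limits AlgebraicGeometry
open AlgSp

set_option backward.isDefEq.respectTransparency.types false

namespace Groth.Agent.S9986

/-- For an open immersion j : U -> X of algebraic spaces, U is scheme theoretically dense in X exactly
when the comparison map from O_X to j_* O_U on the small etale site of X is a monomorphism of
sheaves of rings. -/
theorem result {S : Scheme.{u}} {U X : AlgSp.Space S} (j : U ⟶ X)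
    (hj : AlgSp.RepWith @IsOpenImmersion j.hom) :
    AlgSp.IsSchDense j.hom ↔ Mono (AlgSp.bcRingHom hj.1) := by
  have hiff : Mono (AlgSp.bcRingHom hj.1) ↔
      ∀ E : AlgSp.EtOver X.obj, Function.Injective (AlgSp.EtOver.bcπ hj.1 E).left.appTop.hom := by
    constructor
    · intro hm E a b hab
      have h1 : Mono (AlgSp.bcRingHom hj.1).hom :=
        inferInstanceAs (Mono ((sheafToPresheaf _ _).map (AlgSp.bcRingHom hj.1)))
      have h2 : Mono ((AlgSp.bcRingHom hj.1).hom.app (Opposite.op E)) := inferInstance
      have h3 := (ConcreteCategory.mono_iff_injective_of_preservesPullback _).1 h2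
      exact congrArg ULift.down (h3 (show (AlgSp.bcRingHom hj.1).hom.app (Opposite.op E) (ULift.up a) =
        (AlgSp.bcRingHom hj.1).hom.app (Opposite.op E) (ULift.up b) from congrArg ULift.up hab))
    · intro h
      have : ∀ E, Mono ((AlgSp.bcRingHom hj.1).hom.app E) := fun E =>
        ConcreteCategory.mono_of_injective _ fun a b hab =>
          ULift.ext _ _ (h E.unop (congrArg ULift.down hab))
      have : Mono ((sheafToPresheaf _ _).map (AlgSp.bcRingHom hj.1)) :=
        haveI : ∀ X_1, Mono (((sheafToPresheaf _ _).map (AlgSp.bcRingHom hj.1)).app X_1) := this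
        NatTrans.mono_of_mono_app _
      exact (sheafToPresheaf _ _).mono_of_mono_map this
  rw [hiff]
  constructor
  · intro hd E
    let snd := hj.1.snd E.obj.hom
    have sq := hj.1.isPullback E.obj.hom
    have : IsOpenImmersion snd.left := hj.2 _ _ _ sq
    have hW : (snd.left.opensRange : Set E.obj.left.left) =
        AlgSp.Points.ofPt E.obj.hom ⁻¹' Set.range (AlgSp.Points.map j.hom) :=
      Groth.Agent.AlgSpB.range_snd_eq sq
    have hdense := Groth.Agent.AlgSp.SchDense.every_chart X.property hd E.obj.hom E.property _ hW ⊤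
    rw [injective_iff_map_eq_zero]
    intro s hs
    refine hdense ?_
    rw [map_zero]
    have e := congr($(IsOpenImmersion.app_ΓIso_hom snd.left ⊤) s)
    rw [CategoryTheory.comp_apply] at e
    erw [hs, map_zero] at e
    exact Groth.Agent.AlgSp.DenseFlat.res_eq_zero_mono inf_le_right
      (show (⊤ : E.obj.left.left.Opens) ⊓ snd.left.opensRange ≤ snd.left.opensRange ⊓ ⊤ by rw [inf_comm]) s e.symm
  · intro h
    obtain ⟨U, p, hp, hps⟩ := X.property.atlas
    let snd := hj.1.snd p
    have sq := hj.1.isPullback p
    have : IsOpenImmersion snd.left := hj.2 _ _ _ sq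
    refine Groth.Agent.AlgSp.SchDense.isSchDense_of_chart hj p hp hps snd.left.opensRange
      (Groth.Agent.AlgSpB.range_snd_eq sq) (Groth.Agent.AlgSp.SchImageRep.dense_opensRange snd.left fun W => ?_)
    rw [injective_iff_map_eq_zero]
    intro x hx
    have h0 := Groth.Agent.AlgSp.IdealRep.app_bcπ_eq_zero hj.1 p hp sq W x hx
    have h1 := (injective_iff_map_eq_zero _).1 (h _) _ h0
    exact (congr($(W.1.topIso.inv_hom_id) x) : W.1.topIso.hom (W.1.topIso.inv x) = x).symm.trans
      ((congrArg W.1.topIso.hom h1).trans (map_zero _))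

end Groth.Agent.S9986
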