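import Groth.Statements.S9987
import Groth.Agent.AlgSp.IdealEtLib
-- import your own Groth.Agent.* helpers here

set_option autoImplicit false
universe u
open CategoryTheory CategoryTheory.Limits AlgebraicGeometry Opposite
open AlgSp

set_option backward.isDefEq.respectTransparency.types false

namespace Groth.Agent.S9987

/-- For a closed immersion i : Z ⟶ X of algebraic spaces over S (representable, every base change to a
scheme a closed immersion), the comparison map O_X ⟶ i_* O_Z of sheaves of rings on the small etale
site of X is locally surjective. (The published statement also asserts that i_* O_Z is a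
quasi-coherent O_X-module and that the kernel of O_X ⟶ i_* O_Z is a quasi-coherent sheaf of ideals;
those two assertions are the closed-immersion cases of the general facts that direct images along
quasi-compact quasi-separated morphisms preserve quasi-coherence and that the kernel ideal of a
quasi-compact morphism is quasi-coherent, a closed immersion being quasi-compact and separated, and
only the surjectivity is stated here.) -/
theorem result {S : Scheme.{u}} {Z X : AlgSp.Space S} (i : Z ⟶ X)
    (hi : AlgSp.RepWith @IsClosedImmersion i.hom) :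
    Presheaf.IsLocallySurjective (AlgSp.etTop X.obj) (AlgSp.bcRingHom hi.1).hom := by
  refine ⟨fun {E} t => ?_⟩
  let EA : E.obj.left.left.affineOpens → AlgSp.EtOver X.obj := fun A =>
    Groth.Agent.AlgSp.IdealEtLib.opEt E.obj.hom E.property A.1
  let g : ∀ A, EA A ⟶ E := fun A => AlgSp.EtOver.homMk
    (Over.homMk A.1.ι rfl : Groth.Agent.AlgSp.IdealEtLib.opOver E.obj.left A.1 ⟶ E.obj.left) rfl
  refine (AlgSp.etTop X.obj).superset_covering ?_ (AlgSp.ofArrows_mem_etTop EA g fun x => ?_)
  · rw [Sieve.ofArrows, Sieve.generate_le_iff]
    rintro _ _ ⟨A⟩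
    let π := (AlgSp.EtOver.bcπ hi.1 (EA A)).left
    have : IsClosedImmersion π := hi.2 _ _ _ (hi.1.isPullback (EA A).obj.hom)
    have : IsAffine (EA A).obj.left.left := A.2
    obtain ⟨s, hs⟩ := π.app_surjective ⊤ (isAffineOpen_top _)
      ((AlgSp.EtOver.bcMap hi.1 (g A)).hom.left.left.appTop.hom t.down)
    exact ⟨ULift.up s, congrArg ULift.up hs⟩
  · obtain ⟨_, ⟨A, hA, rfl⟩, hxA, -⟩ :=
      E.obj.left.left.isBasis_affineOpens.exists_subset_of_mem_open (Set.mem_univ x) isOpen_univ
    exact ⟨⟨A, hA⟩, (Scheme.Opens.range_ι A).ge hxA⟩

end Groth.Agent.S9987
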