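import Groth.Statements.S9992
import Groth.Agent.AlgSpQC.Largest
-- import your own Groth.Agent.* helpers here

set_option autoImplicit false
universe u
open CategoryTheory CategoryTheory.Limits AlgebraicGeometry Opposite
open AlgSp

set_option backward.isDefEq.respectTransparency.types false

namespace Groth.Agent.S9992

/-- For a quasi-coherent O_X-module F on the small etale site of an algebraic space X and a submodule G
of F, there is a quasi-coherent submodule G' of G through which every map from a quasi-coherent
module to G factors uniquely; G' is the largest quasi-coherent submodule of F contained in G (it is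
unique up to isomorphism over G, which is formal and not restated). -/
theorem result {S : Scheme.{u}} (X : AlgSp.Space S) (F G : AlgSp.ModEt X.obj)
    [F.IsQuasicoherent] (ι : G ⟶ F) [Mono ι] :
    ∃ (G' : AlgSp.ModEt X.obj) (κ : G' ⟶ G), Mono κ ∧ G'.IsQuasicoherent ∧
      ∀ H : AlgSp.ModEt X.obj, H.IsQuasicoherent → Function.Bijective (fun φ : H ⟶ G' => φ ≫ κ) := by
  exact AlgSpQC.exists_largest ι

end Groth.Agent.S9992
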