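import Groth.Statements.S9994
import Groth.Agent.AlgSp.HasAtMor
-- import your own Groth.Agent.* helpers here

set_option autoImplicit false
universe u
open CategoryTheory CategoryTheory.Limits AlgebraicGeometry
open AlgSp

set_option backward.isDefEq.respectTransparency.types false

namespace Groth.Agent.S9994

/-- A morphism f : X ⟶ Y of algebraic spaces has P etale locally on the source and target if and only if
it has P at every point of |X| in the neighbourhood sense (some chart diagram through the point
whose top arrow has P on an open neighbourhood of the chosen point). -/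
theorem result {S : Scheme.{u}} (P : MorphismProperty Scheme.{u})
    (hP : P = @LocallyOfFiniteType ∨ P = @LocallyOfFinitePresentation ∨ P = @Flat ∨ P = @Smooth ∨ P = @Etale ∨
      (∀ ⦃A B : Scheme.{u}⦄ (g : A ⟶ B), P g ↔ (LocallyQuasiFinite g ∧ LocallyOfFiniteType g)) ∨
      (∀ ⦃A B : Scheme.{u}⦄ (g : A ⟶ B), P g ↔ (LocallyOfFiniteType g ∧ FormallyUnramified g)))
    {X Y : AlgSp.Space S} (f : X ⟶ Y) :
    AlgSp.LocP P f.hom ↔
      ∀ x : AlgSp.Points X.obj, AlgSp.HasAtMor (fun U _ h u => ∃ W : U.Opens, u ∈ W ∧ P (W.ι ≫ h)) f.hom x := by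
  have hS := Groth.Agent.AlgSpCov.standard_of_listed hP
  refine ⟨fun h x => ?_, fun h => Groth.Agent.AlgSp.HasAtMor.locP_of_forall hS
    (fun g _ O hO hg => Groth.Agent.AlgSp.HasAtMor.of_local_source hP g O hO hg) h⟩
  refine Groth.Agent.AlgSp.HasAtMor.of_open_subspace hS (X' := X) (j := 𝟙 X) (MorphismProperty.id_mem _ _) ?_ ⟨x, ?_⟩
  · simpa using h
  · exact AlgSp.Points.map_id (S := S) (F := X.obj) x

end Groth.Agent.S9994
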