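import Groth.Statements.S9995
import Groth.Agent.AlgSp.QfPoint
import Groth.Agent.AlgSpD.DecentCrit
-- import your own Groth.Agent.* helpers here

set_option autoImplicit false
universe u
open CategoryTheory CategoryTheory.Limits AlgebraicGeometry
open AlgSp

namespace Groth.Agent.S9995
set_option backward.isDefEq.respectTransparency.types false

/-- For a morphism f : X ⟶ Y of algebraic spaces of finite type and a point y of |Y|, the set of points
of |X| over y where f is quasi-finite is finite (in the neighbourhood sense, through some chart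
diagram). -/
theorem result {S : Scheme.{u}} {X Y : AlgSp.Space S} (f : X ⟶ Y)
    (hf : AlgSp.IsFiniteTypeMor f.hom) (y : AlgSp.Points Y.obj) :
    {x : AlgSp.Points X.obj | AlgSp.Points.map f.hom x = y ∧
      AlgSp.HasAtMor (fun U _ h u => ∃ W : U.Opens, u ∈ W ∧ LocallyQuasiFinite (W.ι ≫ h) ∧
        LocallyOfFiniteType (W.ι ≫ h)) f.hom x}.Finite := by
  obtain ⟨V, b, v, hV, hb, hv⟩ := Groth.Agent.AlgSpD.exists_affine_chart Y y
  have sq := IsPullback.of_hasPullback f.hom b
  obtain ⟨U, a, h, -, ha, has, hah, hlft, hqc⟩ :=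
    Groth.Agent.AlgSp.exists_affine_chart_over X.property Y.property hf b sq
  have haX : AlgSp.RepWith @Etale (a ≫ pullback.fst f.hom b) :=
    (AlgSp.RepWith _).comp_mem _ _ ha (MorphismProperty.pullback_fst _ _ hb)
  have w : (a ≫ pullback.fst f.hom b) ≫ f.hom = (AlgSp.yon S).map h ≫ b := by
    rw [Category.assoc, sq.w, ← Category.assoc, hah]
  refine ((Groth.Agent.AlgSp.finite_qfAt_preimage h.left v).image (AlgSp.Points.ofPt (a ≫ pullback.fst f.hom b))).subset ?_
  rintro x ⟨hx, hq⟩
  obtain ⟨p, hp1, hp2⟩ := Groth.Agent.AlgSpB.exists_of_isPullback sq x (AlgSp.Points.ofScheme V v)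
    (by rw [hx, ← hv, AlgSp.Points.ofPt_eq_map_ofScheme])
  obtain ⟨u, rfl⟩ := Groth.Agent.AlgSpB.surjective_ofPt has p
  rw [AlgSp.Points.map_ofPt] at hp1 hp2
  rw [hah, AlgSp.Points.ofPt_eq_map_ofScheme] at hp2
  subst hp1
  refine ⟨u, ⟨?_, Groth.Agent.AlgSp.quasiFiniteAt_of_qfAt X.property Y.property haX hb w hq⟩, rfl⟩
  exact (AlgSp.Points.schemeHomeo V).injective ((AlgSp.Points.map_yon_map_apply h u).symm.trans hp2)

end Groth.Agent.S9995
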