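import Groth.Statements.S9996
import Groth.Agent.S10700
import Groth.Agent.SubUnion.Basic
import Groth.Agent.AlgSp.IdealEtLib
import Groth.Agent.AlgSp.ElemDist
-- import your own Groth.Agent.* helpers here

set_option autoImplicit false
set_option backward.isDefEq.respectTransparency false
set_option backward.isDefEq.respectTransparency.types false
universe u
open CategoryTheory CategoryTheory.Limits AlgebraicGeometry Opposite
open AlgSp

namespace Groth.Agent.S9996

open Groth.Agent.AlgSp.IdealEtLib Groth.Agent.AlgSp.CartierDesc in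
/-- Closed subspaces on a chart. -/
theorem exists_chart_sq {S : Scheme.{u}} {X : AlgSp.Sp S} {I : AlgSp.IdealEt X} (hI : I.IsQCoh) {Y : AlgSp.Sp S}
    {i : Y ⟶ X} (h : AlgSp.IsCutOutBy I i) {U : Over S} (φ : (AlgSp.yon S).obj U ⟶ X) (hφ : AlgSp.RepWith @Etale φ) :
    ∃ fst : (AlgSp.yon S).obj (subOver U (chartIdeal I hI φ hφ)) ⟶ Y,
      IsPullback fst ((AlgSp.yon S).map (subι U (chartIdeal I hI φ hφ))) i φ := by
  obtain ⟨J, fst, sq⟩ := exists_ideal h.choose φ
  obtain rfl := eq_chartIdeal hI h φ hφ sq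
  exact ⟨fst, sq⟩

open Groth.Agent.AlgSp.IdealEtLib Groth.Agent.AlgSp.CartierDesc in
/-- The union on a chart is a pushout in algebraic spaces. -/
theorem isPushout_chart {S : Scheme.{u}} (U : Over S) (I J : U.left.IdealSheafData) :
    IsPushout ((AlgSp.ofScheme S).map (Over.homMk (Scheme.IdealSheafData.inclusion (le_sup_left : I ≤ I ⊔ J))
        (by change _ ≫ I.subschemeι ≫ U.hom = (I ⊔ J).subschemeι ≫ U.hom; rw [Scheme.IdealSheafData.inclusion_subschemeι_assoc]) :
        subOver U (I ⊔ J) ⟶ subOver U I))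
      ((AlgSp.ofScheme S).map (Over.homMk (Scheme.IdealSheafData.inclusion (le_sup_right : J ≤ I ⊔ J))
        (by change _ ≫ J.subschemeι ≫ U.hom = (I ⊔ J).subschemeι ≫ U.hom; rw [Scheme.IdealSheafData.inclusion_subschemeι_assoc]) :
        subOver U (I ⊔ J) ⟶ subOver U J))
      ((AlgSp.ofScheme S).map (Over.homMk (Scheme.IdealSheafData.inclusion (inf_le_left : I ⊓ J ≤ I))
        (by change _ ≫ (I ⊓ J).subschemeι ≫ U.hom = I.subschemeι ≫ U.hom; rw [Scheme.IdealSheafData.inclusion_subschemeι_assoc]) :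
        subOver U I ⟶ subOver U (I ⊓ J)))
      ((AlgSp.ofScheme S).map (Over.homMk (Scheme.IdealSheafData.inclusion (inf_le_right : I ⊓ J ≤ J))
        (by change _ ≫ (I ⊓ J).subschemeι ≫ U.hom = J.subschemeι ≫ U.hom; rw [Scheme.IdealSheafData.inclusion_subschemeι_assoc]) :
        subOver U J ⟶ subOver U (I ⊓ J))) := by
  refine @Groth.Agent.S10700.result S _ _ _ _ _ _ ?_ ?_ (fun y => ?_) _ _
    (IsPushout.of_map (Over.forget S) (Over.OverMorphism.ext (Groth.Agent.SubUnion.isPushout I J).w)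
      (Groth.Agent.SubUnion.isPushout I J))
  · exact inferInstanceAs (IsClosedImmersion (Scheme.IdealSheafData.inclusion (le_sup_left : I ≤ I ⊔ J)))
  · exact inferInstanceAs (IsIntegralHom (Scheme.IdealSheafData.inclusion (le_sup_right : J ≤ I ⊔ J)))
  · let iV := Scheme.IdealSheafData.inclusion (le_sup_left : I ≤ I ⊔ J)
    let jV := Scheme.IdealSheafData.inclusion (le_sup_right : J ≤ I ⊔ J)
    by_cases hy : ∃ z, jV z = y
    · obtain ⟨z, hz⟩ := hy
      obtain ⟨O, hO, hzO, -⟩ := exists_isAffineOpen_mem_and_subset (U := (⊤ : I.subscheme.Opens)) (x := iV z) trivial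
      refine ⟨O, hO, fun z' hz' => ?_⟩
      have e : z' = z := jV.isClosedEmbedding.injective ((show jV z' = y from hz').trans hz.symm)
      subst e
      exact hzO
    · exact ⟨⊥, isAffineOpen_bot _, fun z hz => (hy ⟨z, hz⟩).elim⟩

/-- For closed subspaces Y, Z of an algebraic space X with scheme theoretic union W (cut out by the
intersection of the two ideal sheaves) and scheme theoretic intersection V (cut out by their sum),
the inclusions Y ⟶ W and Z ⟶ W are closed immersions and the square V ⟶ Y, V ⟶ Z, Y ⟶ W, Z ⟶ W is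
cocartesian among algebraic spaces over S (W = Y ⨿_V Z). (The published statement also gives the
short exact sequence 0 → O_W → O_Y × O_Z → O_V → 0; that clause is not stated here.) -/
theorem result {S : Scheme.{u}} {X Y Z W V : AlgSp.Space S} (iY : Y ⟶ X) (iZ : Z ⟶ X)
    (w : W ⟶ X) (v : V ⟶ X) (I J K : AlgSp.IdealEt X.obj) (hI : I.IsQCoh) (hJ : J.IsQCoh)
    (hK : ∀ (E : AlgSp.EtOver X.obj) (hE : IsAffine E.obj.left.left), K.ideal E hE = I.ideal E hE ⊓ J.ideal E hE)
    (hY : AlgSp.IsCutOutBy I iY.hom) (hZ : AlgSp.IsCutOutBy J iZ.hom) (hW : AlgSp.IsCutOutBy K w.hom)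
    (hV : AlgSp.IsCutOutBy (I ⊔ J) v.hom) (a : Y ⟶ W) (b : Z ⟶ W) (c : V ⟶ Y) (d : V ⟶ Z)
    (ha : a ≫ w = iY) (hb : b ≫ w = iZ) (hc : c ≫ iY = v) (hd : d ≫ iZ = v) :
    AlgSp.RepWith @IsClosedImmersion a.hom ∧ AlgSp.RepWith @IsClosedImmersion b.hom ∧ IsPushout c d a b := by
  have : Mono w.hom := Groth.Agent.AlgSpB.mono_of_isClosedImmersion hW.choose
  have hKq := Groth.Agent.AlgSp.IdealEtLib.isQCoh_of_isCutOutBy hW
  have hVq := Groth.Agent.AlgSp.IdealEtLib.isQCoh_of_isCutOutBy hV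
  have hca : AlgSp.RepWith @IsClosedImmersion a.hom := by
    have sq : IsPullback (𝟙 _) a.hom iY.hom w.hom :=
      IsPullback.of_horiz_isIso_mono ⟨by rw [Category.id_comp, ← ha]; rfl⟩
    exact MorphismProperty.of_isPullback sq hY.choose
  have hcb : AlgSp.RepWith @IsClosedImmersion b.hom := by
    have sq : IsPullback (𝟙 _) b.hom iZ.hom w.hom :=
      IsPullback.of_horiz_isIso_mono ⟨by rw [Category.id_comp, ← hb]; rfl⟩
    exact MorphismProperty.of_isPullback sq hZ.choose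
  have wsq : c ≫ a = d ≫ b := ObjectProperty.hom_ext _ ((cancel_mono w.hom).1 (by
    change (c ≫ a ≫ w).hom = (d ≫ b ≫ w).hom
    rw [ha, hb, hc, hd]))
  -- chart ideals
  have hinf : ∀ (U : Over S) (φ : (AlgSp.yon S).obj U ⟶ X.obj) (hφ : AlgSp.RepWith @Etale φ),
      Groth.Agent.AlgSp.IdealEtLib.chartIdeal K hKq φ hφ =
        Groth.Agent.AlgSp.IdealEtLib.chartIdeal I hI φ hφ ⊓ Groth.Agent.AlgSp.IdealEtLib.chartIdeal J hJ φ hφ := by
    intro U φ hφ
    ext O : 2
    rw [Scheme.IdealSheafData.ideal_inf, Pi.inf_apply]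
    change Groth.Agent.AlgSp.IdealEtLib.val K φ hφ O = Groth.Agent.AlgSp.IdealEtLib.val I φ hφ O ⊓ Groth.Agent.AlgSp.IdealEtLib.val J φ hφ O
    unfold Groth.Agent.AlgSp.IdealEtLib.val
    rw [hK]
    let r := O.1.topIso.commRingCatIsoToRingEquiv
    refine le_antisymm (Ideal.map_inf_le _) fun x hx => ?_
    obtain ⟨y, hy, hyx⟩ := (Ideal.mem_map_iff_of_surjective _ r.surjective).1 hx.1
    obtain ⟨y', hy', hyx'⟩ := (Ideal.mem_map_iff_of_surjective _ r.surjective).1 hx.2
    obtain rfl : y = y' := r.injective (hyx.trans hyx'.symm)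
    rw [← hyx]
    exact Ideal.mem_map_of_mem _ ⟨hy, hy'⟩
  have hsup : ∀ (U : Over S) (φ : (AlgSp.yon S).obj U ⟶ X.obj) (hφ : AlgSp.RepWith @Etale φ),
      Groth.Agent.AlgSp.IdealEtLib.chartIdeal (I ⊔ J) hVq φ hφ =
        Groth.Agent.AlgSp.IdealEtLib.chartIdeal I hI φ hφ ⊔ Groth.Agent.AlgSp.IdealEtLib.chartIdeal J hJ φ hφ := by
    intro U φ hφ
    ext O : 2
    rw [Scheme.IdealSheafData.ideal_sup, Pi.sup_apply]
    change Groth.Agent.AlgSp.IdealEtLib.val (I ⊔ J) φ hφ O = Groth.Agent.AlgSp.IdealEtLib.val I φ hφ O ⊔ Groth.Agent.AlgSp.IdealEtLib.val J φ hφ O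
    unfold Groth.Agent.AlgSp.IdealEtLib.val
    rw [AlgSp.IdealEt.sup_ideal]
    exact Ideal.map_sup _ _ _
  -- the square on a chart
  have chart : ∀ (U : Over S) (φ : (AlgSp.yon S).obj U ⟶ X.obj), AlgSp.RepWith @Etale φ →
      ∃ (UW : Over S) (p : (AlgSp.yon S).obj UW ⟶ W.obj) (q : UW ⟶ U) (UY UZ UV : Over S)
        (pY : (AlgSp.ofScheme S).obj UY ⟶ Y) (pZ : (AlgSp.ofScheme S).obj UZ ⟶ Z) (pV : (AlgSp.ofScheme S).obj UV ⟶ V)
        (γ : (AlgSp.ofScheme S).obj UV ⟶ (AlgSp.ofScheme S).obj UY)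
        (δ : (AlgSp.ofScheme S).obj UV ⟶ (AlgSp.ofScheme S).obj UZ)
        (αU : (AlgSp.ofScheme S).obj UY ⟶ (AlgSp.ofScheme S).obj UW) (βU : (AlgSp.ofScheme S).obj UZ ⟶ (AlgSp.ofScheme S).obj UW),
        IsPullback p ((AlgSp.yon S).map q) w.hom φ ∧ IsPushout γ δ αU βU ∧
          IsPullback pY.hom αU.hom a.hom p ∧ IsPullback pZ.hom βU.hom b.hom p ∧
          γ ≫ pY = pV ≫ c ∧ δ ≫ pZ = pV ≫ d := by
    intro U φ hφ
    have hKW := exists_chart_sq hKq hW φ hφ
    rw [hinf U φ hφ] at hKW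
    have hKV := exists_chart_sq hVq hV φ hφ
    rw [hsup U φ hφ] at hKV
    obtain ⟨pw, sW⟩ := hKW
    obtain ⟨pv, sV⟩ := hKV
    obtain ⟨py, sY⟩ := exists_chart_sq hI hY φ hφ
    obtain ⟨pz, sZ⟩ := exists_chart_sq hJ hZ φ hφ
    have : Mono iY.hom := Groth.Agent.AlgSpB.mono_of_isClosedImmersion hY.choose
    have : Mono iZ.hom := Groth.Agent.AlgSpB.mono_of_isClosedImmersion hZ.choose
    have hpo := isPushout_chart U (Groth.Agent.AlgSp.IdealEtLib.chartIdeal I hI φ hφ) (Groth.Agent.AlgSp.IdealEtLib.chartIdeal J hJ φ hφ)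
    refine ⟨_, pw, _, _, _, _,
      ObjectProperty.homMk py, ObjectProperty.homMk pz, ObjectProperty.homMk pv, _, _, _, _, sW, hpo, ?_, ?_,
      ObjectProperty.hom_ext _ ?_, ObjectProperty.hom_ext _ ?_⟩
    · refine (IsPullback.of_right ?_ ?_ sW.flip).flip
      · rw [show a.hom ≫ w.hom = iY.hom from congrArg (fun x : Y ⟶ X => x.hom) ha]
        change IsPullback ((AlgSp.yon S).map _ ≫ (AlgSp.yon S).map _) _ φ iY.hom
        rw [← Functor.map_comp]
        convert sY.flip using 2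
        · exact Over.OverMorphism.ext (Scheme.IdealSheafData.inclusion_subschemeι _)
        · rfl
      · rw [← cancel_mono w.hom, Category.assoc, Category.assoc, sW.w]
        change (AlgSp.yon S).map _ ≫ _ = py ≫ (a ≫ w).hom
        rw [ha, sY.w, ← Category.assoc, ← Functor.map_comp]
        congr 2
        exact Over.OverMorphism.ext (Scheme.IdealSheafData.inclusion_subschemeι _)
    · refine (IsPullback.of_right ?_ ?_ sW.flip).flip
      · rw [show b.hom ≫ w.hom = iZ.hom from congrArg (fun x : Z ⟶ X => x.hom) hb]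
        change IsPullback ((AlgSp.yon S).map _ ≫ (AlgSp.yon S).map _) _ φ iZ.hom
        rw [← Functor.map_comp]
        convert sZ.flip using 2
        · exact Over.OverMorphism.ext (Scheme.IdealSheafData.inclusion_subschemeι _)
        · rfl
      · rw [← cancel_mono w.hom, Category.assoc, Category.assoc, sW.w]
        change (AlgSp.yon S).map _ ≫ _ = pz ≫ (b ≫ w).hom
        rw [hb, sZ.w, ← Category.assoc, ← Functor.map_comp]
        congr 2
        exact Over.OverMorphism.ext (Scheme.IdealSheafData.inclusion_subschemeι _)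
    · change (AlgSp.yon S).map _ ≫ py = pv ≫ c.hom
      rw [← cancel_mono iY.hom, Category.assoc, Category.assoc, sY.w]
      change _ = pv ≫ (c ≫ iY).hom
      rw [hc, sV.w, ← Category.assoc, ← Functor.map_comp]
      congr 2
      exact Over.OverMorphism.ext (Scheme.IdealSheafData.inclusion_subschemeι _)
    · change (AlgSp.yon S).map _ ≫ pz = pv ≫ d.hom
      rw [← cancel_mono iZ.hom, Category.assoc, Category.assoc, sZ.w]
      change _ = pv ≫ (d ≫ iZ).hom
      rw [hd, sV.w, ← Category.assoc, ← Functor.map_comp]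
      congr 2
      exact Over.OverMorphism.ext (Scheme.IdealSheafData.inclusion_subschemeι _)
  refine ⟨hca, hcb, ?_⟩
  obtain ⟨U, φ, hφ, hφs⟩ := X.property.atlas
  obtain ⟨R, r₁, r₂, sR⟩ := Groth.Agent.AlgSp.exists_isPullback_yon X.property.diag φ φ
  have : Etale r₁.left := hφ.2 _ _ _ sR.flip
  have hR : AlgSp.RepWith @Etale ((AlgSp.yon S).map r₁ ≫ φ) := Groth.Agent.AlgSpB.repWith_etale_map_comp r₁ hφ
  obtain ⟨UW, p, q, UY, UZ, UV, pY, pZ, pV, γ, δ, αU, βU, sW, hpo, hα, hβ, hγ, hδ⟩ := chart U φ hφ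
  obtain ⟨RW, pR, qR, RY, RZ, RV, pYR, pZR, pVR, γR, δR, αR, βR, sWR, hpoR, hαR, hβR, -, -⟩ := chart R _ hR
  have hp : AlgSp.RepWith @Etale p := MorphismProperty.of_isPullback sW.flip hφ
  have hps : ∀ x, ∃ (_ : PUnit.{1}) (t : UW.left), AlgSp.Points.ofPt p t = x := fun x =>
    ⟨PUnit.unit, Groth.Agent.AlgSpB.surjective_ofPt (MorphismProperty.of_isPullback sW.flip hφs) x⟩
  -- two maps out of the union are equal when they agree on the two pieces
  have huniq : ∀ {T : AlgSp.Space S} {l l' : W ⟶ T}, a ≫ l = a ≫ l' → b ≫ l = b ≫ l' → l = l' := by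
    intro T l l' h1 h2
    refine ObjectProperty.hom_ext _ (Groth.Agent.AlgSp.ElemDist.hom_ext_fam (p := fun _ : PUnit.{1} => p)
      (fun _ => hp) hps fun _ => ?_)
    have h : (ObjectProperty.homMk p : (AlgSp.ofScheme S).obj UW ⟶ W) ≫ l = ObjectProperty.homMk p ≫ l' := by
      refine hpo.hom_ext (ObjectProperty.hom_ext _ ?_) (ObjectProperty.hom_ext _ ?_)
      · change αU.hom ≫ p ≫ l.hom = αU.hom ≫ p ≫ l'.hom
        rw [reassoc_of% hα.w.symm, reassoc_of% hα.w.symm]
        exact congrArg (pY.hom ≫ ·) (congrArg (fun x : Y ⟶ T => x.hom) h1)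
      · change βU.hom ≫ p ≫ l.hom = βU.hom ≫ p ≫ l'.hom
        rw [reassoc_of% hβ.w.symm, reassoc_of% hβ.w.symm]
        exact congrArg (pZ.hom ≫ ·) (congrArg (fun x : Z ⟶ T => x.hom) h2)
    exact congrArg (fun x : (AlgSp.ofScheme S).obj UW ⟶ T => x.hom) h
  have hdesc : ∀ s : PushoutCocone c d, ∃ l : W ⟶ s.pt, a ≫ l = s.inl ∧ b ≫ l = s.inr := by
    intro s
    obtain ⟨m, hm1, hm2⟩ := hpo.exists_desc (pY ≫ s.inl) (pZ ≫ s.inr)
      (by rw [reassoc_of% hγ, reassoc_of% hδ, s.condition])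
    have keyY : ∀ {Q : AlgSp.Sp S} (r : Q ⟶ (AlgSp.yon S).obj UW) (y : Q ⟶ Y.obj), r ≫ p = y ≫ a.hom →
        r ≫ m.hom = y ≫ s.inl.hom := by
      intro Q r y hr
      obtain ⟨l, hl1, hl2⟩ := hα.exists_lift y r hr.symm
      rw [← hl2, ← hl1, Category.assoc, Category.assoc]
      exact congrArg (l ≫ ·) (congrArg (fun x : (AlgSp.ofScheme S).obj UY ⟶ s.pt => x.hom) hm1)
    have keyZ : ∀ {Q : AlgSp.Sp S} (r : Q ⟶ (AlgSp.yon S).obj UW) (y : Q ⟶ Z.obj), r ≫ p = y ≫ b.hom →
        r ≫ m.hom = y ≫ s.inr.hom := by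
      intro Q r y hr
      obtain ⟨l, hl1, hl2⟩ := hβ.exists_lift y r hr.symm
      rw [← hl2, ← hl1, Category.assoc, Category.assoc]
      exact congrArg (l ≫ ·) (congrArg (fun x : (AlgSp.ofScheme S).obj UZ ⟶ s.pt => x.hom) hm2)
    obtain ⟨e₁, he₁p, he₁q⟩ := sW.exists_lift pR ((AlgSp.yon S).map qR ≫ (AlgSp.yon S).map r₁)
      (by rw [sWR.w, Category.assoc])
    obtain ⟨e₂, he₂p, he₂q⟩ := sW.exists_lift pR ((AlgSp.yon S).map qR ≫ (AlgSp.yon S).map r₂)
      (by rw [sWR.w, Category.assoc, sR.w])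
    have hee : e₁ ≫ m.hom = e₂ ≫ m.hom := by
      refine congrArg (fun x : (AlgSp.ofScheme S).obj RW ⟶ s.pt => x.hom) (hpoR.hom_ext
        (k := ObjectProperty.homMk (e₁ ≫ m.hom)) (l := ObjectProperty.homMk (e₂ ≫ m.hom))
        (ObjectProperty.hom_ext _ ?_) (ObjectProperty.hom_ext _ ?_))
      · change αR.hom ≫ e₁ ≫ m.hom = αR.hom ≫ e₂ ≫ m.hom
        rw [← Category.assoc, keyY _ pYR.hom (by rw [Category.assoc, he₁p]; exact hαR.w.symm),
          ← Category.assoc, keyY _ pYR.hom (by rw [Category.assoc, he₂p]; exact hαR.w.symm)]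
      · change βR.hom ≫ e₁ ≫ m.hom = βR.hom ≫ e₂ ≫ m.hom
        rw [← Category.assoc, keyZ _ pZR.hom (by rw [Category.assoc, he₁p]; exact hβR.w.symm),
          ← Category.assoc, keyZ _ pZR.hom (by rw [Category.assoc, he₂p]; exact hβR.w.symm)]
    obtain ⟨l, hl⟩ := Groth.Agent.AlgSp.ElemDist.exists_desc_fam (p := fun _ : PUnit.{1} => p) (fun _ => hp) hps
      (fun _ => m.hom) fun _ _ Q x y hxy => by
        obtain ⟨t, ht1, ht2⟩ := sR.exists_lift (x ≫ (AlgSp.yon S).map q) (y ≫ (AlgSp.yon S).map q)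
          (by rw [Category.assoc, ← sW.w, Category.assoc, ← sW.w, reassoc_of% hxy])
        obtain ⟨l, hl1, hl2⟩ := sWR.exists_lift (x ≫ p) t
          (by rw [Category.assoc, sW.w, reassoc_of% ht1.symm])
        have hx : x = l ≫ e₁ := sW.hom_ext (by rw [Category.assoc, he₁p, hl1])
          (by rw [Category.assoc, he₁q, reassoc_of% hl2, ht1])
        have hy : y = l ≫ e₂ := sW.hom_ext (by rw [Category.assoc, he₂p, hl1, hxy])
          (by rw [Category.assoc, he₂q, reassoc_of% hl2, ht2])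
        rw [hx, hy, Category.assoc, Category.assoc, hee]
    refine ⟨ObjectProperty.homMk l, ObjectProperty.hom_ext _ ?_, ObjectProperty.hom_ext _ ?_⟩
    · -- check on the base change of the chart
      change a.hom ≫ l = s.inl.hom
      refine Groth.Agent.AlgSp.ElemDist.hom_ext_fam (p := fun _ : PUnit.{1} => pY.hom) (fun _ => ?_) (fun x => ?_) fun _ => ?_
      · exact MorphismProperty.of_isPullback hα.flip hp
      · exact ⟨PUnit.unit, Groth.Agent.AlgSpB.surjective_ofPt (MorphismProperty.of_isPullback hα.flip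
          (MorphismProperty.of_isPullback sW.flip hφs)) x⟩
      · rw [reassoc_of% hα.w, hl PUnit.unit]
        exact congrArg (fun x : (AlgSp.ofScheme S).obj UY ⟶ s.pt => x.hom) hm1
    · change b.hom ≫ l = s.inr.hom
      refine Groth.Agent.AlgSp.ElemDist.hom_ext_fam (p := fun _ : PUnit.{1} => pZ.hom) (fun _ => ?_) (fun x => ?_) fun _ => ?_
      · exact MorphismProperty.of_isPullback hβ.flip hp
      · exact ⟨PUnit.unit, Groth.Agent.AlgSpB.surjective_ofPt (MorphismProperty.of_isPullback hβ.flip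
          (MorphismProperty.of_isPullback sW.flip hφs)) x⟩
      · rw [reassoc_of% hβ.w, hl PUnit.unit]
        exact congrArg (fun x : (AlgSp.ofScheme S).obj UZ ⟶ s.pt => x.hom) hm2
  exact IsPushout.of_isColimit' ⟨wsq⟩ (PushoutCocone.IsColimit.mk _ (fun s => (hdesc s).choose)
    (fun s => (hdesc s).choose_spec.1) (fun s => (hdesc s).choose_spec.2)
    (fun s m h1 h2 => huniq (h1.trans (hdesc s).choose_spec.1.symm) (h2.trans (hdesc s).choose_spec.2.symm)))

end Groth.Agent.S9996
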