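import Groth.Statements.S9997
import Groth.Agent.AlgSp.IdealEtLib
import Groth.Agent.AlgSpCov.Listed
import Groth.Agent.LimLib.ClosedApprox
-- import your own Groth.Agent.* helpers here

set_option autoImplicit false
universe u
open CategoryTheory CategoryTheory.Limits AlgebraicGeometry Opposite
open AlgSp

set_option backward.isDefEq.respectTransparency.types false

namespace Groth.Agent.S9997

/-- A closed immersion i : Z ⟶ X of algebraic spaces is (locally) of finite presentation if and only if
its sheaf of ideals is of finite type; finite type is rendered chart by chart, as finite generation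
of the kernel ideal Ker(Γ(U, O_U) → Γ(Z ×_X U, O)) for every affine etale chart U of X (for a
quasi-coherent sheaf of ideals the two readings agree by descent of finite generation along etale
coverings). -/
theorem result {S : Scheme.{u}} {Z X : AlgSp.Space S} (i : Z ⟶ X)
    (hi : AlgSp.RepWith @IsClosedImmersion i.hom) :
    AlgSp.LocP @LocallyOfFinitePresentation i.hom ↔
      ∀ (E : AlgSp.EtOver X.obj) (hE : IsAffine E.obj.left.left), ((AlgSp.idealOfRep hi.1).ideal E hE).FG := by
  constructor
  · intro h E hE
    have h2 := Groth.Agent.AlgSpCov.repWith_of_locP Groth.Agent.AlgSpCov.etaleLocal_locallyOfFinitePresentation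
      Z.property X.property hi.1 h
    obtain ⟨J, fst, sq⟩ := Groth.Agent.AlgSp.CartierDesc.exists_ideal hi E.obj.hom
    have : LocallyOfFinitePresentation J.subschemeι := h2.2 _ _ _ sq
    rw [← Groth.Agent.AlgSp.IdealEtLib.ideal_top_eq hi E hE sq]
    exact (Groth.Agent.LimLib.lfp_subschemeι_iff J).1 this _
  · intro h
    obtain ⟨U, p, hp, hps⟩ := X.property.atlas
    obtain ⟨J, fst, sq⟩ := Groth.Agent.AlgSp.CartierDesc.exists_ideal hi p
    have hI := Groth.Agent.AlgSp.IdealEtLib.isQCoh_idealOfRep hi
    have hJ := Groth.Agent.AlgSp.IdealEtLib.eq_chartIdeal hI ⟨hi, rfl⟩ p hp sq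
    have : LocallyOfFinitePresentation J.subschemeι := by
      rw [hJ]
      exact (Groth.Agent.LimLib.lfp_subschemeι_iff _).2 fun W => (h (Groth.Agent.AlgSp.IdealEtLib.opEt p hp W.1) W.2).map _
    exact Groth.Agent.AlgSpCov.locP_of_one_chart Groth.Agent.AlgSpCov.etaleLocal_locallyOfFinitePresentation
      (fun _ _ e _ => inferInstance) X.property (MorphismProperty.of_isPullback sq.flip hp)
      (MorphismProperty.of_isPullback sq.flip hps) hp sq.w this

end Groth.Agent.S9997
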